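import Cfsg.Agent.Helper17.ONTC.Facts31

set_option autoImplicit false
set_option linter.all false

noncomputable section

namespace Cfsg.Agent.Helper17.ONTC

def n161333 : Q := act 5 n77449
theorem D161333 : act 5 n77449 = n161333 := rfl
theorem F255153 : act 3 n161333 = n77450 := d6_1 D161333 (iv5 D77450) D77449
def n161337 : Q := act 0 n77451
theorem D161337 : act 0 n77451 = n161337 := rfl
theorem F255155 : act 5 n161337 = n77480 := d17_1 D161337 (iv1 F116313) F56173 F28160 (iv5 F28165) F56095 (iv5 F116252) (iv0 D77452) (iv4 F116251)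
theorem F255157 : act 6 n161337 = n122031 := d21_5 (iv5 F254680) (iv1 F254681) (iv5 D77450) D77451 D161337 F194870 (iv1 D86834) (iv5 D40263) D40264 (iv1 F129175)
def n161338 : Q := act 7 n77451
theorem D161338 : act 7 n77451 = n161338 := rfl
theorem F255162 : act 4 n161338 = n77453 := d11_1 D161338 (iv7 D77453) (iv4 F116251)
theorem F255163 : act 1 n77766 = n161338 := d15_1 (iv0 F123170) (iv7 D161338) (iv2 F123167)
theorem F255164 : act 1 n161338 = n77761 := d15_1 F255163 F117139 F117135
theorem F255165 : act 0 n80645 = n79137 := d20_1 (iv4 F124021) F120416 (iv3 F134064) F249990 (iv3 D158781) F129168 (iv1 F255164) F255162 (iv3 F124038) (iv1 D80649)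
def n161339 : Q := act 6 n77455
theorem D161339 : act 6 n77455 = n161339 := rfl
def n161345 : Q := act 6 n77459
theorem D161345 : act 6 n77459 = n161345 := rfl
theorem F255169 : act 2 n161345 = n154169 := d3_1 D161345 (iv6 D154169) F116271
theorem F255170 : act 3 n161345 = n77461 := d7_1 D161345 (iv6 D77461) D77459
theorem F255171 : act 4 n161345 = n123647 := d10_1 D161345 (iv6 D123647) (iv4 F116269)
def n161346 : Q := act 6 n77460
theorem D161346 : act 6 n77460 = n161346 := rfl
theorem F255172 : act 4 n161346 = n160268 := d10_1 D161346 (iv6 D160268) (iv4 F116281)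
def n161347 : Q := act 0 n77461
theorem D161347 : act 0 n77461 = n161347 := rfl
def n161348 : Q := act 1 n77461
theorem D161348 : act 1 n77461 = n161348 := rfl
def n161349 : Q := act 5 n77461
theorem D161349 : act 5 n77461 = n161349 := rfl
def n161350 : Q := act 7 n77461
theorem D161350 : act 7 n77461 = n161350 := rfl
def n161351 : Q := act 0 n77462
theorem D161351 : act 0 n77462 = n161351 := rfl
def n161352 : Q := act 1 n77462
theorem D161352 : act 1 n77462 = n161352 := rfl
def n161353 : Q := act 5 n77462
theorem D161353 : act 5 n77462 = n161353 := rfl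
theorem F255173 : act 3 n161353 = n77469 := d6_1 D161353 (iv5 D77469) (iv3 F116284)
theorem F255174 : act 6 n161353 = n77465 := d12_2 D77462 D161353 (iv5 D77465) (iv6 D35373) D35372
def n161354 : Q := act 7 n77462
theorem D161354 : act 7 n77462 = n161354 := rfl
theorem F255175 : act 3 n161354 = n77470 := d8_1 D161354 (iv7 D77470) (iv3 F116284)
def n161355 : Q := act 2 n77463
theorem D161355 : act 2 n77463 = n161355 := rfl
theorem F255176 : act 7 n77464 = n161355 := d15_2 (iv0 D77463) D77464 (iv2 D161355)
def n161356 : Q := act 3 n77463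
theorem D161356 : act 3 n77463 = n161356 := rfl
def n161357 : Q := act 4 n77463
theorem D161357 : act 4 n77463 = n161357 := rfl
def n161358 : Q := act 5 n77463
theorem D161358 : act 5 n77463 = n161358 := rfl
def n161359 : Q := act 6 n77463
theorem D161359 : act 6 n77463 = n161359 := rfl
def n161360 : Q := act 7 n77463
theorem D161360 : act 7 n77463 = n161360 := rfl
theorem F255177 : act 2 n161360 = n77464 := d4_1 D161360 F255176 (iv2 D161355)
def n161361 : Q := act 3 n77464
theorem D161361 : act 3 n77464 = n161361 := rfl
theorem F255178 : act 4 n161361 = n123651 := d20_6 (iv4 D33841) (iv1 F53179) (iv4 F110274) (iv3 F243838) (iv1 F243840) D161361 (iv1 D123651) (iv4 F128587) F128586 F190064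
def n161365 : Q := act 0 n77465
theorem D161365 : act 0 n77465 = n161365 := rfl
def n161366 : Q := act 1 n77465
theorem D161366 : act 1 n77465 = n161366 := rfl
def n161367 : Q := act 4 n77465
theorem D161367 : act 4 n77465 = n161367 := rfl
def n161368 : Q := act 7 n77465
theorem D161368 : act 7 n77465 = n161368 := rfl
theorem F255179 : act 3 n161368 = n77483 := d8_1 D161368 (iv7 D77483) (iv3 F116285)
def n161369 : Q := act 2 n77467
theorem D161369 : act 2 n77467 = n161369 := rfl
theorem F255181 : act 7 n77468 = n161369 := d15_2 (iv0 D77467) D77468 (iv2 D161369)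
def n161373 : Q := act 6 n77467
theorem D161373 : act 6 n77467 = n161373 := rfl
theorem F255182 : act 5 n161373 = n122010 := d21_6 (iv5 D27042) (iv1 F21548) D17163 D35374 D77467 D161373 (iv1 D122010) (iv5 D56441) (iv6 D27167) (iv1 F43705)
def n161375 : Q := act 3 n77468
theorem D161375 : act 3 n77468 = n161375 := rfl
def n161376 : Q := act 4 n77468
theorem D161376 : act 4 n77468 = n161376 := rfl
def n161377 : Q := act 5 n77468
theorem D161377 : act 5 n77468 = n161377 := rfl
def n161378 : Q := act 6 n77468
theorem D161378 : act 6 n77468 = n161378 := rfl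
def n161379 : Q := act 0 n77469
theorem D161379 : act 0 n77469 = n161379 := rfl
def n161380 : Q := act 1 n77469
theorem D161380 : act 1 n77469 = n161380 := rfl
def n161381 : Q := act 4 n77469
theorem D161381 : act 4 n77469 = n161381 := rfl
theorem F255187 : act 6 n161381 = n77482 := d10_2 (iv6 F116289) D161381 (iv4 D77482)
def n161382 : Q := act 7 n77469
theorem D161382 : act 7 n77469 = n161382 := rfl
theorem F255189 : act 5 n161382 = n77470 := d13_1 D161382 (iv7 D77470) D77469
def n161383 : Q := act 0 n77472
theorem D161383 : act 0 n77472 = n161383 := rfl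
theorem F255193 : act 1 n77746 = n161383 := d15_0 (iv0 D161383) F116894 D77746
def n161384 : Q := act 1 n77472
theorem D161384 : act 1 n77472 = n161384 := rfl
def n161385 : Q := act 2 n77472
theorem D161385 : act 2 n77472 = n161385 := rfl
theorem F255194 : act 3 n161385 = n77725 := d0_2 D77472 D161385 (iv2 D77725) (iv3 D35475) F116891
theorem F255195 : act 4 n161385 = n84471 := d1_2 (iv4 F116297) D161385 (iv2 D84471)
theorem F255196 : act 7 n161385 = n77746 := d4_2 (iv7 F116894) D161385 (iv2 D77746)
theorem F255197 : act 1 n161385 = n77744 := d15_0 (iv0 D77744) (iv7 F116894) D161385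
theorem F255198 : act 1 n161384 = n77746 := d15_1 D161384 (iv7 F255196) (iv2 D161385)
theorem F255199 : act 1 n77745 = n161385 := d15_1 D77745 F255196 (iv2 D77746)
def n161386 : Q := act 5 n77472
theorem D161386 : act 5 n77472 = n161386 := rfl
theorem F255200 : act 3 n161386 = n77473 := d6_1 D161386 (iv5 D77473) D77472
theorem F255201 : act 7 n161386 = n77748 := d13_2 (iv7 F116894) D161386 (iv5 D77748)
def n161387 : Q := act 6 n77472
theorem D161387 : act 6 n77472 = n161387 := rfl
theorem F255202 : act 3 n161387 = n77474 := d7_1 D161387 (iv6 D77474) D77472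
theorem F255203 : act 4 n161387 = n84473 := d10_1 D161387 (iv6 D84473) (iv4 F116297)
theorem F255204 : act 5 n80338 = n161387 := d6_0 F255202 F116299 D80338
def n161388 : Q := act 0 n77473
theorem D161388 : act 0 n77473 = n161388 := rfl
theorem F255205 : act 5 n161388 = n80193 := d17_3 D35375 D77473 D161388 F123168 F91226 (iv0 F91387) (iv5 D35382) (iv0 D17165) (iv4 F28111)
theorem F255207 : act 2 n77736 = n161388 := d2_3 F255205 F123167 (iv5 F116608)
def n161389 : Q := act 1 n77473
theorem D161389 : act 1 n77473 = n161389 := rfl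
theorem F255210 : act 7 n161389 = n77736 := d15_2 (iv0 D161388) D161389 F255207
theorem F255211 : act 5 n161389 = n161338 := d17_7 (iv1 F149289) F149292 (iv1 D84465) (iv5 D38951) F56083 D77473 D161389 F255164 (iv4 F129168)
def n161392 : Q := act 0 n77476
theorem D161392 : act 0 n77476 = n161392 := rfl
theorem F255217 : act 1 n77725 = n161392 := d15_0 (iv0 D161392) F116901 D77725
def n161393 : Q := act 1 n77476
theorem D161393 : act 1 n77476 = n161393 := rfl
def n161394 : Q := act 2 n77476
theorem D161394 : act 2 n77476 = n161394 := rfl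
theorem F255218 : act 3 n161394 = n77746 := d0_2 D77476 D161394 (iv2 D77746) (iv3 D35480) (iv2 F116899)
theorem F255219 : act 7 n161394 = n77725 := d4_2 (iv7 F116901) D161394 (iv2 D77725)
theorem F255220 : act 1 n161394 = n77723 := d15_0 (iv0 D77723) (iv7 F116901) D161394
theorem F255221 : act 1 n161393 = n77725 := d15_1 D161393 (iv7 F255219) (iv2 D161394)
theorem F255222 : act 1 n77724 = n161394 := d15_1 D77724 F255219 (iv2 D77725)
def n161395 : Q := act 5 n77476
theorem D161395 : act 5 n77476 = n161395 := rfl
theorem F255223 : act 3 n161395 = n77478 := d6_1 D161395 (iv5 D77478) D77476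
def n161397 : Q := act 4 n77478
theorem D161397 : act 4 n77478 = n161397 := rfl
theorem F255226 : act 2 n161397 = n77752 := d1_1 D161397 (iv4 D77752) (iv2 F116903)
theorem F255227 : act 7 n161397 = n77738 := d11_2 F116902 D161397 (iv4 D77738)
def n161399 : Q := act 5 n77479
theorem D161399 : act 5 n77479 = n161399 := rfl
theorem F255229 : act 2 n161399 = n77756 := d2_1 D161399 (iv5 D77756) F116905
theorem F255231 : act 0 n80234 = n161399 := d21_1 D80234 (iv5 D161399) (iv6 D77479) (iv1 D35376) (iv6 D17164) D17163 (iv1 F28719) (iv5 D17644) D17645 (iv1 F117081)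
theorem F255232 : act 7 n160927 = n161399 := d15_2 (iv0 F117131) F254122 F255229
def n161400 : Q := act 7 n77479
theorem D161400 : act 7 n77479 = n161400 := rfl
theorem F255234 : act 4 n161400 = n84139 := d11_1 D161400 (iv7 F197465) F197464
theorem F255235 : act 5 n161400 = n160927 := d13_1 D161400 F255232 (iv5 D161399)
def n161401 : Q := act 3 n77480
theorem D161401 : act 3 n77480 = n161401 := rfl
theorem F255239 : act 7 n161401 = n77764 := d8_2 (iv7 F117141) D161401 (iv3 D77764)
def n161402 : Q := act 4 n77480
theorem D161402 : act 4 n77480 = n161402 := rfl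
theorem F255241 : act 7 n161402 = n77765 := d11_2 (iv7 F117141) D161402 (iv4 D77765)
def n161403 : Q := act 6 n77480
theorem D161403 : act 6 n77480 = n161403 := rfl
theorem F255242 : act 2 n161403 = n77762 := d3_1 D161403 (iv6 D77762) (iv2 F117140)
def n161404 : Q := act 3 n77481
theorem D161404 : act 3 n77481 = n161404 := rfl
theorem F255243 : act 5 n161404 = n122017 := d6_2 F116309 D161404 F194854
theorem F255244 : act 7 n161404 = n77759 := d8_2 (iv7 F117138) D161404 (iv3 D77759)
def n161405 : Q := act 4 n77481
theorem D161405 : act 4 n77481 = n161405 := rfl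
theorem F255246 : act 7 n161405 = n77760 := d11_2 (iv7 F117138) D161405 (iv4 D77760)
def n161411 : Q := act 7 n77482
theorem D161411 : act 7 n77482 = n161411 := rfl
theorem F255254 : act 2 n161411 = n77772 := d4_1 D161411 (iv7 D77772) (iv2 F116310)
theorem F255255 : act 4 n161411 = n77483 := d11_1 D161411 (iv7 D77483) D77482
theorem F255259 : act 1 n161411 = n77768 := d15_0 (iv0 D77768) D77772 (iv2 F255254)
def n161413 : Q := act 0 n77488
theorem D161413 : act 0 n77488 = n161413 := rfl
theorem F255261 : act 5 n161413 = n122614 := d17_3 (iv1 F121216) D77488 D161413 F196429 (iv5 F191587) (iv0 D84551) (iv5 D39015) F121198 (iv4 F55791)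
theorem F255262 : act 4 n161413 = n84559 := d18_1 D161413 (iv1 F197100) (iv4 D123010) (iv5 D57230) D57229 F121196 (iv4 F87588) (iv0 F121215) D77488
theorem F255263 : act 2 n77835 = n161413 := d15_3 (iv0 D161413) F193035 F193032
theorem F255264 : act 1 n77828 = n161413 := d15_0 (iv0 D161413) F116330 (iv2 F117647)
theorem F255265 : act 7 n161413 = n77834 := d15_2 (iv0 F193034) F255264 (iv2 F193031)
theorem F255266 : act 6 n80203 = n161413 := d21_9 (iv5 D77828) F121217 D76803 F115292 F55795 (iv6 F57384) (iv5 D36537) D36535 D80203 (iv1 F255264)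
def n161414 : Q := act 4 n77488
theorem D161414 : act 4 n77488 = n161414 := rfl
theorem F255267 : act 6 n161414 = n124186 := d10_2 F123548 D161414 F198657
theorem F255268 : act 7 n161414 = n77836 := d11_2 (iv7 F116330) D161414 (iv4 D77836)
def n161416 : Q := act 0 n77491
theorem D161416 : act 0 n77491 = n161416 := rfl
theorem F255275 : act 2 n77843 = n161416 := d15_3 (iv0 D161416) (iv0 F191367) (iv7 F198060)
theorem F255276 : act 1 n77844 = n161416 := d15_0 (iv0 D161416) F116335 D77844
theorem F255277 : act 7 n161416 = n77609 := d4_2 (iv7 F198060) F255275 (iv2 F128585)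
def n161417 : Q := act 2 n77491
theorem D161417 : act 2 n77491 = n161417 := rfl
theorem F255279 : act 3 n161417 = n77804 := d0_2 D77491 D161417 (iv2 D77804) (iv3 D35503) (iv2 F91338)
theorem F255280 : act 4 n161417 = n123270 := d1_2 (iv4 F121528) D161417 (iv2 D123270)
theorem F255282 : act 1 n161417 = n77609 := d15_0 F198061 (iv7 F116335) D161417
theorem F255283 : act 1 n77843 = n161417 := d15_0 F255282 (iv7 F255277) (iv2 F255275)
def n161418 : Q := act 5 n77491
theorem D161418 : act 5 n77491 = n161418 := rfl
theorem F255284 : act 3 n161418 = n77492 := d6_1 D161418 (iv5 D77492) D77491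
theorem F255285 : act 7 n161418 = n77845 := d13_2 (iv7 F116335) D161418 (iv5 D77845)
def n161419 : Q := act 0 n77492
theorem D161419 : act 0 n77492 = n161419 := rfl
theorem F255286 : act 5 n161419 = n80183 := d17_3 F117747 D77492 D161419 F123143 D158767 (iv0 F249957) (iv5 D77733) (iv0 F118583) (iv4 F58947)
def n161422 : Q := act 6 n77492
theorem D161422 : act 6 n77492 = n161422 := rfl
def n161424 : Q := act 0 n77494
theorem D161424 : act 0 n77494 = n161424 := rfl
theorem F255301 : act 4 n161424 = n158767 := d18_3 (iv1 D77493) D77494 D161424 (iv5 D158767) (iv4 F123143) F249972 (iv4 D77882) F116259 F116340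
theorem F255303 : act 2 n77816 = n161424 := d1_3 F255301 F249952 (iv4 F117867)
def n161425 : Q := act 1 n77494
theorem D161425 : act 1 n77494 = n161425 := rfl
theorem F255306 : act 7 n161425 = n77816 := d15_2 (iv0 D161424) D161425 F255303
theorem F255307 : act 4 n161425 = n124465 := d18_7 F118584 (iv4 F58947) F117747 (iv4 D35381) D35382 D77494 D161425 F199074 (iv5 D77750)
theorem F255309 : act 6 n77958 = n161425 := d10_0 F255307 F199066 (iv4 F194019)
def n161426 : Q := act 3 n77494
theorem D161426 : act 3 n77494 = n161426 := rfl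
theorem F255310 : act 7 n161426 = n77853 := d8_2 (iv7 F116344) D161426 (iv3 D77853)
def n161428 : Q := act 1 n77498
theorem D161428 : act 1 n77498 = n161428 := rfl
theorem F255315 : act 5 n161428 = n80164 := d17_7 (iv1 F126473) (iv5 F198898) (iv1 F198899) (iv5 D57981) (iv4 F56087) D77498 D161428 F132469 F126466
def n161429 : Q := act 4 n77498
theorem D161429 : act 4 n77498 = n161429 := rfl
theorem F255319 : act 2 n161429 = n159183 := d1_1 D161429 F250663 F135903
theorem F255320 : act 7 n161429 = n77789 := d11_2 (iv7 F116355) D161429 (iv4 D77789)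
theorem F255322 : act 1 n161429 = n124405 := d18_6 (iv1 F44588) (iv4 F91695) (iv1 F91697) (iv4 F56087) D77498 D161429 (iv4 D124405) (iv0 D58005) (iv5 D27668)
theorem F255323 : act 5 n124456 = n161429 := d17_7 F91765 (iv5 D27673) (iv1 D13210) D13211 D27677 D58039 D124456 F255322 (iv4 D124405)
def n161430 : Q := act 5 n77499
theorem D161430 : act 5 n77499 = n161430 := rfl
theorem F255324 : act 2 n161430 = n161119 := d2_1 D161430 F254699 F135908
theorem F255326 : act 7 n161430 = n160931 := d13_2 F123462 D161430 F254129
theorem F255327 : act 1 n161430 = n98155 := d17_6 (iv1 F117327) D81986 F198913 (iv5 D124376) (iv4 F116357) D161430 (iv5 D98155) (iv0 D45849) F34427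
theorem F255328 : act 4 n161430 = n159228 := d18_5 F117164 (iv4 F195548) (iv1 F198809) (iv4 F116357) D161430 F250724 (iv4 D81987) F117331 F114138
theorem F255329 : act 2 n159228 = n160474 := d1_1 F255328 (iv4 F254700) (iv2 F255324)
theorem F255330 : act 7 n159228 = n84797 := d11_2 (iv7 F255326) F255328 F254134
theorem F255331 : act 2 n84797 = n159227 := d15_3 (iv0 D159227) D159228 F255330
theorem F255332 : act 7 n160474 = n159227 := d4_2 (iv7 F255330) F255329 (iv2 F255331)
theorem F255333 : act 6 n159227 = n84657 := d3_2 D84797 F255331 (iv2 F129873)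
theorem F255334 : act 1 n80481 = n161430 := d15_0 F255327 F151400 (iv2 F123706)
def n161431 : Q := act 0 n77500
theorem D161431 : act 0 n77500 = n161431 := rfl
theorem F255335 : act 1 n77804 = n161431 := d15_0 (iv0 D161431) F116359 D77804
def n161432 : Q := act 1 n77500
theorem D161432 : act 1 n77500 = n161432 := rfl
def n161433 : Q := act 2 n77500
theorem D161433 : act 2 n77500 = n161433 := rfl
theorem F255336 : act 3 n161433 = n77844 := d0_2 D77500 D161433 (iv2 D77844) (iv3 D35522) (iv2 F91350)
theorem F255337 : act 4 n161433 = n124370 := d1_2 (iv4 F116358) D161433 (iv2 D124370)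
theorem F255338 : act 7 n161433 = n77804 := d4_2 (iv7 F116359) D161433 (iv2 D77804)
theorem F255339 : act 1 n161433 = n77802 := d15_0 (iv0 D77802) (iv7 F116359) D161433
theorem F255340 : act 1 n161432 = n77804 := d15_1 D161432 (iv7 F255338) (iv2 D161433)
theorem F255341 : act 1 n77803 = n161433 := d15_1 D77803 F255338 (iv2 D77804)
def n161434 : Q := act 5 n77500
theorem D161434 : act 5 n77500 = n161434 := rfl
theorem F255343 : act 7 n161434 = n77805 := d13_2 (iv7 F116359) D161434 (iv5 D77805)
def n161441 : Q := act 4 n77504
theorem D161441 : act 4 n77504 = n161441 := rfl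
theorem F255357 : act 7 n161441 = n160932 := d11_2 (iv7 F116367) D161441 (iv4 D160932)
theorem F255358 : act 0 n161441 = n158833 := d18_2 F116368 D161441 (iv4 D158833) (iv5 D75783) (iv4 F91499) F57408 F56044 F28706 D36552
theorem F255359 : act 1 n121551 = n158833 := d15_0 (iv0 F255358) F255357 F254137
def n161442 : Q := act 3 n77506
theorem D161442 : act 3 n77506 = n161442 := rfl
theorem F255360 : act 4 n161442 = n123330 := d5_2 D77506 D161442 (iv3 D123330) F121022 (iv3 D77505)
def n161444 : Q := act 6 n77507
theorem D161444 : act 6 n77507 = n161444 := rfl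
theorem F255365 : act 3 n161444 = n77509 := d7_1 D161444 (iv6 D77509) D77507
theorem F255366 : act 4 n161444 = n124449 := d10_1 D161444 (iv6 D124449) (iv4 F116378)
def n161447 : Q := act 6 n77508
theorem D161447 : act 6 n77508 = n161447 := rfl
theorem F255373 : act 2 n161447 = n77881 := d3_1 D161447 (iv6 D77881) (iv2 F116379)
theorem F255375 : act 7 n161447 = n121524 := d14_2 (iv7 F116380) D161447 (iv6 D121524) F119086 (iv6 D77870)
def n161448 : Q := act 3 n77510
theorem D161448 : act 3 n77510 = n161448 := rfl
theorem F255376 : act 4 n161448 = n84516 := d5_2 F116391 D161448 (iv3 D84516) (iv4 D38986) D38985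
def n161449 : Q := act 5 n77510
theorem D161449 : act 5 n77510 = n161449 := rfl
def n161455 : Q := act 2 n77512
theorem D161455 : act 2 n77512 = n161455 := rfl
theorem F255384 : act 3 n161455 = n77898 := d0_2 D77512 D161455 (iv2 D77898) (iv3 D35543) (iv2 F56091)
theorem F255385 : act 6 n161455 = n77525 := d3_2 (iv6 F116385) D161455 (iv2 D77525)
def n161463 : Q := act 1 n77515
theorem D161463 : act 1 n77515 = n161463 := rfl
theorem F255402 : act 7 n161463 = n77916 := d15_2 (iv0 F198676) D161463 (iv2 F198674)
theorem F255403 : act 2 n77917 = n161463 := d4_3 F255402 (iv2 F198674) (iv7 F198686)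
def n161464 : Q := act 7 n77515
theorem D161464 : act 7 n77515 = n161464 := rfl
theorem F255407 : act 4 n161464 = n79678 := d11_1 D161464 (iv7 D79678) (iv4 F116395)
theorem F255408 : act 5 n161464 = n82175 := d13_1 D161464 (iv7 D82175) (iv5 F116396)
theorem F255409 : act 6 n161464 = n77950 := d14_1 D161464 (iv7 D77950) (iv6 D35564) (iv7 F56100) D77515
theorem F255410 : act 1 n77917 = n161464 := d15_1 D77917 (iv7 D161464) F116393
theorem F255411 : act 1 n161464 = n77916 := d15_1 F255410 (iv7 F255402) (iv2 F255403)
def n161465 : Q := act 0 n77516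
theorem D161465 : act 0 n77516 = n161465 := rfl
theorem F255413 : act 2 n77948 = n161465 := d15_3 (iv0 D161465) (iv0 F196475) F193393
theorem F255414 : act 3 n161465 = n157771 := d0_2 F119166 F255413 (iv2 F248663) (iv3 D121279) (iv2 F115483)
theorem F255415 : act 4 n161465 = n120963 := d1_2 F122346 F255413 (iv2 F193397)
theorem F255416 : act 7 n161465 = n77949 := d4_2 F193393 F255413 F198926
theorem F255417 : act 1 n77950 = n161465 := d15_1 F196482 F255416 F198926
theorem F255418 : act 0 n121154 = n158016 := d20_7 F255415 (iv1 F192920) F122347 (iv3 F122340) F193219 (iv3 D121153) D121154 F248946 (iv3 F116398) D161465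
theorem F255419 : act 4 n121153 = n157781 := d20_0 (iv1 D157781) F112722 (iv3 F112719) D157771 (iv3 F255414) F255415 (iv1 F192920) F122347 (iv3 F122340) F193219
theorem F255420 : act 1 n121151 = n158016 := d15_0 (iv0 F255418) (iv7 F253977) F253975
def n161466 : Q := act 7 n77516
theorem D161466 : act 7 n77516 = n161466 := rfl
theorem F255422 : act 3 n161466 = n158018 := d8_1 D161466 (iv7 D158018) (iv3 F116398)
theorem F255423 : act 4 n161466 = n79667 := d11_1 D161466 (iv7 D79667) (iv4 F116399)
theorem F255426 : act 1 n77949 = n161466 := d15_1 D77949 (iv7 D161466) F116397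
theorem F255427 : act 1 n161466 = n77948 := d15_1 F255426 (iv7 F193393) (iv2 F198926)
theorem F255428 : act 0 n77942 = n160374 := d20_7 F255423 (iv1 F192934) (iv4 D120969) F91294 (iv1 D35569) (iv3 F56240) (iv4 F119158) F253321 F119166 (iv1 F255427)
def n161469 : Q := act 2 n77517
theorem D161469 : act 2 n77517 = n161469 := rfl
theorem F255431 : act 4 n161469 = n157749 := d1_2 (iv4 F116401) D161469 (iv2 D157749)
theorem F255432 : act 7 n161469 = n77995 := d4_2 (iv7 F116402) D161469 (iv2 D77995)
theorem F255435 : act 1 n77994 = n161469 := d15_1 D77994 F255432 (iv2 D77995)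
def n161470 : Q := act 5 n77517
theorem D161470 : act 5 n77517 = n161470 := rfl
theorem F255436 : act 3 n161470 = n77518 := d6_1 D161470 (iv5 D77518) D77517
def n161489 : Q := act 4 n77524
theorem D161489 : act 4 n77524 = n161489 := rfl
def n161500 : Q := act 4 n77531
theorem D161500 : act 4 n77531 = n161500 := rfl
def n161501 : Q := act 6 n77531
theorem D161501 : act 6 n77531 = n161501 := rfl
theorem F255474 : act 3 n161501 = n79870 := d7_1 D161501 (iv6 F123915) (iv3 F126132)
def n161503 : Q := act 6 n77536
theorem D161503 : act 6 n77536 = n161503 := rfl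
theorem F255477 : act 2 n161503 = n77910 := d3_1 D161503 F132980 F132976
theorem F255478 : act 3 n161503 = n79642 := d7_1 D161503 F122349 (iv3 F126221)
theorem F255480 : act 0 n77907 = n161503 := d21_4 F57172 (iv1 F31170) D35547 D77907 (iv6 D161503) (iv5 D77536) (iv1 D35399) D35400 F56120 F57174
theorem F255481 : act 1 n77907 = n91699 := d15_1 (iv0 F255480) F140967 (iv2 F255477)
theorem F255482 : act 1 n91699 = n77912 := d15_1 F255481 (iv7 D77912) (iv2 F119128)
theorem F255484 : act 4 n157895 = n91699 := d18_7 (iv1 F149482) (iv4 F126663) (iv1 D82215) F58539 (iv5 F54646) (iv4 F112768) D157895 F255482 (iv5 F126649)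
def n161504 : Q := act 5 n77538
theorem D161504 : act 5 n77538 = n161504 := rfl
theorem F255491 : act 2 n161504 = n98171 := d2_1 D161504 (iv5 F195505) F195508
theorem F255492 : act 3 n161504 = n80560 := d6_1 D161504 F123851 (iv3 F195509)
theorem F255493 : act 7 n161504 = n80162 := d13_2 (iv7 F195510) D161504 (iv5 F123093)
theorem F255495 : act 6 n161504 = n81006 := d21_3 D35400 D77538 D161504 (iv1 F132468) (iv6 D82051) D82050 F152290 F152289 (iv6 D77537) (iv1 D35399)
theorem F255496 : act 1 n98174 = n161504 := d15_1 F248762 F255493 (iv2 F248756)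
def n161505 : Q := act 6 n77538
theorem D161505 : act 6 n77538 = n161505 := rfl
theorem F255497 : act 3 n161505 = n78568 := d7_1 D161505 (iv6 F119765) (iv3 F195509)
theorem F255498 : act 5 n161505 = n78566 := d12_1 D161505 (iv6 F192987) F192986 (iv6 F255495) (iv5 D161504)
def n161506 : Q := act 3 n77540
theorem D161506 : act 3 n77540 = n161506 := rfl
theorem F255499 : act 4 n161506 = n77599 := d5_2 D77540 D161506 (iv3 D77599) (iv4 D35420) (iv3 F56119)
theorem F255500 : act 6 n161506 = n80089 := d7_2 (iv6 F116423) D161506 (iv3 D80089)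
def n161507 : Q := act 5 n77540
theorem D161507 : act 5 n77540 = n161507 := rfl
theorem F255501 : act 0 n161507 = n125285 := d17_2 F125909 D161507 (iv5 D125285) (iv4 D58646) (iv5 D27890) F124341 D18000 D37500 D81890
def n161508 : Q := act 1 n77542
theorem D161508 : act 1 n77542 = n161508 := rfl
def n161509 : Q := act 5 n77542
theorem D161509 : act 5 n77542 = n161509 := rfl
theorem F255502 : act 3 n161509 = n77545 := d6_1 D161509 (iv5 D77545) (iv3 F116428)
def n161510 : Q := act 0 n77545
theorem D161510 : act 0 n77545 = n161510 := rfl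
theorem F255503 : act 5 n161510 = n77871 := d17_3 F117658 D77545 D161510 (iv4 D77871) (iv5 D35534) (iv0 D17214) (iv5 D8072) D8071 D17211
theorem F255504 : act 4 n161510 = n77768 := d18_1 D161510 (iv1 F255259) F255255 F116312 F56080 F28118 D17206 F117657 D77545
theorem F255506 : act 7 n122060 = n161510 := d13_0 F255503 F119087 D122060
def n161511 : Q := act 1 n77545
theorem D161511 : act 1 n77545 = n161511 := rfl
theorem F255511 : act 1 n161511 = n77795 := d15_1 D161511 (iv7 F127664) F127663
theorem F255512 : act 5 n161511 = n77882 := d17_7 F129647 D82666 F127345 (iv5 D79109) F56755 D77545 D161511 F249976 F249975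
def n161512 : Q := act 4 n77545
theorem D161512 : act 4 n77545 = n161512 := rfl
def n161513 : Q := act 0 n77548
theorem D161513 : act 0 n77548 = n161513 := rfl
def n161514 : Q := act 1 n77548
theorem D161514 : act 1 n77548 = n161514 := rfl
def n161515 : Q := act 2 n77548
theorem D161515 : act 2 n77548 = n161515 := rfl
def n161516 : Q := act 5 n77548
theorem D161516 : act 5 n77548 = n161516 := rfl
theorem F255517 : act 3 n161516 = n77550 := d6_1 D161516 (iv5 D77550) D77548
def n161517 : Q := act 6 n77548
theorem D161517 : act 6 n77548 = n161517 := rfl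
theorem F255518 : act 3 n161517 = n77551 := d7_1 D161517 (iv6 D77551) D77548
def n161519 : Q := act 4 n77550
theorem D161519 : act 4 n77550 = n161519 := rfl
def n161520 : Q := act 6 n77550
theorem D161520 : act 6 n77550 = n161520 := rfl
def n161523 : Q := act 6 n77553
theorem D161523 : act 6 n77553 = n161523 := rfl
theorem F255523 : act 3 n161523 = n77556 := d7_1 D161523 (iv6 D77556) D77553
def n161527 : Q := act 5 n77556
theorem D161527 : act 5 n77556 = n161527 := rfl
theorem F255526 : act 1 n161527 = n82651 := d17_6 D18187 D37983 D82660 F127340 F123969 D161527 (iv5 D82651) (iv0 D37976) F29355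
def n161528 : Q := act 3 n77557
theorem D161528 : act 3 n77557 = n161528 := rfl
def n161529 : Q := act 4 n77557
theorem D161529 : act 4 n77557 = n161529 := rfl
def n161530 : Q := act 5 n77557
theorem D161530 : act 5 n77557 = n161530 := rfl
theorem F255531 : act 4 n161530 = n158205 := d17_4 (iv1 D35405) D35406 D77557 D161530 F249209 (iv0 D79614) F56996 D36792 F123966
theorem F255533 : act 0 n121451 = n161529 := d18_2 (iv1 D121450) D121451 (iv4 D161529) D161530 F255531 (iv0 F249211) F117860 (iv0 F193768) F193812
theorem F255534 : act 6 n161530 = n158778 := d21_3 D35406 D77557 D161530 (iv1 F249976) F119097 D82651 (iv1 F255526) (iv5 D161527) (iv6 D77556) (iv1 D35405)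
theorem F255535 : act 0 n161530 = n80403 := d20_1 (iv4 F255531) F123554 (iv3 F123549) (iv1 F133153) (iv3 F133767) (iv4 F149150) (iv1 F149154) (iv4 D76018) (iv3 F117859) F249211
def n161531 : Q := act 6 n77557
theorem D161531 : act 6 n77557 = n161531 := rfl
def n161532 : Q := act 3 n77558
theorem D161532 : act 3 n77558 = n161532 := rfl
theorem F255536 : act 5 n161532 = n161315 := d6_2 F116431 D161532 F255136
def n161533 : Q := act 4 n77558
theorem D161533 : act 4 n77558 = n161533 := rfl
theorem F255537 : act 0 n161533 = n121451 := d18_2 (iv1 F193755) D161533 (iv4 D121451) (iv5 D56072) F43709 D36792 F123966 F88719 (iv5 F193753)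
def n161534 : Q := act 6 n77558
theorem D161534 : act 6 n77558 = n161534 := rfl
theorem F255538 : act 5 n161534 = n161317 := d12_1 D161534 (iv6 D161317) (iv5 D77443) D77444 F116431
def n161535 : Q := act 0 n77559
theorem D161535 : act 0 n77559 = n161535 := rfl
def n161536 : Q := act 1 n77559
theorem D161536 : act 1 n77559 = n161536 := rfl
theorem F255539 : act 4 n161536 = n77659 := d18_7 F125945 F53289 F125916 (iv4 F28136) D35406 D77559 D161536 F193817 F193816
def n161537 : Q := act 3 n77559
theorem D161537 : act 3 n77559 = n161537 := rfl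
def n161538 : Q := act 5 n77559
theorem D161538 : act 5 n77559 = n161538 := rfl
def n161539 : Q := act 7 n77559
theorem D161539 : act 7 n77559 = n161539 := rfl
theorem F255540 : act 4 n161539 = n77560 := d11_1 D161539 (iv7 D77560) D77559
def n161540 : Q := act 6 n77560
theorem D161540 : act 6 n77560 = n161540 := rfl
def n161544 : Q := act 6 n77576
theorem D161544 : act 6 n77576 = n161544 := rfl
def n161548 : Q := act 3 n77593
theorem D161548 : act 3 n77593 = n161548 := rfl
def n161551 : Q := act 4 n77594
theorem D161551 : act 4 n77594 = n161551 := rfl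
theorem F255547 : act 6 n161551 = n161338 := d10_2 (iv6 F116487) D161551 F255162
theorem F255548 : act 7 n161551 = n80190 := d11_2 (iv7 F116486) D161551 F123161
theorem F255549 : act 5 n161551 = n77658 := d17_5 F125916 D17179 D35418 D77594 D161551 (iv0 D77658) (iv5 D35455) F125944 F53289
theorem F255550 : act 4 n77658 = n161535 := d18_5 (iv1 F123561) F123084 F116488 D161551 F255549 (iv0 D161535) (iv4 D77559) D77558 (iv5 F116431)
def n161554 : Q := act 3 n77597
theorem D161554 : act 3 n77597 = n161554 := rfl
def n161555 : Q := act 5 n77597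
theorem D161555 : act 5 n77597 = n161555 := rfl
def n161558 : Q := act 5 n77598
theorem D161558 : act 5 n77598 = n161558 := rfl
def n161561 : Q := act 2 n77599
theorem D161561 : act 2 n77599 = n161561 := rfl
theorem F255556 : act 6 n161561 = n80116 := d3_2 (iv6 F116491) D161561 (iv2 D80116)
def n161562 : Q := act 5 n77599
theorem D161562 : act 5 n77599 = n161562 := rfl
theorem F255557 : act 3 n161562 = n77600 := d6_1 D161562 (iv5 D77600) D77599
def n161563 : Q := act 7 n77599
theorem D161563 : act 7 n77599 = n161563 := rfl
theorem F255558 : act 3 n161563 = n77601 := d8_1 D161563 (iv7 D77601) D77599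
theorem F255559 : act 6 n161563 = n161209 := d14_1 D161563 (iv7 D161209) F116193 (iv7 F57311) (iv6 F116491)
def n161564 : Q := act 0 n77600
theorem D161564 : act 0 n77600 = n161564 := rfl
def n161565 : Q := act 1 n77600
theorem D161565 : act 1 n77600 = n161565 := rfl
def n161568 : Q := act 7 n77600
theorem D161568 : act 7 n77600 = n161568 := rfl
theorem F255561 : act 5 n161568 = n77601 := d13_1 D161568 (iv7 D77601) D77600
def n161569 : Q := act 6 n77602
theorem D161569 : act 6 n77602 = n161569 := rfl
theorem F255562 : act 2 n161569 = n123199 := d3_1 D161569 (iv6 D123199) F116558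
def n161571 : Q := act 6 n77604
theorem D161571 : act 6 n77604 = n161571 := rfl
theorem F255566 : act 2 n161571 = n160075 := d3_1 D161571 (iv6 D160075) (iv2 F116499)
theorem F255567 : act 3 n161571 = n77606 := d7_1 D161571 (iv6 D77606) (iv3 F116500)
def n161572 : Q := act 0 n77605
theorem D161572 : act 0 n77605 = n161572 := rfl
theorem F255568 : act 1 n124067 = n161572 := d15_0 (iv0 D161572) (iv7 F116504) D124067
def n161573 : Q := act 1 n77605
theorem D161573 : act 1 n77605 = n161573 := rfl
theorem F255569 : act 1 n161573 = n124067 := d15_1 D161573 F198467 F128796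
def n161574 : Q := act 5 n77605
theorem D161574 : act 5 n77605 = n161574 := rfl
theorem F255570 : act 3 n161574 = n77607 := d6_1 D161574 (iv5 D77607) (iv3 F116502)
theorem F255571 : act 7 n161574 = n124068 := d13_2 F116504 D161574 (iv5 D124068)
def n161575 : Q := act 0 n77606
theorem D161575 : act 0 n77606 = n161575 := rfl
def n161576 : Q := act 1 n77606
theorem D161576 : act 1 n77606 = n161576 := rfl
theorem F255572 : act 1 n161576 = n122702 := d15_1 D161576 (iv7 D122702) (iv2 F116505)
def n161577 : Q := act 5 n77606
theorem D161577 : act 5 n77606 = n161577 := rfl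
theorem F255573 : act 2 n161577 = n122701 := d2_1 D161577 (iv5 D122701) (iv2 F116505)
theorem F255574 : act 6 n161577 = n77607 := d12_2 D77606 D161577 (iv5 D77607) (iv6 D35425) D35424
def n161578 : Q := act 7 n77606
theorem D161578 : act 7 n77606 = n161578 := rfl
theorem F255575 : act 2 n161578 = n122702 := d4_1 D161578 (iv7 D122702) (iv2 F116505)
theorem F255576 : act 4 n161578 = n122697 := d11_1 D161578 (iv7 D122697) (iv4 F116506)
theorem F255577 : act 6 n161578 = n122697 := d14_1 D161578 (iv7 D122697) (iv6 D56990) (iv7 F56138) D77606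
theorem F255578 : act 1 n122702 = n161575 := d15_0 (iv0 D161575) D161578 F255575
theorem F255579 : act 1 n122700 = n161578 := d15_1 D122700 (iv7 D161578) F116505
theorem F255580 : act 1 n161578 = n122699 := d15_0 (iv0 D122699) D122702 (iv2 F255575)
def n161579 : Q := act 0 n77607
theorem D161579 : act 0 n77607 = n161579 := rfl
theorem F255581 : act 5 n161579 = n120323 := d17_3 (iv1 F91190) D77607 D161579 (iv4 D120323) (iv5 D55373) (iv0 D26755) F21254 D13136 D27445
theorem F255582 : act 4 n161579 = n123154 := d18_1 D161579 (iv1 F197358) F90941 F44474 F21964 F21914 D27441 (iv0 F91189) D77607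
def n161580 : Q := act 6 n77608
theorem D161580 : act 6 n77608 = n161580 := rfl
theorem F255586 : act 3 n161580 = n77609 := d7_1 D161580 (iv6 D77609) D77608
theorem F255587 : act 4 n161580 = n151769 := d10_1 D161580 (iv6 D151769) (iv4 F116509)
theorem F255588 : act 0 n151769 = n77726 := d20_7 F56080 (iv1 F28117) D17211 D35522 (iv1 F198061) (iv3 F255586) F255587 (iv4 D77726) (iv3 D35475) (iv1 F56084)
theorem F255589 : act 4 n160003 = n154248 := d20_0 (iv1 D154248) F109594 (iv3 F238688) F255588 F132545 F132541 (iv1 F61349) F121053 D78290 (iv1 F252380)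
theorem E23935 : n154109 = n122991 := ((c20_4 (iv4 F255589) (iv1 D160003) F114883 (iv3 F197046) (iv1 D154109) (iv3 D72971) D72972 F190959 F94800 (iv3 F109602) (iv1 F242352))).symm
theorem F255590 : act 0 n122991 = n72971 := (sb E23935 (iv1 D154109))
def n161581 : Q := act 5 n77609
theorem D161581 : act 5 n77609 = n161581 := rfl
def n161582 : Q := act 3 n77610
theorem D161582 : act 3 n77610 = n161582 := rfl
def n161583 : Q := act 5 n77610
theorem D161583 : act 5 n77610 = n161583 := rfl
def n161584 : Q := act 6 n77610
theorem D161584 : act 6 n77610 = n161584 := rfl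
def n161585 : Q := act 5 n77611
theorem D161585 : act 5 n77611 = n161585 := rfl
def n161586 : Q := act 6 n77611
theorem D161586 : act 6 n77611 = n161586 := rfl
def n161587 : Q := act 0 n77612
theorem D161587 : act 0 n77612 = n161587 := rfl
def n161588 : Q := act 1 n77612
theorem D161588 : act 1 n77612 = n161588 := rfl
def n161589 : Q := act 4 n77612
theorem D161589 : act 4 n77612 = n161589 := rfl
def n161590 : Q := act 7 n77612
theorem D161590 : act 7 n77612 = n161590 := rfl
theorem F255591 : act 3 n161590 = n77624 := d8_1 D161590 (iv7 D77624) (iv3 F116510)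
def n161591 : Q := act 2 n77614
theorem D161591 : act 2 n77614 = n161591 := rfl
theorem F255593 : act 7 n77615 = n161591 := d15_2 (iv0 D77614) D77615 (iv2 D161591)
def n161592 : Q := act 3 n77614
theorem D161592 : act 3 n77614 = n161592 := rfl
def n161594 : Q := act 6 n77614
theorem D161594 : act 6 n77614 = n161594 := rfl
theorem F255595 : act 5 n161594 = n83565 := d21_6 (iv5 D18312) F16298 D17185 D35431 D77614 D161594 (iv1 D83565) (iv5 D38525) (iv6 D18354) (iv1 F29513)
def n161595 : Q := act 7 n77614
theorem D161595 : act 7 n77614 = n161595 := rfl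
theorem F255596 : act 2 n161595 = n77615 := d4_1 D161595 F255593 (iv2 D161591)
def n161596 : Q := act 3 n77615
theorem D161596 : act 3 n77615 = n161596 := rfl
theorem F255597 : act 4 n161596 = n158303 := d20_6 (iv4 D21961) (iv1 F34346) (iv4 F54842) (iv3 F113405) (iv1 F116513) D161596 (iv1 D158303) F113279 F54791 F118904
def n161597 : Q := act 5 n77615
theorem D161597 : act 5 n77615 = n161597 := rfl
def n161598 : Q := act 6 n77615
theorem D161598 : act 6 n77615 = n161598 := rfl
def n161599 : Q := act 0 n77616
theorem D161599 : act 0 n77616 = n161599 := rfl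
def n161603 : Q := act 1 n77618
theorem D161603 : act 1 n77618 = n161603 := rfl
def n161604 : Q := act 5 n77618
theorem D161604 : act 5 n77618 = n161604 := rfl
def n161605 : Q := act 6 n77618
theorem D161605 : act 6 n77618 = n161605 := rfl
theorem F255607 : act 3 n161605 = n77620 := d7_1 D161605 (iv6 D77620) D77618
def n161608 : Q := act 3 n77621
theorem D161608 : act 3 n77621 = n161608 := rfl
def n161609 : Q := act 4 n77621
theorem D161609 : act 4 n77621 = n161609 := rfl
def n161610 : Q := act 6 n77621
theorem D161610 : act 6 n77621 = n161610 := rfl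
def n161611 : Q := act 3 n77622
theorem D161611 : act 3 n77622 = n161611 := rfl
theorem F255611 : act 5 n161611 = n158780 := d6_2 F116522 D161611 (iv3 D158780)
def n161612 : Q := act 4 n77622
theorem D161612 : act 4 n77622 = n161612 := rfl
theorem F255613 : act 0 n161612 = n121448 := d18_2 F129152 D161612 (iv4 D121448) (iv5 D56068) F43707 (iv0 F116651) D18438 D38776 D84123
def n161614 : Q := act 0 n77623
theorem D161614 : act 0 n77623 = n161614 := rfl
theorem F255615 : act 4 n161614 = n77683 := d18_3 (iv1 D77622) D77623 D161614 F117112 (iv4 D77329) F91255 (iv4 F89350) F133162 F116522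
theorem F255617 : act 1 n161327 = n161614 := d18_6 (iv1 F116662) (iv4 D19022) D19019 F59675 D84123 (iv4 F255144) F255615 (iv0 D77683) (iv5 D35463)
def n161617 : Q := act 5 n77623
theorem D161617 : act 5 n77623 = n161617 := rfl
theorem F255623 : act 7 n161617 = n80186 := d16_8 (iv4 D77447) (iv5 D35359) F28107 (iv5 F17008) (iv4 F28151) D35434 D77623 D161617 F123147
def n161618 : Q := act 7 n77623
theorem D161618 : act 7 n77623 = n161618 := rfl
theorem F255627 : act 4 n161618 = n77624 := d11_1 D161618 (iv7 D77624) D77623
theorem F255628 : act 5 n161618 = n80186 := d13_1 D161618 (iv7 F255623) (iv5 D161617)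
def n161620 : Q := act 0 n77625
theorem D161620 : act 0 n77625 = n161620 := rfl
theorem F255629 : act 1 n85244 = n161620 := d15_0 (iv0 D161620) (iv7 F133117) F133115
def n161621 : Q := act 1 n77625
theorem D161621 : act 1 n77625 = n161621 := rfl
theorem F255630 : act 1 n161621 = n85244 := d15_1 D161621 (iv7 F200737) F200735
def n161622 : Q := act 5 n77625
theorem D161622 : act 5 n77625 = n161622 := rfl
theorem F255631 : act 3 n161622 = n77626 := d6_1 D161622 (iv5 D77626) D77625
def n161623 : Q := act 6 n77625
theorem D161623 : act 6 n77625 = n161623 := rfl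
theorem F255632 : act 3 n161623 = n77627 := d7_1 D161623 (iv6 D77627) D77625
def n161625 : Q := act 6 n77626
theorem D161625 : act 6 n77626 = n161625 := rfl
def n161626 : Q := act 3 n77628
theorem D161626 : act 3 n77628 = n161626 := rfl
theorem F255634 : act 6 n161626 = n86828 := d7_2 (iv6 F116526) D161626 (iv3 D86828)
def n161628 : Q := act 0 n77630
theorem D161628 : act 0 n77630 = n161628 := rfl
def n161629 : Q := act 1 n77630
theorem D161629 : act 1 n77630 = n161629 := rfl
def n161630 : Q := act 5 n77630
theorem D161630 : act 5 n77630 = n161630 := rfl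
theorem F255636 : act 3 n161630 = n82556 := d6_1 D161630 (iv5 D82556) (iv3 F116527)
theorem F255637 : act 6 n161630 = n83161 := d12_2 D77630 D161630 (iv5 D83161) (iv6 D38282) (iv5 F56154)
def n161631 : Q := act 7 n77630
theorem D161631 : act 7 n77630 = n161631 := rfl
theorem F255638 : act 3 n161631 = n82557 := d8_1 D161631 (iv7 D82557) (iv3 F116527)
theorem F255639 : act 6 n161631 = n101744 := d14_1 D161631 (iv7 F156785) (iv6 D98109) F72368 D77630
def n161632 : Q := act 6 n77631
theorem D161632 : act 6 n77631 = n161632 := rfl
theorem F255640 : act 2 n161632 = n82549 := d3_1 D161632 (iv6 D82549) (iv2 F116528)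
theorem F255641 : act 3 n161632 = n77633 := d7_1 D161632 (iv6 D77633) D77631
def n161634 : Q := act 0 n77633
theorem D161634 : act 0 n77633 = n161634 := rfl
def n161635 : Q := act 1 n77633
theorem D161635 : act 1 n77633 = n161635 := rfl
def n161636 : Q := act 5 n77633
theorem D161636 : act 5 n77633 = n161636 := rfl
def n161637 : Q := act 7 n77633
theorem D161637 : act 7 n77633 = n161637 := rfl
theorem F255645 : act 2 n161637 = n101744 := d4_1 D161637 (iv7 F156785) F151266
theorem F255646 : act 1 n101744 = n161634 := d15_0 (iv0 D161634) D161637 F255645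
def n161638 : Q := act 6 n77634
theorem D161638 : act 6 n77634 = n161638 := rfl
theorem F255647 : act 2 n161638 = n77637 := d3_1 D161638 (iv6 D77637) (iv2 F116531)
theorem F255648 : act 4 n161638 = n77635 := d10_1 D161638 (iv6 D77635) D77634
def n161639 : Q := act 0 n77635
theorem D161639 : act 0 n77635 = n161639 := rfl
def n161640 : Q := act 5 n77635
theorem D161640 : act 5 n77635 = n161640 := rfl
theorem F255649 : act 2 n161640 = n77642 := d2_1 D161640 (iv5 D77642) (iv2 F116535)
def n161641 : Q := act 7 n77635
theorem D161641 : act 7 n77635 = n161641 := rfl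
theorem F255650 : act 2 n161641 = n77643 := d4_1 D161641 (iv7 D77643) (iv2 F116535)
theorem F255651 : act 1 n77643 = n161639 := d15_0 (iv0 D161639) D161641 F255650
theorem F255652 : act 1 n77641 = n161641 := d15_1 D77641 (iv7 D161641) F116535
theorem F255653 : act 1 n161641 = n77640 := d15_0 (iv0 D77640) D77643 (iv2 F255650)
def n161643 : Q := act 0 n77637
theorem D161643 : act 0 n77637 = n161643 := rfl
theorem F255656 : act 3 n161643 = n105950 := d20_5 (iv4 F132364) (iv1 D40557) (iv4 F61684) (iv3 F116541) D161643 (iv4 D105950) (iv1 F77293) (iv4 F77356) F77355 (iv1 F132362)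
theorem F255658 : act 7 n106054 = n161643 := d8_0 F255656 F162963 D106054
def n161646 : Q := act 7 n77637
theorem D161646 : act 7 n77637 = n161646 := rfl
theorem F255660 : act 3 n161646 = n87304 := d8_1 D161646 (iv7 D87304) (iv3 F116541)
theorem F255662 : act 0 n161646 = n106054 := d20_4 (iv4 F126177) (iv1 F71116) (iv4 F134041) (iv3 F255660) (iv3 D106054) (iv4 D49018) (iv1 D23912) (iv4 F37322) F37321 D40166
theorem F255663 : act 1 n161638 = n106054 := d15_0 (iv0 F255662) (iv7 D161646) (iv2 F255647)
def n161647 : Q := act 6 n77638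
theorem D161647 : act 6 n77638 = n161647 := rfl
theorem F255665 : act 3 n161647 = n96714 := d7_1 D161647 (iv6 D96714) (iv3 F116544)
def n161648 : Q := act 5 n77639
theorem D161648 : act 5 n77639 = n161648 := rfl
theorem F255667 : act 3 n161648 = n77646 := d6_1 D161648 (iv5 D77646) (iv3 F116547)
theorem F255668 : act 6 n161648 = n77642 := d12_2 D77639 D161648 (iv5 D77642) (iv6 D35451) D35450
def n161649 : Q := act 2 n77640
theorem D161649 : act 2 n77640 = n161649 := rfl
theorem F255669 : act 7 n77641 = n161649 := d15_2 (iv0 D77640) D77641 (iv2 D161649)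
def n161650 : Q := act 4 n77640
theorem D161650 : act 4 n77640 = n161650 := rfl
def n161651 : Q := act 5 n77640
theorem D161651 : act 5 n77640 = n161651 := rfl
theorem F255670 : act 3 n161651 = n82752 := d6_1 D161651 (iv5 D82752) (iv3 F184761)
def n161652 : Q := act 6 n77640
theorem D161652 : act 6 n77640 = n161652 := rfl
theorem F255671 : act 3 n161652 = n82753 := d7_1 D161652 (iv6 D82753) (iv3 F184761)
def n161653 : Q := act 7 n77640
theorem D161653 : act 7 n77640 = n161653 := rfl
theorem F255672 : act 2 n161653 = n77641 := d4_1 D161653 F255669 (iv2 D161649)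
theorem F255673 : act 3 n161653 = n82754 := d8_1 D161653 (iv7 D82754) (iv3 F184761)
def n161654 : Q := act 3 n77641
theorem D161654 : act 3 n77641 = n161654 := rfl
theorem F255674 : act 2 n161654 = n82755 := d0_1 D161654 (iv3 D82755) (iv2 F127509) (iv3 F255673) F255672
def n161655 : Q := act 4 n77641
theorem D161655 : act 4 n77641 = n161655 := rfl
def n161656 : Q := act 5 n77641
theorem D161656 : act 5 n77641 = n161656 := rfl
def n161657 : Q := act 6 n77641
theorem D161657 : act 6 n77641 = n161657 := rfl
def n161658 : Q := act 0 n77642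
theorem D161658 : act 0 n77642 = n161658 := rfl
def n161659 : Q := act 1 n77642
theorem D161659 : act 1 n77642 = n161659 := rfl
def n161660 : Q := act 4 n77642
theorem D161660 : act 4 n77642 = n161660 := rfl
def n161661 : Q := act 7 n77642
theorem D161661 : act 7 n77642 = n161661 := rfl
theorem F255676 : act 5 n161661 = n77643 := d13_1 D161661 (iv7 D77643) D77642
def n161662 : Q := act 2 n77644
theorem D161662 : act 2 n77644 = n161662 := rfl
theorem F255677 : act 7 n77645 = n161662 := d15_2 (iv0 D77644) D77645 (iv2 D161662)
def n161663 : Q := act 3 n77644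
theorem D161663 : act 3 n77644 = n161663 := rfl
def n161664 : Q := act 5 n77644
theorem D161664 : act 5 n77644 = n161664 := rfl
def n161665 : Q := act 6 n77644
theorem D161665 : act 6 n77644 = n161665 := rfl
def n161667 : Q := act 5 n77645
theorem D161667 : act 5 n77645 = n161667 := rfl
def n161668 : Q := act 6 n77645
theorem D161668 : act 6 n77645 = n161668 := rfl
def n161669 : Q := act 0 n77646
theorem D161669 : act 0 n77646 = n161669 := rfl
def n161670 : Q := act 1 n77646
theorem D161670 : act 1 n77646 = n161670 := rfl
def n161671 : Q := act 4 n77646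
theorem D161671 : act 4 n77646 = n161671 := rfl
theorem F255679 : act 6 n161671 = n77660 := d10_2 (iv6 F116550) D161671 (iv4 D77660)
def n161672 : Q := act 7 n77646
theorem D161672 : act 7 n77646 = n161672 := rfl
theorem F255680 : act 5 n161672 = n77647 := d13_1 D161672 (iv7 D77647) D77646
def n161673 : Q := act 3 n77658
theorem D161673 : act 3 n77658 = n161673 := rfl
def n161675 : Q := act 6 n77659
theorem D161675 : act 6 n77659 = n161675 := rfl
def n161677 : Q := act 1 n77660
theorem D161677 : act 1 n77660 = n161677 := rfl
theorem F255682 : act 4 n161677 = n121431 := d18_7 (iv1 F126032) (iv4 D38831) (iv1 F126030) F43829 D35455 D77660 D161677 F193748 F116432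
theorem F255683 : act 2 n161533 = n161677 := d1_3 F255682 F193750 D161533
theorem F255684 : act 7 n161529 = n161677 := d11_0 F255682 (iv7 F193760) D161529
def n161679 : Q := act 5 n77660
theorem D161679 : act 5 n77660 = n161679 := rfl
def n161680 : Q := act 7 n77660
theorem D161680 : act 7 n77660 = n161680 := rfl
theorem F255688 : act 4 n161680 = n77661 := d11_1 D161680 (iv7 D77661) D77660
theorem F255689 : act 1 n161533 = n161680 := d15_1 (iv0 F255537) (iv7 D161680) (iv2 F193814)
theorem F255690 : act 1 n161680 = n161529 := d15_1 F255689 F255684 (iv2 F255683)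
def n161682 : Q := act 6 n77662
theorem D161682 : act 6 n77662 = n161682 := rfl
theorem F255691 : act 2 n161682 = n101466 := d3_1 D161682 (iv6 D101466) (iv2 F116554)
theorem F255692 : act 3 n161682 = n77663 := d7_1 D161682 (iv6 D77663) D77662
theorem F255693 : act 4 n161682 = n123199 := d10_1 D161682 (iv6 D123199) (iv4 F116557)
def n161683 : Q := act 0 n77663
theorem D161683 : act 0 n77663 = n161683 := rfl
def n161684 : Q := act 1 n77663
theorem D161684 : act 1 n77663 = n161684 := rfl
def n161685 : Q := act 5 n77663
theorem D161685 : act 5 n77663 = n161685 := rfl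
theorem F255694 : act 6 n161685 = n84898 := d12_2 D77663 D161685 (iv5 D84898) (iv6 D39279) (iv5 F56160)
def n161686 : Q := act 7 n77663
theorem D161686 : act 7 n77663 = n161686 := rfl
def n161689 : Q := act 5 n77664
theorem D161689 : act 5 n77664 = n161689 := rfl
theorem F255695 : act 6 n161689 = n84903 := d12_2 D77664 D161689 (iv5 D84903) (iv6 D39281) (iv5 F56161)
def n161692 : Q := act 3 n77665
theorem D161692 : act 3 n77665 = n161692 := rfl
theorem F255697 : act 4 n161692 = n124066 := d20_6 (iv4 D38772) F116634 F33888 (iv3 F56162) D77665 D161692 (iv1 D124066) (iv4 F116512) F116511 (iv1 F91419)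
def n161696 : Q := act 3 n77666
theorem D161696 : act 3 n77666 = n161696 := rfl
def n161697 : Q := act 4 n77666
theorem D161697 : act 4 n77666 = n161697 := rfl
theorem F255699 : act 3 n85576 = n161697 := d20_5 (iv4 D44582) (iv1 F33671) (iv4 F59760) D39543 D85576 (iv4 D161697) (iv1 D77666) (iv4 F71094) F71093 (iv1 F116724)
def n161700 : Q := act 0 n77667
theorem D161700 : act 0 n77667 = n161700 := rfl
def n161701 : Q := act 1 n77667
theorem D161701 : act 1 n77667 = n161701 := rfl
def n161702 : Q := act 4 n77667
theorem D161702 : act 4 n77667 = n161702 := rfl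
def n161703 : Q := act 7 n77667
theorem D161703 : act 7 n77667 = n161703 := rfl
theorem F255700 : act 3 n161703 = n77686 := d8_1 D161703 (iv7 D77686) (iv3 F116563)
theorem F255701 : act 5 n161703 = n77668 := d13_1 D161703 (iv7 D77668) D77667
def n161704 : Q := act 2 n77669
theorem D161704 : act 2 n77669 = n161704 := rfl
theorem F255702 : act 7 n77670 = n161704 := d15_2 (iv0 D77669) D77670 (iv2 D161704)
def n161705 : Q := act 5 n77669
theorem D161705 : act 5 n77669 = n161705 := rfl
def n161706 : Q := act 6 n77669
theorem D161706 : act 6 n77669 = n161706 := rfl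
theorem F255704 : act 3 n161706 = n82538 := d7_1 D161706 (iv6 D82538) (iv3 F192687)
def n161707 : Q := act 7 n77669
theorem D161707 : act 7 n77669 = n161707 := rfl
theorem F255705 : act 2 n161707 = n77670 := d4_1 D161707 F255702 (iv2 D161704)
theorem F255706 : act 3 n161707 = n82539 := d8_1 D161707 (iv7 D82539) (iv3 F192687)
def n161708 : Q := act 3 n77670
theorem D161708 : act 3 n77670 = n161708 := rfl
theorem F255707 : act 2 n161708 = n82540 := d0_1 D161708 (iv3 D82540) (iv2 F127182) (iv3 F255706) F255705
theorem F255708 : act 4 n161708 = n122684 := d5_2 F192678 D161708 (iv3 D122684) D122685 (iv3 F196546)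
def n161709 : Q := act 5 n77670
theorem D161709 : act 5 n77670 = n161709 := rfl
def n161710 : Q := act 6 n77670
theorem D161710 : act 6 n77670 = n161710 := rfl
def n161712 : Q := act 1 n77671
theorem D161712 : act 1 n77671 = n161712 := rfl
def n161715 : Q := act 6 n77683
theorem D161715 : act 6 n77683 = n161715 := rfl
def n161716 : Q := act 3 n77684
theorem D161716 : act 3 n77684 = n161716 := rfl
def n161717 : Q := act 6 n77684
theorem D161717 : act 6 n77684 = n161717 := rfl
def n161718 : Q := act 0 n77685
theorem D161718 : act 0 n77685 = n161718 := rfl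
theorem F255713 : act 4 n161718 = n121418 := d18_3 (iv1 D77684) D77685 D161718 (iv5 F249196) (iv4 D158203) F120392 (iv4 F118500) F123164 F117111
def n161719 : Q := act 1 n77685
theorem D161719 : act 1 n77685 = n161719 := rfl
theorem F255717 : act 4 n161719 = n121419 := d18_7 (iv1 F91419) (iv4 D38772) F116634 F33888 D35463 D77685 D161719 F193709 F116523
def n161721 : Q := act 5 n77685
theorem D161721 : act 5 n77685 = n161721 := rfl
theorem F255719 : act 4 n161721 = n80273 := d16_2 D77685 D161721 F123360 F57443 (iv5 F57705) (iv4 F116669) D86832 F133129 F88737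
theorem F255720 : act 7 n161721 = n80272 := d16_8 (iv4 D121997) (iv5 D56437) F43931 (iv5 F33889) F33888 D35463 D77685 D161721 (iv2 F194844)
def n161722 : Q := act 7 n77685
theorem D161722 : act 7 n77685 = n161722 := rfl
theorem F255721 : act 4 n161722 = n77686 := d11_1 D161722 (iv7 D77686) D77685
theorem F255722 : act 5 n161722 = n80272 := d13_1 D161722 (iv7 F255720) (iv5 D161721)
theorem F255723 : act 1 n161612 = n161722 := d15_1 (iv0 F255613) (iv7 D161722) (iv2 F193805)
def n161723 : Q := act 6 n77686
theorem D161723 : act 6 n77686 = n161723 := rfl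
def n161724 : Q := act 1 n77687
theorem D161724 : act 1 n77687 = n161724 := rfl
theorem F255725 : act 1 n161724 = n83401 := d15_1 D161724 F131630 (iv2 F116569)
theorem F255726 : act 7 n161724 = n83403 := d15_2 (iv0 F252830) D161724 (iv2 D83403)
theorem F255727 : act 2 n82936 = n161724 := d4_3 F255726 (iv2 D83403) (iv7 F127798)
theorem F255728 : act 3 n161724 = n83414 := d0_2 D82936 F255727 (iv2 D83414) (iv3 D38424) (iv2 F118372)
theorem F255729 : act 0 n79525 = n119407 := d20_7 (iv4 D54924) (iv1 F42550) (iv4 F60284) (iv3 F131629) (iv1 F255725) F255728 F128523 F188150 F86943 F188397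
def n161725 : Q := act 5 n77687
theorem D161725 : act 5 n77687 = n161725 := rfl
theorem F255730 : act 2 n161725 = n84936 := d2_1 D161725 (iv5 D84936) (iv2 F116569)
theorem F255731 : act 3 n161725 = n77690 := d6_1 D161725 (iv5 D77690) (iv3 F116570)
theorem F255732 : act 6 n161725 = n121990 := d12_2 D77687 D161725 (iv5 D121990) (iv6 D56430) (iv5 F56164)
def n161726 : Q := act 7 n77687
theorem D161726 : act 7 n77687 = n161726 := rfl
theorem F255733 : act 2 n161726 = n83401 := d4_1 D161726 F131630 (iv2 F116569)
theorem F255734 : act 3 n161726 = n77691 := d8_1 D161726 (iv7 D77691) (iv3 F116570)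
theorem F255735 : act 6 n161726 = n83227 := d14_1 D161726 F128301 (iv6 D80261) F57437 D77687
theorem F255736 : act 1 n82936 = n161726 := d15_1 (iv0 F130350) (iv7 D161726) F116569
theorem F255737 : act 1 n161726 = n83403 := d15_1 F255736 (iv7 F255726) (iv2 F255727)
theorem E23936 : n83556 = n79128 := (c20_1 D83556 (iv1 F124193) F124189 (iv3 F255734) (iv1 F255736) (iv3 D82936) F118373 (iv1 D19513) F14330 (iv3 F29537) D38523)
theorem F255738 : act 4 n79128 = n38523 := (sb E23936 (iv4 D83556))
def n161727 : Q := act 2 n77688
theorem D161727 : act 2 n77688 = n161727 := rfl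
theorem F255739 : act 7 n77689 = n161727 := d15_2 (iv0 D77688) D77689 (iv2 D161727)
def n161728 : Q := act 3 n77688
theorem D161728 : act 3 n77688 = n161728 := rfl
def n161729 : Q := act 5 n77688
theorem D161729 : act 5 n77688 = n161729 := rfl
def n161730 : Q := act 6 n77688
theorem D161730 : act 6 n77688 = n161730 := rfl
def n161731 : Q := act 7 n77688
theorem D161731 : act 7 n77688 = n161731 := rfl
def n161735 : Q := act 1 n77690
theorem D161735 : act 1 n77690 = n161735 := rfl
theorem F255741 : act 5 n161706 = n161735 := d21_6 F43394 F21522 D17194 D35460 D77669 D161706 (iv1 D161735) (iv5 D77690) (iv6 D35466) (iv1 F43397)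
def n161736 : Q := act 4 n77690
theorem D161736 : act 4 n77690 = n161736 := rfl
def n161737 : Q := act 7 n77690
theorem D161737 : act 7 n77690 = n161737 := rfl
theorem F255743 : act 5 n161737 = n77691 := d13_1 D161737 (iv7 D77691) D77690
def n161738 : Q := act 2 n77692
theorem D161738 : act 2 n77692 = n161738 := rfl
theorem F255744 : act 7 n77693 = n161738 := d15_2 (iv0 D77692) D77693 (iv2 D161738)
def n161740 : Q := act 6 n77692
theorem D161740 : act 6 n77692 = n161740 := rfl
def n161741 : Q := act 7 n77692
theorem D161741 : act 7 n77692 = n161741 := rfl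
theorem F255747 : act 2 n161741 = n77693 := d4_1 D161741 F255744 (iv2 D161738)
theorem F255748 : act 3 n161741 = n83181 := d8_1 D161741 (iv7 D83181) F124252
def n161742 : Q := act 3 n77693
theorem D161742 : act 3 n77693 = n161742 := rfl
theorem F255749 : act 2 n161742 = n83182 := d0_1 D161742 (iv3 D83182) (iv2 F128249) (iv3 F255748) F255747
theorem F255750 : act 4 n161742 = n123237 := d5_2 F124243 D161742 (iv3 D123237) D123238 (iv3 F197527)
def n161747 : Q := act 4 n77694
theorem D161747 : act 4 n77694 = n161747 := rfl
theorem F255752 : act 6 n161747 = n121997 := d10_2 (iv6 F116573) D161747 (iv4 D121997)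
def n161748 : Q := act 7 n77694
theorem D161748 : act 7 n77694 = n161748 := rfl
theorem F255754 : act 5 n161748 = n77695 := d13_1 D161748 (iv7 D77695) D77694
def n161749 : Q := act 6 n77696
theorem D161749 : act 6 n77696 = n161749 := rfl
def n161772 : Q := act 4 n77703
theorem D161772 : act 4 n77703 = n161772 := rfl
theorem F255773 : act 2 n161772 = n77705 := d1_1 D161772 (iv4 D77705) D77703
theorem F255774 : act 7 n161772 = n77710 := d11_2 F116585 D161772 (iv4 D77710)
def n161773 : Q := act 5 n77703
theorem D161773 : act 5 n77703 = n161773 := rfl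
theorem F255775 : act 2 n161773 = n77706 := d2_1 D161773 (iv5 D77706) D77703
theorem F255776 : act 7 n161773 = n77711 := d13_2 F116585 D161773 (iv5 D77711)
def n161775 : Q := act 0 n77704
theorem D161775 : act 0 n77704 = n161775 := rfl
def n161776 : Q := act 1 n77704
theorem D161776 : act 1 n77704 = n161776 := rfl
def n161777 : Q := act 2 n77704
theorem D161777 : act 2 n77704 = n161777 := rfl
def n161778 : Q := act 4 n77704
theorem D161778 : act 4 n77704 = n161778 := rfl
def n161779 : Q := act 5 n77704
theorem D161779 : act 5 n77704 = n161779 := rfl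
theorem F255778 : act 3 n161779 = n77706 := d6_1 D161779 (iv5 D77706) D77704
def n161780 : Q := act 6 n77704
theorem D161780 : act 6 n77704 = n161780 := rfl
theorem F255779 : act 3 n161780 = n77707 := d7_1 D161780 (iv6 D77707) D77704
def n161781 : Q := act 7 n77704
theorem D161781 : act 7 n77704 = n161781 := rfl
theorem F255780 : act 3 n161781 = n77708 := d8_1 D161781 (iv7 D77708) D77704
def n161782 : Q := act 0 n77705
theorem D161782 : act 0 n77705 = n161782 := rfl
def n161783 : Q := act 1 n77705
theorem D161783 : act 1 n77705 = n161783 := rfl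
theorem F255781 : act 1 n161783 = n77710 := d15_1 D161783 (iv7 F255774) F255773
def n161784 : Q := act 3 n77705
theorem D161784 : act 3 n77705 = n161784 := rfl
def n161785 : Q := act 5 n77705
theorem D161785 : act 5 n77705 = n161785 := rfl
def n161787 : Q := act 7 n77705
theorem D161787 : act 7 n77705 = n161787 := rfl
theorem F255783 : act 2 n161787 = n77710 := d4_1 D161787 (iv7 F255774) F255773
theorem F255784 : act 4 n161787 = n77708 := d11_1 D161787 (iv7 D77708) D77705
theorem F255785 : act 1 n77710 = n161782 := d15_0 (iv0 D161782) D161787 F255783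
def n161788 : Q := act 0 n77706
theorem D161788 : act 0 n77706 = n161788 := rfl
theorem F255786 : act 5 n161788 = n161710 := d21_2 D77706 D161788 (iv6 D161710) (iv1 D77670) (iv6 D35460) (iv5 D17194) (iv1 D8067) D8068 D17199 D35470
def n161792 : Q := act 7 n77706
theorem D161792 : act 7 n77706 = n161792 := rfl
theorem F255788 : act 2 n161792 = n77711 := d4_1 D161792 (iv7 F255776) F255775
theorem F255789 : act 5 n161792 = n77708 := d13_1 D161792 (iv7 D77708) D77706
theorem F255790 : act 1 n77711 = n161788 := d15_0 (iv0 D161788) D161792 F255788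
def n161795 : Q := act 5 n77707
theorem D161795 : act 5 n77707 = n161795 := rfl
theorem F255791 : act 0 n161795 = n121847 := d21_7 (iv5 D17194) (iv1 D8067) D8068 D17199 D35470 D77707 D161795 (iv5 D121847) (iv6 D56306) F43862
def n161797 : Q := act 6 n77708
theorem D161797 : act 6 n77708 = n161797 := rfl
theorem F255793 : act 2 n161797 = n77712 := d3_1 D161797 (iv6 D77712) (iv2 F116586)
def n161802 : Q := act 5 n77709
theorem D161802 : act 5 n77709 = n161802 := rfl
theorem F255794 : act 3 n161802 = n77711 := d6_1 D161802 (iv5 D77711) D77709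
def n161803 : Q := act 6 n77709
theorem D161803 : act 6 n77709 = n161803 := rfl
theorem F255795 : act 3 n161803 = n77712 := d7_1 D161803 (iv6 D77712) D77709
def n161804 : Q := act 3 n77710
theorem D161804 : act 3 n77710 = n161804 := rfl
def n161805 : Q := act 5 n77710
theorem D161805 : act 5 n77710 = n161805 := rfl
def n161806 : Q := act 6 n77710
theorem D161806 : act 6 n77710 = n161806 := rfl
theorem F255796 : act 4 n161806 = n77712 := d10_1 D161806 (iv6 D77712) D77710
def n161809 : Q := act 0 n77712
theorem D161809 : act 0 n77712 = n161809 := rfl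
def n161810 : Q := act 1 n77712
theorem D161810 : act 1 n77712 = n161810 := rfl
def n161811 : Q := act 5 n77712
theorem D161811 : act 5 n77712 = n161811 := rfl
theorem F255797 : act 0 n161664 = n161811 := d21_1 D161664 (iv5 D161811) (iv6 D77712) (iv1 D35471) (iv6 D17199) (iv5 D8068) D8066 D17191 D35452 D77644
def n161812 : Q := act 7 n77712
theorem D161812 : act 7 n77712 = n161812 := rfl
def n161813 : Q := act 2 n77713
theorem D161813 : act 2 n77713 = n161813 := rfl
def n161814 : Q := act 3 n77713
theorem D161814 : act 3 n77713 = n161814 := rfl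
def n161815 : Q := act 4 n77713
theorem D161815 : act 4 n77713 = n161815 := rfl
def n161816 : Q := act 5 n77713
theorem D161816 : act 5 n77713 = n161816 := rfl
def n161817 : Q := act 6 n77713
theorem D161817 : act 6 n77713 = n161817 := rfl
def n161818 : Q := act 7 n77713
theorem D161818 : act 7 n77713 = n161818 := rfl
def n161827 : Q := act 7 n77715
theorem D161827 : act 7 n77715 = n161827 := rfl
theorem F255802 : act 4 n161827 = n77716 := d11_1 D161827 (iv7 D77716) D77715
def n161830 : Q := act 3 n77723
theorem D161830 : act 3 n77723 = n161830 := rfl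
theorem F255805 : act 4 n161830 = n124369 := d20_6 F58947 F118583 (iv4 D35476) D35475 D77723 D161830 (iv1 D124369) (iv4 F116358) (iv3 D77500) (iv1 F117748)
def n161831 : Q := act 4 n77723
theorem D161831 : act 4 n77723 = n161831 := rfl
def n161832 : Q := act 5 n77723
theorem D161832 : act 5 n77723 = n161832 := rfl
def n161833 : Q := act 6 n77723
theorem D161833 : act 6 n77723 = n161833 := rfl
def n161836 : Q := act 4 n77724
theorem D161836 : act 4 n77724 = n161836 := rfl
def n161839 : Q := act 4 n77725
theorem D161839 : act 4 n77725 = n161839 := rfl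
theorem F255807 : act 2 n161839 = n77726 := d1_1 D161839 (iv4 D77726) D77725
theorem F255808 : act 1 n161839 = n105986 := d15_0 (iv0 F191376) F132664 (iv2 F255807)
def n161840 : Q := act 5 n77725
theorem D161840 : act 5 n77725 = n161840 := rfl
theorem F255809 : act 2 n161840 = n77727 := d2_1 D161840 (iv5 D77727) D77725
def n161841 : Q := act 6 n77725
theorem D161841 : act 6 n77725 = n161841 := rfl
theorem F255810 : act 2 n161841 = n77728 := d3_1 D161841 (iv6 D77728) D77725
def n161842 : Q := act 0 n77726
theorem D161842 : act 0 n77726 = n161842 := rfl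
theorem F255811 : act 3 n161842 = n78335 := d20_5 (iv4 F30573) D40297 (iv4 F132541) (iv3 F132545) D161842 (iv4 D78335) (iv1 D35704) (iv4 F56369) (iv3 D35692) (iv1 F121049)
theorem F255812 : act 4 n161842 = n155147 := d20_8 (iv4 D33846) (iv1 D16360) (iv4 F25865) F25864 D17200 D35475 D77726 D161842 (iv3 D155147) (iv1 F110332)
theorem F255813 : act 6 n149318 = n161842 := d7_0 F255811 (iv6 F191150) D149318
theorem F255814 : act 7 n105986 = n161842 := d8_0 F255811 F189944 (iv3 F162788)
def n161843 : Q := act 5 n77726
theorem D161843 : act 5 n77726 = n161843 := rfl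
def n161844 : Q := act 6 n77726
theorem D161844 : act 6 n77726 = n161844 := rfl
theorem F255815 : act 3 n161844 = n122609 := d7_1 D161844 F196407 (iv3 F132545)
def n161848 : Q := act 6 n77727
theorem D161848 : act 6 n77727 = n161848 := rfl
theorem F255817 : act 3 n161848 = n77739 := d7_1 D161848 (iv6 D77739) (iv3 F116598)
def n161849 : Q := act 0 n77728
theorem D161849 : act 0 n77728 = n161849 := rfl
def n161850 : Q := act 1 n77728
theorem D161850 : act 1 n77728 = n161850 := rfl
def n161851 : Q := act 5 n77728
theorem D161851 : act 5 n77728 = n161851 := rfl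
def n161854 : Q := act 4 n77733
theorem D161854 : act 4 n77733 = n161854 := rfl
theorem F255829 : act 5 n161854 = n77901 := d17_5 (iv1 F119118) (iv5 D38127) F118583 D77733 D161854 (iv0 D77901) (iv5 D35544) D35542 D77893
def n161855 : Q := act 6 n77733
theorem D161855 : act 6 n77733 = n161855 := rfl
theorem F255838 : act 5 n161855 = n122608 := d12_1 D161855 (iv6 D122608) F121241 (iv6 D77734) D77733
theorem F255839 : act 0 n161855 = n80621 := d21_10 (iv5 D80621) (iv1 D36792) (iv5 F56996) (iv6 D36256) F54670 (iv6 F58949) (iv5 D38127) F118583 D77733 D161855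
theorem F255840 : act 1 n161855 = n80617 := d15_1 (iv0 F255839) F126154 (iv2 F126156)
def n161857 : Q := act 4 n77736
theorem D161857 : act 4 n77736 = n161857 := rfl
theorem F255843 : act 0 n161857 = n77847 := d18_2 D77736 D161857 (iv4 D77847) (iv5 D35523) (iv4 D17211) F28117 (iv4 F56080) F56084 D35477
theorem F255844 : act 1 n161857 = n77809 := d18_6 (iv1 D122059) F89336 (iv1 F91320) (iv4 F116251) (iv5 F116608) D161857 (iv4 D77809) D77808 (iv5 F194910)
def n161861 : Q := act 0 n77738
theorem D161861 : act 0 n77738 = n161861 := rfl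
theorem F255848 : act 4 n161861 = n161419 := d18_3 (iv1 D77737) D77738 D161861 F255286 F123143 F129646 F118223 D122022 F194862
theorem F255849 : act 1 n77752 = n161861 := d15_0 (iv0 D161861) (iv7 F255227) F255226
def n161865 : Q := act 6 n77738
theorem D161865 : act 6 n77738 = n161865 := rfl
theorem F255853 : act 4 n161865 = n77739 := d10_1 D161865 (iv6 D77739) D77738
def n161870 : Q := act 4 n77742
theorem D161870 : act 4 n77742 = n161870 := rfl
theorem F255856 : act 2 n161870 = n80339 := d1_1 D161870 (iv4 D80339) (iv2 F117118)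
theorem F255857 : act 7 n161870 = n80336 := d11_2 (iv7 F118682) D161870 (iv4 D80336)
def n161871 : Q := act 2 n77744
theorem D161871 : act 2 n77744 = n161871 := rfl
theorem F255858 : act 7 n77745 = n161871 := d15_2 (iv0 D77744) D77745 (iv2 D161871)
def n161872 : Q := act 3 n77744
theorem D161872 : act 3 n77744 = n161872 := rfl
theorem F255859 : act 4 n161872 = n123269 := d20_6 F118588 (iv1 F116607) (iv4 D35481) D35480 D77744 D161872 (iv1 D123269) (iv4 F121528) (iv3 D77491) D77489
def n161873 : Q := act 4 n77744
theorem D161873 : act 4 n77744 = n161873 := rfl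
def n161876 : Q := act 7 n77744
theorem D161876 : act 7 n77744 = n161876 := rfl
theorem F255860 : act 2 n161876 = n77745 := d4_1 D161876 F255858 (iv2 D161871)
def n161877 : Q := act 3 n77745
theorem D161877 : act 3 n77745 = n161877 := rfl
def n161878 : Q := act 4 n77745
theorem D161878 : act 4 n77745 = n161878 := rfl
theorem F255861 : act 3 n84427 = n161878 := d20_5 F70003 (iv1 F121261) (iv4 D38930) D38929 D84427 (iv4 D161878) (iv1 D77745) D77747 F117123 (iv1 F121265)
def n161879 : Q := act 5 n77745
theorem D161879 : act 5 n77745 = n161879 := rfl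
def n161880 : Q := act 6 n77745
theorem D161880 : act 6 n77745 = n161880 := rfl
def n161881 : Q := act 4 n77746
theorem D161881 : act 4 n77746 = n161881 := rfl
theorem F255862 : act 2 n161881 = n77747 := d1_1 D161881 (iv4 D77747) D77746
theorem F255863 : act 7 n161881 = n84471 := d11_2 F255196 D161881 (iv4 F255195)
theorem F255864 : act 1 n84470 = n161881 := d15_1 D84470 F255863 (iv2 D84471)
theorem F255865 : act 3 n84500 = n161881 := d0_0 F255862 F117123 F116883 D38975 D84500
theorem F255866 : act 1 n161881 = n84469 := d15_0 (iv0 D84469) (iv7 F117124) (iv2 F255862)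
def n161882 : Q := act 5 n77746
theorem D161882 : act 5 n77746 = n161882 := rfl
theorem F255867 : act 2 n161882 = n77748 := d2_1 D161882 (iv5 D77748) D77746
def n161883 : Q := act 6 n77746
theorem D161883 : act 6 n77746 = n161883 := rfl
theorem F255868 : act 2 n161883 = n77749 := d3_1 D161883 (iv6 D77749) D77746
def n161884 : Q := act 0 n77747
theorem D161884 : act 0 n77747 = n161884 := rfl
theorem F255869 : act 3 n161884 = n155216 := d20_5 F29680 (iv1 F29660) D38900 (iv3 F117123) D161884 F244108 (iv1 D120876) (iv4 F129407) (iv3 D84348) F59925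
theorem F255871 : act 1 n84471 = n161884 := d15_0 (iv0 D161884) F117124 D84471
def n161885 : Q := act 1 n77747
theorem D161885 : act 1 n77747 = n161885 := rfl
theorem F255872 : act 1 n161885 = n84471 := d15_1 D161885 (iv7 F255863) F255862
theorem F255873 : act 4 n155149 = n161885 := d20_0 (iv1 D161885) (iv4 D77747) (iv3 D35480) (iv1 D17201) (iv3 F25864) F25865 D16359 D33841 D73641 D155149
theorem F255874 : act 3 n77802 = n155149 := d20_5 F12864 D8070 D17206 D35503 D77802 F255873 (iv1 D161885) (iv4 D77747) (iv3 D35480) (iv1 D17201)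
def n161886 : Q := act 5 n77747
theorem D161886 : act 5 n77747 = n161886 := rfl
theorem F255875 : act 3 n161886 = n84360 := d6_1 D161886 (iv5 D84360) (iv3 F117123)
def n161887 : Q := act 6 n77747
theorem D161887 : act 6 n77747 = n161887 := rfl
theorem F255877 : act 3 n161887 = n84361 := d7_1 D161887 (iv6 D84361) (iv3 F117123)
def n161888 : Q := act 0 n77748
theorem D161888 : act 0 n77748 = n161888 := rfl
def n161889 : Q := act 1 n77748
theorem D161889 : act 1 n77748 = n161889 := rfl
def n161890 : Q := act 4 n77748
theorem D161890 : act 4 n77748 = n161890 := rfl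
def n161891 : Q := act 6 n77748
theorem D161891 : act 6 n77748 = n161891 := rfl
theorem F255879 : act 3 n161891 = n77753 := d7_1 D161891 (iv6 D77753) (iv3 F117125)
def n161896 : Q := act 4 n77750
theorem D161896 : act 4 n77750 = n161896 := rfl
theorem F255886 : act 1 n161896 = n77814 := d18_6 (iv1 F28118) (iv4 F56080) (iv1 F56082) D35481 D77750 D161896 (iv4 D77814) (iv0 D35507) (iv5 D17207)
def n161897 : Q := act 0 n77751
theorem D161897 : act 0 n77751 = n161897 := rfl
theorem F255887 : act 5 n161897 = n79152 := d17_1 D161897 (iv1 F122232) F122228 (iv4 F89306) (iv5 F194837) F194839 (iv5 F126167) (iv0 D77754) (iv4 F117130)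
theorem F255888 : act 4 n161897 = n161175 := d18_1 D161897 (iv1 F254858) F118746 (iv5 F88790) (iv4 F193948) F255359 (iv4 D158833) D158832 (iv5 F250082)
theorem F255889 : act 1 n161174 = n80287 := d18_6 F123274 (iv4 F117130) D161897 F255888 (iv5 D161175) D161174 (iv4 D80287) D80286 (iv5 F123378)
theorem F255890 : act 6 n161897 = n83339 := d21_5 D158767 F249956 (iv5 D77750) D77751 D161897 F129650 F129277 (iv5 D37983) D37984 (iv1 F129646)
theorem F255891 : act 1 n84139 = n161897 := d15_0 (iv0 D161897) (iv7 F125670) (iv2 F129186)
theorem F255892 : act 7 n161897 = n80618 := d15_2 (iv0 F194377) F255891 (iv2 F194373)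
def n161907 : Q := act 0 n77759
theorem D161907 : act 0 n77759 = n161907 := rfl
def n161908 : Q := act 1 n77759
theorem D161908 : act 1 n77759 = n161908 := rfl
def n161909 : Q := act 2 n77759
theorem D161909 : act 2 n77759 = n161909 := rfl
def n161910 : Q := act 4 n77759
theorem D161910 : act 4 n77759 = n161910 := rfl
def n161912 : Q := act 6 n77759
theorem D161912 : act 6 n77759 = n161912 := rfl
theorem F255903 : act 3 n161912 = n77762 := d7_1 D161912 (iv6 D77762) D77759
def n161917 : Q := act 6 n77760
theorem D161917 : act 6 n77760 = n161917 := rfl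
theorem F255911 : act 4 n161917 = n77762 := d10_1 D161917 (iv6 D77762) D77760
def n161918 : Q := act 0 n77762
theorem D161918 : act 0 n77762 = n161918 := rfl
def n161919 : Q := act 1 n77762
theorem D161919 : act 1 n77762 = n161919 := rfl
def n161920 : Q := act 5 n77762
theorem D161920 : act 5 n77762 = n161920 := rfl
def n161921 : Q := act 7 n77762
theorem D161921 : act 7 n77762 = n161921 := rfl
def n161922 : Q := act 0 n77764
theorem D161922 : act 0 n77764 = n161922 := rfl
def n161923 : Q := act 1 n77764
theorem D161923 : act 1 n77764 = n161923 := rfl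
def n161924 : Q := act 2 n77764
theorem D161924 : act 2 n77764 = n161924 := rfl
def n161925 : Q := act 4 n77764
theorem D161925 : act 4 n77764 = n161925 := rfl
def n161926 : Q := act 5 n77764
theorem D161926 : act 5 n77764 = n161926 := rfl
theorem F255912 : act 3 n161926 = n77766 := d6_1 D161926 (iv5 D77766) D77764
theorem F255914 : act 6 n96821 = n161926 := d7_0 F255912 F117134 D96821
def n161927 : Q := act 6 n77764
theorem D161927 : act 6 n77764 = n161927 := rfl
def n161930 : Q := act 6 n77765
theorem D161930 : act 6 n77765 = n161930 := rfl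
theorem F255917 : act 4 n161930 = n77767 := d10_1 D161930 (iv6 D77767) D77765
def n161933 : Q := act 5 n77767
theorem D161933 : act 5 n77767 = n161933 := rfl
theorem F255919 : act 6 n161933 = n96822 := d12_2 D77767 D161933 (iv5 D96822) (iv6 F117134) (iv5 D77766)
def n161952 : Q := act 4 n77783
theorem D161952 : act 4 n77783 = n161952 := rfl
theorem F255931 : act 2 n161952 = n77789 := d1_1 D161952 (iv4 D77789) (iv2 F117145)
theorem F255932 : act 6 n161952 = n125282 := d10_2 F151438 D161952 F201483
theorem F255933 : act 7 n161952 = n159183 := d11_2 F135905 D161952 F250663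
theorem F255934 : act 5 n161952 = n124455 := d17_5 F122714 F122712 F118766 D77783 D161952 (iv0 D124455) (iv5 D58039) D58037 (iv4 F116378)
def n161955 : Q := act 2 n77785
theorem D161955 : act 2 n77785 = n161955 := rfl
theorem F255938 : act 3 n161955 = n124361 := d0_2 D77785 D161955 (iv2 D124361) (iv3 D57977) (iv2 F91360)
theorem F255939 : act 4 n161955 = n77804 := d1_2 (iv4 F117148) D161955 (iv2 D77804)
theorem F255940 : act 7 n161955 = n124370 := d4_2 (iv7 F117149) D161955 (iv2 D124370)
theorem F255944 : act 1 n124369 = n161955 := d15_1 D124369 F255940 (iv2 D124370)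
theorem E23937 : n161830 = n155125 := (c20_1 (iv4 F255805) (iv1 D155125) (iv4 F242121) (iv3 D154069) (iv1 D72945) (iv3 F109456) F109457 D72962 (iv4 F198894) (iv3 F255938) (iv1 F255944))
theorem F255945 : act 3 n155125 = n77723 := (sb E23937 (iv3 D161830))
theorem F255946 : act 4 n155125 = n124369 := (sb E23937 F255805)
def n161956 : Q := act 5 n77785
theorem D161956 : act 5 n77785 = n161956 := rfl
theorem F255947 : act 3 n161956 = n77786 := d6_1 D161956 (iv5 D77786) D77785
theorem F255948 : act 7 n161956 = n124371 := d13_2 (iv7 F117149) D161956 (iv5 D124371)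
def n161957 : Q := act 1 n77786
theorem D161957 : act 1 n77786 = n161957 := rfl
theorem F255951 : act 5 n161957 = n159139 := d17_7 (iv1 F250602) F194894 (iv1 D77788) (iv5 D35498) D35497 D77786 D161957 F250568 D159164
def n161958 : Q := act 4 n77786
theorem D161958 : act 4 n77786 = n161958 := rfl
theorem F255953 : act 2 n161958 = n124366 := d1_1 D161958 (iv4 D124366) (iv2 F117150)
theorem F255954 : act 7 n161958 = n124373 := d11_2 (iv7 F117151) D161958 (iv4 D124373)
def n161959 : Q := act 6 n77786
theorem D161959 : act 6 n77786 = n161959 := rfl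
theorem F255955 : act 2 n161959 = n124367 := d3_1 D161959 (iv6 D124367) (iv2 F117150)
theorem F255956 : act 5 n161959 = n122431 := d12_1 D161959 (iv6 D122431) (iv5 F91578) F91577 D77786
def n161960 : Q := act 1 n77789
theorem D161960 : act 1 n77789 = n161960 := rfl
theorem F255957 : act 1 n161960 = n159183 := d15_1 D161960 (iv7 F255933) F255931
theorem F255959 : act 4 n161960 = n124327 := d18_7 (iv1 D27654) (iv4 F44577) F56183 (iv4 D35497) D35498 D77789 D161960 F198827 (iv5 D57963)
def n161961 : Q := act 3 n77789
theorem D161961 : act 3 n77789 = n161961 := rfl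
def n161962 : Q := act 5 n77789
theorem D161962 : act 5 n77789 = n161962 := rfl
theorem F255962 : act 2 n161962 = n124455 := d2_1 D161962 (iv5 F255934) F255931
theorem F255963 : act 7 n161962 = n124456 := d13_2 F255320 D161962 F255323
theorem F255964 : act 0 n161962 = n124459 := d17_2 (iv1 D161960) D161962 F199046 F91803 F44610 F44586 D57960 D124327 (iv4 F255959)
theorem F255965 : act 1 n161962 = n124334 := d17_6 (iv1 D88645) (iv5 D41378) (iv1 F118760) D35498 D77789 D161962 (iv5 D124334) D124332 F198847
def n161963 : Q := act 0 n77794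
theorem D161963 : act 0 n77794 = n161963 := rfl
def n161964 : Q := act 1 n77794
theorem D161964 : act 1 n77794 = n161964 := rfl
def n161965 : Q := act 2 n77794
theorem D161965 : act 2 n77794 = n161965 := rfl
def n161966 : Q := act 5 n77794
theorem D161966 : act 5 n77794 = n161966 := rfl
theorem F255966 : act 3 n161966 = n77795 := d6_1 D161966 (iv5 D77795) D77794
def n161975 : Q := act 4 n77803
theorem D161975 : act 4 n77803 = n161975 := rfl
theorem F255974 : act 0 n154069 = n161975 := d20_10 (iv4 D161975) (iv1 D77803) (iv4 F117148) (iv3 D77785) F56182 (iv3 F85894) F85895 (iv1 F85867) (iv4 F190691) D154069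
def n161979 : Q := act 6 n77804
theorem D161979 : act 6 n77804 = n161979 := rfl
theorem F255976 : act 2 n161979 = n77806 := d3_1 D161979 (iv6 D77806) D77804
def n161983 : Q := act 6 n77805
theorem D161983 : act 6 n77805 = n161983 := rfl
theorem F255977 : act 3 n161983 = n77810 := d7_1 D161983 (iv6 D77810) (iv3 F117630)
def n161987 : Q := act 3 n77807
theorem D161987 : act 3 n77807 = n161987 := rfl
theorem F255979 : act 5 n161987 = n158772 := d6_2 (iv5 F117865) D161987 F249960
def n161988 : Q := act 4 n77807
theorem D161988 : act 4 n77807 = n161988 := rfl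
def n161989 : Q := act 6 n77807
theorem D161989 : act 6 n77807 = n161989 := rfl
theorem F255984 : act 5 n161989 = n158776 := d12_1 D161989 (iv6 D158776) (iv5 D75744) D75745 (iv5 F117865)
def n161990 : Q := act 3 n77808
theorem D161990 : act 3 n77808 = n161990 := rfl
def n161994 : Q := act 6 n77809
theorem D161994 : act 6 n77809 = n161994 := rfl
theorem F255989 : act 4 n161994 = n77810 := d10_1 D161994 (iv6 D77810) D77809
def n161997 : Q := act 5 n77810
theorem D161997 : act 5 n77810 = n161997 := rfl
theorem F255990 : act 6 n161997 = n77813 := d12_2 D77810 D161997 (iv5 D77813) (iv6 D35505) D35504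
def n162000 : Q := act 1 n77813
theorem D162000 : act 1 n77813 = n162000 := rfl
theorem F255993 : act 5 n162000 = n80149 := d17_7 (iv1 F28658) F13123 (iv1 F28654) (iv5 F28655) (iv4 F56188) D77813 D162000 (iv0 D80149) (iv4 D36502)
def n162001 : Q := act 4 n77813
theorem D162001 : act 4 n77813 = n162001 := rfl
def n162002 : Q := act 3 n77814
theorem D162002 : act 3 n77814 = n162002 := rfl
def n162005 : Q := act 5 n77815
theorem D162005 : act 5 n77815 = n162005 := rfl
theorem F256004 : act 1 n162005 = n161449 := d17_6 D35388 (iv5 F116252) (iv1 F116257) F89354 D77815 D162005 (iv5 D161449) (iv0 D77510) (iv4 D35390)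
theorem E23938 : n121610 = n121178 := ((c21_4 D161449 (iv1 F256004) (iv5 D162005) (iv6 F193260) (iv1 D121610) (iv6 D56166) D56165 F88841 (iv5 D35397) (iv6 F56092) D77510)).symm
theorem F256005 : act 0 n121178 = n56166 := (sb E23938 (iv1 D121610))
theorem E23939 : n121609 = n121586 := ((c15_4 (iv0 D121609) (iv0 F256005) F193261 (iv2 F194025))).symm
theorem F256006 : act 1 n121586 = n56166 := (sb E23939 (iv0 D121609))
def n162006 : Q := act 3 n77816
theorem D162006 : act 3 n77816 = n162006 := rfl
theorem F256007 : act 4 n162006 = n158809 := d5_2 (iv4 F117867) D162006 (iv3 D158809) (iv4 D75768) (iv3 F113613)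
def n162008 : Q := act 6 n77816
theorem D162008 : act 6 n77816 = n162008 := rfl
theorem F256010 : act 4 n162008 = n79149 := d10_1 D162008 F120433 (iv4 F117867)
theorem F256011 : act 7 n162008 = n158833 := d14_2 F255306 D162008 F250084 F194020 F255309
theorem F256014 : act 1 n77859 = n162008 := d18_6 F125671 (iv4 F123960) F123510 F56202 D35529 D77859 F256010 (iv0 F128456) F128454
def n162018 : Q := act 1 n77820
theorem D162018 : act 1 n77820 = n162018 := rfl
def n162019 : Q := act 5 n77820
theorem D162019 : act 5 n77820 = n162019 := rfl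
theorem F256021 : act 1 n162019 = n161558 := d17_6 (iv1 F56261) F91263 F91259 F57340 (iv4 F117637) D162019 (iv5 D161558) F119189 F119187
def n162020 : Q := act 4 n77828
theorem D162020 : act 4 n77828 = n162020 := rfl
theorem F256022 : act 2 n162020 = n77836 := d1_1 D162020 (iv4 D77836) (iv2 F117647)
theorem F256023 : act 6 n162020 = n124248 := d10_2 F253348 D162020 F253384
theorem F256024 : act 1 n162020 = n120551 := d18_6 (iv1 F44313) (iv4 F90268) (iv1 F90271) (iv4 F121190) D77828 D162020 (iv4 D120551) (iv0 F87796) (iv5 D27472)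
theorem F256026 : act 5 n123341 = n162020 := d17_7 (iv1 F90593) (iv5 D27477) (iv1 D13146) D13147 D27481 D57439 D123341 F256024 (iv4 D120551)
def n162021 : Q := act 5 n77829
theorem D162021 : act 5 n77829 = n162021 := rfl
theorem F256031 : act 1 n162021 = n80203 := d17_6 (iv1 F115465) D160282 F253153 (iv5 D123285) F121524 D162021 (iv5 D80203) (iv0 D36535) (iv4 F57382)
theorem F256032 : act 0 n160813 = n77878 := d21_4 (iv5 D162021) (iv1 F253187) F193062 D160813 (iv6 D77878) (iv5 F120746) (iv1 F196756) (iv5 F255261) (iv6 F255266) (iv1 F256031)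
def n162022 : Q := act 0 n77831
theorem D162022 : act 0 n77831 = n162022 := rfl
theorem F256033 : act 1 n123270 = n162022 := d15_0 (iv0 D162022) (iv7 F121526) D123270
def n162023 : Q := act 1 n77831
theorem D162023 : act 1 n77831 = n162023 := rfl
def n162024 : Q := act 2 n77831
theorem D162024 : act 2 n77831 = n162024 := rfl
theorem F256034 : act 3 n162024 = n123277 := d0_2 D77831 D162024 (iv2 D123277) (iv3 D57380) (iv2 F121188)
theorem F256035 : act 4 n162024 = n77844 := d1_2 (iv4 F117649) D162024 (iv2 D77844)
theorem F256036 : act 7 n162024 = n123270 := d4_2 F121526 D162024 (iv2 D123270)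
theorem F256037 : act 1 n162024 = n123268 := d15_0 (iv0 D123268) F121526 D162024
theorem F256038 : act 1 n162023 = n123270 := d15_1 D162023 (iv7 F256036) (iv2 D162024)
theorem F256039 : act 1 n123269 = n162024 := d15_1 D123269 F256036 (iv2 D123270)
def n162025 : Q := act 5 n77831
theorem D162025 : act 5 n77831 = n162025 := rfl
theorem F256040 : act 3 n162025 = n77832 := d6_1 D162025 (iv5 D77832) D77831
theorem F256041 : act 7 n162025 = n123271 := d13_2 F121526 D162025 (iv5 D123271)
def n162026 : Q := act 6 n77831
theorem D162026 : act 6 n77831 = n162026 := rfl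
theorem F256042 : act 3 n162026 = n77833 := d7_1 D162026 (iv6 D77833) D77831
theorem F256043 : act 4 n162026 = n77846 := d10_1 D162026 (iv6 D77846) (iv4 F117649)
def n162027 : Q := act 0 n77832
theorem D162027 : act 0 n77832 = n162027 := rfl
theorem F256044 : act 5 n162027 = n120548 := d17_3 (iv1 F121074) D77832 D162027 F192033 F121557 (iv0 F121070) (iv5 D57230) F44306 (iv4 F44391)
theorem F256045 : act 1 n123002 = n162027 := d15_0 (iv0 D162027) (iv7 F121527) (iv2 F197068)
def n162028 : Q := act 1 n77832
theorem D162028 : act 1 n77832 = n162028 := rfl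
theorem F256048 : act 1 n162028 = n123002 := d15_1 D162028 F197069 F121529
theorem F256050 : act 5 n162028 = n120328 := d17_7 (iv1 F196473) (iv5 F123183) (iv1 D77835) (iv5 D35520) D35519 D77832 D162028 F192035 (iv4 F196471)
def n162029 : Q := act 4 n77832
theorem D162029 : act 4 n77832 = n162029 := rfl
theorem F256052 : act 2 n162029 = n123281 := d1_1 D162029 (iv4 D123281) F121529
theorem F256053 : act 7 n162029 = n123274 := d11_2 F121527 D162029 (iv4 D123274)
def n162030 : Q := act 6 n77832
theorem D162030 : act 6 n77832 = n162030 := rfl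
theorem F256054 : act 2 n162030 = n123282 := d3_1 D162030 (iv6 D123282) F121529
def n162031 : Q := act 0 n77833
theorem D162031 : act 0 n77833 = n162031 := rfl
theorem F256055 : act 4 n162031 = n81812 := d18_3 (iv1 D77839) (iv4 F117650) D162031 (iv5 F125754) D160287 (iv0 F253170) (iv4 D80209) D80208 (iv5 F193066)
theorem F256056 : act 0 n154425 = n77846 := d20_7 F256055 (iv1 D81812) (iv4 F125750) (iv3 F190626) (iv1 D73163) (iv3 F109633) (iv4 F242471) (iv4 F256043) F256042 D162031
theorem F256057 : act 6 n162031 = n123435 := d21_5 (iv5 F256050) (iv1 D162028) (iv5 D77832) D77833 D162031 (iv5 F197816) (iv1 D122885) (iv5 D57126) D57127 (iv1 F192035)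
theorem F256058 : act 2 n123283 = n162031 := d15_3 (iv0 D162031) (iv0 F126201) (iv7 F253192)
theorem F256059 : act 7 n162031 = n122573 := d4_2 (iv7 F253192) F256058 F196289
theorem F256060 : act 1 n123286 = n162031 := d15_1 F197572 F256059 F196289
def n162033 : Q := act 5 n77834
theorem D162033 : act 5 n77834 = n162033 := rfl
theorem F256069 : act 1 n162033 = n122811 := d17_8 F197579 (iv5 F256044) (iv1 F256045) (iv5 D123002) (iv4 F121517) D120261 F191476 D162033 (iv4 F197575)
theorem F256070 : act 6 n80389 = n162033 := d21_5 (iv5 F123536) (iv1 D80388) (iv5 D36634) D36635 D80389 (iv5 D162033) (iv1 F191476) (iv5 D120261) (iv6 F123519) F123518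
theorem F256071 : act 0 n162033 = n122630 := d21_4 (iv5 F56254) D77967 (iv5 F196257) F256070 (iv6 D122630) D122629 F196466 (iv5 F194932) (iv6 D121422) (iv1 D56046)
def n162034 : Q := act 6 n77834
theorem D162034 : act 6 n77834 = n162034 := rfl
theorem F256072 : act 3 n162034 = n79626 := d7_1 D162034 (iv6 F192778) (iv3 F192781)
theorem F256073 : act 0 n162034 = n77939 := d21_4 (iv5 F196759) (iv1 F256069) (iv5 D162033) D162034 (iv6 D77939) (iv5 D35560) F30569 D35107 (iv6 F115292) F120902
theorem F256074 : act 1 n162034 = n77945 := d15_1 (iv0 F256073) (iv7 D77945) (iv2 F119153)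
def n162035 : Q := act 3 n77836
theorem D162035 : act 3 n77836 = n162035 := rfl
theorem F256075 : act 4 n162035 = n77853 := d5_2 D77836 D162035 (iv3 D77853) (iv4 D35525) (iv3 F56200)
def n162036 : Q := act 5 n77836
theorem D162036 : act 5 n77836 = n162036 := rfl
theorem F256076 : act 2 n162036 = n123341 := d2_1 D162036 F256026 F256022
theorem F256079 : act 1 n162036 = n123344 := d17_6 (iv1 F191481) (iv5 D77825) (iv1 D35517) D35520 D77836 D162036 F197653 F197114 F197111
def n162038 : Q := act 6 n77838
theorem D162038 : act 6 n77838 = n162038 := rfl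
theorem F256085 : act 5 n162038 = n122068 := d21_6 (iv5 F123183) (iv1 D77835) (iv5 D35520) D35521 D77838 D162038 (iv1 F196468) (iv5 D122629) D122630 (iv1 F196473)
theorem F256086 : act 0 n122815 = n162038 := d17_0 F256085 (iv1 F196468) (iv5 D122629) F120963 D57126 D122885 F197816 (iv0 F198535) F198532
def n162039 : Q := act 0 n77840
theorem D162039 : act 0 n77840 = n162039 := rfl
theorem F256087 : act 5 n162039 = n80195 := d17_3 (iv1 D77839) D77840 D162039 F123178 D160277 (iv0 F253138) (iv5 D123317) (iv0 F196241) F196239
theorem F256088 : act 2 n80205 = n162039 := d15_3 (iv0 D162039) (iv0 F121550) (iv7 F123213)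
theorem F256089 : act 1 n160777 = n162039 := d15_0 (iv0 D162039) F193947 (iv2 F253920)
theorem F256090 : act 7 n162039 = n80203 := d15_2 D160777 F256089 F123206
theorem F256091 : act 3 n80668 = n162039 := d8_3 F256090 (iv3 F133620) F133621
theorem F256092 : act 6 n77943 = n162039 := d21_5 F55974 (iv1 D17228) D17231 D35562 D77943 F256087 (iv1 D80195) D80196 F123181 F87583
theorem F256093 : act 2 n121150 = n77943 := d3_3 F256092 (iv2 F256088) (iv6 F193210)
theorem F256094 : act 7 n162034 = n77943 := d14_0 F256092 F256090 F255266 F255265 D162034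
theorem F256095 : act 7 n77944 = n121150 := d15_2 (iv0 D77943) D77944 F256093
theorem F256096 : act 2 n77944 = n162034 := d4_3 F256094 (iv2 F256093) (iv7 F256095)
theorem F256097 : act 3 n121050 = n77944 := d0_0 F256096 F256072 F193217 (iv3 D121153) (iv2 F193039)
theorem F256098 : act 6 n121048 = n77944 := d3_0 F256096 (iv6 D162034) (iv2 F193031)
theorem F256099 : act 1 n77945 = n121150 := d15_1 F256074 (iv7 F256095) F256096
theorem F256100 : act 3 n120955 = n158017 := d20_9 (iv4 F248946) (iv1 F255420) (iv4 D121151) D121150 (iv1 F256099) F119159 (iv4 F119171) (iv1 F194012) (iv4 F199071) (iv1 D158017)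
theorem E23940 : n79664 = n79641 := (c20_8 (iv4 F119171) (iv1 F194012) (iv4 F199071) F256100 (iv1 D158017) (iv3 F116398) F116399 D79664 (iv4 D79641) F91289 (iv1 F88821))
theorem F256102 : act 1 n79641 = n36279 := (sb E23940 (iv0 D79664))
theorem E23941 : n79665 = n78595 := (c15_2 F256102 D79665 (iv7 F192925) F192923)
theorem F256103 : act 0 n78595 = n36279 := (sb E23941 (iv1 D79665))
theorem F256104 : act 4 n77944 = n121276 := d20_6 (iv4 F114141) (iv1 F88463) F88459 (iv3 F88444) (iv1 F193043) F256097 (iv1 D121276) F88534 F43545 D26983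
theorem F256105 : act 6 n121276 = n84560 := d10_2 F256098 F256104 (iv4 F193033)
def n162040 : Q := act 5 n77843
theorem D162040 : act 5 n77843 = n162040 := rfl
def n162042 : Q := act 6 n77844
theorem D162042 : act 6 n77844 = n162042 := rfl
theorem F256107 : act 2 n162042 = n77846 := d3_1 D162042 (iv6 D77846) D77844
def n162043 : Q := act 0 n77845
theorem D162043 : act 0 n77845 = n162043 := rfl
def n162044 : Q := act 1 n77845
theorem D162044 : act 1 n77845 = n162044 := rfl
def n162045 : Q := act 4 n77845
theorem D162045 : act 4 n77845 = n162045 := rfl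
def n162046 : Q := act 6 n77845
theorem D162046 : act 6 n77845 = n162046 := rfl
theorem F256108 : act 3 n162046 = n77848 := d7_1 D162046 (iv6 D77848) (iv3 F117654)
def n162053 : Q := act 1 n77848
theorem D162053 : act 1 n77848 = n162053 := rfl
def n162054 : Q := act 5 n77848
theorem D162054 : act 5 n77848 = n162054 := rfl
theorem F256112 : act 6 n162054 = n77851 := d12_2 D77848 D162054 (iv5 D77851) (iv6 D35524) D35523
def n162056 : Q := act 3 n77849
theorem D162056 : act 3 n77849 = n162056 := rfl
def n162057 : Q := act 4 n77849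
theorem D162057 : act 4 n77849 = n162057 := rfl
theorem F256114 : act 6 n162057 = n124568 := d10_2 (iv6 F193876) D162057 F199240
theorem F256116 : act 5 n162057 = n79582 := d17_5 (iv1 D36546) D36547 D80230 F123263 D162057 (iv0 D79582) F56963 (iv0 F116781) (iv4 F91499)
theorem F256117 : act 0 n162057 = n81752 := d17_0 (iv5 F128454) F128456 (iv5 D79149) F117067 D77370 D161162 (iv5 F254839) F123511 D162057
def n162066 : Q := act 0 n77855
theorem D162066 : act 0 n77855 = n162066 := rfl
theorem F256129 : act 1 n161223 = n162066 := d15_0 (iv0 D162066) (iv7 F194101) (iv2 F254908)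
theorem F256130 : act 7 n162066 = n77921 := d15_2 (iv0 F254911) F256129 (iv2 F129338)
def n162069 : Q := act 0 n77859
theorem D162069 : act 0 n77859 = n162069 := rfl
theorem F256133 : act 4 n162069 = n79150 := d18_3 F56204 D77859 D162069 (iv5 D79150) F117071 F57414 F57411 F28708 D35328
theorem F256134 : act 2 n158833 = n162069 := d15_3 (iv0 D162069) F256014 F256011
theorem F256136 : act 6 n162069 = n77957 := d3_2 (iv6 F250084) F256134 (iv2 F194022)
def n162072 : Q := act 6 n77862
theorem D162072 : act 6 n77862 = n162072 := rfl
theorem F256139 : act 4 n162072 = n124446 := d10_1 D162072 (iv6 D124446) F118753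
theorem F256141 : act 5 n162072 = n84639 := d21_6 F43721 F31169 (iv5 F57172) D79948 (iv1 F122715) D162072 F129822 (iv5 F74944) (iv6 D47668) F43723
theorem F256143 : act 7 n84698 = n162072 := d13_0 F256141 F129820 D84698
theorem F256144 : act 0 n121500 = n162072 := d17_2 D80356 (iv5 F193854) F256141 (iv4 D84639) D84640 (iv0 F250720) (iv5 D159225) (iv0 F123443) F123441
theorem F256145 : act 0 n124625 = n124446 := d18_2 (iv1 F117559) D124625 (iv4 F256139) F256141 (iv4 D84639) F60094 F29819 F29806 D39094
def n162073 : Q := act 3 n77863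
theorem D162073 : act 3 n77863 = n162073 := rfl
theorem F256146 : act 4 n162073 = n77868 := d5_2 D77863 D162073 (iv3 D77868) (iv4 D35533) D35532
def n162074 : Q := act 5 n77863
theorem D162074 : act 5 n77863 = n162074 := rfl
theorem F256148 : act 2 n162074 = n124445 := d2_1 D162074 (iv5 D124445) (iv2 F118752)
theorem F256149 : act 7 n162074 = n124448 := d13_2 (iv7 F118749) D162074 (iv5 D124448)
def n162075 : Q := act 6 n77863
theorem D162075 : act 6 n77863 = n162075 := rfl
theorem F256150 : act 2 n162075 = n124446 := d3_1 D162075 (iv6 D124446) (iv2 F118752)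
theorem F256151 : act 4 n162075 = n77865 := d10_1 D162075 (iv6 D77865) D77863
theorem F256152 : act 5 n162075 = n84804 := d21_6 D75224 (iv1 F132161) F132159 (iv6 F91710) F119112 D162075 (iv1 D84804) (iv5 D39188) F29822 D34444
theorem F256154 : act 7 n121502 = n162075 := d11_0 F256151 (iv7 F118758) D121502
theorem F256155 : act 0 n162075 = n84749 := d20_1 (iv4 F256151) (iv4 D84749) F117436 (iv1 D18602) F117936 D38453 D83441 (iv4 F136084) (iv3 F254714) F254716
def n162081 : Q := act 6 n77868
theorem D162081 : act 6 n77868 = n162081 := rfl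
theorem F256157 : act 3 n162081 = n77870 := d7_1 D162081 (iv6 D77870) D77868
def n162086 : Q := act 1 n77870
theorem D162086 : act 1 n77870 = n162086 := rfl
theorem F256174 : act 4 n162086 = n83334 := d18_7 (iv1 F59242) (iv4 F128386) (iv1 F128388) F118563 (iv5 F56206) (iv4 F119085) D162086 (iv0 D83334) (iv5 D38390)
def n162087 : Q := act 5 n77870
theorem D162087 : act 5 n77870 = n162087 := rfl
theorem F256176 : act 2 n162087 = n121540 := d2_1 D162087 (iv5 D121540) (iv2 F119084)
theorem F256178 : act 0 n162087 = n83348 := d17_2 (iv1 D162086) D162087 (iv5 D83348) (iv4 D38399) (iv5 D18316) D18315 D38395 F128439 (iv4 F256174)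
def n162088 : Q := act 3 n77871
theorem D162088 : act 3 n77871 = n162088 := rfl
theorem F256179 : act 7 n162088 = n122054 := d8_2 (iv7 F119087) D162088 F194903
def n162089 : Q := act 4 n77872
theorem D162089 : act 4 n77872 = n162089 := rfl
theorem F256184 : act 0 n77890 = n162089 := d20_1 F128393 (iv4 D162089) F120533 (iv1 D79241) (iv3 F118460) D88742 (iv1 F199367) (iv4 D124637) F199221 (iv1 F199220)
def n162090 : Q := act 6 n77875
theorem D162090 : act 6 n77875 = n162090 := rfl
theorem F256186 : act 4 n162090 = n123334 := d10_1 D162090 (iv6 D123334) (iv4 F135916)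
def n162093 : Q := act 6 n77876
theorem D162093 : act 6 n77876 = n162093 := rfl
theorem F256192 : act 4 n162093 = n77878 := d10_1 D162093 (iv6 D77878) D77876
theorem F256193 : act 0 n160380 = n162093 := d20_1 (iv4 F253334) F256192 F119094 D77883 F126065 D78405 (iv1 F119605) F92014 (iv3 F120667) F115498
def n162094 : Q := act 0 n77878
theorem D162094 : act 0 n77878 = n162094 := rfl
def n162102 : Q := act 0 n77881
theorem D162102 : act 0 n77881 = n162102 := rfl
def n162103 : Q := act 1 n77881
theorem D162103 : act 1 n77881 = n162103 := rfl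
theorem F256199 : act 1 n162103 = n121524 := d15_1 D162103 (iv7 F255375) F255373
def n162105 : Q := act 7 n77881
theorem D162105 : act 7 n77881 = n162105 := rfl
theorem F256200 : act 2 n162105 = n121524 := d4_1 D162105 (iv7 F255375) F255373
theorem F256203 : act 1 n121524 = n162102 := d15_0 (iv0 D162102) D162105 F256200
def n162112 : Q := act 4 n77887
theorem D162112 : act 4 n77887 = n162112 := rfl
def n162114 : Q := act 6 n77887
theorem D162114 : act 6 n77887 = n162114 := rfl
theorem F256209 : act 3 n162114 = n77890 := d7_1 D162114 (iv6 D77890) D77887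
def n162118 : Q := act 5 n77890
theorem D162118 : act 5 n77890 = n162118 := rfl
theorem F256219 : act 7 n162118 = n121563 := d13_2 F128442 D162118 F193959
def n162122 : Q := act 4 n77892
theorem D162122 : act 4 n77892 = n162122 := rfl
theorem F256222 : act 3 n162122 = n84365 := d5_1 D162122 (iv4 D84365) F119109 (iv4 D77893) D77892
def n162124 : Q := act 6 n77892
theorem D162124 : act 6 n77892 = n162124 := rfl
theorem F256225 : act 3 n162124 = n77895 := d7_1 D162124 (iv6 D77895) D77892
def n162125 : Q := act 6 n77893
theorem D162125 : act 6 n77893 = n162125 := rfl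
theorem F256226 : act 3 n162125 = n84366 := d7_1 D162125 (iv6 D84366) F119109
theorem F256227 : act 4 n162125 = n77895 := d10_1 D162125 (iv6 D77895) D77893
theorem F256229 : act 7 n162125 = n124567 := d14_2 (iv7 F119111) D162125 (iv6 D124567) (iv7 F118436) F118438
def n162128 : Q := act 5 n77895
theorem D162128 : act 5 n77895 = n162128 := rfl
def n162129 : Q := act 7 n77895
theorem D162129 : act 7 n77895 = n162129 := rfl
theorem F256231 : act 4 n162129 = n124567 := d11_1 D162129 (iv7 F256229) F256227
def n162130 : Q := act 0 n77896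
theorem D162130 : act 0 n77896 = n162130 := rfl
theorem F256233 : act 2 n77900 = n162130 := d15_3 (iv0 D162130) (iv0 D77896) D77900
theorem F256234 : act 4 n162130 = n78422 := d1_2 (iv4 F119123) F256233 (iv2 F119619)
theorem F256235 : act 7 n162130 = n77898 := d4_2 D77900 F256233 (iv2 D77898)
theorem F256236 : act 1 n77897 = n162130 := d15_1 D77897 F256235 (iv2 D77898)
def n162138 : Q := act 4 n77897
theorem D162138 : act 4 n77897 = n162138 := rfl
theorem F256239 : act 3 n124492 = n162138 := d20_5 F43479 (iv1 F22023) (iv4 F44704) (iv3 F91893) (iv1 F199120) (iv4 D162138) (iv1 D77897) F56209 (iv3 D17321) D17319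
def n162141 : Q := act 0 n77898
theorem D162141 : act 0 n77898 = n162141 := rfl
theorem F256240 : act 1 n77900 = n162141 := d15_0 (iv0 D162141) (iv7 F256235) (iv2 F256233)
theorem F256241 : act 4 n124482 = n162141 := d20_6 F43472 (iv1 D13223) D13224 D27699 D58098 D124482 (iv1 F256240) F119123 F56418 (iv1 F43471)
def n162161 : Q := act 7 n77907
theorem D162161 : act 7 n77907 = n162161 := rfl
theorem F256255 : act 5 n162161 = n82178 := d13_1 D162161 (iv7 D82178) (iv5 F119129)
def n162162 : Q := act 3 n77908
theorem D162162 : act 3 n77908 = n162162 := rfl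
theorem F256258 : act 4 n162162 = n78830 := d5_2 D77908 D162162 (iv3 D78830) F56548 F56221
theorem F256259 : act 7 n162162 = n102780 := d8_2 (iv7 F119131) D162162 (iv3 D102780)
theorem F256260 : act 0 n162162 = n157974 := d20_4 (iv4 F63819) F63817 D77908 D162162 (iv3 D157974) (iv4 D75244) (iv1 D34449) (iv4 F54648) (iv3 D34446) D34444
def n162163 : Q := act 6 n77908
theorem D162163 : act 6 n77908 = n162163 := rfl
theorem F256261 : act 2 n162163 = n157870 := d3_1 D162163 (iv6 D157870) (iv2 F119130)
theorem F256262 : act 4 n162163 = n77909 := d10_1 D162163 (iv6 D77909) D77908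
theorem F256263 : act 0 n86173 = n162163 := d20_7 F250019 (iv1 F250143) F250140 (iv3 F250122) (iv1 F250125) (iv3 D86172) D86173 F256262 F119135 D89645
theorem F256264 : act 0 n86211 = n122324 := d18_2 (iv1 F126252) D86211 F195609 F122908 (iv4 F256262) (iv0 F256263) (iv4 D86173) F126241 (iv5 F126249)
theorem F256265 : act 0 n83143 = n86210 := d20_4 F250145 (iv1 F129363) F128374 (iv3 F128177) (iv3 D86210) D86211 F256264 F195609 F122907 D88665
theorem F256266 : act 1 n78453 = n86210 := d15_0 (iv0 F256265) F128178 (iv2 F119638)
theorem F256267 : act 1 n86171 = n162163 := d15_0 (iv0 F256263) F199023 F199021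
def n162164 : Q := act 1 n77909
theorem D162164 : act 1 n77909 = n162164 := rfl
theorem F256268 : act 1 n162164 = n161131 := d15_1 D162164 (iv7 D161131) (iv2 F119134)
theorem F256269 : act 7 n162164 = n161129 := d15_2 (iv0 F194097) D162164 (iv2 F254729)
def n162165 : Q := act 7 n77909
theorem D162165 : act 7 n77909 = n162165 := rfl
theorem F256273 : act 3 n162165 = n89646 := d8_1 D162165 (iv7 D89646) (iv3 F119135)
theorem F256274 : act 6 n162165 = n102782 := d14_1 D162165 (iv7 D102782) (iv6 D47668) (iv7 F56218) D77909
def n162166 : Q := act 4 n77910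
theorem D162166 : act 4 n77910 = n162166 := rfl
theorem F256278 : act 0 n162166 = n157897 := d18_2 D77910 D162166 F248807 F112770 (iv4 F126666) F126670 (iv4 F149484) (iv0 D82205) F58534
def n162169 : Q := act 5 n77911
theorem D162169 : act 5 n77911 = n162169 := rfl
def n162170 : Q := act 6 n77911
theorem D162170 : act 6 n77911 = n162170 := rfl
def n162171 : Q := act 1 n77913
theorem D162171 : act 1 n77913 = n162171 := rfl
theorem F256292 : act 1 n162171 = n157887 := d15_1 D162171 (iv7 D157887) (iv2 F119137)
def n162173 : Q := act 0 n77914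
theorem D162173 : act 0 n77914 = n162173 := rfl
theorem F256301 : act 1 n79659 = n162173 := d15_0 (iv0 D162173) F119139 D79659
def n162174 : Q := act 1 n77914
theorem D162174 : act 1 n77914 = n162174 := rfl
def n162175 : Q := act 2 n77914
theorem D162175 : act 2 n77914 = n162175 := rfl
theorem F256303 : act 7 n162175 = n79659 := d4_2 (iv7 F119139) D162175 (iv2 D79659)
theorem F256304 : act 1 n162175 = n79657 := d15_0 (iv0 D79657) (iv7 F119139) D162175
theorem F256305 : act 1 n162174 = n79659 := d15_1 D162174 (iv7 F256303) (iv2 D162175)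
theorem F256306 : act 1 n79658 = n162175 := d15_1 D79658 F256303 (iv2 D79659)
def n162179 : Q := act 3 n77916
theorem D162179 : act 3 n77916 = n162179 := rfl
theorem F256315 : act 2 n162179 = n78781 := d0_1 D162179 (iv3 D78781) (iv2 F124418) (iv3 F198675) F198674
theorem F256316 : act 6 n162179 = n87305 := d7_2 (iv6 F194758) D162179 (iv3 F194756)
theorem F256317 : act 4 n91694 = n162179 := d20_8 F255407 (iv1 F192884) (iv4 D120950) F121882 (iv1 D26960) (iv3 F32123) (iv4 F67183) D91694 (iv3 D162179) (iv1 F255411)
theorem F256318 : act 0 n86127 = n162179 := d21_4 (iv5 D19833) F30877 (iv5 F60658) D86127 F256316 (iv5 D87305) (iv1 D40557) D40558 F61685 (iv1 F31632)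
def n162180 : Q := act 5 n77916
theorem D162180 : act 5 n77916 = n162180 := rfl
theorem F256319 : act 6 n162180 = n122782 := d12_2 (iv6 F194758) D162180 F196670 (iv6 D121964) D121963
theorem F256320 : act 0 n162180 = n82089 := d21_4 (iv5 F127292) (iv1 F196672) (iv5 F196670) (iv6 F256319) (iv6 D82089) (iv5 D37620) F120655 (iv5 F90117) F90118 (iv1 F127290)
def n162181 : Q := act 5 n77917
theorem D162181 : act 5 n77917 = n162181 := rfl
theorem F256323 : act 6 n82173 = n162181 := d21_5 (iv5 D18182) F17610 D18052 D37666 D82173 (iv5 D162181) (iv1 D77917) (iv5 F89364) (iv6 D56509) F43942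
def n162182 : Q := act 6 n77917
theorem D162182 : act 6 n77917 = n162182 := rfl
def n162185 : Q := act 5 n77919
theorem D162185 : act 5 n77919 = n162185 := rfl
theorem F256325 : act 3 n162185 = n77920 := d6_1 D162185 (iv5 D77920) D77919
def n162189 : Q := act 2 n77922
theorem D162189 : act 2 n77922 = n162189 := rfl
theorem F256329 : act 7 n77923 = n162189 := d15_2 (iv0 D77922) D77923 (iv2 D162189)
def n162192 : Q := act 5 n77922
theorem D162192 : act 5 n77922 = n162192 := rfl
theorem F256330 : act 4 n162192 = n87226 := d19_2 D77922 D162192 F133877 F61656 (iv5 D23684) (iv4 D11090) (iv3 D5071) (iv1 D2076) (iv5 D1030) F1213 (iv3 F855) F1388 F1387 (iv4 F1631) (iv3 F2779) D3644 D8077 D17225 D35554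
def n162194 : Q := act 7 n77922
theorem D162194 : act 7 n77922 = n162194 := rfl
theorem F256331 : act 2 n162194 = n77923 := d4_1 D162194 F256329 (iv2 D162189)
def n162196 : Q := act 4 n77923
theorem D162196 : act 4 n77923 = n162196 := rfl
theorem F256332 : act 5 n162196 = n90961 := d16_1 D162196 (iv4 D90961) (iv5 D42604) (iv4 F61653) D87226 (iv4 F256330) (iv5 D162192) D162194 F256331
theorem F256333 : act 0 n157954 = n162196 := d20_10 (iv4 D162196) (iv1 D77923) (iv4 F112773) (iv3 D75226) (iv1 D34445) D34446 F54648 D34448 D75239 D157954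
theorem F256334 : act 3 n157871 = n162196 := d20_5 (iv4 D16707) D16705 D34439 D75209 D157871 (iv4 D162196) (iv1 D77923) (iv4 F112773) (iv3 D75226) (iv1 D34445)
theorem E23942 : n86145 = n34448 := (c19_18 F256333 F256332 (iv4 D90961) F66437 (iv1 F65096) (iv5 D42165) F31738 (iv3 D10840) (iv1 D4944) (iv5 D2034) (iv4 F2866) F2865 D1697 D3934 D8833 D18866 D39873 D86145 D75239 D157954)
theorem E23943 : n75240 = n39873 := ((D75240).symm.trans (sb E23942 (iv5 D86145)))
theorem E23944 : n157958 = n58707 := ((((iv1 F92769)).symm.trans (sb E23943 D157958))).symm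
theorem E23947 : n157949 = n86143 := (((D86143).symm.trans (sb E23943 (iv3 F248844)))).symm
theorem F256335 : act 5 n39873 = n34448 := (sb E23943 (iv5 D75240))
theorem E23950 : n157962 = n86147 := (((D86147).symm.trans (sb E23943 D157962))).symm
theorem E23951 : n75245 = n39874 := ((((iv1 F92771)).symm.trans (sb E23944 (iv1 F248856)))).symm
theorem F256337 : act 5 n86143 = n75238 := (sb E23947 (iv5 D157949))
theorem F256338 : act 5 n86147 = n75242 := (sb E23950 F248855)
theorem E23952 : n157972 = n86148 := (((D86148).symm.trans (sb E23951 (iv3 F248860)))).symm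
theorem E23954 : n86150 = n34449 := ((D86150).symm.trans (sb E23951 (iv5 D75245)))
theorem F256339 : act 5 n86148 = n75243 := (sb E23952 (iv5 D157972))
theorem F256340 : act 5 n34449 = n39874 := (sb E23954 (iv5 D86150))
theorem F256341 : act 1 n86196 = n157924 := d17_6 (iv1 F60693) F256340 (iv1 D39874) (iv5 F30119) (iv4 F60708) D86196 (iv5 D157924) F132131 F132128
theorem E23956 : n121229 = n35838 := (c18_10 (iv1 F56499) (iv4 F57018) (iv1 F119850) (iv4 F132101) F256337 F193307 F193306 F88848 F88483 D121229)
theorem E23957 : n78700 = n55927 := ((D78700).symm.trans (sb E23956 (iv5 D121229)))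
theorem F256342 : act 5 n55927 = n35838 := (sb E23957 (iv5 D78700))
theorem F256344 : act 5 n78698 = n121227 := d6_2 F256342 D78698 (iv3 D121227)
theorem F256345 : act 5 n78702 = n121231 := d13_3 (iv7 D121231) F256342 D78702
theorem E23958 : n121234 = n35839 := (c2_3 F256345 F193304 D121234 (iv2 F119848))
theorem E23959 : n78705 = n55928 := ((D78705).symm.trans (sb E23958 (iv5 D121234)))
theorem F256346 : act 5 n55928 = n35839 := (sb E23959 (iv5 D78705))
theorem F256347 : act 5 n78703 = n121232 := d6_2 F256346 D78703 (iv3 D121232)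
theorem F256349 : act 5 n78708 = n120995 := d17_1 (iv1 F119850) (iv1 D120995) (iv5 D55801) F43421 D26973 D55928 F256346 F56500 (iv4 F57018)
def n162199 : Q := act 5 n77924
theorem D162199 : act 5 n77924 = n162199 := rfl
theorem F256350 : act 2 n162199 = n77925 := d2_1 D162199 (iv5 D77925) D77924
def n162203 : Q := act 4 n77925
theorem D162203 : act 4 n77925 = n162203 := rfl
theorem F256352 : act 5 n90954 = n162203 := d16_1 D90954 (iv4 D162203) (iv5 D77925) (iv4 F112773) D157912 (iv4 F248815) (iv5 D90950) D90952 F139987
def n162213 : Q := act 3 n77928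
theorem D162213 : act 3 n77928 = n162213 := rfl
def n162223 : Q := act 5 n77933
theorem D162223 : act 5 n77933 = n162223 := rfl
theorem F256359 : act 0 n162223 = n162128 := d21_1 D162223 (iv5 D162128) (iv6 D77895) (iv1 D35542) F28163 D17242 D35590 (iv5 F88211) D120934 (iv1 F195015)
def n162229 : Q := act 7 n77939
theorem D162229 : act 7 n77939 = n162229 := rfl
def n162233 : Q := act 5 n77940
theorem D162233 : act 5 n77940 = n162233 := rfl
theorem F256369 : act 3 n162233 = n77941 := d6_1 D162233 (iv5 D77941) D77940
def n162234 : Q := act 6 n77940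
theorem D162234 : act 6 n77940 = n162234 := rfl
theorem F256370 : act 3 n162234 = n77942 := d7_1 D162234 (iv6 D77942) D77940
theorem F256371 : act 4 n162234 = n77955 := d10_1 D162234 (iv6 D77955) (iv4 F119155)
def n162235 : Q := act 6 n77941
theorem D162235 : act 6 n77941 = n162235 := rfl
def n162236 : Q := act 1 n77942
theorem D162236 : act 1 n77942 = n162236 := rfl
theorem F256372 : act 7 n162236 = n121280 := d15_2 (iv0 F255428) D162236 (iv2 F253320)
theorem F256373 : act 4 n121265 = n162236 := d20_0 (iv1 D162236) F119158 F56240 D35568 F91279 D35801 F115713 F88550 (iv3 F88535) (iv1 F193359)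
def n162237 : Q := act 5 n77942
theorem D162237 : act 5 n77942 = n162237 := rfl
def n162238 : Q := act 7 n77942
theorem D162238 : act 7 n77942 = n162238 := rfl
theorem F256376 : act 4 n162238 = n77945 := d11_1 D162238 (iv7 D77945) (iv4 F119158)
theorem F256377 : act 0 n121280 = n162238 := d20_1 D121280 F256376 F119159 (iv1 F91293) (iv3 D55914) D55915 F114173 F43550 (iv3 F43545) D55948
theorem F256378 : act 0 n162238 = n121283 := d20_1 (iv4 F256376) (iv4 D121283) D121282 F196475 F116398 (iv4 F248946) (iv1 F255420) (iv4 D121151) D121150 (iv1 F256099)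
theorem F256379 : act 1 n120288 = n121283 := d15_0 (iv0 F256378) (iv7 D162238) (iv2 F191543)
theorem F256380 : act 1 n121280 = n120288 := d15_0 F256379 (iv7 F253322) F253320
def n162239 : Q := act 3 n77943
theorem D162239 : act 3 n77943 = n162239 := rfl
theorem F256382 : act 6 n162239 = n80668 := d7_2 (iv6 F256092) D162239 F256091
theorem F256383 : act 7 n162239 = n79626 := d8_2 F256094 D162239 (iv3 F256072)
theorem F256384 : act 1 n79627 = n162239 := d15_1 (iv0 F193219) F256383 F193217
theorem F256385 : act 4 n121275 = n77943 := d20_2 (iv4 F88534) D121275 D162239 (iv1 F256384) F122340 (iv4 F122347) (iv1 F192915) F193394 (iv3 D121282) (iv1 D55949)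
theorem F256386 : act 0 n79622 = n162239 := d21_4 F33413 (iv1 F33409) (iv5 F57001) D79622 F256382 (iv5 D80668) (iv1 D36817) (iv5 F56945) (iv6 D36240) (iv1 F33412)
def n162240 : Q := act 5 n77943
theorem D162240 : act 5 n77943 = n162240 := rfl
def n162241 : Q := act 5 n77944
theorem D162241 : act 5 n77944 = n162241 := rfl
theorem F256387 : act 3 n162241 = n78134 := d6_1 D162241 (iv5 F193040) F256097
theorem F256388 : act 6 n162241 = n78131 := d12_2 F256098 D162241 (iv5 F194733) F196750 (iv5 F196755)
def n162242 : Q := act 0 n77946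
theorem D162242 : act 0 n77946 = n162242 := rfl
def n162243 : Q := act 1 n77946
theorem D162243 : act 1 n77946 = n162243 := rfl
def n162244 : Q := act 2 n77946
theorem D162244 : act 2 n77946 = n162244 := rfl
theorem F256390 : act 3 n162244 = n79659 := d0_2 D77946 D162244 (iv2 D79659) (iv3 D36277) (iv2 F56242)
theorem F256391 : act 4 n162244 = n157873 := d1_2 (iv4 F119161) D162244 (iv2 D157873)
theorem F256392 : act 7 n162244 = n79670 := d4_2 (iv7 F119162) D162244 (iv2 D79670)
theorem F256393 : act 1 n162244 = n79668 := d15_0 (iv0 D79668) (iv7 F119162) D162244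
def n162245 : Q := act 6 n77946
theorem D162245 : act 6 n77946 = n162245 := rfl
theorem F256396 : act 3 n162245 = n77947 := d7_1 D162245 (iv6 D77947) D77946
theorem F256397 : act 4 n162245 = n157875 := d10_1 D162245 (iv6 D157875) (iv4 F119161)
def n162247 : Q := act 7 n77947
theorem D162247 : act 7 n77947 = n162247 := rfl
theorem F256400 : act 4 n162247 = n77950 := d11_1 D162247 (iv7 D77950) (iv4 F119164)
theorem F256401 : act 6 n162247 = n79678 := d14_1 D162247 (iv7 D79678) (iv6 D36282) (iv7 F56243) D77947
theorem F256402 : act 1 n78595 = n162247 := d15_1 (iv0 F256103) (iv7 D162247) F119163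
theorem F256403 : act 1 n162247 = n79641 := d15_1 F256402 (iv7 F192932) F192931
theorem F256404 : act 4 n78559 = n157771 := d20_8 (iv4 F256400) (iv1 F256402) (iv4 D78595) (iv3 D35803) (iv1 D17345) (iv3 F28275) (iv4 F56456) D78559 (iv3 F255414) (iv1 F255417)
theorem F256405 : act 0 n157784 = n79624 := d20_7 D79641 (iv1 F256403) F256400 F119167 (iv1 F120049) F120047 D157784 F122336 F57006 D36267
def n162249 : Q := act 3 n77949
theorem D162249 : act 3 n77949 = n162249 := rfl
theorem F256408 : act 2 n162249 = n157772 := d0_1 D162249 F248666 F193363 D121282 (iv2 F198926)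
theorem F256409 : act 6 n162249 = n84490 := d7_2 F198925 D162249 F198928
theorem F256410 : act 7 n162249 = n157771 := d8_2 F255416 D162249 (iv3 F255414)
theorem F256411 : act 0 n162249 = n87077 := d20_4 (iv4 F192918) (iv1 F192921) F198927 D162249 F133676 F112900 (iv1 F256006) (iv4 D121586) (iv3 F91289) (iv1 F88259)
theorem F256412 : act 0 n161004 = n78564 := d20_1 (iv4 F254513) (iv4 D78564) D78563 (iv1 F140014) F135993 (iv4 F192918) (iv1 F192921) F198927 D162249 F256411
theorem F256413 : act 1 n162249 = n157773 := d15_1 (iv0 F256411) (iv7 D157773) (iv2 F133675)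
theorem F256414 : act 1 n157773 = n121279 := d15_1 F256413 (iv7 F248664) (iv2 F256408)
def n162257 : Q := act 3 n77952
theorem D162257 : act 3 n77952 = n162257 := rfl
def n162258 : Q := act 4 n77952
theorem D162258 : act 4 n77952 = n162258 := rfl
theorem F256418 : act 3 n78769 = n162258 := d20_5 (iv4 D27642) F21984 D17367 D35864 D78769 (iv4 D162258) (iv1 D77952) (iv4 F119155) (iv3 D77940) F56238
def n162275 : Q := act 3 n77957
theorem D162275 : act 3 n77957 = n162275 := rfl
def n162277 : Q := act 3 n77958
theorem D162277 : act 3 n77958 = n162277 := rfl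
def n162283 : Q := act 3 n77961
theorem D162283 : act 3 n77961 = n162283 := rfl
theorem F256427 : act 4 n162283 = n78592 := d5_2 D77961 D162283 (iv3 D78592) (iv4 D35801) (iv3 F91279)
def n162291 : Q := act 5 n77964
theorem D162291 : act 5 n77964 = n162291 := rfl
theorem F256431 : act 3 n162291 = n77965 := d6_1 D162291 (iv5 D77965) D77964
def n162292 : Q := act 6 n77964
theorem D162292 : act 6 n77964 = n162292 := rfl
theorem F256432 : act 3 n162292 = n77966 := d7_1 D162292 (iv6 D77966) D77964
theorem F256433 : act 4 n162292 = n77974 := d10_1 D162292 (iv6 D77974) (iv4 F119175)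
def n162293 : Q := act 6 n77965
theorem D162293 : act 6 n77965 = n162293 := rfl
def n162294 : Q := act 5 n77966
theorem D162294 : act 5 n77966 = n162294 := rfl
def n162295 : Q := act 6 n77967
theorem D162295 : act 6 n77967 = n162295 := rfl
theorem F256434 : act 2 n162295 = n162241 := d3_1 D162295 F256388 F123643
theorem F256435 : act 3 n162295 = n95263 := d7_1 D162295 (iv6 D95263) F133775
theorem F256436 : act 4 n162295 = n124218 := d10_1 D162295 (iv6 D124218) F148258
theorem F256437 : act 5 n162295 = n162034 := d12_1 D162295 (iv6 D162034) D162033 (iv6 F256070) F196257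
theorem F256440 : act 7 n162240 = n162295 := d13_0 F256437 F256094 D162240
def n162296 : Q := act 2 n77970
theorem D162296 : act 2 n77970 = n162296 := rfl
theorem F256441 : act 7 n77971 = n162296 := d15_2 (iv0 D77970) D77971 (iv2 D162296)
def n162302 : Q := act 3 n77971
theorem D162302 : act 3 n77971 = n162302 := rfl
def n162313 : Q := act 5 n77974
theorem D162313 : act 5 n77974 = n162313 := rfl
theorem F256447 : act 3 n162313 = n77978 := d6_1 D162313 (iv5 D77978) (iv3 F119182)
def n162317 : Q := act 5 n77975
theorem D162317 : act 5 n77975 = n162317 := rfl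
theorem F256450 : act 6 n162317 = n77978 := d12_2 D77975 D162317 (iv5 D77978) (iv6 D35575) D35574
def n162319 : Q := act 3 n77976
theorem D162319 : act 3 n77976 = n162319 := rfl
def n162320 : Q := act 5 n77976
theorem D162320 : act 5 n77976 = n162320 := rfl
theorem F256452 : act 2 n162320 = n161555 := d2_1 D162320 (iv5 D161555) F123560
theorem F256453 : act 7 n162320 = n161558 := d13_2 (iv7 F123559) D162320 (iv5 D161558)
theorem F256454 : act 1 n161555 = n162019 := d15_0 F256021 (iv7 F256453) F256452
theorem F256455 : act 4 n162018 = n121792 := d17_9 F194371 F129264 F249211 F249209 (iv4 F123963) D161555 F256454 (iv5 D162019) D162018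
def n162322 : Q := act 3 n77977
theorem D162322 : act 3 n77977 = n162322 := rfl
theorem F256457 : act 4 n162322 = n84231 := d5_2 (iv4 F119184) D162322 (iv3 D84231) (iv4 D38847) D38846
def n162324 : Q := act 0 n77978
theorem D162324 : act 0 n77978 = n162324 := rfl
theorem F256461 : act 5 n162324 = n162018 := d17_3 (iv1 D77977) D77978 D162324 F256455 (iv5 D121792) (iv0 D56271) D56273 (iv0 F117115) (iv4 F119184)
def n162326 : Q := act 4 n77978
theorem D162326 : act 4 n77978 = n162326 := rfl
theorem F256465 : act 5 n162326 = n161539 := d16_1 D162326 F255540 F116432 F56122 (iv5 F56127) (iv4 F116492) (iv5 F255561) (iv7 D161568) (iv2 F119185)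
theorem F256466 : act 7 n161538 = n162326 := d13_0 F256465 (iv7 D161539) D161538
def n162327 : Q := act 7 n77978
theorem D162327 : act 7 n77978 = n162327 := rfl
theorem F256467 : act 2 n162327 = n161568 := d4_1 D162327 (iv7 D161568) (iv2 F119185)
theorem F256468 : act 4 n162327 = n161538 := d11_1 D162327 F256466 (iv4 D162326)
theorem F256471 : act 1 n161565 = n162327 := d15_1 D161565 (iv7 D162327) F119185
theorem F256472 : act 1 n162327 = n161564 := d15_0 (iv0 D161564) D161568 (iv2 F256467)
def n162330 : Q := act 1 n77981
theorem D162330 : act 1 n77981 = n162330 := rfl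
theorem F256480 : act 6 n161234 = n162330 := d21_3 (iv5 F56060) D77402 D161234 (iv1 D162330) (iv6 D77981) (iv5 F57496) (iv1 F123089) (iv5 F125948) F125949 (iv1 D77398)
def n162331 : Q := act 3 n77982
theorem D162331 : act 3 n77982 = n162331 := rfl
def n162340 : Q := act 4 n77984
theorem D162340 : act 4 n77984 = n162340 := rfl
def n162346 : Q := act 0 n77986
theorem D162346 : act 0 n77986 = n162346 := rfl
theorem F256489 : act 3 n162346 = n78630 := d20_5 F56468 (iv1 F56955) D79580 F122218 D162346 (iv4 D78630) (iv1 D35816) (iv4 F56470) (iv3 D35809) D35807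
def n162348 : Q := act 5 n77986
theorem D162348 : act 5 n77986 = n162348 := rfl
theorem F256491 : act 3 n162348 = n161011 := d6_1 D162348 F254519 F122218
def n162349 : Q := act 6 n77986
theorem D162349 : act 6 n77986 = n162349 := rfl
theorem F256492 : act 3 n162349 = n122596 := d7_1 D162349 F196361 F122218
def n162371 : Q := act 4 n77994
theorem D162371 : act 4 n77994 = n162371 := rfl
theorem F256501 : act 3 n157785 = n162371 := d20_5 F58170 (iv1 F33762) (iv4 F54628) D75179 D157785 (iv4 D162371) (iv1 D77994) (iv4 F58172) (iv3 D37218) D37216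
def n162375 : Q := act 6 n77995
theorem D162375 : act 6 n77995 = n162375 := rfl
theorem F256503 : act 2 n162375 = n77997 := d3_1 D162375 (iv6 D77997) D77995
def n162378 : Q := act 4 n77996
theorem D162378 : act 4 n77996 = n162378 := rfl
theorem F256504 : act 5 n157747 = n162378 := d19_1 D157747 (iv4 D162378) F119208 F56264 (iv5 D27074) (iv4 D12969) F9577 (iv1 F9506) (iv5 D6116) (iv4 F4112) F2992 (iv1 D1729) F1727 (iv4 F2870) D3933 F12241 D16689 D34419 D75161
def n162382 : Q := act 5 n77997
theorem D162382 : act 5 n77997 = n162382 := rfl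
theorem F256506 : act 3 n162382 = n77999 := d6_1 D162382 (iv5 D77999) (iv3 F119209)
def n162383 : Q := act 7 n77997
theorem D162383 : act 7 n77997 = n162383 := rfl
def n162390 : Q := act 4 n77999
theorem D162390 : act 4 n77999 = n162390 := rfl
theorem F256515 : act 5 n162390 = n161680 := d16_3 F56995 D77999 D162390 F255688 F116553 (iv4 F89006) (iv5 F194388) (iv7 D121795) F89001
theorem F256516 : act 7 n161679 = n162390 := d13_0 F256515 (iv7 D161680) D161679
def n162391 : Q := act 7 n77999
theorem D162391 : act 7 n77999 = n162391 := rfl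
theorem F256517 : act 4 n162391 = n161679 := d11_1 D162391 F256516 (iv4 D162390)
def n162392 : Q := act 5 n78001
theorem D162392 : act 5 n78001 = n162392 := rfl
theorem F256521 : act 2 n162392 = n78019 := d2_1 D162392 F119222 F119210
theorem F256522 : act 7 n162392 = n78014 := d13_2 (iv7 F119212) D162392 (iv5 D78014)
theorem F256524 : act 1 n121628 = n78014 := d15_1 (iv0 F194358) (iv7 F256522) F256521
theorem F256525 : act 1 n162392 = n78015 := d15_0 (iv0 D78015) D78019 (iv2 F256521)
theorem F256526 : act 5 n78015 = n121236 := d17_7 D55927 F256342 (iv1 F56499) (iv5 F56488) (iv4 F119211) D162392 F256525 (iv0 D121236) (iv4 D55929)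
def n162394 : Q := act 0 n78002
theorem D162394 : act 0 n78002 = n162394 := rfl
theorem F256529 : act 1 n78007 = n162394 := d15_0 (iv0 D162394) (iv7 F119214) (iv2 F119215)
def n162395 : Q := act 1 n78002
theorem D162395 : act 1 n78002 = n162395 := rfl
def n162396 : Q := act 3 n78002
theorem D162396 : act 3 n78002 = n162396 := rfl
def n162397 : Q := act 4 n78002
theorem D162397 : act 4 n78002 = n162397 := rfl
theorem F256532 : act 2 n162397 = n78004 := d1_1 D162397 (iv4 D78004) D78002
theorem F256533 : act 7 n162397 = n78009 := d11_2 F119214 D162397 (iv4 D78009)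
theorem F256534 : act 3 n86218 = n162397 := d8_3 F256533 (iv3 F119216) D86218
theorem F256536 : act 2 n160971 = n86219 := d0_3 F256534 F256532 F254178 (iv3 D86219) (iv2 F132171)
theorem F256537 : act 2 n86284 = n159305 := d1_3 (iv4 F254269) F256536 (iv4 F132250)
theorem F256538 : act 5 n157840 = n160971 := d2_0 F256536 (iv5 F248720) D157840
theorem F256539 : act 7 n86356 = n86219 := d15_2 F254181 (iv0 F254410) (iv2 F256536)
theorem E23960 : n86214 = n39972 := (c8_3 F256539 (iv3 D86219) F132170 D86356)
theorem E23961 : n86355 = n39900 := (((iv2 F132350)).symm.trans (sb E23960 (iv2 D86214)))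
theorem E23962 : n75188 = n58716 := ((((iv5 F248743)).symm.trans (sb E23960 F248723))).symm
theorem E23963 : n86350 = n39901 := ((F132348).symm.trans (sb E23960 (iv7 F132170)))
theorem F256540 : act 2 n39900 = n39972 := (sb E23961 F132350)
theorem E23964 : n125398 = n34430 := ((((iv5 F248725)).symm.trans (sb E23961 F248736))).symm
theorem E23965 : n86218 = n39971 := ((D86218).symm.trans (sb E23961 (iv7 D86355)))
theorem E23968 : n157814 = n125399 := (((D125399).symm.trans (sb E23962 D157814))).symm
theorem E23969 : n157815 = n125400 := (((D125400).symm.trans (sb E23962 D157815))).symm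
theorem E23970 : n157817 = n125402 := (((D125402).symm.trans (sb E23962 D157817))).symm
theorem E23971 : n125394 = n34431 := ((F201677).symm.trans (sb E23962 (iv7 F112735)))
theorem F256541 : act 7 n39901 = n39972 := (sb E23963 (iv7 F132348))
theorem F256542 : act 2 n34430 = n58716 := (sb E23964 F201678)
theorem E23972 : n75193 = n58715 := ((D75193).symm.trans (sb E23964 (iv7 D125398)))
theorem F256543 : act 2 n39971 = n39901 := (sb E23965 F132171)
theorem E23973 : n162397 = n86351 := (((D86351).symm.trans (sb E23965 F256534))).symm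
theorem F256544 : act 7 n39971 = n39900 := (sb E23965 (iv7 D86218))
theorem F256545 : act 7 n125399 = n75194 := (sb E23968 F248698)
theorem F256546 : act 2 n125400 = n75190 := (sb E23969 F248699)
theorem F256547 : act 7 n125400 = n75195 := (sb E23969 F248700)
theorem F256548 : act 2 n125402 = n75192 := (sb E23970 F248703)
theorem F256549 : act 7 n34431 = n58716 := (sb E23971 (iv7 F201677))
theorem F256550 : act 2 n58715 = n34431 := (sb E23972 F112736)
theorem E23974 : n157823 = n120990 := ((((iv3 F192946)).symm.trans (sb E23972 (iv3 F248707)))).symm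
theorem E23975 : n157828 = n125395 := (((D125395).symm.trans (sb E23972 (iv4 F248711)))).symm
theorem F256551 : act 7 n58715 = n34430 := (sb E23972 (iv7 D75193))
theorem F256552 : act 2 n86351 = n78004 := (sb E23973 F256532)
theorem E23977 : n78012 = n78002 := ((F132349).symm.trans (sb E23973 (iv4 D162397)))
theorem F256553 : act 7 n86351 = n78009 := (sb E23973 F256533)
theorem F256554 : act 7 n120990 = n75189 := (sb E23974 (iv7 D157823))
theorem F256555 : act 2 n125395 = n75195 := (sb E23975 F248710)
theorem F256556 : act 7 n125395 = n75190 := (sb E23975 (iv7 D157828))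
theorem E23978 : n162394 = n35589 := ((D162394).symm.trans (sb E23977 (iv1 F119217)))
theorem E23979 : n162395 = n35587 := ((D162395).symm.trans (sb E23977 (iv0 D78012)))
theorem F256558 : act 4 n78002 = n86351 := (sb E23977 (iv4 F132349))
theorem E23980 : n78013 = n78007 := (((iv1 F119218)).symm.trans (sb E23978 (iv1 F256529)))
theorem F256559 : act 1 n35589 = n78002 := (sb E23978 (iv0 D162394))
theorem F256560 : act 0 n35587 = n78002 := (sb E23979 (iv1 D162395))
theorem F256561 : act 0 n78007 = n35587 := (sb E23980 (iv1 D78013))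
theorem F256562 : act 1 n78007 = n35589 := (sb E23980 F119218)
theorem F256563 : act 7 n86284 = n159304 := d11_2 F256539 (iv4 F132250) F250781
theorem F256564 : act 2 n159304 = n86285 := d15_3 F132251 F132255 F256563
theorem F256565 : act 7 n159305 = n86285 := d4_2 (iv7 F256563) F256537 (iv2 F256564)
theorem E23981 : n120983 = n86261 := ((c11_2 F256554 F132216 (iv7 F192944) D120990)).symm
theorem F256566 : act 2 n86261 = n55798 := (sb E23981 (iv2 D120983))
theorem F256567 : act 7 n86261 = n55799 := (sb E23981 (iv7 F192944))
theorem E23982 : n120988 = n86260 := (c15_4 (iv0 D86260) D86261 F256567 (iv2 F192945))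
theorem F256568 : act 2 n86260 = n55799 := (sb E23982 F192945)
theorem F256569 : act 7 n86260 = n55798 := (sb E23982 (iv7 D120988))
theorem E23983 : n157820 = n120985 := ((c1_3 F132216 F256566 D120985 (iv2 D157820))).symm
theorem F256570 : act 2 n120985 = n75189 := (sb E23983 (iv2 D157820))
theorem E23984 : n160985 = n120990 := (c15_2 (iv0 F254200) D160985 F256554 (iv2 F256570))
theorem F256571 : act 0 n120990 = n77255 := (sb E23984 (iv1 D160985))
theorem F256572 : act 1 n78629 = n86351 := d18_8 F256571 D160986 F254302 (iv4 D78679) (iv5 D35833) D35832 F119828 F119823 F248733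
theorem F256573 : act 1 n79681 = n121162 := d17_6 (iv1 F256559) (iv5 F119222) (iv1 F194354) (iv5 D121624) D121623 F194359 F250814 F256572 (iv4 F256558)
theorem F256574 : act 0 n121782 = n121163 := d20_7 (iv4 D79681) (iv1 F119844) (iv4 D78695) (iv3 F88479) (iv1 F88481) D56266 D121782 (iv4 D121163) D121162 (iv1 F256573)
theorem F256575 : act 7 n157841 = n125428 := d11_2 F256545 D157841 F201715
theorem F256576 : act 1 n157840 = n160450 := d15_0 F254412 F256545 D157840
theorem F256577 : act 2 n125428 = n160568 := d15_3 F253652 F253656 F256575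
theorem F256578 : act 2 n157841 = n125429 := d15_3 F201716 F201720 (iv7 F256575)
theorem F256579 : act 4 n125429 = n157840 := d1_2 D157841 F256578 (iv2 D157840)
theorem F256580 : act 7 n125429 = n160568 := d4_2 (iv7 F256575) F256578 (iv2 F256577)
theorem F256581 : act 3 n125429 = n160264 := d20_3 D160450 (iv1 F256576) (iv4 F256579) (iv1 D160264) (iv3 D76806) (iv4 D35108) F27962 D17060 D35142 D76910
theorem F256582 : act 7 n86215 = n86352 := d11_2 F256544 D86215 (iv4 D86352)
theorem F256583 : act 2 n86352 = n86220 := d15_3 (iv0 F253661) (iv0 F253663) F256582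
theorem F256584 : act 2 n86215 = n86357 := d15_3 F254414 (iv0 F201728) (iv7 F256582)
theorem F256585 : act 7 n86357 = n86220 := d4_2 (iv7 F256582) F256584 (iv2 F256583)
theorem F256586 : act 2 n86222 = n86354 := d3_3 (iv6 D86354) F256543 D86222
theorem F256587 : act 2 n86359 = n86217 := d3_3 (iv6 D86217) F256540 D86359
theorem F256588 : act 1 n78624 = n157840 := d17_6 (iv1 F113712) D158902 (iv1 F250193) (iv5 F250817) (iv4 F193227) F250809 F256538 F254181 (iv4 D84319)
def n162398 : Q := act 5 n78002
theorem D162398 : act 5 n78002 = n162398 := rfl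
theorem F256589 : act 2 n162398 = n78005 := d2_1 D162398 (iv5 D78005) D78002
theorem F256590 : act 7 n162398 = n78010 := d13_2 F119214 D162398 (iv5 D78010)
theorem F256591 : act 0 n162398 = n121238 := d17_2 F256560 D162398 (iv5 D121238) (iv4 D55929) (iv5 D26973) D26971 F254385 F254378 (iv4 F56265)
theorem E23985 : n121631 = n78005 := ((c15_4 (iv0 D121631) (iv0 F248742) (iv7 F256590) F256589)).symm
theorem F256592 : act 1 n78005 = n56173 := (sb E23985 (iv0 D121631))
def n162405 : Q := act 7 n78003
theorem D162405 : act 7 n78003 = n162405 := rfl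
theorem F256596 : act 3 n162405 = n78007 := d8_1 D162405 (iv7 D78007) D78003
theorem F256597 : act 4 n162405 = n158007 := d20_6 (iv4 D27022) F21518 (iv4 F28195) (iv3 F56267) (iv1 F256562) (iv3 F256596) (iv1 D158007) (iv4 F122932) (iv3 D80108) (iv1 F57304)
theorem F256598 : act 7 n158007 = n84281 := d11_2 D162405 F256597 (iv4 F129355)
theorem F256599 : act 3 n86285 = n158007 := d8_3 F256598 (iv3 F254270) F256565
def n162406 : Q := act 0 n78004
theorem D162406 : act 0 n78004 = n162406 := rfl
theorem F256604 : act 4 n162406 = n162302 := d20_2 D78004 D162406 (iv3 D162302) (iv1 D77971) (iv3 D35573) (iv4 D17237) (iv1 D8085) D8086 D17241 D35585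
theorem F256605 : act 3 n162406 = n160450 := d20_5 D76214 (iv1 F250782) (iv4 F254269) (iv3 F254178) D162406 (iv4 D160450) (iv1 F115546) F91664 F45090 (iv1 F55016)
theorem F256606 : act 0 n162302 = n78659 := d20_1 F256604 F119827 (iv3 F119822) F254370 (iv3 D76213) D76214 (iv1 F250782) (iv4 F254269) (iv3 F254178) D162406
theorem F256607 : act 1 n162302 = n78644 := d15_1 (iv0 F256606) F119814 (iv2 F119826)
theorem F256608 : act 0 n162406 = n78009 := d20_4 (iv4 F55848) D76910 D160450 (iv3 F256605) (iv3 F119216) D86215 F253663 (iv4 D160581) (iv3 D76986) (iv1 D35169)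
def n162407 : Q := act 1 n78004
theorem D162407 : act 1 n78004 = n162407 := rfl
theorem F256609 : act 1 n162407 = n78009 := d15_1 D162407 (iv7 F256553) F256552
def n162408 : Q := act 5 n78004
theorem D162408 : act 5 n78004 = n162408 := rfl
theorem F256610 : act 2 n162408 = n120990 := d2_1 D162408 (iv5 F248733) F256552
theorem F256611 : act 3 n162408 = n157840 := d6_1 D162408 F256538 (iv3 F254178)
theorem F256612 : act 4 n162408 = n86260 := d18_5 (iv1 D17356) (iv4 F28194) D35585 D78004 D162408 (iv0 D86260) (iv4 D39919) (iv0 F248740) (iv5 D35833)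
theorem F256613 : act 0 n162408 = n157819 := d18_0 (iv4 F254182) (iv1 D121194) (iv4 D55918) F254376 (iv4 F119827) (iv0 F256606) (iv4 F256604) (iv0 D162406) D162408
theorem F256614 : act 1 n162408 = n80021 := d15_1 (iv0 F256613) F254205 F254190
theorem F256615 : act 7 n162408 = n120985 := d15_2 D157819 (iv0 F256613) F256570
theorem F256616 : act 1 n78575 = n86175 := d17_8 (iv1 D56171) D56173 (iv1 F256592) (iv5 D78005) D78004 D162408 F256614 (iv5 F250819) F132142
def n162409 : Q := act 6 n78004
theorem D162409 : act 6 n78004 = n162409 := rfl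
def n162410 : Q := act 7 n78004
theorem D162410 : act 7 n78004 = n162410 := rfl
theorem F256618 : act 2 n162410 = n78009 := d4_1 D162410 (iv7 F256553) F256552
theorem F256619 : act 4 n162410 = n78007 := d11_1 D162410 (iv7 D78007) D78004
theorem F256620 : act 5 n162410 = n120985 := d13_1 D162410 (iv7 F256615) (iv5 D162408)
theorem F256621 : act 0 n78629 = n162410 := d18_0 F256619 F256561 F56265 D35837 D78695 F119844 D79681 F256573 F250814
def n162411 : Q := act 0 n78005
theorem D162411 : act 0 n78005 = n162411 := rfl
theorem F256623 : act 2 n121238 = n162411 := d15_3 (iv0 D162411) F256592 (iv7 F193309)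
theorem F256624 : act 7 n162411 = n121630 := d4_2 (iv7 F193309) F256623 F194088
theorem F256625 : act 1 n162398 = n121630 := d15_1 (iv0 F256591) (iv7 F256624) (iv2 F256623)
def n162414 : Q := act 7 n78005
theorem D162414 : act 7 n78005 = n162414 := rfl
theorem F256628 : act 5 n162414 = n78007 := d13_1 D162414 (iv7 D78007) D78005
theorem F256629 : act 1 n121630 = n162414 := d15_1 F256625 (iv7 D162414) (iv2 F256589)
theorem F256630 : act 1 n162414 = n121238 := d15_1 F256629 F193309 (iv2 F194088)
theorem E23986 : n157946 = n121121 := (c17_1 D157946 (iv5 F254067) F254200 (iv5 F256620) F256619 (iv5 F256628) F256630 (iv5 D121238) D121237 (iv4 F193307))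
theorem F256631 : act 1 n121121 = n75238 := (sb E23986 (iv0 D157946))
theorem F256632 : act 0 n86143 = n78497 := d18_0 (iv4 F122846) (iv1 F122851) (iv4 D36455) F194342 D56267 F194334 F194329 F256631 (iv5 F256337)
theorem F256633 : act 4 n80032 = n157953 := d20_6 (iv4 F194329) (iv1 F194334) (iv4 D56267) D56266 D121779 F194360 (iv1 D157953) (iv4 D75239) D75238 (iv1 F256631)
def n162420 : Q := act 0 n78008
theorem D162420 : act 0 n78008 = n162420 := rfl
def n162421 : Q := act 1 n78008
theorem D162421 : act 1 n78008 = n162421 := rfl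
def n162422 : Q := act 2 n78008
theorem D162422 : act 2 n78008 = n162422 := rfl
def n162423 : Q := act 4 n78008
theorem D162423 : act 4 n78008 = n162423 := rfl
theorem F256635 : act 3 n162423 = n86215 := d5_1 D162423 (iv4 D86215) F119216 (iv4 D78009) D78008
def n162424 : Q := act 5 n78008
theorem D162424 : act 5 n78008 = n162424 := rfl
theorem F256638 : act 3 n162424 = n78010 := d6_1 D162424 (iv5 D78010) D78008
def n162425 : Q := act 6 n78008
theorem D162425 : act 6 n78008 = n162425 := rfl
def n162426 : Q := act 6 n78009
theorem D162426 : act 6 n78009 = n162426 := rfl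
theorem F256640 : act 3 n162426 = n86217 := d7_1 D162426 (iv6 D86217) F119216
def n162433 : Q := act 4 n78014
theorem D162433 : act 4 n78014 = n162433 := rfl
theorem F256642 : act 2 n162433 = n78017 := d1_1 D162433 (iv4 D78017) (iv2 F119219)
theorem F256643 : act 5 n162433 = n79692 := d16_1 D162433 (iv4 D79692) (iv5 D36286) F28519 (iv5 F28295) (iv4 F56268) (iv5 F119222) (iv7 D78019) (iv2 F119219)
def n162435 : Q := act 2 n78015
theorem D162435 : act 2 n78015 = n162435 := rfl
theorem F256645 : act 7 n78016 = n162435 := d15_2 (iv0 D78015) D78016 (iv2 D162435)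
def n162439 : Q := act 7 n78015
theorem D162439 : act 7 n78015 = n162439 := rfl
theorem F256647 : act 2 n162439 = n78016 := d4_1 D162439 F256645 (iv2 D162435)
def n162440 : Q := act 3 n78016
theorem D162440 : act 3 n78016 = n162440 := rfl
def n162445 : Q := act 3 n78017
theorem D162445 : act 3 n78017 = n162445 := rfl
theorem F256648 : act 4 n162445 = n78025 := d5_2 D78017 D162445 (iv3 D78025) (iv4 D35592) (iv3 F56266)
def n162446 : Q := act 5 n78017
theorem D162446 : act 5 n78017 = n162446 := rfl
theorem F256650 : act 4 n162446 = n79689 := d16_2 D78017 D162446 (iv5 D79689) F57018 (iv5 F56488) (iv4 F119211) D162392 F256522 F119219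
def n162468 : Q := act 4 n78023
theorem D162468 : act 4 n78023 = n162468 := rfl
def n162476 : Q := act 2 n78025
theorem D162476 : act 2 n78025 = n162476 := rfl
def n162477 : Q := act 6 n78025
theorem D162477 : act 6 n78025 = n162477 := rfl
theorem F256658 : act 3 n162477 = n78026 := d7_1 D162477 (iv6 D78026) D78025
def n162480 : Q := act 5 n78026
theorem D162480 : act 5 n78026 = n162480 := rfl
def n162502 : Q := act 4 n78032
theorem D162502 : act 4 n78032 = n162502 := rfl
theorem F256666 : act 3 n84549 = n162502 := d20_5 D35851 F92086 F60084 (iv3 F60012) D84549 (iv4 D162502) (iv1 D78032) F56270 F28196 D17362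
def n162510 : Q := act 3 n78034
theorem D162510 : act 3 n78034 = n162510 := rfl
theorem F256669 : act 7 n162510 = n78040 := d8_2 F119226 D162510 (iv3 D78040)
def n162513 : Q := act 6 n78034
theorem D162513 : act 6 n78034 = n162513 := rfl
theorem F256675 : act 2 n162513 = n78038 := d3_1 D162513 (iv6 D78038) D78034
theorem F256677 : act 7 n161234 = n162513 := d15_2 F254158 (iv0 F255049) F256675
theorem F256678 : act 7 n78043 = n162330 := d14_4 F256677 (iv6 D162513) (iv7 F119226) D78043 (iv6 F256480)
theorem F256680 : act 2 n78043 = n161238 := d15_3 (iv0 F255055) D162330 (iv7 F256678)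
theorem E23987 : n161235 = n35597 := (c3_4 D78043 F256680 (iv6 D161238) (iv2 F255051))
theorem E23988 : n78039 = n77403 := (((iv2 F119229)).symm.trans (sb E23987 F255051))
theorem E23990 : n78034 = n77402 := ((F119226).symm.trans (sb E23987 (iv7 D161235)))
theorem F256681 : act 2 n77403 = n35597 := (sb E23988 F119229)
theorem E23993 : n161232 = n35596 := ((F255048).symm.trans (sb E23988 (iv7 D78039)))
theorem E23995 : n162510 = n160861 := ((((iv3 F254990)).symm.trans (sb E23990 D162510))).symm
theorem F256684 : act 2 n35596 = n77402 := (sb E23993 (iv2 D161232))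
theorem F256685 : act 7 n35596 = n77403 := (sb E23993 (iv7 F255048))
theorem F256688 : act 7 n160861 = n78040 := (sb E23995 F256669)
theorem F256693 : act 7 n124262 = n160421 := d11_2 F256688 (iv4 F254986) (iv4 F254026)
theorem F256695 : act 2 n124262 = n160422 := d15_3 F253410 F253409 (iv7 F256693)
theorem F256697 : act 7 n161236 = n78035 := d8_2 F256685 D161236 (iv3 D78035)
def n162515 : Q := act 2 n78035
theorem D162515 : act 2 n78035 = n162515 := rfl
def n162516 : Q := act 4 n78035
theorem D162516 : act 4 n78035 = n162516 := rfl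
theorem F256701 : act 7 n162516 = n86201 := d11_2 F256697 D162516 (iv4 F255052)
theorem F256703 : act 0 n81903 = n162516 := d20_7 (iv4 F254923) (iv1 F254926) D162502 (iv3 F256666) (iv1 F129718) F71163 (iv4 F126246) (iv4 D162516) (iv3 D78035) (iv1 F116215)
theorem F256704 : act 2 n162516 = n86200 := d15_3 (iv0 D86200) D86201 (iv7 F256701)
def n162518 : Q := act 6 n78035
theorem D162518 : act 6 n78035 = n162518 := rfl
theorem F256707 : act 3 n162518 = n78038 := d7_1 D162518 (iv6 D78038) D78035
theorem F256708 : act 5 n162518 = n161133 := d21_6 (iv5 D35547) (iv1 F31214) (iv5 F57285) D80088 F255063 D162518 (iv1 D161133) F116157 (iv6 D77344) (iv1 F56216)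
theorem E23998 : n161236 = n161133 := ((c6_1 F256708 (iv3 D161236) (iv5 F119228) (iv3 F256707))).symm
theorem F256709 : act 3 n161133 = n77403 := (sb E23998 (iv3 D161236))
theorem F256710 : act 4 n161133 = n86201 := (sb E23998 F255052)
theorem F256711 : act 7 n161133 = n78035 := (sb E23998 F256697)
theorem E23999 : n162515 = n161132 := (c15_4 (iv0 D161132) D161133 F256711 D162515)
theorem F256713 : act 2 n161132 = n78035 := (sb E23999 (iv2 D162515))
def n162524 : Q := act 2 n78040
theorem D162524 : act 2 n78040 = n162524 := rfl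
theorem F256722 : act 4 n162524 = n160422 := d1_2 F254986 D162524 (iv2 F256695)
def n162531 : Q := act 6 n78044
theorem D162531 : act 6 n78044 = n162531 := rfl
theorem F256729 : act 2 n162531 = n128055 := d3_1 D162531 (iv6 D128055) (iv2 F123977)
theorem F256730 : act 4 n162531 = n161749 := d10_1 D162531 (iv6 D161749) (iv4 F119232)
def n162532 : Q := act 6 n78045
theorem D162532 : act 6 n78045 = n162532 := rfl
theorem F256731 : act 2 n162532 = n128057 := d3_1 D162532 (iv6 D128057) F123975
def n162537 : Q := act 0 n78047
theorem D162537 : act 0 n78047 = n162537 := rfl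
def n162538 : Q := act 1 n78047
theorem D162538 : act 1 n78047 = n162538 := rfl
theorem F256741 : act 1 n162538 = n78074 := d15_1 D162538 (iv7 D78074) (iv2 F119237)
def n162539 : Q := act 5 n78047
theorem D162539 : act 5 n78047 = n162539 := rfl
def n162540 : Q := act 7 n78047
theorem D162540 : act 7 n78047 = n162540 := rfl
theorem F256744 : act 2 n162540 = n78074 := d4_1 D162540 (iv7 D78074) (iv2 F119237)
theorem F256745 : act 4 n162540 = n86331 := d11_1 D162540 (iv7 D86331) (iv4 F119238)
theorem F256746 : act 1 n78074 = n162537 := d15_0 (iv0 D162537) D162540 F256744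
theorem F256747 : act 1 n78072 = n162540 := d15_1 D78072 (iv7 D162540) F119237
theorem F256748 : act 1 n162540 = n78071 := d15_0 (iv0 D78071) D78074 (iv2 F256744)
def n162545 : Q := act 7 n78049
theorem D162545 : act 7 n78049 = n162545 := rfl
theorem F256762 : act 5 n162545 = n78050 := d13_1 D162545 (iv7 D78050) D78049
theorem F256763 : act 1 n78085 = n162545 := d15_1 D78085 (iv7 D162545) F119240
def n162546 : Q := act 3 n78053
theorem D162546 : act 3 n78053 = n162546 := rfl
theorem F256767 : act 0 n128095 = n162546 := d20_4 (iv4 F130771) (iv1 D72326) (iv4 F94754) (iv3 F206172) (iv3 D162546) (iv4 D78053) (iv1 F56282) (iv4 F56297) F56296 (iv1 F94738)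
def n162547 : Q := act 5 n78053
theorem D162547 : act 5 n78053 = n162547 := rfl
theorem F256768 : act 2 n162547 = n78103 := d2_1 D162547 (iv5 D78103) (iv2 F121820)
theorem F256769 : act 7 n162547 = n78122 := d13_2 (iv7 F121821) D162547 (iv5 D78122)
def n162550 : Q := act 4 n78057
theorem D162550 : act 4 n78057 = n162550 := rfl
theorem F256774 : act 2 n162550 = n78124 := d1_1 D162550 (iv4 D78124) (iv2 F121813)
theorem F256775 : act 6 n162550 = n78484 := d10_2 F119247 D162550 (iv4 D78484)
theorem F256776 : act 7 n162550 = n78108 := d11_2 (iv7 F121814) D162550 (iv4 D78108)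
def n162551 : Q := act 4 n78059
theorem D162551 : act 4 n78059 = n162551 := rfl
theorem F256779 : act 0 n81859 = n162551 := d20_1 D81859 (iv4 D162551) F133774 (iv1 F70718) (iv3 F72386) (iv4 F151330) (iv1 F151331) (iv4 D75736) (iv3 F113565) F117616
def n162552 : Q := act 4 n78060
theorem D162552 : act 4 n78060 = n162552 := rfl
theorem F256780 : act 2 n162552 = n78137 := d1_1 D162552 (iv4 D78137) (iv2 F119308)
theorem F256782 : act 7 n162552 = n78132 := d11_2 (iv7 F119309) D162552 (iv4 D78132)
theorem F256783 : act 0 n162552 = n81859 := d18_2 (iv1 F119248) D162552 (iv4 D81859) (iv5 D37477) (iv4 F58360) (iv0 F124355) (iv4 D78056) F56278 (iv5 F56302)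
def n162553 : Q := act 1 n78061
theorem D162553 : act 1 n78061 = n162553 := rfl
def n162554 : Q := act 3 n78061
theorem D162554 : act 3 n78061 = n162554 := rfl
theorem F256789 : act 6 n162554 = n79994 := d7_2 (iv6 F119251) D162554 (iv3 D79994)
def n162555 : Q := act 5 n78061
theorem D162555 : act 5 n78061 = n162555 := rfl
def n162556 : Q := act 7 n78061
theorem D162556 : act 7 n78061 = n162556 := rfl
theorem F256792 : act 4 n162556 = n78062 := d11_1 D162556 (iv7 D78062) D78061
theorem F256794 : act 1 n78141 = n162556 := d15_1 D78141 (iv7 D162556) F119250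
def n162557 : Q := act 6 n78063
theorem D162557 : act 6 n78063 = n162557 := rfl
theorem F256796 : act 3 n162557 = n128182 := d7_1 D162557 (iv6 D128182) (iv3 F119258)
def n162558 : Q := act 6 n78064
theorem D162558 : act 6 n78064 = n162558 := rfl
theorem F256797 : act 4 n162558 = n161339 := d10_1 D162558 (iv6 D161339) F119259
def n162559 : Q := act 6 n78065
theorem D162559 : act 6 n78065 = n162559 := rfl
theorem F256799 : act 3 n162559 = n155087 := d7_1 D162559 (iv6 D155087) (iv3 F119260)
def n162563 : Q := act 0 n78067
theorem D162563 : act 0 n78067 = n162563 := rfl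
theorem F256801 : act 1 n79806 = n162563 := d15_0 (iv0 D162563) (iv7 F194142) F194141
def n162570 : Q := act 0 n78070
theorem D162570 : act 0 n78070 = n162570 := rfl
def n162571 : Q := act 1 n78070
theorem D162571 : act 1 n78070 = n162571 := rfl
theorem F256812 : act 1 n162571 = n86331 := d15_1 D162571 (iv7 D86331) (iv2 F119266)
def n162572 : Q := act 5 n78070
theorem D162572 : act 5 n78070 = n162572 := rfl
theorem F256813 : act 2 n162572 = n86330 := d2_1 D162572 (iv5 D86330) (iv2 F119266)
def n162573 : Q := act 7 n78070
theorem D162573 : act 7 n78070 = n162573 := rfl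
theorem F256815 : act 2 n162573 = n86331 := d4_1 D162573 (iv7 D86331) (iv2 F119266)
theorem F256816 : act 4 n162573 = n78074 := d11_1 D162573 (iv7 D78074) (iv4 F119267)
theorem F256817 : act 6 n162573 = n162540 := d14_1 D162573 (iv7 D162540) (iv6 D78047) (iv7 F56290) D78070
theorem F256818 : act 1 n86331 = n162570 := d15_0 (iv0 D162570) D162573 F256815
theorem F256819 : act 1 n86329 = n162573 := d15_1 D86329 (iv7 D162573) F119266
theorem F256820 : act 1 n162573 = n86328 := d15_0 (iv0 D86328) D86331 (iv2 F256815)
def n162574 : Q := act 2 n78071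
theorem D162574 : act 2 n78071 = n162574 := rfl
theorem F256821 : act 7 n78072 = n162574 := d15_2 (iv0 D78071) D78072 (iv2 D162574)
def n162575 : Q := act 3 n78071
theorem D162575 : act 3 n78071 = n162575 := rfl
def n162576 : Q := act 4 n78071
theorem D162576 : act 4 n78071 = n162576 := rfl
def n162577 : Q := act 5 n78071
theorem D162577 : act 5 n78071 = n162577 := rfl
def n162578 : Q := act 6 n78071
theorem D162578 : act 6 n78071 = n162578 := rfl
def n162579 : Q := act 7 n78071
theorem D162579 : act 7 n78071 = n162579 := rfl
theorem F256822 : act 2 n162579 = n78072 := d4_1 D162579 F256821 (iv2 D162574)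
def n162580 : Q := act 3 n78072
theorem D162580 : act 3 n78072 = n162580 := rfl
def n162581 : Q := act 4 n78072
theorem D162581 : act 4 n78072 = n162581 := rfl
def n162582 : Q := act 5 n78072
theorem D162582 : act 5 n78072 = n162582 := rfl
def n162583 : Q := act 6 n78072
theorem D162583 : act 6 n78072 = n162583 := rfl
def n162584 : Q := act 0 n78073
theorem D162584 : act 0 n78073 = n162584 := rfl
def n162585 : Q := act 1 n78073
theorem D162585 : act 1 n78073 = n162585 := rfl
def n162586 : Q := act 4 n78073
theorem D162586 : act 4 n78073 = n162586 := rfl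
theorem F256823 : act 6 n162586 = n78086 := d10_2 (iv6 F119269) D162586 (iv4 D78086)
def n162587 : Q := act 7 n78073
theorem D162587 : act 7 n78073 = n162587 := rfl
theorem F256824 : act 3 n162587 = n128219 := d8_1 D162587 (iv7 D128219) (iv3 F119268)
theorem F256825 : act 5 n162587 = n78074 := d13_1 D162587 (iv7 D78074) D78073
def n162588 : Q := act 0 n78076
theorem D162588 : act 0 n78076 = n162588 := rfl
theorem F256826 : act 3 n162588 = n128238 := d20_5 F58360 D37475 F124380 D78076 D162588 (iv4 F242573) (iv1 D124037) D124039 F198428 F124355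
def n162589 : Q := act 1 n78076
theorem D162589 : act 1 n78076 = n162589 := rfl
def n162594 : Q := act 1 n78078
theorem D162594 : act 1 n78078 = n162594 := rfl
theorem F256834 : act 5 n162594 = n121956 := d17_7 (iv1 F192284) (iv5 F201472) (iv1 F201476) (iv5 D81854) F124380 D78078 D162594 F249872 F249870
theorem F256835 : act 3 n128230 = n162594 := d6_3 F256834 (iv3 F237217) F237219
def n162598 : Q := act 1 n78081
theorem D162598 : act 1 n78081 = n162598 := rfl
def n162604 : Q := act 3 n78084
theorem D162604 : act 3 n78084 = n162604 := rfl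
def n162605 : Q := act 4 n78084
theorem D162605 : act 4 n78084 = n162605 := rfl
def n162606 : Q := act 6 n78084
theorem D162606 : act 6 n78084 = n162606 := rfl
def n162607 : Q := act 3 n78085
theorem D162607 : act 3 n78085 = n162607 := rfl
theorem F256838 : act 5 n162607 = n158704 := d6_2 F119273 D162607 F249862
def n162608 : Q := act 4 n78085
theorem D162608 : act 4 n78085 = n162608 := rfl
def n162609 : Q := act 6 n78085
theorem D162609 : act 6 n78085 = n162609 := rfl
theorem F256839 : act 5 n162609 = n158707 := d12_1 D162609 (iv6 D158707) (iv5 D75703) D75704 F119273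
def n162610 : Q := act 0 n78086
theorem D162610 : act 0 n78086 = n162610 := rfl
def n162611 : Q := act 1 n78086
theorem D162611 : act 1 n78086 = n162611 := rfl
def n162612 : Q := act 3 n78086
theorem D162612 : act 3 n78086 = n162612 := rfl
theorem F256840 : act 4 n162612 = n128260 := d5_2 D78086 D162612 (iv3 D128260) (iv4 D60289) (iv3 F56295)
def n162613 : Q := act 5 n78086
theorem D162613 : act 5 n78086 = n162613 := rfl
def n162614 : Q := act 7 n78086
theorem D162614 : act 7 n78086 = n162614 := rfl
def n162617 : Q := act 4 n78097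
theorem D162617 : act 4 n78097 = n162617 := rfl
theorem F256845 : act 0 n162617 = n84563 := d20_7 D18848 (iv1 F60633) F60635 D73840 F121364 (iv3 F119284) D162617 F129725 F60028 F29708
def n162618 : Q := act 6 n78097
theorem D162618 : act 6 n78097 = n162618 := rfl
theorem F256846 : act 3 n162618 = n78109 := d7_1 D162618 (iv6 D78109) (iv3 F119284)
def n162619 : Q := act 3 n78100
theorem D162619 : act 3 n78100 = n162619 := rfl
theorem F256849 : act 7 n162619 = n81849 := d8_2 (iv7 F124369) D162619 F125813
def n162620 : Q := act 5 n78100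
theorem D162620 : act 5 n78100 = n162620 := rfl
theorem F256851 : act 7 n162620 = n81851 := d13_2 (iv7 F124369) D162620 (iv5 D81851)
def n162621 : Q := act 0 n78102
theorem D162621 : act 0 n78102 = n162621 := rfl
theorem F256852 : act 4 n162621 = n153895 := d20_0 (iv1 D153895) F109299 (iv3 D60284) (iv1 D28643) (iv3 F28201) F28202 D17250 D35616 D78102 D162621
theorem F256853 : act 3 n128283 = n162621 := d20_5 F22811 D13658 D28649 D60308 D128283 F256852 (iv1 D153895) F109299 (iv3 D60284) (iv1 D28643)
def n162622 : Q := act 1 n78102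
theorem D162622 : act 1 n78102 = n162622 := rfl
theorem F256854 : act 4 n153894 = n162622 := d20_0 (iv1 D162622) (iv4 F196233) (iv3 D122561) (iv1 F89935) F44475 F25832 (iv1 F25770) D33582 D72813 D153894
def n162623 : Q := act 2 n78102
theorem D162623 : act 2 n78102 = n162623 := rfl
def n162624 : Q := act 5 n78102
theorem D162624 : act 5 n78102 = n162624 := rfl
theorem F256856 : act 3 n162624 = n78103 := d6_1 D162624 (iv5 D78103) D78102
def n162625 : Q := act 6 n78102
theorem D162625 : act 6 n78102 = n162625 := rfl
theorem F256857 : act 3 n162625 = n78104 := d7_1 D162625 (iv6 D78104) D78102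
def n162626 : Q := act 0 n78103
theorem D162626 : act 0 n78103 = n162626 := rfl
theorem F256858 : act 5 n162626 = n122455 := d17_3 F124367 D78103 D162626 F195910 (iv5 F128139) (iv0 F128140) (iv5 D38812) (iv0 F124310) (iv4 F115742)
def n162627 : Q := act 1 n78103
theorem D162627 : act 1 n78103 = n162627 := rfl
theorem F256860 : act 1 n162627 = n78122 := d15_1 D162627 (iv7 F256769) F256768
theorem F256861 : act 5 n158715 = n162627 := d21_6 (iv5 F253933) (iv1 F253934) (iv5 D77162) D77163 D160808 (iv6 F253972) (iv1 D162627) (iv5 D78103) D78104 F198970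
def n162628 : Q := act 4 n78103
theorem D162628 : act 4 n78103 = n162628 := rfl
def n162629 : Q := act 6 n78103
theorem D162629 : act 6 n78103 = n162629 := rfl
def n162632 : Q := act 4 n78106
theorem D162632 : act 4 n78106 = n162632 := rfl
theorem F256867 : act 6 n162632 = n78189 := d10_2 (iv6 F121361) D162632 (iv4 D78189)
def n162633 : Q := act 0 n78108
theorem D162633 : act 0 n78108 = n162633 := rfl
theorem F256868 : act 4 n162633 = n83122 := d18_3 F121364 D78108 D162633 F128139 (iv4 F195910) (iv0 F195911) F123644 F121369 (iv5 F110623)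
theorem F256869 : act 1 n78124 = n162633 := d15_0 (iv0 D162633) (iv7 F256776) F256774
theorem F256870 : act 6 n83121 = n162633 := d10_0 F256868 (iv6 D83122) D83121
def n162635 : Q := act 3 n78108
theorem D162635 : act 3 n78108 = n162635 := rfl
def n162636 : Q := act 5 n78108
theorem D162636 : act 5 n78108 = n162636 := rfl
def n162637 : Q := act 6 n78108
theorem D162637 : act 6 n78108 = n162637 := rfl
theorem F256874 : act 4 n162637 = n78109 := d10_1 D162637 (iv6 D78109) D78108
def n162638 : Q := act 0 n78121
theorem D162638 : act 0 n78121 = n162638 := rfl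
def n162639 : Q := act 1 n78121
theorem D162639 : act 1 n78121 = n162639 := rfl
theorem F256875 : act 3 n128071 = n162639 := d20_3 F110020 (iv1 F162950) (iv4 F206096) (iv1 D162639) (iv3 D78121) (iv4 D35621) (iv1 D17251) (iv4 F28202) F28201 D28642
theorem F256876 : act 4 n128400 = n162639 := d20_6 F33916 (iv1 F126007) D18823 (iv3 F46221) D60375 D128400 (iv1 D162639) (iv4 F146837) (iv3 D95254) F126049
theorem F256877 : act 7 n162639 = n128095 := d11_2 (iv7 F206523) F256876 F206173
theorem E24000 : n162638 = n160622 := ((c15_4 (iv0 D162638) D162639 F256877 (iv2 F253725))).symm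
theorem F256878 : act 1 n160622 = n78121 := (sb E24000 (iv0 D162638))
def n162645 : Q := act 0 n78123
theorem D162645 : act 0 n78123 = n162645 := rfl
theorem F256881 : act 5 n162645 = n160703 := d17_1 D162645 (iv1 F253847) (iv5 D122164) (iv4 D56536) D56537 F120864 (iv5 F88887) F121366 (iv4 F119302)
theorem F256882 : act 4 n162645 = n84061 := d18_3 F122551 (iv4 F119302) D162645 (iv5 F196696) (iv4 F253850) (iv0 D160706) (iv4 D77104) F120817 F88875
theorem F256883 : act 6 n84060 = n162645 := d10_0 F256882 (iv6 D84061) D84060
def n162650 : Q := act 6 n78124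
theorem D162650 : act 6 n78124 = n162650 := rfl
theorem F256887 : act 4 n162650 = n78125 := d10_1 D162650 (iv6 D78125) D78124
def n162651 : Q := act 0 n78132
theorem D162651 : act 0 n78132 = n162651 := rfl
theorem F256890 : act 1 n78137 = n162651 := d15_0 (iv0 D162651) (iv7 F256782) F256780
theorem F256891 : act 7 n162651 = n81859 := d15_2 (iv0 F248955) F256890 (iv2 F248953)
def n162652 : Q := act 3 n78132
theorem D162652 : act 3 n78132 = n162652 := rfl
def n162653 : Q := act 5 n78132
theorem D162653 : act 5 n78132 = n162653 := rfl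
def n162654 : Q := act 6 n78132
theorem D162654 : act 6 n78132 = n162654 := rfl
theorem F256893 : act 4 n162654 = n78134 := d10_1 D162654 (iv6 D78134) D78132
def n162655 : Q := act 0 n78134
theorem D162655 : act 0 n78134 = n162655 := rfl
theorem F256894 : act 6 n162655 = n80002 := d21_5 F56321 D56402 F121394 D78134 D162655 F253988 (iv1 D160823) F194247 (iv6 F194246) F121468
theorem F256895 : act 1 n79823 = n162655 := d15_0 (iv0 D162655) (iv7 F193214) F193212
theorem F256896 : act 2 n121259 = n162655 := d3_3 F256894 F254942 D121259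
def n162656 : Q := act 1 n78134
theorem D162656 : act 1 n78134 = n162656 := rfl
theorem F256897 : act 1 n162656 = n79823 := d15_1 D162656 (iv7 F193224) F193222
theorem F256898 : act 7 n162656 = n121259 := d15_2 (iv0 D162655) D162656 F256896
theorem F256899 : act 5 n121259 = n162656 := d21_0 (iv1 D162656) (iv5 F193040) (iv6 D121050) (iv1 F88337) (iv6 F121361) F121360 D121948 F194709 (iv6 F193225) (iv1 F254935)
theorem F256900 : act 6 n78742 = n162656 := d21_3 (iv5 F57227) F254940 D78742 (iv1 D162656) (iv6 D78134) (iv5 F121394) (iv1 F194718) (iv5 F244337) F244338 (iv1 D78463)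
def n162657 : Q := act 3 n78137
theorem D162657 : act 3 n78137 = n162657 := rfl
def n162658 : Q := act 5 n78137
theorem D162658 : act 5 n78137 = n162658 := rfl
def n162659 : Q := act 3 n78140
theorem D162659 : act 3 n78140 = n162659 := rfl
theorem F256902 : act 4 n162659 = n162319 := d5_2 (iv4 F129295) D162659 (iv3 D162319) (iv4 F194381) F194383
def n162660 : Q := act 5 n78140
theorem D162660 : act 5 n78140 = n162660 := rfl
def n162661 : Q := act 6 n78140
theorem D162661 : act 6 n78140 = n162661 := rfl
def n162662 : Q := act 3 n78141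
theorem D162662 : act 3 n78141 = n162662 := rfl
theorem F256903 : act 4 n162662 = n158765 := d5_2 F119313 D162662 (iv3 D158765) (iv4 D75736) (iv3 F113565)
def n162663 : Q := act 5 n78141
theorem D162663 : act 5 n78141 = n162663 := rfl
def n162664 : Q := act 0 n78142
theorem D162664 : act 0 n78142 = n162664 := rfl
def n162665 : Q := act 1 n78142
theorem D162665 : act 1 n78142 = n162665 := rfl
def n162666 : Q := act 2 n78142
theorem D162666 : act 2 n78142 = n162666 := rfl
theorem F256904 : act 4 n162666 = n78150 := d1_2 (iv4 F119314) D162666 (iv2 D78150)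
theorem F256905 : act 6 n162666 = n80012 := d3_2 (iv6 F119315) D162666 (iv2 D80012)
def n162667 : Q := act 5 n78142
theorem D162667 : act 5 n78142 = n162667 := rfl
theorem F256906 : act 3 n162667 = n78143 := d6_1 D162667 (iv5 D78143) D78142
def n162668 : Q := act 7 n78142
theorem D162668 : act 7 n78142 = n162668 := rfl
theorem F256907 : act 3 n162668 = n78144 := d8_1 D162668 (iv7 D78144) D78142
theorem F256908 : act 4 n162668 = n78152 := d11_1 D162668 (iv7 D78152) (iv4 F119314)
def n162669 : Q := act 0 n78143
theorem D162669 : act 0 n78143 = n162669 := rfl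
def n162670 : Q := act 1 n78143
theorem D162670 : act 1 n78143 = n162670 := rfl
def n162671 : Q := act 4 n78143
theorem D162671 : act 4 n78143 = n162671 := rfl
def n162672 : Q := act 6 n78143
theorem D162672 : act 6 n78143 = n162672 := rfl
theorem F256910 : act 5 n162672 = n80014 := d12_1 D162672 (iv6 D80014) (iv5 D36444) (iv6 F56300) D78143
def n162673 : Q := act 7 n78143
theorem D162673 : act 7 n78143 = n162673 := rfl
theorem F256911 : act 5 n162673 = n78144 := d13_1 D162673 (iv7 D78144) D78143
def n162679 : Q := act 0 n78148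
theorem D162679 : act 0 n78148 = n162679 := rfl
theorem F256922 : act 2 n78152 = n162679 := d15_3 (iv0 D162679) (iv0 D78148) D78152
theorem F256923 : act 6 n162679 = n160946 := d3_2 (iv6 F119327) F256922 (iv2 F254159)
theorem F256924 : act 7 n162679 = n78150 := d4_2 D78152 F256922 (iv2 D78150)
def n162680 : Q := act 2 n78148
theorem D162680 : act 2 n78148 = n162680 := rfl
def n162681 : Q := act 3 n78148
theorem D162681 : act 3 n78148 = n162681 := rfl
def n162682 : Q := act 4 n78148
theorem D162682 : act 4 n78148 = n162682 := rfl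
def n162683 : Q := act 5 n78148
theorem D162683 : act 5 n78148 = n162683 := rfl
def n162684 : Q := act 6 n78148
theorem D162684 : act 6 n78148 = n162684 := rfl
def n162685 : Q := act 7 n78148
theorem D162685 : act 7 n78148 = n162685 := rfl
def n162690 : Q := act 0 n78150
theorem D162690 : act 0 n78150 = n162690 := rfl
theorem F256928 : act 1 n78152 = n162690 := d15_0 (iv0 D162690) (iv7 F256924) (iv2 F256922)
def n162691 : Q := act 1 n78150
theorem D162691 : act 1 n78150 = n162691 := rfl
theorem F256929 : act 1 n162691 = n78152 := d15_1 D162691 (iv7 D78152) D78150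
def n162692 : Q := act 5 n78150
theorem D162692 : act 5 n78150 = n162692 := rfl
theorem F256930 : act 2 n162692 = n78151 := d2_1 D162692 (iv5 D78151) D78150
def n162693 : Q := act 0 n78151
theorem D162693 : act 0 n78151 = n162693 := rfl
def n162694 : Q := act 1 n78151
theorem D162694 : act 1 n78151 = n162694 := rfl
def n162695 : Q := act 4 n78151
theorem D162695 : act 4 n78151 = n162695 := rfl
def n162696 : Q := act 7 n78151
theorem D162696 : act 7 n78151 = n162696 := rfl
theorem F256931 : act 3 n162696 = n78153 := d8_1 D162696 (iv7 D78153) (iv3 F119325)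
theorem F256932 : act 5 n162696 = n78152 := d13_1 D162696 (iv7 D78152) D78151
theorem F256933 : act 6 n127336 = n162696 := d7_0 F256931 (iv6 F119333) D127336
def n162697 : Q := act 0 n78161
theorem D162697 : act 0 n78161 = n162697 := rfl
theorem F256934 : act 3 n162697 = n83183 := d20_5 (iv4 D17277) D17274 D35636 D78161 D162697 (iv4 D83183) (iv1 D38292) (iv4 F59137) F59136 (iv1 F117742)
theorem F256935 : act 4 n162697 = n124681 := d20_0 (iv1 D124681) (iv4 F94819) F94818 (iv1 F190666) (iv3 D35649) (iv4 D17277) D17274 D35636 D78161 D162697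
def n162698 : Q := act 1 n78161
theorem D162698 : act 1 n78161 = n162698 := rfl
theorem F256936 : act 4 n123232 = n162698 := d20_0 (iv1 D162698) (iv4 F197207) F197206 (iv1 F121194) (iv3 F121100) (iv4 D55132) (iv1 F190515) (iv4 F44819) (iv3 F92123) (iv1 F235761)
def n162699 : Q := act 2 n78161
theorem D162699 : act 2 n78161 = n162699 := rfl
def n162700 : Q := act 5 n78161
theorem D162700 : act 5 n78161 = n162700 := rfl
theorem F256937 : act 3 n162700 = n78162 := d6_1 D162700 (iv5 D78162) D78161
def n162701 : Q := act 4 n78162
theorem D162701 : act 4 n78162 = n162701 := rfl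
def n162702 : Q := act 6 n78162
theorem D162702 : act 6 n78162 = n162702 := rfl
def n162703 : Q := act 3 n78167
theorem D162703 : act 3 n78167 = n162703 := rfl
def n162704 : Q := act 5 n78167
theorem D162704 : act 5 n78167 = n162704 := rfl
def n162705 : Q := act 0 n78186
theorem D162705 : act 0 n78186 = n162705 := rfl
theorem F256938 : act 1 n128157 = n162705 := d15_0 (iv0 D162705) (iv7 F128116) (iv2 F206286)
def n162706 : Q := act 1 n78186
theorem D162706 : act 1 n78186 = n162706 := rfl
theorem F256939 : act 1 n162706 = n128157 := d15_1 D162706 (iv7 F242263) F242261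
def n162707 : Q := act 5 n78186
theorem D162707 : act 5 n78186 = n162707 := rfl
theorem F256940 : act 3 n162707 = n78187 := d6_1 D162707 (iv5 D78187) D78186
def n162708 : Q := act 6 n78186
theorem D162708 : act 6 n78186 = n162708 := rfl
theorem F256941 : act 3 n162708 = n78188 := d7_1 D162708 (iv6 D78188) D78186
def n162709 : Q := act 4 n78187
theorem D162709 : act 4 n78187 = n162709 := rfl
theorem F256942 : act 2 n162709 = n78200 := d1_1 D162709 (iv4 D78200) (iv2 F119392)
def n162710 : Q := act 6 n78187
theorem D162710 : act 6 n78187 = n162710 := rfl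
theorem F256943 : act 2 n162710 = n78201 := d3_1 D162710 (iv6 D78201) (iv2 F119392)
def n162711 : Q := act 3 n78189
theorem D162711 : act 3 n78189 = n162711 := rfl
def n162712 : Q := act 5 n78189
theorem D162712 : act 5 n78189 = n162712 := rfl
theorem F256944 : act 2 n162712 = n78218 := d2_1 D162712 (iv5 D78218) (iv2 F119395)
def n162713 : Q := act 0 n78191
theorem D162713 : act 0 n78191 = n162713 := rfl
def n162714 : Q := act 1 n78191
theorem D162714 : act 1 n78191 = n162714 := rfl
theorem F256945 : act 4 n161356 = n162714 := d20_6 (iv4 D35385) (iv1 D17166) (iv4 F28111) (iv3 F56074) D77463 D161356 (iv1 D162714) F243984 (iv3 F243983) (iv1 F116331)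
def n162715 : Q := act 2 n78191
theorem D162715 : act 2 n78191 = n162715 := rfl
def n162716 : Q := act 5 n78191
theorem D162716 : act 5 n78191 = n162716 := rfl
theorem F256946 : act 3 n162716 = n78192 := d6_1 D162716 (iv5 D78192) D78191
def n162717 : Q := act 4 n78192
theorem D162717 : act 4 n78192 = n162717 := rfl
def n162718 : Q := act 6 n78192
theorem D162718 : act 6 n78192 = n162718 := rfl
def n162719 : Q := act 0 n78196
theorem D162719 : act 0 n78196 = n162719 := rfl
theorem F256947 : act 5 n162719 = n150328 := d17_3 (iv1 F190666) D78196 D162719 F236588 (iv5 F191085) (iv0 F191087) (iv5 F109542) (iv0 D58256) (iv4 F46201)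
theorem F256948 : act 1 n128158 = n162719 := d15_0 (iv0 D162719) F119405 (iv2 F206287)
theorem F256949 : act 2 n149940 = n162719 := d2_3 F256947 (iv2 F236587) F241010
theorem F256950 : act 7 n149939 = n162719 := d15_2 (iv0 F242266) F242267 (iv2 F256949)
def n162720 : Q := act 1 n78196
theorem D162720 : act 1 n78196 = n162720 := rfl
theorem F256951 : act 1 n162720 = n128158 := d15_1 D162720 (iv7 F242265) F242264
theorem F256952 : act 7 n162720 = n149940 := d15_2 (iv0 D162719) D162720 F256949
theorem F256953 : act 2 n149939 = n162720 := d4_3 F256952 F256949 (iv7 F256950)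
theorem F256954 : act 5 n150329 = n162720 := d13_3 F256952 (iv5 F241010) (iv7 F236586)
def n162721 : Q := act 4 n78196
theorem D162721 : act 4 n78196 = n162721 := rfl
theorem F256955 : act 7 n162721 = n149941 := d11_2 (iv7 F119405) D162721 (iv4 D149941)
theorem F256956 : act 5 n162721 = n154290 := d16_1 D162721 F242393 (iv5 F206292) (iv4 D128160) (iv5 D60245) D60244 D128158 (iv7 F242265) F242264
def n162722 : Q := act 6 n78196
theorem D162722 : act 6 n78196 = n162722 := rfl
theorem F256957 : act 3 n162722 = n78201 := d7_1 D162722 (iv6 D78201) (iv3 F119404)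
def n162723 : Q := act 0 n78197
theorem D162723 : act 0 n78197 = n162723 := rfl
def n162724 : Q := act 1 n78197
theorem D162724 : act 1 n78197 = n162724 := rfl
def n162725 : Q := act 5 n78197
theorem D162725 : act 5 n78197 = n162725 := rfl
theorem F256958 : act 2 n162725 = n153595 := d2_1 D162725 (iv5 F242270) F242268
theorem F256959 : act 3 n162725 = n78204 := d6_1 D162725 (iv5 D78204) (iv3 F119406)
theorem F256961 : act 1 n162725 = n150666 := d17_6 (iv1 F188310) (iv5 F94702) F190970 F56331 (iv4 F119407) D162725 (iv5 D150666) F123755 F123751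
theorem F256962 : act 0 n162725 = n150242 := d21_7 (iv5 F54539) F54540 (iv5 D28636) D28637 (iv1 F190666) D78197 D162725 (iv5 D150242) (iv6 D70724) (iv1 F51902)
def n162729 : Q := act 3 n78199
theorem D162729 : act 3 n78199 = n162729 := rfl
def n162730 : Q := act 4 n78199
theorem D162730 : act 4 n78199 = n162730 := rfl
def n162731 : Q := act 6 n78199
theorem D162731 : act 6 n78199 = n162731 := rfl
def n162732 : Q := act 0 n78200
theorem D162732 : act 0 n78200 = n162732 := rfl
def n162733 : Q := act 1 n78200
theorem D162733 : act 1 n78200 = n162733 := rfl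
def n162734 : Q := act 3 n78200
theorem D162734 : act 3 n78200 = n162734 := rfl
def n162735 : Q := act 5 n78200
theorem D162735 : act 5 n78200 = n162735 := rfl
def n162736 : Q := act 6 n78200
theorem D162736 : act 6 n78200 = n162736 := rfl
theorem F256963 : act 4 n162736 = n78201 := d10_1 D162736 (iv6 D78201) D78200
def n162737 : Q := act 0 n78201
theorem D162737 : act 0 n78201 = n162737 := rfl
def n162738 : Q := act 1 n78201
theorem D162738 : act 1 n78201 = n162738 := rfl
def n162739 : Q := act 5 n78201
theorem D162739 : act 5 n78201 = n162739 := rfl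
theorem F256964 : act 6 n162739 = n78204 := d12_2 D78201 D162739 (iv5 D78204) (iv6 D35651) D35650
def n162740 : Q := act 7 n78201
theorem D162740 : act 7 n78201 = n162740 := rfl
def n162742 : Q := act 3 n78203
theorem D162742 : act 3 n78203 = n162742 := rfl
theorem F256965 : act 4 n162742 = n84118 := d5_2 F119408 D162742 F129138 F59665 (iv3 F59509)
theorem F256966 : act 6 n162742 = n84056 := d7_2 (iv6 F119409) D162742 (iv3 D84056)
def n162744 : Q := act 1 n78207
theorem D162744 : act 1 n78207 = n162744 := rfl
theorem F256968 : act 1 n162744 = n78212 := d15_1 D162744 (iv7 F193045) F193044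
theorem F256969 : act 7 n162744 = n83128 := d15_2 F198989 D162744 (iv2 F198987)
theorem F256970 : act 4 n83092 = n162744 := d20_0 (iv1 D162744) (iv4 D78207) (iv3 F123182) (iv1 D77835) F56200 D35525 (iv1 F117636) (iv4 F197454) (iv3 F198972) (iv1 F198973)
theorem F256971 : act 2 n162744 = n83121 := d1_1 F256970 (iv4 D83121) (iv2 F128089)
def n162745 : Q := act 3 n78207
theorem D162745 : act 3 n78207 = n162745 := rfl
theorem F256972 : act 6 n162745 = n160796 := d7_2 (iv6 F121470) D162745 (iv3 D160796)
def n162746 : Q := act 5 n78207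
theorem D162746 : act 5 n78207 = n162746 := rfl
def n162747 : Q := act 4 n78211
theorem D162747 : act 4 n78211 = n162747 := rfl
theorem F256973 : act 2 n162747 = n84483 := d1_1 D162747 F192780 (iv2 F192779)
theorem F256974 : act 6 n162747 = n157781 := d10_2 F193215 D162747 (iv4 F255419)
theorem F256975 : act 7 n162747 = n84482 := d11_2 F192775 D162747 (iv4 F192771)
theorem F256976 : act 0 n162747 = n84359 := d18_2 (iv1 F195252) D162747 (iv4 D84359) (iv5 D38898) D38897 (iv0 F121264) F70003 (iv0 F121262) D84444
theorem F256977 : act 0 n84362 = n162747 := d20_1 D84362 (iv4 D162747) (iv3 D78211) (iv1 D35653) F28222 D17289 D35671 F56352 (iv3 F87945) (iv1 F117032)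
def n162748 : Q := act 3 n78212
theorem D162748 : act 3 n78212 = n162748 := rfl
def n162749 : Q := act 5 n78212
theorem D162749 : act 5 n78212 = n162749 := rfl
def n162750 : Q := act 3 n78215
theorem D162750 : act 3 n78215 = n162750 := rfl
def n162751 : Q := act 5 n78215
theorem D162751 : act 5 n78215 = n162751 := rfl
theorem F256978 : act 1 n162751 = n121070 := d17_6 F118257 (iv5 F118242) (iv1 F249236) F248943 (iv4 F193026) D162751 (iv5 D121070) F128175 F128174
def n162752 : Q := act 6 n78215
theorem D162752 : act 6 n78215 = n162752 := rfl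
theorem F256980 : act 4 n162752 = n122367 := d10_1 D162752 F195731 (iv4 F193026)
theorem F256982 : act 0 n79885 = n162752 := d18_2 (iv1 F121408) (iv4 F122635) F256980 (iv5 D122367) F117567 (iv0 D35216) F28040 D17095 D35228
theorem F256983 : act 1 n160792 = n162752 := d18_6 F127054 F125869 (iv1 F194380) F128122 F121268 D160792 F256980 (iv0 F195739) F129999
def n162753 : Q := act 3 n78216
theorem D162753 : act 3 n78216 = n162753 := rfl
def n162754 : Q := act 5 n78216
theorem D162754 : act 5 n78216 = n162754 := rfl
theorem F256984 : act 0 n162754 = n121070 := d17_2 F193024 D162754 (iv5 D121070) (iv4 D55867) F43975 D56556 F121374 F88329 D121041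
def n162755 : Q := act 6 n78216
theorem D162755 : act 6 n78216 = n162755 := rfl
def n162756 : Q := act 0 n78217
theorem D162756 : act 0 n78217 = n162756 := rfl
def n162757 : Q := act 1 n78217
theorem D162757 : act 1 n78217 = n162757 := rfl
def n162758 : Q := act 2 n78217
theorem D162758 : act 2 n78217 = n162758 := rfl
theorem F256985 : act 4 n162758 = n78267 := d1_2 (iv4 F119413) D162758 (iv2 D78267)
def n162759 : Q := act 5 n78217
theorem D162759 : act 5 n78217 = n162759 := rfl
theorem F256986 : act 3 n162759 = n78218 := d6_1 D162759 (iv5 D78218) D78217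
def n162760 : Q := act 6 n78217
theorem D162760 : act 6 n78217 = n162760 := rfl
theorem F256987 : act 3 n162760 = n78219 := d7_1 D162760 (iv6 D78219) D78217
def n162761 : Q := act 0 n78218
theorem D162761 : act 0 n78218 = n162761 := rfl
theorem F256989 : act 5 n162761 = n78375 := d17_3 (iv1 D78216) D78218 D162761 F128102 F128099 F59128 D38262 D83120 (iv4 F128135)
def n162762 : Q := act 4 n78218
theorem D162762 : act 4 n78218 = n162762 := rfl
def n162763 : Q := act 6 n78218
theorem D162763 : act 6 n78218 = n162763 := rfl
def n162765 : Q := act 5 n78219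
theorem D162765 : act 5 n78219 = n162765 := rfl
theorem F256990 : act 0 n162765 = n162660 := d17_2 F129224 D162765 (iv5 D162660) F129295 (iv5 F195915) (iv0 D122456) (iv5 F128139) (iv0 F128140) D84180
theorem F256991 : act 1 n162765 = n162663 := d17_6 (iv1 F119256) (iv5 F121385) (iv1 D56403) (iv5 F56321) (iv4 F119414) D162765 (iv5 D162663) F256794 F256792
def n162766 : Q := act 5 n78224
theorem D162766 : act 5 n78224 = n162766 := rfl
def n162768 : Q := act 5 n78229
theorem D162768 : act 5 n78229 = n162768 := rfl
theorem F256993 : act 1 n162768 = n122454 := d17_6 (iv1 F43891) F56316 (iv1 F57608) F121392 D78229 D162768 (iv5 D122454) (iv0 F89762) (iv4 D36715)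
def n162769 : Q := act 6 n78229
theorem D162769 : act 6 n78229 = n162769 := rfl
theorem F256995 : act 4 n162769 = n78231 := d10_1 D162769 (iv6 D78231) D78229
theorem F256997 : act 0 n162769 = n84060 := d21_4 D122454 (iv1 F256993) (iv5 D162768) D162769 F256883 F256881 (iv1 F253847) (iv5 D122164) (iv6 F121351) F89762
def n162770 : Q := act 3 n78234
theorem D162770 : act 3 n78234 = n162770 := rfl
theorem F256999 : act 4 n162770 = n119443 := d5_2 D78234 D162770 F188208 F189964 (iv3 D78233)
theorem F257000 : act 6 n162770 = n128101 := d7_2 (iv6 F191390) D162770 F206177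
theorem F257001 : act 7 n162770 = n119439 := d8_2 F191392 D162770 F188204
theorem F257002 : act 0 n162770 = n83183 := d20_4 F56317 D35658 D78234 D162770 (iv3 F256934) F256935 (iv1 D124681) (iv4 F94819) F94818 (iv1 F190666)
theorem F257003 : act 1 n155092 = n83183 := d15_0 (iv0 F257002) F257001 (iv2 F243919)
theorem F257004 : act 0 n83178 = n162770 := d20_1 D83178 F256999 F188208 (iv1 F189967) F117679 (iv4 D18302) (iv1 D8628) (iv4 F13540) (iv3 F29487) D38291
def n162771 : Q := act 5 n78234
theorem D162771 : act 5 n78234 = n162771 := rfl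
theorem F257007 : act 4 n162771 = n154292 := d16_2 D78234 D162771 (iv5 D154292) (iv4 D73104) (iv5 D33674) F50908 (iv5 D28630) D28631 (iv2 F189917)
theorem F257008 : act 0 n162771 = n128154 := d17_2 F189933 D162771 (iv5 F206284) (iv4 D73021) (iv5 D33646) F44825 (iv5 F92093) F92097 (iv4 F190649)
def n162772 : Q := act 6 n78242
theorem D162772 : act 6 n78242 = n162772 := rfl
theorem F257011 : act 3 n162772 = n149897 := d7_1 D162772 (iv6 D149897) (iv3 F119422)
theorem F257013 : act 5 n162772 = n128011 := d12_1 D162772 (iv6 D128011) F190679 (iv6 D78243) D78242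
theorem F257015 : act 0 n162772 = n148952 := d21_4 F90788 F190013 D78242 D162772 (iv6 D148952) D148951 F234026 F107270 (iv6 D70465) (iv1 F190034)
theorem F257016 : act 0 n86774 = n85812 := d21_10 F205232 (iv1 D127660) D127661 F205230 (iv1 F119425) D162772 F257013 F206014 (iv5 D86773) D86774
theorem F257017 : act 1 n146028 = n85812 := d15_0 (iv0 F257016) (iv7 F234784) (iv2 F234785)
theorem F257018 : act 6 n118317 = n157458 := d21_9 (iv5 D131777) (iv1 F209895) D157457 F248075 (iv1 F188362) D128011 (iv5 F257013) F257015 F234029 (iv1 F248086)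
def n162773 : Q := act 0 n78246
theorem D162773 : act 0 n78246 = n162773 := rfl
theorem F257022 : act 5 n162773 = n154114 := d17_1 D162773 (iv1 D154114) (iv5 D72973) D72972 (iv5 F205830) F205833 F206120 (iv0 D78244) D78246
theorem F257023 : act 4 n162773 = n118596 := d18_3 (iv1 D78245) D78246 D162773 F191085 (iv4 F236588) (iv0 D150328) F107268 D70805 F204992
theorem F257024 : act 1 n128160 = n162773 := d15_0 (iv0 D162773) F119431 (iv2 F206290)
theorem F257026 : act 6 n147410 = n162773 := d10_0 F257023 (iv6 F191084) D147410
theorem F257027 : act 7 n120573 = n162773 := d11_0 F257023 F192068 (iv4 F192147)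
def n162774 : Q := act 1 n78246
theorem D162774 : act 1 n78246 = n162774 := rfl
theorem F257028 : act 1 n162774 = n128160 := d15_1 D162774 (iv7 F242197) F242196
theorem F257030 : act 4 n162774 = n118595 := d17_9 (iv1 F191088) (iv5 F109542) (iv1 F92095) F52928 (iv4 F52921) (iv5 F109478) F199479 F199473 D162774
theorem F257031 : act 2 n120573 = n162774 := d1_3 F257030 F192045 (iv4 F192147)
theorem F257032 : act 6 n120555 = n162774 := d10_0 F257030 (iv6 F191094) D120555
theorem F257033 : act 5 n154113 = n162774 := d17_3 D33634 D72973 D154113 F257030 F191092 (iv0 D73003) (iv5 D33641) (iv0 D16264) (iv4 F25828)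
def n162776 : Q := act 6 n78246
theorem D162776 : act 6 n78246 = n162776 := rfl
theorem F257037 : act 4 n162776 = n78247 := d10_1 D162776 (iv6 D78247) D78246
theorem F257038 : act 7 n162776 = n153190 := d14_2 (iv7 F119431) D162776 (iv6 D153190) F191080 (iv6 F191078)
theorem F257039 : act 1 n124861 = n162776 := d15_1 (iv0 F240964) F257038 F240501
theorem F257041 : act 0 n86804 = n118318 := d18_0 (iv4 F200501) (iv1 F200504) (iv4 D58375) D58376 D124861 F257039 F257037 (iv0 F236697) F236695
theorem F257042 : act 0 n118864 = n86805 := d20_1 (iv4 F186933) (iv4 D86805) D86804 F257041 F185896 (iv4 F185910) (iv1 F185913) (iv4 F186172) D118424 F232585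
def n162777 : Q := act 4 n78248
theorem D162777 : act 4 n78248 = n162777 := rfl
theorem F257044 : act 2 n162777 = n128348 := d1_1 D162777 F206471 (iv2 F201134)
theorem F257045 : act 6 n162777 = n125150 := d10_2 (iv6 F201137) D162777 (iv4 D125150)
def n162778 : Q := act 3 n78249
theorem D162778 : act 3 n78249 = n162778 := rfl
theorem F257046 : act 6 n162778 = n144892 := d7_2 (iv6 F201144) D162778 F229096
theorem F257047 : act 7 n162778 = n128345 := d8_2 (iv7 F201142) D162778 F206470
theorem F257048 : act 0 n162778 = n128135 := d21_4 F51993 D67913 D144892 (iv6 F257046) (iv6 D128135) D128134 (iv1 F206253) F234818 F234817 (iv1 D70860)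
def n162779 : Q := act 4 n78249
theorem D162779 : act 4 n78249 = n162779 := rfl
theorem F257050 : act 7 n162779 = n128348 := d11_2 (iv7 F201142) D162779 F206471
theorem F257051 : act 0 n162779 = n128149 := d18_2 (iv1 F123841) D162779 F206279 F109547 D153616 (iv0 F241491) F206003 F190971 F185836
theorem F257052 : act 1 n162777 = n128149 := d15_0 (iv0 F257051) F257050 (iv2 F257044)
def n162780 : Q := act 3 n78253
theorem D162780 : act 3 n78253 = n162780 := rfl
theorem F257053 : act 6 n162780 = n149810 := d7_2 (iv6 F119444) D162780 (iv3 D149810)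
def n162781 : Q := act 0 n78254
theorem D162781 : act 0 n78254 = n162781 := rfl
def n162782 : Q := act 1 n78254
theorem D162782 : act 1 n78254 = n162782 := rfl
theorem F257056 : act 3 n81593 = n162782 := d20_3 (iv4 F124528) F150363 (iv4 F125490) (iv1 D162782) (iv3 D78254) (iv4 D35665) D35663 D78251 F149270 (iv1 D96801)
theorem F257057 : act 6 n162782 = n81591 := d7_2 D81593 F257056 (iv3 D81591)
def n162783 : Q := act 2 n78254
theorem D162783 : act 2 n78254 = n162783 := rfl
theorem F257059 : act 7 n162783 = n149954 := d4_2 (iv7 F119448) D162783 (iv2 D149954)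
theorem F257062 : act 1 n149953 = n162783 := d15_1 D149953 F257059 (iv2 D149954)
def n162786 : Q := act 0 n78256
theorem D162786 : act 0 n78256 = n162786 := rfl
theorem F257067 : act 4 n162786 = n83123 := d18_3 F88048 D78256 D162786 (iv5 D83123) F117837 F88040 F43398 F43336 D55653
theorem F257068 : act 6 n79704 = n162786 := d10_0 F257067 (iv6 F198731) (iv4 F250144)
def n162789 : Q := act 0 n78257
theorem D162789 : act 0 n78257 = n162789 := rfl
def n162790 : Q := act 1 n78257
theorem D162790 : act 1 n78257 = n162790 := rfl
def n162791 : Q := act 2 n78257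
theorem D162791 : act 2 n78257 = n162791 := rfl
theorem F257073 : act 6 n162791 = n160926 := d3_2 (iv6 F119452) D162791 (iv2 D160926)
def n162792 : Q := act 5 n78257
theorem D162792 : act 5 n78257 = n162792 := rfl
theorem F257074 : act 3 n162792 = n78258 := d6_1 D162792 (iv5 D78258) D78257
def n162793 : Q := act 6 n78258
theorem D162793 : act 6 n78258 = n162793 := rfl
theorem F257075 : act 5 n162793 = n160555 := d12_1 D162793 (iv6 D160555) F115704 (iv6 F56347) D78258
def n162797 : Q := act 5 n78259
theorem D162797 : act 5 n78259 = n162797 := rfl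
theorem F257076 : act 3 n162797 = n78260 := d6_1 D162797 (iv5 D78260) D78259
def n162799 : Q := act 0 n78261
theorem D162799 : act 0 n78261 = n162799 := rfl
def n162800 : Q := act 1 n78261
theorem D162800 : act 1 n78261 = n162800 := rfl
def n162801 : Q := act 2 n78261
theorem D162801 : act 2 n78261 = n162801 := rfl
theorem F257077 : act 3 n162801 = n159202 := d0_2 D78261 D162801 (iv2 D159202) (iv3 D76151) F56354
theorem F257078 : act 6 n162801 = n159219 := d3_2 (iv6 F119457) D162801 (iv2 D159219)
def n162802 : Q := act 4 n78261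
theorem D162802 : act 4 n78261 = n162802 := rfl
theorem F257079 : act 3 n162802 = n120654 := d5_1 D162802 (iv4 D120654) F87945 (iv4 F56352) D78261
theorem F257080 : act 6 n162802 = n159215 := d10_2 (iv6 F119457) D162802 F250713
def n162803 : Q := act 5 n78261
theorem D162803 : act 5 n78261 = n162803 := rfl
theorem F257081 : act 3 n162803 = n78262 := d6_1 D162803 (iv5 D78262) D78261
def n162804 : Q := act 6 n78262
theorem D162804 : act 6 n78262 = n162804 := rfl
theorem F257083 : act 5 n162804 = n159221 := d12_1 D162804 (iv6 D159221) (iv5 D76163) F56355 D78262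
def n162805 : Q := act 0 n78263
theorem D162805 : act 0 n78263 = n162805 := rfl
theorem F257084 : act 1 n159202 = n162805 := d15_0 (iv0 D162805) F119461 D159202
def n162806 : Q := act 1 n78263
theorem D162806 : act 1 n78263 = n162806 := rfl
def n162807 : Q := act 2 n78263
theorem D162807 : act 2 n78263 = n162807 := rfl
theorem F257085 : act 7 n162807 = n159202 := d4_2 (iv7 F119461) D162807 (iv2 D159202)
theorem F257086 : act 1 n162807 = n159200 := d15_0 (iv0 D159200) (iv7 F119461) D162807
theorem F257087 : act 1 n162806 = n159202 := d15_1 D162806 (iv7 F257085) (iv2 D162807)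
theorem F257088 : act 1 n159201 = n162807 := d15_1 D159201 F257085 (iv2 D159202)
def n162808 : Q := act 4 n78263
theorem D162808 : act 4 n78263 = n162808 := rfl
theorem F257089 : act 3 n162808 = n124406 := d5_1 D162808 (iv4 D124406) F117360 (iv4 F56358) D78263
theorem F257090 : act 7 n162808 = n159184 := d11_2 (iv7 F119461) D162808 F250664
def n162809 : Q := act 5 n78263
theorem D162809 : act 5 n78263 = n162809 := rfl
theorem F257091 : act 3 n162809 = n78264 := d6_1 D162809 (iv5 D78264) D78263
theorem F257092 : act 7 n162809 = n159203 := d13_2 (iv7 F119461) D162809 (iv5 D159203)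
def n162810 : Q := act 6 n78264
theorem D162810 : act 6 n78264 = n162810 := rfl
def n162811 : Q := act 2 n78265
theorem D162811 : act 2 n78265 = n162811 := rfl
theorem F257093 : act 7 n78266 = n162811 := d15_2 (iv0 D78265) D78266 (iv2 D162811)
def n162812 : Q := act 3 n78265
theorem D162812 : act 3 n78265 = n162812 := rfl
def n162813 : Q := act 4 n78265
theorem D162813 : act 4 n78265 = n162813 := rfl
def n162814 : Q := act 5 n78265
theorem D162814 : act 5 n78265 = n162814 := rfl
def n162815 : Q := act 6 n78265
theorem D162815 : act 6 n78265 = n162815 := rfl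
def n162816 : Q := act 7 n78265
theorem D162816 : act 7 n78265 = n162816 := rfl
theorem F257094 : act 2 n162816 = n78266 := d4_1 D162816 F257093 (iv2 D162811)
def n162817 : Q := act 3 n78266
theorem D162817 : act 3 n78266 = n162817 := rfl
def n162818 : Q := act 4 n78266
theorem D162818 : act 4 n78266 = n162818 := rfl
def n162819 : Q := act 5 n78266
theorem D162819 : act 5 n78266 = n162819 := rfl
def n162820 : Q := act 6 n78266
theorem D162820 : act 6 n78266 = n162820 := rfl
def n162821 : Q := act 5 n78267
theorem D162821 : act 5 n78267 = n162821 := rfl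
theorem F257095 : act 2 n162821 = n78268 := d2_1 D162821 (iv5 D78268) D78267
def n162822 : Q := act 6 n78267
theorem D162822 : act 6 n78267 = n162822 := rfl
theorem F257096 : act 2 n162822 = n78269 := d3_1 D162822 (iv6 D78269) D78267
def n162823 : Q := act 0 n78268
theorem D162823 : act 0 n78268 = n162823 := rfl
def n162824 : Q := act 1 n78268
theorem D162824 : act 1 n78268 = n162824 := rfl
def n162825 : Q := act 4 n78268
theorem D162825 : act 4 n78268 = n162825 := rfl
def n162826 : Q := act 6 n78268
theorem D162826 : act 6 n78268 = n162826 := rfl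
theorem F257097 : act 3 n162826 = n78270 := d7_1 D162826 (iv6 D78270) (iv3 F119465)
def n162827 : Q := act 0 n78269
theorem D162827 : act 0 n78269 = n162827 := rfl
def n162828 : Q := act 1 n78269
theorem D162828 : act 1 n78269 = n162828 := rfl
def n162829 : Q := act 5 n78269
theorem D162829 : act 5 n78269 = n162829 := rfl
theorem F257098 : act 3 n162829 = n78271 := d6_1 D162829 (iv5 D78271) (iv3 F119466)
def n162830 : Q := act 0 n78270
theorem D162830 : act 0 n78270 = n162830 := rfl
def n162831 : Q := act 1 n78270
theorem D162831 : act 1 n78270 = n162831 := rfl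
def n162832 : Q := act 5 n78270
theorem D162832 : act 5 n78270 = n162832 := rfl
theorem F257099 : act 6 n162832 = n78271 := d12_2 D78270 D162832 (iv5 D78271) (iv6 D35675) D35674
def n162833 : Q := act 7 n78270
theorem D162833 : act 7 n78270 = n162833 := rfl
def n162835 : Q := act 1 n78272
theorem D162835 : act 1 n78272 = n162835 := rfl
theorem F257104 : act 3 n105988 = n162835 := d20_3 F61030 D55123 (iv4 F189996) (iv1 D162835) (iv3 D78272) (iv4 D35684) (iv1 D17297) D17299 D35692 F85910
theorem F257105 : act 4 n118087 = n162835 := d20_6 (iv4 D27672) (iv1 D13210) (iv4 F22008) (iv3 F41928) D54400 D118087 (iv1 D162835) (iv4 F198932) (iv3 D124392) (iv1 F91762)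
theorem F257106 : act 0 n80742 = n162835 := d20_7 F185508 (iv1 F85873) D54411 (iv3 F154849) (iv1 D100756) (iv3 F154842) F154843 (iv4 F257105) (iv3 D118087) (iv1 F185511)
def n162837 : Q := act 5 n78272
theorem D162837 : act 5 n78272 = n162837 := rfl
theorem F257109 : act 3 n162837 = n78273 := d6_1 D162837 (iv5 D78273) D78272
def n162838 : Q := act 4 n78273
theorem D162838 : act 4 n78273 = n162838 := rfl
def n162839 : Q := act 6 n78273
theorem D162839 : act 6 n78273 = n162839 := rfl
def n162840 : Q := act 3 n78274
theorem D162840 : act 3 n78274 = n162840 := rfl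
def n162841 : Q := act 5 n78274
theorem D162841 : act 5 n78274 = n162841 := rfl
def n162842 : Q := act 6 n78274
theorem D162842 : act 6 n78274 = n162842 := rfl
theorem F257110 : act 4 n162842 = n78275 := d10_1 D162842 (iv6 D78275) D78274
theorem F257111 : act 7 n162842 = n78535 := d14_2 (iv7 F122722) D162842 (iv6 D78535) (iv7 F57177) D79951
def n162843 : Q := act 0 n78276
theorem D162843 : act 0 n78276 = n162843 := rfl
theorem F257112 : act 3 n162843 = n161836 := d20_5 F60973 F118789 D35687 D78276 D162843 (iv4 D161836) (iv1 D77724) D77726 F132545 (iv1 F132543)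
theorem F257113 : act 1 n149893 = n162843 := d15_0 (iv0 D162843) (iv7 F132674) (iv2 F235763)
def n162844 : Q := act 1 n78276
theorem D162844 : act 1 n78276 = n162844 := rfl
def n162845 : Q := act 2 n78276
theorem D162845 : act 2 n78276 = n162845 := rfl
theorem F257114 : act 3 n162845 = n78294 := d0_2 D78276 D162845 (iv2 D78294) (iv3 D35692) (iv2 F56366)
theorem F257115 : act 4 n162845 = n128157 := d1_2 F128115 D162845 F206286
theorem F257116 : act 7 n162845 = n149893 := d4_2 F132674 D162845 F235763
theorem F257117 : act 1 n162844 = n149893 := d15_1 D162844 (iv7 F257116) (iv2 D162845)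
def n162846 : Q := act 5 n78276
theorem D162846 : act 5 n78276 = n162846 := rfl
def n162850 : Q := act 0 n78278
theorem D162850 : act 0 n78278 = n162850 := rfl
theorem F257122 : act 4 n162850 = n123192 := d18_3 F122685 (iv4 F119473) D162850 F197470 D160375 (iv0 F253326) F122679 D79940 (iv5 F122687)
theorem F257124 : act 2 n78301 = n162850 := d15_3 (iv0 D162850) F192758 F196359
theorem F257125 : act 7 n162850 = n78302 := d4_2 F196359 F257124 (iv2 F132909)
theorem F257126 : act 1 n78304 = n162850 := d15_1 (iv0 F192757) F257125 (iv2 F132909)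
def n162851 : Q := act 5 n78278
theorem D162851 : act 5 n78278 = n162851 := rfl
theorem F257127 : act 2 n162851 = n78303 := d2_1 D162851 (iv5 D78303) (iv2 F119472)
theorem F257128 : act 0 n162851 = n80469 := d17_2 (iv1 F192758) D162851 (iv5 D80469) (iv4 F117084) D81606 (iv0 F197476) (iv5 D123193) F196351 F148908
theorem F257129 : act 1 n162851 = n80466 := d17_6 D17684 D36693 F119480 (iv5 D78283) (iv4 F119473) D162851 (iv5 D80466) (iv0 D36686) F28754
def n162853 : Q := act 3 n78279
theorem D162853 : act 3 n78279 = n162853 := rfl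
def n162854 : Q := act 5 n78279
theorem D162854 : act 5 n78279 = n162854 := rfl
theorem F257135 : act 2 n162854 = n78314 := d2_1 D162854 (iv5 D78314) (iv2 F119474)
theorem F257136 : act 0 n162854 = n123196 := d17_2 (iv1 F192994) D162854 (iv5 D123196) (iv4 D57341) (iv5 D27451) D27450 D57337 F197433 F197431
def n162855 : Q := act 6 n78279
theorem D162855 : act 6 n78279 = n162855 := rfl
theorem F257137 : act 2 n162855 = n78315 := d3_1 D162855 (iv6 D78315) (iv2 F119474)
theorem F257138 : act 4 n162855 = n78280 := d10_1 D162855 (iv6 D78280) D78279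
theorem F257139 : act 0 n78547 = n162855 := d21_4 D36422 (iv1 F119731) (iv5 D78546) D78547 (iv6 D162855) D162854 F257136 (iv5 D123196) F90523 (iv1 D36420)
theorem F257140 : act 1 n78547 = n121791 := d15_1 (iv0 F257139) F194367 (iv2 F257137)
theorem F257141 : act 0 n78752 = n79954 := d18_2 F255037 D78752 F122731 F67157 (iv4 F119732) F257140 (iv4 D121791) (iv0 F132779) F132777
def n162856 : Q := act 5 n78280
theorem D162856 : act 5 n78280 = n162856 := rfl
theorem F257142 : act 2 n162856 = n78317 := d2_1 D162856 (iv5 D78317) (iv2 F119475)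
theorem F257144 : act 6 n162856 = n78283 := d12_2 D78280 D162856 (iv5 D78283) (iv6 D35689) D35688
theorem F257145 : act 7 n162856 = n79863 := d13_2 F133013 D162856 F133014
theorem F257146 : act 0 n162856 = n79870 := d21_1 D162856 (iv5 F123916) (iv6 D79973) (iv1 D36425) (iv6 D17587) (iv5 D8258) D8256 (iv5 F30319) D35783 F119476
theorem F257147 : act 0 n79869 = n162856 := d21_10 (iv5 D162856) F132780 F132777 (iv6 D78275) F118794 D35729 (iv5 F57920) D81003 F140918 (iv6 F140919)
def n162857 : Q := act 4 n78281
theorem D162857 : act 4 n78281 = n162857 := rfl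
theorem F257149 : act 6 n162857 = n79749 := d10_2 (iv6 F122406) D162857 (iv4 D79749)
def n162858 : Q := act 4 n78283
theorem D162858 : act 4 n78283 = n162858 := rfl
theorem F257152 : act 2 n162858 = n78327 := d1_1 D162858 (iv4 D78327) (iv2 F119478)
def n162859 : Q := act 5 n78290
theorem D162859 : act 5 n78290 = n162859 := rfl
theorem F257153 : act 3 n162859 = n78291 := d6_1 D162859 (iv5 D78291) D78290
theorem F257154 : act 7 n162859 = n123182 := d13_2 F121565 D162859 (iv5 D123182)
def n162860 : Q := act 4 n78291
theorem D162860 : act 4 n78291 = n162860 := rfl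
theorem F257155 : act 7 n162860 = n123185 := d11_2 (iv7 F121566) D162860 (iv4 D123185)
def n162861 : Q := act 6 n78291
theorem D162861 : act 6 n78291 = n162861 := rfl
def n162862 : Q := act 5 n78293
theorem D162862 : act 5 n78293 = n162862 := rfl
theorem F257156 : act 2 n162862 = n149899 := d2_1 D162862 (iv5 D149899) (iv2 F119492)
theorem F257157 : act 7 n162862 = n84885 := d13_2 (iv7 F119490) D162862 (iv5 D84885)
def n162863 : Q := act 5 n78294
theorem D162863 : act 5 n78294 = n162863 := rfl
def n162864 : Q := act 6 n78294
theorem D162864 : act 6 n78294 = n162864 := rfl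
theorem F257162 : act 2 n162864 = n78296 := d3_1 D162864 (iv6 D78296) D78294
theorem F257163 : act 4 n162864 = n78339 := d10_1 D162864 (iv6 D78339) (iv4 F119494)
theorem F257164 : act 0 n106015 = n162864 := d20_1 F188524 F257163 (iv3 F189932) (iv1 F206119) (iv3 F210990) (iv4 F244297) (iv1 F244298) (iv4 D73816) D73815 (iv1 F232964)
def n162865 : Q := act 0 n78295
theorem D162865 : act 0 n78295 = n162865 := rfl
theorem F257165 : act 5 n162865 = n155175 := d17_3 (iv1 D78293) D78295 D162865 (iv4 D155175) F110376 (iv0 F232976) (iv5 F187231) F187229 F119491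
theorem F257166 : act 1 n149894 = n162865 := d15_0 (iv0 D162865) F119502 (iv2 F235764)
def n162869 : Q := act 0 n78296
theorem D162869 : act 0 n78296 = n162869 := rfl
theorem F257171 : act 4 n162869 = n131090 := d20_8 (iv4 F206526) (iv1 D128407) F94894 F46223 (iv1 F46232) (iv3 F56384) (iv4 F119504) D162869 F209934 F110420
theorem E24002 : n105952 = n78344 := ((c18_9 (iv1 D49865) (iv4 F78853) D107961 F166830 D131090 (iv4 F257171) (iv0 D162869) F119504 D78344 F162737)).symm
theorem F257172 : act 2 n78344 = n49015 := (sb E24002 F162966)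
theorem F257173 : act 5 n78344 = n49865 := (sb E24002 F162737)
theorem F257174 : act 6 n78344 = n48982 := (sb E24002 (iv6 D105952))
theorem F257175 : act 7 n106015 = n162869 := d11_0 F257171 F209935 F188524
theorem F257176 : act 5 n148940 = n162869 := d17_3 (iv1 D69822) D69823 D148940 F257171 (iv5 D131090) (iv0 F232707) (iv5 F55464) D76594 F232722
def n162871 : Q := act 7 n78296
theorem D162871 : act 7 n78296 = n162871 := rfl
theorem F257178 : act 3 n162871 = n78304 := d8_1 D162871 (iv7 D78304) (iv3 F119503)
theorem F257179 : act 4 n162871 = n78346 := d11_1 D162871 (iv7 D78346) (iv4 F119504)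
theorem F257181 : act 1 n106015 = n162871 := d15_1 (iv0 F257164) (iv7 D162871) (iv2 F257162)
def n162874 : Q := act 5 n78297
theorem D162874 : act 5 n78297 = n162874 := rfl
theorem F257185 : act 6 n80574 = n162874 := d21_5 (iv5 F123878) (iv1 D80571) (iv5 D36767) D36768 D80574 (iv5 D162874) (iv1 F132680) (iv5 D86500) (iv6 F123848) F123849
theorem F257186 : act 0 n162874 = n80976 := d21_4 D40168 D86671 (iv5 F193990) F257185 (iv6 D80976) D80975 (iv1 F195274) F195275 (iv6 D86670) (iv1 D40167)
def n162879 : Q := act 0 n78299
theorem D162879 : act 0 n78299 = n162879 := rfl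
def n162880 : Q := act 1 n78299
theorem D162880 : act 1 n78299 = n162880 := rfl
theorem F257189 : act 4 n162880 = n161107 := d18_7 (iv1 F119067) (iv4 D35684) (iv1 D17297) D17299 D35693 D78299 D162880 F254676 (iv5 D86491)
def n162882 : Q := act 5 n78299
theorem D162882 : act 5 n78299 = n162882 := rfl
def n162890 : Q := act 3 n78302
theorem D162890 : act 3 n78302 = n162890 := rfl
theorem F257198 : act 6 n162890 = n124170 := d7_2 (iv6 F121554) D162890 (iv3 D124170)
def n162891 : Q := act 0 n78303
theorem D162891 : act 0 n78303 = n162891 := rfl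
theorem F257199 : act 5 n162891 = n80456 := d17_3 (iv1 D78302) D78303 D162891 (iv4 F123676) D122592 F196339 (iv5 D84496) (iv0 F134085) F121553
theorem F257200 : act 2 n80469 = n162891 := d15_3 (iv0 D162891) (iv0 F253240) F253239
theorem F257201 : act 7 n162891 = n80466 := d4_2 F253239 F257200 (iv2 F253238)
def n162893 : Q := act 7 n78303
theorem D162893 : act 7 n78303 = n162893 := rfl
theorem F257202 : act 5 n162893 = n78304 := d13_1 D162893 (iv7 D78304) D78303
theorem F257203 : act 1 n80466 = n162893 := d15_1 F257129 (iv7 D162893) (iv2 F257127)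
theorem F257204 : act 1 n162893 = n80469 := d15_1 F257203 (iv7 F253239) F253238
def n162894 : Q := act 3 n78306
theorem D162894 : act 3 n78306 = n162894 := rfl
def n162895 : Q := act 5 n78306
theorem D162895 : act 5 n78306 = n162895 := rfl
def n162896 : Q := act 6 n78306
theorem D162896 : act 6 n78306 = n162896 := rfl
theorem F257205 : act 2 n162896 = n78567 := d3_1 D162896 (iv6 F192991) F192990
theorem F257206 : act 4 n162896 = n78308 := d10_1 D162896 (iv6 D78308) D78306
theorem F257207 : act 7 n78564 = n162896 := d11_0 F257206 F119542 D78564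
theorem F257208 : act 0 n162896 = n157770 := d20_1 (iv4 F257206) F248661 F112719 (iv1 F116818) (iv3 D35902) D35903 F115642 F56460 (iv3 F56457) (iv1 F119517)
def n162897 : Q := act 4 n78307
theorem D162897 : act 4 n78307 = n162897 := rfl
theorem F257210 : act 6 n162897 = n80584 := d10_2 F119510 D162897 (iv4 D80584)
theorem F257212 : act 0 n162897 = n87507 := d18_2 F119509 D162897 F134379 (iv5 F121034) D84522 F132700 F132699 F118521 (iv5 F57922)
theorem F257213 : act 1 n162897 = n161106 := d18_6 (iv1 F197433) D123191 (iv1 F197469) (iv4 D78306) D78307 D162897 F254673 (iv0 F249990) (iv5 F197430)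
def n162898 : Q := act 3 n78309
theorem D162898 : act 3 n78309 = n162898 := rfl
def n162899 : Q := act 5 n78309
theorem D162899 : act 5 n78309 = n162899 := rfl
def n162900 : Q := act 6 n78309
theorem D162900 : act 6 n78309 = n162900 := rfl
theorem F257214 : act 2 n162900 = n80480 := d3_1 D162900 (iv6 F192982) F192981
theorem F257215 : act 4 n162900 = n78310 := d10_1 D162900 (iv6 D78310) D78309
theorem F257216 : act 7 n80486 = n162900 := d11_0 F257215 (iv7 F119521) D80486
def n162902 : Q := act 5 n78311
theorem D162902 : act 5 n78311 = n162902 := rfl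
def n162903 : Q := act 6 n78311
theorem D162903 : act 6 n78311 = n162903 := rfl
theorem F257217 : act 2 n162903 = n78560 := d3_1 D162903 F248669 (iv2 F197438)
theorem F257218 : act 4 n162903 = n162249 := d10_1 D162903 F256409 (iv4 F132685)
theorem F257219 : act 7 n78559 = n162903 := d11_0 F257218 F256410 (iv4 F256404)
theorem F257220 : act 0 n78562 = n162903 := d20_1 (iv4 F119748) F257218 (iv3 D162249) (iv1 D77949) F56246 (iv4 F112761) D157877 F248795 (iv3 F193992) (iv1 F119721)
theorem F257221 : act 1 n78539 = n162903 := d15_0 (iv0 F257220) (iv7 D78562) (iv2 F119714)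
theorem F257222 : act 0 n121068 = n162902 := d21_1 D121068 (iv5 D162902) D162903 (iv1 F257221) (iv6 D78539) (iv5 F67195) (iv1 F122738) (iv5 D79956) (iv6 F90523) F121021
def n162904 : Q := act 3 n78312
theorem D162904 : act 3 n78312 = n162904 := rfl
def n162905 : Q := act 5 n78312
theorem D162905 : act 5 n78312 = n162905 := rfl
theorem F257223 : act 0 n162905 = n121068 := d17_2 (iv1 F132683) D162905 (iv5 D121068) (iv4 D55863) (iv5 F57922) F118522 (iv5 F118840) F118839 D86501
def n162906 : Q := act 0 n78313
theorem D162906 : act 0 n78313 = n162906 := rfl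
def n162907 : Q := act 1 n78313
theorem D162907 : act 1 n78313 = n162907 := rfl
def n162908 : Q := act 2 n78313
theorem D162908 : act 2 n78313 = n162908 := rfl
theorem F257224 : act 4 n162908 = n78351 := d1_2 (iv4 F119523) D162908 (iv2 D78351)
def n162909 : Q := act 5 n78313
theorem D162909 : act 5 n78313 = n162909 := rfl
theorem F257225 : act 3 n162909 = n78314 := d6_1 D162909 (iv5 D78314) D78313
def n162910 : Q := act 6 n78313
theorem D162910 : act 6 n78313 = n162910 := rfl
theorem F257226 : act 3 n162910 = n78315 := d7_1 D162910 (iv6 D78315) D78313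
theorem F257227 : act 4 n162910 = n78353 := d10_1 D162910 (iv6 D78353) (iv4 F119523)
def n162911 : Q := act 0 n78314
theorem D162911 : act 0 n78314 = n162911 := rfl
theorem F257228 : act 5 n162911 = n78389 := d17_3 (iv1 D78312) D78314 D162911 F121047 (iv5 D40299) (iv0 F121058) D38973 D84491 F129618
theorem F257229 : act 2 n123196 = n162911 := d2_3 F257228 F121046 D123196
def n162912 : Q := act 1 n78314
theorem D162912 : act 1 n78314 = n162912 := rfl
theorem F257230 : act 7 n162912 = n123196 := d15_2 (iv0 D162911) D162912 F257229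
theorem F257231 : act 5 n162912 = n78390 := d17_7 (iv1 F118795) (iv5 D35685) (iv1 D17297) D17300 D35697 D78314 D162912 (iv0 F132688) (iv4 D86502)
def n162913 : Q := act 4 n78314
theorem D162913 : act 4 n78314 = n162913 := rfl
def n162914 : Q := act 6 n78314
theorem D162914 : act 6 n78314 = n162914 := rfl
def n162915 : Q := act 0 n78315
theorem D162915 : act 0 n78315 = n162915 := rfl
theorem F257232 : act 4 n162915 = n90000 := d20_8 F198738 (iv1 D79705) F57028 F28521 F28247 (iv3 F56372) (iv4 F119524) D162915 (iv3 F254796) (iv1 F254798)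
theorem F257234 : act 7 n78547 = n162915 := d11_0 F257232 (iv7 D90000) (iv4 F119732)
def n162916 : Q := act 5 n78315
theorem D162916 : act 5 n78315 = n162916 := rfl
def n162917 : Q := act 4 n78316
theorem D162917 : act 4 n78316 = n162917 := rfl
theorem F257235 : act 6 n162917 = n79713 := d10_2 (iv6 F119525) D162917 (iv4 D79713)
theorem F257236 : act 7 n162917 = n78544 := d11_2 F119527 D162917 F119728
def n162918 : Q := act 4 n78317
theorem D162918 : act 4 n78317 = n162918 := rfl
theorem F257237 : act 6 n162918 = n78327 := d10_2 (iv6 F119529) D162918 (iv4 D78327)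
theorem F257238 : act 7 n162918 = n79867 := d11_2 (iv7 F119530) D162918 F122616
def n162919 : Q := act 4 n78319
theorem D162919 : act 4 n78319 = n162919 := rfl
theorem F257242 : act 5 n162919 = n157993 := d17_5 (iv1 D41371) D41372 (iv1 F135881) F122754 D162919 (iv0 D157993) (iv5 D75252) D75251 (iv4 F114041)
theorem F257243 : act 0 n162919 = n83271 := d17_0 F249839 (iv1 D158676) (iv5 D75687) F112808 D45898 (iv0 F135961) (iv5 F135957) F135962 D162919
theorem F257244 : act 1 n162919 = n82907 := d18_6 F59850 D75263 D157998 F248904 F122754 D162919 F127722 F59638 D38825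
def n162920 : Q := act 0 n78320
theorem D162920 : act 0 n78320 = n162920 := rfl
theorem F257245 : act 4 n162920 = n84497 := d20_2 D78320 D162920 F129623 F126075 F30081 (iv4 F43122) (iv1 F46232) F28246 (iv3 F28245) D35699
theorem F257246 : act 1 n78325 = n162920 := d15_0 (iv0 D162920) F132971 F132969
def n162921 : Q := act 3 n78320
theorem D162921 : act 3 n78320 = n162921 := rfl
def n162922 : Q := act 5 n78320
theorem D162922 : act 5 n78320 = n162922 := rfl
theorem F257249 : act 1 n162922 = n86376 := d17_6 (iv1 D17685) (iv5 F28581) D36424 F119535 D78320 D162922 (iv5 D86376) (iv0 F117077) (iv4 D36697)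
def n162924 : Q := act 3 n78325
theorem D162924 : act 3 n78325 = n162924 := rfl
def n162925 : Q := act 5 n78325
theorem D162925 : act 5 n78325 = n162925 := rfl
theorem F257253 : act 0 n162925 = n86376 := d17_2 (iv1 F257246) D162925 (iv5 D86376) F60860 D56913 D122595 (iv5 F196348) (iv0 F196350) (iv4 F257245)
def n162926 : Q := act 4 n78326
theorem D162926 : act 4 n78326 = n162926 := rfl
theorem F257254 : act 2 n162926 = n80486 := d1_1 D162926 (iv4 D80486) F119538
theorem F257255 : act 6 n162926 = n78564 := d10_2 F119541 D162926 (iv4 D78564)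
theorem F257256 : act 7 n162926 = n80480 := d11_2 (iv7 F119539) D162926 (iv4 D80480)
def n162927 : Q := act 0 n78327
theorem D162927 : act 0 n78327 = n162927 := rfl
theorem F257257 : act 4 n162927 = n122592 := d18_3 F119522 D78327 D162927 (iv5 D122592) F123676 F123674 F57567 (iv0 F57560) (iv5 F119520)
theorem F257258 : act 6 n78559 = n162927 := d10_0 F257257 (iv6 F248662) (iv4 F256404)
def n162928 : Q := act 3 n78327
theorem D162928 : act 3 n78327 = n162928 := rfl
theorem F257259 : act 4 n162928 = n78361 := d5_2 D78327 D162928 (iv3 D78361) (iv4 D35717) (iv3 F56373)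
def n162929 : Q := act 5 n78327
theorem D162929 : act 5 n78327 = n162929 := rfl
def n162930 : Q := act 5 n78335
theorem D162930 : act 5 n78335 = n162930 := rfl
def n162931 : Q := act 4 n78336
theorem D162931 : act 4 n78336 = n162931 := rfl
theorem F257265 : act 7 n162931 = n106004 := d11_2 (iv7 F189948) D162931 (iv4 D106004)
theorem F257266 : act 1 n162931 = n119747 := d18_6 D39275 D84888 (iv1 F189009) (iv4 D78335) D78336 D162931 (iv4 D119747) (iv0 D55102) F42674
def n162932 : Q := act 0 n78339
theorem D162932 : act 0 n78339 = n162932 := rfl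
theorem F257268 : act 6 n162932 = n79767 := d21_5 (iv5 F234811) (iv1 F119554) (iv5 D78338) D78339 D162932 F215729 (iv1 D81021) (iv5 D37011) D37012 D81024
theorem F257269 : act 5 n162932 = n107932 := d21_8 (iv5 F210478) (iv1 F112413) (iv5 F210304) (iv6 F236601) F238743 F238742 F234091 D162932 F210476 (iv1 F210477)
theorem F257270 : act 2 n78343 = n162932 := d15_3 (iv0 D162932) F191332 (iv7 F191396)
theorem F257271 : act 7 n162932 = n78344 := d4_2 (iv7 F191396) F257270 F257172
theorem F257272 : act 1 n78346 = n162932 := d15_1 (iv0 F191330) F257271 F257172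
def n162933 : Q := act 7 n78339
theorem D162933 : act 7 n78339 = n162933 := rfl
theorem F257273 : act 2 n162933 = n78346 := d4_1 D162933 (iv7 D78346) (iv2 F119556)
theorem F257274 : act 3 n162933 = n128077 := d8_1 D162933 F206112 F189932
theorem F257275 : act 6 n162933 = n121945 := d14_1 D162933 F194690 (iv6 D70482) (iv7 F56378) D78339
theorem F257276 : act 1 n78344 = n162933 := d15_1 D78344 (iv7 D162933) F119556
theorem F257277 : act 1 n162933 = n78343 := d15_1 F257276 F191396 (iv2 F257172)
def n162934 : Q := act 3 n78341
theorem D162934 : act 3 n78341 = n162934 := rfl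
theorem F257278 : act 5 n162934 = n150196 := d6_2 (iv5 F191394) D162934 F238781
theorem F257279 : act 7 n162934 = n149909 := d8_2 (iv7 F234816) D162934 (iv3 D149909)
theorem F257280 : act 4 n162934 = n155161 := d20_6 (iv4 F192147) (iv1 F242199) F242198 F119422 (iv1 F119559) D162934 (iv1 F243974) (iv4 D73658) F190597 (iv1 F190712)
theorem F257281 : act 0 n118102 = n162934 := d20_4 (iv4 F236264) (iv1 F236397) (iv4 D118109) (iv3 F185550) (iv3 D162934) (iv4 F238792) (iv1 D151867) F108103 (iv3 F108100) (iv1 F236398)
def n162935 : Q := act 6 n78341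
theorem D162935 : act 6 n78341 = n162935 := rfl
theorem F257282 : act 2 n162935 = n149908 := d3_1 D162935 (iv6 D149908) (iv2 F234812)
def n162938 : Q := act 3 n78343
theorem D162938 : act 3 n78343 = n162938 := rfl
theorem F257293 : act 6 n162938 = n154481 := d7_2 (iv6 F215760) D162938 F242528
theorem F257294 : act 7 n162938 = n106031 := d8_2 (iv7 F191396) D162938 F162834
theorem F257295 : act 4 n162938 = n153843 := d20_6 (iv4 F25886) F28958 (iv4 F28246) (iv3 F56384) D78343 D162938 (iv1 F241712) F109650 (iv3 F190625) (iv1 D16402)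
theorem F257297 : act 1 n128421 = n162938 := d17_8 (iv1 F241712) D154452 F242503 (iv5 D75021) (iv4 F109931) D150420 F236801 F236612 F257295
theorem F257298 : act 0 n128162 = n162938 := d20_10 F257295 (iv1 F241712) F109650 (iv3 F190625) (iv1 D16402) (iv3 F25883) (iv4 F53247) D73786 D155297 F244221
def n162939 : Q := act 4 n78343
theorem D162939 : act 4 n78343 = n162939 := rfl
theorem F257299 : act 7 n162939 = n106037 := d11_2 (iv7 F191396) D162939 F162845
theorem F257300 : act 0 n162939 = n155349 := d20_1 D162939 (iv4 D155349) (iv3 D73815) (iv1 D33902) F25883 (iv4 F25886) F28958 (iv4 F28246) (iv3 F56384) D78343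
def n162940 : Q := act 3 n78344
theorem D162940 : act 3 n78344 = n162940 := rfl
theorem F257301 : act 2 n162940 = n154435 := d0_1 D162940 F242476 F162991 F162834 (iv2 F257172)
theorem F257302 : act 5 n162940 = n107969 := d6_2 (iv5 F257173) D162940 (iv3 D107969)
theorem F257303 : act 6 n162940 = n105949 := d7_2 (iv6 F257174) D162940 (iv3 D105949)
theorem F257304 : act 4 n162940 = n155171 := d20_6 (iv4 F242257) (iv1 F242584) F242586 (iv3 F257274) (iv1 F257276) D162940 (iv1 D155171) F110359 (iv3 F190646) D154156
theorem E24003 : n155171 = n152214 := (c10_2 (iv6 F257303) F257304 (iv6 D152214) (iv4 F162736))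
theorem F257305 : act 0 n152214 = n73657 := (sb E24003 (iv1 D155171))
theorem F257306 : act 4 n152214 = n162940 := (sb E24003 (iv4 F257304))
def n162941 : Q := act 4 n78344
theorem D162941 : act 4 n78344 = n162941 := rfl
theorem F257307 : act 2 n162941 = n106037 := d1_1 D162941 F162845 (iv2 F257172)
theorem F257308 : act 6 n162941 = n105950 := d10_2 (iv6 F257174) D162941 (iv4 D105950)
def n162945 : Q := act 2 n78347
theorem D162945 : act 2 n78347 = n162945 := rfl
theorem F257311 : act 3 n162945 = n149954 := d0_2 D78347 D162945 (iv2 D149954) (iv3 D70528) (iv2 F56385)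
theorem F257312 : act 7 n162945 = n149932 := d4_2 (iv7 F119566) D162945 (iv2 D149932)
def n162946 : Q := act 4 n78348
theorem D162946 : act 4 n78348 = n162946 := rfl
theorem F257317 : act 6 n162946 = n128451 := d10_2 (iv6 F119568) D162946 F206585
theorem F257318 : act 7 n162946 = n106077 := d11_2 (iv7 F119569) D162946 F163050
theorem F257319 : act 1 n162946 = n118095 := d18_6 F232810 (iv4 F210674) (iv1 F232809) (iv4 D107997) (iv5 F119567) D162946 (iv4 F190933) (iv0 F242770) F241287
def n162947 : Q := act 2 n78349
theorem D162947 : act 2 n78349 = n162947 := rfl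
theorem F257320 : act 7 n78350 = n162947 := d15_2 (iv0 D78349) D78350 (iv2 D162947)
def n162948 : Q := act 3 n78349
theorem D162948 : act 3 n78349 = n162948 := rfl
def n162949 : Q := act 4 n78349
theorem D162949 : act 4 n78349 = n162949 := rfl
def n162950 : Q := act 5 n78349
theorem D162950 : act 5 n78349 = n162950 := rfl
def n162951 : Q := act 6 n78349
theorem D162951 : act 6 n78349 = n162951 := rfl
def n162952 : Q := act 7 n78349
theorem D162952 : act 7 n78349 = n162952 := rfl
theorem F257321 : act 2 n162952 = n78350 := d4_1 D162952 F257320 (iv2 D162947)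
def n162953 : Q := act 3 n78350
theorem D162953 : act 3 n78350 = n162953 := rfl
def n162954 : Q := act 4 n78350
theorem D162954 : act 4 n78350 = n162954 := rfl
def n162955 : Q := act 5 n78350
theorem D162955 : act 5 n78350 = n162955 := rfl
def n162956 : Q := act 6 n78350
theorem D162956 : act 6 n78350 = n162956 := rfl
def n162957 : Q := act 5 n78351
theorem D162957 : act 5 n78351 = n162957 := rfl
theorem F257322 : act 2 n162957 = n78352 := d2_1 D162957 (iv5 D78352) D78351
def n162958 : Q := act 6 n78351
theorem D162958 : act 6 n78351 = n162958 := rfl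
theorem F257323 : act 2 n162958 = n78353 := d3_1 D162958 (iv6 D78353) D78351
def n162959 : Q := act 0 n78352
theorem D162959 : act 0 n78352 = n162959 := rfl
def n162960 : Q := act 1 n78352
theorem D162960 : act 1 n78352 = n162960 := rfl
def n162961 : Q := act 4 n78352
theorem D162961 : act 4 n78352 = n162961 := rfl
def n162962 : Q := act 6 n78352
theorem D162962 : act 6 n78352 = n162962 := rfl
def n162963 : Q := act 0 n78353
theorem D162963 : act 0 n78353 = n162963 := rfl
def n162964 : Q := act 1 n78353
theorem D162964 : act 1 n78353 = n162964 := rfl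
def n162965 : Q := act 5 n78353
theorem D162965 : act 5 n78353 = n162965 := rfl
theorem F257325 : act 3 n162965 = n78355 := d6_1 D162965 (iv5 D78355) (iv3 F119571)
def n162970 : Q := act 1 n78355
theorem D162970 : act 1 n78355 = n162970 := rfl
theorem F257327 : act 1 n162970 = n80071 := d15_1 D162970 (iv7 F132148) F132147
theorem F257329 : act 5 n162970 = n160519 := d17_7 D78747 F119903 F88427 (iv5 D35715) (iv4 F56403) D78355 D162970 F253583 (iv4 D78748)
def n162972 : Q := act 3 n78356
theorem D162972 : act 3 n78356 = n162972 := rfl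
theorem F257330 : act 6 n162972 = n78361 := d7_2 (iv6 F119572) D162972 (iv3 D78361)
theorem F257331 : act 7 n162972 = n79875 := d8_2 (iv7 F119573) D162972 F122619
def n162973 : Q := act 0 n78361
theorem D162973 : act 0 n78361 = n162973 := rfl
def n162974 : Q := act 1 n78361
theorem D162974 : act 1 n78361 = n162974 := rfl
def n162975 : Q := act 2 n78361
theorem D162975 : act 2 n78361 = n162975 := rfl
def n162976 : Q := act 5 n78361
theorem D162976 : act 5 n78361 = n162976 := rfl
def n162977 : Q := act 6 n78362
theorem D162977 : act 6 n78362 = n162977 := rfl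
theorem F257333 : act 0 n162977 = n125333 := d21_4 (iv5 D76163) (iv1 F56408) D78362 D162977 (iv6 D125333) (iv5 D58693) F45063 D35819 F56477 (iv1 F114134)
def n162978 : Q := act 3 n78373
theorem D162978 : act 3 n78373 = n162978 := rfl
def n162979 : Q := act 5 n78373
theorem D162979 : act 5 n78373 = n162979 := rfl
theorem F257334 : act 2 n162979 = n78377 := d2_1 D162979 (iv5 D78377) (iv2 F119579)
theorem F257335 : act 1 n162979 = n162751 := d17_6 D35652 (iv5 F121312) (iv1 F119583) (iv5 D78374) D78373 D162979 (iv5 D162751) (iv0 D78215) (iv4 D35654)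
def n162982 : Q := act 0 n78376
theorem D162982 : act 0 n78376 = n162982 := rfl
def n162983 : Q := act 1 n78376
theorem D162983 : act 1 n78376 = n162983 := rfl
def n162984 : Q := act 2 n78376
theorem D162984 : act 2 n78376 = n162984 := rfl
theorem F257340 : act 4 n162984 = n78383 := d1_2 (iv4 F119584) D162984 (iv2 D78383)
def n162985 : Q := act 5 n78376
theorem D162985 : act 5 n78376 = n162985 := rfl
theorem F257341 : act 3 n162985 = n78377 := d6_1 D162985 (iv5 D78377) D78376
def n162986 : Q := act 0 n78377
theorem D162986 : act 0 n78377 = n162986 := rfl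
def n162987 : Q := act 1 n78377
theorem D162987 : act 1 n78377 = n162987 := rfl
theorem F257342 : act 5 n162987 = n121053 := d17_7 (iv1 F88338) (iv5 F121372) F120897 (iv5 D35722) D35721 D78377 D162987 F193050 (iv4 D78189)
theorem F257343 : act 2 n162751 = n162987 := d2_3 F257342 (iv2 F198980) D162751
theorem F257344 : act 7 n162754 = n162987 := d13_0 F257342 (iv7 F198982) D162754
theorem F257345 : act 2 n162754 = n162986 := d15_3 (iv0 D162986) D162987 (iv7 F257344)
theorem F257346 : act 5 n162986 = n121052 := d2_2 D162754 F257345 F198983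
theorem F257347 : act 7 n162986 = n162751 := d4_2 (iv7 F257344) F257345 F257343
theorem F257348 : act 1 n162754 = n162979 := d15_0 F257335 (iv7 F257347) (iv2 F257345)
theorem E24004 : n162755 = n121147 := (c21_4 D162979 (iv1 F257348) (iv5 D162754) D162755 (iv1 D121147) (iv6 D55900) D55899 (iv1 F122806) (iv5 D80005) D80006 (iv1 F122810))
theorem F257349 : act 6 n121147 = n78216 := (sb E24004 (iv6 D162755))
def n162988 : Q := act 4 n78377
theorem D162988 : act 4 n78377 = n162988 := rfl
def n162989 : Q := act 6 n78377
theorem D162989 : act 6 n78377 = n162989 := rfl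
def n162990 : Q := act 4 n78378
theorem D162990 : act 4 n78378 = n162990 := rfl
theorem F257350 : act 2 n162990 = n122189 := d1_1 D162990 (iv4 D122189) (iv2 F120895)
theorem F257351 : act 6 n162990 = n121958 := d10_2 F121395 D162990 (iv4 D121958)
def n162991 : Q := act 0 n78380
theorem D162991 : act 0 n78380 = n162991 := rfl
theorem F257356 : act 1 n122168 = n162991 := d15_0 (iv0 D162991) F119587 (iv2 F195186)
theorem F257358 : act 6 n121954 = n162991 := d21_3 D35612 D78084 (iv5 F195917) (iv1 F257356) (iv6 D122168) D122167 F195184 (iv5 F194121) (iv6 D78083) (iv1 D35611)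
def n162993 : Q := act 3 n78381
theorem D162993 : act 3 n78381 = n162993 := rfl
def n162994 : Q := act 4 n78381
theorem D162994 : act 4 n78381 = n162994 := rfl
def n163002 : Q := act 5 n78383
theorem D163002 : act 5 n78383 = n163002 := rfl
theorem F257361 : act 2 n163002 = n78384 := d2_1 D163002 (iv5 D78384) D78383
def n163003 : Q := act 0 n78384
theorem D163003 : act 0 n78384 = n163003 := rfl
def n163004 : Q := act 1 n78384
theorem D163004 : act 1 n78384 = n163004 := rfl
def n163005 : Q := act 4 n78384
theorem D163005 : act 4 n78384 = n163005 := rfl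
def n163006 : Q := act 6 n78384
theorem D163006 : act 6 n78384 = n163006 := rfl
def n163007 : Q := act 3 n78385
theorem D163007 : act 3 n78385 = n163007 := rfl
theorem F257363 : act 5 n163007 = n84564 := d6_2 (iv5 F119589) D163007 (iv3 D84564)
theorem F257364 : act 7 n163007 = n162803 := d8_2 (iv7 F119592) D163007 F257081
def n163008 : Q := act 6 n78385
theorem D163008 : act 6 n78385 = n163008 := rfl
theorem F257365 : act 2 n163008 = n162810 := d3_1 D163008 (iv6 D162810) F119590
def n163012 : Q := act 3 n78387
theorem D163012 : act 3 n78387 = n163012 := rfl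
def n163013 : Q := act 5 n78387
theorem D163013 : act 5 n78387 = n163013 := rfl
theorem F257367 : act 0 n163013 = n162905 := d17_2 (iv1 F193086) D163013 (iv5 D162905) (iv4 F129618) (iv5 F149109) F149112 F127338 F133271 (iv4 F193084)
theorem F257368 : act 1 n163013 = n162902 := d17_6 D35695 D78307 (iv1 F119512) (iv5 F57915) D78387 D163013 (iv5 D162902) (iv0 D78311) (iv4 D35697)
def n163014 : Q := act 6 n78387
theorem D163014 : act 6 n78387 = n163014 := rfl
theorem F257369 : act 2 n163014 = n78393 := d3_1 D163014 (iv6 D78393) (iv2 F119593)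
theorem F257370 : act 4 n163014 = n78388 := d10_1 D163014 (iv6 D78388) D78387
def n163015 : Q := act 3 n78389
theorem D163015 : act 3 n78389 = n163015 := rfl
theorem F257371 : act 6 n163015 = n78602 := d7_2 (iv6 F121048) D163015 (iv3 D78602)
def n163016 : Q := act 3 n78390
theorem D163016 : act 3 n78390 = n163016 := rfl
theorem F257372 : act 4 n163016 = n123339 := d5_2 F121041 D163016 F197651 F90622 (iv3 F90524)
theorem F257373 : act 7 n163016 = n123195 := d8_2 (iv7 F121045) D163016 (iv3 D123195)
def n163017 : Q := act 6 n78390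
theorem D163017 : act 6 n78390 = n163017 := rfl
theorem F257375 : act 7 n163017 = n78605 := d14_2 (iv7 F121045) D163017 (iv6 D78605) (iv7 F57185) (iv6 F90523)
theorem F257376 : act 1 n78752 = n163017 := d15_1 (iv0 F257141) F257375 (iv2 F122730)
def n163018 : Q := act 0 n78391
theorem D163018 : act 0 n78391 = n163018 := rfl
def n163019 : Q := act 1 n78391
theorem D163019 : act 1 n78391 = n163019 := rfl
def n163020 : Q := act 2 n78391
theorem D163020 : act 2 n78391 = n163020 := rfl
theorem F257377 : act 4 n163020 = n78398 := d1_2 (iv4 F119595) D163020 (iv2 D78398)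
def n163021 : Q := act 5 n78391
theorem D163021 : act 5 n78391 = n163021 := rfl
theorem F257378 : act 3 n163021 = n78392 := d6_1 D163021 (iv5 D78392) D78391
def n163022 : Q := act 6 n78391
theorem D163022 : act 6 n78391 = n163022 := rfl
theorem F257379 : act 3 n163022 = n78393 := d7_1 D163022 (iv6 D78393) D78391
theorem F257380 : act 4 n163022 = n78400 := d10_1 D163022 (iv6 D78400) (iv4 F119595)
def n163023 : Q := act 0 n78392
theorem D163023 : act 0 n78392 = n163023 := rfl
theorem F257381 : act 5 n163023 = n121028 := d17_3 (iv1 D78390) D78392 D163023 (iv4 F197431) F197430 F149115 (iv5 F121034) (iv0 F121035) F121041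
theorem F257382 : act 2 n162905 = n163023 := d2_3 F257381 F197435 D162905
def n163024 : Q := act 1 n78392
theorem D163024 : act 1 n78392 = n163024 := rfl
theorem F257384 : act 7 n163024 = n162905 := d15_2 (iv0 D163023) D163024 F257382
theorem F257385 : act 5 n163024 = n121029 := d17_7 (iv1 F88301) (iv5 F122411) (iv1 D37006) (iv5 F28945) D35728 D78392 D163024 F192995 (iv4 D78279)
def n163025 : Q := act 4 n78392
theorem D163025 : act 4 n78392 = n163025 := rfl
def n163026 : Q := act 6 n78392
theorem D163026 : act 6 n78392 = n163026 := rfl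
def n163027 : Q := act 0 n78393
theorem D163027 : act 0 n78393 = n163027 := rfl
def n163028 : Q := act 1 n78393
theorem D163028 : act 1 n78393 = n163028 := rfl
theorem F257387 : act 4 n160376 = n163028 := d20_6 D78405 (iv1 F119605) F92014 (iv3 F120667) F115498 (iv3 F253327) (iv1 D163028) F119596 F56411 D35733
theorem F257388 : act 6 n163028 = n160375 := d10_2 D160376 F257387 (iv4 D160375)
def n163031 : Q := act 6 n78394
theorem D163031 : act 6 n78394 = n163031 := rfl
theorem F257389 : act 5 n163031 = n79869 := d12_1 D163031 F140919 (iv5 F140918) F132505 F124959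
theorem F257390 : act 0 n121251 = n163031 := d21_1 D121251 F257389 F140919 (iv1 D91675) (iv6 D42863) (iv5 D20249) (iv1 F14926) D17337 D35779 F255042
def n163032 : Q := act 4 n78395
theorem D163032 : act 4 n78395 = n163032 := rfl
def n163033 : Q := act 2 n78396
theorem D163033 : act 2 n78396 = n163033 := rfl
theorem F257391 : act 7 n78397 = n163033 := d15_2 (iv0 D78396) D78397 (iv2 D163033)
def n163034 : Q := act 3 n78396
theorem D163034 : act 3 n78396 = n163034 := rfl
def n163035 : Q := act 4 n78396
theorem D163035 : act 4 n78396 = n163035 := rfl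
def n163036 : Q := act 5 n78396
theorem D163036 : act 5 n78396 = n163036 := rfl
def n163037 : Q := act 6 n78396
theorem D163037 : act 6 n78396 = n163037 := rfl
def n163038 : Q := act 7 n78396
theorem D163038 : act 7 n78396 = n163038 := rfl
theorem F257392 : act 2 n163038 = n78397 := d4_1 D163038 F257391 (iv2 D163033)
def n163039 : Q := act 3 n78397
theorem D163039 : act 3 n78397 = n163039 := rfl
def n163040 : Q := act 4 n78397
theorem D163040 : act 4 n78397 = n163040 := rfl
def n163041 : Q := act 5 n78397
theorem D163041 : act 5 n78397 = n163041 := rfl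
def n163042 : Q := act 6 n78397
theorem D163042 : act 6 n78397 = n163042 := rfl
def n163043 : Q := act 5 n78398
theorem D163043 : act 5 n78398 = n163043 := rfl
theorem F257393 : act 2 n163043 = n78399 := d2_1 D163043 (iv5 D78399) D78398
def n163044 : Q := act 6 n78398
theorem D163044 : act 6 n78398 = n163044 := rfl
theorem F257394 : act 2 n163044 = n78400 := d3_1 D163044 (iv6 D78400) D78398
def n163045 : Q := act 0 n78399
theorem D163045 : act 0 n78399 = n163045 := rfl
def n163046 : Q := act 1 n78399
theorem D163046 : act 1 n78399 = n163046 := rfl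
def n163047 : Q := act 4 n78399
theorem D163047 : act 4 n78399 = n163047 := rfl
def n163048 : Q := act 6 n78399
theorem D163048 : act 6 n78399 = n163048 := rfl
theorem F257395 : act 3 n163048 = n78401 := d7_1 D163048 (iv6 D78401) (iv3 F119597)
def n163053 : Q := act 1 n78401
theorem D163053 : act 1 n78401 = n163053 := rfl
def n163055 : Q := act 7 n78401
theorem D163055 : act 7 n78401 = n163055 := rfl
def n163059 : Q := act 2 n78406
theorem D163059 : act 2 n78406 = n163059 := rfl
def n163060 : Q := act 3 n78406
theorem D163060 : act 3 n78406 = n163060 := rfl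
def n163061 : Q := act 4 n78406
theorem D163061 : act 4 n78406 = n163061 := rfl
def n163062 : Q := act 5 n78406
theorem D163062 : act 5 n78406 = n163062 := rfl
def n163063 : Q := act 6 n78406
theorem D163063 : act 6 n78406 = n163063 := rfl
def n163064 : Q := act 7 n78406
theorem D163064 : act 7 n78406 = n163064 := rfl
def n163067 : Q := act 5 n78407
theorem D163067 : act 5 n78407 = n163067 := rfl
def n163069 : Q := act 4 n78408
theorem D163069 : act 4 n78408 = n163069 := rfl
theorem F257402 : act 2 n163069 = n78409 := d1_1 D163069 (iv4 D78409) D78408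
def n163070 : Q := act 5 n78408
theorem D163070 : act 5 n78408 = n163070 := rfl
theorem F257403 : act 2 n163070 = n78410 := d2_1 D163070 (iv5 D78410) D78408
def n163071 : Q := act 0 n78409
theorem D163071 : act 0 n78409 = n163071 := rfl
def n163072 : Q := act 1 n78409
theorem D163072 : act 1 n78409 = n163072 := rfl
theorem F257404 : act 4 n163034 = n163072 := d20_6 F43486 (iv1 F21403) D17317 D35730 D78396 D163034 (iv1 D163072) (iv4 D78409) (iv3 D35734) (iv1 F43488)
def n163073 : Q := act 5 n78409
theorem D163073 : act 5 n78409 = n163073 := rfl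
theorem F257405 : act 3 n163073 = n84576 := d6_1 D163073 (iv5 D84576) (iv3 F119606)
def n163074 : Q := act 0 n78410
theorem D163074 : act 0 n78410 = n163074 := rfl
def n163075 : Q := act 1 n78410
theorem D163075 : act 1 n78410 = n163075 := rfl
def n163076 : Q := act 4 n78410
theorem D163076 : act 4 n78410 = n163076 := rfl
def n163077 : Q := act 6 n78410
theorem D163077 : act 6 n78410 = n163077 := rfl
def n163078 : Q := act 3 n78411
theorem D163078 : act 3 n78411 = n163078 := rfl
theorem F257407 : act 5 n163078 = n121034 := d6_2 (iv5 F119608) D163078 (iv3 D121034)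
theorem F257408 : act 7 n163078 = n162792 := d8_2 F119611 D163078 F257074
def n163079 : Q := act 6 n78411
theorem D163079 : act 6 n78411 = n163079 := rfl
def n163080 : Q := act 3 n78412
theorem D163080 : act 3 n78412 = n163080 := rfl
theorem F257410 : act 5 n163080 = n121033 := d6_2 (iv5 F119614) D163080 (iv3 D121033)
theorem F257411 : act 7 n163080 = n162797 := d8_2 (iv7 F119613) D163080 F257076
def n163081 : Q := act 6 n78412
theorem D163081 : act 6 n78412 = n163081 := rfl
theorem F257413 : act 5 n163081 = n159289 := d12_1 D163081 (iv6 D159289) F114169 (iv6 F88307) (iv5 F119614)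
def n163085 : Q := act 2 n78414
theorem D163085 : act 2 n78414 = n163085 := rfl
theorem F257414 : act 7 n78415 = n163085 := d15_2 (iv0 D78414) D78415 (iv2 D163085)
def n163086 : Q := act 3 n78414
theorem D163086 : act 3 n78414 = n163086 := rfl
def n163090 : Q := act 7 n78414
theorem D163090 : act 7 n78414 = n163090 := rfl
theorem F257415 : act 2 n163090 = n78415 := d4_1 D163090 F257414 (iv2 D163085)
def n163091 : Q := act 3 n78415
theorem D163091 : act 3 n78415 = n163091 := rfl
def n163092 : Q := act 4 n78415
theorem D163092 : act 4 n78415 = n163092 := rfl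
def n163093 : Q := act 5 n78415
theorem D163093 : act 5 n78415 = n163093 := rfl
def n163094 : Q := act 6 n78415
theorem D163094 : act 6 n78415 = n163094 := rfl
def n163095 : Q := act 4 n78416
theorem D163095 : act 4 n78416 = n163095 := rfl
theorem F257416 : act 2 n163095 = n78417 := d1_1 D163095 (iv4 D78417) D78416
def n163097 : Q := act 6 n78416
theorem D163097 : act 6 n78416 = n163097 := rfl
theorem F257418 : act 2 n163097 = n78419 := d3_1 D163097 (iv6 D78419) D78416
def n163098 : Q := act 0 n78417
theorem D163098 : act 0 n78417 = n163098 := rfl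
def n163099 : Q := act 1 n78417
theorem D163099 : act 1 n78417 = n163099 := rfl
theorem F257419 : act 4 n162993 = n163099 := d20_6 (iv4 D8109) D8107 D17313 D35723 D78381 D162993 (iv1 D163099) (iv4 D78417) (iv3 D35736) (iv1 D17320)
def n163100 : Q := act 5 n78417
theorem D163100 : act 5 n78417 = n163100 := rfl
theorem F257420 : act 3 n163100 = n83282 := d6_1 D163100 (iv5 D83282) (iv3 F119616)
def n163101 : Q := act 6 n78417
theorem D163101 : act 6 n78417 = n163101 := rfl
theorem F257421 : act 3 n163101 = n83283 := d7_1 D163101 (iv6 D83283) (iv3 F119616)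
theorem F257422 : act 4 n163101 = n78419 := d10_1 D163101 (iv6 D78419) D78417
def n163109 : Q := act 0 n78420
theorem D163109 : act 0 n78420 = n163109 := rfl
def n163114 : Q := act 5 n78422
theorem D163114 : act 5 n78422 = n163114 := rfl
theorem F257426 : act 2 n163114 = n78440 := d2_1 D163114 F119630 F119619
theorem F257427 : act 7 n163114 = n78435 := d13_2 (iv7 F119620) D163114 (iv5 D78435)
theorem F257428 : act 1 n78437 = n163114 := d15_1 D78437 F257427 F119626
theorem F257429 : act 1 n163114 = n78436 := d15_0 (iv0 D78436) D78440 (iv2 F257426)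
def n163115 : Q := act 6 n78422
theorem D163115 : act 6 n78422 = n163115 := rfl
theorem F257430 : act 2 n163115 = n78441 := d3_1 D163115 (iv6 D78441) F119619
def n163118 : Q := act 3 n78423
theorem D163118 : act 3 n78423 = n163118 := rfl
theorem F257436 : act 7 n163118 = n78429 := d8_2 F119622 D163118 (iv3 D78429)
def n163119 : Q := act 4 n78423
theorem D163119 : act 4 n78423 = n163119 := rfl
theorem F257437 : act 2 n163119 = n78425 := d1_1 D163119 (iv4 D78425) D78423
theorem F257438 : act 7 n163119 = n78430 := d11_2 F119622 D163119 (iv4 D78430)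
def n163120 : Q := act 5 n78423
theorem D163120 : act 5 n78423 = n163120 := rfl
theorem F257439 : act 2 n163120 = n78426 := d2_1 D163120 (iv5 D78426) D78423
theorem F257440 : act 7 n163120 = n78431 := d13_2 F119622 D163120 (iv5 D78431)
def n163121 : Q := act 6 n78423
theorem D163121 : act 6 n78423 = n163121 := rfl
theorem F257441 : act 2 n163121 = n78427 := d3_1 D163121 (iv6 D78427) D78423
def n163122 : Q := act 0 n78424
theorem D163122 : act 0 n78424 = n163122 := rfl
def n163123 : Q := act 1 n78424
theorem D163123 : act 1 n78424 = n163123 := rfl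
def n163124 : Q := act 2 n78424
theorem D163124 : act 2 n78424 = n163124 := rfl
def n163125 : Q := act 4 n78424
theorem D163125 : act 4 n78424 = n163125 := rfl
theorem F257442 : act 0 n163125 = n84542 := d20_7 (iv4 D17317) (iv1 D8108) D8109 D17321 D35739 D78424 D163125 F129713 F60073 (iv1 F41763)
theorem F257443 : act 0 n84540 = n163125 := d20_7 (iv4 F256234) (iv1 F256236) D162138 (iv3 F256239) (iv1 D124492) F91890 (iv4 F129709) (iv4 D163125) (iv3 D78424) D78422
def n163126 : Q := act 5 n78424
theorem D163126 : act 5 n78424 = n163126 := rfl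
theorem F257444 : act 3 n163126 = n78426 := d6_1 D163126 (iv5 D78426) D78424
def n163127 : Q := act 6 n78424
theorem D163127 : act 6 n78424 = n163127 := rfl
theorem F257445 : act 3 n163127 = n78427 := d7_1 D163127 (iv6 D78427) D78424
def n163128 : Q := act 7 n78424
theorem D163128 : act 7 n78424 = n163128 := rfl
theorem F257446 : act 3 n163128 = n78428 := d8_1 D163128 (iv7 D78428) D78424
def n163129 : Q := act 0 n78425
theorem D163129 : act 0 n78425 = n163129 := rfl
theorem F257447 : act 4 n163129 = n163039 := d20_2 D78425 D163129 (iv3 D163039) (iv1 D78397) (iv3 D35730) (iv4 D17317) (iv1 D8108) D8109 D17321 D35739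
def n163130 : Q := act 1 n78425
theorem D163130 : act 1 n78425 = n163130 := rfl
theorem F257448 : act 1 n163130 = n78430 := d15_1 D163130 (iv7 F257438) F257437
def n163131 : Q := act 3 n78425
theorem D163131 : act 3 n78425 = n163131 := rfl
def n163132 : Q := act 5 n78425
theorem D163132 : act 5 n78425 = n163132 := rfl
def n163133 : Q := act 6 n78425
theorem D163133 : act 6 n78425 = n163133 := rfl
theorem F257449 : act 4 n163133 = n78427 := d10_1 D163133 (iv6 D78427) D78425
def n163134 : Q := act 7 n78425
theorem D163134 : act 7 n78425 = n163134 := rfl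
theorem F257450 : act 2 n163134 = n78430 := d4_1 D163134 (iv7 F257438) F257437
theorem F257451 : act 4 n163134 = n78428 := d11_1 D163134 (iv7 D78428) D78425
theorem F257452 : act 1 n78430 = n163129 := d15_0 (iv0 D163129) D163134 F257450
def n163135 : Q := act 0 n78426
theorem D163135 : act 0 n78426 = n163135 := rfl
def n163136 : Q := act 1 n78426
theorem D163136 : act 1 n78426 = n163136 := rfl
theorem F257453 : act 1 n163136 = n78431 := d15_1 D163136 (iv7 F257440) F257439
def n163137 : Q := act 4 n78426
theorem D163137 : act 4 n78426 = n163137 := rfl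
def n163138 : Q := act 6 n78426
theorem D163138 : act 6 n78426 = n163138 := rfl
def n163139 : Q := act 7 n78426
theorem D163139 : act 7 n78426 = n163139 := rfl
theorem F257454 : act 2 n163139 = n78431 := d4_1 D163139 (iv7 F257440) F257439
theorem F257455 : act 5 n163139 = n78428 := d13_1 D163139 (iv7 D78428) D78426
theorem F257456 : act 1 n78431 = n163135 := d15_0 (iv0 D163135) D163139 F257454
def n163140 : Q := act 0 n78427
theorem D163140 : act 0 n78427 = n163140 := rfl
def n163141 : Q := act 1 n78427
theorem D163141 : act 1 n78427 = n163141 := rfl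
def n163142 : Q := act 5 n78427
theorem D163142 : act 5 n78427 = n163142 := rfl
theorem F257457 : act 0 n163142 = n121740 := d21_7 F256346 (iv1 D35839) (iv5 D17358) (iv6 F28252) D35739 D78427 D163142 (iv5 D121740) F88977 (iv1 F88484)
theorem F257458 : act 1 n163142 = n121744 := d15_1 (iv0 F257457) (iv7 D121744) (iv2 F194302)
def n163143 : Q := act 7 n78427
theorem D163143 : act 7 n78427 = n163143 := rfl
def n163145 : Q := act 0 n78429
theorem D163145 : act 0 n78429 = n163145 := rfl
def n163146 : Q := act 1 n78429
theorem D163146 : act 1 n78429 = n163146 := rfl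
def n163147 : Q := act 2 n78429
theorem D163147 : act 2 n78429 = n163147 := rfl
def n163148 : Q := act 4 n78429
theorem D163148 : act 4 n78429 = n163148 := rfl
theorem F257460 : act 0 n162994 = n163148 := d20_1 D162994 (iv4 D163148) (iv3 D78429) (iv1 D35740) (iv3 D17321) (iv4 D8109) D8107 D17313 D35723 D78381
def n163149 : Q := act 5 n78429
theorem D163149 : act 5 n78429 = n163149 := rfl
theorem F257461 : act 3 n163149 = n78431 := d6_1 D163149 (iv5 D78431) D78429
def n163150 : Q := act 6 n78429
theorem D163150 : act 6 n78429 = n163150 := rfl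
theorem F257462 : act 3 n163150 = n78432 := d7_1 D163150 (iv6 D78432) D78429
def n163154 : Q := act 4 n78431
theorem D163154 : act 4 n78431 = n163154 := rfl
def n163155 : Q := act 6 n78431
theorem D163155 : act 6 n78431 = n163155 := rfl
def n163164 : Q := act 6 n78433
theorem D163164 : act 6 n78433 = n163164 := rfl
theorem F257465 : act 5 n163164 = n121742 := d21_6 (iv5 F194345) (iv1 F56498) (iv5 D35837) (iv6 F56416) D78433 D163164 (iv1 D121742) (iv5 D56254) F43811 D27108
def n163166 : Q := act 3 n78434
theorem D163166 : act 3 n78434 = n163166 := rfl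
theorem F257467 : act 4 n163166 = n84539 := d20_6 F41956 (iv1 F21402) (iv4 F28253) (iv3 F56418) (iv1 F119625) D163166 (iv1 D84539) F60009 (iv3 D18556) D18554
def n163170 : Q := act 0 n78435
theorem D163170 : act 0 n78435 = n163170 := rfl
theorem F257468 : act 1 n78440 = n163170 := d15_0 (iv0 D163170) (iv7 F257427) F257426
def n163171 : Q := act 1 n78435
theorem D163171 : act 1 n78435 = n163171 := rfl
theorem F257469 : act 1 n163171 = n78440 := d15_1 D163171 (iv7 D78440) (iv2 F119626)
def n163172 : Q := act 4 n78435
theorem D163172 : act 4 n78435 = n163172 := rfl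
theorem F257470 : act 2 n163172 = n78438 := d1_1 D163172 (iv4 D78438) (iv2 F119626)
def n163173 : Q := act 6 n78435
theorem D163173 : act 6 n78435 = n163173 := rfl
theorem F257471 : act 2 n163173 = n78439 := d3_1 D163173 (iv6 D78439) (iv2 F119626)
theorem F257472 : act 5 n163173 = n78696 := d12_1 D163173 (iv6 D78696) (iv5 D35837) (iv6 F56416) D78435
def n163174 : Q := act 2 n78436
theorem D163174 : act 2 n78436 = n163174 := rfl
theorem F257473 : act 7 n78437 = n163174 := d15_2 (iv0 D78436) D78437 (iv2 D163174)
def n163175 : Q := act 3 n78436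
theorem D163175 : act 3 n78436 = n163175 := rfl
def n163176 : Q := act 4 n78436
theorem D163176 : act 4 n78436 = n163176 := rfl
def n163177 : Q := act 5 n78436
theorem D163177 : act 5 n78436 = n163177 := rfl
def n163178 : Q := act 6 n78436
theorem D163178 : act 6 n78436 = n163178 := rfl
def n163179 : Q := act 7 n78436
theorem D163179 : act 7 n78436 = n163179 := rfl
theorem F257474 : act 2 n163179 = n78437 := d4_1 D163179 F257473 (iv2 D163174)
def n163180 : Q := act 3 n78437
theorem D163180 : act 3 n78437 = n163180 := rfl
def n163181 : Q := act 4 n78437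
theorem D163181 : act 4 n78437 = n163181 := rfl
def n163182 : Q := act 5 n78437
theorem D163182 : act 5 n78437 = n163182 := rfl
def n163183 : Q := act 6 n78437
theorem D163183 : act 6 n78437 = n163183 := rfl
def n163184 : Q := act 0 n78438
theorem D163184 : act 0 n78438 = n163184 := rfl
def n163185 : Q := act 1 n78438
theorem D163185 : act 1 n78438 = n163185 := rfl
def n163186 : Q := act 3 n78438
theorem D163186 : act 3 n78438 = n163186 := rfl
theorem F257475 : act 4 n163186 = n78446 := d5_2 D78438 D163186 (iv3 D78446) (iv4 D35746) (iv3 F56417)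
def n163187 : Q := act 5 n78438
theorem D163187 : act 5 n78438 = n163187 := rfl
def n163188 : Q := act 6 n78438
theorem D163188 : act 6 n78438 = n163188 := rfl
theorem F257476 : act 4 n163188 = n78439 := d10_1 D163188 (iv6 D78439) D78438
def n163189 : Q := act 7 n78438
theorem D163189 : act 7 n78438 = n163189 := rfl
theorem F257477 : act 4 n163189 = n78440 := d11_1 D163189 (iv7 D78440) D78438
def n163190 : Q := act 0 n78439
theorem D163190 : act 0 n78439 = n163190 := rfl
def n163191 : Q := act 1 n78439
theorem D163191 : act 1 n78439 = n163191 := rfl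
def n163192 : Q := act 7 n78439
theorem D163192 : act 7 n78439 = n163192 := rfl
theorem F257478 : act 3 n163192 = n78450 := d8_1 D163192 (iv7 D78450) (iv3 F119627)
theorem F257479 : act 5 n163192 = n78713 := d13_1 D163192 (iv7 D78713) (iv5 F119628)
def n163193 : Q := act 6 n78440
theorem D163193 : act 6 n78440 = n163193 := rfl
theorem F257480 : act 3 n163193 = n78451 := d7_1 D163193 (iv6 D78451) (iv3 F119629)
def n163196 : Q := act 5 n78441
theorem D163196 : act 5 n78441 = n163196 := rfl
theorem F257483 : act 3 n163196 = n78452 := d6_1 D163196 (iv5 D78452) (iv3 F119631)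
def n163197 : Q := act 0 n78442
theorem D163197 : act 0 n78442 = n163197 := rfl
def n163198 : Q := act 1 n78442
theorem D163198 : act 1 n78442 = n163198 := rfl
def n163199 : Q := act 2 n78442
theorem D163199 : act 2 n78442 = n163199 := rfl
theorem F257485 : act 5 n163199 = n84567 := d2_2 (iv5 F119633) D163199 (iv2 D84567)
def n163200 : Q := act 4 n78442
theorem D163200 : act 4 n78442 = n163200 := rfl
def n163201 : Q := act 6 n78442
theorem D163201 : act 6 n78442 = n163201 := rfl
theorem F257486 : act 3 n163201 = n78443 := d7_1 D163201 (iv6 D78443) D78442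
def n163202 : Q := act 0 n78443
theorem D163202 : act 0 n78443 = n163202 := rfl
def n163203 : Q := act 1 n78443
theorem D163203 : act 1 n78443 = n163203 := rfl
def n163204 : Q := act 5 n78443
theorem D163204 : act 5 n78443 = n163204 := rfl
theorem F257487 : act 6 n163204 = n84569 := d12_2 D78443 D163204 (iv5 D84569) (iv6 D39026) (iv5 F56419)
def n163205 : Q := act 7 n78443
theorem D163205 : act 7 n78443 = n163205 := rfl
def n163206 : Q := act 0 n78444
theorem D163206 : act 0 n78444 = n163206 := rfl
def n163207 : Q := act 1 n78444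
theorem D163207 : act 1 n78444 = n163207 := rfl
def n163208 : Q := act 2 n78444
theorem D163208 : act 2 n78444 = n163208 := rfl
theorem F257490 : act 5 n163208 = n84572 := d2_2 (iv5 F119634) D163208 (iv2 D84572)
def n163209 : Q := act 4 n78444
theorem D163209 : act 4 n78444 = n163209 := rfl
def n163210 : Q := act 6 n78444
theorem D163210 : act 6 n78444 = n163210 := rfl
def n163215 : Q := act 0 n78446
theorem D163215 : act 0 n78446 = n163215 := rfl
def n163216 : Q := act 1 n78446
theorem D163216 : act 1 n78446 = n163216 := rfl
def n163217 : Q := act 2 n78446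
theorem D163217 : act 2 n78446 = n163217 := rfl
def n163218 : Q := act 6 n78446
theorem D163218 : act 6 n78446 = n163218 := rfl
def n163219 : Q := act 0 n78447
theorem D163219 : act 0 n78447 = n163219 := rfl
theorem F257494 : act 4 n163219 = n124500 := d18_3 (iv1 D78449) (iv4 F119635) D163219 F199133 (iv4 D121254) (iv0 F88514) (iv4 F114165) (iv0 F194276) F119863
def n163221 : Q := act 5 n78447
theorem D163221 : act 5 n78447 = n163221 := rfl
theorem F257497 : act 7 n163221 = n78731 := d16_8 (iv4 D86270) (iv5 D39923) F30129 F21435 (iv4 F28296) (iv5 F56421) (iv4 F119635) D163221 (iv2 F132233)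
def n163222 : Q := act 7 n78447
theorem D163222 : act 7 n78447 = n163222 := rfl
theorem F257498 : act 4 n163222 = n78450 := d11_1 D163222 (iv7 D78450) (iv4 F119635)
def n163223 : Q := act 3 n78448
theorem D163223 : act 3 n78448 = n163223 := rfl
def n163224 : Q := act 4 n78448
theorem D163224 : act 4 n78448 = n163224 := rfl
theorem F257500 : act 1 n163224 = n84618 := d18_6 F119916 F114156 F60723 D86240 F132199 D163224 F129789 D84620 (iv5 F129791)
def n163226 : Q := act 3 n78449
theorem D163226 : act 3 n78449 = n163226 := rfl
def n163227 : Q := act 4 n78449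
theorem D163227 : act 4 n78449 = n163227 := rfl
theorem F257501 : act 0 n163227 = n84618 := d18_2 (iv1 F193153) D163227 F129789 F60080 F30116 D18872 (iv4 F88492) F88507 (iv5 F193152)
def n163229 : Q := act 6 n78450
theorem D163229 : act 6 n78450 = n163229 := rfl
theorem F257502 : act 5 n163229 = n79935 := d12_1 D163229 (iv6 D79935) F57153 (iv6 F56508) (iv5 F119636)
theorem F257503 : act 7 n163229 = n78451 := d14_2 D78450 D163229 (iv6 D78451) (iv7 D35748) D35747
def n163230 : Q := act 0 n78451
theorem D163230 : act 0 n78451 = n163230 := rfl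
def n163231 : Q := act 1 n78451
theorem D163231 : act 1 n78451 = n163231 := rfl
def n163232 : Q := act 5 n78451
theorem D163232 : act 5 n78451 = n163232 := rfl
theorem F257504 : act 6 n163232 = n78452 := d12_2 D78451 D163232 (iv5 D78452) (iv6 D35749) (iv5 F56422)
theorem F257505 : act 7 n163232 = n79935 := d13_2 F257503 D163232 (iv5 F257502)
def n163233 : Q := act 0 n78453
theorem D163233 : act 0 n78453 = n163233 := rfl
def n163234 : Q := act 7 n78453
theorem D163234 : act 7 n78453 = n163234 := rfl
theorem F257506 : act 2 n163234 = n83143 := d4_1 D163234 F128178 (iv2 F119638)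
theorem F257507 : act 4 n163234 = n160892 := d11_1 D163234 (iv7 D160892) (iv4 F119639)
theorem F257508 : act 5 n163234 = n160841 := d13_1 D163234 (iv7 D160841) (iv5 F119640)
theorem F257509 : act 6 n163234 = n83094 := d14_1 D163234 (iv7 D83094) F59124 (iv7 F56426) D78453
theorem F257511 : act 1 n158030 = n163234 := d15_1 D158030 (iv7 D163234) F119638
theorem F257512 : act 4 n160871 = n158030 := d18_7 (iv1 F254001) F254793 (iv1 D160849) F115941 (iv5 F55978) (iv4 F115960) D160871 F257511 F257508
theorem F257514 : act 1 n163234 = n158029 := d15_0 (iv0 D158029) (iv7 F128178) (iv2 F257506)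
def n163235 : Q := act 0 n78454
theorem D163235 : act 0 n78454 = n163235 := rfl
def n163236 : Q := act 1 n78454
theorem D163236 : act 1 n78454 = n163236 := rfl
def n163237 : Q := act 2 n78454
theorem D163237 : act 2 n78454 = n163237 := rfl
theorem F257515 : act 3 n163237 = n78473 := d0_2 D78454 D163237 (iv2 D78473) (iv3 D35757) (iv2 F56430)
def n163238 : Q := act 5 n78454
theorem D163238 : act 5 n78454 = n163238 := rfl
theorem F257516 : act 3 n163238 = n78455 := d6_1 D163238 (iv5 D78455) D78454
def n163240 : Q := act 6 n78455
theorem D163240 : act 6 n78455 = n163240 := rfl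
theorem F257518 : act 2 n163240 = n78477 := d3_1 D163240 (iv6 D78477) (iv2 F119641)
theorem F257519 : act 4 n163240 = n121145 := d10_1 D163240 (iv6 D121145) (iv4 F119642)
def n163241 : Q := act 0 n78456
theorem D163241 : act 0 n78456 = n163241 := rfl
theorem F257520 : act 4 n163241 = n92184 := d20_8 (iv4 F248980) (iv1 F248982) (iv4 F141776) F140922 (iv1 D91675) F67163 (iv4 F119644) D163241 (iv3 D92184) (iv1 F112878)
def n163242 : Q := act 1 n78456
theorem D163242 : act 1 n78456 = n163242 := rfl
theorem F257526 : act 4 n162171 = n163242 := d20_0 (iv1 D163242) F119644 (iv3 F67163) F132995 F132992 D162166 F256278 F248807 (iv3 F248803) (iv1 F256292)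
def n163246 : Q := act 0 n78459
theorem D163246 : act 0 n78459 = n163246 := rfl
theorem F257537 : act 1 n160855 = n163246 := d15_0 (iv0 D163246) F119650 D160855
def n163247 : Q := act 1 n78459
theorem D163247 : act 1 n78459 = n163247 := rfl
def n163248 : Q := act 2 n78459
theorem D163248 : act 2 n78459 = n163248 := rfl
theorem F257538 : act 3 n163248 = n160844 := d0_2 D78459 D163248 (iv2 D160844) (iv3 D77186) (iv2 F56432)
theorem F257539 : act 7 n163248 = n160855 := d4_2 (iv7 F119650) D163248 (iv2 D160855)
theorem F257540 : act 1 n163248 = n160853 := d15_0 (iv0 D160853) (iv7 F119650) D163248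
theorem F257541 : act 1 n163247 = n160855 := d15_1 D163247 (iv7 F257539) (iv2 D163248)
theorem F257542 : act 1 n160854 = n163248 := d15_1 D160854 F257539 (iv2 D160855)
def n163249 : Q := act 5 n78459
theorem D163249 : act 5 n78459 = n163249 := rfl
theorem F257543 : act 3 n163249 = n78460 := d6_1 D163249 (iv5 D78460) D78459
theorem F257544 : act 7 n163249 = n160856 := d13_2 (iv7 F119650) D163249 (iv5 D160856)
def n163250 : Q := act 6 n78459
theorem D163250 : act 6 n78459 = n163250 := rfl
theorem F257545 : act 3 n163250 = n78461 := d7_1 D163250 (iv6 D78461) D78459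
def n163251 : Q := act 6 n78460
theorem D163251 : act 6 n78460 = n163251 := rfl
theorem F257546 : act 2 n163251 = n160847 := d3_1 D163251 (iv6 D160847) (iv2 F119651)
def n163252 : Q := act 0 n78461
theorem D163252 : act 0 n78461 = n163252 := rfl
def n163253 : Q := act 1 n78461
theorem D163253 : act 1 n78461 = n163253 := rfl
theorem F257547 : act 1 n163253 = n160851 := d15_1 D163253 (iv7 D160851) (iv2 F119653)
theorem F257548 : act 4 n86172 = n163253 := d20_0 (iv1 D163253) F119654 (iv3 F70015) D95273 F146904 F250019 (iv1 F250143) F250140 (iv3 F250122) (iv1 F250125)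
theorem F257549 : act 2 n163253 = n160849 := d1_1 F257548 (iv4 F254793) F250121
theorem F257550 : act 7 n163253 = n160848 := d11_2 (iv7 F198994) F257548 F254011
theorem F257551 : act 4 n86167 = n161129 := d20_2 (iv4 F60687) D86167 (iv3 F254730) F253350 F198739 (iv4 F254013) (iv1 F257547) (iv4 F257548) (iv3 D86172) (iv1 D39884)
theorem F257552 : act 6 n159183 = n86167 := d10_0 F257551 F254728 (iv4 F250663)
theorem F257553 : act 2 n160848 = n163252 := d15_3 (iv0 D163252) D163253 F257550
theorem F257554 : act 7 n160849 = n163252 := d4_2 (iv7 F257550) F257549 (iv2 F257553)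
theorem F257555 : act 4 n163252 = n83129 := d11_1 F257554 (iv7 F250119) F254793
theorem F257557 : act 6 n83128 = n163252 := d10_0 F257555 (iv6 D83129) D83128
def n163254 : Q := act 5 n78461
theorem D163254 : act 5 n78461 = n163254 := rfl
theorem F257558 : act 2 n163254 = n160850 := d2_1 D163254 (iv5 D160850) (iv2 F119653)
def n163255 : Q := act 7 n78461
theorem D163255 : act 7 n78461 = n163255 := rfl
theorem F257560 : act 4 n163255 = n78464 := d11_1 D163255 (iv7 D78464) (iv4 F119654)
theorem F257561 : act 6 n163255 = n79798 := d14_1 D163255 F122513 (iv6 D77194) (iv7 F56433) D78461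
theorem F257562 : act 1 n160849 = n163255 := d15_1 D160849 (iv7 D163255) F119653
def n163256 : Q := act 4 n78463
theorem D163256 : act 4 n78463 = n163256 := rfl
def n163259 : Q := act 2 n78465
theorem D163259 : act 2 n78465 = n163259 := rfl
def n163260 : Q := act 5 n78465
theorem D163260 : act 5 n78465 = n163260 := rfl
theorem F257567 : act 3 n163260 = n78466 := d6_1 D163260 (iv5 D78466) D78465
def n163261 : Q := act 6 n78465
theorem D163261 : act 6 n78465 = n163261 := rfl
def n163262 : Q := act 6 n78466
theorem D163262 : act 6 n78466 = n163262 := rfl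
theorem F257570 : act 2 n163262 = n160910 := d3_1 D163262 (iv6 D160910) (iv2 F119661)
theorem F257571 : act 4 n163262 = n163251 := d10_1 D163262 (iv6 D163251) (iv4 F119663)
def n163263 : Q := act 5 n78467
theorem D163263 : act 5 n78467 = n163263 := rfl
theorem F257572 : act 1 n163263 = n79827 := d17_6 F195754 (iv5 D39164) F118384 D76992 (iv4 F119666) D163263 (iv5 D79827) D79825 (iv4 F128542)
def n163264 : Q := act 0 n78468
theorem D163264 : act 0 n78468 = n163264 := rfl
def n163265 : Q := act 1 n78468
theorem D163265 : act 1 n78468 = n163265 := rfl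
def n163266 : Q := act 2 n78468
theorem D163266 : act 2 n78468 = n163266 := rfl
theorem F257573 : act 4 n163266 = n158870 := d1_2 (iv4 F119667) D163266 (iv2 D158870)
def n163267 : Q := act 5 n78468
theorem D163267 : act 5 n78468 = n163267 := rfl
theorem F257574 : act 3 n163267 = n78469 := d6_1 D163267 (iv5 D78469) D78468
theorem F257575 : act 7 n163267 = n160909 := d13_2 F129309 D163267 F254105
def n163268 : Q := act 6 n78468
theorem D163268 : act 6 n78468 = n163268 := rfl
theorem F257577 : act 4 n163268 = n158872 := d10_1 D163268 (iv6 D158872) (iv4 F119667)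
def n163269 : Q := act 6 n78469
theorem D163269 : act 6 n78469 = n163269 := rfl
theorem F257578 : act 2 n163269 = n160908 := d3_1 D163269 (iv6 D160908) (iv2 F119668)
theorem F257579 : act 4 n163269 = n160620 := d10_1 D163269 (iv6 D160620) (iv4 F119669)
def n163272 : Q := act 3 n78471
theorem D163272 : act 3 n78471 = n163272 := rfl
def n163273 : Q := act 5 n78471
theorem D163273 : act 5 n78471 = n163273 := rfl
theorem F257584 : act 2 n163273 = n160904 := d2_1 D163273 F254101 (iv2 F254305)
theorem F257585 : act 0 n163273 = n160902 := d17_2 D78471 D163273 (iv5 D160902) F115965 (iv5 F56474) F57195 F254082 (iv0 D35763) (iv4 F56437)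
theorem F257586 : act 1 n163273 = n80013 := d17_6 (iv1 F254421) D78674 F254300 (iv5 F254301) F194340 D163273 (iv5 D80013) D80011 (iv4 F122822)
def n163274 : Q := act 6 n78471
theorem D163274 : act 6 n78471 = n163274 := rfl
def n163275 : Q := act 3 n78472
theorem D163275 : act 3 n78472 = n163275 := rfl
def n163276 : Q := act 5 n78472
theorem D163276 : act 5 n78472 = n163276 := rfl
theorem F257587 : act 7 n163276 = n160904 := d13_2 F254309 D163276 F254101
theorem F257588 : act 0 n163276 = n80013 := d17_2 (iv1 F193203) D163276 (iv5 D80013) F57236 F28609 D36428 F254093 F88453 (iv4 F193199)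
theorem F257589 : act 1 n163276 = n160902 := d17_6 (iv1 F254422) F253648 (iv1 D86279) D86281 F254085 D163276 (iv5 D160902) F122820 (iv4 F122821)
theorem F257590 : act 2 n163276 = n160903 := d15_3 (iv0 D160903) D160904 (iv7 F257587)
theorem F257591 : act 5 n160903 = n121140 := d2_2 D163276 F257590 (iv2 F254310)
theorem F257592 : act 7 n160903 = n163273 := d4_2 (iv7 F257587) F257590 F257584
def n163277 : Q := act 6 n78472
theorem D163277 : act 6 n78472 = n163277 := rfl
def n163278 : Q := act 5 n78473
theorem D163278 : act 5 n78473 = n163278 := rfl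
theorem F257593 : act 2 n163278 = n78474 := d2_1 D163278 (iv5 D78474) D78473
def n163279 : Q := act 6 n78473
theorem D163279 : act 6 n78473 = n163279 := rfl
theorem F257594 : act 2 n163279 = n78475 := d3_1 D163279 (iv6 D78475) D78473
def n163280 : Q := act 4 n78474
theorem D163280 : act 4 n78474 = n163280 := rfl
def n163281 : Q := act 6 n78474
theorem D163281 : act 6 n78474 = n163281 := rfl
theorem F257596 : act 3 n163281 = n78477 := d7_1 D163281 (iv6 D78477) (iv3 F119675)
def n163286 : Q := act 3 n78476
theorem D163286 : act 3 n78476 = n163286 := rfl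
theorem F257600 : act 5 n163286 = n121135 := d6_2 (iv5 F119680) D163286 (iv3 D121135)
theorem F257601 : act 7 n163286 = n163238 := d8_2 (iv7 F119679) D163286 F257516
def n163287 : Q := act 6 n78476
theorem D163287 : act 6 n78476 = n163287 := rfl
theorem F257602 : act 2 n163287 = n121145 := d3_1 D163287 (iv6 D121145) (iv2 F119678)
theorem F257603 : act 4 n163287 = n78477 := d10_1 D163287 (iv6 D78477) D78476
def n163288 : Q := act 0 n78477
theorem D163288 : act 0 n78477 = n163288 := rfl
def n163289 : Q := act 1 n78477
theorem D163289 : act 1 n78477 = n163289 := rfl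
def n163290 : Q := act 5 n78477
theorem D163290 : act 5 n78477 = n163290 := rfl
theorem F257604 : act 6 n163290 = n78480 := d12_2 D78477 D163290 (iv5 D78480) (iv6 D35759) D35758
def n163291 : Q := act 7 n78477
theorem D163291 : act 7 n78477 = n163291 := rfl
def n163309 : Q := act 6 n78487
theorem D163309 : act 6 n78487 = n163309 := rfl
def n163316 : Q := act 3 n78491
theorem D163316 : act 3 n78491 = n163316 := rfl
theorem F257627 : act 7 n163316 = n78497 := d8_2 F119686 D163316 (iv3 D78497)
def n163317 : Q := act 4 n78491
theorem D163317 : act 4 n78491 = n163317 := rfl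
theorem F257628 : act 2 n163317 = n78493 := d1_1 D163317 (iv4 D78493) D78491
theorem F257629 : act 7 n163317 = n78498 := d11_2 F119686 D163317 (iv4 D78498)
def n163318 : Q := act 6 n78491
theorem D163318 : act 6 n78491 = n163318 := rfl
theorem F257630 : act 2 n163318 = n78495 := d3_1 D163318 (iv6 D78495) D78491
def n163319 : Q := act 0 n78492
theorem D163319 : act 0 n78492 = n163319 := rfl
def n163320 : Q := act 1 n78492
theorem D163320 : act 1 n78492 = n163320 := rfl
def n163321 : Q := act 2 n78492
theorem D163321 : act 2 n78492 = n163321 := rfl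
def n163322 : Q := act 6 n78492
theorem D163322 : act 6 n78492 = n163322 := rfl
theorem F257631 : act 3 n163322 = n78495 := d7_1 D163322 (iv6 D78495) D78492
def n163323 : Q := act 7 n78492
theorem D163323 : act 7 n78492 = n163323 := rfl
theorem F257632 : act 3 n163323 = n78496 := d8_1 D163323 (iv7 D78496) D78492
def n163324 : Q := act 0 n78493
theorem D163324 : act 0 n78493 = n163324 := rfl
theorem F257633 : act 4 n163324 = n121232 := d20_2 D78493 D163324 (iv3 D121232) (iv1 D55928) F43527 F21430 (iv1 F9592) D8115 D17331 D35763
def n163325 : Q := act 1 n78493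
theorem D163325 : act 1 n78493 = n163325 := rfl
theorem F257634 : act 1 n163325 = n78498 := d15_1 D163325 (iv7 F257629) F257628
def n163326 : Q := act 3 n78493
theorem D163326 : act 3 n78493 = n163326 := rfl
def n163327 : Q := act 5 n78493
theorem D163327 : act 5 n78493 = n163327 := rfl
def n163328 : Q := act 6 n78493
theorem D163328 : act 6 n78493 = n163328 := rfl
theorem F257635 : act 4 n163328 = n78495 := d10_1 D163328 (iv6 D78495) D78493
def n163329 : Q := act 7 n78493
theorem D163329 : act 7 n78493 = n163329 := rfl
theorem F257636 : act 2 n163329 = n78498 := d4_1 D163329 (iv7 F257629) F257628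
theorem F257637 : act 4 n163329 = n78496 := d11_1 D163329 (iv7 D78496) D78493
theorem F257638 : act 1 n78498 = n163324 := d15_0 (iv0 D163324) D163329 F257636
def n163330 : Q := act 0 n78495
theorem D163330 : act 0 n78495 = n163330 := rfl
def n163331 : Q := act 1 n78495
theorem D163331 : act 1 n78495 = n163331 := rfl
def n163332 : Q := act 5 n78495
theorem D163332 : act 5 n78495 = n163332 := rfl
def n163333 : Q := act 7 n78495
theorem D163333 : act 7 n78495 = n163333 := rfl
def n163334 : Q := act 6 n78496
theorem D163334 : act 6 n78496 = n163334 := rfl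
theorem F257639 : act 2 n163334 = n78500 := d3_1 D163334 (iv6 D78500) (iv2 F119687)
def n163335 : Q := act 0 n78497
theorem D163335 : act 0 n78497 = n163335 := rfl
theorem F257640 : act 4 n163335 = n78707 := d20_0 (iv1 F119849) F57018 (iv3 F43822) (iv1 F88484) D121232 (iv4 F257633) (iv1 F257638) (iv4 D78498) D78497 D163335
theorem E24005 : n162407 = n79980 := ((c18_10 (iv1 D162407) (iv4 D78004) D78001 F119211 F56488 (iv4 F57018) F119849 (iv4 F257640) (iv0 D163335) F254094)).symm
theorem F257641 : act 0 n79980 = n78004 := (sb E24005 (iv1 D162407))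
theorem F257642 : act 1 n79980 = n78009 := (sb E24005 F256609)
theorem F257643 : act 0 n121212 = n79981 := d20_1 D121212 (iv4 D79981) D79980 F257641 F254178 F254269 (iv1 D159305) (iv4 D76209) D76208 (iv1 F254267)
theorem F257644 : act 1 n121232 = n78790 := d18_8 (iv1 F254267) D121212 F257643 (iv4 D79981) F254093 D78498 F257638 F257633 F250798
def n163336 : Q := act 2 n78497
theorem D163336 : act 2 n78497 = n163336 := rfl
def n163337 : Q := act 6 n78497
theorem D163337 : act 6 n78497 = n163337 := rfl
theorem F257645 : act 3 n163337 = n78500 := d7_1 D163337 (iv6 D78500) D78497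
def n163338 : Q := act 3 n78498
theorem D163338 : act 3 n78498 = n163338 := rfl
theorem F257646 : act 0 n79660 = n163338 := d20_4 F56435 F55922 D75273 (iv3 F122359) (iv3 D163338) (iv4 D78498) (iv1 D35764) (iv4 F56437) (iv3 D35757) D35755
def n163339 : Q := act 5 n78498
theorem D163339 : act 5 n78498 = n163339 := rfl
def n163340 : Q := act 6 n78498
theorem D163340 : act 6 n78498 = n163340 := rfl
theorem F257647 : act 4 n163340 = n78500 := d10_1 D163340 (iv6 D78500) D78498
def n163341 : Q := act 0 n78500
theorem D163341 : act 0 n78500 = n163341 := rfl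
def n163342 : Q := act 1 n78500
theorem D163342 : act 1 n78500 = n163342 := rfl
def n163343 : Q := act 5 n78500
theorem D163343 : act 5 n78500 = n163343 := rfl
def n163344 : Q := act 7 n78500
theorem D163344 : act 7 n78500 = n163344 := rfl
def n163345 : Q := act 0 n78501
theorem D163345 : act 0 n78501 = n163345 := rfl
def n163346 : Q := act 1 n78501
theorem D163346 : act 1 n78501 = n163346 := rfl
def n163347 : Q := act 5 n78501
theorem D163347 : act 5 n78501 = n163347 := rfl
theorem F257649 : act 2 n163347 = n78504 := d2_1 D163347 (iv5 D78504) (iv2 F119688)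
def n163348 : Q := act 7 n78501
theorem D163348 : act 7 n78501 = n163348 := rfl
theorem F257650 : act 2 n163348 = n78505 := d4_1 D163348 (iv7 D78505) (iv2 F119688)
theorem F257652 : act 1 n78503 = n163348 := d15_1 D78503 (iv7 D163348) F119688
theorem F257653 : act 1 n163348 = n78502 := d15_0 (iv0 D78502) D78505 (iv2 F257650)
def n163349 : Q := act 2 n78502
theorem D163349 : act 2 n78502 = n163349 := rfl
theorem F257654 : act 7 n78503 = n163349 := d15_2 (iv0 D78502) D78503 (iv2 D163349)
def n163350 : Q := act 3 n78502
theorem D163350 : act 3 n78502 = n163350 := rfl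
def n163351 : Q := act 4 n78502
theorem D163351 : act 4 n78502 = n163351 := rfl
def n163352 : Q := act 5 n78502
theorem D163352 : act 5 n78502 = n163352 := rfl
def n163353 : Q := act 6 n78502
theorem D163353 : act 6 n78502 = n163353 := rfl
def n163354 : Q := act 7 n78502
theorem D163354 : act 7 n78502 = n163354 := rfl
theorem F257655 : act 2 n163354 = n78503 := d4_1 D163354 F257654 (iv2 D163349)
def n163355 : Q := act 3 n78503
theorem D163355 : act 3 n78503 = n163355 := rfl
def n163356 : Q := act 4 n78503
theorem D163356 : act 4 n78503 = n163356 := rfl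
def n163357 : Q := act 5 n78503
theorem D163357 : act 5 n78503 = n163357 := rfl
def n163358 : Q := act 6 n78503
theorem D163358 : act 6 n78503 = n163358 := rfl
def n163363 : Q := act 0 n78506
theorem D163363 : act 0 n78506 = n163363 := rfl
def n163364 : Q := act 1 n78506
theorem D163364 : act 1 n78506 = n163364 := rfl
def n163365 : Q := act 2 n78506
theorem D163365 : act 2 n78506 = n163365 := rfl
theorem F257658 : act 6 n163365 = n125308 := d3_2 (iv6 F119691) D163365 (iv2 D125308)
def n163366 : Q := act 4 n78506
theorem D163366 : act 4 n78506 = n163366 := rfl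
theorem F257659 : act 3 n163366 = n92213 := d5_1 D163366 (iv4 D92213) (iv3 D43114) (iv4 F92675) D78506
theorem F257660 : act 6 n163366 = n125304 := d10_2 (iv6 F119691) D163366 F201537
def n163370 : Q := act 0 n78508
theorem D163370 : act 0 n78508 = n163370 := rfl
def n163371 : Q := act 1 n78508
theorem D163371 : act 1 n78508 = n163371 := rfl
def n163372 : Q := act 2 n78508
theorem D163372 : act 2 n78508 = n163372 := rfl
def n163373 : Q := act 4 n78508
theorem D163373 : act 4 n78508 = n163373 := rfl
theorem F257663 : act 3 n163373 = n92214 := d5_1 D163373 (iv4 D92214) (iv3 D43116) (iv4 F92679) D78508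
def n163374 : Q := act 5 n78508
theorem D163374 : act 5 n78508 = n163374 := rfl
theorem F257664 : act 3 n163374 = n78509 := d6_1 D163374 (iv5 D78509) D78508
def n163375 : Q := act 6 n78508
theorem D163375 : act 6 n78508 = n163375 := rfl
theorem F257665 : act 3 n163375 = n78510 := d7_1 D163375 (iv6 D78510) D78508
def n163378 : Q := act 5 n78510
theorem D163378 : act 5 n78510 = n163378 := rfl
theorem F257667 : act 7 n163378 = n125295 := d13_2 (iv7 F119695) D163378 (iv5 D125295)
def n163379 : Q := act 3 n78511
theorem D163379 : act 3 n78511 = n163379 := rfl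
def n163381 : Q := act 6 n78511
theorem D163381 : act 6 n78511 = n163381 := rfl
def n163382 : Q := act 3 n78512
theorem D163382 : act 3 n78512 = n163382 := rfl
theorem F257671 : act 5 n163382 = n160505 := d6_2 (iv5 F119696) D163382 F253549
def n163383 : Q := act 4 n78512
theorem D163383 : act 4 n78512 = n163383 := rfl
def n163396 : Q := act 2 n78520
theorem D163396 : act 2 n78520 = n163396 := rfl
def n163399 : Q := act 6 n78521
theorem D163399 : act 6 n78521 = n163399 := rfl
theorem F257685 : act 5 n163399 = n86123 := d12_1 D163399 (iv6 D86123) F61340 F61336 D78521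
def n163401 : Q := act 0 n78529
theorem D163401 : act 0 n78529 = n163401 := rfl
def n163403 : Q := act 2 n78529
theorem D163403 : act 2 n78529 = n163403 := rfl
def n163404 : Q := act 5 n78529
theorem D163404 : act 5 n78529 = n163404 := rfl
def n163405 : Q := act 6 n78529
theorem D163405 : act 6 n78529 = n163405 := rfl
theorem F257688 : act 3 n163405 = n78531 := d7_1 D163405 (iv6 D78531) D78529
def n163408 : Q := act 5 n78531
theorem D163408 : act 5 n78531 = n163408 := rfl
theorem F257690 : act 0 n163408 = n86247 := d17_2 (iv1 F141824) D163408 (iv5 D86247) (iv4 D39914) D39915 F115682 F115680 (iv0 F56541) (iv4 F57144)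
def n163410 : Q := act 0 n78533
theorem D163410 : act 0 n78533 = n163410 := rfl
def n163411 : Q := act 1 n78533
theorem D163411 : act 1 n78533 = n163411 := rfl
def n163412 : Q := act 2 n78533
theorem D163412 : act 2 n78533 = n163412 := rfl
def n163413 : Q := act 5 n78533
theorem D163413 : act 5 n78533 = n163413 := rfl
theorem F257693 : act 3 n163413 = n78534 := d6_1 D163413 (iv5 D78534) D78533
def n163414 : Q := act 6 n78533
theorem D163414 : act 6 n78533 = n163414 := rfl
theorem F257694 : act 3 n163414 = n78535 := d7_1 D163414 (iv6 D78535) D78533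
def n163415 : Q := act 6 n78534
theorem D163415 : act 6 n78534 = n163415 := rfl
theorem F257695 : act 4 n163415 = n88432 := d10_1 D163415 (iv6 D88432) (iv4 F119712)
def n163417 : Q := act 1 n78535
theorem D163417 : act 1 n78535 = n163417 := rfl
def n163419 : Q := act 4 n78537
theorem D163419 : act 4 n78537 = n163419 := rfl
theorem F257696 : act 2 n163419 = n78752 := d1_1 D163419 (iv4 D78752) (iv2 F255038)
theorem F257697 : act 0 n163419 = n78605 := d20_1 D163419 F119777 F67263 D76902 F255020 D158079 F250152 (iv4 F141943) F141942 (iv1 F122708)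
def n163420 : Q := act 5 n78537
theorem D163420 : act 5 n78537 = n163420 := rfl
theorem F257700 : act 0 n163420 = n79973 := d21_1 D163420 F123916 (iv6 F123915) (iv1 D80587) F57665 (iv5 D26934) (iv1 F118790) (iv5 F60979) (iv6 F122706) (iv1 F122708)
theorem F257701 : act 6 n163420 = n79945 := d21_3 (iv5 F122705) (iv1 F122708) D163420 (iv1 F122707) (iv6 D78275) (iv5 D35685) (iv1 D17297) D17300 D35698 D78316
theorem F257702 : act 0 n163031 = n163420 := d21_10 (iv5 D163420) (iv1 D78537) (iv5 F61202) (iv6 D40216) F30316 D20253 F32124 D37094 F124959 D163031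
def n163421 : Q := act 6 n78537
theorem D163421 : act 6 n78537 = n163421 := rfl
theorem F257703 : act 2 n163421 = n78754 := d3_1 D163421 (iv6 D78754) (iv2 F255038)
theorem F257704 : act 3 n163421 = n162655 := d7_1 D163421 F256894 (iv3 F255039)
theorem F257705 : act 0 n163421 = n121692 := d21_4 (iv5 F257389) F257702 (iv5 D163420) D163421 (iv6 D121692) (iv5 F118545) (iv1 F119051) (iv5 D36383) D36384 D79869
theorem F257706 : act 0 n78620 = n163421 := d21_4 (iv5 D36774) D36772 (iv5 F119514) D78620 (iv6 D163421) D163420 F257700 F123916 (iv6 F123915) (iv1 D80587)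
def n163422 : Q := act 0 n78538
theorem D163422 : act 0 n78538 = n163422 := rfl
def n163423 : Q := act 1 n78538
theorem D163423 : act 1 n78538 = n163423 := rfl
def n163424 : Q := act 2 n78538
theorem D163424 : act 2 n78538 = n163424 := rfl
theorem F257707 : act 3 n163424 = n78553 := d0_2 D78538 D163424 (iv2 D78553) (iv3 D35786) (iv2 F56449)
def n163425 : Q := act 6 n78538
theorem D163425 : act 6 n78538 = n163425 := rfl
theorem F257708 : act 3 n163425 = n78539 := d7_1 D163425 (iv6 D78539) D78538
def n163426 : Q := act 0 n78539
theorem D163426 : act 0 n78539 = n163426 := rfl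
theorem F257709 : act 2 n78559 = n163426 := d15_3 (iv0 D163426) F257221 (iv7 F257219)
theorem F257710 : act 4 n163426 = n121279 := d1_2 (iv4 F256404) F257709 F248663
theorem F257711 : act 7 n163426 = n78560 := d4_2 (iv7 F257219) F257709 (iv2 F257217)
theorem F257712 : act 1 n78562 = n163426 := d15_1 (iv0 F257220) F257711 (iv2 F257217)
def n163427 : Q := act 5 n78539
theorem D163427 : act 5 n78539 = n163427 := rfl
theorem F257713 : act 2 n163427 = n78561 := d2_1 D163427 (iv5 D78561) (iv2 F119714)
def n163428 : Q := act 7 n78539
theorem D163428 : act 7 n78539 = n163428 := rfl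
theorem F257714 : act 2 n163428 = n78562 := d4_1 D163428 (iv7 D78562) (iv2 F119714)
theorem F257715 : act 4 n163428 = n78541 := d11_1 D163428 (iv7 D78541) (iv4 F119715)
theorem F257716 : act 1 n78560 = n163428 := d15_1 D78560 (iv7 D163428) F119714
def n163429 : Q := act 4 n78540
theorem D163429 : act 4 n78540 = n163429 := rfl
theorem F257718 : act 2 n163429 = n78564 := d1_1 D163429 (iv4 D78564) F119717
theorem F257719 : act 6 n163429 = n80486 := d10_2 (iv6 F119716) D163429 (iv4 D80486)
theorem F257720 : act 7 n163429 = n78567 := d11_2 F119718 D163429 (iv4 D78567)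
theorem F257721 : act 1 n163429 = n157770 := d15_0 (iv0 F257208) (iv7 F257207) (iv2 F257718)
def n163430 : Q := act 0 n78542
theorem D163430 : act 0 n78542 = n163430 := rfl
def n163431 : Q := act 1 n78542
theorem D163431 : act 1 n78542 = n163431 := rfl
def n163432 : Q := act 2 n78542
theorem D163432 : act 2 n78542 = n163432 := rfl
theorem F257722 : act 4 n163432 = n102815 := d1_2 (iv4 F119726) D163432 (iv2 D102815)
def n163433 : Q := act 5 n78542
theorem D163433 : act 5 n78542 = n163433 := rfl
theorem F257723 : act 3 n163433 = n78543 := d6_1 D163433 (iv5 D78543) D78542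
def n163434 : Q := act 6 n78542
theorem D163434 : act 6 n78542 = n163434 := rfl
theorem F257724 : act 3 n163434 = n78544 := d7_1 D163434 (iv6 D78544) D78542
def n163435 : Q := act 6 n78543
theorem D163435 : act 6 n78543 = n163435 := rfl
theorem F257726 : act 4 n163435 = n90055 := d10_1 D163435 (iv6 D90055) (iv4 F119727)
def n163436 : Q := act 0 n78544
theorem D163436 : act 0 n78544 = n163436 := rfl
theorem F257727 : act 4 n163436 = n84493 := d20_2 (iv4 F119728) D163436 F129619 F76355 F76352 (iv4 F92083) (iv1 F92088) (iv4 F60703) D56270 F119056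
theorem F257728 : act 6 n84492 = n163436 := d10_0 F257727 (iv6 D84493) D84492
def n163437 : Q := act 1 n78544
theorem D163437 : act 1 n78544 = n163437 := rfl
def n163438 : Q := act 5 n78544
theorem D163438 : act 5 n78544 = n163438 := rfl
def n163439 : Q := act 0 n78545
theorem D163439 : act 0 n78545 = n163439 := rfl
def n163440 : Q := act 1 n78545
theorem D163440 : act 1 n78545 = n163440 := rfl
def n163441 : Q := act 2 n78545
theorem D163441 : act 2 n78545 = n163441 := rfl
def n163442 : Q := act 5 n78545
theorem D163442 : act 5 n78545 = n163442 := rfl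
theorem F257729 : act 3 n163442 = n78546 := d6_1 D163442 (iv5 D78546) D78545
def n163443 : Q := act 6 n78545
theorem D163443 : act 6 n78545 = n163443 := rfl
theorem F257730 : act 3 n163443 = n78547 := d7_1 D163443 (iv6 D78547) D78545
def n163444 : Q := act 6 n78546
theorem D163444 : act 6 n78546 = n163444 := rfl
theorem F257731 : act 4 n163444 = n86897 := d10_1 D163444 (iv6 D86897) (iv4 F119729)
def n163445 : Q := act 5 n78547
theorem D163445 : act 5 n78547 = n163445 := rfl
def n163446 : Q := act 0 n78548
theorem D163446 : act 0 n78548 = n163446 := rfl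
def n163447 : Q := act 1 n78548
theorem D163447 : act 1 n78548 = n163447 := rfl
def n163448 : Q := act 2 n78548
theorem D163448 : act 2 n78548 = n163448 := rfl
theorem F257732 : act 4 n163448 = n124235 := d1_2 (iv4 F119733) D163448 (iv2 D124235)
def n163449 : Q := act 5 n78548
theorem D163449 : act 5 n78548 = n163449 := rfl
theorem F257733 : act 3 n163449 = n78549 := d6_1 D163449 (iv5 D78549) D78548
def n163450 : Q := act 6 n78548
theorem D163450 : act 6 n78548 = n163450 := rfl
theorem F257734 : act 3 n163450 = n78550 := d7_1 D163450 (iv6 D78550) D78548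
theorem F257735 : act 4 n163450 = n123041 := d10_1 D163450 F197190 (iv4 F119733)
def n163451 : Q := act 6 n78549
theorem D163451 : act 6 n78549 = n163451 := rfl
theorem F257736 : act 4 n163451 = n90006 := d10_1 D163451 (iv6 D90006) (iv4 F119734)
def n163452 : Q := act 5 n78550
theorem D163452 : act 5 n78550 = n163452 := rfl
theorem F257737 : act 0 n163452 = n79741 := d17_2 F132760 D163452 (iv5 D79741) (iv4 D36315) (iv5 D17534) (iv0 F118103) D18953 D40114 D86538
def n163453 : Q := act 3 n78551
theorem D163453 : act 3 n78551 = n163453 := rfl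
def n163454 : Q := act 4 n78551
theorem D163454 : act 4 n78551 = n163454 := rfl
theorem F257738 : act 2 n163454 = n78849 := d1_1 D163454 F140955 F254430
theorem F257739 : act 7 n163454 = n80054 := d11_2 F254431 D163454 F140954
theorem F257740 : act 5 n163454 = n78670 := d18_4 (iv1 D35793) (iv4 F56455) D78551 D163454 F122821 (iv0 D80010) F57236 D36446 F250818
def n163455 : Q := act 5 n78551
theorem D163455 : act 5 n78551 = n163455 := rfl
theorem F257741 : act 1 n163455 = n79960 := d17_6 (iv1 F254423) (iv5 D78674) D78670 (iv5 F257740) (iv4 D163454) D163455 (iv5 D79960) D79958 (iv4 F122740)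
def n163456 : Q := act 6 n78551
theorem D163456 : act 6 n78551 = n163456 := rfl
def n163457 : Q := act 3 n78552
theorem D163457 : act 3 n78552 = n163457 := rfl
def n163458 : Q := act 5 n78552
theorem D163458 : act 5 n78552 = n163458 := rfl
theorem F257742 : act 0 n163458 = n79960 := d17_2 (iv1 F140960) D163458 (iv5 D79960) F57188 (iv5 F28609) D36446 F250818 F88408 (iv4 F140956)
def n163459 : Q := act 6 n78552
theorem D163459 : act 6 n78552 = n163459 := rfl
def n163460 : Q := act 5 n78553
theorem D163460 : act 5 n78553 = n163460 := rfl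
theorem F257743 : act 2 n163460 = n78554 := d2_1 D163460 (iv5 D78554) D78553
def n163461 : Q := act 6 n78553
theorem D163461 : act 6 n78553 = n163461 := rfl
theorem F257744 : act 2 n163461 = n78555 := d3_1 D163461 (iv6 D78555) D78553
theorem F257745 : act 4 n163461 = n78579 := d10_1 D163461 (iv6 D78579) (iv4 F119738)
def n163462 : Q := act 0 n78554
theorem D163462 : act 0 n78554 = n163462 := rfl
def n163463 : Q := act 1 n78554
theorem D163463 : act 1 n78554 = n163463 := rfl
theorem F257746 : act 5 n163463 = n78607 := d17_7 (iv1 F57200) F250813 (iv1 D55905) F43514 (iv4 F56455) D78554 D163463 F122745 F122742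
def n163464 : Q := act 4 n78554
theorem D163464 : act 4 n78554 = n163464 := rfl
def n163465 : Q := act 6 n78554
theorem D163465 : act 6 n78554 = n163465 := rfl
theorem F257747 : act 3 n163465 = n78558 := d7_1 D163465 (iv6 D78558) (iv3 F119739)
def n163466 : Q := act 0 n78555
theorem D163466 : act 0 n78555 = n163466 := rfl
def n163467 : Q := act 1 n78555
theorem D163467 : act 1 n78555 = n163467 := rfl
def n163468 : Q := act 5 n78555
theorem D163468 : act 5 n78555 = n163468 := rfl
theorem F257748 : act 3 n163468 = n78561 := d6_1 D163468 (iv5 D78561) (iv3 F119740)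
def n163469 : Q := act 7 n78555
theorem D163469 : act 7 n78555 = n163469 := rfl
theorem F257749 : act 3 n163469 = n78562 := d8_1 D163469 (iv7 D78562) (iv3 F119740)
theorem F257750 : act 4 n163469 = n78583 := d11_1 D163469 (iv7 D78583) (iv4 F119741)
def n163470 : Q := act 3 n78556
theorem D163470 : act 3 n78556 = n163470 := rfl
theorem F257751 : act 5 n163470 = n78602 := d6_2 (iv5 F119742) D163470 (iv3 D78602)
def n163471 : Q := act 6 n78556
theorem D163471 : act 6 n78556 = n163471 := rfl
theorem F257752 : act 4 n163471 = n88413 := d10_1 D163471 (iv6 D88413) (iv4 F119743)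
def n163472 : Q := act 3 n78557
theorem D163472 : act 3 n78557 = n163472 := rfl
theorem F257753 : act 5 n163472 = n78604 := d6_2 (iv5 F119746) D163472 (iv3 D78604)
def n163473 : Q := act 6 n78557
theorem D163473 : act 6 n78557 = n163473 := rfl
theorem F257754 : act 4 n163473 = n86881 := d10_1 D163473 (iv6 D86881) F119747
def n163474 : Q := act 0 n78558
theorem D163474 : act 0 n78558 = n163474 := rfl
def n163475 : Q := act 1 n78558
theorem D163475 : act 1 n78558 = n163475 := rfl
def n163476 : Q := act 5 n78558
theorem D163476 : act 5 n78558 = n163476 := rfl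
theorem F257755 : act 6 n163476 = n78561 := d12_2 D78558 D163476 (iv5 D78561) (iv6 D35788) D35787
def n163477 : Q := act 7 n78558
theorem D163477 : act 7 n78558 = n163477 := rfl
def n163478 : Q := act 3 n78559
theorem D163478 : act 3 n78559 = n163478 := rfl
def n163479 : Q := act 5 n78559
theorem D163479 : act 5 n78559 = n163479 := rfl
def n163480 : Q := act 3 n78560
theorem D163480 : act 3 n78560 = n163480 := rfl
def n163481 : Q := act 5 n78560
theorem D163481 : act 5 n78560 = n163481 := rfl
def n163482 : Q := act 0 n78561
theorem D163482 : act 0 n78561 = n163482 := rfl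
def n163483 : Q := act 1 n78561
theorem D163483 : act 1 n78561 = n163483 := rfl
def n163484 : Q := act 4 n78561
theorem D163484 : act 4 n78561 = n163484 := rfl
def n163485 : Q := act 7 n78561
theorem D163485 : act 7 n78561 = n163485 := rfl
theorem F257756 : act 5 n163485 = n78562 := d13_1 D163485 (iv7 D78562) D78561
def n163486 : Q := act 4 n78563
theorem D163486 : act 4 n78563 = n163486 := rfl
theorem F257757 : act 2 n163486 = n78838 := d1_1 D163486 F254712 (iv2 F135988)
theorem F257758 : act 6 n163486 = n98208 := d10_2 (iv6 F119749) D163486 (iv4 D98208)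
theorem F257760 : act 0 n163486 = n78841 := d20_7 (iv4 F114145) (iv1 D35797) F28277 (iv3 F28275) D35789 D78563 D163486 F120007 F56554 (iv1 F43554)
theorem F257761 : act 0 n78827 = n163486 := d20_7 (iv4 F257715) (iv1 F257716) (iv4 F248668) F248666 (iv1 D121265) F88525 (iv4 F119988) (iv4 D163486) (iv3 D78563) (iv1 F119725)
theorem F257762 : act 0 n121305 = n86133 := d20_7 D163486 F257760 F120007 F56554 (iv1 F43554) D55962 D121305 F132089 F122333 F119750
def n163488 : Q := act 0 n78564
theorem D163488 : act 0 n78564 = n163488 := rfl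
theorem F257766 : act 4 n163488 = n157773 := d20_2 D78564 D163488 F248670 (iv1 F117092) (iv3 D55962) (iv4 F114145) (iv1 D35797) F28277 (iv3 F28275) D35789
theorem F257767 : act 1 n78567 = n163488 := d15_0 (iv0 D163488) F257207 F257205
theorem E24006 : n157905 = n157881 := (c20_2 F135925 D157905 (iv4 D157881) (iv3 F120026) (iv1 F120030) (iv3 F248670) (iv4 F257766) (iv1 F257767) (iv4 D78567) D78566 F192989)
theorem F257769 : act 1 n157881 = n75225 := (sb E24006 (iv0 D157905))
theorem E24007 : n157906 = n78876 := (c15_2 F257769 D157906 (iv7 F193423) (iv2 F248797))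
theorem F257770 : act 0 n78876 = n75225 := (sb E24007 (iv1 D157906))
def n163489 : Q := act 3 n78564
theorem D163489 : act 3 n78564 = n163489 := rfl
def n163490 : Q := act 5 n78564
theorem D163490 : act 5 n78564 = n163490 := rfl
def n163491 : Q := act 0 n78565
theorem D163491 : act 0 n78565 = n163491 := rfl
theorem F257771 : act 5 n163491 = n163421 := d21_2 D78565 D163491 (iv6 D163421) (iv1 D78537) (iv6 D35779) (iv5 D17337) (iv1 D8118) D8120 D17341 D35789
theorem F257772 : act 1 n78568 = n163491 := d15_0 (iv0 D163491) (iv7 F119796) F119794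
def n163492 : Q := act 1 n78565
theorem D163492 : act 1 n78565 = n163492 := rfl
theorem F257773 : act 1 n163492 = n78568 := d15_1 D163492 (iv7 F194209) F194207
def n163493 : Q := act 4 n78565
theorem D163493 : act 4 n78565 = n163493 := rfl
theorem F257774 : act 6 n163493 = n79735 := d10_2 (iv6 F119751) D163493 (iv4 D79735)
def n163494 : Q := act 4 n78566
theorem D163494 : act 4 n78566 = n163494 := rfl
theorem F257775 : act 2 n163494 = n157878 := d1_1 D163494 (iv4 F250606) F250604
theorem F257776 : act 7 n163494 = n157877 := d11_2 (iv7 F193993) D163494 F248795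
theorem F257777 : act 0 n157880 = n163494 := d20_1 (iv4 F248796) (iv4 D163494) (iv3 D78566) (iv1 D35790) F28275 (iv4 F28277) D35796 F114141 D55959 (iv1 F120045)
theorem F257778 : act 1 n86154 = n163494 := d15_0 (iv0 F257777) (iv7 D157880) (iv2 F132108)
def n163495 : Q := act 3 n78567
theorem D163495 : act 3 n78567 = n163495 := rfl
def n163496 : Q := act 5 n78567
theorem D163496 : act 5 n78567 = n163496 := rfl
def n163497 : Q := act 4 n78568
theorem D163497 : act 4 n78568 = n163497 := rfl
def n163498 : Q := act 0 n78570
theorem D163498 : act 0 n78570 = n163498 := rfl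
def n163499 : Q := act 1 n78570
theorem D163499 : act 1 n78570 = n163499 := rfl
theorem F257779 : act 3 n79681 = n163499 := d20_3 (iv4 F28519) D36283 D79681 (iv1 D163499) (iv3 D78570) D78571 F122857 (iv4 D80057) (iv3 D36454) (iv1 D17599)
def n163500 : Q := act 2 n78570
theorem D163500 : act 2 n78570 = n163500 := rfl
theorem F257780 : act 4 n163500 = n121269 := d1_2 (iv4 F119937) D163500 (iv2 F254248)
theorem F257781 : act 5 n163500 = n84319 := d2_2 (iv5 F250800) D163500 (iv2 F254215)
theorem F257782 : act 1 n125399 = n78624 := d17_8 (iv1 D76911) D76913 D160458 F254092 (iv4 F257780) F257781 (iv0 F254410) F248744 F119798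
theorem E24008 : n157969 = n121157 := ((c18_10 (iv1 D157969) D157971 (iv1 F254448) (iv4 D78855) (iv5 F254077) D58731 F201720 F201715 F257782 (iv5 F250809))).symm
theorem F257783 : act 0 n121157 = n75243 := (sb E24008 (iv1 D157969))
def n163501 : Q := act 6 n78570
theorem D163501 : act 6 n78570 = n163501 := rfl
theorem F257784 : act 3 n163501 = n78573 := d7_1 D163501 (iv6 D78573) D78570
def n163502 : Q := act 1 n78571
theorem D163502 : act 1 n78571 = n163502 := rfl
theorem F257785 : act 1 n163502 = n78576 := d15_1 D163502 F254256 F254253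
def n163503 : Q := act 3 n78571
theorem D163503 : act 3 n78571 = n163503 := rfl
def n163504 : Q := act 5 n78571
theorem D163504 : act 5 n78571 = n163504 := rfl
def n163505 : Q := act 6 n78571
theorem D163505 : act 6 n78571 = n163505 := rfl
theorem F257786 : act 4 n163505 = n78573 := d10_1 D163505 (iv6 D78573) D78571
def n163506 : Q := act 0 n78573
theorem D163506 : act 0 n78573 = n163506 := rfl
def n163507 : Q := act 1 n78573
theorem D163507 : act 1 n78573 = n163507 := rfl
def n163508 : Q := act 5 n78573
theorem D163508 : act 5 n78573 = n163508 := rfl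
def n163509 : Q := act 7 n78573
theorem D163509 : act 7 n78573 = n163509 := rfl
def n163510 : Q := act 2 n78575
theorem D163510 : act 2 n78575 = n163510 := rfl
def n163511 : Q := act 4 n78575
theorem D163511 : act 4 n78575 = n163511 := rfl
theorem F257787 : act 7 n163511 = n121763 := d11_2 (iv7 F254255) D163511 F194329
theorem F257789 : act 2 n163511 = n121764 := d15_3 F194330 F194334 (iv7 F257787)
theorem F257790 : act 4 n121764 = n163510 := d1_2 D163511 F257789 (iv2 D163510)
def n163512 : Q := act 6 n78575
theorem D163512 : act 6 n78575 = n163512 := rfl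
theorem F257791 : act 3 n163512 = n78578 := d7_1 D163512 (iv6 D78578) D78575
def n163513 : Q := act 3 n78576
theorem D163513 : act 3 n78576 = n163513 := rfl
def n163514 : Q := act 5 n78576
theorem D163514 : act 5 n78576 = n163514 := rfl
def n163515 : Q := act 6 n78576
theorem D163515 : act 6 n78576 = n163515 := rfl
theorem F257792 : act 4 n163515 = n78578 := d10_1 D163515 (iv6 D78578) D78576
def n163516 : Q := act 0 n78578
theorem D163516 : act 0 n78578 = n163516 := rfl
def n163517 : Q := act 1 n78578
theorem D163517 : act 1 n78578 = n163517 := rfl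
def n163519 : Q := act 7 n78578
theorem D163519 : act 7 n78578 = n163519 := rfl
def n163520 : Q := act 0 n78579
theorem D163520 : act 0 n78579 = n163520 := rfl
def n163521 : Q := act 1 n78579
theorem D163521 : act 1 n78579 = n163521 := rfl
theorem F257793 : act 1 n163521 = n78583 := d15_1 D163521 (iv7 D78583) (iv2 F119754)
def n163522 : Q := act 5 n78579
theorem D163522 : act 5 n78579 = n163522 := rfl
theorem F257794 : act 2 n163522 = n78582 := d2_1 D163522 (iv5 D78582) (iv2 F119754)
def n163523 : Q := act 7 n78579
theorem D163523 : act 7 n78579 = n163523 := rfl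
theorem F257795 : act 2 n163523 = n78583 := d4_1 D163523 (iv7 D78583) (iv2 F119754)
theorem F257796 : act 1 n78583 = n163520 := d15_0 (iv0 D163520) D163523 F257795
theorem F257797 : act 1 n78581 = n163523 := d15_1 D78581 (iv7 D163523) F119754
theorem F257798 : act 1 n163523 = n78580 := d15_0 (iv0 D78580) D78583 (iv2 F257795)
def n163524 : Q := act 2 n78580
theorem D163524 : act 2 n78580 = n163524 := rfl
theorem F257799 : act 7 n78581 = n163524 := d15_2 (iv0 D78580) D78581 (iv2 D163524)
def n163525 : Q := act 3 n78580
theorem D163525 : act 3 n78580 = n163525 := rfl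
def n163526 : Q := act 4 n78580
theorem D163526 : act 4 n78580 = n163526 := rfl
def n163527 : Q := act 5 n78580
theorem D163527 : act 5 n78580 = n163527 := rfl
def n163528 : Q := act 6 n78580
theorem D163528 : act 6 n78580 = n163528 := rfl
def n163529 : Q := act 7 n78580
theorem D163529 : act 7 n78580 = n163529 := rfl
theorem F257800 : act 2 n163529 = n78581 := d4_1 D163529 F257799 (iv2 D163524)
def n163530 : Q := act 3 n78581
theorem D163530 : act 3 n78581 = n163530 := rfl
def n163531 : Q := act 4 n78581
theorem D163531 : act 4 n78581 = n163531 := rfl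
def n163532 : Q := act 5 n78581
theorem D163532 : act 5 n78581 = n163532 := rfl
def n163533 : Q := act 6 n78581
theorem D163533 : act 6 n78581 = n163533 := rfl
def n163534 : Q := act 0 n78582
theorem D163534 : act 0 n78582 = n163534 := rfl
def n163535 : Q := act 1 n78582
theorem D163535 : act 1 n78582 = n163535 := rfl
def n163536 : Q := act 4 n78582
theorem D163536 : act 4 n78582 = n163536 := rfl
def n163537 : Q := act 7 n78582
theorem D163537 : act 7 n78582 = n163537 := rfl
theorem F257802 : act 5 n163537 = n78583 := d13_1 D163537 (iv7 D78583) D78582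
def n163538 : Q := act 0 n78584
theorem D163538 : act 0 n78584 = n163538 := rfl
def n163539 : Q := act 1 n78584
theorem D163539 : act 1 n78584 = n163539 := rfl
def n163540 : Q := act 2 n78584
theorem D163540 : act 2 n78584 = n163540 := rfl
theorem F257803 : act 6 n163540 = n159233 := d3_2 (iv6 F119757) D163540 (iv2 D159233)
def n163541 : Q := act 4 n78584
theorem D163541 : act 4 n78584 = n163541 := rfl
theorem F257804 : act 3 n163541 = n121303 := d5_1 D163541 (iv4 D121303) (iv3 D55959) (iv4 F114141) D78584
theorem F257805 : act 6 n163541 = n159229 := d10_2 (iv6 F119757) D163541 F250725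
def n163542 : Q := act 5 n78584
theorem D163542 : act 5 n78584 = n163542 := rfl
def n163544 : Q := act 1 n78585
theorem D163544 : act 1 n78585 = n163544 := rfl
theorem F257810 : act 5 n163544 = n125323 := d17_7 (iv1 F92710) (iv5 F92711) (iv1 F88564) (iv5 D55961) (iv4 F114141) D78585 D163544 F201574 (iv4 D78873)
def n163547 : Q := act 0 n78586
theorem D163547 : act 0 n78586 = n163547 := rfl
def n163548 : Q := act 1 n78586
theorem D163548 : act 1 n78586 = n163548 := rfl
def n163549 : Q := act 2 n78586
theorem D163549 : act 2 n78586 = n163549 := rfl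
def n163550 : Q := act 4 n78586
theorem D163550 : act 4 n78586 = n163550 := rfl
theorem F257812 : act 3 n163550 = n121305 := d5_1 D163550 (iv4 D121305) (iv3 D55962) (iv4 F114145) D78586
def n163551 : Q := act 5 n78586
theorem D163551 : act 5 n78586 = n163551 := rfl
def n163553 : Q := act 6 n78587
theorem D163553 : act 6 n78587 = n163553 := rfl
theorem F257814 : act 5 n163553 = n163008 := d12_1 D163553 (iv6 D163008) F119589 (iv6 F114146) D78587
def n163556 : Q := act 6 n78588
theorem D163556 : act 6 n78588 = n163556 := rfl
def n163566 : Q := act 0 n78592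
theorem D163566 : act 0 n78592 = n163566 := rfl
def n163567 : Q := act 1 n78592
theorem D163567 : act 1 n78592 = n163567 := rfl
def n163568 : Q := act 2 n78592
theorem D163568 : act 2 n78592 = n163568 := rfl
theorem F257830 : act 6 n163568 = n160939 := d3_2 (iv6 F119760) D163568 (iv2 D160939)
def n163569 : Q := act 5 n78592
theorem D163569 : act 5 n78592 = n163569 := rfl
def n163574 : Q := act 3 n78594
theorem D163574 : act 3 n78594 = n163574 := rfl
theorem F257838 : act 6 n163574 = n79777 := d7_2 (iv6 F119761) D163574 (iv3 D79777)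
theorem F257839 : act 7 n163574 = n86096 := d8_2 (iv7 F119762) D163574 F132049
def n163575 : Q := act 3 n78595
theorem D163575 : act 3 n78595 = n163575 := rfl
theorem F257840 : act 4 n163575 = n78596 := d5_2 D78595 D163575 (iv3 D78596) (iv4 D35804) D35803
def n163577 : Q := act 0 n78596
theorem D163577 : act 0 n78596 = n163577 := rfl
def n163578 : Q := act 1 n78596
theorem D163578 : act 1 n78596 = n163578 := rfl
def n163579 : Q := act 2 n78596
theorem D163579 : act 2 n78596 = n163579 := rfl
def n163580 : Q := act 5 n78596
theorem D163580 : act 5 n78596 = n163580 := rfl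
def n163583 : Q := act 0 n78598
theorem D163583 : act 0 n78598 = n163583 := rfl
theorem F257844 : act 3 n163583 = n162340 := d20_5 (iv4 D36414) (iv1 F28572) D35805 D78598 D163583 (iv4 D162340) (iv1 D77984) D77986 (iv3 F122218) F122220
def n163584 : Q := act 1 n78598
theorem D163584 : act 1 n78598 = n163584 := rfl
def n163585 : Q := act 2 n78598
theorem D163585 : act 2 n78598 = n163585 := rfl
theorem F257845 : act 3 n163585 = n78608 := d0_2 D78598 D163585 (iv2 D78608) (iv3 D35809) (iv2 F56464)
def n163586 : Q := act 6 n78598
theorem D163586 : act 6 n78598 = n163586 := rfl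
theorem F257846 : act 3 n163586 = n78599 := d7_1 D163586 (iv6 D78599) D78598
theorem F257847 : act 4 n163586 = n162554 := d10_1 D163586 F256789 F122779
def n163587 : Q := act 1 n78599
theorem D163587 : act 1 n78599 = n163587 := rfl
theorem F257848 : act 1 n163587 = n78617 := d15_1 D163587 (iv7 D78617) (iv2 F119763)
theorem F257849 : act 7 n163587 = n78614 := d15_2 (iv0 F198699) D163587 (iv2 F198696)
theorem F257850 : act 4 n163587 = n87308 := d18_7 (iv1 F71117) F132364 (iv1 D86365) F60844 (iv5 F56467) (iv4 F119764) D163587 F148937 F148934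
theorem F257851 : act 2 n78615 = n163587 := d1_3 F257850 F149099 F148927
def n163588 : Q := act 5 n78599
theorem D163588 : act 5 n78599 = n163588 := rfl
def n163589 : Q := act 7 n78599
theorem D163589 : act 7 n78599 = n163589 := rfl
theorem F257855 : act 4 n163589 = n78601 := d11_1 D163589 (iv7 D78601) (iv4 F119764)
theorem F257856 : act 1 n78615 = n163589 := d15_1 D78615 (iv7 D163589) F119763
def n163590 : Q := act 4 n78600
theorem D163590 : act 4 n78600 = n163590 := rfl
theorem F257858 : act 2 n163590 = n78619 := d1_1 D163590 (iv4 D78619) F119766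
theorem F257859 : act 6 n163590 = n163497 := d10_2 (iv6 F119765) D163590 (iv4 D163497)
theorem F257860 : act 7 n163590 = n78622 := d11_2 (iv7 F119767) D163590 (iv4 D78622)
theorem F257861 : act 0 n96650 = n163590 := d20_7 (iv4 F201551) (iv1 F201553) (iv4 D81890) F117267 (iv1 D45157) (iv3 F71111) D96650 (iv4 D163590) (iv3 F195509) (iv1 F195516)
def n163591 : Q := act 0 n78602
theorem D163591 : act 0 n78602 = n163591 := rfl
def n163592 : Q := act 1 n78602
theorem D163592 : act 1 n78602 = n163592 := rfl
def n163593 : Q := act 2 n78602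
theorem D163593 : act 2 n78602 = n163593 := rfl
def n163594 : Q := act 0 n78604
theorem D163594 : act 0 n78604 = n163594 := rfl
def n163595 : Q := act 1 n78604
theorem D163595 : act 1 n78604 = n163595 := rfl
def n163596 : Q := act 2 n78604
theorem D163596 : act 2 n78604 = n163596 := rfl
theorem F257862 : act 4 n163596 = n160417 := d1_2 (iv4 F119776) D163596 (iv2 D160417)
def n163597 : Q := act 6 n78604
theorem D163597 : act 6 n78604 = n163597 := rfl
theorem F257863 : act 3 n163597 = n78605 := d7_1 D163597 (iv6 D78605) D78604
def n163599 : Q := act 3 n78606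
theorem D163599 : act 3 n78606 = n163599 := rfl
def n163600 : Q := act 5 n78606
theorem D163600 : act 5 n78606 = n163600 := rfl
def n163601 : Q := act 6 n78606
theorem D163601 : act 6 n78606 = n163601 := rfl
def n163602 : Q := act 3 n78607
theorem D163602 : act 3 n78607 = n163602 := rfl
theorem F257865 : act 4 n163602 = n159306 := d5_2 F119778 D163602 (iv3 D159306) (iv4 D76209) D76208
def n163603 : Q := act 6 n78607
theorem D163603 : act 6 n78607 = n163603 := rfl
theorem F257866 : act 4 n163603 = n159302 := d10_1 D163603 (iv6 D159302) F119778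
def n163604 : Q := act 5 n78608
theorem D163604 : act 5 n78608 = n163604 := rfl
theorem F257867 : act 2 n163604 = n78609 := d2_1 D163604 (iv5 D78609) D78608
theorem F257868 : act 0 n163604 = n163458 := d17_2 (iv1 F122739) D163604 (iv5 D163458) (iv4 F141802) F250804 D160564 F253648 F254294 F254299
theorem F257869 : act 1 n163604 = n163455 := d17_6 D35792 (iv5 F250801) (iv1 F57239) (iv5 F56474) (iv4 F119779) D163604 (iv5 D163455) (iv0 D78551) F56455
def n163605 : Q := act 6 n78608
theorem D163605 : act 6 n78608 = n163605 := rfl
theorem F257870 : act 2 n163605 = n78610 := d3_1 D163605 (iv6 D78610) D78608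
theorem F257871 : act 4 n163605 = n78633 := d10_1 D163605 (iv6 D78633) (iv4 F119779)
def n163606 : Q := act 0 n78609
theorem D163606 : act 0 n78609 = n163606 := rfl
theorem F257872 : act 5 n163606 = n91688 := d17_3 (iv1 D78607) D78609 D163606 (iv4 F140954) (iv5 F254341) (iv0 F254381) F254383 F254267 F119778
theorem F257873 : act 2 n163458 = n163606 := d2_3 F257872 (iv2 F254425) D163458
theorem F257874 : act 7 n163455 = n163606 := d13_0 F257872 F254431 D163455
def n163607 : Q := act 1 n78609
theorem D163607 : act 1 n78609 = n163607 := rfl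
theorem F257875 : act 7 n163607 = n163458 := d15_2 (iv0 D163606) D163607 F257873
theorem F257876 : act 5 n163607 = n91689 := d17_7 (iv1 F88407) F254065 (iv1 D35267) (iv5 F28283) (iv4 F56470) D78609 D163607 F140959 F119738
theorem F257877 : act 2 n163455 = n163607 := d2_3 F257876 F254430 D163455
def n163608 : Q := act 4 n78609
theorem D163608 : act 4 n78609 = n163608 := rfl
def n163609 : Q := act 6 n78609
theorem D163609 : act 6 n78609 = n163609 := rfl
theorem F257878 : act 3 n163609 = n78613 := d7_1 D163609 (iv6 D78613) (iv3 F119780)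
def n163610 : Q := act 0 n78610
theorem D163610 : act 0 n78610 = n163610 := rfl
def n163611 : Q := act 1 n78610
theorem D163611 : act 1 n78610 = n163611 := rfl
def n163612 : Q := act 5 n78610
theorem D163612 : act 5 n78610 = n163612 := rfl
theorem F257879 : act 3 n163612 = n78616 := d6_1 D163612 (iv5 D78616) (iv3 F119781)
def n163613 : Q := act 7 n78610
theorem D163613 : act 7 n78610 = n163613 := rfl
theorem F257880 : act 3 n163613 = n78617 := d8_1 D163613 (iv7 D78617) (iv3 F119781)
theorem F257881 : act 4 n163613 = n78637 := d11_1 D163613 (iv7 D78637) (iv4 F119782)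
def n163614 : Q := act 3 n78611
theorem D163614 : act 3 n78611 = n163614 := rfl
theorem F257882 : act 5 n163614 = n88378 := d6_2 (iv5 F119783) D163614 (iv3 D88378)
theorem F257883 : act 7 n163614 = n163442 := d8_2 F119787 D163614 F257729
def n163615 : Q := act 6 n78611
theorem D163615 : act 6 n78611 = n163615 := rfl
theorem F257884 : act 2 n163615 = n163451 := d3_1 D163615 (iv6 D163451) F119786
def n163616 : Q := act 3 n78612
theorem D163616 : act 3 n78612 = n163616 := rfl
theorem F257886 : act 5 n163616 = n88391 := d6_2 (iv5 F119790) D163616 (iv3 D88391)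
theorem F257887 : act 7 n163616 = n163449 := d8_2 (iv7 F119789) D163616 F257733
theorem F257888 : act 4 n158050 = n163616 := d19_2 D75286 D158050 (iv3 D163616) (iv1 D78612) (iv5 D35810) (iv4 D17348) (iv3 D8123) (iv1 D3658) (iv5 D1605) F1631 (iv3 F1376) (iv1 F2876) F2878 D1612 D3664 (iv1 F17500) D7811 D16724 D34470
def n163617 : Q := act 6 n78612
theorem D163617 : act 6 n78612 = n163617 := rfl
theorem F257889 : act 2 n163617 = n163444 := d3_1 D163617 (iv6 D163444) F119791
def n163618 : Q := act 0 n78613
theorem D163618 : act 0 n78613 = n163618 := rfl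
def n163619 : Q := act 1 n78613
theorem D163619 : act 1 n78613 = n163619 := rfl
def n163620 : Q := act 5 n78613
theorem D163620 : act 5 n78613 = n163620 := rfl
theorem F257891 : act 6 n163620 = n78616 := d12_2 D78613 D163620 (iv5 D78616) (iv6 D35811) D35810
def n163621 : Q := act 7 n78613
theorem D163621 : act 7 n78613 = n163621 := rfl
def n163622 : Q := act 3 n78614
theorem D163622 : act 3 n78614 = n163622 := rfl
def n163623 : Q := act 5 n78614
theorem D163623 : act 5 n78614 = n163623 := rfl
def n163624 : Q := act 6 n78614
theorem D163624 : act 6 n78614 = n163624 := rfl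
def n163625 : Q := act 3 n78615
theorem D163625 : act 3 n78615 = n163625 := rfl
def n163626 : Q := act 5 n78615
theorem D163626 : act 5 n78615 = n163626 := rfl
def n163627 : Q := act 0 n78616
theorem D163627 : act 0 n78616 = n163627 := rfl
def n163628 : Q := act 1 n78616
theorem D163628 : act 1 n78616 = n163628 := rfl
def n163629 : Q := act 4 n78616
theorem D163629 : act 4 n78616 = n163629 := rfl
def n163630 : Q := act 7 n78616
theorem D163630 : act 7 n78616 = n163630 := rfl
theorem F257892 : act 5 n163630 = n78617 := d13_1 D163630 (iv7 D78617) D78616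
def n163631 : Q := act 0 n78619
theorem D163631 : act 0 n78619 = n163631 := rfl
theorem F257894 : act 1 n78622 = n163631 := d15_0 (iv0 D163631) (iv7 F254666) F254664
theorem F257895 : act 7 n163631 = n96650 := d15_2 F134048 F257894 F148930
def n163632 : Q := act 3 n78619
theorem D163632 : act 3 n78619 = n163632 := rfl
def n163633 : Q := act 5 n78619
theorem D163633 : act 5 n78619 = n163633 := rfl
def n163634 : Q := act 6 n78619
theorem D163634 : act 6 n78619 = n163634 := rfl
theorem F257896 : act 2 n163634 = n163497 := d3_1 D163634 (iv6 F257859) F257858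
theorem F257897 : act 4 n163634 = n78620 := d10_1 D163634 (iv6 D78620) D78619
theorem F257898 : act 7 n163634 = n163493 := d14_2 F254666 D163634 F257774 (iv7 F194204) (iv6 F254665)
def n163635 : Q := act 1 n78620
theorem D163635 : act 1 n78620 = n163635 := rfl
theorem F257899 : act 1 n163635 = n121692 := d15_1 D163635 F194209 (iv2 F119794)
theorem F257900 : act 7 n163635 = n78754 := d15_2 (iv0 F257706) D163635 (iv2 F257703)
theorem F257901 : act 5 n163492 = n163635 := d21_0 (iv1 D163635) F119795 (iv6 D78308) (iv1 F118824) (iv6 F123857) (iv5 D80561) D80560 F123851 F119765 (iv1 F257773)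
theorem E24009 : n163492 = n78754 := ((c21_6 (iv5 D40076) F118792 D35685 D78275 F255037 D78754 F257901 (iv1 D163635) F119795 (iv6 D78308) (iv1 F118824))).symm
theorem F257902 : act 0 n78754 = n78565 := (sb E24009 (iv1 D163492))
theorem F257903 : act 1 n78754 = n78568 := (sb E24009 F257773)
theorem F257904 : act 5 n78754 = n163635 := (sb E24009 F257901)
theorem F257905 : act 6 n121251 = n163635 := d21_9 F119795 F119516 F56451 (iv6 D35781) (iv1 F30321) D40216 F61202 F255042 D121251 (iv1 D163635)
theorem F257907 : act 2 n163635 = n163491 := d2_1 F257904 F257771 F257703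
theorem F257908 : act 7 n163491 = n163421 := d4_2 (iv7 F257900) F257907 F257703
def n163636 : Q := act 3 n78622
theorem D163636 : act 3 n78622 = n163636 := rfl
def n163637 : Q := act 5 n78622
theorem D163637 : act 5 n78622 = n163637 := rfl
def n163638 : Q := act 0 n78623
theorem D163638 : act 0 n78623 = n163638 := rfl
theorem F257909 : act 1 n78628 = n163638 := d15_0 (iv0 D163638) (iv7 F119797) (iv2 F119799)
def n163640 : Q := act 3 n78623
theorem D163640 : act 3 n78623 = n163640 := rfl
theorem F257911 : act 7 n163640 = n78629 := d8_2 F119797 D163640 (iv3 D78629)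
def n163641 : Q := act 4 n78623
theorem D163641 : act 4 n78623 = n163641 := rfl
theorem F257912 : act 2 n163641 = n78625 := d1_1 D163641 (iv4 D78625) D78623
theorem F257913 : act 7 n163641 = n78630 := d11_2 F119797 D163641 (iv4 D78630)
def n163642 : Q := act 6 n78623
theorem D163642 : act 6 n78623 = n163642 := rfl
theorem F257914 : act 2 n163642 = n78627 := d3_1 D163642 (iv6 D78627) D78623
def n163643 : Q := act 2 n78624
theorem D163643 : act 2 n78624 = n163643 := rfl
theorem F257915 : act 4 n163643 = n160453 := d1_2 (iv4 F119798) D163643 F253454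
theorem F257916 : act 7 n160450 = n163643 := d15_2 F256588 F256576 (iv2 D163643)
def n163644 : Q := act 6 n78624
theorem D163644 : act 6 n78624 = n163644 := rfl
theorem F257917 : act 3 n163644 = n78627 := d7_1 D163644 (iv6 D78627) D78624
theorem F257918 : act 4 n163644 = n160456 := d10_1 D163644 (iv6 D160456) (iv4 F119798)
def n163645 : Q := act 7 n78624
theorem D163645 : act 7 n78624 = n163645 := rfl
theorem F257919 : act 2 n163645 = n160450 := d4_1 D163645 F257916 (iv2 D163643)
theorem F257920 : act 3 n163645 = n78628 := d8_1 D163645 (iv7 D78628) D78624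
theorem F257921 : act 4 n163645 = n160448 := d11_1 D163645 (iv7 F253451) (iv4 F119798)
theorem F257922 : act 2 n78629 = n162406 := d0_3 F257920 F119799 D78629 F256605 (iv2 F257919)
theorem F257923 : act 2 n162302 = n78654 := d1_3 F119823 F257922 F256604
theorem E24010 : n163640 = n79980 := ((c15_2 (iv0 D162406) (iv0 F257641) F257911 F257922)).symm
theorem E24011 : n78623 = n36428 := ((((iv3 D79980)).symm.trans (sb E24010 (iv3 D163640)))).symm
theorem E24012 : n163638 = n17588 := ((((iv1 D36428)).symm.trans (sb E24011 D163638))).symm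
theorem E24014 : n79979 = n35815 := (((iv2 F122760)).symm.trans (sb E24011 (iv2 D78623)))
theorem E24015 : n163641 = n79981 := (((D79981).symm.trans (sb E24011 D163641))).symm
theorem E24016 : n121156 = n35764 := (((F254093).symm.trans (sb E24011 (iv5 F250811)))).symm
theorem E24017 : n163642 = n79983 := (((D79983).symm.trans (sb E24011 D163642))).symm
theorem E24018 : n79974 = n35816 := ((F122758).symm.trans (sb E24011 (iv7 F119797)))
theorem E24019 : n78628 = n36427 := (((D36427).symm.trans (sb E24012 (iv1 F257909)))).symm
theorem F257925 : act 2 n35815 = n36428 := (sb E24014 F122760)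
theorem E24020 : n78496 = n55904 := (((F250810).symm.trans (sb E24014 (iv5 F254084)))).symm
theorem F257926 : act 2 n79981 = n78625 := (sb E24015 F257912)
theorem F257927 : act 7 n79981 = n78630 := (sb E24015 F257913)
theorem E24021 : n78491 = n55905 := ((F119686).symm.trans (sb E24016 (iv7 F193226)))
theorem F257928 : act 2 n79983 = n78627 := (sb E24017 F257914)
theorem F257929 : act 7 n35816 = n36428 := (sb E24018 (iv7 F122758))
theorem F257930 : act 2 n36427 = n35816 := (sb E24019 F119799)
theorem E24022 : n163645 = n79975 := (((D79975).symm.trans (sb E24019 (iv3 F257920)))).symm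
theorem E24023 : n121161 = n35763 := (((F254082).symm.trans (sb E24019 (iv5 F250812)))).symm
theorem F257931 : act 7 n36427 = n35815 := (sb E24019 (iv7 D78628))
theorem F257932 : act 2 n55904 = n35764 := (sb E24020 F119687)
theorem E24026 : n163323 = n121157 := (((D121157).symm.trans (sb E24020 (iv3 F257632)))).symm
theorem E24027 : n163329 = n121158 := (((D121158).symm.trans (sb E24020 (iv4 F257637)))).symm
theorem E24028 : n163334 = n121160 := (((D121160).symm.trans (sb E24020 D163334))).symm
theorem E24029 : n163316 = n121162 := (((D121162).symm.trans (sb E24021 D163316))).symm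
theorem E24030 : n163317 = n121163 := (((D121163).symm.trans (sb E24021 D163317))).symm
theorem E24031 : n163318 = n121165 := (((D121165).symm.trans (sb E24021 D163318))).symm
theorem F257933 : act 7 n55905 = n35764 := (sb E24021 (iv7 F119686))
theorem F257934 : act 2 n79975 = n160450 := (sb E24022 F257919)
theorem E24032 : n160448 = n57944 := (((F122759).symm.trans (sb E24022 F257921))).symm
theorem F257935 : act 7 n79975 = n78624 := (sb E24022 (iv7 D163645))
theorem F257936 : act 2 n35763 = n55905 := (sb E24023 F193228)
theorem F257937 : act 7 n35763 = n55904 := (sb E24023 (iv7 D121161))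
theorem F257938 : act 7 n121157 = n78492 := (sb E24026 (iv7 D163323))
theorem F257939 : act 2 n121158 = n78498 := (sb E24027 F257636)
theorem F257940 : act 7 n121158 = n78493 := (sb E24027 (iv7 D163329))
theorem F257941 : act 2 n121160 = n78500 := (sb E24028 F257639)
theorem F257942 : act 7 n121162 = n78497 := (sb E24029 F257627)
theorem F257943 : act 2 n121163 = n78493 := (sb E24030 F257628)
theorem F257944 : act 7 n121163 = n78498 := (sb E24030 F257629)
theorem F257945 : act 2 n121165 = n78495 := (sb E24031 F257630)
theorem E24033 : n124296 = n76910 := (((iv2 F198782)).symm.trans (sb E24032 (iv2 D160448)))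
theorem E24034 : n124291 = n76911 := ((F198780).symm.trans (sb E24032 (iv7 F253451)))
theorem F257946 : act 2 n76910 = n57944 := (sb E24033 F198782)
theorem E24035 : n160453 = n57943 := ((D160453).symm.trans (sb E24033 (iv7 D124296)))
theorem F257947 : act 7 n76911 = n57944 := (sb E24034 (iv7 F198780))
theorem F257948 : act 2 n57943 = n76911 := (sb E24035 F253454)
theorem E24036 : n163643 = n124293 := (((D124293).symm.trans (sb E24035 (iv4 F257915)))).symm
theorem F257949 : act 7 n57943 = n76910 := (sb E24035 (iv7 D160453))
theorem F257950 : act 2 n124293 = n78624 := (sb E24036 (iv2 D163643))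
theorem F257951 : act 7 n124293 = n160450 := (sb E24036 (iv7 F257916))
theorem E24037 : n157839 = n79975 := (c15_2 (iv0 F248713) D157839 F257935 (iv2 F257950))
theorem F257952 : act 0 n79975 = n75194 := (sb E24037 (iv1 D157839))
theorem F257953 : act 7 n160449 = n124292 := d8_2 F257949 D160449 (iv3 D124292)
theorem F257954 : act 7 n160451 = n124294 := d13_2 F257949 D160451 (iv5 D124294)
theorem E24038 : n162296 = n121386 := ((c11_2 F257953 F198781 (iv7 F256441) (iv4 F253452))).symm
theorem F257956 : act 7 n121386 = n77971 := (sb E24038 (iv7 F256441))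
theorem F257960 : act 2 n160455 = n124294 := d2_3 (iv5 D124294) F257948 D160455
theorem F257961 : act 2 n160456 = n124295 := d3_3 (iv6 D124295) F257948 D160456
theorem F257962 : act 7 n124297 = n160454 := d8_2 F257947 D124297 (iv3 D160454)
theorem F257963 : act 7 n124298 = n160455 := d13_2 F257947 D124298 (iv5 D160455)
theorem F257964 : act 2 n160451 = n124298 := d4_3 F257963 F257960 (iv7 F257954)
theorem F257965 : act 1 n124294 = n121272 := d15_0 F254078 F257963 F257960
theorem F257966 : act 1 n160451 = n78772 := d15_0 (iv0 F253455) (iv7 F257963) (iv2 F257964)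
theorem E24040 : n163498 = n86148 := (c17_1 D163498 F256339 D157968 (iv5 F253453) (iv4 D160450) D160451 F257966 (iv5 D78772) D78770 (iv4 F119937))
theorem F257967 : act 1 n86148 = n78570 := (sb E24040 (iv0 D163498))
theorem F257969 : act 1 n163336 = n79681 := d15_0 F256573 F257942 D163336
theorem F257970 : act 7 n78833 = n92175 := d11_2 F257938 F120002 (iv4 F193227)
theorem E24041 : n163321 = n157968 := (c15_4 (iv0 D157968) (iv0 F257783) F257938 D163321)
theorem F257971 : act 2 n157968 = n78492 := (sb E24041 (iv2 D163321))
theorem F257972 : act 2 n78833 = n92174 := d1_3 (iv4 F248858) F257971 F120002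
theorem F257973 : act 2 n84327 = n158904 := d2_3 (iv5 F254079) F257972 F250808
theorem F257974 : act 7 n78832 = n92174 := d15_2 F141771 F141769 (iv2 F257972)
theorem F257975 : act 2 n92175 = n78832 := d4_3 F257974 (iv2 F257972) F257970
theorem F257976 : act 7 n84327 = n158903 := d13_2 F257974 F250808 (iv5 F254080)
theorem F257977 : act 2 n158903 = n84328 := d15_3 F250193 F250194 F257976
theorem F257978 : act 7 n158904 = n84328 := d4_2 (iv7 F257976) F257973 (iv2 F257977)
theorem F257979 : act 7 n78625 = n79976 := d11_2 F257931 D78625 (iv4 D79976)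
theorem F257980 : act 2 n79976 = n78630 := d4_1 F257979 (iv7 F257927) F257926
theorem F257981 : act 2 n78632 = n79978 := d3_3 (iv6 D79978) F257930 D78632
theorem F257982 : act 7 n78655 = n162302 := d15_2 (iv0 D78654) D78655 F257923
theorem F257983 : act 3 n121386 = n78655 := d8_3 F257982 (iv3 D162302) (iv7 F257956)
def n163646 : Q := act 0 n78625
theorem D163646 : act 0 n78625 = n163646 := rfl
theorem F257984 : act 4 n163646 = n78674 := d18_3 D35815 D78625 D163646 (iv5 D78674) D78673 (iv0 F119834) (iv4 D77251) (iv0 D35266) (iv5 F28283)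
theorem F257985 : act 1 n78630 = n163646 := d15_0 (iv0 D163646) F257979 F257980
theorem F257986 : act 7 n121212 = n163646 := d11_0 F257984 F254388 D121212
def n163647 : Q := act 1 n78625
theorem D163647 : act 1 n78625 = n163647 := rfl
theorem F257987 : act 1 n163647 = n78630 := d15_1 D163647 (iv7 F257927) F257926
theorem F257988 : act 4 n86279 = n163647 := d20_6 (iv4 F201715) (iv1 F201720) (iv4 D58731) D58730 D125444 F201727 (iv1 D163647) (iv4 D78625) D78624 (iv1 F257782)
theorem F257989 : act 2 n163647 = n121212 := d1_1 F257988 (iv4 D121212) (iv2 F254355)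
def n163648 : Q := act 3 n78625
theorem D163648 : act 3 n78625 = n163648 := rfl
theorem F257990 : act 4 n163648 = n160454 := d5_2 D78625 D163648 (iv3 D160454) (iv4 F119798) (iv3 D78624)
def n163649 : Q := act 5 n78625
theorem D163649 : act 5 n78625 = n163649 := rfl
def n163650 : Q := act 6 n78625
theorem D163650 : act 6 n78625 = n163650 := rfl
theorem F257991 : act 4 n163650 = n78627 := d10_1 D163650 (iv6 D78627) D78625
def n163652 : Q := act 1 n78627
theorem D163652 : act 1 n78627 = n163652 := rfl
def n163653 : Q := act 5 n78627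
theorem D163653 : act 5 n78627 = n163653 := rfl
def n163654 : Q := act 7 n78627
theorem D163654 : act 7 n78627 = n163654 := rfl
def n163656 : Q := act 5 n78630
theorem D163656 : act 5 n78630 = n163656 := rfl
def n163658 : Q := act 0 n78632
theorem D163658 : act 0 n78632 = n163658 := rfl
def n163661 : Q := act 7 n78632
theorem D163661 : act 7 n78632 = n163661 := rfl
def n163662 : Q := act 0 n78633
theorem D163662 : act 0 n78633 = n163662 := rfl
def n163663 : Q := act 1 n78633
theorem D163663 : act 1 n78633 = n163663 := rfl
theorem F257994 : act 1 n163663 = n78637 := d15_1 D163663 (iv7 D78637) (iv2 F119800)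
def n163664 : Q := act 5 n78633
theorem D163664 : act 5 n78633 = n163664 := rfl
theorem F257995 : act 2 n163664 = n78636 := d2_1 D163664 (iv5 D78636) (iv2 F119800)
theorem F257996 : act 3 n163664 = n162692 := d6_1 D163664 (iv5 D162692) (iv3 F119801)
theorem F257997 : act 6 n163664 = n160959 := d12_2 D78633 D163664 (iv5 D160959) F116006 (iv5 F56474)
def n163665 : Q := act 7 n78633
theorem D163665 : act 7 n78633 = n163665 := rfl
theorem F257998 : act 2 n163665 = n78637 := d4_1 D163665 (iv7 D78637) (iv2 F119800)
theorem F257999 : act 3 n163665 = n162679 := d8_1 D163665 F256924 (iv3 F119801)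
theorem F258000 : act 1 n78637 = n163662 := d15_0 (iv0 D163662) D163665 F257998
theorem F258001 : act 1 n78635 = n163665 := d15_1 D78635 (iv7 D163665) F119800
theorem F258002 : act 1 n163665 = n78634 := d15_0 (iv0 D78634) D78637 (iv2 F257998)
def n163666 : Q := act 2 n78634
theorem D163666 : act 2 n78634 = n163666 := rfl
theorem F258003 : act 7 n78635 = n163666 := d15_2 (iv0 D78634) D78635 (iv2 D163666)
def n163667 : Q := act 3 n78634
theorem D163667 : act 3 n78634 = n163667 := rfl
def n163668 : Q := act 4 n78634
theorem D163668 : act 4 n78634 = n163668 := rfl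
def n163669 : Q := act 5 n78634
theorem D163669 : act 5 n78634 = n163669 := rfl
def n163670 : Q := act 6 n78634
theorem D163670 : act 6 n78634 = n163670 := rfl
def n163671 : Q := act 7 n78634
theorem D163671 : act 7 n78634 = n163671 := rfl
theorem F258004 : act 2 n163671 = n78635 := d4_1 D163671 F258003 (iv2 D163666)
def n163672 : Q := act 3 n78635
theorem D163672 : act 3 n78635 = n163672 := rfl
def n163673 : Q := act 4 n78635
theorem D163673 : act 4 n78635 = n163673 := rfl
def n163674 : Q := act 5 n78635
theorem D163674 : act 5 n78635 = n163674 := rfl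
def n163675 : Q := act 6 n78635
theorem D163675 : act 6 n78635 = n163675 := rfl
def n163676 : Q := act 0 n78636
theorem D163676 : act 0 n78636 = n163676 := rfl
def n163677 : Q := act 1 n78636
theorem D163677 : act 1 n78636 = n163677 := rfl
def n163678 : Q := act 4 n78636
theorem D163678 : act 4 n78636 = n163678 := rfl
theorem F258005 : act 6 n163678 = n160962 := d10_2 (iv6 F119803) D163678 (iv4 D160962)
def n163680 : Q := act 5 n78640
theorem D163680 : act 5 n78640 = n163680 := rfl
theorem F258007 : act 2 n163680 = n78716 := d2_1 D163680 (iv5 D78716) (iv2 F119809)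
theorem F258008 : act 6 n163680 = n79925 := d12_2 D78640 D163680 (iv5 D79925) F57148 (iv5 F56488)
def n163681 : Q := act 4 n78643
theorem D163681 : act 4 n78643 = n163681 := rfl
theorem F258009 : act 2 n163681 = n160975 := d1_1 D163681 F254409 F254420
theorem F258010 : act 7 n163681 = n78673 := d11_2 (iv7 F119812) D163681 (iv4 D78673)
theorem F258011 : act 0 n163681 = n80022 := d18_2 (iv1 F254382) D163681 (iv4 D80022) F250818 D78576 F254258 (iv4 D80057) (iv0 F254427) F254071
theorem F258012 : act 1 n163681 = n80017 := d18_6 D36427 D79976 F193291 (iv4 D121212) (iv5 F254383) D163681 (iv4 D80017) (iv0 D36445) F28609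
def n163682 : Q := act 6 n78643
theorem D163682 : act 6 n78643 = n163682 := rfl
theorem F258013 : act 3 n163682 = n78646 := d7_1 D163682 (iv6 D78646) D78643
def n163683 : Q := act 1 n78644
theorem D163683 : act 1 n78644 = n163683 := rfl
theorem F258015 : act 7 n163683 = n78654 := d15_2 F256607 D163683 (iv2 F257923)
theorem F258016 : act 4 n163683 = n79980 := d18_7 (iv1 F254260) (iv4 F193278) (iv1 F193283) (iv4 D55923) F254385 D78644 D163683 F257642 F248724
theorem F258017 : act 2 n78655 = n163683 := d4_3 F258015 (iv2 F257923) (iv7 F257982)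
def n163685 : Q := act 6 n78644
theorem D163685 : act 6 n78644 = n163685 := rfl
theorem F258021 : act 4 n163685 = n78646 := d10_1 D163685 (iv6 D78646) D78644
def n163686 : Q := act 0 n78646
theorem D163686 : act 0 n78646 = n163686 := rfl
def n163687 : Q := act 1 n78646
theorem D163687 : act 1 n78646 = n163687 := rfl
def n163688 : Q := act 5 n78646
theorem D163688 : act 5 n78646 = n163688 := rfl
theorem F258024 : act 6 n163688 = n121222 := d12_2 D78646 D163688 (iv5 D121222) (iv6 D55925) F254385
def n163689 : Q := act 7 n78646
theorem D163689 : act 7 n78646 = n163689 := rfl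
theorem F258025 : act 2 n163689 = n78668 := d4_1 D163689 (iv7 D78668) (iv2 F119817)
theorem F258026 : act 6 n163689 = n78684 := d14_1 D163689 (iv7 D78684) (iv6 D35834) F56491 D78646
def n163690 : Q := act 5 n78648
theorem D163690 : act 5 n78648 = n163690 := rfl
theorem F258030 : act 2 n163690 = n78795 := d2_1 D163690 (iv5 F250794) (iv2 F254266)
theorem F258031 : act 7 n163690 = n80032 := d13_2 F254316 D163690 (iv5 F254313)
theorem F258032 : act 0 n163690 = n78698 := d18_0 F119847 (iv1 D75230) F54648 (iv5 F45084) (iv4 F92776) (iv0 F119818) (iv4 D78650) D78648 D163690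
theorem F258033 : act 1 n86304 = n78698 := d15_0 (iv0 F258032) F258031 F254304
theorem F258034 : act 5 n157927 = n86345 := d17_3 (iv1 D75230) D75232 D157927 (iv4 F254360) F254361 (iv0 D86300) D86304 F258033 F119847
theorem E24042 : n80031 = n78795 := ((c15_4 (iv0 D80031) D80032 (iv7 F258031) F258030)).symm
theorem F258035 : act 1 n78795 = n36449 := (sb E24042 (iv0 D80031))
theorem F258036 : act 1 n163690 = n157919 := d15_0 F248822 F254476 (iv2 F258030)
def n163691 : Q := act 6 n78648
theorem D163691 : act 6 n78648 = n163691 := rfl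
theorem F258037 : act 2 n163691 = n159323 := d3_1 D163691 (iv6 D159323) (iv2 F254266)
def n163692 : Q := act 6 n78649
theorem D163692 : act 6 n78649 = n163692 := rfl
theorem F258038 : act 2 n163692 = n78652 := d3_1 D163692 (iv6 D78652) D78649
theorem F258039 : act 4 n163692 = n157795 := d10_1 D163692 (iv6 D157795) (iv4 F254402)
def n163693 : Q := act 3 n78650
theorem D163693 : act 3 n78650 = n163693 := rfl
theorem F258040 : act 4 n163693 = n78656 := d5_2 D78650 D163693 (iv3 D78656) (iv4 D35827) D35826
def n163694 : Q := act 5 n78650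
theorem D163694 : act 5 n78650 = n163694 := rfl
theorem F258042 : act 2 n163694 = n157794 := d2_1 D163694 (iv5 D157794) (iv2 F254368)
theorem F258043 : act 7 n163694 = n157798 := d13_2 (iv7 F254369) D163694 (iv5 D157798)
theorem F258044 : act 0 n163694 = n104968 := d17_2 F119819 D163694 (iv5 D104968) F76343 F45071 D39972 (iv5 F248743) F92787 (iv4 F112727)
theorem F258045 : act 1 n157794 = n86140 := d15_0 (iv0 F248745) (iv7 F258043) F258042
theorem F258046 : act 0 n121227 = n78854 := d17_0 F254076 D125444 (iv5 F254403) F254402 D157794 F258045 (iv5 D86140) D86138 (iv4 F193303)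
def n163695 : Q := act 6 n78650
theorem D163695 : act 6 n78650 = n163695 := rfl
theorem F258047 : act 2 n163695 = n157795 := d3_1 D163695 (iv6 D157795) (iv2 F254368)
theorem F258048 : act 4 n163695 = n78652 := d10_1 D163695 (iv6 D78652) D78650
def n163696 : Q := act 6 n78651
theorem D163696 : act 6 n78651 = n163696 := rfl
theorem F258049 : act 3 n163696 = n78663 := d7_1 D163696 (iv6 D78663) (iv3 F119820)
def n163697 : Q := act 0 n78652
theorem D163697 : act 0 n78652 = n163697 := rfl
def n163698 : Q := act 1 n78652
theorem D163698 : act 1 n78652 = n163698 := rfl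
def n163699 : Q := act 5 n78652
theorem D163699 : act 5 n78652 = n163699 := rfl
def n163700 : Q := act 7 n78652
theorem D163700 : act 7 n78652 = n163700 := rfl
theorem F258051 : act 3 n163700 = n78668 := d8_1 D163700 (iv7 D78668) (iv3 F119821)
def n163701 : Q := act 6 n78653
theorem D163701 : act 6 n78653 = n163701 := rfl
theorem F258052 : act 3 n163701 = n78669 := d7_1 D163701 (iv6 D78669) (iv3 F119822)
theorem F258053 : act 4 n163701 = n157799 := d10_1 D163701 (iv6 D157799) (iv4 F254372)
def n163705 : Q := act 4 n78655
theorem D163705 : act 4 n78655 = n163705 := rfl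
theorem F258056 : act 2 n163705 = n79980 := d1_1 D163705 (iv4 F258016) (iv2 F258017)
theorem F258057 : act 3 n163705 = n124293 := d5_1 D163705 (iv4 D124293) D124292 F198781 F257983
theorem F258059 : act 0 n162410 = n163705 := d20_1 (iv4 F256619) (iv4 D163705) (iv3 F257983) (iv1 D121386) (iv3 D56008) (iv4 D27022) F21518 (iv4 F28195) (iv3 F56267) (iv1 F256562)
theorem F258060 : act 1 n86351 = n163705 := d15_0 (iv0 F258059) (iv7 D162410) (iv2 F256552)
theorem F258061 : act 5 n163336 = n163705 := d2_0 F258056 (iv5 F254094) D163336
theorem F258062 : act 1 n79686 = n163336 := d17_6 F256561 D78014 (iv1 F256524) (iv5 D121628) (iv4 F132142) F194350 F258061 (iv0 F258059) F256619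
def n163709 : Q := act 2 n78656
theorem D163709 : act 2 n78656 = n163709 := rfl
def n163710 : Q := act 5 n78656
theorem D163710 : act 5 n78656 = n163710 := rfl
theorem F258064 : act 3 n163710 = n78657 := d6_1 D163710 (iv5 D78657) D78656
def n163711 : Q := act 6 n78656
theorem D163711 : act 6 n78656 = n163711 := rfl
theorem F258065 : act 3 n163711 = n78658 := d7_1 D163711 (iv6 D78658) D78656
def n163713 : Q := act 0 n78657
theorem D163713 : act 0 n78657 = n163713 := rfl
theorem F258068 : act 5 n163713 = n121763 := d17_3 (iv1 D78655) D78657 D163713 F194329 (iv5 F254067) (iv0 F256571) (iv5 F248733) F258060 (iv4 D163705)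
theorem F258069 : act 1 n78677 = n163713 := d17_6 (iv1 F88482) (iv5 D55926) (iv1 F248741) (iv5 D35833) D35832 D78677 F258068 (iv0 D121763) (iv4 D56262)
def n163715 : Q := act 4 n78657
theorem D163715 : act 4 n78657 = n163715 := rfl
theorem F258072 : act 1 n163715 = n121633 := d18_6 (iv1 D35586) F28194 D17355 D35827 D78657 D163715 (iv4 D121633) (iv0 F248742) (iv5 D78010)
def n163716 : Q := act 6 n78657
theorem D163716 : act 6 n78657 = n163716 := rfl
def n163718 : Q := act 0 n78658
theorem D163718 : act 0 n78658 = n163718 := rfl
def n163719 : Q := act 1 n78658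
theorem D163719 : act 1 n78658 = n163719 := rfl
def n163720 : Q := act 5 n78658
theorem D163720 : act 5 n78658 = n163720 := rfl
def n163721 : Q := act 7 n78658
theorem D163721 : act 7 n78658 = n163721 := rfl
theorem F258075 : act 4 n163721 = n78668 := d11_1 D163721 (iv7 D78668) (iv4 F119825)
def n163722 : Q := act 6 n78659
theorem D163722 : act 6 n78659 = n163722 := rfl
theorem F258077 : act 4 n163722 = n78669 := d10_1 D163722 (iv6 D78669) (iv4 F119827)
def n163723 : Q := act 1 n78662
theorem D163723 : act 1 n78662 = n163723 := rfl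
theorem F258078 : act 1 n163723 = n78679 := d15_1 D163723 F254390 (iv2 F254394)
theorem F258079 : act 7 n163723 = n121194 := d15_2 F254203 D163723 (iv2 F254202)
theorem F258080 : act 2 n121193 = n163723 := d4_3 F258079 (iv2 F254202) (iv7 F254204)
theorem F258081 : act 3 n79618 = n163723 := d8_3 F258079 (iv3 F254183) (iv7 F254231)
def n163724 : Q := act 3 n78662
theorem D163724 : act 3 n78662 = n163724 := rfl
theorem F258082 : act 7 n163724 = n121195 := d8_2 (iv7 F254395) D163724 (iv3 D121195)
def n163725 : Q := act 5 n78662
theorem D163725 : act 5 n78662 = n163725 := rfl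
theorem F258083 : act 2 n163725 = n121216 := d2_1 D163725 (iv5 D121216) (iv2 F254394)
theorem F258084 : act 7 n163725 = n121196 := d13_2 (iv7 F254395) D163725 (iv5 D121196)
def n163726 : Q := act 6 n78662
theorem D163726 : act 6 n78662 = n163726 := rfl
theorem F258085 : act 2 n163726 = n121217 := d3_1 D163726 (iv6 D121217) (iv2 F254394)
theorem F258086 : act 4 n163726 = n78663 := d10_1 D163726 (iv6 D78663) D78662
def n163727 : Q := act 0 n78663
theorem D163727 : act 0 n78663 = n163727 := rfl
def n163728 : Q := act 1 n78663
theorem D163728 : act 1 n78663 = n163728 := rfl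
def n163729 : Q := act 5 n78663
theorem D163729 : act 5 n78663 = n163729 := rfl
theorem F258089 : act 6 n163729 = n78667 := d12_2 D78663 D163729 (iv5 D78667) (iv6 D35829) D35828
def n163730 : Q := act 7 n78663
theorem D163730 : act 7 n78663 = n163730 := rfl
theorem F258090 : act 2 n163730 = n121223 := d4_1 D163730 (iv7 D121223) (iv2 F254396)
theorem F258091 : act 6 n163730 = n121207 := d14_1 D163730 (iv7 D121207) (iv6 D55920) (iv7 F254380) D78663
theorem F258092 : act 1 n121223 = n163727 := d15_0 (iv0 D163727) D163730 F258090
theorem F258093 : act 1 n121221 = n163730 := d15_1 D121221 (iv7 D163730) F254396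
def n163731 : Q := act 2 n78665
theorem D163731 : act 2 n78665 = n163731 := rfl
def n163732 : Q := act 3 n78665
theorem D163732 : act 3 n78665 = n163732 := rfl
def n163733 : Q := act 4 n78665
theorem D163733 : act 4 n78665 = n163733 := rfl
def n163734 : Q := act 5 n78665
theorem D163734 : act 5 n78665 = n163734 := rfl
def n163735 : Q := act 6 n78665
theorem D163735 : act 6 n78665 = n163735 := rfl
def n163736 : Q := act 7 n78665
theorem D163736 : act 7 n78665 = n163736 := rfl
def n163744 : Q := act 7 n78667
theorem D163744 : act 7 n78667 = n163744 := rfl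
theorem F258097 : act 5 n163744 = n78668 := d13_1 D163744 (iv7 D78668) D78667
def n163745 : Q := act 6 n78668
theorem D163745 : act 6 n78668 = n163745 := rfl
theorem F258098 : act 2 n163745 = n78684 := d3_1 D163745 (iv6 F258026) F258025
theorem F258099 : act 7 n163745 = n78669 := d14_2 D78668 D163745 (iv6 D78669) (iv7 D35830) D35829
theorem F258100 : act 1 n78682 = n163745 := d15_1 D78682 F258099 F119833
theorem F258101 : act 1 n163745 = n78681 := d15_0 (iv0 D78681) D78684 (iv2 F258098)
def n163746 : Q := act 0 n78669
theorem D163746 : act 0 n78669 = n163746 := rfl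
theorem F258102 : act 1 n78684 = n163746 := d15_0 (iv0 D163746) (iv7 F258099) F258098
def n163747 : Q := act 1 n78669
theorem D163747 : act 1 n78669 = n163747 := rfl
def n163748 : Q := act 5 n78669
theorem D163748 : act 5 n78669 = n163748 := rfl
theorem F258104 : act 2 n163748 = n78683 := d2_1 D163748 (iv5 D78683) (iv2 F119833)
theorem F258105 : act 6 n163748 = n121206 := d12_2 D78669 D163748 (iv5 D121206) (iv6 D55920) F254376
def n163749 : Q := act 6 n78670
theorem D163749 : act 6 n78670 = n163749 := rfl
theorem F258106 : act 2 n163749 = n125426 := d3_1 D163749 (iv6 D125426) (iv2 F254349)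
def n163750 : Q := act 4 n78672
theorem D163750 : act 4 n78672 = n163750 := rfl
theorem F258107 : act 2 n163750 = n78673 := d1_1 D163750 (iv4 D78673) D78672
theorem F258108 : act 7 n163750 = n160975 := d11_2 (iv7 F254419) D163750 F254409
theorem F258109 : act 3 n163750 = n160642 := d20_3 (iv4 F254340) (iv1 F254416) D163750 (iv1 D160642) (iv3 D77043) (iv4 D35188) F28032 D17102 D35243 D77208
theorem F258110 : act 0 n163750 = n80017 := d20_7 (iv4 F132250) (iv1 F132255) (iv4 D39932) D39931 D86300 (iv3 F254417) D163750 (iv4 D80017) D80016 (iv1 F254228)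
theorem F258111 : act 0 n80022 = n163750 := d20_1 D80022 (iv4 D163750) F254417 (iv1 F254408) (iv3 F254291) F254292 (iv1 F122744) F122742 F57196 (iv1 F57244)
def n163751 : Q := act 6 n78672
theorem D163751 : act 6 n78672 = n163751 := rfl
theorem F258112 : act 2 n163751 = n78675 := d3_1 D163751 (iv6 D78675) D78672
def n163752 : Q := act 3 n78673
theorem D163752 : act 3 n78673 = n163752 := rfl
theorem F258113 : act 4 n163752 = n78676 := d5_2 D78673 D163752 (iv3 D78676) (iv4 D35832) D35831
def n163753 : Q := act 5 n78673
theorem D163753 : act 5 n78673 = n163753 := rfl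
def n163754 : Q := act 6 n78673
theorem D163754 : act 6 n78673 = n163754 := rfl
theorem F258114 : act 4 n163754 = n78675 := d10_1 D163754 (iv6 D78675) D78673
def n163755 : Q := act 6 n78674
theorem D163755 : act 6 n78674 = n163755 := rfl
theorem F258115 : act 3 n163755 = n78680 := d7_1 D163755 (iv6 D78680) (iv3 F119835)
def n163756 : Q := act 0 n78675
theorem D163756 : act 0 n78675 = n163756 := rfl
def n163757 : Q := act 1 n78675
theorem D163757 : act 1 n78675 = n163757 := rfl
def n163758 : Q := act 5 n78675
theorem D163758 : act 5 n78675 = n163758 := rfl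
theorem F258116 : act 3 n163758 = n78683 := d6_1 D163758 (iv5 D78683) (iv3 F119836)
def n163759 : Q := act 7 n78675
theorem D163759 : act 7 n78675 = n163759 := rfl
theorem F258117 : act 3 n163759 = n78684 := d8_1 D163759 (iv7 D78684) (iv3 F119836)
def n163760 : Q := act 2 n78676
theorem D163760 : act 2 n78676 = n163760 := rfl
def n163761 : Q := act 5 n78676
theorem D163761 : act 5 n78676 = n163761 := rfl
theorem F258118 : act 3 n163761 = n78677 := d6_1 D163761 (iv5 D78677) D78676
def n163763 : Q := act 4 n78677
theorem D163763 : act 4 n78677 = n163763 := rfl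
theorem F258120 : act 0 n163763 = n121633 := d18_2 (iv1 F258069) D163763 (iv4 D121633) (iv5 D56173) F43733 D27109 D56267 F194334 (iv5 F258068)
theorem F258121 : act 0 n162185 = n163761 := d20_4 (iv4 F56998) (iv1 F122269) F122272 (iv3 F256325) F258118 D163763 F258120 (iv4 D121633) F88849 (iv1 F56263)
def n163765 : Q := act 0 n78678
theorem D163765 : act 0 n78678 = n163765 := rfl
def n163766 : Q := act 1 n78678
theorem D163766 : act 1 n78678 = n163766 := rfl
def n163767 : Q := act 5 n78678
theorem D163767 : act 5 n78678 = n163767 := rfl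
def n163768 : Q := act 7 n78678
theorem D163768 : act 7 n78678 = n163768 := rfl
theorem F258122 : act 4 n163768 = n78684 := d11_1 D163768 (iv7 D78684) (iv4 F119837)
def n163769 : Q := act 3 n78679
theorem D163769 : act 3 n78679 = n163769 := rfl
theorem F258123 : act 7 n163769 = n121215 := d8_2 (iv7 F254390) D163769 (iv3 D121215)
theorem F258124 : act 0 n79593 = n163769 := d20_4 (iv4 D36483) D36482 F57294 D79593 (iv3 D163769) (iv4 D78679) F248740 D39919 F60737 (iv1 F57302)
def n163770 : Q := act 5 n78679
theorem D163770 : act 5 n78679 = n163770 := rfl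
theorem F258125 : act 2 n163770 = n121196 := d2_1 D163770 (iv5 D121196) (iv2 F254389)
theorem F258126 : act 7 n163770 = n121216 := d13_2 (iv7 F254390) D163770 (iv5 D121216)
def n163771 : Q := act 6 n78679
theorem D163771 : act 6 n78679 = n163771 := rfl
theorem F258127 : act 2 n163771 = n121197 := d3_1 D163771 (iv6 D121197) (iv2 F254389)
theorem F258128 : act 4 n163771 = n78680 := d10_1 D163771 (iv6 D78680) D78679
def n163772 : Q := act 0 n78680
theorem D163772 : act 0 n78680 = n163772 := rfl
def n163773 : Q := act 1 n78680
theorem D163773 : act 1 n78680 = n163773 := rfl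
def n163774 : Q := act 5 n78680
theorem D163774 : act 5 n78680 = n163774 := rfl
theorem F258130 : act 2 n163774 = n121206 := d2_1 D163774 (iv5 D121206) (iv2 F254391)
theorem F258131 : act 6 n163774 = n78683 := d12_2 D78680 D163774 (iv5 D78683) (iv6 D35834) D35833
def n163775 : Q := act 7 n78680
theorem D163775 : act 7 n78680 = n163775 := rfl
theorem F258132 : act 2 n163775 = n121207 := d4_1 D163775 (iv7 D121207) (iv2 F254391)
theorem F258133 : act 6 n163775 = n121223 := d14_1 D163775 (iv7 D121223) (iv6 D55925) F254386 D78680
theorem F258134 : act 1 n121207 = n163772 := d15_0 (iv0 D163772) D163775 F258132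
theorem F258136 : act 1 n163775 = n121204 := d15_0 (iv0 D121204) D121207 (iv2 F258132)
def n163779 : Q := act 5 n78681
theorem D163779 : act 5 n78681 = n163779 := rfl
def n163782 : Q := act 3 n78682
theorem D163782 : act 3 n78682 = n163782 := rfl
def n163783 : Q := act 4 n78682
theorem D163783 : act 4 n78682 = n163783 := rfl
def n163784 : Q := act 5 n78682
theorem D163784 : act 5 n78682 = n163784 := rfl
def n163785 : Q := act 6 n78682
theorem D163785 : act 6 n78682 = n163785 := rfl
def n163786 : Q := act 0 n78683
theorem D163786 : act 0 n78683 = n163786 := rfl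
def n163787 : Q := act 1 n78683
theorem D163787 : act 1 n78683 = n163787 := rfl
def n163788 : Q := act 4 n78683
theorem D163788 : act 4 n78683 = n163788 := rfl
def n163789 : Q := act 7 n78683
theorem D163789 : act 7 n78683 = n163789 := rfl
theorem F258139 : act 5 n163789 = n78684 := d13_1 D163789 (iv7 D78684) D78683
def n163790 : Q := act 3 n78695
theorem D163790 : act 3 n78695 = n163790 := rfl
theorem F258140 : act 2 n163790 = n79272 := d0_1 D163790 F121646 F56824 (iv3 F56501) (iv2 F119841)
theorem F258142 : act 7 n163790 = n79270 := d8_2 (iv7 F119842) D163790 F121644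
theorem F258143 : act 1 n79269 = n163790 := d15_1 D79269 F258142 (iv2 D79270)
theorem F258144 : act 1 n163790 = n79268 := d15_0 (iv0 D79268) D79272 (iv2 F258140)
def n163791 : Q := act 5 n78695
theorem D163791 : act 5 n78695 = n163791 := rfl
theorem F258145 : act 2 n163791 = n78709 := d2_1 D163791 (iv5 D78709) (iv2 F119841)
theorem F258148 : act 1 n163791 = n120986 := d17_6 D26970 F254376 (iv1 F254374) D35837 D78695 D163791 (iv5 D120986) (iv0 D55798) F43421
theorem E24043 : n120986 = n79690 := (c15_1 F258148 (iv0 D79690) (iv7 F119852) (iv2 F258145))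
theorem F258150 : act 5 n79690 = n55798 := (sb E24043 (iv5 D120986))
theorem F258151 : act 1 n121162 = n79686 := d17_8 (iv1 D36284) D36286 D79690 F258150 D120985 (iv5 F256620) (iv0 F256621) (iv5 F250814) (iv4 D79686)
def n163792 : Q := act 6 n78695
theorem D163792 : act 6 n78695 = n163792 := rfl
theorem F258152 : act 2 n163792 = n78710 := d3_1 D163792 (iv6 D78710) (iv2 F119841)
def n163793 : Q := act 0 n78696
theorem D163793 : act 0 n78696 = n163793 := rfl
def n163794 : Q := act 1 n78696
theorem D163794 : act 1 n78696 = n163794 := rfl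
theorem F258154 : act 1 n163794 = n78713 := d15_1 D163794 (iv7 D78713) (iv2 F119845)
def n163795 : Q := act 7 n78696
theorem D163795 : act 7 n78696 = n163795 := rfl
theorem F258155 : act 2 n163795 = n78713 := d4_1 D163795 (iv7 D78713) (iv2 F119845)
theorem F258156 : act 6 n163795 = n79912 := d14_1 D163795 F122659 F57148 (iv7 F56496) D78696
theorem F258157 : act 1 n78713 = n163793 := d15_0 (iv0 D163793) D163795 F258155
theorem F258158 : act 1 n78712 = n163795 := d15_1 D78712 (iv7 D163795) F119845
theorem F258159 : act 1 n163795 = n78711 := d15_0 (iv0 D78711) D78713 (iv2 F258155)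
def n163798 : Q := act 3 n78697
theorem D163798 : act 3 n78697 = n163798 := rfl
theorem F258162 : act 7 n163798 = n78703 := d8_2 F119846 D163798 (iv3 D78703)
def n163799 : Q := act 4 n78697
theorem D163799 : act 4 n78697 = n163799 := rfl
theorem F258163 : act 2 n163799 = n78699 := d1_1 D163799 (iv4 D78699) D78697
theorem F258164 : act 7 n163799 = n78704 := d11_2 F119846 D163799 (iv4 D78704)
def n163801 : Q := act 2 n78698
theorem D163801 : act 2 n78698 = n163801 := rfl
theorem F258166 : act 4 n163801 = n157922 := d1_2 (iv4 F119847) D163801 F248823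
theorem F258167 : act 7 n157919 = n163801 := d15_2 (iv0 F258032) F258036 (iv2 D163801)
def n163802 : Q := act 6 n78698
theorem D163802 : act 6 n78698 = n163802 := rfl
theorem F258168 : act 3 n163802 = n78701 := d7_1 D163802 (iv6 D78701) D78698
theorem F258169 : act 4 n163802 = n157925 := d10_1 D163802 (iv6 D157925) (iv4 F119847)
def n163803 : Q := act 7 n78698
theorem D163803 : act 7 n78698 = n163803 := rfl
theorem F258170 : act 2 n163803 = n157919 := d4_1 D163803 F258167 (iv2 D163801)
theorem F258171 : act 3 n163803 = n78702 := d8_1 D163803 (iv7 D78702) D78698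
theorem F258172 : act 4 n163803 = n157917 := d11_1 D163803 (iv7 F248821) (iv4 F119847)
def n163804 : Q := act 0 n78699
theorem D163804 : act 0 n78699 = n163804 := rfl
theorem F258173 : act 4 n163804 = n121162 := d18_3 D35838 D78699 D163804 F250814 (iv4 F119823) (iv0 D78654) (iv4 D35827) (iv0 D17355) D17358
theorem F258174 : act 7 n80038 = n163804 := d11_0 F258173 F257942 (iv4 F122846)
theorem F258175 : act 2 n163804 = n80039 := d15_3 F122847 F122851 F258174
def n163805 : Q := act 1 n78699
theorem D163805 : act 1 n78699 = n163805 := rfl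
theorem F258176 : act 1 n163805 = n78704 := d15_1 D163805 (iv7 F258164) F258163
theorem F258177 : act 7 n163805 = n80039 := d15_2 (iv0 D163804) D163805 (iv2 F258175)
theorem F258178 : act 2 n80038 = n163805 := d4_3 F258177 (iv2 F258175) (iv7 F258174)
theorem F258179 : act 4 n163805 = n163336 := d1_2 (iv4 F122846) F258178 (iv2 D163336)
theorem F258180 : act 1 n78704 = n163804 := d15_1 F258176 (iv7 F258174) F258178
theorem F258182 : act 0 n78703 = n163454 := d20_10 (iv4 D163454) (iv1 F140958) F140956 F88403 (iv1 F88452) D121162 (iv4 F258173) (iv1 F258180) (iv4 D78704) D78703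
theorem F258183 : act 1 n78703 = n92190 := d15_1 (iv0 F258182) (iv7 F254428) (iv2 F257738)
theorem F258184 : act 3 n163805 = n79646 := d20_3 D79681 (iv1 F257969) (iv4 F258179) (iv1 D79646) (iv3 D36271) (iv4 D17516) (iv1 D8239) D8240 D17520 D36283
def n163806 : Q := act 3 n78699
theorem D163806 : act 3 n78699 = n163806 := rfl
theorem F258185 : act 4 n163806 = n157923 := d5_2 D78699 D163806 (iv3 D157923) (iv4 F119847) (iv3 D78698)
def n163807 : Q := act 5 n78699
theorem D163807 : act 5 n78699 = n163807 := rfl
def n163808 : Q := act 6 n78699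
theorem D163808 : act 6 n78699 = n163808 := rfl
theorem F258186 : act 4 n163808 = n78701 := d10_1 D163808 (iv6 D78701) D78699
def n163809 : Q := act 7 n78699
theorem D163809 : act 7 n78699 = n163809 := rfl
theorem F258187 : act 2 n163809 = n78704 := d4_1 D163809 (iv7 F258164) F258163
theorem F258188 : act 4 n163809 = n78702 := d11_1 D163809 (iv7 D78702) D78699
def n163810 : Q := act 0 n78701
theorem D163810 : act 0 n78701 = n163810 := rfl
def n163811 : Q := act 1 n78701
theorem D163811 : act 1 n78701 = n163811 := rfl
def n163812 : Q := act 5 n78701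
theorem D163812 : act 5 n78701 = n163812 := rfl
def n163813 : Q := act 7 n78701
theorem D163813 : act 7 n78701 = n163813 := rfl
def n163814 : Q := act 6 n78702
theorem D163814 : act 6 n78702 = n163814 := rfl
theorem F258189 : act 2 n163814 = n78706 := d3_1 D163814 (iv6 D78706) (iv2 F119848)
def n163815 : Q := act 2 n78703
theorem D163815 : act 2 n78703 = n163815 := rfl
theorem F258190 : act 3 n163815 = n157919 := d0_2 D78703 D163815 (iv2 F258170) F258171 F119848
theorem F258191 : act 0 n163815 = n78849 := d20_4 (iv4 F54648) D75229 D157919 (iv3 F258190) (iv3 D78849) D78850 F248859 (iv4 D157971) (iv3 D75243) (iv1 D34449)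
theorem F258192 : act 1 n163815 = n80054 := d15_1 (iv0 F258191) (iv7 F257739) F257738
theorem F258193 : act 7 n163815 = n80056 := d15_2 (iv0 F254427) (iv0 F258191) (iv2 D80056)
theorem E24044 : n80027 = n78703 := (c4_3 F258193 (iv2 D80056) (iv7 F122835) D163815)
theorem E24045 : n36448 = n35839 := ((((iv3 D78703)).symm.trans (sb E24044 (iv3 D80027)))).symm
theorem E24046 : n121753 = n121232 := (((F256347).symm.trans (sb E24044 (iv5 F194356)))).symm
theorem E24047 : n163798 = n36454 := (((iv7 F258162)).symm.trans (sb E24044 F122835))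
theorem E24048 : n80025 = n17358 := ((((iv1 D35839)).symm.trans (sb E24045 D80025))).symm
theorem E24050 : n78702 = n17598 := (((iv2 F119848)).symm.trans (sb E24045 (iv2 D36448)))
theorem E24051 : n80028 = n78704 := (((D78704).symm.trans (sb E24045 D80028))).symm
theorem E24052 : n56260 = n55928 := ((((iv5 F256346)).symm.trans (sb E24045 F194344))).symm
theorem E24054 : n78697 = n17599 := ((F119846).symm.trans (sb E24045 (iv7 F57246)))
theorem F258194 : act 7 n121232 = n56266 := (sb E24046 F194319)
theorem F258195 : act 7 n36454 = n78703 := (sb E24047 F258162)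
theorem E24055 : n36453 = n35838 := (((D35838).symm.trans (sb E24048 (iv1 F122833)))).symm
theorem F258196 : act 2 n17598 = n35839 := (sb E24050 F119848)
theorem E24058 : n163803 = n36449 := (((D36449).symm.trans (sb E24050 (iv3 F258171)))).symm
theorem E24059 : n163809 = n36450 := (((D36450).symm.trans (sb E24050 (iv4 F258188)))).symm
theorem E24060 : n121231 = n27108 := (((F194345).symm.trans (sb E24050 F256345))).symm
theorem E24061 : n163814 = n36452 := (((D36452).symm.trans (sb E24050 D163814))).symm
theorem E24062 : n163799 = n36455 := (((iv7 F258164)).symm.trans (sb E24051 F122837))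
theorem E24066 : n121756 = n121235 := (((D121235).symm.trans (sb E24052 D121756))).symm
theorem F258197 : act 7 n17599 = n35839 := (sb E24054 (iv7 F119846))
theorem F258198 : act 2 n35838 = n17599 := (sb E24055 F57247)
theorem E24069 : n80037 = n78698 := (((D78698).symm.trans (sb E24055 (iv3 F122845)))).symm
theorem E24070 : n80043 = n78699 := (((D78699).symm.trans (sb E24055 (iv4 F122850)))).symm
theorem F258199 : act 7 n35838 = n17598 := (sb E24055 (iv7 D36453))
theorem E24073 : n157919 = n80033 := (((D80033).symm.trans (sb E24058 F258170))).symm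
theorem E24074 : n157917 = n80034 := (((D80034).symm.trans (sb E24058 F258172))).symm
theorem F258200 : act 2 n36450 = n78704 := (sb E24059 F258187)
theorem F258201 : act 2 n27108 = n55928 := (sb E24060 F193304)
theorem F258202 : act 2 n36452 = n78706 := (sb E24061 F258189)
theorem F258203 : act 7 n36455 = n78704 := (sb E24062 F258164)
theorem F258206 : act 2 n121235 = n56264 := (sb E24066 F194324)
theorem E24075 : n121762 = n121227 := (((F256344).symm.trans (sb E24069 (iv5 F194348)))).symm
theorem F258208 : act 7 n78698 = n36449 := (sb E24069 (iv7 D80037))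
theorem F258209 : act 2 n78699 = n36455 := (sb E24070 F122849)
theorem F258210 : act 7 n78699 = n36450 := (sb E24070 (iv7 D80043))
theorem F258214 : act 0 n80033 = n163690 := (sb E24073 (iv1 F258036))
theorem F258215 : act 1 n80033 = n86304 := (sb E24073 F248822)
theorem F258216 : act 3 n80033 = n163815 := (sb E24073 (iv3 F258190))
theorem F258217 : act 4 n80033 = n75229 := (sb E24073 (iv4 D157919))
theorem F258218 : act 7 n80033 = n163801 := (sb E24073 F258167)
theorem F258219 : act 2 n80034 = n75229 := (sb E24074 (iv2 D157917))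
theorem F258220 : act 7 n80034 = n75230 := (sb E24074 (iv7 F248821))
theorem F258221 : act 7 n121227 = n56261 := (sb E24075 (iv7 D121762))
theorem F258225 : act 3 n80056 = n163801 := d8_1 F258193 (iv7 F258218) F258216
theorem F258226 : act 1 n92190 = n80056 := d15_1 F258183 (iv7 F258193) (iv2 D163815)
theorem F258227 : act 1 n80056 = n163454 := d15_1 F258226 F257739 F254424
theorem F258228 : act 0 n121781 = n78790 := d18_0 F193198 (iv1 D121141) F88440 F43514 (iv4 F56455) D78552 (iv4 F141802) F258226 (iv5 F194361)
theorem E24078 : n157922 = n86161 := ((c20_8 F141802 (iv1 D78552) F56455 (iv3 D17342) (iv1 F13739) D18870 (iv4 F60684) D86161 (iv4 F258166) (iv3 F258225) (iv1 F258226))).symm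
theorem F258229 : act 2 n86161 = n75230 := (sb E24078 F248823)
theorem F258230 : act 4 n86161 = n163801 := (sb E24078 (iv4 F258166))
theorem F258231 : act 7 n86161 = n75229 := (sb E24078 (iv7 D157922))
theorem F258232 : act 1 n163801 = n78795 := d18_8 (iv1 F254400) F254402 (iv1 F201656) F201654 F92784 (iv4 F112777) F132127 F258230 (iv5 F250794)
theorem F258233 : act 1 n80032 = n163801 := d15_0 F258232 (iv7 F254476) (iv2 F254304)
theorem F258234 : act 7 n104966 = n86138 := d11_2 F258221 F160840 (iv4 F193303)
theorem F258235 : act 1 n121759 = n78854 := d15_0 (iv0 F258046) F258221 D121759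
theorem F258236 : act 0 n86196 = n157920 := d17_2 (iv1 D86194) D86196 (iv5 D157920) (iv4 F258217) (iv5 F194347) F258235 F254076 F254353 F132152
theorem F258237 : act 4 n86137 = n121759 := d18_7 D125444 F201726 (iv1 F132344) F132342 (iv5 F92767) (iv4 F160842) F160844 F258235 F254076
theorem F258238 : act 2 n104966 = n86137 := d1_3 F258237 (iv2 D121759) F160840
theorem F258239 : act 7 n104965 = n86137 := d15_2 (iv0 F160841) F160839 (iv2 F258238)
theorem F258240 : act 2 n86138 = n104965 := d4_3 F258239 (iv2 F258238) F258234
theorem F258248 : act 7 n80040 = n163806 := d8_2 F258210 D80040 (iv3 D163806)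
theorem F258249 : act 7 n80041 = n163807 := d13_2 F258210 D80041 (iv5 D163807)
theorem F258250 : act 2 n80061 = n163807 := d2_3 (iv5 D163807) F258209 D80061
theorem F258251 : act 6 n80052 = n163813 := d14_3 F258199 D36452 D80052 (iv7 D163813) (iv6 D78701)
theorem F258252 : act 7 n121782 = n163324 := d11_2 F258194 D121782 F257633
theorem F258253 : act 2 n121782 = n163325 := d15_3 F257634 F257638 (iv7 F258252)
theorem F258254 : act 4 n163325 = n121781 := d1_2 D121782 F258253 (iv2 D121781)
theorem F258255 : act 4 n163502 = n163815 := d18_7 (iv1 F254416) D163750 F258110 (iv4 D80017) F250801 D78571 D163502 F258192 (iv5 F254341)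
def n163816 : Q := act 4 n78703
theorem D163816 : act 4 n78703 = n163816 := rfl
theorem F258256 : act 2 n163816 = n163502 := d1_1 D163816 F258255 (iv2 D163815)
theorem F258257 : act 7 n163816 = n80057 := d11_2 F258195 D163816 (iv4 D80057)
theorem F258258 : act 0 n163816 = n121122 := d18_2 (iv1 F258183) D163816 (iv4 D121122) F254065 D77256 F254199 (iv4 D78673) F254421 (iv5 F250804)
theorem F258259 : act 1 n163816 = n121117 := d18_6 D35763 D78493 D163324 F257633 (iv5 F256347) D163816 (iv4 D121117) (iv0 D55884) F43494
def n163817 : Q := act 6 n78703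
theorem D163817 : act 6 n78703 = n163817 := rfl
theorem F258260 : act 3 n163817 = n78706 := d7_1 D163817 (iv6 D78706) D78703
def n163818 : Q := act 3 n78704
theorem D163818 : act 3 n78704 = n163818 := rfl
theorem F258261 : act 7 n163818 = n80060 := d8_2 F258203 D163818 (iv3 D80060)
theorem F258262 : act 0 n79630 = n163818 := d20_4 (iv4 D35551) (iv1 F54705) (iv4 F57011) D79630 (iv3 D163818) (iv4 D78704) (iv1 D35839) D35840 F56501 (iv1 F56232)
def n163819 : Q := act 5 n78704
theorem D163819 : act 5 n78704 = n163819 := rfl
theorem F258263 : act 2 n163819 = n80041 := d2_1 D163819 (iv5 D80041) F258200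
theorem F258264 : act 7 n163819 = n80061 := d13_2 F258203 D163819 (iv5 D80061)
def n163820 : Q := act 6 n78704
theorem D163820 : act 6 n78704 = n163820 := rfl
theorem F258266 : act 4 n163820 = n78706 := d10_1 D163820 (iv6 D78706) D78704
def n163821 : Q := act 0 n78706
theorem D163821 : act 0 n78706 = n163821 := rfl
def n163822 : Q := act 1 n78706
theorem D163822 : act 1 n78706 = n163822 := rfl
def n163823 : Q := act 5 n78706
theorem D163823 : act 5 n78706 = n163823 := rfl
def n163824 : Q := act 7 n78706
theorem D163824 : act 7 n78706 = n163824 := rfl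
theorem F258269 : act 2 n163824 = n80052 := d4_1 D163824 (iv7 D80052) F258202
theorem F258270 : act 6 n163824 = n80068 := d14_1 D163824 (iv7 D80068) (iv6 D36457) F258197 D78706
theorem F258271 : act 1 n80052 = n163821 := d15_0 (iv0 D163821) D163824 F258269
def n163825 : Q := act 2 n78707
theorem D163825 : act 2 n78707 = n163825 := rfl
theorem F258274 : act 7 n78708 = n163825 := d15_2 (iv0 D78707) D78708 (iv2 D163825)
def n163826 : Q := act 3 n78707
theorem D163826 : act 3 n78707 = n163826 := rfl
theorem F258275 : act 4 n163826 = n120292 := d20_6 (iv4 D26922) (iv1 F21391) (iv4 F28520) (iv3 F56501) D78707 D163826 (iv1 D120292) (iv4 F191514) (iv3 D120277) F87602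
def n163827 : Q := act 5 n78707
theorem D163827 : act 5 n78707 = n163827 := rfl
def n163828 : Q := act 6 n78707
theorem D163828 : act 6 n78707 = n163828 := rfl
def n163829 : Q := act 7 n78707
theorem D163829 : act 7 n78707 = n163829 := rfl
theorem F258276 : act 2 n163829 = n78708 := d4_1 D163829 F258274 (iv2 D163825)
def n163830 : Q := act 3 n78708
theorem D163830 : act 3 n78708 = n163830 := rfl
def n163831 : Q := act 6 n78708
theorem D163831 : act 6 n78708 = n163831 := rfl
def n163832 : Q := act 0 n78709
theorem D163832 : act 0 n78709 = n163832 := rfl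
theorem F258277 : act 5 n163832 = n86260 := d17_3 (iv1 D78708) D78709 D163832 (iv4 F256612) (iv5 D162408) (iv0 F257641) (iv5 F254094) (iv0 F256632) F132101
theorem F258279 : act 2 n79691 = n163832 := d2_3 F258277 F256568 (iv5 F248732)
def n163833 : Q := act 1 n78709
theorem D163833 : act 1 n78709 = n163833 := rfl
theorem F258283 : act 5 n163833 = n86261 := d17_7 (iv1 F248741) (iv5 D35833) (iv1 D17356) D17358 D35840 D78709 D163833 F132215 F88261
theorem F258284 : act 2 n79690 = n163833 := d2_3 F258283 F256566 (iv5 F258150)
def n163836 : Q := act 0 n78710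
theorem D163836 : act 0 n78710 = n163836 := rfl
def n163837 : Q := act 1 n78710
theorem D163837 : act 1 n78710 = n163837 := rfl
def n163838 : Q := act 5 n78710
theorem D163838 : act 5 n78710 = n163838 := rfl
theorem F258287 : act 3 n163838 = n79706 := d6_1 D163838 (iv5 D79706) (iv3 F119853)
def n163840 : Q := act 2 n78711
theorem D163840 : act 2 n78711 = n163840 := rfl
theorem F258291 : act 7 n78712 = n163840 := d15_2 (iv0 D78711) D78712 (iv2 D163840)
def n163841 : Q := act 3 n78711
theorem D163841 : act 3 n78711 = n163841 := rfl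
def n163842 : Q := act 4 n78711
theorem D163842 : act 4 n78711 = n163842 := rfl
def n163843 : Q := act 5 n78711
theorem D163843 : act 5 n78711 = n163843 := rfl
def n163844 : Q := act 6 n78711
theorem D163844 : act 6 n78711 = n163844 := rfl
def n163845 : Q := act 7 n78711
theorem D163845 : act 7 n78711 = n163845 := rfl
theorem F258292 : act 2 n163845 = n78712 := d4_1 D163845 F258291 (iv2 D163840)
def n163846 : Q := act 3 n78712
theorem D163846 : act 3 n78712 = n163846 := rfl
def n163847 : Q := act 4 n78712
theorem D163847 : act 4 n78712 = n163847 := rfl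
def n163848 : Q := act 5 n78712
theorem D163848 : act 5 n78712 = n163848 := rfl
def n163849 : Q := act 6 n78712
theorem D163849 : act 6 n78712 = n163849 := rfl
def n163862 : Q := act 4 n78716
theorem D163862 : act 4 n78716 = n163862 := rfl
theorem F258295 : act 6 n163862 = n79928 := d10_2 (iv6 F119858) D163862 (iv4 D79928)
def n163863 : Q := act 0 n78717
theorem D163863 : act 0 n78717 = n163863 := rfl
def n163864 : Q := act 1 n78717
theorem D163864 : act 1 n78717 = n163864 := rfl
def n163865 : Q := act 2 n78717
theorem D163865 : act 2 n78717 = n163865 := rfl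
theorem F258296 : act 6 n163865 = n84572 := d3_2 (iv6 F119859) D163865 (iv2 D84572)
def n163866 : Q := act 4 n78717
theorem D163866 : act 4 n78717 = n163866 := rfl
theorem F258297 : act 3 n163866 = n83274 := d5_1 D163866 F128345 F117686 F56506 D78717
theorem F258298 : act 6 n163866 = n83272 := d10_2 (iv6 F119859) D163866 F128344
def n163867 : Q := act 5 n78717
theorem D163867 : act 5 n78717 = n163867 := rfl
theorem F258299 : act 3 n163867 = n78718 := d6_1 D163867 (iv5 D78718) D78717
def n163868 : Q := act 1 n78718
theorem D163868 : act 1 n78718 = n163868 := rfl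
theorem F258302 : act 5 n163868 = n159273 := d17_7 F114160 F114157 F67526 (iv5 D39053) F56506 D78718 D163868 F250761 (iv4 D125411)
def n163870 : Q := act 0 n78719
theorem D163870 : act 0 n78719 = n163870 := rfl
def n163871 : Q := act 1 n78719
theorem D163871 : act 1 n78719 = n163871 := rfl
def n163872 : Q := act 2 n78719
theorem D163872 : act 2 n78719 = n163872 := rfl
def n163873 : Q := act 4 n78719
theorem D163873 : act 4 n78719 = n163873 := rfl
theorem F258303 : act 3 n163873 = n86191 := d5_1 D163873 (iv4 D86191) (iv3 D39891) (iv4 F88492) D78719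
def n163874 : Q := act 5 n78719
theorem D163874 : act 5 n78719 = n163874 := rfl
theorem F258304 : act 3 n163874 = n78720 := d6_1 D163874 (iv5 D78720) D78719
def n163875 : Q := act 4 n78720
theorem D163875 : act 4 n78720 = n163875 := rfl
def n163876 : Q := act 6 n78720
theorem D163876 : act 6 n78720 = n163876 := rfl
theorem F258305 : act 0 n162793 = n163876 := d21_4 F56419 (iv1 F56349) D78258 D162793 (iv6 D163876) (iv5 D78720) (iv1 D35844) (iv5 F56421) (iv6 D35747) D35744
def n163877 : Q := act 0 n78722
theorem D163877 : act 0 n78722 = n163877 := rfl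
def n163878 : Q := act 1 n78722
theorem D163878 : act 1 n78722 = n163878 := rfl
def n163879 : Q := act 2 n78722
theorem D163879 : act 2 n78722 = n163879 := rfl
def n163880 : Q := act 4 n78722
theorem D163880 : act 4 n78722 = n163880 := rfl
def n163881 : Q := act 5 n78722
theorem D163881 : act 5 n78722 = n163881 := rfl
theorem F258307 : act 3 n163881 = n78723 := d6_1 D163881 (iv5 D78723) D78722
def n163882 : Q := act 6 n78722
theorem D163882 : act 6 n78722 = n163882 := rfl
theorem F258308 : act 3 n163882 = n78724 := d7_1 D163882 (iv6 D78724) D78722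
theorem F258309 : act 5 n163226 = n163882 := d6_0 F258308 F119863 D163226
def n163883 : Q := act 0 n78723
theorem D163883 : act 0 n78723 = n163883 := rfl
theorem F258310 : act 5 n163883 = n92208 := d17_3 D35846 D78723 D163883 F141820 (iv5 F119903) (iv0 D78747) (iv5 D35852) (iv0 D17362) (iv4 F28297)
theorem F258311 : act 1 n78727 = n163883 := d15_0 (iv0 D163883) (iv7 F132205) F132204
def n163884 : Q := act 1 n78723
theorem D163884 : act 1 n78723 = n163884 := rfl
theorem F258314 : act 1 n163884 = n78727 := d15_1 D163884 (iv7 F132194) F132193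
theorem F258316 : act 5 n163884 = n86860 := d17_7 F60052 (iv5 F55893) F92792 (iv5 D58721) F88503 D78723 D163884 (iv0 F133232) F122651
def n163887 : Q := act 0 n78726
theorem D163887 : act 0 n78726 = n163887 := rfl
def n163888 : Q := act 1 n78726
theorem D163888 : act 1 n78726 = n163888 := rfl
def n163889 : Q := act 2 n78726
theorem D163889 : act 2 n78726 = n163889 := rfl
def n163890 : Q := act 4 n78726
theorem D163890 : act 4 n78726 = n163890 := rfl
def n163891 : Q := act 5 n78726
theorem D163891 : act 5 n78726 = n163891 := rfl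
theorem F258320 : act 3 n163891 = n78727 := d6_1 D163891 (iv5 D78727) D78726
def n163892 : Q := act 6 n78726
theorem D163892 : act 6 n78726 = n163892 := rfl
theorem F258321 : act 3 n163892 = n78728 := d7_1 D163892 (iv6 D78728) D78726
def n163893 : Q := act 4 n78727
theorem D163893 : act 4 n78727 = n163893 := rfl
def n163894 : Q := act 6 n78727
theorem D163894 : act 6 n78727 = n163894 := rfl
def n163895 : Q := act 5 n78728
theorem D163895 : act 5 n78728 = n163895 := rfl
theorem F258325 : act 1 n163895 = n121176 := d17_6 D26983 D55961 (iv1 F88563) (iv5 F92708) (iv4 F119866) D163895 (iv5 D121176) F114172 F43550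
def n163896 : Q := act 3 n78729
theorem D163896 : act 3 n78729 = n163896 := rfl
def n163897 : Q := act 4 n78729
theorem D163897 : act 4 n78729 = n163897 := rfl
def n163898 : Q := act 6 n78729
theorem D163898 : act 6 n78729 = n163898 := rfl
def n163899 : Q := act 3 n78730
theorem D163899 : act 3 n78730 = n163899 := rfl
theorem F258327 : act 5 n163899 = n79898 := d6_2 (iv5 F119868) D163899 F122642
def n163900 : Q := act 4 n78730
theorem D163900 : act 4 n78730 = n163900 := rfl
theorem F258328 : act 0 n163900 = n84878 := d18_2 (iv1 F132237) D163900 F130086 F60233 F45087 D27919 (iv4 F88501) F60747 (iv5 F132236)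
def n163905 : Q := act 0 n78741
theorem D163905 : act 0 n78741 = n163905 := rfl
def n163906 : Q := act 3 n78741
theorem D163906 : act 3 n78741 = n163906 := rfl
theorem F258333 : act 4 n163906 = n78744 := d5_2 D78741 D163906 (iv3 D78744) (iv4 D35851) D35850
def n163908 : Q := act 6 n78741
theorem D163908 : act 6 n78741 = n163908 := rfl
theorem F258334 : act 4 n163908 = n78743 := d10_1 D163908 (iv6 D78743) D78741
def n163909 : Q := act 0 n78742
theorem D163909 : act 0 n78742 = n163909 := rfl
theorem F258336 : act 6 n163909 = n81252 := d21_5 D121155 (iv1 F254935) F256899 (iv6 F256900) D163909 (iv5 D81252) (iv1 F125024) F125020 (iv6 F193190) (iv1 F193191)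
theorem F258338 : act 1 n160823 = n163909 := d15_0 (iv0 D163909) F119901 (iv2 F254946)
theorem F258339 : act 7 n163909 = n160670 := d15_2 D160823 F258338 F253804
def n163910 : Q := act 4 n78742
theorem D163910 : act 4 n78742 = n163910 := rfl
def n163914 : Q := act 5 n78744
theorem D163914 : act 5 n78744 = n163914 := rfl
theorem F258341 : act 3 n163914 = n78745 := d6_1 D163914 (iv5 D78745) D78744
def n163915 : Q := act 6 n78744
theorem D163915 : act 6 n78744 = n163915 := rfl
theorem F258342 : act 3 n163915 = n78746 := d7_1 D163915 (iv6 D78746) D78744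
def n163916 : Q := act 0 n78745
theorem D163916 : act 0 n78745 = n163916 := rfl
theorem F258343 : act 5 n163916 = n78824 := d17_3 (iv1 F92087) D78745 D163916 F119978 (iv5 F115680) (iv0 F115683) (iv5 D39910) (iv0 D18877) (iv4 F30120)
theorem F258345 : act 1 n78756 = n163916 := d15_0 (iv0 D163916) (iv7 F193348) F193347
def n163917 : Q := act 4 n78745
theorem D163917 : act 4 n78745 = n163917 := rfl
def n163920 : Q := act 3 n78748
theorem D163920 : act 3 n78748 = n163920 := rfl
theorem F258351 : act 7 n163920 = n163915 := d8_2 (iv7 F119908) D163920 F258342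
def n163921 : Q := act 3 n78752
theorem D163921 : act 3 n78752 = n163921 := rfl
theorem F258352 : act 4 n163921 = n78755 := d5_2 D78752 D163921 (iv3 D78755) (iv4 D35856) D35855
def n163923 : Q := act 6 n78752
theorem D163923 : act 6 n78752 = n163923 := rfl
theorem F258353 : act 4 n163923 = n78754 := d10_1 D163923 (iv6 D78754) D78752
def n163924 : Q := act 0 n78753
theorem D163924 : act 0 n78753 = n163924 := rfl
theorem F258355 : act 6 n163924 = n79940 := d21_5 (iv5 F123916) F255043 (iv5 D121251) F119911 D163924 (iv5 F122687) F122685 D78283 (iv6 F257144) F257146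
theorem F258356 : act 2 n79973 = n163924 := d3_3 F258355 F124473 D79973
theorem F258357 : act 3 n98210 = n163924 := d7_3 F258355 F122688 D98210
theorem F258358 : act 7 n163031 = n163924 := d14_0 F258355 F124474 F122431 (iv7 F124489) D163031
def n163925 : Q := act 1 n78753
theorem D163925 : act 1 n78753 = n163925 := rfl
theorem F258359 : act 7 n163925 = n79973 := d15_2 (iv0 D163924) D163925 F258356
theorem F258360 : act 5 n91702 = n163925 := d21_0 (iv1 D163925) (iv5 D78753) D78754 F257902 F119751 (iv5 F119037) F122613 (iv5 D79862) D79863 F140976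
theorem F258361 : act 6 n79744 = n163925 := d21_3 F67164 D81178 F124955 (iv1 D163925) (iv6 F119911) D121251 F257390 F257389 F140919 (iv1 D91675)
def n163926 : Q := act 4 n78753
theorem D163926 : act 4 n78753 = n163926 := rfl
theorem F258363 : act 6 n163926 = n121250 := d10_2 F119911 D163926 (iv4 D121250)
def n163927 : Q := act 0 n78755
theorem D163927 : act 0 n78755 = n163927 := rfl
def n163928 : Q := act 1 n78755
theorem D163928 : act 1 n78755 = n163928 := rfl
def n163929 : Q := act 2 n78755
theorem D163929 : act 2 n78755 = n163929 := rfl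
def n163930 : Q := act 5 n78755
theorem D163930 : act 5 n78755 = n163930 := rfl
theorem F258364 : act 3 n163930 = n78756 := d6_1 D163930 (iv5 D78756) D78755
def n163931 : Q := act 6 n78755
theorem D163931 : act 6 n78755 = n163931 := rfl
theorem F258365 : act 3 n163931 = n78757 := d7_1 D163931 (iv6 D78757) D78755
def n163932 : Q := act 4 n78756
theorem D163932 : act 4 n78756 = n163932 := rfl
def n163933 : Q := act 6 n78756
theorem D163933 : act 6 n78756 = n163933 := rfl
def n163935 : Q := act 3 n78758
theorem D163935 : act 3 n78758 = n163935 := rfl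
theorem F258370 : act 6 n163935 = n121252 := d7_2 (iv6 F119915) D163935 (iv3 D121252)
def n163936 : Q := act 0 n78759
theorem D163936 : act 0 n78759 = n163936 := rfl
theorem F258371 : act 4 n163936 = n124261 := d18_1 D163936 (iv1 F198761) F197654 (iv5 F115522) (iv4 F253375) F253387 F253384 (iv0 D160402) (iv5 F119920)
theorem F258373 : act 2 n160861 = n163936 := d15_3 (iv0 D163936) F254988 (iv7 F256688)
theorem F258374 : act 3 n163936 = n161132 := d0_2 (iv3 F254990) F258373 F256713 (iv3 D78035) F256684
theorem F258375 : act 7 n163936 = n162524 := d4_2 (iv7 F256688) F258373 (iv2 D162524)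
theorem E24080 : n162524 = n160862 := ((c15_2 (iv0 D160861) D160862 (iv7 F258375) (iv2 F258373))).symm
theorem F258376 : act 2 n160862 = n78040 := (sb E24080 (iv2 D162524))
theorem F258377 : act 4 n160862 = n160422 := (sb E24080 F256722)
theorem F258380 : act 4 n91671 = n163417 := d20_0 (iv1 D163417) F119713 (iv3 F116156) D161132 (iv3 F258374) F258371 (iv1 F198761) F197654 (iv3 F141166) (iv1 F141170)
def n163937 : Q := act 7 n78759
theorem D163937 : act 7 n78759 = n163937 := rfl
theorem F258382 : act 3 n163937 = n96341 := d8_1 D163937 (iv7 D96341) (iv3 F119918)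
theorem F258383 : act 4 n163937 = n160440 := d11_1 D163937 (iv7 D160440) (iv4 F119919)
theorem F258384 : act 5 n163937 = n160403 := d13_1 D163937 (iv7 D160403) (iv5 F119920)
theorem F258385 : act 6 n163937 = n120263 := d14_1 D163937 (iv7 D120263) F87586 (iv7 F56517) D78759
theorem F258388 : act 3 n88665 = n95283 := d20_3 (iv4 F59897) D84286 (iv4 F250145) (iv1 F148279) (iv3 F258382) F258383 (iv1 F253436) (iv4 D124272) F254999 (iv1 D38872)
def n163938 : Q := act 0 n78760
theorem D163938 : act 0 n78760 = n163938 := rfl
def n163939 : Q := act 1 n78760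
theorem D163939 : act 1 n78760 = n163939 := rfl
def n163940 : Q := act 2 n78760
theorem D163940 : act 2 n78760 = n163940 := rfl
theorem F258390 : act 3 n163940 = n78771 := d0_2 D78760 D163940 (iv2 D78771) (iv3 D35864) (iv2 F56521)
theorem F258391 : act 4 n163940 = n158033 := d1_2 (iv4 F119921) D163940 (iv2 D158033)
def n163941 : Q := act 5 n78760
theorem D163941 : act 5 n78760 = n163941 := rfl
theorem F258392 : act 3 n163941 = n78761 := d6_1 D163941 (iv5 D78761) D78760
def n163943 : Q := act 6 n78761
theorem D163943 : act 6 n78761 = n163943 := rfl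
theorem F258395 : act 2 n163943 = n78775 := d3_1 D163943 (iv6 D78775) (iv2 F119922)
theorem F258396 : act 4 n163943 = n121274 := d10_1 D163943 (iv6 D121274) (iv4 F119923)
def n163947 : Q := act 3 n78763
theorem D163947 : act 3 n78763 = n163947 := rfl
theorem F258405 : act 7 n163947 = n78781 := d8_2 (iv7 F124421) D163947 (iv3 D78781)
theorem F258407 : act 1 n86127 = n163947 := d15_1 (iv0 F256318) F258405 (iv2 F256315)
def n163948 : Q := act 4 n78763
theorem D163948 : act 4 n78763 = n163948 := rfl
theorem F258408 : act 2 n163948 = n78786 := d1_1 D163948 (iv4 D78786) (iv2 F124420)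
theorem F258409 : act 7 n163948 = n78782 := d11_2 (iv7 F124421) D163948 (iv4 D78782)
def n163949 : Q := act 0 n78765
theorem D163949 : act 0 n78765 = n163949 := rfl
def n163950 : Q := act 1 n78765
theorem D163950 : act 1 n78765 = n163950 := rfl
def n163951 : Q := act 2 n78765
theorem D163951 : act 2 n78765 = n163951 := rfl
def n163952 : Q := act 6 n78765
theorem D163952 : act 6 n78765 = n163952 := rfl
theorem F258411 : act 3 n163952 = n78766 := d7_1 D163952 (iv6 D78766) D78765
def n163953 : Q := act 5 n78766
theorem D163953 : act 5 n78766 = n163953 := rfl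
theorem F258412 : act 1 n163953 = n84829 := d17_6 (iv1 D121527) (iv5 D56124) F120796 (iv5 F91640) (iv4 F119934) D163953 (iv5 D84829) D84827 (iv4 F193906)
def n163954 : Q := act 0 n78767
theorem D163954 : act 0 n78767 = n163954 := rfl
def n163955 : Q := act 1 n78767
theorem D163955 : act 1 n78767 = n163955 := rfl
def n163956 : Q := act 2 n78767
theorem D163956 : act 2 n78767 = n163956 := rfl
theorem F258413 : act 4 n163956 = n160844 := d1_2 (iv4 F119935) D163956 (iv2 D160844)
def n163957 : Q := act 6 n78767
theorem D163957 : act 6 n78767 = n163957 := rfl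
theorem F258414 : act 3 n163957 = n78768 := d7_1 D163957 (iv6 D78768) D78767
theorem F258415 : act 4 n163957 = n160846 := d10_1 D163957 (iv6 D160846) (iv4 F119935)
def n163959 : Q := act 7 n78768
theorem D163959 : act 7 n78768 = n163959 := rfl
theorem F258416 : act 4 n163959 = n124241 := d11_1 D163959 (iv7 D124241) (iv4 F119936)
theorem F258417 : act 6 n163959 = n84833 := d14_1 D163959 F191535 F191531 F87609 D78768
theorem F258418 : act 1 n86191 = n163959 := d15_1 F253396 (iv7 D163959) (iv2 F193372)
def n163960 : Q := act 4 n78769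
theorem D163960 : act 4 n78769 = n163960 := rfl
theorem F258420 : act 2 n163960 = n121116 := d1_1 D163960 F193375 F254247
theorem F258421 : act 7 n163960 = n163500 := d11_2 F254250 D163960 F257780
theorem F258422 : act 5 n163960 = n158895 := d17_5 (iv1 D57944) D57946 D124301 F253460 D163960 F250188 (iv5 F248720) (iv0 F257952) F122759
theorem F258423 : act 1 n163960 = n86148 := d18_8 D157968 F248858 (iv1 F141766) F120003 (iv5 F88540) (iv4 F193377) F193379 D163960 F256339
theorem F258424 : act 3 n163960 = n157947 := d20_3 (iv4 F56527) D78769 D163960 (iv1 D157947) (iv3 D75238) D75239 D157952 F248847 (iv3 D78795) (iv1 D35871)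
theorem F258425 : act 4 n162257 = n157947 := d5_4 (iv4 D163960) F256418 (iv4 D162258) D162257 (iv3 F258424)
theorem E24081 : n163510 = n157947 := ((c0_1 F258424 (iv2 D163510) (iv3 D78575) (iv2 F254213) D121116 (iv2 F258420))).symm
theorem F258426 : act 2 n157947 = n78575 := (sb E24081 (iv2 D163510))
theorem E24082 : n162257 = n121764 := (((iv4 F258425)).symm.trans (sb E24081 (iv4 F257790)))
theorem F258428 : act 4 n121764 = n157947 := (sb E24082 F258425)
theorem F258429 : act 0 n163960 = n163499 := d20_4 D56267 (iv1 F194330) F258428 (iv3 F258424) (iv3 F257779) (iv4 D79681) (iv1 F119844) (iv4 D78695) (iv3 F88479) (iv1 F88481)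
def n163961 : Q := act 6 n78769
theorem D163961 : act 6 n78769 = n163961 := rfl
def n163962 : Q := act 3 n78770
theorem D163962 : act 3 n78770 = n163962 := rfl
theorem F258431 : act 4 n163962 = n163503 := d5_2 F119937 D163962 (iv3 D163503) (iv4 D78571) D78570
def n163963 : Q := act 6 n78770
theorem D163963 : act 6 n78770 = n163963 := rfl
theorem F258432 : act 4 n163963 = n163501 := d10_1 D163963 (iv6 D163501) F119937
def n163964 : Q := act 5 n78771
theorem D163964 : act 5 n78771 = n163964 := rfl
theorem F258433 : act 2 n163964 = n78772 := d2_1 D163964 (iv5 D78772) D78771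
theorem F258434 : act 1 n163964 = n124294 := d17_6 D27920 F254073 (iv1 F67487) F67485 (iv4 F119938) D163964 (iv5 D124294) (iv0 D57943) F44572
theorem F258435 : act 1 n124298 = n163964 := d15_0 F258434 (iv7 F257954) F257964
def n163965 : Q := act 6 n78771
theorem D163965 : act 6 n78771 = n163965 := rfl
theorem F258436 : act 2 n163965 = n78773 := d3_1 D163965 (iv6 D78773) D78771
theorem F258437 : act 4 n163965 = n78799 := d10_1 D163965 (iv6 D78799) (iv4 F119938)
def n163966 : Q := act 4 n78772
theorem D163966 : act 4 n78772 = n163966 := rfl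
def n163967 : Q := act 6 n78772
theorem D163967 : act 6 n78772 = n163967 := rfl
theorem F258438 : act 3 n163967 = n78775 := d7_1 D163967 (iv6 D78775) (iv3 F119939)
def n163968 : Q := act 0 n78773
theorem D163968 : act 0 n78773 = n163968 := rfl
def n163969 : Q := act 1 n78773
theorem D163969 : act 1 n78773 = n163969 := rfl
def n163970 : Q := act 5 n78773
theorem D163970 : act 5 n78773 = n163970 := rfl
theorem F258439 : act 3 n163970 = n78778 := d6_1 D163970 (iv5 D78778) (iv3 F119940)
def n163972 : Q := act 3 n78774
theorem D163972 : act 3 n78774 = n163972 := rfl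
theorem F258442 : act 5 n163972 = n121263 := d6_2 (iv5 F119944) D163972 (iv3 D121263)
theorem F258443 : act 7 n163972 = n163941 := d8_2 (iv7 F119943) D163972 F258392
def n163973 : Q := act 6 n78774
theorem D163973 : act 6 n78774 = n163973 := rfl
theorem F258444 : act 2 n163973 = n121274 := d3_1 D163973 (iv6 D121274) (iv2 F119942)
theorem F258445 : act 4 n163973 = n78775 := d10_1 D163973 (iv6 D78775) D78774
def n163974 : Q := act 0 n78775
theorem D163974 : act 0 n78775 = n163974 := rfl
def n163975 : Q := act 1 n78775
theorem D163975 : act 1 n78775 = n163975 := rfl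
def n163976 : Q := act 5 n78775
theorem D163976 : act 5 n78775 = n163976 := rfl
theorem F258446 : act 6 n163976 = n78778 := d12_2 D78775 D163976 (iv5 D78778) (iv6 D35866) D35865
def n163977 : Q := act 7 n78775
theorem D163977 : act 7 n78775 = n163977 := rfl
def n163980 : Q := act 6 n78776
theorem D163980 : act 6 n78776 = n163980 := rfl
theorem F258447 : act 4 n163980 = n96323 := d10_1 D163980 (iv6 F194029) (iv4 F194032)
theorem F258448 : act 0 n84563 = n163980 := d18_2 (iv1 F121089) (iv4 F129725) F258447 (iv5 D96323) (iv4 F121724) F89930 F44476 F44192 D56896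
def n163984 : Q := act 0 n78778
theorem D163984 : act 0 n78778 = n163984 := rfl
def n163985 : Q := act 1 n78778
theorem D163985 : act 1 n78778 = n163985 := rfl
def n163986 : Q := act 4 n78778
theorem D163986 : act 4 n78778 = n163986 := rfl
def n163988 : Q := act 0 n78781
theorem D163988 : act 0 n78781 = n163988 := rfl
def n163991 : Q := act 0 n78782
theorem D163991 : act 0 n78782 = n163991 := rfl
theorem F258458 : act 1 n78786 = n163991 := d15_0 (iv0 D163991) (iv7 F258409) F258408
theorem F258459 : act 7 n163991 = n120290 := d15_2 (iv0 F198726) F258458 (iv2 F198724)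
theorem F258460 : act 6 n162238 = n163991 := d14_5 F258459 (iv6 D120290) F87616 D77942 D162238
def n163999 : Q := act 6 n78790
theorem D163999 : act 6 n78790 = n163999 := rfl
theorem F258464 : act 3 n163999 = n78793 := d7_1 D163999 (iv6 D78793) D78790
def n164000 : Q := act 0 n78791
theorem D164000 : act 0 n78791 = n164000 := rfl
theorem F258465 : act 4 n164000 = n125369 := d20_2 D78791 D164000 (iv3 D125369) (iv1 D58706) (iv3 D27911) (iv4 D13309) F9825 D8135 D17369 D35870
theorem F258466 : act 1 n78796 = n164000 := d15_0 (iv0 D164000) F254470 (iv2 F254471)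
theorem F258467 : act 1 n125369 = n121116 := d18_8 (iv1 F254411) (iv4 F250781) (iv1 F250786) (iv4 D76214) (iv5 F250795) D78796 F258466 F258465 (iv5 F254070)
theorem F258468 : act 1 n163500 = n125369 := d15_0 F258467 F254243 D163500
theorem E24083 : n163319 = n86180 := ((c17_8 (iv1 D78833) D78835 (iv1 F254241) (iv5 D84320) D84319 (iv5 F257781) F258468 F201643 (iv0 D163319) F120002)).symm
theorem F258469 : act 1 n86180 = n78492 := (sb E24083 (iv0 D163319))
def n164001 : Q := act 1 n78791
theorem D164001 : act 1 n78791 = n164001 := rfl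
theorem F258470 : act 1 n164001 = n78796 := d15_1 D164001 (iv7 F254477) (iv2 F254478)
def n164002 : Q := act 3 n78791
theorem D164002 : act 3 n78791 = n164002 := rfl
def n164003 : Q := act 5 n78791
theorem D164003 : act 5 n78791 = n164003 := rfl
def n164004 : Q := act 6 n78791
theorem D164004 : act 6 n78791 = n164004 := rfl
theorem F258471 : act 4 n164004 = n78793 := d10_1 D164004 (iv6 D78793) D78791
def n164005 : Q := act 0 n78793
theorem D164005 : act 0 n78793 = n164005 := rfl
def n164006 : Q := act 1 n78793
theorem D164006 : act 1 n78793 = n164006 := rfl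
def n164007 : Q := act 5 n78793
theorem D164007 : act 5 n78793 = n164007 := rfl
theorem F258472 : act 6 n164007 = n159317 := d12_2 D78793 D164007 (iv5 D159317) (iv6 D76211) F250799
def n164008 : Q := act 7 n78793
theorem D164008 : act 7 n78793 = n164008 := rfl
def n164009 : Q := act 6 n78795
theorem D164009 : act 6 n78795 = n164009 := rfl
theorem F258473 : act 3 n164009 = n78798 := d7_1 D164009 (iv6 D78798) D78795
def n164010 : Q := act 3 n78796
theorem D164010 : act 3 n78796 = n164010 := rfl
theorem F258474 : act 0 n120287 = n164010 := d20_4 F56525 (iv1 F56237) (iv4 F87612) D120287 (iv3 D164010) (iv4 D78796) (iv1 D35871) (iv4 F56527) (iv3 D35864) D35862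
def n164011 : Q := act 5 n78796
theorem D164011 : act 5 n78796 = n164011 := rfl
def n164012 : Q := act 6 n78796
theorem D164012 : act 6 n78796 = n164012 := rfl
theorem F258475 : act 4 n164012 = n78798 := d10_1 D164012 (iv6 D78798) D78796
def n164013 : Q := act 0 n78798
theorem D164013 : act 0 n78798 = n164013 := rfl
def n164014 : Q := act 1 n78798
theorem D164014 : act 1 n78798 = n164014 := rfl
def n164015 : Q := act 5 n78798
theorem D164015 : act 5 n78798 = n164015 := rfl
theorem F258476 : act 6 n164015 = n159328 := d12_2 D78798 D164015 (iv5 D159328) (iv6 D76216) (iv5 F250795)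
def n164016 : Q := act 7 n78798
theorem D164016 : act 7 n78798 = n164016 := rfl
def n164017 : Q := act 0 n78799
theorem D164017 : act 0 n78799 = n164017 := rfl
def n164018 : Q := act 1 n78799
theorem D164018 : act 1 n78799 = n164018 := rfl
theorem F258477 : act 1 n164018 = n78803 := d15_1 D164018 (iv7 D78803) (iv2 F119954)
def n164019 : Q := act 5 n78799
theorem D164019 : act 5 n78799 = n164019 := rfl
theorem F258478 : act 2 n164019 = n78802 := d2_1 D164019 (iv5 D78802) (iv2 F119954)
def n164020 : Q := act 7 n78799
theorem D164020 : act 7 n78799 = n164020 := rfl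
theorem F258479 : act 2 n164020 = n78803 := d4_1 D164020 (iv7 D78803) (iv2 F119954)
theorem F258480 : act 1 n78803 = n164017 := d15_0 (iv0 D164017) D164020 F258479
theorem F258481 : act 1 n78801 = n164020 := d15_1 D78801 (iv7 D164020) F119954
theorem F258482 : act 1 n164020 = n78800 := d15_0 (iv0 D78800) D78803 (iv2 F258479)
def n164021 : Q := act 2 n78800
theorem D164021 : act 2 n78800 = n164021 := rfl
theorem F258483 : act 7 n78801 = n164021 := d15_2 (iv0 D78800) D78801 (iv2 D164021)
def n164022 : Q := act 3 n78800
theorem D164022 : act 3 n78800 = n164022 := rfl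
def n164023 : Q := act 4 n78800
theorem D164023 : act 4 n78800 = n164023 := rfl
def n164024 : Q := act 5 n78800
theorem D164024 : act 5 n78800 = n164024 := rfl
def n164025 : Q := act 6 n78800
theorem D164025 : act 6 n78800 = n164025 := rfl
def n164026 : Q := act 7 n78800
theorem D164026 : act 7 n78800 = n164026 := rfl
theorem F258484 : act 2 n164026 = n78801 := d4_1 D164026 F258483 (iv2 D164021)
def n164027 : Q := act 3 n78801
theorem D164027 : act 3 n78801 = n164027 := rfl
def n164028 : Q := act 4 n78801
theorem D164028 : act 4 n78801 = n164028 := rfl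
def n164029 : Q := act 5 n78801
theorem D164029 : act 5 n78801 = n164029 := rfl
def n164030 : Q := act 6 n78801
theorem D164030 : act 6 n78801 = n164030 := rfl
def n164033 : Q := act 4 n78802
theorem D164033 : act 4 n78802 = n164033 := rfl
def n164045 : Q := act 4 n78808
theorem D164045 : act 4 n78808 = n164045 := rfl
theorem F258502 : act 6 n164045 = n157880 := d10_2 (iv6 F124435) D164045 F248796
theorem F258505 : act 0 n164045 = n157895 := d20_1 D164045 F255484 (iv3 D91699) (iv1 D42873) F32123 (iv4 F43497) F60648 (iv4 D35879) D35878 D78808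
def n164046 : Q := act 4 n78810
theorem D164046 : act 4 n78810 = n164046 := rfl
theorem F258506 : act 2 n164046 = n78811 := d1_1 D164046 (iv4 D78811) D78810
theorem F258507 : act 6 n164046 = n81888 := d10_2 F124337 D164046 (iv4 D81888)
theorem F258510 : act 1 n164046 = n86157 := d15_0 (iv0 F141843) F141842 (iv2 F258506)
def n164047 : Q := act 0 n78811
theorem D164047 : act 0 n78811 = n164047 := rfl
theorem F258511 : act 4 n164047 = n162161 := d18_3 F124309 D78811 D164047 F256255 (iv4 F126681) F126684 (iv4 D81416) (iv0 F125227) (iv5 F54646)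
theorem F258513 : act 1 n157898 = n164047 := d15_0 (iv0 D164047) (iv7 F141842) (iv2 F248808)
theorem F258514 : act 7 n164047 = n86157 := d15_2 (iv0 F248809) F258513 F132116
theorem F258515 : act 6 n157908 = n164047 := d14_5 F258514 (iv6 D86157) (iv7 F60679) D75225 D157908
def n164048 : Q := act 3 n78811
theorem D164048 : act 3 n78811 = n164048 := rfl
theorem F258516 : act 4 n164048 = n78813 := d5_2 D78811 D164048 (iv3 D78813) (iv4 D35879) D35878
theorem F258517 : act 6 n164048 = n86055 := d7_2 (iv6 F119960) D164048 (iv3 D86055)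
def n164050 : Q := act 4 n78812
theorem D164050 : act 4 n78812 = n164050 := rfl
theorem F258519 : act 6 n164050 = n86057 := d10_2 (iv6 F119962) D164050 (iv4 D86057)
def n164051 : Q := act 0 n78813
theorem D164051 : act 0 n78813 = n164051 := rfl
theorem F258520 : act 1 n163372 = n164051 := d15_0 (iv0 D164051) F119964 D163372
def n164052 : Q := act 1 n78813
theorem D164052 : act 1 n78813 = n164052 := rfl
def n164053 : Q := act 2 n78813
theorem D164053 : act 2 n78813 = n164053 := rfl
theorem F258522 : act 6 n164053 = n86060 := d3_2 (iv6 F119963) D164053 (iv2 D86060)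
theorem F258523 : act 7 n164053 = n163372 := d4_2 (iv7 F119964) D164053 (iv2 D163372)
theorem F258524 : act 1 n164053 = n163370 := d15_0 (iv0 D163370) (iv7 F119964) D164053
theorem F258525 : act 1 n164052 = n163372 := d15_1 D164052 (iv7 F258523) (iv2 D164053)
theorem F258526 : act 1 n163371 = n164053 := d15_1 D163371 F258523 (iv2 D163372)
def n164058 : Q := act 3 n78817
theorem D164058 : act 3 n78817 = n164058 := rfl
theorem F258535 : act 5 n164058 = n87527 := d6_2 F126145 D164058 F134420
theorem F258536 : act 6 n164058 = n157773 := d7_2 F126146 D164058 F248670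
theorem F258537 : act 7 n164058 = n86127 := d8_2 (iv7 F126138) D164058 F132072
def n164059 : Q := act 4 n78817
theorem D164059 : act 4 n78817 = n164059 := rfl
theorem F258538 : act 2 n164059 = n157766 := d1_1 D164059 F248653 F126144
theorem F258539 : act 6 n164059 = n157783 := d10_2 F126146 D164059 F248675
theorem F258540 : act 7 n164059 = n86130 := d11_2 (iv7 F126138) D164059 F132081
def n164062 : Q := act 3 n78819
theorem D164062 : act 3 n78819 = n164062 := rfl
theorem F258549 : act 4 n164062 = n78822 := d5_2 D78819 D164062 (iv3 D78822) (iv4 D35882) D35881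
def n164064 : Q := act 6 n78819
theorem D164064 : act 6 n78819 = n164064 := rfl
theorem F258552 : act 7 n164064 = n86033 := d14_2 F141840 D164064 (iv6 D86033) (iv7 F92668) (iv6 F141839)
def n164066 : Q := act 0 n78822
theorem D164066 : act 0 n78822 = n164066 := rfl
def n164067 : Q := act 1 n78822
theorem D164067 : act 1 n78822 = n164067 := rfl
def n164068 : Q := act 2 n78822
theorem D164068 : act 2 n78822 = n164068 := rfl
theorem F258555 : act 3 n164068 = n163372 := d0_2 D78822 D164068 (iv2 D163372) (iv3 D78508) F92678
theorem F258556 : act 7 n164068 = n163365 := d4_2 (iv7 F119974) D164068 (iv2 D163365)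
theorem F258557 : act 1 n164068 = n163363 := d15_0 (iv0 D163363) (iv7 F119974) D164068
theorem F258558 : act 1 n164067 = n163365 := d15_1 D164067 (iv7 F258556) (iv2 D164068)
theorem F258559 : act 1 n163364 = n164068 := d15_1 D163364 F258556 (iv2 D163365)
def n164070 : Q := act 6 n78822
theorem D164070 : act 6 n78822 = n164070 := rfl
theorem F258562 : act 3 n164070 = n78824 := d7_1 D164070 (iv6 D78824) D78822
theorem F258563 : act 7 n164070 = n86042 := d14_2 (iv7 F119974) D164070 (iv6 D86042) (iv7 F92669) (iv6 F119691)
def n164074 : Q := act 0 n78826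
theorem D164074 : act 0 n78826 = n164074 := rfl
theorem F258569 : act 1 n158033 = n164074 := d15_0 (iv0 D164074) F119986 D158033
def n164075 : Q := act 1 n78826
theorem D164075 : act 1 n78826 = n164075 := rfl
def n164076 : Q := act 2 n78826
theorem D164076 : act 2 n78826 = n164076 := rfl
theorem F258570 : act 3 n164076 = n78834 := d0_2 D78826 D164076 (iv2 D78834) (iv3 D35888) (iv2 F56542)
theorem F258571 : act 7 n164076 = n158033 := d4_2 (iv7 F119986) D164076 (iv2 D158033)
theorem F258572 : act 1 n164076 = n158031 := d15_0 (iv0 D158031) (iv7 F119986) D164076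
theorem F258573 : act 1 n164075 = n158033 := d15_1 D164075 (iv7 F258571) (iv2 D164076)
theorem F258574 : act 1 n158032 = n164076 := d15_1 D158032 F258571 (iv2 D158033)
def n164077 : Q := act 6 n78826
theorem D164077 : act 6 n78826 = n164077 := rfl
theorem F258575 : act 3 n164077 = n78827 := d7_1 D164077 (iv6 D78827) D78826
def n164078 : Q := act 1 n78827
theorem D164078 : act 1 n78827 = n164078 := rfl
theorem F258576 : act 1 n164078 = n78841 := d15_1 D164078 (iv7 D78841) (iv2 F119987)
theorem F258577 : act 7 n164078 = n78838 := d15_2 (iv0 F257761) D164078 (iv2 F257757)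
theorem F258578 : act 4 n90988 = n164078 := d20_0 (iv1 D164078) F119988 (iv3 F88525) F115484 F119166 (iv4 F122346) (iv1 F192922) F192918 (iv3 F135993) (iv1 F140010)
theorem F258579 : act 2 n164078 = n78839 := d1_1 F258578 (iv4 F135992) F140012
theorem F258580 : act 6 n164078 = n83263 := d10_2 (iv6 F140013) F258578 F135935
def n164079 : Q := act 5 n78827
theorem D164079 : act 5 n78827 = n164079 := rfl
theorem F258581 : act 2 n164079 = n78840 := d2_1 D164079 (iv5 D78840) (iv2 F119987)
def n164080 : Q := act 7 n78827
theorem D164080 : act 7 n78827 = n164080 := rfl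
theorem F258582 : act 2 n164080 = n78841 := d4_1 D164080 (iv7 D78841) (iv2 F119987)
theorem F258583 : act 4 n164080 = n78829 := d11_1 D164080 (iv7 D78829) (iv4 F119988)
theorem F258584 : act 6 n164080 = n158038 := d14_1 D164080 (iv7 D158038) (iv6 D75281) (iv7 F56543) D78827
theorem F258585 : act 1 n78839 = n164080 := d15_1 D78839 (iv7 D164080) F119987
theorem F258586 : act 1 n164080 = n78838 := d15_1 F258585 (iv7 F258577) F258579
def n164081 : Q := act 3 n78828
theorem D164081 : act 3 n78828 = n164081 := rfl
theorem F258587 : act 2 n164081 = n158017 := d0_1 D164081 (iv3 F256100) (iv2 F199068) (iv3 D78845) (iv2 F119993)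
theorem F258588 : act 5 n164081 = n84224 := d6_2 F119992 D164081 F129296
theorem F258589 : act 6 n164081 = n83120 := d7_2 F119991 D164081 (iv3 F128136)
theorem F258590 : act 7 n164081 = n78842 := d8_2 (iv7 F119990) D164081 (iv3 D78842)
theorem F258591 : act 4 n164081 = n121147 := d20_6 D55912 F114171 F56557 (iv3 F56554) (iv1 F119989) D164081 (iv1 D121147) F88443 F43512 D26967
theorem F258592 : act 0 n158018 = n164081 := d20_10 F258591 (iv1 D121147) F88443 F43512 D26967 F88248 D120967 (iv1 F192935) (iv4 F255423) F255422
theorem F258593 : act 1 n84247 = n164081 := d15_0 (iv0 F258592) (iv7 D158018) (iv2 F129305)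
def n164082 : Q := act 4 n78828
theorem D164082 : act 4 n78828 = n164082 := rfl
theorem F258594 : act 2 n164082 = n78846 := d1_1 D164082 (iv4 D78846) (iv2 F119993)
theorem F258595 : act 6 n164082 = n83261 := d10_2 F119991 D164082 (iv4 D83261)
theorem F258596 : act 7 n164082 = n78843 := d11_2 (iv7 F119990) D164082 (iv4 D78843)
theorem F258597 : act 0 n164082 = n84252 := d20_1 D164082 F129323 F63835 D55791 (iv3 F88248) D55912 F114171 F56557 (iv3 F56554) (iv1 F119989)
theorem F258598 : act 1 n164082 = n158099 := d15_1 (iv0 F258597) (iv7 D158099) (iv2 F129322)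
theorem F258599 : act 1 n158099 = n158841 := d15_1 F258598 F250093 (iv2 F258594)
def n164083 : Q := act 0 n78830
theorem D164083 : act 0 n78830 = n164083 := rfl
theorem F258600 : act 1 n102785 = n164083 := d15_0 (iv0 D164083) F119999 D102785
def n164084 : Q := act 1 n78830
theorem D164084 : act 1 n78830 = n164084 := rfl
def n164085 : Q := act 2 n78830
theorem D164085 : act 2 n78830 = n164085 := rfl
theorem F258601 : act 3 n164085 = n102815 := d0_2 D78830 D164085 (iv2 D102815) (iv3 D47684) F56549
theorem F258602 : act 7 n164085 = n102785 := d4_2 (iv7 F119999) D164085 (iv2 D102785)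
theorem F258603 : act 1 n164085 = n102783 := d15_0 (iv0 D102783) (iv7 F119999) D164085
theorem F258604 : act 1 n164084 = n102785 := d15_1 D164084 (iv7 F258602) (iv2 D164085)
theorem F258605 : act 1 n102784 = n164085 := d15_1 D102784 F258602 (iv2 D102785)
def n164086 : Q := act 6 n78830
theorem D164086 : act 6 n78830 = n164086 := rfl
theorem F258606 : act 3 n164086 = n78831 := d7_1 D164086 (iv6 D78831) D78830
def n164087 : Q := act 5 n78831
theorem D164087 : act 5 n78831 = n164087 := rfl
theorem F258607 : act 2 n164087 = n102818 := d2_1 D164087 (iv5 D102818) (iv2 F120000)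
def n164088 : Q := act 7 n78831
theorem D164088 : act 7 n78831 = n164088 := rfl
theorem F258609 : act 4 n164088 = n89646 := d11_1 D164088 (iv7 D89646) (iv4 F120001)
theorem F258611 : act 1 n84276 = n164088 := d15_1 (iv0 F250150) (iv7 D164088) F120000
theorem F258613 : act 0 n79629 = n120906 := d20_7 (iv4 F258609) (iv1 F258611) (iv4 D84276) (iv3 F121545) (iv1 D57929) (iv3 F91646) (iv4 F122343) F192819 F119076 (iv1 F137438)
def n164089 : Q := act 3 n78832
theorem D164089 : act 3 n78832 = n164089 := rfl
theorem F258614 : act 4 n164089 = n79646 := d20_6 (iv4 D16730) (iv1 F17606) D17376 D35888 D78832 D164089 (iv1 D79646) (iv4 F112906) (iv3 D75303) (iv1 D34479)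
def n164090 : Q := act 4 n78832
theorem D164090 : act 4 n78832 = n164090 := rfl
theorem F258615 : act 2 n164090 = n121157 := d1_1 D164090 F193227 F257975
theorem F258616 : act 3 n164090 = n163336 := d5_1 D164090 (iv4 F258179) F258184 (iv4 F258614) (iv3 D164089)
theorem F258617 : act 7 n164090 = n157968 := d11_2 (iv7 F257974) D164090 F248858
theorem F258618 : act 5 n164090 = n124293 := d17_5 (iv1 D75817) D75819 D158903 (iv5 F254080) D164090 (iv0 F248713) F248720 F254228 F122831
theorem F258619 : act 1 n164090 = n86180 := d18_8 (iv1 F258468) F257780 (iv1 F193374) F119938 (iv5 F67485) (iv4 F141767) F141769 D164090 (iv5 F201643)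
theorem F258620 : act 1 n163320 = n164090 := d15_1 D163320 F258617 F257971
theorem F258621 : act 4 n163320 = n158112 := d20_2 D164090 (iv1 F258620) (iv3 D158112) (iv1 D75306) (iv3 D34480) (iv4 D16730) (iv1 F17606) D17376 D35888 D78832
theorem F258622 : act 0 n158112 = n92191 := d20_1 F258621 (iv4 D92191) D92190 (iv1 F258183) (iv3 D78703) D78704 (iv1 F258176) F258179 (iv3 F258616) (iv1 F258620)
theorem F258623 : act 1 n158112 = n92196 := d15_1 (iv0 F258622) (iv7 F254446) (iv2 F254447)
def n164091 : Q := act 6 n78832
theorem D164091 : act 6 n78832 = n164091 := rfl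
def n164092 : Q := act 3 n78833
theorem D164092 : act 3 n78833 = n164092 := rfl
theorem F258624 : act 4 n164092 = n163326 := d5_2 F120002 D164092 (iv3 D163326) (iv4 D78493) D78492
def n164093 : Q := act 6 n78833
theorem D164093 : act 6 n78833 = n164093 := rfl
theorem F258625 : act 4 n164093 = n163322 := d10_1 D164093 (iv6 D163322) F120002
def n164094 : Q := act 5 n78834
theorem D164094 : act 5 n78834 = n164094 := rfl
theorem F258626 : act 2 n164094 = n78835 := d2_1 D164094 (iv5 D78835) D78834
theorem F258627 : act 1 n164094 = n158896 := d17_6 D34808 F250799 (iv1 F88542) F88540 (iv4 F120003) D164094 (iv5 D158896) (iv0 D75816) F54921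
theorem F258628 : act 1 n158900 = n164094 := d15_0 F258627 (iv7 F254230) F254239
def n164095 : Q := act 6 n78834
theorem D164095 : act 6 n78834 = n164095 := rfl
theorem F258629 : act 2 n164095 = n78836 := d3_1 D164095 (iv6 D78836) D78834
theorem F258630 : act 4 n164095 = n78858 := d10_1 D164095 (iv6 D78858) (iv4 F120003)
def n164096 : Q := act 4 n78835
theorem D164096 : act 4 n78835 = n164096 := rfl
def n164097 : Q := act 6 n78835
theorem D164097 : act 6 n78835 = n164097 := rfl
theorem F258631 : act 3 n164097 = n78837 := d7_1 D164097 (iv6 D78837) (iv3 F120004)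
def n164098 : Q := act 0 n78836
theorem D164098 : act 0 n78836 = n164098 := rfl
def n164099 : Q := act 1 n78836
theorem D164099 : act 1 n78836 = n164099 := rfl
def n164100 : Q := act 5 n78836
theorem D164100 : act 5 n78836 = n164100 := rfl
theorem F258632 : act 3 n164100 = n78840 := d6_1 D164100 (iv5 D78840) (iv3 F120005)
def n164101 : Q := act 7 n78836
theorem D164101 : act 7 n78836 = n164101 := rfl
theorem F258633 : act 3 n164101 = n78841 := d8_1 D164101 (iv7 D78841) (iv3 F120005)
theorem F258634 : act 4 n164101 = n78862 := d11_1 D164101 (iv7 D78862) (iv4 F120006)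
def n164102 : Q := act 0 n78837
theorem D164102 : act 0 n78837 = n164102 := rfl
def n164103 : Q := act 1 n78837
theorem D164103 : act 1 n78837 = n164103 := rfl
def n164104 : Q := act 5 n78837
theorem D164104 : act 5 n78837 = n164104 := rfl
theorem F258635 : act 6 n164104 = n78840 := d12_2 D78837 D164104 (iv5 D78840) (iv6 D35890) D35889
def n164105 : Q := act 7 n78837
theorem D164105 : act 7 n78837 = n164105 := rfl
def n164106 : Q := act 3 n78838
theorem D164106 : act 3 n78838 = n164106 := rfl
def n164107 : Q := act 5 n78838
theorem D164107 : act 5 n78838 = n164107 := rfl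
def n164108 : Q := act 6 n78838
theorem D164108 : act 6 n78838 = n164108 := rfl
theorem F258637 : act 4 n164108 = n88634 := d10_1 D164108 (iv6 F135987) (iv4 F254712)
theorem F258640 : act 1 n83463 = n164108 := d18_6 D88653 (iv4 F135944) (iv1 F128342) F127241 (iv5 F59321) (iv4 F128572) F258637 F135951 (iv5 D88654)
def n164109 : Q := act 3 n78839
theorem D164109 : act 3 n78839 = n164109 := rfl
def n164110 : Q := act 5 n78839
theorem D164110 : act 5 n78839 = n164110 := rfl
def n164111 : Q := act 0 n78840
theorem D164111 : act 0 n78840 = n164111 := rfl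
def n164112 : Q := act 1 n78840
theorem D164112 : act 1 n78840 = n164112 := rfl
def n164113 : Q := act 4 n78840
theorem D164113 : act 4 n78840 = n164113 := rfl
def n164114 : Q := act 7 n78840
theorem D164114 : act 7 n78840 = n164114 := rfl
theorem F258641 : act 5 n164114 = n78841 := d13_1 D164114 (iv7 D78841) D78840
def n164115 : Q := act 0 n78842
theorem D164115 : act 0 n78842 = n164115 := rfl
theorem F258643 : act 1 n158017 = n164115 := d15_0 (iv0 D164115) (iv7 F258590) F258587
theorem F258644 : act 7 n164115 = n84247 := d15_2 D158017 F258643 F129305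
theorem F258645 : act 3 n78874 = n164115 := d8_3 F258644 F129306 (iv7 F120041)
def n164117 : Q := act 4 n78842
theorem D164117 : act 4 n78842 = n164117 := rfl
theorem F258655 : act 0 n121136 = n164117 := d20_7 (iv4 F258583) (iv1 F258585) (iv4 F135992) F135991 F119516 (iv3 F88434) (iv4 F193186) (iv4 D164117) (iv3 D78842) (iv1 F119998)
def n164119 : Q := act 0 n78843
theorem D164119 : act 0 n78843 = n164119 := rfl
theorem F258661 : act 4 n164119 = n88664 := d20_2 D78843 D164119 F135993 (iv1 F88258) (iv3 D35803) D35804 F115715 F28333 (iv3 F28331) D35891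
theorem F258662 : act 1 n78846 = n164119 := d15_0 (iv0 D164119) (iv7 F258596) F258594
theorem F258664 : act 6 n158105 = n164119 := d10_0 F258661 F135995 (iv4 F249049)
theorem F258665 : act 7 n84252 = n164119 := d11_0 F258661 (iv7 D88664) (iv4 F129323)
theorem E24084 : n158097 = n78846 := (c15_1 D158097 F258662 (iv7 F258665) F129322)
theorem F258666 : act 0 n78846 = n75302 := (sb E24084 (iv1 D158097))
theorem E24085 : n158096 = n78843 := ((c15_4 (iv0 D158096) (iv0 F258666) (iv7 F250093) F250091)).symm
theorem F258667 : act 1 n78843 = n75302 := (sb E24085 (iv0 D158096))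
def n164120 : Q := act 3 n78843
theorem D164120 : act 3 n78843 = n164120 := rfl
def n164121 : Q := act 5 n78843
theorem D164121 : act 5 n78843 = n164121 := rfl
def n164122 : Q := act 0 n78844
theorem D164122 : act 0 n78844 = n164122 := rfl
theorem F258669 : act 6 n164122 = n158080 := d21_5 F44784 D56793 F117778 (iv6 F120008) D164122 (iv5 D158080) (iv1 F112897) F59900 (iv6 D38485) (iv1 F117706)
theorem F258671 : act 1 n78847 = n164122 := d15_0 (iv0 D164122) F120009 (iv2 F120010)
def n164123 : Q := act 4 n78844
theorem D164123 : act 4 n78844 = n164123 := rfl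
theorem F258673 : act 6 n164123 = n83438 := d10_2 (iv6 F120008) D164123 (iv4 D83438)
theorem F258674 : act 7 n164123 = n84228 := d11_2 (iv7 F120009) D164123 F129300
def n164125 : Q := act 3 n78846
theorem D164125 : act 3 n78846 = n164125 := rfl
theorem F258678 : act 4 n164125 = n162277 := d5_2 D78846 D164125 (iv3 D162277) F194019 (iv3 D78845)
def n164126 : Q := act 5 n78846
theorem D164126 : act 5 n78846 = n164126 := rfl
def n164127 : Q := act 4 n78847
theorem D164127 : act 4 n78847 = n164127 := rfl
theorem F258679 : act 2 n164127 = n84228 := d1_1 D164127 F129300 (iv2 F120010)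
theorem F258680 : act 6 n164127 = n82414 := d10_2 (iv6 F120011) D164127 (iv4 D82414)
def n164128 : Q := act 6 n78849
theorem D164128 : act 6 n78849 = n164128 := rfl
theorem F258681 : act 3 n164128 = n78852 := d7_1 D164128 (iv6 D78852) D78849
def n164129 : Q := act 1 n78850
theorem D164129 : act 1 n78850 = n164129 := rfl
theorem F258682 : act 1 n164129 = n78855 := d15_1 D164129 F254446 F254440
def n164130 : Q := act 3 n78850
theorem D164130 : act 3 n78850 = n164130 := rfl
def n164131 : Q := act 5 n78850
theorem D164131 : act 5 n78850 = n164131 := rfl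
def n164132 : Q := act 6 n78850
theorem D164132 : act 6 n78850 = n164132 := rfl
theorem F258683 : act 4 n164132 = n78852 := d10_1 D164132 (iv6 D78852) D78850
def n164133 : Q := act 0 n78852
theorem D164133 : act 0 n78852 = n164133 := rfl
def n164134 : Q := act 1 n78852
theorem D164134 : act 1 n78852 = n164134 := rfl
def n164135 : Q := act 5 n78852
theorem D164135 : act 5 n78852 = n164135 := rfl
theorem F258684 : act 6 n164135 = n125441 := d12_2 D78852 D164135 (iv5 D125441) (iv6 D58728) F254073
def n164136 : Q := act 7 n78852
theorem D164136 : act 7 n78852 = n164136 := rfl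
def n164137 : Q := act 4 n78854
theorem D164137 : act 4 n78854 = n164137 := rfl
theorem F258685 : act 1 n164137 = n125366 := d18_6 D39971 D86352 F201728 (iv4 D125447) (iv5 F254076) D164137 (iv4 D125366) (iv0 D58705) F45071
theorem F258686 : act 0 n164137 = n125370 := d20_7 F257780 (iv1 F193374) F119938 (iv3 F67484) (iv1 F67489) D78854 D164137 (iv4 D125370) D125369 (iv1 F258468)
def n164138 : Q := act 6 n78854
theorem D164138 : act 6 n78854 = n164138 := rfl
theorem F258687 : act 3 n164138 = n78857 := d7_1 D164138 (iv6 D78857) D78854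
def n164139 : Q := act 3 n78855
theorem D164139 : act 3 n78855 = n164139 := rfl
theorem F258688 : act 7 n164139 = n158092 := d8_2 (iv7 F254446) D164139 F249043
theorem F258689 : act 0 n84253 = n164139 := d20_4 F56548 F31458 (iv4 F59880) D84253 (iv3 D164139) (iv4 D78855) (iv1 D35895) (iv4 F56552) (iv3 D35888) D35887
theorem F258690 : act 1 n158094 = n164139 := d15_0 (iv0 F258689) F129324 D158094
def n164140 : Q := act 5 n78855
theorem D164140 : act 5 n78855 = n164140 := rfl
def n164141 : Q := act 6 n78855
theorem D164141 : act 6 n78855 = n164141 := rfl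
theorem F258691 : act 4 n164141 = n78857 := d10_1 D164141 (iv6 D78857) D78855
def n164142 : Q := act 0 n78857
theorem D164142 : act 0 n78857 = n164142 := rfl
def n164143 : Q := act 1 n78857
theorem D164143 : act 1 n78857 = n164143 := rfl
def n164144 : Q := act 5 n78857
theorem D164144 : act 5 n78857 = n164144 := rfl
theorem F258692 : act 6 n164144 = n125457 := d12_2 D78857 D164144 (iv5 D125457) (iv6 D58733) F254077
def n164145 : Q := act 7 n78857
theorem D164145 : act 7 n78857 = n164145 := rfl
def n164146 : Q := act 0 n78858
theorem D164146 : act 0 n78858 = n164146 := rfl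
def n164147 : Q := act 1 n78858
theorem D164147 : act 1 n78858 = n164147 := rfl
theorem F258693 : act 1 n164147 = n78862 := d15_1 D164147 (iv7 D78862) (iv2 F120014)
def n164148 : Q := act 5 n78858
theorem D164148 : act 5 n78858 = n164148 := rfl
theorem F258694 : act 2 n164148 = n78861 := d2_1 D164148 (iv5 D78861) (iv2 F120014)
def n164149 : Q := act 7 n78858
theorem D164149 : act 7 n78858 = n164149 := rfl
theorem F258695 : act 2 n164149 = n78862 := d4_1 D164149 (iv7 D78862) (iv2 F120014)
theorem F258696 : act 1 n78862 = n164146 := d15_0 (iv0 D164146) D164149 F258695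
theorem F258697 : act 1 n78860 = n164149 := d15_1 D78860 (iv7 D164149) F120014
theorem F258698 : act 1 n164149 = n78859 := d15_0 (iv0 D78859) D78862 (iv2 F258695)
def n164150 : Q := act 2 n78859
theorem D164150 : act 2 n78859 = n164150 := rfl
theorem F258699 : act 7 n78860 = n164150 := d15_2 (iv0 D78859) D78860 (iv2 D164150)
def n164151 : Q := act 3 n78859
theorem D164151 : act 3 n78859 = n164151 := rfl
def n164152 : Q := act 4 n78859
theorem D164152 : act 4 n78859 = n164152 := rfl
def n164153 : Q := act 5 n78859
theorem D164153 : act 5 n78859 = n164153 := rfl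
def n164154 : Q := act 6 n78859
theorem D164154 : act 6 n78859 = n164154 := rfl
def n164155 : Q := act 7 n78859
theorem D164155 : act 7 n78859 = n164155 := rfl
theorem F258700 : act 2 n164155 = n78860 := d4_1 D164155 F258699 (iv2 D164150)
def n164156 : Q := act 3 n78860
theorem D164156 : act 3 n78860 = n164156 := rfl
def n164157 : Q := act 4 n78860
theorem D164157 : act 4 n78860 = n164157 := rfl
def n164158 : Q := act 5 n78860
theorem D164158 : act 5 n78860 = n164158 := rfl
def n164159 : Q := act 6 n78860
theorem D164159 : act 6 n78860 = n164159 := rfl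
def n164163 : Q := act 7 n78861
theorem D164163 : act 7 n78861 = n164163 := rfl
theorem F258702 : act 5 n164163 = n78862 := d13_1 D164163 (iv7 D78862) D78861
def n164164 : Q := act 3 n78863
theorem D164164 : act 3 n78863 = n164164 := rfl
theorem F258703 : act 5 n164164 = n163574 := d6_2 (iv5 F120017) D164164 (iv3 D163574)
def n164174 : Q := act 4 n78867
theorem D164174 : act 4 n78867 = n164174 := rfl
theorem F258722 : act 6 n164174 = n157766 := d10_2 F120023 D164174 F248653
def n164175 : Q := act 4 n78868
theorem D164175 : act 4 n78868 = n164175 := rfl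
theorem F258727 : act 2 n164175 = n78869 := d1_1 D164175 (iv4 D78869) D78868
theorem F258728 : act 6 n164175 = n81639 := d10_2 (iv6 F120027) D164175 (iv4 D81639)
theorem F258729 : act 7 n164175 = n157784 := d11_2 (iv7 F120028) D164175 (iv4 D157784)
theorem F258730 : act 1 n164175 = n86133 := d15_0 (iv0 F257762) F193430 (iv2 F258727)
def n164176 : Q := act 0 n78869
theorem D164176 : act 0 n78869 = n164176 := rfl
theorem F258731 : act 1 n157784 = n164176 := d15_0 (iv0 D164176) (iv7 F193430) (iv2 F248676)
theorem F258732 : act 7 n164176 = n86133 := d15_2 (iv0 F256405) F258731 F132088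
def n164177 : Q := act 3 n78869
theorem D164177 : act 3 n78869 = n164177 := rfl
theorem F258734 : act 6 n164177 = n160490 := d7_2 (iv6 F120031) D164177 (iv3 D160490)
theorem F258735 : act 7 n164177 = n163550 := d8_2 F193430 D164177 F257812
def n164178 : Q := act 5 n78869
theorem D164178 : act 5 n78869 = n164178 := rfl
def n164180 : Q := act 4 n78870
theorem D164180 : act 4 n78870 = n164180 := rfl
theorem F258739 : act 6 n164180 = n84809 := d10_2 (iv6 F120033) D164180 (iv4 D84809)
theorem F258740 : act 7 n164180 = n86066 := d11_2 (iv7 F120034) D164180 F132003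
def n164183 : Q := act 2 n78871
theorem D164183 : act 2 n78871 = n164183 := rfl
theorem F258743 : act 6 n164183 = n160494 := d3_2 (iv6 F120035) D164183 (iv2 D160494)
theorem F258744 : act 7 n164183 = n163549 := d4_2 (iv7 F120036) D164183 (iv2 D163549)
theorem F258745 : act 1 n164183 = n163547 := d15_0 (iv0 D163547) (iv7 F120036) D164183
theorem F258747 : act 1 n163548 = n164183 := d15_1 D163548 F258744 (iv2 D163549)
def n164184 : Q := act 5 n78871
theorem D164184 : act 5 n78871 = n164184 := rfl
theorem F258749 : act 7 n164184 = n163551 := d13_2 (iv7 F120036) D164184 (iv5 D163551)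
def n164188 : Q := act 3 n78873
theorem D164188 : act 3 n78873 = n164188 := rfl
theorem F258759 : act 6 n164188 = n84810 := d7_2 (iv6 F120039) D164188 (iv3 D84810)
def n164189 : Q := act 4 n78874
theorem D164189 : act 4 n78874 = n164189 := rfl
theorem F258761 : act 2 n164189 = n157880 := d1_1 D164189 F248796 F120042
theorem F258762 : act 6 n164189 = n157897 := d10_2 F120044 D164189 F248807
theorem F258763 : act 7 n164189 = n86154 := d11_2 (iv7 F120041) D164189 F132109
theorem F258764 : act 0 n164189 = n157878 := d20_1 D164189 (iv4 F250606) F250605 (iv1 D90988) (iv3 F122333) (iv4 F132089) (iv1 F258730) (iv4 D164175) F120026 F120046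
theorem F258765 : act 0 n157877 = n164189 := d20_1 (iv4 F248795) (iv4 D164189) F258645 (iv1 F258643) (iv3 F256100) F199071 (iv1 D121583) F88815 (iv3 F88804) D121572
def n164190 : Q := act 4 n78875
theorem D164190 : act 4 n78875 = n164190 := rfl
theorem F258766 : act 2 n164190 = n78876 := d1_1 D164190 (iv4 D78876) D78875
theorem F258767 : act 6 n164190 = n161960 := d10_2 F198832 D164190 F255959
theorem F258769 : act 0 n164190 = n86160 := d20_1 D164190 F132126 F88804 D56154 (iv3 F91289) D79641 (iv1 F256403) F256400 F119167 (iv1 F120049)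
theorem F258770 : act 1 n164190 = n157908 := d15_1 (iv0 F258769) (iv7 D157908) (iv2 F132125)
theorem F258771 : act 1 n157908 = n121303 := d15_1 F258770 F193423 (iv2 F258766)
def n164192 : Q := act 3 n78876
theorem D164192 : act 3 n78876 = n164192 := rfl
theorem F258777 : act 4 n164192 = n78877 := d5_2 D78876 D164192 (iv3 D78877) (iv4 D35906) D35905
theorem F258778 : act 6 n164192 = n162808 := d7_2 F198955 D164192 F257089
theorem F258779 : act 7 n164192 = n163541 := d8_2 F193423 D164192 F257804
def n164193 : Q := act 5 n78876
theorem D164193 : act 5 n78876 = n164193 := rfl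
def n164194 : Q := act 0 n78877
theorem D164194 : act 0 n78877 = n164194 := rfl
theorem F258780 : act 1 n163540 = n164194 := d15_0 (iv0 D164194) F120052 D163540
def n164195 : Q := act 1 n78877
theorem D164195 : act 1 n78877 = n164195 := rfl
def n164196 : Q := act 2 n78877
theorem D164196 : act 2 n78877 = n164196 := rfl
theorem F258783 : act 7 n164196 = n163540 := d4_2 (iv7 F120052) D164196 (iv2 D163540)
theorem F258785 : act 1 n164195 = n163540 := d15_1 D164195 (iv7 F258783) (iv2 D164196)
theorem F258786 : act 1 n163539 = n164196 := d15_1 D163539 F258783 (iv2 D163540)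
def n164197 : Q := act 5 n78877
theorem D164197 : act 5 n78877 = n164197 := rfl
theorem F258788 : act 7 n164197 = n163542 := d13_2 (iv7 F120052) D164197 (iv5 D163542)
def n164200 : Q := act 0 n78880
theorem D164200 : act 0 n78880 = n164200 := rfl
theorem F258794 : act 2 n114457 = n164200 := d15_3 (iv0 D164200) F235012 D114457
theorem F258795 : act 1 n94344 = n164200 := d15_0 (iv0 D164200) F177462 F161641
theorem F258796 : act 7 n164200 = n105395 := d15_2 (iv0 F145478) F258795 F161726
theorem F258797 : act 6 n114452 = n164200 := d14_5 F258796 (iv6 D105395) F106566 D52825 D114452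
def n164201 : Q := act 4 n78880
theorem D164201 : act 4 n78880 = n164201 := rfl
theorem F258798 : act 3 n164201 = n159533 := d5_1 D164201 (iv4 D159533) (iv3 D76323) (iv4 F177616) D78880
theorem F258799 : act 7 n164201 = n120120 := d11_2 (iv7 F177462) D164201 (iv4 D120120)
def n164202 : Q := act 5 n78880
theorem D164202 : act 5 n78880 = n164202 := rfl
theorem F258800 : act 2 n164202 = n94345 := d2_1 D164202 F238452 F238453
theorem F258801 : act 3 n164202 = n78882 := d6_1 D164202 (iv5 D78882) D78880
theorem F258802 : act 7 n164202 = n94159 := d13_2 (iv7 F177462) D164202 (iv5 F161642)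
theorem F258803 : act 6 n94356 = n164202 := d14_5 F258802 (iv6 D94159) F69283 D44100 D94356
theorem F258804 : act 1 n94343 = n164202 := d15_1 D94343 F258802 F145140
theorem F258805 : act 1 n164202 = n94342 := d15_0 (iv0 D94342) D94345 (iv2 F258800)
def n164203 : Q := act 6 n78880
theorem D164203 : act 6 n78880 = n164203 := rfl
theorem F258806 : act 3 n164203 = n78883 := d7_1 D164203 (iv6 D78883) D78880
theorem F258807 : act 7 n164203 = n92886 := d14_2 (iv7 F177462) D164203 F143264 (iv7 F133597) F161640
theorem F258808 : act 5 n164203 = n92887 := d21_6 F40634 (iv1 F37427) (iv5 F46143) D52829 (iv1 F235012) D164203 (iv1 F251201) (iv5 D159505) (iv6 D76304) (iv1 F55131)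
def n164204 : Q := act 1 n78882
theorem D164204 : act 1 n78882 = n164204 := rfl
theorem F258809 : act 1 n164204 = n78887 := d15_1 D164204 (iv7 F177476) (iv2 F177477)
theorem F258810 : act 7 n164204 = n114857 := d15_2 (iv0 F193558) D164204 (iv2 F193555)
theorem F258811 : act 5 n164204 = n105465 := d17_7 (iv1 F179035) F251271 (iv1 D159537) (iv5 D76325) (iv4 F177616) D78882 D164204 F161876 (iv4 F179032)
theorem F258812 : act 2 n114967 = n164204 := d2_3 F258811 F161887 D114967
theorem F258813 : act 6 n106693 = n164204 := d12_0 F258811 (iv6 F178985) F178982 D157731 F248592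
theorem F258814 : act 0 n110783 = n113926 := d21_10 (iv5 D113926) (iv1 F161558) (iv5 F164398) F164399 (iv1 F164406) F258813 F258811 (iv1 D105465) F80537 D110783
def n164205 : Q := act 4 n78882
theorem D164205 : act 4 n78882 = n164205 := rfl
theorem F258815 : act 2 n164205 = n120118 := d1_1 D164205 (iv4 D120118) (iv2 F177477)
theorem F258816 : act 7 n164205 = n120121 := d11_2 (iv7 F177464) D164205 (iv4 D120121)
def n164206 : Q := act 6 n78882
theorem D164206 : act 6 n78882 = n164206 := rfl
theorem F258817 : act 2 n164206 = n120119 := d3_1 D164206 (iv6 D120119) (iv2 F177477)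
theorem F258818 : act 3 n164206 = n94356 := d7_1 D164206 F258803 F258801
theorem F258819 : act 5 n164206 = n115031 := d12_1 D164206 (iv6 D115031) (iv5 F120056) (iv6 D78883) D78882
theorem F258820 : act 7 n164206 = n94350 := d14_2 (iv7 F177464) D164206 (iv6 D94350) (iv7 F145136) (iv6 F161644)
def n164207 : Q := act 1 n78883
theorem D164207 : act 1 n78883 = n164207 := rfl
theorem F258821 : act 1 n164207 = n114409 := d15_1 D164207 (iv7 F178438) F177457
theorem F258822 : act 7 n164207 = n105406 := d15_2 (iv0 F178444) D164207 F161749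
theorem F258823 : act 4 n164207 = n114958 := d17_9 (iv1 F179048) F106066 (iv1 D48707) F36996 (iv4 F20216) D25746 D53079 (iv5 F120056) D164207
theorem F258824 : act 6 n114400 = n164207 := d21_3 D26992 D55981 (iv5 F178431) (iv1 D164207) (iv6 D78883) D78882 F193558 (iv5 D121344) (iv6 D55980) (iv1 D26991)
theorem F258825 : act 2 n164207 = n114412 := d3_1 F258824 (iv6 F178928) F178923
theorem F258826 : act 5 n164207 = n114892 := d12_1 F258824 (iv6 F250852) (iv5 F193561) (iv6 D121346) (iv5 F178431)
def n164208 : Q := act 4 n78887
theorem D164208 : act 4 n78887 = n164208 := rfl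
theorem F258827 : act 2 n164208 = n120121 := d1_1 D164208 (iv4 D120121) (iv2 F177467)
theorem F258828 : act 7 n164208 = n120118 := d11_2 F177476 D164208 (iv4 D120118)
def n164209 : Q := act 0 n78889
theorem D164209 : act 0 n78889 = n164209 := rfl
def n164210 : Q := act 1 n78889
theorem D164210 : act 1 n78889 = n164210 := rfl
theorem F258829 : act 6 n88511 = n164210 := d21_3 (iv5 F73630) F73631 D88511 (iv1 D164210) (iv6 D78889) (iv5 D35910) F37010 D43239 F67756 D43246
def n164211 : Q := act 7 n78889
theorem D164211 : act 7 n78889 = n164211 := rfl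
theorem F258832 : act 6 n164211 = n152406 := d14_1 D164211 (iv7 D152406) (iv6 D71898) (iv7 F56571) D78889
def n164212 : Q := act 0 n78890
theorem D164212 : act 0 n78890 = n164212 := rfl
def n164213 : Q := act 1 n78890
theorem D164213 : act 1 n78890 = n164213 := rfl
theorem F258833 : act 1 n164213 = n152438 := d15_1 D164213 (iv7 D152438) (iv2 F120059)
def n164214 : Q := act 5 n78890
theorem D164214 : act 5 n78890 = n164214 := rfl
theorem F258834 : act 2 n164214 = n152437 := d2_1 D164214 (iv5 D152437) (iv2 F120059)
theorem F258835 : act 3 n164214 = n83107 := d6_1 D164214 (iv5 D83107) (iv3 F120060)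
theorem F258836 : act 6 n164214 = n83103 := d12_2 D78890 D164214 (iv5 D83103) (iv6 D38253) (iv5 F56581)
def n164215 : Q := act 7 n78890
theorem D164215 : act 7 n78890 = n164215 := rfl
theorem F258837 : act 2 n164215 = n152438 := d4_1 D164215 (iv7 D152438) (iv2 F120059)
theorem F258838 : act 3 n164215 = n83108 := d8_1 D164215 (iv7 D83108) (iv3 F120060)
theorem F258839 : act 4 n164215 = n78894 := d11_1 D164215 (iv7 D78894) (iv4 F120061)
theorem F258840 : act 6 n164215 = n152412 := d14_1 D164215 (iv7 D152412) (iv6 D71901) (iv7 F56580) D78890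
theorem F258841 : act 1 n152438 = n164212 := d15_0 (iv0 D164212) D164215 F258837
theorem F258842 : act 1 n152436 = n164215 := d15_1 D152436 (iv7 D164215) F120059
theorem F258843 : act 4 n152436 = n120110 := d20_2 (iv4 F258839) (iv1 F258842) (iv3 D120110) (iv1 D55264) F42813 (iv4 F27744) D34895 F177636 F239633 (iv1 F120069)
theorem F258844 : act 1 n164215 = n152435 := d15_0 (iv0 D152435) D152438 (iv2 F258837)
def n164216 : Q := act 2 n78891
theorem D164216 : act 2 n78891 = n164216 := rfl
def n164217 : Q := act 3 n78891
theorem D164217 : act 3 n78891 = n164217 := rfl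
def n164218 : Q := act 4 n78891
theorem D164218 : act 4 n78891 = n164218 := rfl
def n164219 : Q := act 5 n78891
theorem D164219 : act 5 n78891 = n164219 := rfl
def n164220 : Q := act 6 n78891
theorem D164220 : act 6 n78891 = n164220 := rfl
theorem F258846 : act 5 n164220 = n152394 := d21_6 (iv5 D8147) D8144 D17386 D35914 D78891 D164220 (iv1 D152394) (iv5 D71892) (iv6 D33221) F27124
def n164221 : Q := act 7 n78891
theorem D164221 : act 7 n78891 = n164221 := rfl
def n164226 : Q := act 0 n78893
theorem D164226 : act 0 n78893 = n164226 := rfl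
def n164227 : Q := act 1 n78893
theorem D164227 : act 1 n78893 = n164227 := rfl
theorem F258848 : act 1 n164227 = n152452 := d15_1 D164227 (iv7 D152452) (iv2 F120063)
def n164228 : Q := act 4 n78893
theorem D164228 : act 4 n78893 = n164228 := rfl
theorem F258849 : act 2 n164228 = n152451 := d1_1 D164228 (iv4 D152451) (iv2 F120063)
theorem F258850 : act 6 n164228 = n78895 := d10_2 (iv6 F120064) D164228 (iv4 D78895)
def n164229 : Q := act 7 n78893
theorem D164229 : act 7 n78893 = n164229 := rfl
theorem F258851 : act 2 n164229 = n152452 := d4_1 D164229 (iv7 D152452) (iv2 F120063)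
theorem F258852 : act 5 n164229 = n78894 := d13_1 D164229 (iv7 D78894) D78893
theorem F258853 : act 1 n152452 = n164226 := d15_0 (iv0 D164226) D164229 F258851
theorem F258854 : act 1 n152450 = n164229 := d15_1 D152450 (iv7 D164229) F120063
theorem F258855 : act 1 n164229 = n152449 := d15_0 (iv0 D152449) D152452 (iv2 F258851)
def n164230 : Q := act 3 n78895
theorem D164230 : act 3 n78895 = n164230 := rfl
def n164231 : Q := act 5 n78895
theorem D164231 : act 5 n78895 = n164231 := rfl
theorem F258856 : act 4 n164231 = n119171 := d16_2 D78895 D164231 (iv5 D119171) (iv4 F94569) F94568 F54423 (iv5 F86726) F86725 F83165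
def n164232 : Q := act 6 n78896
theorem D164232 : act 6 n78896 = n164232 := rfl
theorem F258857 : act 2 n164232 = n119103 := d3_1 D164232 (iv6 D119103) (iv2 F120070)
theorem F258858 : act 5 n164232 = n117424 := d12_1 D164232 (iv6 D117424) F85426 (iv6 F82864) (iv5 F120071)
theorem F258859 : act 0 n164232 = n94046 := d21_4 (iv5 D49213) (iv1 F56587) (iv5 F120071) D164232 (iv6 D94046) (iv5 D43961) (iv1 F69112) D92487 F142363 F86718
def n164233 : Q := act 3 n78897
theorem D164233 : act 3 n78897 = n164233 := rfl
theorem F258862 : act 5 n164233 = n81671 := d6_2 (iv5 F120075) D164233 (iv3 D81671)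
theorem F258864 : act 0 n164233 = n95876 := d19_4 F28348 D35917 D78897 D164233 (iv5 F153345) F153344 (iv3 F153342) F153340 (iv5 F196648) (iv4 F241406) (iv3 D153587) (iv1 F109149) (iv5 F114410) (iv4 D76305) (iv3 F106548) F106546 F83643 (iv4 D34881) F27823
def n164234 : Q := act 6 n78897
theorem D164234 : act 6 n78897 = n164234 := rfl
theorem F258865 : act 4 n164234 = n78898 := d10_1 D164234 (iv6 D78898) D78897
def n164235 : Q := act 0 n78898
theorem D164235 : act 0 n78898 = n164235 := rfl
def n164236 : Q := act 1 n78898
theorem D164236 : act 1 n78898 = n164236 := rfl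
def n164237 : Q := act 5 n78898
theorem D164237 : act 5 n78898 = n164237 := rfl
theorem F258866 : act 2 n164237 = n127345 := d2_1 D164237 F204588 F193596
theorem F258868 : act 6 n164237 = n78899 := d12_2 D78898 D164237 (iv5 D78899) (iv6 D35918) D35917
theorem F258869 : act 4 n146453 = n164237 := d10_3 F258868 F120084 D146453
def n164238 : Q := act 7 n78898
theorem D164238 : act 7 n78898 = n164238 := rfl
theorem F258870 : act 3 n164238 = n78905 := d8_1 D164238 (iv7 D78905) (iv3 F120078)
theorem F258871 : act 6 n164238 = n152432 := d14_1 D164238 (iv7 D152432) (iv6 D71907) (iv7 F56589) D78898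
def n164239 : Q := act 6 n78900
theorem D164239 : act 6 n78900 = n164239 := rfl
theorem F258872 : act 2 n164239 = n160724 := d3_1 D164239 (iv6 D160724) (iv2 F120085)
theorem F258873 : act 3 n164239 = n78901 := d7_1 D164239 (iv6 D78901) D78900
def n164241 : Q := act 1 n78901
theorem D164241 : act 1 n78901 = n164241 := rfl
theorem F258874 : act 1 n164241 = n152412 := d15_1 D164241 (iv7 D152412) (iv2 F120088)
def n164243 : Q := act 7 n78901
theorem D164243 : act 7 n78901 = n164243 := rfl
theorem F258876 : act 2 n164243 = n152412 := d4_1 D164243 (iv7 D152412) (iv2 F120088)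
theorem F258877 : act 4 n164243 = n78905 := d11_1 D164243 (iv7 D78905) (iv4 F120089)
theorem F258878 : act 6 n164243 = n152438 := d14_1 D164243 (iv7 D152438) (iv6 D71909) (iv7 F56599) D78901
def n164248 : Q := act 6 n78902
theorem D164248 : act 6 n78902 = n164248 := rfl
theorem F258883 : act 5 n164248 = n146849 := d21_6 (iv5 D25548) (iv1 F20089) D17389 D35920 D78902 D164248 (iv1 D146849) F105037 (iv6 D33218) (iv1 F40400)
theorem F258884 : act 0 n152513 = n164248 := d21_10 F258883 (iv1 D146849) F105037 (iv6 D33218) (iv1 F40400) (iv6 F67856) (iv5 D43274) D43273 D92489 (iv6 F239690)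
theorem F258885 : act 1 n152278 = n164248 := d15_0 (iv0 F258884) (iv7 D152513) (iv2 F239352)
def n164252 : Q := act 5 n78903
theorem D164252 : act 5 n78903 = n164252 := rfl
def n164253 : Q := act 6 n78903
theorem D164253 : act 6 n78903 = n164253 := rfl
def n164259 : Q := act 5 n78906
theorem D164259 : act 5 n78906 = n164259 := rfl
theorem F258896 : act 4 n164259 = n117435 := d16_2 D78906 D164259 (iv5 D117435) F94296 F94294 F85127 (iv5 F85426) F85425 F83162
def n164260 : Q := act 6 n78907
theorem D164260 : act 6 n78907 = n164260 := rfl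
theorem F258900 : act 3 n164260 = n127344 := d7_1 D164260 (iv6 D127344) (iv3 F120099)
theorem F258901 : act 5 n164260 = n119103 := d12_1 D164260 (iv6 D119103) F86726 (iv6 F56605) (iv5 F120100)
def n164261 : Q := act 6 n78908
theorem D164261 : act 6 n78908 = n164261 := rfl
theorem F258902 : act 2 n164261 = n93850 := d3_1 D164261 (iv6 F251193) F251190
theorem F258903 : act 3 n164261 = n78909 := d7_1 D164261 (iv6 D78909) D78908
def n164262 : Q := act 0 n78909
theorem D164262 : act 0 n78909 = n164262 := rfl
def n164263 : Q := act 1 n78909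
theorem D164263 : act 1 n78909 = n164263 := rfl
theorem F258904 : act 1 n164263 = n78917 := d15_1 D164263 (iv7 D78917) (iv2 F120103)
def n164264 : Q := act 5 n78909
theorem D164264 : act 5 n78909 = n164264 := rfl
theorem F258905 : act 2 n164264 = n78916 := d2_1 D164264 (iv5 D78916) (iv2 F120103)
def n164265 : Q := act 7 n78909
theorem D164265 : act 7 n78909 = n164265 := rfl
theorem F258906 : act 2 n164265 = n78917 := d4_1 D164265 (iv7 D78917) (iv2 F120103)
theorem F258907 : act 4 n164265 = n78912 := d11_1 D164265 (iv7 D78912) (iv4 F120104)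
theorem F258908 : act 1 n78917 = n164262 := d15_0 (iv0 D164262) D164265 F258906
theorem F258909 : act 1 n78915 = n164265 := d15_1 D78915 (iv7 D164265) F120103
theorem F258910 : act 4 n121317 = n164262 := d20_6 (iv4 F114619) (iv1 D48716) F37017 (iv3 F43575) D55968 D121317 (iv1 F258908) F120111 F56615 (iv1 F40459)
theorem F258911 : act 1 n164265 = n78914 := d15_0 (iv0 D78914) D78917 (iv2 F258906)
def n164266 : Q := act 2 n78910
theorem D164266 : act 2 n78910 = n164266 := rfl
theorem F258912 : act 7 n78911 = n164266 := d15_2 (iv0 D78910) D78911 (iv2 D164266)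
def n164267 : Q := act 3 n78910
theorem D164267 : act 3 n78910 = n164267 := rfl
def n164268 : Q := act 4 n78910
theorem D164268 : act 4 n78910 = n164268 := rfl
def n164269 : Q := act 5 n78910
theorem D164269 : act 5 n78910 = n164269 := rfl
def n164270 : Q := act 7 n78910
theorem D164270 : act 7 n78910 = n164270 := rfl
theorem F258913 : act 2 n164270 = n78911 := d4_1 D164270 F258912 (iv2 D164266)
def n164271 : Q := act 3 n78911
theorem D164271 : act 3 n78911 = n164271 := rfl
theorem F258914 : act 4 n164271 = n114822 := d20_6 (iv4 F136445) (iv1 F55141) F55137 (iv3 F56615) (iv1 F120105) D164271 (iv1 D114822) F83713 F40636 D25721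
def n164272 : Q := act 4 n78911
theorem D164272 : act 4 n78911 = n164272 := rfl
def n164273 : Q := act 5 n78911
theorem D164273 : act 5 n78911 = n164273 := rfl
theorem F258915 : act 6 n119008 = n164273 := d21_5 (iv5 D32747) (iv1 F26616) D26482 D54764 D119008 (iv5 D164273) (iv1 D78911) (iv5 F106104) (iv6 D69729) (iv1 F51835)
def n164274 : Q := act 6 n78911
theorem D164274 : act 6 n78911 = n164274 := rfl
def n164275 : Q := act 0 n78913
theorem D164275 : act 0 n78913 = n164275 := rfl
def n164276 : Q := act 1 n78913
theorem D164276 : act 1 n78913 = n164276 := rfl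
def n164277 : Q := act 5 n78913
theorem D164277 : act 5 n78913 = n164277 := rfl
theorem F258916 : act 6 n164277 = n78916 := d12_2 D78913 D164277 (iv5 D78916) (iv6 D35926) D35925
def n164278 : Q := act 7 n78913
theorem D164278 : act 7 n78913 = n164278 := rfl
theorem F258917 : act 4 n164278 = n83168 := d11_1 D164278 (iv7 D83168) (iv4 F120110)
def n164279 : Q := act 2 n78914
theorem D164279 : act 2 n78914 = n164279 := rfl
theorem F258918 : act 7 n78915 = n164279 := d15_2 (iv0 D78914) D78915 (iv2 D164279)
def n164280 : Q := act 3 n78914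
theorem D164280 : act 3 n78914 = n164280 := rfl
def n164281 : Q := act 4 n78914
theorem D164281 : act 4 n78914 = n164281 := rfl
def n164282 : Q := act 5 n78914
theorem D164282 : act 5 n78914 = n164282 := rfl
def n164283 : Q := act 6 n78914
theorem D164283 : act 6 n78914 = n164283 := rfl
def n164284 : Q := act 7 n78914
theorem D164284 : act 7 n78914 = n164284 := rfl
theorem F258919 : act 2 n164284 = n78915 := d4_1 D164284 F258918 (iv2 D164279)
def n164285 : Q := act 3 n78915
theorem D164285 : act 3 n78915 = n164285 := rfl
def n164286 : Q := act 4 n78915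
theorem D164286 : act 4 n78915 = n164286 := rfl
theorem F258920 : act 3 n121310 = n164286 := d20_5 F83209 (iv1 F76697) F76692 (iv3 F88585) (iv1 F193437) (iv4 D164286) (iv1 D78915) F56612 F28361 D17397
def n164287 : Q := act 5 n78915
theorem D164287 : act 5 n78915 = n164287 := rfl
def n164288 : Q := act 6 n78915
theorem D164288 : act 6 n78915 = n164288 := rfl
def n164289 : Q := act 0 n78916
theorem D164289 : act 0 n78916 = n164289 := rfl
def n164290 : Q := act 1 n78916
theorem D164290 : act 1 n78916 = n164290 := rfl
def n164291 : Q := act 4 n78916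
theorem D164291 : act 4 n78916 = n164291 := rfl
def n164293 : Q := act 1 n78918
theorem D164293 : act 1 n78918 = n164293 := rfl
theorem F258922 : act 1 n164293 = n78923 := d15_1 D164293 (iv7 D78923) D78918
def n164294 : Q := act 3 n78918
theorem D164294 : act 3 n78918 = n164294 := rfl
theorem F258923 : act 7 n164294 = n78924 := d8_2 F120112 D164294 (iv3 D78924)
def n164295 : Q := act 4 n78918
theorem D164295 : act 4 n78918 = n164295 := rfl
theorem F258924 : act 2 n164295 = n78920 := d1_1 D164295 (iv4 D78920) D78918
theorem F258925 : act 7 n164295 = n78925 := d11_2 F120112 D164295 (iv4 D78925)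
def n164296 : Q := act 5 n78918
theorem D164296 : act 5 n78918 = n164296 := rfl
theorem F258926 : act 2 n164296 = n78921 := d2_1 D164296 (iv5 D78921) D78918
theorem F258927 : act 7 n164296 = n78926 := d13_2 F120112 D164296 (iv5 D78926)
def n164297 : Q := act 6 n78918
theorem D164297 : act 6 n78918 = n164297 := rfl
theorem F258928 : act 2 n164297 = n78922 := d3_1 D164297 (iv6 D78922) D78918
def n164298 : Q := act 0 n78919
theorem D164298 : act 0 n78919 = n164298 := rfl
def n164299 : Q := act 1 n78919
theorem D164299 : act 1 n78919 = n164299 := rfl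
def n164300 : Q := act 2 n78919
theorem D164300 : act 2 n78919 = n164300 := rfl
def n164301 : Q := act 4 n78919
theorem D164301 : act 4 n78919 = n164301 := rfl
theorem F258929 : act 0 n164301 = n114824 := d20_7 F136674 (iv1 D34864) F27688 (iv3 F28361) D35927 D78919 D164301 F178900 F83716 (iv1 F43576)
theorem F258930 : act 0 n114814 = n164301 := d20_7 (iv4 F258907) (iv1 F258909) D164286 (iv3 F258920) (iv1 D121310) F88581 (iv4 F178887) (iv4 D164301) (iv3 D78919) (iv1 F120109)
def n164302 : Q := act 5 n78919
theorem D164302 : act 5 n78919 = n164302 := rfl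
theorem F258931 : act 3 n164302 = n78921 := d6_1 D164302 (iv5 D78921) D78919
def n164303 : Q := act 6 n78919
theorem D164303 : act 6 n78919 = n164303 := rfl
theorem F258932 : act 3 n164303 = n78922 := d7_1 D164303 (iv6 D78922) D78919
def n164304 : Q := act 7 n78919
theorem D164304 : act 7 n78919 = n164304 := rfl
theorem F258933 : act 3 n164304 = n78923 := d8_1 D164304 (iv7 D78923) D78919
def n164305 : Q := act 0 n78920
theorem D164305 : act 0 n78920 = n164305 := rfl
def n164306 : Q := act 1 n78920
theorem D164306 : act 1 n78920 = n164306 := rfl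
theorem F258934 : act 1 n164306 = n78925 := d15_1 D164306 (iv7 F258925) F258924
def n164307 : Q := act 3 n78920
theorem D164307 : act 3 n78920 = n164307 := rfl
def n164308 : Q := act 5 n78920
theorem D164308 : act 5 n78920 = n164308 := rfl
def n164309 : Q := act 6 n78920
theorem D164309 : act 6 n78920 = n164309 := rfl
theorem F258935 : act 4 n164309 = n78922 := d10_1 D164309 (iv6 D78922) D78920
def n164310 : Q := act 7 n78920
theorem D164310 : act 7 n78920 = n164310 := rfl
theorem F258936 : act 2 n164310 = n78925 := d4_1 D164310 (iv7 F258925) F258924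
theorem F258937 : act 4 n164310 = n78923 := d11_1 D164310 (iv7 D78923) D78920
theorem F258938 : act 1 n78925 = n164305 := d15_0 (iv0 D164305) D164310 F258936
def n164311 : Q := act 0 n78921
theorem D164311 : act 0 n78921 = n164311 := rfl
theorem F258939 : act 5 n164311 = n164253 := d21_2 D78921 D164311 (iv6 D164253) (iv1 D78903) (iv6 D35920) (iv5 D17389) (iv1 D8145) D8147 D17394 D35927
def n164313 : Q := act 4 n78921
theorem D164313 : act 4 n78921 = n164313 := rfl
def n164315 : Q := act 7 n78921
theorem D164315 : act 7 n78921 = n164315 := rfl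
theorem F258941 : act 2 n164315 = n78926 := d4_1 D164315 (iv7 F258927) F258926
theorem F258942 : act 5 n164315 = n78923 := d13_1 D164315 (iv7 D78923) D78921
theorem F258943 : act 1 n78926 = n164311 := d15_0 (iv0 D164311) D164315 F258941
theorem F258944 : act 6 n119081 = n164315 := d3_0 F258941 (iv6 F120114) D119081
def n164316 : Q := act 0 n78922
theorem D164316 : act 0 n78922 = n164316 := rfl
def n164317 : Q := act 1 n78922
theorem D164317 : act 1 n78922 = n164317 := rfl
def n164318 : Q := act 7 n78922
theorem D164318 : act 7 n78922 = n164318 := rfl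
def n164319 : Q := act 6 n78923
theorem D164319 : act 6 n78923 = n164319 := rfl
theorem F258946 : act 2 n164319 = n78927 := d3_1 D164319 (iv6 D78927) (iv2 F120113)
def n164320 : Q := act 0 n78924
theorem D164320 : act 0 n78924 = n164320 := rfl
def n164321 : Q := act 1 n78924
theorem D164321 : act 1 n78924 = n164321 := rfl
def n164322 : Q := act 2 n78924
theorem D164322 : act 2 n78924 = n164322 := rfl
def n164323 : Q := act 4 n78924
theorem D164323 : act 4 n78924 = n164323 := rfl
def n164324 : Q := act 5 n78924
theorem D164324 : act 5 n78924 = n164324 := rfl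
theorem F258947 : act 3 n164324 = n78926 := d6_1 D164324 (iv5 D78926) D78924
theorem F258948 : act 6 n119082 = n164324 := d7_0 F258947 (iv6 F120114) D119082
def n164325 : Q := act 6 n78924
theorem D164325 : act 6 n78924 = n164325 := rfl
theorem F258949 : act 3 n164325 = n78927 := d7_1 D164325 (iv6 D78927) D78924
def n164327 : Q := act 5 n78925
theorem D164327 : act 5 n78925 = n164327 := rfl
def n164328 : Q := act 6 n78925
theorem D164328 : act 6 n78925 = n164328 := rfl
theorem F258950 : act 4 n164328 = n78927 := d10_1 D164328 (iv6 D78927) D78925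
def n164330 : Q := act 0 n78927
theorem D164330 : act 0 n78927 = n164330 := rfl
theorem F258952 : act 5 n164330 = n152449 := d21_0 (iv1 F258855) F258852 F120066 (iv1 F120090) D164253 (iv5 F258939) (iv1 F258943) (iv5 D78926) D78927 D164330
def n164331 : Q := act 1 n78927
theorem D164331 : act 1 n78927 = n164331 := rfl
def n164332 : Q := act 5 n78927
theorem D164332 : act 5 n78927 = n164332 := rfl
theorem F258953 : act 6 n164332 = n119084 := d12_2 D78927 D164332 (iv5 D119084) F120114 (iv5 D78926)
theorem F258954 : act 0 n164332 = n159605 := d21_7 (iv5 D90249) F67859 (iv5 F142381) F142382 (iv1 F120108) D78927 D164332 (iv5 D159605) D159606 F251414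
theorem F258955 : act 0 n164219 = n164332 := d21_1 D164219 (iv5 D164332) (iv6 D78927) (iv1 D35928) (iv6 D17394) (iv5 D8147) D8144 D17386 D35914 D78891
theorem F258956 : act 7 n164219 = n152447 := d15_2 (iv0 F258954) (iv0 F258955) (iv2 F251408)
theorem F258957 : act 2 n152442 = n164219 := d4_3 F258956 (iv2 F251408) F251410
theorem E24086 : n152439 = n78891 := (c13_3 F258956 (iv5 D152447) F239625 D164219)
theorem E24087 : n159603 = n71913 := ((((iv1 F120067)).symm.trans (sb E24086 (iv1 F251402)))).symm
theorem E24089 : n164216 = n71910 := ((D164216).symm.trans (sb E24086 (iv2 D152439)))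
theorem E24090 : n164217 = n114099 := ((D164217).symm.trans (sb E24086 F239634))
theorem E24091 : n164221 = n71911 := ((D164221).symm.trans (sb E24086 (iv7 F239625)))
theorem E24092 : n78892 = n76359 := (((iv1 F120062)).symm.trans (sb E24087 (iv1 D159603)))
theorem F258958 : act 2 n71910 = n78891 := (sb E24089 (iv2 D164216))
theorem F258959 : act 3 n114099 = n78891 := (sb E24090 (iv3 D164217))
theorem F258960 : act 7 n71911 = n78891 := (sb E24091 (iv7 D164221))
theorem F258961 : act 0 n76359 = n35914 := (sb E24092 (iv1 D78892))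
theorem F258962 : act 1 n76359 = n71913 := (sb E24092 F120062)
theorem F258963 : act 0 n114460 = n164201 := d20_7 (iv4 F55217) (iv1 F55219) (iv4 F177837) D76359 F258961 (iv3 F120058) (iv4 F178515) (iv4 D164201) (iv3 D78880) (iv1 F56567)
theorem F258964 : act 7 n164218 = n152446 := d11_2 F258960 D164218 (iv4 D152446)
theorem F258965 : act 2 n152441 = n164218 := d4_3 F258964 (iv2 F251403) F251405
theorem F258966 : act 1 n152460 = n164218 := d15_1 (iv0 F251406) F258964 (iv2 F251403)
theorem F258967 : act 1 n164218 = n79004 := d15_0 F251407 F251405 F258965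
theorem F258968 : act 2 n164220 = n152443 := d3_3 (iv6 D152443) F258958 D164220
def n164333 : Q := act 7 n78927
theorem D164333 : act 7 n78927 = n164333 := rfl
def n164334 : Q := act 2 n78928
theorem D164334 : act 2 n78928 = n164334 := rfl
theorem F258969 : act 7 n78929 = n164334 := d15_2 (iv0 D78928) D78929 (iv2 D164334)
def n164335 : Q := act 3 n78928
theorem D164335 : act 3 n78928 = n164335 := rfl
def n164336 : Q := act 4 n78928
theorem D164336 : act 4 n78928 = n164336 := rfl
def n164337 : Q := act 5 n78928
theorem D164337 : act 5 n78928 = n164337 := rfl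
def n164338 : Q := act 6 n78928
theorem D164338 : act 6 n78928 = n164338 := rfl
def n164339 : Q := act 7 n78928
theorem D164339 : act 7 n78928 = n164339 := rfl
theorem F258970 : act 2 n164339 = n78929 := d4_1 D164339 F258969 (iv2 D164334)
def n164340 : Q := act 3 n78929
theorem D164340 : act 3 n78929 = n164340 := rfl
def n164341 : Q := act 4 n78929
theorem D164341 : act 4 n78929 = n164341 := rfl
def n164342 : Q := act 5 n78929
theorem D164342 : act 5 n78929 = n164342 := rfl
theorem F258971 : act 6 n164342 = n114194 := d21_3 (iv5 F233588) (iv1 F233591) D164342 (iv1 F177985) F83307 (iv5 F108442) (iv1 F239353) (iv5 F239354) (iv6 D78922) (iv1 F120109)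
def n164343 : Q := act 6 n78929
theorem D164343 : act 6 n78929 = n164343 := rfl
def n164344 : Q := act 0 n78931
theorem D164344 : act 0 n78931 = n164344 := rfl
def n164345 : Q := act 1 n78931
theorem D164345 : act 1 n78931 = n164345 := rfl
theorem F258972 : act 1 n164345 = n119069 := d15_1 D164345 (iv7 D119069) (iv2 F120117)
theorem F258973 : act 4 n164345 = n97286 := d20_0 F230420 F87466 F42813 D26708 D55267 D120115 (iv1 F251563) F238472 F193587 (iv1 F258972)
theorem F258974 : act 3 n97283 = n164345 := d5_5 F258973 (iv3 D97286) (iv4 D45445) D45444 D97283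
theorem E24097 : n97283 = n78983 := ((c20_5 F177778 (iv1 F83143) (iv4 F83152) (iv3 F177526) (iv1 F177530) F258974 F258973 F230420 F87466 F42813 D26708)).symm
theorem F258975 : act 3 n78983 = n164345 := (sb E24097 F258974)
theorem F258976 : act 4 n78983 = n45444 := (sb E24097 (iv4 D97283))
theorem E24098 : n97280 = n78997 := (c20_2 F258976 D97280 F120179 F56640 (iv1 F177473) (iv3 D55267) F177778 (iv1 F83143) (iv4 F83152) (iv3 F177526) (iv1 F177530))
theorem F258977 : act 1 n78997 = n45444 := (sb E24098 (iv0 D97280))
theorem F258978 : act 4 n113039 = n130581 := d18_1 (iv1 F176096) (iv1 D130581) F95737 F82469 (iv4 F120179) F258977 (iv4 F258976) F177530 F177527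
theorem E24099 : n159684 = n110778 := (c20_5 F258978 (iv1 D130581) F95737 (iv3 F114534) D159684 (iv3 D110778) (iv4 F177802) (iv1 F164556) F163788 (iv3 F163779) (iv1 F176096))
theorem F258979 : act 0 n110778 = n151574 := (sb E24099 (iv1 F251574))
theorem F258980 : act 1 n110778 = n76398 := (sb E24099 (iv0 D159684))
theorem E24100 : n159774 = n159732 := (c21_4 D76398 (iv1 F258980) (iv5 F179022) (iv6 F251776) (iv1 D159732) (iv6 D76416) D76415 F251567 (iv5 F251566) (iv6 D159683) (iv1 D76397))
theorem F258981 : act 3 n159732 = n76452 := (sb E24100 (iv3 D159774))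
theorem F258982 : act 6 n159732 = n114942 := (sb E24100 F251776)
theorem F258983 : act 7 n159732 = n105472 := (sb E24100 F251777)
theorem F258984 : act 2 n105472 = n159731 := d15_3 (iv0 D159731) D159732 F258983
theorem F258985 : act 3 n159731 = n114980 := d0_2 (iv3 F161898) F258984 F179065 F83763 (iv2 F161787)
theorem F258986 : act 6 n159731 = n105469 := d3_2 D105472 F258984 (iv2 D105469)
theorem F258987 : act 2 n107573 = n159685 := d15_3 F251568 (iv0 F258979) F171477
theorem F258988 : act 5 n159685 = n114930 := d2_2 (iv5 F165961) F258987 F179017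
theorem E24101 : n105468 = n71444 := (c21_5 (iv5 F238466) (iv1 F251568) F258988 (iv6 D114930) (iv1 F161893) (iv6 F186802) (iv5 F237336) (iv1 F237337) F189731 (iv6 D120117) F177472)
theorem E24102 : n118739 = n48765 := (((iv1 F186785)).symm.trans (sb E24101 (iv1 D105468)))
theorem E24103 : n118738 = n53032 := ((F186789).symm.trans (sb E24101 F161893))
theorem E24104 : n105467 = n54669 := ((D105467).symm.trans (sb E24102 (iv1 D118739)))
theorem F258989 : act 1 n48765 = n71444 := (sb E24102 F186785)
theorem F258990 : act 0 n53032 = n71444 := (sb E24103 (iv1 F186789))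
theorem F258991 : act 0 n54669 = n53032 := (sb E24104 (iv1 F161889))
theorem F258992 : act 1 n54669 = n48765 := (sb E24104 (iv0 D105467))
theorem F258993 : act 0 n114065 = n106158 := d20_7 (iv4 F77604) (iv1 F77607) (iv4 F177795) D48765 (iv1 F258992) F86480 (iv4 F177580) (iv4 D106158) (iv3 D49062) (iv1 F37467)
theorem E24105 : n146448 = n144782 := (c21_5 F83100 (iv1 F55212) F55209 D68661 D146448 F227658 (iv5 D105471) (iv1 F258992) (iv5 F183723) (iv6 D117329) F85333)
theorem F258994 : act 1 n144782 = n68661 := (sb E24105 (iv0 D146448))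
theorem E24106 : n118462 = n114775 := ((c20_10 (iv4 F177580) F258993 (iv4 D106158) (iv3 D49062) (iv1 F37467) (iv3 F77595) F77596 (iv1 F92172) D124729 (iv3 F199570) (iv1 D118462))).symm
theorem F258995 : act 0 n114775 = n54550 := (sb E24106 (iv1 D118462))
theorem F258996 : act 1 n114775 = n71784 := (sb E24106 F186283)
theorem E24107 : n118461 = n114667 := (c15_2 F258996 F186286 F178781 D114775)
theorem F258997 : act 0 n114667 = n71784 := (sb E24107 (iv1 F186286))
theorem F258998 : act 1 n114667 = n54550 := (sb E24107 (iv0 D118461))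
theorem F258999 : act 7 n97281 = n95784 := d15_2 F258977 D97281 F147474
theorem F259000 : act 4 n114187 = n97281 := d11_3 F258999 F147475 D114187
theorem F259001 : act 6 n150004 = n97281 := d14_5 F258999 (iv6 D95784) F70311 D70566 D150004
def n164346 : Q := act 5 n78931
theorem D164346 : act 5 n78931 = n164346 := rfl
theorem F259002 : act 2 n164346 = n112929 := d2_1 D164346 F175874 (iv2 F120117)
theorem F259003 : act 3 n164346 = n114262 := d6_1 D164346 (iv5 D114262) (iv3 F120118)
theorem F259004 : act 6 n164346 = n78932 := d12_2 D78931 D164346 (iv5 D78932) (iv6 D35932) D35931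
def n164347 : Q := act 7 n78931
theorem D164347 : act 7 n78931 = n164347 := rfl
theorem F259005 : act 2 n164347 = n119069 := d4_1 D164347 (iv7 D119069) (iv2 F120117)
theorem F259006 : act 3 n164347 = n114263 := d8_1 D164347 (iv7 D114263) (iv3 F120118)
theorem F259007 : act 6 n164347 = n119074 := d14_1 D164347 (iv7 D119074) (iv6 D54796) (iv7 F56618) D78931
theorem F259008 : act 1 n119069 = n164344 := d15_0 (iv0 D164344) D164347 F259005
theorem F259009 : act 1 n119068 = n164347 := d15_1 D119068 (iv7 D164347) F120117
theorem F259010 : act 1 n164347 = n119067 := d15_0 (iv0 D119067) D119069 (iv2 F259005)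
def n164348 : Q := act 4 n78932
theorem D164348 : act 4 n78932 = n164348 := rfl
theorem F259011 : act 2 n164348 = n112928 := d1_1 D164348 (iv4 D112928) (iv2 F120119)
theorem F259012 : act 7 n164348 = n112926 := d11_2 (iv7 F120120) D164348 (iv4 D112926)
def n164349 : Q := act 2 n78938
theorem D164349 : act 2 n78938 = n164349 := rfl
def n164350 : Q := act 3 n78938
theorem D164350 : act 3 n78938 = n164350 := rfl
def n164351 : Q := act 4 n78938
theorem D164351 : act 4 n78938 = n164351 := rfl
def n164352 : Q := act 5 n78938
theorem D164352 : act 5 n78938 = n164352 := rfl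
def n164353 : Q := act 6 n78938
theorem D164353 : act 6 n78938 = n164353 := rfl
def n164354 : Q := act 7 n78938
theorem D164354 : act 7 n78938 = n164354 := rfl
def n164359 : Q := act 4 n78940
theorem D164359 : act 4 n78940 = n164359 := rfl
theorem F259015 : act 2 n164359 = n78941 := d1_1 D164359 (iv4 D78941) D78940
def n164360 : Q := act 5 n78940
theorem D164360 : act 5 n78940 = n164360 := rfl
theorem F259016 : act 2 n164360 = n78942 := d2_1 D164360 (iv5 D78942) D78940
def n164361 : Q := act 6 n78940
theorem D164361 : act 6 n78940 = n164361 := rfl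
theorem F259017 : act 2 n164361 = n78943 := d3_1 D164361 (iv6 D78943) D78940
def n164366 : Q := act 0 n78942
theorem D164366 : act 0 n78942 = n164366 := rfl
def n164367 : Q := act 1 n78942
theorem D164367 : act 1 n78942 = n164367 := rfl
def n164368 : Q := act 4 n78942
theorem D164368 : act 4 n78942 = n164368 := rfl
def n164369 : Q := act 6 n78942
theorem D164369 : act 6 n78942 = n164369 := rfl
theorem F259019 : act 3 n164369 = n78948 := d7_1 D164369 (iv6 D78948) (iv3 F120129)
def n164372 : Q := act 7 n78943
theorem D164372 : act 7 n78943 = n164372 := rfl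
theorem F259020 : act 3 n164372 = n78952 := d8_1 D164372 (iv7 D78952) (iv3 F120130)
def n164373 : Q := act 3 n78945
theorem D164373 : act 3 n78945 = n164373 := rfl
theorem F259022 : act 5 n164373 = n159545 := d6_2 (iv5 F120132) D164373 F251277
def n164374 : Q := act 4 n78945
theorem D164374 : act 4 n78945 = n164374 := rfl
theorem F259023 : act 0 n164374 = n121342 := d18_2 D78945 D164374 (iv4 D121342) (iv5 D55979) F136674 F55135 (iv4 F40463) F40466 D35936
theorem F259024 : act 1 n164374 = n121334 := d18_6 F177479 F136454 (iv1 F177469) F177664 (iv5 F120132) D164374 (iv4 D121334) D121333 F193532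
def n164375 : Q := act 6 n78945
theorem D164375 : act 6 n78945 = n164375 := rfl
theorem F259025 : act 5 n164375 = n159547 := d12_1 D164375 (iv6 D159547) (iv5 D76330) D76331 (iv5 F120132)
def n164376 : Q := act 3 n78946
theorem D164376 : act 3 n78946 = n164376 := rfl
def n164377 : Q := act 4 n78946
theorem D164377 : act 4 n78946 = n164377 := rfl
theorem F259026 : act 0 n164377 = n121334 := d18_2 (iv1 F120133) D164377 (iv4 D121334) (iv5 D55974) F136679 (iv0 D34863) F27688 D17398 D35941
theorem F259027 : act 1 n164377 = n121342 := d18_6 F193465 F178925 F177328 (iv4 F178018) (iv5 F178020) D164377 (iv4 D121342) F193464 F193463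
def n164378 : Q := act 0 n78947
theorem D164378 : act 0 n78947 = n164378 := rfl
theorem F259028 : act 4 n164378 = n114844 := d18_3 (iv1 D78946) D78947 D164378 F178910 (iv4 F177660) F178011 (iv4 F114628) D114228 (iv5 F178020)
theorem F259029 : act 1 n78960 = n164378 := d15_0 (iv0 D164378) (iv7 F177913) F177912
def n164379 : Q := act 1 n78947
theorem D164379 : act 1 n78947 = n164379 := rfl
theorem F259030 : act 1 n164379 = n78960 := d15_1 D164379 (iv7 F177889) F177888
theorem F259031 : act 4 n164379 = n114845 := d18_7 (iv1 D25722) F20211 D25556 (iv4 F83209) D35936 D78947 D164379 F178912 (iv5 D52997)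
theorem F259032 : act 6 n150009 = n164379 := d10_0 F259031 (iv6 F193535) D150009
def n164380 : Q := act 3 n78947
theorem D164380 : act 3 n78947 = n164380 := rfl
def n164381 : Q := act 5 n78947
theorem D164381 : act 5 n78947 = n164381 := rfl
theorem F259033 : act 4 n164381 = n95582 := d16_2 D78947 D164381 (iv5 F160239) F160238 (iv5 D52660) (iv4 F83205) D35941 (iv7 F161675) F161674
theorem F259034 : act 1 n164381 = n114863 := d17_6 (iv1 D35944) (iv5 D17399) D17397 D35936 D78947 D164381 (iv5 D114863) (iv0 F120145) (iv4 D78973)
def n164382 : Q := act 6 n78947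
theorem D164382 : act 6 n78947 = n164382 := rfl
theorem F259035 : act 4 n164382 = n78948 := d10_1 D164382 (iv6 D78948) D78947
def n164383 : Q := act 0 n78948
theorem D164383 : act 0 n78948 = n164383 := rfl
theorem F259036 : act 5 n164383 = n114337 := d21_0 (iv1 D114337) F83357 (iv6 D34841) F27673 (iv6 F28366) (iv5 D17399) D17397 D35936 D78948 D164383
theorem F259037 : act 6 n78982 = n164383 := d21_5 (iv5 D8152) D8150 D17401 D35948 D78982 F259036 (iv1 D114337) F83357 (iv6 D34841) F27673
def n164384 : Q := act 1 n78948
theorem D164384 : act 1 n78948 = n164384 := rfl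
theorem F259038 : act 5 n114336 = n164384 := d21_0 (iv1 D164384) (iv5 F178302) (iv6 D114327) (iv1 D52762) F40512 (iv5 D12178) D12176 D25613 D52766 D114336
def n164385 : Q := act 7 n78948
theorem D164385 : act 7 n78948 = n164385 := rfl
theorem F259039 : act 6 n164385 = n159443 := d14_1 D164385 F251074 F163140 F161669 D78948
def n164386 : Q := act 3 n78951
theorem D164386 : act 3 n78951 = n164386 := rfl
theorem F259040 : act 7 n164386 = n114998 := d8_2 (iv7 F161864) D164386 F179072
def n164400 : Q := act 0 n78957
theorem D164400 : act 0 n78957 = n164400 := rfl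
def n164401 : Q := act 1 n78957
theorem D164401 : act 1 n78957 = n164401 := rfl
def n164402 : Q := act 5 n78957
theorem D164402 : act 5 n78957 = n164402 := rfl
def n164403 : Q := act 6 n78957
theorem D164403 : act 6 n78957 = n164403 := rfl
theorem F259046 : act 4 n164403 = n78959 := d10_1 D164403 (iv6 D78959) D78957
def n164404 : Q := act 0 n78958
theorem D164404 : act 0 n78958 = n164404 := rfl
def n164405 : Q := act 1 n78958
theorem D164405 : act 1 n78958 = n164405 := rfl
def n164406 : Q := act 4 n78958
theorem D164406 : act 4 n78958 = n164406 := rfl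
theorem F259047 : act 5 n102685 = n164406 := d19_1 D102685 (iv4 D164406) F120138 (iv1 F120133) F178020 F178018 F143259 F68315 (iv5 D40438) (iv4 D19110) (iv3 D8950) (iv1 D3990) F2945 (iv4 F1909) (iv3 F3322) D4934 D10821 D22915 D47625
def n164407 : Q := act 6 n78958
theorem D164407 : act 6 n78958 = n164407 := rfl
def n164408 : Q := act 0 n78959
theorem D164408 : act 0 n78959 = n164408 := rfl
def n164409 : Q := act 1 n78959
theorem D164409 : act 1 n78959 = n164409 := rfl
def n164410 : Q := act 5 n78959
theorem D164410 : act 5 n78959 = n164410 := rfl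
theorem F259049 : act 3 n164410 = n78964 := d6_1 D164410 (iv5 D78964) (iv3 F120139)
def n164411 : Q := act 7 n78959
theorem D164411 : act 7 n78959 = n164411 := rfl
theorem F259050 : act 3 n164411 = n78965 := d8_1 D164411 (iv7 D78965) (iv3 F120139)
def n164412 : Q := act 3 n78960
theorem D164412 : act 3 n78960 = n164412 := rfl
def n164413 : Q := act 5 n78960
theorem D164413 : act 5 n78960 = n164413 := rfl
theorem F259051 : act 4 n164413 = n95581 := d9_1 D164413 F161631 F161630 (iv5 D52655) (iv4 F83209) D35936 D78947 D164381 F259033 (iv5 F160239) F160238 (iv5 D52660) (iv4 F83205) D35941 D78960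
theorem F259052 : act 0 n164413 = n114863 := d17_2 (iv1 F259029) D164413 (iv5 D114863) (iv4 D53001) (iv5 D25723) D25722 D52997 F178911 (iv4 F259028)
theorem F259053 : act 6 n96226 = n78960 := d21_5 F56631 (iv1 D21442) D21444 D44930 D96226 D164413 F259052 (iv5 D114863) F83722 F71425
theorem F259054 : act 4 n78961 = n96226 := d10_3 F259053 (iv4 D78960) D78961
theorem F259055 : act 4 n95846 = n96253 := d20_6 (iv4 F259054) F206696 F163143 F149965 (iv1 F71689) D95846 (iv1 D96253) F70637 (iv3 F70627) D96226
theorem F259056 : act 3 n96977 = n95581 := d20_5 (iv4 F149629) (iv1 D97012) (iv4 D45350) (iv3 F71432) D96977 (iv4 F259051) F259052 F178933 F147497 (iv1 F71615)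
def n164414 : Q := act 5 n78961
theorem D164414 : act 5 n78961 = n164414 := rfl
theorem F259057 : act 6 n164414 = n78964 := d12_2 D78961 D164414 (iv5 D78964) (iv6 D35942) D35941
def n164415 : Q := act 3 n78962
theorem D164415 : act 3 n78962 = n164415 := rfl
theorem F259058 : act 5 n164415 = n106538 := d6_2 (iv5 F120141) D164415 (iv3 D106538)
theorem F259059 : act 7 n164415 = n106160 := d8_2 (iv7 F163473) D164415 F163163
def n164416 : Q := act 4 n78964
theorem D164416 : act 4 n78964 = n164416 := rfl
theorem F259060 : act 0 n164416 = n120121 := d18_2 F120142 D164416 (iv4 D120121) (iv5 D55274) (iv4 F177773) F83137 (iv4 F83152) F83157 D76356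
theorem F259061 : act 1 n164416 = n120118 := d18_6 (iv1 D53049) (iv4 F83752) F178922 F83207 D78964 D164416 (iv4 D120118) F179060 (iv5 D114967)
def n164417 : Q := act 7 n78964
theorem D164417 : act 7 n78964 = n164417 := rfl
theorem F259062 : act 2 n164417 = n159598 := d4_1 D164417 F251388 F177914
theorem F259063 : act 5 n164417 = n78965 := d13_1 D164417 (iv7 D78965) D78964
theorem F259064 : act 1 n114043 = n164417 := d15_1 (iv0 F177915) (iv7 D164417) (iv2 F177914)
theorem F259065 : act 1 n164417 = n114048 := d15_1 F259064 F193516 (iv2 F193517)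
theorem F259066 : act 6 n106703 = n164417 := d12_0 F259063 (iv6 F177899) F177898 D114324 F178299
theorem F259067 : act 0 n106762 = n127396 := d21_10 (iv5 D127396) (iv1 F94254) (iv5 F164434) F164435 (iv1 F164439) F259066 F259063 F177672 F78001 D106762
theorem F259068 : act 1 n106762 = n127399 := d15_1 (iv0 F259067) F204739 (iv2 F204733)
theorem F259069 : act 0 n106271 = n127400 := d21_4 F163170 F178183 (iv5 D106270) D106271 (iv6 D127400) D127399 (iv1 F259068) F164568 (iv6 D106171) D106168
def n164422 : Q := act 5 n78967
theorem D164422 : act 5 n78967 = n164422 := rfl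
theorem F259070 : act 3 n164422 = n78969 := d6_1 D164422 (iv5 D78969) D78967
theorem F259071 : act 7 n164422 = n114222 := d13_2 F178258 D164422 (iv5 F178004)
def n164423 : Q := act 6 n78967
theorem D164423 : act 6 n78967 = n164423 := rfl
theorem F259072 : act 3 n164423 = n78970 := d7_1 D164423 (iv6 D78970) D78967
def n164424 : Q := act 3 n78968
theorem D164424 : act 3 n78968 = n164424 := rfl
def n164425 : Q := act 5 n78968
theorem D164425 : act 5 n78968 = n164425 := rfl
theorem F259073 : act 4 n164425 = n95579 := d16_2 D78968 D164425 (iv5 D95579) (iv4 F83204) (iv5 F83351) (iv4 F120146) (iv5 D78974) (iv7 F178242) (iv2 F178249)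
def n164426 : Q := act 6 n78968
theorem D164426 : act 6 n78968 = n164426 := rfl
theorem F259074 : act 4 n164426 = n78970 := d10_1 D164426 (iv6 D78970) D78968
def n164427 : Q := act 0 n78970
theorem D164427 : act 0 n78970 = n164427 := rfl
def n164428 : Q := act 1 n78970
theorem D164428 : act 1 n78970 = n164428 := rfl
def n164429 : Q := act 7 n78970
theorem D164429 : act 7 n78970 = n164429 := rfl
theorem F259075 : act 5 n164429 = n128518 := d13_1 D164429 F206697 (iv5 F179202)
def n164433 : Q := act 4 n78972
theorem D164433 : act 4 n78972 = n164433 := rfl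
theorem F259076 : act 5 n102723 = n164433 := d19_1 D102723 (iv4 D164433) (iv3 D78972) (iv1 D35944) (iv5 D17399) (iv4 F27688) (iv3 F33115) (iv1 F63640) (iv5 D41312) (iv4 D19441) F14188 D9131 F14197 (iv4 F14813) (iv3 F16042) (iv1 F65754) F63524 D22936 D47647
def n164434 : Q := act 5 n78972
theorem D164434 : act 5 n78972 = n164434 := rfl
theorem F259077 : act 3 n164434 = n78974 := d6_1 D164434 (iv5 D78974) D78972
theorem F259078 : act 6 n105389 = n164434 := d7_0 F259077 F120147 D105389
def n164437 : Q := act 5 n78973
theorem D164437 : act 5 n78973 = n164437 := rfl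
theorem F259080 : act 4 n164437 = n95575 := d9_1 D164437 (iv5 D95575) F83215 D114092 F177679 (iv5 D78969) D78968 D164425 F259073 (iv5 D95579) (iv4 F83204) (iv5 F83351) (iv4 F120146) (iv5 D78974) D78973
def n164439 : Q := act 0 n78975
theorem D164439 : act 0 n78975 = n164439 := rfl
theorem F259082 : act 5 n164439 = n106517 := d21_0 (iv1 F176103) F176099 (iv6 F177943) (iv1 F177945) (iv6 F178025) (iv5 F251283) (iv1 F251285) (iv5 D78974) D78975 D164439
def n164441 : Q := act 5 n78975
theorem D164441 : act 5 n78975 = n164441 := rfl
theorem F259083 : act 2 n164441 = n114226 := d2_1 D164441 F178012 (iv2 F178291)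
theorem F259084 : act 6 n164441 = n105390 := d12_2 D78975 D164441 (iv5 D105390) (iv6 F120147) (iv5 D78974)
def n164443 : Q := act 3 n78976
theorem D164443 : act 3 n78976 = n164443 := rfl
def n164444 : Q := act 5 n78976
theorem D164444 : act 5 n78976 = n164444 := rfl
theorem F259085 : act 4 n164444 = n95801 := d16_2 (iv4 F177935) D164444 (iv5 D95801) (iv4 F136673) (iv5 F112691) (iv4 F161739) F161740 (iv7 F161742) F161744
def n164445 : Q := act 6 n78976
theorem D164445 : act 6 n78976 = n164445 := rfl
theorem F259086 : act 4 n164445 = n121346 := d10_1 D164445 (iv6 D121346) (iv4 F177935)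
def n164446 : Q := act 3 n78977
theorem D164446 : act 3 n78977 = n164446 := rfl
def n164447 : Q := act 5 n78977
theorem D164447 : act 5 n78977 = n164447 := rfl
theorem F259087 : act 4 n164447 = n95799 := d9_1 D164447 (iv5 D95799) F137982 D94258 (iv4 F178430) F178431 (iv4 F177935) D164444 F259085 (iv5 D95801) (iv4 F136673) (iv5 F112691) (iv4 F161739) F161740 (iv4 F136678)
def n164448 : Q := act 6 n78977
theorem D164448 : act 6 n78977 = n164448 := rfl
theorem F259088 : act 4 n164448 = n121348 := d10_1 D164448 (iv6 D121348) (iv4 F136678)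
def n164449 : Q := act 0 n78978
theorem D164449 : act 0 n78978 = n164449 := rfl
theorem F259089 : act 5 n164449 = n121334 := d17_3 (iv1 D78977) D78978 D164449 (iv4 D121334) (iv5 D55974) (iv0 D26990) D26992 D55982 (iv4 F136678)
theorem F259090 : act 4 n164449 = n95804 := d18_1 D164449 (iv1 D95804) D95805 (iv5 F178937) F178936 F88593 (iv4 F177935) (iv0 D78976) D78978
theorem F259091 : act 1 n95583 = n164449 := d15_0 (iv0 D164449) F251889 F251886
def n164450 : Q := act 1 n78978
theorem D164450 : act 1 n78978 = n164450 := rfl
theorem F259092 : act 1 n164450 = n95583 := d15_1 D164450 F177926 F177923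
theorem F259093 : act 5 n164450 = n121342 := d17_7 (iv1 F120136) (iv5 D35941) (iv1 D17398) D17399 D35945 D78978 D164450 (iv0 F259023) (iv4 D164374)
theorem F259094 : act 4 n164450 = n95803 := d18_7 D44738 F137982 (iv1 F69390) (iv4 F114622) (iv5 F251894) F251893 D164450 (iv0 D95803) (iv5 D44740)
def n164451 : Q := act 0 n78981
theorem D164451 : act 0 n78981 = n164451 := rfl
def n164452 : Q := act 1 n78981
theorem D164452 : act 1 n78981 = n164452 := rfl
theorem F259095 : act 4 n114186 = n164452 := d20_0 (iv1 D164452) F120153 F105273 D147299 F253035 (iv4 F253047) (iv1 F251558) F251554 (iv3 F120180) (iv1 F177956)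
theorem F259096 : act 1 n108171 = n133430 := d18_6 (iv1 F177956) F259095 (iv1 D164452) F120153 (iv5 F82491) (iv4 F167275) (iv4 D133430) F176004 F176001
def n164453 : Q := act 5 n78981
theorem D164453 : act 5 n78981 = n164453 := rfl
theorem F259097 : act 6 n164453 = n95568 := d12_2 D78981 D164453 (iv5 D95568) (iv6 D44639) (iv5 F56628)
def n164454 : Q := act 7 n78981
theorem D164454 : act 7 n78981 = n164454 := rfl
theorem F259098 : act 4 n164454 = n78984 := d11_1 D164454 (iv7 D78984) (iv4 F120153)
def n164455 : Q := act 2 n78982
theorem D164455 : act 2 n78982 = n164455 := rfl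
theorem F259099 : act 7 n78983 = n164455 := d15_2 (iv0 D78982) D78983 (iv2 D164455)
theorem F259100 : act 4 n164455 = n97253 := d11_1 F259099 F150011 (iv4 F258976)
def n164456 : Q := act 3 n78982
theorem D164456 : act 3 n78982 = n164456 := rfl
def n164457 : Q := act 4 n78982
theorem D164457 : act 4 n78982 = n164457 := rfl
theorem F259101 : act 2 n164457 = n97253 := d1_1 D164457 (iv4 F259100) (iv2 D164455)
theorem F259102 : act 0 n164457 = n97281 := d20_1 D164457 (iv4 F259000) F177958 (iv1 F192330) (iv3 F239638) (iv4 D147296) (iv1 D69058) D69059 (iv3 F105273) D78982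
theorem F259103 : act 4 n113038 = n130580 := d18_1 D113038 (iv1 F214543) F214539 (iv5 F177959) F259000 (iv0 F259102) (iv4 D164457) (iv0 D78982) (iv5 F82491)
theorem F259104 : act 7 n164457 = n97282 := d15_2 D97281 (iv0 F259102) (iv2 D97282)
theorem F259105 : act 3 n97259 = n164457 := d0_0 F259101 (iv3 D97253) (iv2 D45438) D45439 D97259
theorem F259106 : act 1 n164457 = n78997 := d15_0 F258977 (iv7 F150011) (iv2 F259101)
def n164458 : Q := act 5 n78982
theorem D164458 : act 5 n78982 = n164458 := rfl
theorem F259107 : act 0 n164458 = n164441 := d21_1 D164458 (iv5 D164441) (iv6 D78975) (iv1 D35944) F28366 (iv5 D8152) D8150 D17401 D35948 D78982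
def n164459 : Q := act 7 n78982
theorem D164459 : act 7 n78982 = n164459 := rfl
theorem F259108 : act 2 n164459 = n78983 := d4_1 D164459 F259099 (iv2 D164455)
theorem F259109 : act 4 n164459 = n97282 := d11_1 D164459 (iv7 F259104) (iv4 D164457)
def n164460 : Q := act 5 n78983
theorem D164460 : act 5 n78983 = n164460 := rfl
theorem F259110 : act 6 n164460 = n113009 := d21_9 F175851 (iv1 F205489) D94177 (iv6 F205522) (iv1 F176095) F176092 (iv5 F177527) (iv1 F177530) D164460 (iv1 F176010)
theorem F259111 : act 0 n164441 = n164460 := d21_10 (iv5 D164460) (iv1 D78983) (iv5 F82491) (iv6 D52174) (iv1 D25341) D25343 F40048 D48723 D105390 (iv6 F259084)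
def n164461 : Q := act 6 n78983
theorem D164461 : act 6 n78983 = n164461 := rfl
theorem F259112 : act 4 n164461 = n97285 := d10_1 D164461 (iv6 D97285) (iv4 F258976)
def n164462 : Q := act 0 n78986
theorem D164462 : act 0 n78986 = n164462 := rfl
theorem F259113 : act 4 n164462 = n105440 := d20_2 (iv4 F120161) D164462 (iv3 D105440) (iv1 F161822) F161819 (iv4 F178778) (iv1 F178779) D114745 F178851 (iv1 D78988)
theorem F259114 : act 3 n164462 = n103700 := d20_5 (iv4 F199520) (iv1 D124708) D124709 F199526 D164462 (iv4 D103700) (iv1 F75495) (iv4 F75367) (iv3 F158907) (iv1 F158911)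
theorem F259115 : act 0 n164462 = n106138 := d20_4 (iv4 F36289) D48028 D103700 (iv3 F259114) (iv3 F251084) F251085 (iv1 F234603) (iv4 D103743) (iv3 D48038) (iv1 D23180)
def n164463 : Q := act 1 n78986
theorem D164463 : act 1 n78986 = n164463 := rfl
theorem F259116 : act 1 n164463 = n106138 := d15_1 D164463 (iv7 D106138) (iv2 F120160)
def n164464 : Q := act 5 n78986
theorem D164464 : act 5 n78986 = n164464 := rfl
theorem F259117 : act 2 n164464 = n106137 := d2_1 D164464 (iv5 D106137) (iv2 F120160)
theorem F259118 : act 6 n164464 = n96219 := d12_2 D78986 D164464 (iv5 D96219) (iv6 D44925) (iv5 F56631)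
def n164465 : Q := act 7 n78986
theorem D164465 : act 7 n78986 = n164465 := rfl
theorem F259119 : act 2 n164465 = n106138 := d4_1 D164465 (iv7 D106138) (iv2 F120160)
theorem F259120 : act 3 n164465 = n149211 := d8_1 D164465 (iv7 F234596) F199526
theorem F259121 : act 4 n164465 = n78990 := d11_1 D164465 (iv7 D78990) (iv4 F120161)
theorem F259122 : act 1 n106136 = n164465 := d15_1 D106136 (iv7 D164465) F120160
theorem F259123 : act 1 n164465 = n106135 := d15_0 (iv0 D106135) D106138 (iv2 F259119)
def n164466 : Q := act 2 n78987
theorem D164466 : act 2 n78987 = n164466 := rfl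
theorem F259124 : act 7 n78988 = n164466 := d15_2 (iv0 D78987) D78988 (iv2 D164466)
theorem F259125 : act 4 n164466 = n103149 := d11_1 F259124 F158419 (iv4 F190344)
def n164467 : Q := act 3 n78987
theorem D164467 : act 3 n78987 = n164467 := rfl
def n164468 : Q := act 4 n78987
theorem D164468 : act 4 n78987 = n164468 := rfl
theorem F259126 : act 2 n164468 = n103149 := d1_1 D164468 (iv4 F259125) (iv2 D164466)
theorem F259127 : act 3 n103155 = n164468 := d0_0 F259126 (iv3 D103149) (iv2 D47815) D47816 D103155
theorem F259128 : act 7 n103177 = n164468 := d4_0 F259126 F158419 D103177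
theorem F259129 : act 1 n164468 = n103175 := d15_0 (iv0 D103175) (iv7 F158419) (iv2 F259126)
theorem F259130 : act 1 n103176 = n164468 := d15_1 D103176 (iv7 F259128) (iv2 D103177)
theorem F259131 : act 4 n103176 = n149663 := d20_2 D164468 (iv1 F259130) F235291 (iv1 F258996) F199570 (iv4 D124729) (iv1 D58308) (iv4 F77589) F77588 D78987
theorem F259132 : act 7 n95793 = n103176 := d11_0 F259131 (iv7 D149663) (iv4 F147489)
theorem E24108 : n103175 = n78992 := ((c15_4 (iv0 D103175) D103176 (iv7 F259132) F147488)).symm
theorem F259133 : act 0 n78992 = n164468 := (sb E24108 (iv1 F259129))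
theorem F259134 : act 1 n78992 = n47821 := (sb E24108 (iv0 D103175))
theorem E24109 : n114924 = n55984 := (((F120172).symm.trans (sb E24108 F190351))).symm
theorem E24110 : n53031 = n33056 := (((F88596).symm.trans (sb E24109 (iv3 D114924)))).symm
theorem E24111 : n71442 = n25734 := ((D71442).symm.trans (sb E24110 (iv1 D53031)))
theorem E24112 : n105469 = n71443 := (((D71443).symm.trans (sb E24110 F161894))).symm
theorem E24118 : n118740 = n53030 := (((D53030).symm.trans (sb E24111 (iv1 F186791)))).symm
theorem F259135 : act 1 n25734 = n33056 := (sb E24111 (iv0 D71442))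
theorem E24119 : n151545 = n53032 := (((D53032).symm.trans (sb E24111 D151545))).symm
theorem E24123 : n151549 = n53035 := (((D53035).symm.trans (sb E24111 D151549))).symm
theorem E24124 : n151550 = n48765 := ((((iv7 F161782)).symm.trans (sb E24111 D151550))).symm
theorem E24125 : n151551 = n53054 := ((D151551).symm.trans (sb E24112 F161890))
theorem E24126 : n159731 = n151554 := (((D151554).symm.trans (sb E24112 (iv6 F258986)))).symm
theorem F259136 : act 0 n53030 = n71443 := (sb E24118 (iv1 F186790))
theorem F259137 : act 2 n53030 = n71444 := (sb E24118 F186786)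
theorem E24127 : n118463 = n114919 := (((D114919).symm.trans (sb E24118 F186787))).symm
theorem E24128 : n114922 = n71435 := ((D114922).symm.trans (sb E24118 F186788))
theorem F259138 : act 7 n53030 = n54669 := (sb E24118 (iv7 D118740))
theorem F259139 : act 7 n53032 = n71443 := (sb E24119 (iv7 F238425))
theorem E24129 : n151572 = n107573 := ((((iv5 F165961)).symm.trans (sb E24123 F238464))).symm
theorem F259140 : act 2 n48765 = n71443 := (sb E24124 F238426)
theorem F259141 : act 3 n53054 = n71443 := (sb E24125 (iv3 D151551))
theorem F259142 : act 1 n151554 = n76416 := (sb E24126 (iv0 D159731))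
theorem F259143 : act 2 n151554 = n105472 := (sb E24126 (iv2 F258984))
theorem F259144 : act 3 n151554 = n114980 := (sb E24126 F258985)
theorem F259145 : act 0 n114919 = n71783 := (sb E24127 (iv1 F186287))
theorem F259146 : act 1 n114919 = n71782 := (sb E24127 F186288)
theorem F259147 : act 2 n114919 = n71784 := (sb E24127 F186284)
theorem F259148 : act 6 n114919 = n71811 := (sb E24127 F186285)
theorem F259149 : act 7 n114919 = n54550 := (sb E24127 (iv7 D118463))
theorem F259150 : act 6 n71435 = n53030 := (sb E24128 (iv6 D114922))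
theorem F259151 : act 0 n107573 = n71450 := (sb E24129 (iv1 D151572))
theorem F259152 : act 1 n107573 = n159687 := (sb E24129 F251575)
theorem F259153 : act 7 n151571 = n159685 := d15_2 F259152 F251576 (iv2 F258987)
theorem F259154 : act 4 n106517 = n133419 := d20_0 (iv1 F214541) F209155 (iv3 F251572) (iv1 F259152) (iv3 D107573) (iv4 F177621) (iv1 D106535) F77750 (iv3 F77745) D106517
theorem F259155 : act 0 n114921 = n146434 := d21_1 D114921 (iv5 F251526) (iv6 D159663) (iv1 F114510) (iv6 F114537) (iv5 F251573) (iv1 F259152) F165961 (iv6 D53035) D53030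
theorem F259156 : act 7 n114921 = n117329 := d15_2 D146434 (iv0 F259155) F183721
theorem F259157 : act 2 n146435 = n114921 := d4_3 F259156 F183721 D146435
theorem F259158 : act 6 n146427 = n114921 := d14_5 F259156 (iv6 D117329) F85332 D68652 D146427
theorem F259159 : act 1 n114921 = n146433 := d15_0 (iv0 D146433) D146435 F259157
theorem F259160 : act 2 n110778 = n151571 := d4_3 F259153 (iv2 F258987) (iv7 F171477)
theorem F259161 : act 6 n114920 = n151519 := d10_2 F259150 D114920 F238389
theorem F259163 : act 7 n118737 = n114920 := d14_0 F259161 (iv7 D151519) (iv6 D71431) (iv7 F86476) D118737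
theorem F259165 : act 1 n151542 = n114920 := d15_1 D151542 (iv7 F259163) F186782
theorem F259166 : act 4 n151542 = n106321 := d20_2 D114920 (iv1 F259165) (iv3 D106321) (iv1 D49138) F37456 (iv4 F37462) F177626 (iv4 D25735) D25734 D53030
theorem E24130 : n114919 = n114774 := ((c20_5 F54212 D33618 D72931 D154052 (iv1 F242082) (iv3 D114919) D114920 (iv1 F259165) F259166 (iv3 D106321) (iv1 D49138))).symm
theorem E24131 : n71783 = n52965 := ((((iv1 D114774)).symm.trans (sb E24130 F259145))).symm
theorem E24132 : n154052 = n71782 := ((F242082).symm.trans (sb E24130 F259146))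
theorem F259167 : act 2 n114774 = n71784 := (sb E24130 F259147)
theorem F259168 : act 3 n114774 = n53030 := (sb E24130 (iv3 D114919))
theorem F259169 : act 6 n114774 = n71811 := (sb E24130 F259148)
theorem F259170 : act 7 n114774 = n54550 := (sb E24130 F259149)
theorem E24133 : n114773 = n33181 := ((D114773).symm.trans (sb E24131 (iv1 D71783)))
theorem E24134 : n152198 = n114775 := (((D114775).symm.trans (sb E24131 (iv2 F239277)))).symm
theorem E24139 : n152193 = n114667 := ((((iv7 F178781)).symm.trans (sb E24131 F239276))).symm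
theorem F259171 : act 0 n71782 = n114774 := (sb E24132 (iv1 F242082))
theorem E24140 : n152194 = n72931 := ((D152194).symm.trans (sb E24132 (iv3 D154052)))
theorem F259172 : act 1 n33181 = n52965 := (sb E24133 (iv0 D114773))
theorem F259173 : act 7 n114775 = n71782 := (sb E24134 (iv7 D152198))
theorem F259174 : act 2 n114667 = n71782 := (sb E24139 (iv2 D152193))
theorem F259175 : act 3 n72931 = n71782 := (sb E24140 (iv3 D152194))
theorem F259176 : act 3 n152195 = n119361 := d5_3 D72931 F259175 D152195 (iv4 D119361) F190177
theorem F259177 : act 3 n152196 = n154053 := d6_3 (iv5 D154053) F259175 D152196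
theorem F259178 : act 3 n152197 = n147295 := d7_3 F230916 F259175 D152197
theorem F259179 : act 0 n106146 = n95793 := d20_1 D106146 F147489 F106723 D71782 (iv3 F259175) (iv4 D72931) (iv1 F92177) (iv4 F163384) F163383 (iv1 F120167)
theorem F259180 : act 3 n154810 = n151542 := d5_5 F259166 (iv3 D106321) D106322 F235054 (iv4 F243499)
theorem F259181 : act 4 n121350 = n106135 := d20_0 (iv1 F259123) F259121 (iv3 F163383) (iv1 F163386) D106321 (iv4 F259166) (iv1 D151542) F107981 (iv3 F88596) D121350
theorem F259182 : act 7 n151542 = n154951 := d8_2 (iv7 F243497) F259180 (iv3 D154951)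
theorem F259183 : act 2 n154951 = n151541 := d15_3 (iv0 D151541) D151542 F259182
theorem F259186 : act 3 n151553 = n114979 := d6_3 (iv5 D114979) F259141 D151553
theorem F259187 : act 2 n105471 = n151553 := d0_5 F259186 F179064 F83762 (iv2 F161785) (iv3 F161896)
theorem F259188 : act 7 n151553 = n114929 := d4_2 (iv7 F161897) F259187 F179016
theorem F259189 : act 1 n151553 = n114936 := d15_0 (iv0 D114936) (iv7 F161897) F259187
theorem F259190 : act 1 n114937 = n151553 := d15_1 D114937 F259188 F179016
theorem F259191 : act 2 n151552 = n105470 := d1_3 (iv4 D105470) F259140 D151552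
theorem F259192 : act 7 n114928 = n151552 := d4_0 F259191 F161895 (iv2 F179015)
theorem F259193 : act 1 n151552 = n114931 := d15_0 (iv0 D114931) (iv7 F161895) (iv2 F259191)
theorem F259194 : act 1 n114932 = n151552 := d15_1 D114932 (iv7 F259192) F179015
def n164469 : Q := act 5 n78987
theorem D164469 : act 5 n78987 = n164469 := rfl
def n164470 : Q := act 6 n78987
theorem D164470 : act 6 n78987 = n164470 := rfl
theorem F259195 : act 5 n164470 = n106518 := d21_6 (iv5 D26536) (iv1 F21084) (iv5 F28367) D35950 D78987 D164470 (iv1 D106518) (iv5 F83149) (iv6 D52631) (iv1 F42490)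
def n164471 : Q := act 7 n78987
theorem D164471 : act 7 n78987 = n164471 := rfl
theorem F259196 : act 2 n164471 = n78988 := d4_1 D164471 F259124 (iv2 D164466)
theorem F259197 : act 4 n164471 = n103177 := d11_1 D164471 F259128 (iv4 D164468)
def n164472 : Q := act 5 n78988
theorem D164472 : act 5 n78988 = n164472 := rfl
theorem F259198 : act 6 n159573 = n164472 := d21_5 (iv5 D34955) F27808 (iv5 F55152) D76343 D159573 (iv5 D164472) (iv1 D78988) D78989 F120164 F77425
def n164473 : Q := act 6 n78988
theorem D164473 : act 6 n78988 = n164473 := rfl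
theorem F259199 : act 4 n164473 = n103180 := d10_1 D164473 (iv6 D103180) (iv4 F190344)
def n164474 : Q := act 1 n78989
theorem D164474 : act 1 n78989 = n164474 := rfl
theorem F259200 : act 1 n164474 = n106104 := d15_1 D164474 (iv7 D106104) (iv2 F120163)
theorem F259201 : act 7 n164474 = n106102 := d15_2 (iv0 F251279) D164474 (iv2 F251278)
theorem F259202 : act 5 n159527 = n164474 := d21_6 F40476 (iv1 F26350) D16904 D34867 D76319 D159527 (iv1 D164474) (iv5 D78989) (iv6 D35950) (iv1 F40478)
theorem F259203 : act 2 n106103 = n164474 := d4_3 F259201 (iv2 F251278) (iv7 F251280)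
theorem F259204 : act 1 n106104 = n159547 := d15_1 F259200 (iv7 F251280) F259203
def n164475 : Q := act 4 n78989
theorem D164475 : act 4 n78989 = n164475 := rfl
theorem F259205 : act 2 n164475 = n106100 := d1_1 D164475 F163126 (iv2 F120163)
theorem F259206 : act 6 n164475 = n106098 := d10_2 (iv6 F120164) D164475 (iv4 D106098)
def n164476 : Q := act 7 n78989
theorem D164476 : act 7 n78989 = n164476 := rfl
theorem F259207 : act 2 n164476 = n106104 := d4_1 D164476 (iv7 D106104) (iv2 F120163)
theorem F259208 : act 5 n164476 = n78990 := d13_1 D164476 (iv7 D78990) D78989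
theorem F259209 : act 1 n106103 = n164476 := d15_1 D106103 (iv7 D164476) F120163
theorem F259210 : act 1 n164476 = n106102 := d15_1 F259209 (iv7 F259201) (iv2 F259203)
def n164477 : Q := act 6 n78991
theorem D164477 : act 6 n78991 = n164477 := rfl
def n164478 : Q := act 5 n78992
theorem D164478 : act 5 n78992 = n164478 := rfl
theorem F259214 : act 6 n164478 = n103108 := d12_2 D78992 D164478 (iv5 D103108) (iv6 D47800) (iv5 F56634)
def n164479 : Q := act 7 n78992
theorem D164479 : act 7 n78992 = n164479 := rfl
theorem F259215 : act 2 n164479 = n103176 := d4_1 D164479 (iv7 F259132) F147488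
theorem F259216 : act 4 n164479 = n121353 := d11_1 D164479 (iv7 D121353) (iv4 F120172)
theorem F259217 : act 1 n106146 = n164479 := d15_1 (iv0 F259179) (iv7 D164479) (iv2 F147488)
theorem F259218 : act 0 n103033 = n164479 := d20_1 (iv4 F190335) F259216 F193575 (iv1 F258989) (iv3 D48765) F177795 (iv1 D34843) F27674 (iv3 F37363) D49058
theorem F259219 : act 1 n103033 = n95793 := d15_1 (iv0 F259218) F259132 (iv2 F259215)
def n164480 : Q := act 0 n78993
theorem D164480 : act 0 n78993 = n164480 := rfl
def n164481 : Q := act 1 n78993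
theorem D164481 : act 1 n78993 = n164481 := rfl
def n164482 : Q := act 5 n78993
theorem D164482 : act 5 n78993 = n164482 := rfl
theorem F259220 : act 6 n164482 = n103110 := d12_2 D78993 D164482 (iv5 D103110) (iv6 D47801) (iv5 F56636)
def n164483 : Q := act 7 n78993
theorem D164483 : act 7 n78993 = n164483 := rfl
theorem F259221 : act 4 n164483 = n121356 := d11_1 D164483 (iv7 D121356) (iv4 F120173)
theorem F259222 : act 6 n164483 = n103176 := d14_1 D164483 (iv7 F259132) (iv6 D95793) F70326 D78993
def n164484 : Q := act 5 n78994
theorem D164484 : act 5 n78994 = n164484 := rfl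
theorem F259223 : act 6 n164484 = n90754 := d21_3 F67731 D78994 D164484 (iv1 D90754) (iv6 D42496) D42495 D90749 (iv5 F251137) (iv6 F251138) (iv1 D92428)
def n164485 : Q := act 6 n78994
theorem D164485 : act 6 n78994 = n164485 := rfl
theorem F259224 : act 5 n164485 = n106742 := d12_1 D164485 (iv6 F251426) (iv5 F251425) (iv6 F259223) (iv5 D164484)
def n164486 : Q := act 6 n78996
theorem D164486 : act 6 n78996 = n164486 := rfl
theorem F259225 : act 2 n164486 = n154189 := d3_1 D164486 (iv6 D154189) (iv2 F120174)
theorem F259226 : act 3 n164486 = n78997 := d7_1 D164486 (iv6 D78997) D78996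
theorem F259227 : act 4 n164486 = n154181 := d10_1 D164486 (iv6 D154181) (iv4 F120175)
def n164487 : Q := act 5 n78997
theorem D164487 : act 5 n78997 = n164487 := rfl
theorem F259228 : act 6 n164487 = n97151 := d12_2 D78997 D164487 (iv5 D97151) (iv6 D45406) (iv5 F56638)
def n164488 : Q := act 7 n78997
theorem D164488 : act 7 n78997 = n164488 := rfl
theorem F259229 : act 2 n164488 = n97281 := d4_1 D164488 F258999 F147474
theorem F259230 : act 4 n164488 = n79000 := d11_1 D164488 (iv7 D79000) (iv4 F120179)
def n164489 : Q := act 2 n78998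
theorem D164489 : act 2 n78998 = n164489 := rfl
theorem F259231 : act 7 n78999 = n164489 := d15_2 (iv0 D78998) D78999 (iv2 D164489)
def n164490 : Q := act 3 n78998
theorem D164490 : act 3 n78998 = n164490 := rfl
def n164491 : Q := act 4 n78998
theorem D164491 : act 4 n78998 = n164491 := rfl
theorem F259232 : act 0 n164491 = n164454 := d20_1 D164491 F259098 (iv3 F230928) (iv1 F230930) D159591 (iv4 F251551) (iv1 D159679) F114531 (iv3 F56640) D78998
def n164492 : Q := act 5 n78998
theorem D164492 : act 5 n78998 = n164492 := rfl
def n164493 : Q := act 6 n78998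
theorem D164493 : act 6 n78998 = n164493 := rfl
theorem F259233 : act 5 n164493 = n114381 := d21_6 (iv5 D12922) F12921 D17405 D35955 D78998 D164493 (iv1 D114381) (iv5 F88598) (iv6 D55985) (iv1 D26995)
theorem F259234 : act 0 n121335 = n164493 := d21_10 F259233 (iv1 D114381) (iv5 F88598) (iv6 D55985) (iv1 D26995) (iv6 F43578) (iv5 D26992) D26990 D55974 D121335
def n164494 : Q := act 7 n78998
theorem D164494 : act 7 n78998 = n164494 := rfl
theorem F259235 : act 2 n164494 = n78999 := d4_1 D164494 F259231 (iv2 D164489)
def n164495 : Q := act 3 n78999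
theorem D164495 : act 3 n78999 = n164495 := rfl
def n164496 : Q := act 4 n78999
theorem D164496 : act 4 n78999 = n164496 := rfl
def n164497 : Q := act 6 n78999
theorem D164497 : act 6 n78999 = n164497 := rfl
def n164498 : Q := act 0 n79001
theorem D164498 : act 0 n79001 = n164498 := rfl
def n164499 : Q := act 1 n79001
theorem D164499 : act 1 n79001 = n164499 := rfl
theorem F259236 : act 1 n164499 = n114609 := d15_1 D164499 (iv7 D114609) (iv2 F120181)
def n164500 : Q := act 5 n79001
theorem D164500 : act 5 n79001 = n164500 := rfl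
theorem F259237 : act 2 n164500 = n114608 := d2_1 D164500 (iv5 D114608) (iv2 F120181)
theorem F259238 : act 6 n164500 = n105900 := d12_2 D79001 D164500 (iv5 D105900) (iv6 D48960) (iv5 F56641)
def n164501 : Q := act 7 n79001
theorem D164501 : act 7 n79001 = n164501 := rfl
theorem F259239 : act 2 n164501 = n114609 := d4_1 D164501 (iv7 D114609) (iv2 F120181)
theorem F259240 : act 6 n164501 = n152182 := d14_1 D164501 (iv7 D152182) (iv6 D71776) F56644 D79001
theorem F259241 : act 1 n114609 = n164498 := d15_0 (iv0 D164498) D164501 F259239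
theorem F259242 : act 1 n114607 = n164501 := d15_1 D114607 (iv7 D164501) F120181
theorem F259243 : act 1 n164501 = n114606 := d15_0 (iv0 D114606) D114609 (iv2 F259239)
def n164502 : Q := act 0 n79002
theorem D164502 : act 0 n79002 = n164502 := rfl
def n164503 : Q := act 1 n79002
theorem D164503 : act 1 n79002 = n164503 := rfl
theorem F259244 : act 1 n164503 = n152182 := d15_1 D164503 (iv7 D152182) (iv2 F120182)
def n164504 : Q := act 5 n79002
theorem D164504 : act 5 n79002 = n164504 := rfl
theorem F259245 : act 2 n164504 = n110757 := d2_1 D164504 F171446 (iv2 F120182)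
theorem F259247 : act 6 n164504 = n110752 := d12_2 D79002 D164504 F171432 (iv6 D52871) (iv5 F56647)
def n164505 : Q := act 7 n79002
theorem D164505 : act 7 n79002 = n164505 := rfl
theorem F259248 : act 2 n164505 = n152182 := d4_1 D164505 (iv7 D152182) (iv2 F120182)
theorem F259250 : act 6 n164505 = n114609 := d14_1 D164505 (iv7 D114609) (iv6 D52901) (iv7 F56646) D79002
theorem F259251 : act 1 n152182 = n164502 := d15_0 (iv0 D164502) D164505 F259248
theorem F259252 : act 1 n152181 = n164505 := d15_1 D152181 (iv7 D164505) F120182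
theorem F259253 : act 1 n164505 = n152180 := d15_0 (iv0 D152180) D152182 (iv2 F259248)
def n164506 : Q := act 6 n79003
theorem D164506 : act 6 n79003 = n164506 := rfl
theorem F259254 : act 2 n164506 = n128139 := d3_1 D164506 (iv6 D128139) (iv2 F120184)
theorem F259255 : act 3 n164506 = n79004 := d7_1 D164506 (iv6 D79004) D79003
theorem F259256 : act 4 n164506 = n97084 := d10_1 D164506 (iv6 D97084) (iv4 F120185)
def n164507 : Q := act 5 n79004
theorem D164507 : act 5 n79004 = n164507 := rfl
theorem F259257 : act 2 n164507 = n152459 := d2_1 D164507 (iv5 D152459) (iv2 F120188)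
def n164508 : Q := act 7 n79004
theorem D164508 : act 7 n79004 = n164508 := rfl
theorem F259258 : act 2 n164508 = n152460 := d4_1 D164508 (iv7 D152460) (iv2 F120188)
theorem F259259 : act 4 n164508 = n79007 := d11_1 D164508 (iv7 D79007) (iv4 F120189)
theorem F259260 : act 6 n164508 = n152457 := d14_1 D164508 (iv7 D152457) (iv6 D71915) (iv7 F56651) D79004
theorem F259261 : act 1 n152446 = n164508 := d15_1 (iv0 F252357) (iv7 D164508) F120188
theorem F259262 : act 1 n164508 = n152441 := d15_1 F259261 (iv7 F251405) F251403
theorem F259263 : act 0 n164496 = n96223 := d20_1 D164496 F147996 F83148 D52632 F239633 D152441 (iv1 F259262) F259259 (iv3 F177958) (iv1 F177962)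
theorem E24142 : n164495 = n148891 := ((c20_5 (iv4 F177636) (iv1 F55218) (iv4 F56565) (iv3 F106222) (iv1 F233943) (iv3 D164495) D164496 F259263 F147996 F83148 D52632)).symm
theorem F259264 : act 3 n148891 = n78999 := (sb E24142 (iv3 D164495))
theorem F259265 : act 1 n164496 = n164454 := d15_1 (iv0 F259263) (iv7 D164454) (iv2 F147994)
def n164509 : Q := act 2 n79005
theorem D164509 : act 2 n79005 = n164509 := rfl
theorem F259266 : act 7 n79006 = n164509 := d15_2 (iv0 D79005) D79006 (iv2 D164509)
def n164510 : Q := act 3 n79005
theorem D164510 : act 3 n79005 = n164510 := rfl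
theorem F259267 : act 4 n147024 = n164510 := d20_2 F105226 (iv1 F230475) (iv3 D164510) (iv1 F192339) F192335 (iv4 F238435) (iv1 F251550) F251551 (iv3 D159591) (iv1 D76351)
theorem F259268 : act 2 n164510 = n120105 := d1_1 F259267 F230418 D147024
theorem F259269 : act 7 n164510 = n147296 := d11_2 (iv7 F230474) F259267 (iv4 D147296)
theorem F259270 : act 0 n114453 = n164510 := d20_1 (iv4 F178507) (iv4 F259267) F230472 F188825 F183999 (iv4 F230510) (iv1 F230513) (iv4 D146222) D146221 (iv1 F235011)
theorem F259271 : act 7 n120660 = n79005 := d8_2 F259269 F239638 D164510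
theorem F259272 : act 2 n79006 = n120660 := d4_3 F259271 D164509 (iv7 F259266)
theorem E24143 : n164509 = n120659 := (c15_4 (iv0 D120659) D120660 F259271 D164509)
theorem F259273 : act 2 n120659 = n79005 := (sb E24143 (iv2 D164509))
theorem F259274 : act 7 n120659 = n79006 := (sb E24143 (iv7 F259266))
theorem F259275 : act 3 n120104 = n120659 := d0_0 F259273 D164510 F259268 (iv3 D120105) D120104
theorem E24144 : n120110 = n79006 := ((c8_3 F189725 F259275 F259274 (iv3 D120110))).symm
theorem F259276 : act 3 n79006 = n55264 := (sb E24144 (iv3 D120110))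
theorem F259277 : act 4 n79006 = n152436 := (sb E24144 (iv4 F258843))
theorem F259278 : act 3 n152429 = n159978 := d20_5 F259277 (iv1 D152436) F108418 (iv3 F108417) D152429 (iv4 F253053) (iv1 F251556) F238435 (iv3 F192335) (iv1 F192338)
theorem F259279 : act 2 n159589 = n152429 := d0_5 F259278 (iv2 D159978) (iv3 F253035) (iv2 F230923) D159589
theorem F259280 : act 7 n159984 = n152429 := d8_0 F259278 (iv7 F252358) D159984
theorem F259281 : act 2 n159984 = n152430 := d15_3 F252317 F252318 (iv7 F259280)
theorem F259282 : act 3 n152430 = n147300 := d0_2 D159984 F259281 F230925 D159591 F253045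
theorem F259283 : act 7 n152430 = n159589 := d4_2 (iv7 F259280) F259281 F259279
theorem F259284 : act 4 n148909 = n152430 := d5_0 F259282 F230921 (iv3 D146221) D146222 F233978
def n164511 : Q := act 4 n79005
theorem D164511 : act 4 n79005 = n164511 := rfl
def n164512 : Q := act 5 n79005
theorem D164512 : act 5 n79005 = n164512 := rfl
def n164513 : Q := act 6 n79005
theorem D164513 : act 6 n79005 = n164513 := rfl
theorem F259285 : act 5 n164513 = n152235 := d21_6 (iv5 F41869) (iv1 D17408) D17409 D35959 D79005 D164513 (iv1 D152235) (iv5 D71810) (iv6 D33191) (iv1 F42109)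
def n164514 : Q := act 5 n79006
theorem D164514 : act 5 n79006 = n164514 := rfl
theorem F259286 : act 3 n164514 = n120112 := d6_1 D164514 (iv5 D120112) (iv3 F259276)
def n164515 : Q := act 6 n79006
theorem D164515 : act 6 n79006 = n164515 := rfl
theorem F259287 : act 3 n164515 = n120113 := d7_1 D164515 (iv6 D120113) (iv3 F259276)
def n164516 : Q := act 6 n79008
theorem D164516 : act 6 n79008 = n164516 := rfl
theorem F259288 : act 3 n164516 = n79009 := d7_1 D164516 (iv6 D79009) D79008
theorem F259289 : act 4 n164516 = n105917 := d10_1 D164516 (iv6 D105917) (iv4 F120190)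
theorem F259290 : act 7 n152698 = n164516 := d8_0 F259288 F191281 D152698
def n164517 : Q := act 5 n79009
theorem D164517 : act 5 n79009 = n164517 := rfl
theorem F259291 : act 2 n164517 = n152581 := d2_1 D164517 (iv5 D152581) (iv2 F120192)
theorem F259292 : act 7 n164517 = n152699 := d13_2 (iv7 F191281) D164517 (iv5 D152699)
theorem F259293 : act 0 n155159 = n164517 := d21_7 D35970 (iv1 F71636) F71637 D71787 F190064 D73643 D155159 (iv5 D164517) (iv6 D79009) (iv1 F56655)
def n164519 : Q := act 7 n79010
theorem D164519 : act 7 n79010 = n164519 := rfl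
theorem F259298 : act 4 n164519 = n127861 := d11_1 D164519 (iv7 D127861) (iv4 F120195)
theorem F259299 : act 6 n164519 = n152311 := d14_1 D164519 F239443 (iv6 D71961) (iv7 F56659) D79010
theorem F259302 : act 3 n164519 = n122072 := d20_3 F155347 (iv1 F205745) (iv4 F259298) (iv1 D122072) (iv3 D56489) (iv4 D27179) (iv1 D13018) (iv4 F21661) (iv3 F42140) D54570
theorem F259303 : act 6 n122072 = n80394 := d7_2 (iv6 F259299) F259302 (iv3 F239444)
theorem F259304 : act 7 n122072 = n80213 := d8_2 D164519 F259302 F123225
theorem F259305 : act 2 n161286 = n122072 := d4_3 F259304 F123224 D161286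
theorem E24145 : n161284 = n56489 := (c15_1 D161284 D122072 F259304 F123224)
theorem E24146 : n122071 = n77432 := ((D122071).symm.trans (sb E24145 (iv1 D161284)))
theorem F259306 : act 1 n77432 = n56489 := (sb E24146 (iv0 D122071))
theorem F259307 : act 1 n161286 = n82650 := d15_0 (iv0 F191851) (iv7 F259304) (iv2 F259305)
theorem F259310 : act 2 n82650 = n161283 := d15_3 (iv0 D161283) F259306 (iv7 F127323)
theorem F259312 : act 3 n161283 = n122052 := d0_2 D82650 F259310 (iv2 D122052) (iv3 D56470) (iv2 F118203)
theorem F259313 : act 7 n161283 = n122073 := d4_2 (iv7 F127323) F259310 (iv2 D122073)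
theorem F259314 : act 1 n122072 = n161283 := d15_1 D122072 F259313 (iv2 D122073)
def n164520 : Q := act 3 n79011
theorem D164520 : act 3 n79011 = n164520 := rfl
theorem F259315 : act 7 n164520 = n152607 := d8_2 (iv7 F234038) D164520 (iv3 D152607)
def n164521 : Q := act 5 n79011
theorem D164521 : act 5 n79011 = n164521 := rfl
theorem F259316 : act 2 n164521 = n152605 := d2_1 D164521 (iv5 D152605) F234039
theorem F259317 : act 7 n164521 = n152608 := d13_2 (iv7 F234038) D164521 (iv5 D152608)
theorem F259318 : act 0 n164521 = n155172 := d17_2 D79011 D164521 (iv5 D155172) F110359 D73661 (iv0 F120205) (iv5 D79018) (iv0 D35963) (iv4 F56663)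
def n164522 : Q := act 6 n79011
theorem D164522 : act 6 n79011 = n164522 := rfl
theorem F259319 : act 2 n164522 = n152606 := d3_1 D164522 (iv6 D152606) F234039
theorem F259320 : act 4 n164522 = n150079 := d10_1 D164522 (iv6 D150079) F155530
theorem F259321 : act 5 n164522 = n152253 := d21_6 (iv5 F71637) F71635 F29544 D35962 D79011 D164522 (iv1 D152253) (iv5 D71819) (iv6 D33195) (iv1 F52409)
def n164523 : Q := act 5 n79012
theorem D164523 : act 5 n79012 = n164523 := rfl
theorem F259322 : act 2 n164523 = n152608 := d2_1 D164523 (iv5 D152608) (iv2 F234036)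
theorem F259323 : act 7 n164523 = n152605 := d13_2 F234037 D164523 (iv5 D152605)
theorem F259324 : act 1 n164523 = n155172 := d15_0 (iv0 F259318) F259317 (iv2 F259322)
def n164524 : Q := act 6 n79012
theorem D164524 : act 6 n79012 = n164524 := rfl
theorem F259325 : act 2 n164524 = n152609 := d3_1 D164524 (iv6 D152609) (iv2 F234036)
theorem F259326 : act 4 n164524 = n150081 := d10_1 D164524 (iv6 D150081) F205749
theorem F259327 : act 7 n152709 = n164524 := d15_2 (iv0 F239808) D152709 F259325
def n164525 : Q := act 0 n79013
theorem D164525 : act 0 n79013 = n164525 := rfl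
def n164526 : Q := act 1 n79013
theorem D164526 : act 1 n79013 = n164526 := rfl
theorem F259328 : act 1 n164526 = n152613 := d15_1 D164526 (iv7 D152613) (iv2 F120197)
def n164527 : Q := act 4 n79013
theorem D164527 : act 4 n79013 = n164527 := rfl
theorem F259329 : act 2 n164527 = n152612 := d1_1 D164527 (iv4 D152612) (iv2 F120197)
def n164528 : Q := act 7 n79013
theorem D164528 : act 7 n79013 = n164528 := rfl
theorem F259330 : act 2 n164528 = n152613 := d4_1 D164528 (iv7 D152613) (iv2 F120197)
theorem F259331 : act 5 n164528 = n79014 := d13_1 D164528 (iv7 D79014) D79013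
theorem F259332 : act 1 n152613 = n164525 := d15_0 (iv0 D164525) D164528 F259330
theorem F259333 : act 1 n152611 = n164528 := d15_1 D152611 (iv7 D164528) F120197
theorem F259334 : act 1 n164528 = n152610 := d15_0 (iv0 D152610) D152613 (iv2 F259330)
theorem F259335 : act 5 n152610 = n155170 := d17_7 (iv1 F130752) (iv5 F87520) F130753 F97811 (iv4 F120199) (iv5 F259331) F259334 (iv0 D155170) F110359
def n164529 : Q := act 5 n79017
theorem D164529 : act 5 n79017 = n164529 := rfl
theorem F259336 : act 2 n164529 = n120231 := d2_1 D164529 (iv5 D120231) F131000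
theorem F259337 : act 7 n164529 = n152615 := d13_2 (iv7 F130999) D164529 (iv5 D152615)
theorem F259338 : act 0 n164529 = n155132 := d21_1 D164529 (iv5 D155132) (iv6 D73634) (iv1 D33836) (iv6 D16358) D16357 D33832 F53185 D54567 F155568
theorem F259339 : act 1 n164529 = n157664 := d15_0 (iv0 D157664) (iv7 F191431) (iv2 F259336)
def n164530 : Q := act 6 n79017
theorem D164530 : act 6 n79017 = n164530 := rfl
theorem F259340 : act 2 n164530 = n120232 := d3_1 D164530 (iv6 D120232) F131000
theorem F259341 : act 4 n164530 = n79019 := d10_1 D164530 (iv6 D79019) D79017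
theorem F259342 : act 5 n164530 = n155085 := d21_6 D16357 D33832 F53185 D54567 F155568 D164530 (iv1 D155085) (iv5 D73614) (iv6 D33831) (iv1 D16356)
theorem F259343 : act 1 n118500 = n164530 := d17_8 (iv1 F131029) (iv5 F199906) (iv1 D58436) (iv5 D27806) D27805 D58433 D124984 F200758 F259341
def n164531 : Q := act 4 n79018
theorem D164531 : act 4 n79018 = n164531 := rfl
theorem F259344 : act 2 n164531 = n120233 := d1_1 D164531 (iv4 D120233) F130994
theorem F259345 : act 7 n164531 = n152617 := d11_2 (iv7 F130993) D164531 (iv4 D152617)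
theorem F259346 : act 1 n157670 = n164531 := d15_1 D157670 F259345 F239815
theorem F259347 : act 1 n164531 = n157669 := d15_0 (iv0 D157669) (iv7 F191435) (iv2 F259344)
def n164532 : Q := act 6 n79018
theorem D164532 : act 6 n79018 = n164532 := rfl
theorem F259349 : act 3 n164532 = n151725 := d7_1 D164532 (iv6 D151725) F232529
theorem F259350 : act 5 n164532 = n125041 := d12_1 D164532 (iv6 D125041) F131005 (iv6 D79019) D79018
def n164533 : Q := act 0 n79025
theorem D164533 : act 0 n79025 = n164533 := rfl
def n164534 : Q := act 1 n79025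
theorem D164534 : act 1 n79025 = n164534 := rfl
def n164535 : Q := act 5 n79025
theorem D164535 : act 5 n79025 = n164535 := rfl
theorem F259353 : act 3 n164535 = n128108 := d6_1 D164535 (iv5 D128108) (iv3 F120210)
theorem F259354 : act 6 n164535 = n128100 := d12_2 D79025 D164535 (iv5 D128100) (iv6 D60201) (iv5 F56673)
def n164536 : Q := act 7 n79025
theorem D164536 : act 7 n79025 = n164536 := rfl
theorem F259356 : act 3 n164536 = n128109 := d8_1 D164536 (iv7 D128109) (iv3 F120210)
theorem F259358 : act 6 n164536 = n152460 := d14_1 D164536 (iv7 D152460) (iv6 D71916) (iv7 F56672) D79025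
def n164541 : Q := act 6 n79026
theorem D164541 : act 6 n79026 = n164541 := rfl
theorem F259363 : act 5 n164541 = n146773 := d21_6 F52404 (iv1 F28376) D17412 D35967 D79026 D164541 (iv1 D146773) F105007 (iv6 D33181) D33179
def n164550 : Q := act 3 n79030
theorem D164550 : act 3 n79030 = n164550 := rfl
theorem F259368 : act 4 n164550 = n159675 := d5_2 D79030 D164550 (iv3 D159675) (iv4 D76393) (iv3 F56677)
def n164551 : Q := act 5 n79031
theorem D164551 : act 5 n79031 = n164551 := rfl
theorem F259369 : act 3 n164551 = n79035 := d6_1 D164551 (iv5 D79035) (iv3 F120217)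
def n164552 : Q := act 0 n79032
theorem D164552 : act 0 n79032 = n164552 := rfl
def n164553 : Q := act 1 n79032
theorem D164553 : act 1 n79032 = n164553 := rfl
theorem F259370 : act 1 n164553 = n119443 := d15_1 D164553 (iv7 D119443) (iv2 F120218)
theorem F259371 : act 3 n164553 = n155232 := d20_5 (iv4 F189962) F189959 (iv4 F189964) (iv3 F188208) (iv1 F259370) (iv4 D155232) (iv1 D73722) (iv4 F86888) F86887 D54938
theorem F259372 : act 0 n155092 = n83178 := d20_1 (iv4 F243921) (iv4 D83178) F124252 (iv1 F123358) F128302 (iv4 F244130) (iv1 F244132) D155232 (iv3 F259371) (iv1 D164553)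
def n164554 : Q := act 5 n79032
theorem D164554 : act 5 n79032 = n164554 := rfl
theorem F259373 : act 2 n164554 = n119442 := d2_1 D164554 (iv5 D119442) (iv2 F120218)
theorem F259374 : act 6 n164554 = n79035 := d12_2 D79032 D164554 (iv5 D79035) (iv6 D35971) D35970
def n164555 : Q := act 7 n79032
theorem D164555 : act 7 n79032 = n164555 := rfl
theorem F259375 : act 2 n164555 = n119443 := d4_1 D164555 (iv7 D119443) (iv2 F120218)
theorem F259376 : act 6 n164555 = n152603 := d14_1 D164555 (iv7 D152603) (iv6 D71981) (iv7 F56683) D79032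
theorem F259377 : act 1 n119443 = n164552 := d15_0 (iv0 D164552) D164555 F259375
theorem F259378 : act 1 n119441 = n164555 := d15_1 D119441 (iv7 D164555) F120218
theorem F259379 : act 1 n164555 = n119440 := d15_0 (iv0 D119440) D119443 (iv2 F259375)
def n164556 : Q := act 5 n79033
theorem D164556 : act 5 n79033 = n164556 := rfl
theorem F259380 : act 2 n164556 = n152583 := d2_1 D164556 (iv5 D152583) F233819
theorem F259381 : act 7 n164556 = n152585 := d13_2 (iv7 F233818) D164556 (iv5 D152585)
def n164557 : Q := act 6 n79033
theorem D164557 : act 6 n79033 = n164557 := rfl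
theorem F259382 : act 2 n164557 = n152584 := d3_1 D164557 (iv6 D152584) F233819
theorem F259383 : act 7 n164557 = n152734 := d14_2 (iv7 F233818) D164557 F244039 F244036 (iv6 D152586)
theorem F259384 : act 5 n164557 = n152218 := d21_6 (iv5 F59381) (iv1 F59382) (iv5 D35970) D35971 D79033 D164557 (iv1 D152218) (iv5 D71792) (iv6 D33185) D33182
theorem F259385 : act 0 n148539 = n164557 := d17_0 F259384 (iv1 D152218) (iv5 D71792) F52412 (iv5 F50379) F130864 D32317 D69611 D148539
theorem F259386 : act 1 n148538 = n164557 := d15_0 (iv0 F259385) F233298 (iv2 F233296)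
theorem E24147 : n152735 = n152584 := ((c15_4 F244498 F244499 (iv7 F259383) F259382)).symm
theorem F259387 : act 0 n152584 = n72066 := (sb E24147 (iv1 D152735))
theorem F259388 : act 1 n152584 = n155492 := (sb E24147 F244498)
theorem E24148 : n105830 = n80607 := (c20_4 D155492 (iv1 F259388) F239769 F234155 (iv1 D80607) F57676 F28835 D17732 F41674 (iv3 F85646) (iv1 F131179))
theorem F259389 : act 2 n80607 = n70772 := (sb E24148 F233793)
theorem F259390 : act 3 n80607 = n148985 := (sb E24148 (iv3 F234155))
theorem F259391 : act 5 n80607 = n48923 := (sb E24148 (iv5 D105830))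
theorem F259392 : act 6 n80607 = n70756 := (sb E24148 F162528)
def n164558 : Q := act 3 n79034
theorem D164558 : act 3 n79034 = n164558 := rfl
theorem F259393 : act 4 n164558 = n150307 := d5_2 (iv4 F130919) D164558 (iv3 D150307) (iv4 D70775) D70774
def n164559 : Q := act 5 n79034
theorem D164559 : act 5 n79034 = n164559 := rfl
theorem F259395 : act 2 n164559 = n152585 := d2_1 D164559 (iv5 D152585) (iv2 F233816)
theorem F259396 : act 7 n164559 = n152583 := d13_2 F233817 D164559 (iv5 D152583)
def n164560 : Q := act 0 n79035
theorem D164560 : act 0 n79035 = n164560 := rfl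
def n164561 : Q := act 1 n79035
theorem D164561 : act 1 n79035 = n164561 := rfl
theorem F259397 : act 1 n164561 = n152590 := d15_1 D164561 (iv7 D152590) (iv2 F120220)
def n164562 : Q := act 4 n79035
theorem D164562 : act 4 n79035 = n164562 := rfl
theorem F259398 : act 2 n164562 = n152589 := d1_1 D164562 (iv4 D152589) (iv2 F120220)
def n164563 : Q := act 7 n79035
theorem D164563 : act 7 n79035 = n164563 := rfl
theorem F259399 : act 2 n164563 = n152590 := d4_1 D164563 (iv7 D152590) (iv2 F120220)
theorem F259400 : act 5 n164563 = n79036 := d13_1 D164563 (iv7 D79036) D79035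
theorem F259401 : act 1 n152590 = n164560 := d15_0 (iv0 D164560) D164563 F259399
theorem F259402 : act 1 n152588 = n164563 := d15_1 D152588 (iv7 D164563) F120220
theorem F259403 : act 1 n164563 = n152587 := d15_0 (iv0 D152587) D152590 (iv2 F259399)
def n164564 : Q := act 5 n79042
theorem D164564 : act 5 n79042 = n164564 := rfl
theorem F259404 : act 2 n164564 = n120603 := d2_1 D164564 (iv5 D120603) F130879
theorem F259405 : act 7 n164564 = n152592 := d13_2 (iv7 F120237) D164564 (iv5 D152592)
theorem F259406 : act 0 n164564 = n158973 := d17_2 F155360 D164564 (iv5 F250304) (iv4 F201284) (iv5 F250667) (iv0 F250671) F205212 F234140 F234139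
theorem F259407 : act 1 n164564 = n158972 := d17_6 D39409 (iv5 F199942) (iv1 F130927) F85522 D79042 D164564 F250303 (iv0 D85265) F60334
def n164565 : Q := act 4 n79045
theorem D164565 : act 4 n79045 = n164565 := rfl
theorem F259408 : act 2 n164565 = n85300 := d1_1 D164565 (iv4 D85300) (iv2 F199912)
theorem F259409 : act 7 n164565 = n146659 := d11_2 F199959 D164565 (iv4 D146659)
theorem F259410 : act 0 n164565 = n117433 := d18_2 (iv1 F120251) D164565 F183938 F104049 (iv4 F59155) (iv0 F155359) (iv4 D79042) F56686 (iv5 F104921)
theorem F259411 : act 1 n164565 = n159008 := d15_0 (iv0 D159008) (iv7 F130586) (iv2 F259408)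
def n164566 : Q := act 6 n79045
theorem D164566 : act 6 n79045 = n164566 := rfl
theorem F259412 : act 2 n164566 = n85286 := d3_1 D164566 F130580 (iv2 F199912)
theorem F259413 : act 3 n164566 = n151760 := d7_1 D164566 (iv6 D151760) F232481
theorem F259414 : act 5 n164566 = n85248 := d12_1 D164566 (iv6 D85248) (iv5 D39399) D39400 (iv5 F199914)
theorem F259415 : act 0 n164566 = n119573 := d21_4 (iv5 F131189) F199911 (iv5 F199914) D164566 (iv6 D119573) F87019 F184110 (iv5 D117520) (iv6 F130881) F131071
theorem F259416 : act 1 n164566 = n117385 := d15_1 (iv0 F259415) F183823 (iv2 F188559)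
theorem F259417 : act 7 n155377 = n164566 := d15_2 F244756 F244757 F259412
def n164567 : Q := act 0 n79046
theorem D164567 : act 0 n79046 = n164567 := rfl
def n164568 : Q := act 1 n79046
theorem D164568 : act 1 n79046 = n164568 := rfl
theorem F259418 : act 1 n164568 = n146658 := d15_1 D164568 (iv7 D146658) (iv2 F120252)
theorem F259419 : act 4 n164568 = n150313 := d18_7 F233068 (iv4 F130919) (iv1 D79034) F56685 D35974 D79046 D164568 (iv0 F236558) F227910
def n164569 : Q := act 3 n79046
theorem D164569 : act 3 n79046 = n164569 := rfl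
theorem F259420 : act 4 n164569 = n147140 := d5_2 D79046 D164569 F230702 F105197 (iv3 F56688)
theorem F259421 : act 6 n164569 = n79048 := d7_2 (iv6 F120253) D164569 (iv3 D79048)
def n164570 : Q := act 5 n79046
theorem D164570 : act 5 n79046 = n164570 := rfl
theorem F259422 : act 2 n164570 = n146657 := d2_1 D164570 (iv5 D146657) (iv2 F120252)
def n164571 : Q := act 7 n79046
theorem D164571 : act 7 n79046 = n164571 := rfl
theorem F259423 : act 2 n164571 = n146658 := d4_1 D164571 (iv7 D146658) (iv2 F120252)
theorem F259424 : act 4 n164571 = n79047 := d11_1 D164571 (iv7 D79047) D79046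
theorem F259425 : act 1 n146658 = n164567 := d15_0 (iv0 D164567) D164571 F259423
theorem F259426 : act 1 n146656 = n164571 := d15_1 D146656 (iv7 D164571) F120252
theorem F259427 : act 4 n146026 = n164567 := d20_6 (iv4 F131054) (iv1 D65648) F49212 (iv3 F50155) D68459 D146026 (iv1 F259425) F229953 F104920 (iv1 F50338)
theorem F259428 : act 0 n144929 = n146026 := d18_0 F259427 (iv1 F259425) F229953 F104921 (iv4 F108460) F120224 (iv4 F234128) (iv0 D148979) (iv5 F227906)
theorem F259429 : act 1 n164571 = n146655 := d15_0 (iv0 D146655) D146658 (iv2 F259423)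
theorem F259430 : act 4 n146655 = n144931 := d18_7 D69854 F155748 (iv1 F120226) F120222 (iv5 F120256) (iv4 F259424) F259429 (iv0 D144931) F104049
theorem F259431 : act 3 n150279 = n144931 := d20_5 D144826 (iv1 F230723) F230550 (iv3 F107230) D150279 (iv4 F259430) (iv1 F259429) F259424 F120255 (iv1 F105201)
theorem F259432 : act 2 n144931 = n146026 := d0_1 F259431 (iv3 D146026) (iv2 F204852) (iv3 F204851) F236498
theorem F259433 : act 7 n144931 = n150313 := d8_2 (iv7 F236499) F259431 (iv3 D150313)
theorem F259434 : act 7 n164568 = n146655 := d11_2 F259433 (iv4 F259419) F259430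
theorem F259435 : act 2 n146655 = n164567 := d15_3 (iv0 D164567) D164568 F259434
theorem F259436 : act 2 n164568 = n146656 := d15_3 F259426 F259429 (iv7 F259434)
theorem F259437 : act 7 n146656 = n164567 := d4_2 (iv7 F259434) F259436 (iv2 F259435)
theorem F259438 : act 7 n144932 = n146026 := d15_2 (iv0 D144931) D144932 (iv2 F259432)
theorem F259439 : act 2 n150313 = n144932 := d4_3 F259438 (iv2 F259432) F259433
theorem F259440 : act 3 n127443 = n144932 := d8_3 F259438 (iv3 D146026) F204853
theorem F259441 : act 4 n146656 = n144932 := d11_3 F259438 F259427 (iv7 F259437)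
theorem F259442 : act 1 n144933 = n146026 := d15_1 (iv0 F236558) (iv7 F259438) (iv2 F259439)
theorem E24149 : n146027 = n120581 := ((c20_2 D55531 D120581 (iv4 D146027) D146026 (iv1 F259442) F227909 (iv4 F227916) (iv1 F229127) (iv4 F229128) (iv3 D120578) (iv1 D55530))).symm
theorem F259443 : act 4 n120581 = n68459 := (sb E24149 (iv4 D146027))
def n164572 : Q := act 0 n79048
theorem D164572 : act 0 n79048 = n164572 := rfl
theorem F259445 : act 1 n143124 = n164572 := d15_0 (iv0 D164572) (iv7 F227676) F227675
def n164573 : Q := act 1 n79048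
theorem D164573 : act 1 n79048 = n164573 := rfl
def n164574 : Q := act 2 n79048
theorem D164574 : act 2 n79048 = n164574 := rfl
theorem F259446 : act 3 n164574 = n142621 := d0_2 D79048 D164574 F225489 F102709 (iv2 F56695)
theorem F259447 : act 4 n164574 = n147138 := d1_2 (iv4 F120260) D164574 (iv2 D147138)
theorem F259448 : act 7 n164574 = n143124 := d4_2 F227676 D164574 (iv2 F227675)
theorem F259449 : act 1 n164573 = n143124 := d15_1 D164573 (iv7 F259448) (iv2 D164574)
def n164575 : Q := act 5 n79048
theorem D164575 : act 5 n79048 = n164575 := rfl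
theorem F259450 : act 3 n164575 = n79049 := d6_1 D164575 (iv5 D79049) D79048
def n164576 : Q := act 6 n79049
theorem D164576 : act 6 n79049 = n164576 := rfl
def n164577 : Q := act 3 n79052
theorem D164577 : act 3 n79052 = n164577 := rfl
theorem F259452 : act 4 n164577 = n106013 := d5_2 D79052 D164577 (iv3 D106013) (iv4 F162698) F131171
def n164579 : Q := act 4 n79053
theorem D164579 : act 4 n79053 = n164579 := rfl
theorem F259459 : act 0 n164579 = n128411 := d20_1 D164579 (iv4 D128411) (iv3 F244277) (iv1 D128314) F94866 D60331 (iv1 F206420) (iv4 F240548) F240547 (iv1 F188590)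
theorem E24151 : n155314 = n119544 := (c20_5 D128315 (iv1 F232939) (iv4 D73797) D73796 D155314 F188521 D164579 F259459 (iv4 D128411) (iv3 F244277) (iv1 D128314))
theorem F259460 : act 1 n119544 = n73796 := (sb E24151 (iv0 D155314))
theorem E24152 : n155315 = n119310 := (c15_2 F259460 D155315 F187823 (iv2 F188520))
theorem F259461 : act 0 n119310 = n73796 := (sb E24152 (iv1 D155315))
theorem F259462 : act 0 n117654 = n155317 := d21_10 (iv5 D155317) (iv1 F259460) (iv5 D119544) D119545 (iv1 F232781) (iv6 D84894) (iv5 F60246) (iv1 F232697) (iv5 F188996) (iv6 F232622)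
theorem E24153 : n146650 = n117371 := ((c21_4 D117654 F259462 (iv5 D155317) (iv6 F232920) (iv1 D146650) (iv6 D68722) F50330 (iv1 F41540) D54107 D117409 F232272)).symm
theorem F259463 : act 0 n117371 = n68722 := (sb E24153 (iv1 D146650))
theorem F259464 : act 1 n117371 = n159954 := (sb E24153 F252291)
theorem F259465 : act 1 n151736 = n155317 := d15_0 (iv0 F259462) F184251 (iv2 F238620)
theorem E24154 : n147244 = n146649 := ((c15_2 F259464 F252292 F252283 F252281)).symm
theorem F259467 : act 3 n146649 = n69026 := (sb E24154 (iv3 D147244))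
theorem F259468 : act 7 n146649 = n159953 := (sb E24154 F252283)
def n164580 : Q := act 3 n79061
theorem D164580 : act 3 n79061 = n164580 := rfl
theorem F259469 : act 4 n164580 = n83159 := d5_2 D79061 D164580 F128219 (iv4 D39316) F199811
def n164583 : Q := act 6 n79066
theorem D164583 : act 6 n79066 = n164583 := rfl
theorem F259477 : act 2 n164583 = n95233 := d3_1 D164583 (iv6 D95233) F120268
theorem F259478 : act 4 n164583 = n123063 := d10_1 D164583 (iv6 D123063) (iv4 F120267)
def n164584 : Q := act 6 n79067
theorem D164584 : act 6 n79067 = n164584 := rfl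
theorem F259479 : act 2 n164584 = n79068 := d3_1 D164584 (iv6 D79068) D79067
theorem F259480 : act 3 n164584 = n149812 := d7_1 D164584 (iv6 D149812) (iv3 F120272)
def n164585 : Q := act 0 n79068
theorem D164585 : act 0 n79068 = n164585 := rfl
theorem F259481 : act 2 n95245 = n164585 := d15_3 (iv0 D164585) (iv0 F126194) (iv7 F146812)
theorem F259482 : act 4 n164585 = n124028 := d1_2 (iv4 F146811) F259481 (iv2 D124028)
def n164587 : Q := act 0 n79070
theorem D164587 : act 0 n79070 = n164587 := rfl
theorem F259485 : act 5 n164587 = n150546 := d17_3 F110493 D79070 D164587 F237054 F110381 (iv0 F54943) F50201 (iv0 F131159) D55024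
theorem F259486 : act 2 n149820 = n164587 := d2_3 F259485 (iv2 F237056) (iv5 F235830)
def n164588 : Q := act 1 n79070
theorem D164588 : act 1 n79070 = n164588 := rfl
theorem F259490 : act 7 n164588 = n149820 := d15_2 (iv0 D164587) D164588 F259486
theorem F259491 : act 5 n150022 = n164588 := d21_6 (iv5 D26866) (iv1 F24978) (iv5 F26762) D32839 (iv1 F131044) D150022 (iv1 D164588) (iv5 D79070) (iv6 D35984) (iv1 F43309)
theorem F259492 : act 2 n164588 = n149821 := d2_1 F259491 (iv5 F235664) (iv2 F236005)
def n164590 : Q := act 7 n79070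
theorem D164590 : act 7 n79070 = n164590 := rfl
theorem F259496 : act 5 n164590 = n79071 := d13_1 D164590 (iv7 D79071) D79070
theorem F259497 : act 1 n149821 = n164590 := d15_1 D149821 (iv7 D164590) F120278
theorem F259498 : act 1 n164590 = n149820 := d15_1 F259497 (iv7 F259490) F259492
def n164591 : Q := act 6 n79072
theorem D164591 : act 6 n79072 = n164591 := rfl
theorem F259500 : act 3 n164591 = n123526 := d7_1 D164591 (iv6 D123526) (iv3 F120288)
theorem F259501 : act 4 n164591 = n148924 := d10_1 D164591 (iv6 D148924) (iv4 F120289)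
def n164598 : Q := act 6 n79079
theorem D164598 : act 6 n79079 = n164598 := rfl
theorem F259515 : act 3 n164598 = n82959 := d7_1 D164598 (iv6 D82959) (iv3 F120305)
theorem F259516 : act 4 n164598 = n79081 := d10_1 D164598 (iv6 D79081) D79079
def n164599 : Q := act 6 n79080
theorem D164599 : act 6 n79080 = n164599 := rfl
theorem F259517 : act 4 n164599 = n123393 := d10_1 D164599 (iv6 D123393) (iv4 F120313)
def n164600 : Q := act 0 n79081
theorem D164600 : act 0 n79081 = n164600 := rfl
def n164601 : Q := act 1 n79081
theorem D164601 : act 1 n79081 = n164601 := rfl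
def n164602 : Q := act 5 n79081
theorem D164602 : act 5 n79081 = n164602 := rfl
def n164603 : Q := act 7 n79081
theorem D164603 : act 7 n79081 = n164603 := rfl
def n164604 : Q := act 4 n79082
theorem D164604 : act 4 n79082 = n164604 := rfl
theorem F259518 : act 3 n164604 = n82916 := d5_1 D164604 F127749 (iv3 F120316) (iv4 D79083) D79082
theorem F259519 : act 7 n164604 = n83097 := d11_2 F128749 D164604 F128107
theorem F259520 : act 0 n164604 = n149831 := d18_2 F129496 D164604 (iv4 D149831) F185399 (iv4 F185398) (iv0 F205816) (iv4 F252812) (iv0 F252816) F235194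
theorem F259521 : act 5 n164604 = n114697 := d18_4 (iv1 F132298) F132296 F129496 D164604 F178805 F106705 (iv4 F178891) F253724 (iv5 D160621)
theorem F259522 : act 0 n149828 = n164604 := d20_10 (iv4 D164604) F129485 F70000 (iv3 D35181) (iv1 F55923) (iv3 F88128) (iv4 D55692) D55690 D120791 (iv3 F235670)
def n164605 : Q := act 5 n79082
theorem D164605 : act 5 n79082 = n164605 := rfl
theorem F259523 : act 3 n164605 = n79084 := d6_1 D164605 (iv5 D79084) D79082
theorem F259524 : act 4 n164605 = n127887 := d16_4 (iv4 F178805) (iv5 F259521) (iv4 D164604) D164605 (iv5 D127887) F94611 F52019 (iv7 F85818) F85816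
theorem F259526 : act 1 n164605 = n149487 := d17_6 F236850 F236849 (iv1 F235218) (iv5 F259521) (iv4 D164604) D164605 F235110 F146759 (iv4 F235325)
def n164607 : Q := act 6 n79083
theorem D164607 : act 6 n79083 = n164607 := rfl
def n164614 : Q := act 6 n79096
theorem D164614 : act 6 n79096 = n164614 := rfl
theorem F259534 : act 2 n164614 = n119020 := d3_1 D164614 (iv6 D119020) (iv2 F120340)
theorem F259535 : act 3 n164614 = n79097 := d7_1 D164614 (iv6 D79097) D79096
theorem F259536 : act 5 n164614 = n94268 := d12_1 D164614 (iv6 D94268) (iv5 D44070) D44071 (iv5 F120341)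
def n164615 : Q := act 1 n79097
theorem D164615 : act 1 n79097 = n164615 := rfl
theorem F259537 : act 1 n164615 = n149996 := d15_1 D164615 (iv7 D149996) (iv2 F120345)
theorem F259538 : act 7 n164615 = n114856 := d15_2 (iv0 F193554) D164615 (iv2 F193553)
theorem F259539 : act 2 n149995 = n164615 := d4_3 F259538 (iv2 F193553) (iv7 F235972)
theorem F259540 : act 1 n149996 = n121343 := d15_1 F259537 (iv7 F235972) F259539
def n164616 : Q := act 7 n79097
theorem D164616 : act 7 n79097 = n164616 := rfl
theorem F259541 : act 2 n164616 = n149996 := d4_1 D164616 (iv7 D149996) (iv2 F120345)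
theorem F259542 : act 5 n164616 = n106472 := d13_1 D164616 (iv7 D106472) (iv5 F120346)
theorem F259543 : act 6 n164616 = n150000 := d14_1 D164616 (iv7 D150000) (iv6 D70565) F56730 D79097
theorem F259544 : act 1 n149995 = n164616 := d15_1 D149995 (iv7 D164616) F120345
theorem F259545 : act 1 n164616 = n114856 := d15_1 F259544 (iv7 F259538) (iv2 F259539)
def n164617 : Q := act 0 n79098
theorem D164617 : act 0 n79098 = n164617 := rfl
theorem F259546 : act 6 n164617 = n93857 := d21_5 F43586 (iv1 F45395) (iv5 F56733) D79098 D164617 (iv5 D93857) (iv1 D43872) D43873 F68976 F51812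
theorem F259547 : act 3 n118702 = n164617 := d7_3 F259546 (iv3 F251697) F251698
theorem F259548 : act 0 n164617 = n150000 := d21_10 F235981 (iv1 F250848) (iv5 F250850) (iv6 D114860) (iv1 F88595) D121349 F193567 (iv1 F114637) D93857 (iv6 F259546)
theorem F259549 : act 4 n95855 = n164617 := d20_2 F86797 D95855 (iv3 F259547) (iv1 F186708) F86487 (iv4 F76718) (iv1 F76721) (iv4 F114632) D60005 (iv1 F178287)
def n164618 : Q := act 1 n79098
theorem D164618 : act 1 n79098 = n164618 := rfl
theorem F259550 : act 1 n164618 = n150000 := d15_1 D164618 (iv7 D150000) (iv2 F120347)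
def n164619 : Q := act 7 n79098
theorem D164619 : act 7 n79098 = n164619 := rfl
theorem F259551 : act 2 n164619 = n150000 := d4_1 D164619 (iv7 D150000) (iv2 F120347)
theorem F259552 : act 3 n164619 = n148905 := d8_1 D164619 (iv7 D148905) (iv3 F120348)
theorem F259553 : act 4 n164619 = n95314 := d11_1 D164619 (iv7 D95314) (iv4 F120349)
theorem F259554 : act 5 n164619 = n159347 := d13_1 D164619 (iv7 D159347) (iv5 F120350)
theorem F259555 : act 6 n164619 = n149996 := d14_1 D164619 (iv7 D149996) (iv6 D70563) (iv7 F56732) D79098
theorem F259556 : act 1 n149999 = n164619 := d15_1 D149999 (iv7 D164619) F120347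
theorem F259557 : act 0 n149998 = n164619 := d21_10 F259554 (iv1 F250856) (iv5 F193561) (iv6 D121346) (iv1 F88593) (iv6 F144681) F144680 (iv1 F114672) D159842 (iv6 F251976)
theorem F259558 : act 0 n95314 = n127780 := d20_7 (iv4 F37044) D48734 F136453 D75145 (iv1 F248548) (iv3 F259552) F259553 (iv4 D127780) (iv3 D60005) (iv1 D28490)
theorem F259559 : act 3 n152474 = n149998 := d20_9 F259553 F259558 (iv4 D127780) (iv3 D60005) (iv1 D28490) (iv3 F25580) (iv4 F52466) D71921 D152474 F259557
theorem F259560 : act 4 n95860 = n96193 := d20_6 (iv4 D127780) (iv1 F178287) F86797 F70348 D44759 D95860 (iv1 F147924) F125628 (iv3 F146959) F259558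
theorem F259561 : act 1 n95307 = n127780 := d15_0 (iv0 F259558) (iv7 D95314) (iv2 F146948)
theorem F259562 : act 0 n114273 = n123604 := d20_1 D114273 (iv4 F235978) F235977 D149998 (iv3 F259559) (iv4 D152474) (iv1 F239330) F239326 (iv3 F178068) (iv1 F178069)
def n164620 : Q := act 6 n79099
theorem D164620 : act 6 n79099 = n164620 := rfl
theorem F259563 : act 3 n164620 = n79100 := d7_1 D164620 (iv6 D79100) D79099
theorem F259564 : act 4 n164620 = n151575 := d10_1 D164620 (iv6 D151575) (iv4 F120351)
def n164621 : Q := act 0 n79100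
theorem D164621 : act 0 n79100 = n164621 := rfl
def n164622 : Q := act 1 n79100
theorem D164622 : act 1 n79100 = n164622 := rfl
theorem F259565 : act 1 n164622 = n150004 := d15_1 D164622 (iv7 D150004) (iv2 F120356)
def n164623 : Q := act 5 n79100
theorem D164623 : act 5 n79100 = n164623 := rfl
theorem F259566 : act 2 n164623 = n150003 := d2_1 D164623 (iv5 D150003) (iv2 F120356)
theorem F259567 : act 6 n164623 = n95782 := d12_2 D79100 D164623 (iv5 D95782) (iv6 D44730) (iv5 F56739)
def n164624 : Q := act 7 n79100
theorem D164624 : act 7 n79100 = n164624 := rfl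
theorem F259568 : act 2 n164624 = n150004 := d4_1 D164624 (iv7 D150004) (iv2 F120356)
theorem F259569 : act 4 n164624 = n79103 := d11_1 D164624 (iv7 D79103) (iv4 F120357)
theorem F259570 : act 6 n164624 = n164488 := d14_1 D164624 (iv7 D164488) (iv6 D78997) (iv7 F56738) D79100
theorem F259571 : act 1 n150004 = n164621 := d15_0 (iv0 D164621) D164624 F259568
theorem F259572 : act 1 n150002 = n164624 := d15_1 D150002 (iv7 D164624) F120356
theorem F259573 : act 1 n164624 = n150001 := d15_0 (iv0 D150001) D150004 (iv2 F259568)
def n164625 : Q := act 3 n79101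
theorem D164625 : act 3 n79101 = n164625 := rfl
theorem F259574 : act 7 n164625 = n150008 := d8_2 (iv7 F193501) D164625 (iv3 D150008)
def n164626 : Q := act 4 n79101
theorem D164626 : act 4 n79101 = n164626 := rfl
theorem F259575 : act 2 n164626 = n150006 := d1_1 D164626 (iv4 D150006) F193502
theorem F259576 : act 7 n164626 = n150009 := d11_2 (iv7 F193501) D164626 (iv4 D150009)
def n164627 : Q := act 5 n79101
theorem D164627 : act 5 n79101 = n164627 := rfl
theorem F259577 : act 2 n164627 = n113986 := d2_1 D164627 F193503 F193502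
theorem F259578 : act 7 n164627 = n105362 := d13_2 (iv7 F193501) D164627 F161577
theorem F259579 : act 6 n114001 = n164627 := d14_5 F259578 (iv6 D105362) F193492 D52615 D114001
theorem F259581 : act 1 n164627 = n113984 := d15_0 (iv0 D113984) D113986 (iv2 F259577)
def n164628 : Q := act 6 n79101
theorem D164628 : act 6 n79101 = n164628 := rfl
theorem F259582 : act 2 n164628 = n150007 := d3_1 D164628 (iv6 D150007) F193502
def n164629 : Q := act 3 n79102
theorem D164629 : act 3 n79102 = n164629 := rfl
theorem F259583 : act 5 n164629 = n113972 := d6_2 F120359 D164629 F177312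
theorem F259584 : act 7 n164629 = n150005 := d8_2 F193500 D164629 (iv3 D150005)
def n164630 : Q := act 4 n79102
theorem D164630 : act 4 n79102 = n164630 := rfl
theorem F259585 : act 2 n164630 = n150009 := d1_1 D164630 (iv4 D150009) (iv2 F193499)
theorem F259586 : act 7 n164630 = n150006 := d11_2 F193500 D164630 (iv4 D150006)
def n164632 : Q := act 5 n79108
theorem D164632 : act 5 n79108 = n164632 := rfl
theorem F259596 : act 0 n164632 = n84444 := d17_2 F150363 D164632 (iv5 D84444) (iv4 D38935) D38936 F129580 F149193 F149271 (iv4 F124528)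
theorem F259597 : act 0 n84432 = n164632 := d21_10 (iv5 D164632) F152324 F124547 F120554 (iv1 F148235) (iv6 D95265) (iv5 F120371) F147868 (iv5 F148190) (iv6 F148192)
def n164633 : Q := act 1 n79111
theorem D164633 : act 1 n79111 = n164633 := rfl
theorem F259599 : act 7 n164633 = n122608 := d15_2 F123412 D164633 F196402
theorem F259601 : act 6 n83343 = n164633 := d21_3 D18316 D38397 D83343 (iv1 D164633) (iv6 D79111) D79110 (iv1 F120386) F120388 (iv6 D38396) (iv1 D18315)
theorem F259603 : act 3 n164633 = n120512 := d7_1 F259601 (iv6 F191968) F134087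
def n164634 : Q := act 7 n79111
theorem D164634 : act 7 n79111 = n164634 := rfl
theorem F259607 : act 5 n164634 = n121794 := d13_1 D164634 F194384 (iv5 F122307)
theorem F259608 : act 6 n164634 = n96826 := d14_1 D164634 F149290 (iv6 D75742) (iv7 F116628) D79111
def n164635 : Q := act 0 n79112
theorem D164635 : act 0 n79112 = n164635 := rfl
theorem F259611 : act 3 n164635 = n118717 := d20_5 F118634 (iv1 F121247) (iv4 F56766) (iv3 F120397) D164635 (iv4 D118717) (iv1 F86450) (iv4 F86509) F86508 (iv1 F89025)
def n164650 : Q := act 0 n79120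
theorem D164650 : act 0 n79120 = n164650 := rfl
def n164651 : Q := act 1 n79120
theorem D164651 : act 1 n79120 = n164651 := rfl
theorem F259634 : act 1 n164651 = n79124 := d15_1 D164651 (iv7 D79124) (iv2 F120405)
theorem F259635 : act 3 n164651 = n99885 := d20_5 (iv4 D36671) (iv1 F59726) (iv4 F56780) (iv3 F120407) (iv1 F259634) (iv4 D99885) (iv1 D46646) (iv4 F57823) F57822 (iv1 F117343)
theorem F259637 : act 7 n79121 = n164651 := d8_0 F259635 (iv7 F233122) F233120
theorem F259638 : act 2 n79121 = n164650 := d15_3 (iv0 D164650) D164651 (iv7 F259637)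
theorem F259639 : act 7 n79122 = n164650 := d15_2 (iv0 D79121) D79122 (iv2 F259638)
theorem F259640 : act 2 n164651 = n79122 := d4_3 F259639 (iv2 F259638) F259637
theorem F259641 : act 1 n79124 = n164650 := d15_1 F259634 (iv7 F259639) (iv2 F259640)
theorem F259642 : act 4 n150409 = n164650 := d20_0 (iv1 F259641) (iv4 F149227) F149226 (iv1 F71286) D55595 F87937 (iv1 F130803) (iv4 F51997) (iv3 F107340) D150409
def n164653 : Q := act 7 n79120
theorem D164653 : act 7 n79120 = n164653 := rfl
theorem F259646 : act 1 n79122 = n164653 := d15_1 D79122 (iv7 D164653) F120405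
theorem F259647 : act 1 n164653 = n79121 := d15_1 F259646 F259637 F259640
def n164654 : Q := act 4 n79121
theorem D164654 : act 4 n79121 = n164654 := rfl
theorem F259648 : act 2 n164654 = n150409 := d1_1 D164654 F259642 (iv2 F259638)
theorem F259650 : act 0 n164654 = n150412 := d20_1 D164654 (iv4 F238701) F238700 F130821 (iv3 F56016) (iv4 D35303) (iv1 F59788) (iv4 F28436) (iv3 F56771) D79121
def n164656 : Q := act 6 n79121
theorem D164656 : act 6 n79121 = n164656 := rfl
def n164657 : Q := act 3 n79122
theorem D164657 : act 3 n79122 = n164657 := rfl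
def n164658 : Q := act 4 n79122
theorem D164658 : act 4 n79122 = n164658 := rfl
theorem F259652 : act 7 n164658 = n150409 := d11_2 (iv7 F259639) D164658 F259642
theorem F259653 : act 0 n150412 = n164658 := d20_10 (iv4 D164658) (iv1 D79122) (iv4 F71276) F71275 F59814 D34728 F54963 (iv1 F130800) (iv4 F107345) (iv3 F236773)
theorem F259654 : act 3 n159060 = n164658 := d20_5 (iv4 D16818) D16815 D34715 D75961 D159060 (iv4 D164658) (iv1 D79122) (iv4 F71276) F71275 F59814
theorem F259655 : act 1 n150408 = n164658 := d15_0 (iv0 F259653) (iv7 D150412) (iv2 F236767)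
def n164665 : Q := act 4 n79125
theorem D164665 : act 4 n79125 = n164665 := rfl
theorem F259659 : act 2 n164665 = n82997 := d1_1 D164665 (iv4 F132784) F132783
theorem F259660 : act 3 n164665 = n82880 := d5_1 D164665 F127651 F59244 (iv4 F56773) D79125
theorem F259661 : act 5 n164665 = n96740 := d9_2 (iv5 F120408) D164665 (iv4 D96740) (iv5 F147902) F147903 (iv5 D57476) (iv4 F90634) (iv5 F156504) (iv4 D101591) (iv5 F112921) F112922 (iv5 F147908) F147909 (iv5 D57216) (iv4 F56830)
theorem F259662 : act 7 n164665 = n83311 := d11_2 (iv7 F120409) D164665 F128410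
theorem F259663 : act 0 n164665 = n101590 := d17_0 (iv5 F188195) F188197 (iv5 F136973) F136972 F134067 F124098 (iv5 F122985) (iv0 F120410) D164665
theorem F259664 : act 1 n164665 = n83488 := d18_6 (iv1 D73417) F90251 (iv1 D57214) (iv4 F56830) (iv5 F120408) D164665 F128591 F116533 F116534
def n164666 : Q := act 6 n79125
theorem D164666 : act 6 n79125 = n164666 := rfl
def n164675 : Q := act 2 n79128
theorem D164675 : act 2 n79128 = n164675 := rfl
theorem F259677 : act 4 n164675 = n83554 := d1_2 (iv4 F255738) D164675 (iv2 D83554)
theorem F259678 : act 7 n79129 = n164675 := d15_2 (iv0 D79128) D79129 (iv2 D164675)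
theorem E24155 : n83561 = n79129 := (c11_4 F259678 F259677 (iv7 F128647) D83561)
theorem F259679 : act 4 n79129 = n38524 := (sb E24155 (iv4 D83561))
theorem F259680 : act 0 n119413 = n83560 := d20_4 (iv4 F188769) (iv1 F188169) F188165 (iv3 F188158) (iv3 D83560) (iv4 F259679) (iv1 D79129) (iv4 F57450) F57449 D54918
theorem F259681 : act 1 n119406 = n83560 := d15_0 (iv0 F259680) (iv7 D119413) (iv2 F188145)
def n164678 : Q := act 6 n79128
theorem D164678 : act 6 n79128 = n164678 := rfl
theorem F259682 : act 4 n164678 = n83558 := d10_1 D164678 (iv6 D83558) (iv4 F255738)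
def n164680 : Q := act 3 n79129
theorem D164680 : act 3 n79129 = n164680 := rfl
theorem F259685 : act 0 n79720 = n164680 := d20_4 F132548 (iv1 F64934) F120912 D79720 (iv3 D164680) F259679 (iv1 D38524) (iv4 F57825) (iv3 F60911) D86444
def n164695 : Q := act 1 n79134
theorem D164695 : act 1 n79134 = n164695 := rfl
theorem F259696 : act 1 n164695 = n121924 := d15_1 D164695 (iv7 F194611) F124198
theorem F259698 : act 4 n164695 = n79147 := d17_9 (iv1 D79147) F56871 (iv1 D36136) (iv5 D17473) (iv4 F28467) D36123 D79350 (iv5 F121944) D164695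
def n164697 : Q := act 1 n79135
theorem D164697 : act 1 n79135 = n164697 := rfl
theorem F259708 : act 3 n104174 = n164697 := d20_3 F233091 (iv1 F75772) (iv4 F159702) (iv1 D164697) (iv3 D79135) F117341 (iv1 D35351) (iv4 F28906) (iv3 F57822) D80758
def n164703 : Q := act 5 n79137
theorem D164703 : act 5 n79137 = n164703 := rfl
theorem F259719 : act 1 n164703 = n120727 := d17_6 (iv1 F121472) D120838 (iv1 F254775) F254773 (iv4 F120416) D164703 (iv5 D120727) F121498 F56832
def n164717 : Q := act 1 n79142
theorem D164717 : act 1 n79142 = n164717 := rfl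
theorem F259730 : act 1 n164717 = n151757 := d15_1 D164717 (iv7 F252241) F252239
def n164722 : Q := act 1 n79144
theorem D164722 : act 1 n79144 = n164722 := rfl
theorem F259734 : act 7 n164722 = n121818 := d15_2 (iv0 F194551) D164722 F194439
theorem F259735 : act 4 n164722 = n158714 := d17_9 (iv1 F249892) F193975 (iv1 D121570) F88803 F43910 D36156 D79408 (iv5 F121992) D164722
theorem F259737 : act 2 n121885 = n164722 := d1_3 F259735 (iv2 F255101) F255098
def n164723 : Q := act 7 n79144
theorem D164723 : act 7 n79144 = n164723 := rfl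
theorem F259740 : act 5 n164723 = n120806 := d13_1 D164723 F192697 (iv5 F121992)
theorem F259741 : act 1 n121885 = n164723 := d15_1 F194553 (iv7 D164723) (iv2 F123657)
theorem F259742 : act 1 n164723 = n121818 := d15_1 F259741 (iv7 F259734) (iv2 F259737)
def n164726 : Q := act 0 n79149
theorem D164726 : act 0 n79149 = n164726 := rfl
theorem F259748 : act 5 n164726 = n123190 := d17_3 D36031 D79149 D164726 F197464 D161399 (iv0 F255231) (iv5 D80234) F117081 F28722
theorem F259750 : act 1 n79150 = n164726 := d15_0 (iv0 D164726) F120434 (iv2 F120435)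
def n164727 : Q := act 6 n79152
theorem D164727 : act 6 n79152 = n164727 := rfl
theorem F259754 : act 4 n164727 = n161201 := d10_1 D164727 (iv6 D161201) F123316
theorem F259755 : act 5 n164727 = n80898 := d12_1 D164727 F129655 (iv5 F129650) (iv6 F255890) F255887
theorem F259756 : act 0 n124567 = n164727 := d21_4 (iv5 D38375) (iv1 F118382) D58146 D124567 (iv6 D164727) (iv5 F255887) (iv1 F255891) (iv5 F250076) (iv6 F250078) (iv1 D83307)
theorem E24156 : n162103 = n161201 := (c18_3 (iv1 F119105) (iv4 F193896) (iv1 F256199) (iv4 F259754) F259755 (iv4 F195036) F195035 F195008 F126068 (iv5 F126066))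
theorem F259757 : act 0 n161201 = n77881 := (sb E24156 (iv1 D162103))
def n164729 : Q := act 6 n79155
theorem D164729 : act 6 n79155 = n164729 := rfl
theorem F259761 : act 2 n164729 = n127962 := d3_1 D164729 (iv6 D127962) (iv2 F120440)
def n164731 : Q := act 0 n79157
theorem D164731 : act 0 n79157 = n164731 := rfl
theorem F259765 : act 2 n82575 = n164731 := d15_3 (iv0 D164731) F252218 (iv7 F127195)
theorem F259766 : act 3 n164731 = n121903 := d0_2 (iv3 F127194) F259765 (iv2 D121903) (iv3 D56339) (iv2 F89145)
theorem F259767 : act 4 n164731 = n82574 := d1_2 D82575 F259765 (iv2 D82574)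
theorem F259768 : act 7 n164731 = n121919 := d4_2 (iv7 F127195) F259765 (iv2 D121919)
theorem F259769 : act 1 n121918 = n164731 := d15_1 D121918 F259768 (iv2 D121919)
def n164734 : Q := act 4 n79158
theorem D164734 : act 4 n79158 = n164734 := rfl
theorem F259774 : act 3 n164734 = n122615 := d5_1 D164734 (iv4 D122615) F112544 F112543 (iv3 F120444)
theorem F259775 : act 0 n164734 = n96752 := d17_0 (iv5 F239611) F239612 F149986 F129403 F124171 (iv0 D55683) D55685 F120446 D164734
def n164741 : Q := act 4 n79162
theorem D164741 : act 4 n79162 = n164741 := rfl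
theorem F259787 : act 3 n164741 = n123060 := d5_1 D164741 (iv4 D123060) F90510 F90509 F120453
theorem F259788 : act 7 n164741 = n123505 := d11_2 F124176 D164741 F197926
theorem F259789 : act 0 n164741 = n84388 := d18_2 (iv1 F120452) D164741 F132628 (iv5 F249581) (iv4 D158399) (iv0 F113401) F56788 F57791 (iv5 F77347)
def n164743 : Q := act 0 n79163
theorem D164743 : act 0 n79163 = n164743 := rfl
def n164744 : Q := act 1 n79163
theorem D164744 : act 1 n79163 = n164744 := rfl
theorem F259791 : act 1 n164744 = n149898 := d15_1 D164744 F235773 F132823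
theorem F259792 : act 3 n154265 = n164744 := d20_3 (iv4 F242356) (iv1 F242358) D154265 (iv1 D164744) F120455 (iv4 F57442) D80266 (iv4 F124134) (iv3 F242360) (iv1 F242362)
def n164746 : Q := act 7 n79163
theorem D164746 : act 7 n79163 = n164746 := rfl
theorem F259795 : act 2 n164746 = n149898 := d4_1 D164746 F235773 F132823
theorem F259797 : act 1 n149898 = n164743 := d15_0 (iv0 D164743) D164746 F259795
def n164751 : Q := act 4 n79165
theorem D164751 : act 4 n79165 = n164751 := rfl
theorem F259800 : act 3 n164751 = n119111 := d5_1 D164751 F234175 F234176 F234177 F235555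
def n164758 : Q := act 2 n79168
theorem D164758 : act 2 n79168 = n164758 := rfl
theorem F259807 : act 7 n79169 = n164758 := d15_2 (iv0 D79168) D79169 (iv2 D164758)
def n164759 : Q := act 5 n79168
theorem D164759 : act 5 n79168 = n164759 := rfl
def n164761 : Q := act 7 n79168
theorem D164761 : act 7 n79168 = n164761 := rfl
theorem F259810 : act 4 n164761 = n161303 := d11_1 D164761 (iv7 D161303) (iv4 F129630)
def n164762 : Q := act 3 n79169
theorem D164762 : act 3 n79169 = n164762 := rfl
theorem F259811 : act 0 n164762 = n161836 := d20_10 (iv4 D161836) (iv1 D77724) D77726 F132545 (iv1 F132543) (iv3 F122004) (iv4 F123128) (iv1 F123131) F129631 D164762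
def n164763 : Q := act 5 n79169
theorem D164763 : act 5 n79169 = n164763 := rfl
def n164773 : Q := act 4 n79173
theorem D164773 : act 4 n79173 = n164773 := rfl
def n164782 : Q := act 0 n79177
theorem D164782 : act 0 n79177 = n164782 := rfl
theorem F259828 : act 2 n79549 = n164782 := d15_3 (iv0 D164782) (iv0 F121548) (iv7 F122187)
theorem F259830 : act 7 n164782 = n79556 := d4_2 (iv7 F122187) F259828 F122192
theorem F259831 : act 1 n80695 = n79556 := d15_1 F197672 (iv7 F259830) (iv2 F259828)
def n164797 : Q := act 1 n79182
theorem D164797 : act 1 n79182 = n164797 := rfl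
theorem F259845 : act 1 n164797 = n151721 := d15_1 D164797 (iv7 F252426) F252424
def n164812 : Q := act 6 n79195
theorem D164812 : act 6 n79195 = n164812 := rfl
theorem F259864 : act 4 n164812 = n161143 := d10_1 D164812 (iv6 D161143) (iv4 F122284)
def n164818 : Q := act 2 n79197
theorem D164818 : act 2 n79197 = n164818 := rfl
theorem F259867 : act 6 n164818 = n79208 := d3_2 (iv6 F120473) D164818 (iv2 D79208)
def n164826 : Q := act 1 n79200
theorem D164826 : act 1 n79200 = n164826 := rfl
def n164827 : Q := act 2 n79200
theorem D164827 : act 2 n79200 = n164827 := rfl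
theorem F259874 : act 1 n164827 = n163769 := d15_0 (iv0 F258124) F122255 D164827
def n164828 : Q := act 5 n79200
theorem D164828 : act 5 n79200 = n164828 := rfl
def n164829 : Q := act 6 n79200
theorem D164829 : act 6 n79200 = n164829 := rfl
theorem F259876 : act 3 n164829 = n79202 := d7_1 D164829 (iv6 D79202) D79200
def n164832 : Q := act 5 n79202
theorem D164832 : act 5 n79202 = n164832 := rfl
def n164833 : Q := act 7 n79202
theorem D164833 : act 7 n79202 = n164833 := rfl
def n164834 : Q := act 0 n79203
theorem D164834 : act 0 n79203 = n164834 := rfl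
def n164835 : Q := act 1 n79203
theorem D164835 : act 1 n79203 = n164835 := rfl
def n164836 : Q := act 2 n79203
theorem D164836 : act 2 n79203 = n164836 := rfl
theorem F259879 : act 4 n164836 = n160265 := d1_2 (iv4 F120479) D164836 (iv2 D160265)
def n164837 : Q := act 5 n79203
theorem D164837 : act 5 n79203 = n164837 := rfl
def n164838 : Q := act 6 n79203
theorem D164838 : act 6 n79203 = n164838 := rfl
def n164841 : Q := act 3 n79206
theorem D164841 : act 3 n79206 = n164841 := rfl
def n164842 : Q := act 4 n79206
theorem D164842 : act 4 n79206 = n164842 := rfl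
theorem F259884 : act 2 n164842 = n158894 := d1_1 D164842 F250187 F254233
def n164843 : Q := act 5 n79206
theorem D164843 : act 5 n79206 = n164843 := rfl
def n164844 : Q := act 6 n79206
theorem D164844 : act 6 n79206 = n164844 := rfl
def n164845 : Q := act 5 n79207
theorem D164845 : act 5 n79207 = n164845 := rfl
def n164846 : Q := act 6 n79207
theorem D164846 : act 6 n79207 = n164846 := rfl
def n164847 : Q := act 5 n79208
theorem D164847 : act 5 n79208 = n164847 := rfl
theorem F259885 : act 2 n164847 = n79209 := d2_1 D164847 (iv5 D79209) D79208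
def n164859 : Q := act 2 n79214
theorem D164859 : act 2 n79214 = n164859 := rfl
theorem F259891 : act 3 n164859 = n119402 := d0_2 D79214 D164859 F188131 F128670 F125574
theorem F259892 : act 4 n164859 = n80684 := d1_2 (iv4 F120492) D164859 F124122
def n164861 : Q := act 6 n79215
theorem D164861 : act 6 n79215 = n164861 := rfl
def n164867 : Q := act 6 n79219
theorem D164867 : act 6 n79219 = n164867 := rfl
def n164886 : Q := act 0 n79225
theorem D164886 : act 0 n79225 = n164886 := rfl
theorem F259905 : act 1 n79451 = n164886 := d15_0 (iv0 D164886) F120499 D79451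
def n164888 : Q := act 2 n79225
theorem D164888 : act 2 n79225 = n164888 := rfl
theorem F259907 : act 4 n164888 = n84738 := d1_2 (iv4 F120498) D164888 (iv2 D84738)
theorem F259908 : act 7 n164888 = n79451 := d4_2 (iv7 F120499) D164888 (iv2 D79451)
def n164905 : Q := act 7 n79231
theorem D164905 : act 7 n79231 = n164905 := rfl
theorem F259956 : act 4 n164905 = n84059 := d11_1 D164905 F129040 (iv4 F122034)
theorem F259959 : act 1 n79309 = n164905 := d15_1 F122026 (iv7 D164905) F120513
theorem F259960 : act 1 n164905 = n79457 := d15_1 F259959 (iv7 F122025) (iv2 F121703)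
def n164919 : Q := act 0 n79238
theorem D164919 : act 0 n79238 = n164919 := rfl
theorem F259989 : act 1 n79525 = n164919 := d15_0 (iv0 D164919) F120525 D79525
theorem F259990 : act 7 n164919 = n79326 := d15_2 (iv0 F255729) F259989 (iv2 F188148)
def n164920 : Q := act 2 n79238
theorem D164920 : act 2 n79238 = n164920 := rfl
theorem F259991 : act 3 n164920 = n79494 := d0_2 D79238 D164920 (iv2 D79494) (iv3 D36194) (iv2 F118148)
def n164922 : Q := act 6 n79238
theorem D164922 : act 6 n79238 = n164922 := rfl
theorem F259997 : act 3 n164922 = n79240 := d7_1 D164922 (iv6 D79240) D79238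
def n164927 : Q := act 0 n79240
theorem D164927 : act 0 n79240 = n164927 := rfl
def n164928 : Q := act 1 n79240
theorem D164928 : act 1 n79240 = n164928 := rfl
theorem F260010 : act 4 n164928 = n123368 := d18_7 (iv1 F126552) (iv4 F124598) (iv1 F124599) (iv4 D36949) (iv5 F56810) (iv4 F120529) D164928 F197711 (iv5 D82138)
theorem F260012 : act 7 n79348 = n164928 := d11_0 F260010 F197712 (iv4 F121942)
theorem E24157 : n164927 = n120758 := ((c15_4 (iv0 D164927) D164928 (iv7 F260012) (iv2 F192553))).symm
theorem F260013 : act 1 n120758 = n79240 := (sb E24157 (iv0 D164927))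
def n164930 : Q := act 7 n79240
theorem D164930 : act 7 n79240 = n164930 := rfl
theorem F260019 : act 4 n164930 = n79246 := d11_1 D164930 (iv7 D79246) (iv4 F120529)
theorem F260020 : act 6 n164930 = n79532 := d14_1 D164930 (iv7 D79532) (iv6 D36216) (iv7 F118149) D79240
def n164931 : Q := act 4 n79241
theorem D164931 : act 4 n79241 = n164931 := rfl
theorem F260028 : act 0 n164931 = n84730 := d18_2 (iv1 F120530) D164931 (iv4 D84730) (iv5 D39142) F56807 (iv0 D36065) F28443 D17454 D36077
def n164932 : Q := act 0 n79242
theorem D164932 : act 0 n79242 = n164932 := rfl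
theorem F260030 : act 4 n164932 = n123364 := d18_3 (iv1 D79241) D79242 D164932 F197695 F126353 F259831 (iv4 D79556) (iv0 F120421) F120534
def n164933 : Q := act 1 n79242
theorem D164933 : act 1 n79242 = n164933 := rfl
theorem F260036 : act 4 n164933 = n123365 := d18_7 (iv1 D27488) (iv4 F44403) (iv1 F120714) (iv4 D36071) D36072 D79242 D164933 F197699 (iv5 D57464)
def n164936 : Q := act 6 n79242
theorem D164936 : act 6 n79242 = n164936 := rfl
theorem F260043 : act 2 n164936 = n79511 := d3_1 D164936 (iv6 D79511) (iv2 F120536)
theorem F260045 : act 7 n164936 = n120914 := d14_2 (iv7 F120537) D164936 (iv6 D120914) F122158 (iv6 D79535)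
def n164937 : Q := act 1 n79249
theorem D164937 : act 1 n79249 = n164937 := rfl
theorem F260047 : act 1 n164937 = n79477 := d15_1 D164937 (iv7 F136108) F136106
theorem F260049 : act 5 n164937 = n80669 := d17_7 (iv1 F125638) (iv5 F199206) (iv1 F199207) (iv5 D58131) (iv4 F56812) D79249 D164937 F136134 F118954
def n164938 : Q := act 4 n79249
theorem D164938 : act 4 n79249 = n164938 := rfl
theorem F260051 : act 2 n164938 = n84534 := d1_1 D164938 (iv4 F136111) F136106
theorem F260052 : act 6 n164938 = n84367 := d10_2 F120554 D164938 F129463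
theorem F260055 : act 1 n164938 = n124582 := d18_6 (iv1 F44721) (iv4 F91911) (iv1 F91913) (iv4 F56812) D79249 D164938 (iv4 D124582) (iv0 D58155) (iv5 D27716)
theorem F260056 : act 5 n124621 = n164938 := d17_7 (iv1 F91961) (iv5 D27721) (iv1 D13231) D13232 D27725 D58189 D124621 F260055 (iv4 D124582)
def n164940 : Q := act 0 n79251
theorem D164940 : act 0 n79251 = n164940 := rfl
theorem F260064 : act 1 n79494 = n164940 := d15_0 (iv0 D164940) F121588 D79494
def n164952 : Q := act 3 n79257
theorem D164952 : act 3 n79257 = n164952 := rfl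
def n164955 : Q := act 6 n79259
theorem D164955 : act 6 n79259 = n164955 := rfl
theorem F260103 : act 4 n164955 = n124614 := d10_1 D164955 (iv6 D124614) (iv4 F121612)
theorem F260104 : act 5 n164955 = n96321 := d12_1 D164955 (iv6 F148209) (iv5 D56334) D56335 (iv5 F121610)
theorem F260105 : act 0 n164955 = n80667 := d21_10 (iv5 D80667) (iv1 F61536) (iv5 F133623) F133624 (iv1 F70712) (iv6 F146885) (iv5 F194567) (iv1 D121898) (iv5 F121610) D164955
theorem F260106 : act 1 n164955 = n80668 := d15_1 (iv0 F260105) (iv7 F133621) F133619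
theorem E24158 : n159214 = n124614 := (c18_7 (iv1 D36817) (iv4 F29101) (iv1 F59740) (iv4 D34788) D34789 D76161 D159214 (iv4 F260103) F260106 (iv5 D80668))
theorem F260107 : act 0 n124614 = n76161 := (sb E24158 (iv1 D159214))
def n164956 : Q := act 3 n79260
theorem D164956 : act 3 n79260 = n164956 := rfl
theorem F260112 : act 4 n164956 = n124612 := d5_2 D79260 D164956 (iv3 D124612) (iv4 F121612) (iv3 D79259)
def n164959 : Q := act 3 n79262
theorem D164959 : act 3 n79262 = n164959 := rfl
theorem F260119 : act 4 n164959 = n84777 := d5_2 F121630 D164959 (iv3 D84777) (iv4 D39177) D39176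
theorem F260120 : act 7 n164959 = n79560 := d8_2 (iv7 F121631) D164959 (iv3 D79560)
def n164967 : Q := act 2 n79264
theorem D164967 : act 2 n79264 = n164967 := rfl
theorem F260134 : act 6 n164967 = n79270 := d3_2 (iv6 F121624) D164967 (iv2 D79270)
def n164970 : Q := act 0 n79265
theorem D164970 : act 0 n79265 = n164970 := rfl
theorem F260137 : act 5 n164970 = n84730 := d17_3 (iv1 D79263) D79265 D164970 (iv4 D84730) (iv5 D39142) (iv0 F120713) D57444 D123347 F197671
theorem F260139 : act 7 n79569 = n164970 := d13_0 F260137 (iv7 F197718) (iv5 F197721)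
theorem F260140 : act 1 n79572 = n164970 := d17_6 (iv1 D79241) (iv5 D36072) (iv1 F28448) (iv5 F28483) (iv4 F56937) (iv5 F122200) F260137 (iv0 F260028) (iv4 D164931)
def n164973 : Q := act 6 n79265
theorem D164973 : act 6 n79265 = n164973 := rfl
theorem F260149 : act 5 n164973 = n79275 := d12_1 D164973 (iv6 D79275) (iv5 D36084) (iv6 F56817) D79265
def n164975 : Q := act 6 n79266
theorem D164975 : act 6 n79266 = n164975 := rfl
theorem F260155 : act 2 n164975 = n79573 := d3_1 D164975 (iv6 D79573) (iv2 F121626)
theorem F260156 : act 4 n164975 = n79267 := d10_1 D164975 (iv6 D79267) (iv4 F121627)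
theorem F260157 : act 7 n164975 = n79276 := d14_2 D79266 D164975 (iv6 D79276) (iv7 D36085) (iv6 F56817)
theorem F260159 : act 0 n79704 = n164975 := d20_1 (iv4 F250144) F260156 F121640 (iv1 F116204) D121646 (iv4 F253379) (iv1 D124249) F91650 (iv3 F91646) D124238
def n164976 : Q := act 2 n79268
theorem D164976 : act 2 n79268 = n164976 := rfl
theorem F260160 : act 7 n79269 = n164976 := d15_2 (iv0 D79268) D79269 (iv2 D164976)
def n164977 : Q := act 3 n79268
theorem D164977 : act 3 n79268 = n164977 := rfl
theorem F260161 : act 4 n164977 = n163440 := d20_6 (iv4 D26919) F21385 D17457 D36083 D79268 D164977 (iv1 D163440) (iv4 F192853) (iv3 D120937) (iv1 D55779)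
def n164978 : Q := act 4 n79268
theorem D164978 : act 4 n79268 = n164978 := rfl
def n164979 : Q := act 5 n79268
theorem D164979 : act 5 n79268 = n164979 := rfl
def n164980 : Q := act 6 n79268
theorem D164980 : act 6 n79268 = n164980 := rfl
def n164981 : Q := act 7 n79268
theorem D164981 : act 7 n79268 = n164981 := rfl
theorem F260162 : act 2 n164981 = n79269 := d4_1 D164981 F260160 (iv2 D164976)
def n164987 : Q := act 1 n79270
theorem D164987 : act 1 n79270 = n164987 := rfl
theorem F260164 : act 1 n164987 = n79272 := d15_1 D164987 (iv7 D79272) D79270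
def n164988 : Q := act 5 n79270
theorem D164988 : act 5 n79270 = n164988 := rfl
theorem F260165 : act 2 n164988 = n79271 := d2_1 D164988 (iv5 D79271) D79270
def n164992 : Q := act 6 n79271
theorem D164992 : act 6 n79271 = n164992 := rfl
theorem F260167 : act 3 n164992 = n79275 := d7_1 D164992 (iv6 D79275) (iv3 F121645)
def n164994 : Q := act 3 n79273
theorem D164994 : act 3 n79273 = n164994 := rfl
theorem F260170 : act 5 n164994 = n120738 := d6_2 (iv5 F121648) D164994 (iv3 D120738)
theorem F260171 : act 7 n164994 = n79696 := d8_2 F121652 D164994 (iv3 D79696)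
theorem F260172 : act 4 n95411 = n164994 := d19_2 D44562 D95411 (iv3 D164994) (iv1 F121650) F57027 F28520 F13019 (iv1 F9499) (iv5 D6114) F4104 F2946 (iv1 F1733) (iv5 F1740) F1913 D2074 F16806 D4595 D10108 D21199
def n164995 : Q := act 6 n79273
theorem D164995 : act 6 n79273 = n164995 := rfl
theorem F260173 : act 2 n164995 = n79695 := d3_1 D164995 (iv6 D79695) F121651
def n164996 : Q := act 3 n79274
theorem D164996 : act 3 n79274 = n164996 := rfl
theorem F260175 : act 5 n164996 = n80107 := d6_2 (iv5 F121655) D164996 (iv3 D80107)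
def n165001 : Q := act 0 n79276
theorem D165001 : act 0 n79276 = n165001 := rfl
theorem F260184 : act 1 n79573 = n165001 := d15_0 (iv0 D165001) (iv7 F260157) F260155
theorem F260185 : act 4 n86170 = n165001 := d20_0 (iv1 F260184) F122201 F56938 (iv1 F43823) D56270 D121791 (iv1 F257140) F119732 (iv3 F116169) F192749
theorem F260186 : act 2 n165001 = n79704 := d1_1 F260185 F250144 (iv2 F198732)
def n165002 : Q := act 1 n79276
theorem D165002 : act 1 n79276 = n165002 := rfl
theorem F260189 : act 7 n165002 = n79704 := d15_2 (iv0 D165001) D165002 (iv2 F260186)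
theorem F260190 : act 4 n161144 = n165002 := d20_0 (iv1 D165002) F121660 F56829 F56203 (iv3 F117651) (iv4 F253370) (iv1 F253377) F197915 (iv3 F197743) (iv1 F254787)
def n165004 : Q := act 4 n79277
theorem D165004 : act 4 n79277 = n165004 := rfl
theorem F260194 : act 2 n165004 = n79710 := d1_1 D165004 (iv4 D79710) (iv2 F121664)
theorem F260195 : act 7 n165004 = n79708 := d11_2 (iv7 F121662) D165004 (iv4 D79708)
def n165006 : Q := act 6 n79279
theorem D165006 : act 6 n79279 = n165006 := rfl
def n165007 : Q := act 6 n79280
theorem D165007 : act 6 n79280 = n165007 := rfl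
theorem F260203 : act 4 n165007 = n122991 := d10_1 D165007 (iv6 D122991) (iv4 F121670)
def n165022 : Q := act 0 n79286
theorem D165022 : act 0 n79286 = n165022 := rfl
def n165023 : Q := act 1 n79286
theorem D165023 : act 1 n79286 = n165023 := rfl
theorem F260234 : act 1 n165023 = n79290 := d15_1 D165023 (iv7 D79290) (iv2 F121683)
theorem F260235 : act 3 n165023 = n98095 := d20_5 (iv4 D39962) F59700 (iv4 F56850) (iv3 F121685) (iv1 F260234) (iv4 D98095) (iv1 D45806) (iv4 F72308) F72307 (iv1 F117300)
theorem F260237 : act 7 n79287 = n165023 := d8_0 F260235 (iv7 F232507) F232505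
theorem F260238 : act 2 n79287 = n165022 := d15_3 (iv0 D165022) D165023 (iv7 F260237)
theorem F260239 : act 7 n79288 = n165022 := d15_2 (iv0 D79287) D79288 (iv2 F260238)
theorem F260240 : act 2 n165023 = n79288 := d4_3 F260239 (iv2 F260238) F260237
def n165024 : Q := act 5 n79286
theorem D165024 : act 5 n79286 = n165024 := rfl
theorem F260242 : act 6 n165024 = n150282 := d12_2 D79286 D165024 (iv5 D150282) (iv6 D70761) (iv5 F56837)
def n165025 : Q := act 7 n79286
theorem D165025 : act 7 n79286 = n165025 := rfl
theorem F260244 : act 4 n165025 = n125219 := d11_1 D165025 F201337 F129536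
theorem F260245 : act 1 n79288 = n165025 := d15_1 D79288 (iv7 D165025) F121683
def n165026 : Q := act 4 n79287
theorem D165026 : act 4 n79287 = n165026 := rfl
theorem F260249 : act 0 n165026 = n85690 := d20_1 D165026 F131436 (iv3 D85387) (iv1 D39443) (iv3 F30539) (iv4 D19033) (iv1 F59697) (iv4 F28463) (iv3 F56839) D79287
def n165029 : Q := act 3 n79288
theorem D165029 : act 3 n79288 = n165029 := rfl
def n165030 : Q := act 4 n79288
theorem D165030 : act 4 n79288 = n165030 := rfl
theorem F260252 : act 0 n85690 = n165030 := d20_10 (iv4 D165030) (iv1 D79288) (iv4 F59956) F59955 F59762 D18731 F29975 D18750 D39593 D85690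
def n165031 : Q := act 5 n79288
theorem D165031 : act 5 n79288 = n165031 := rfl
def n165032 : Q := act 6 n79288
theorem D165032 : act 6 n79288 = n165032 := rfl
def n165033 : Q := act 0 n79289
theorem D165033 : act 0 n79289 = n165033 := rfl
def n165034 : Q := act 1 n79289
theorem D165034 : act 1 n79289 = n165034 := rfl
def n165035 : Q := act 4 n79289
theorem D165035 : act 4 n79289 = n165035 := rfl
def n165036 : Q := act 7 n79289
theorem D165036 : act 7 n79289 = n165036 := rfl
def n165047 : Q := act 3 n79294
theorem D165047 : act 3 n79294 = n165047 := rfl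
def n165053 : Q := act 6 n79295
theorem D165053 : act 6 n79295 = n165053 := rfl
theorem F260285 : act 4 n165053 = n98769 := d10_1 D165053 (iv6 D98769) (iv4 F249524)
def n165054 : Q := act 0 n79296
theorem D165054 : act 0 n79296 = n165054 := rfl
def n165055 : Q := act 1 n79296
theorem D165055 : act 1 n79296 = n165055 := rfl
def n165056 : Q := act 4 n79296
theorem D165056 : act 4 n79296 = n165056 := rfl
def n165057 : Q := act 7 n79296
theorem D165057 : act 7 n79296 = n165057 := rfl
theorem F260287 : act 3 n165057 = n150358 := d8_1 D165057 F236664 F187268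
def n165059 : Q := act 1 n79298
theorem D165059 : act 1 n79298 = n165059 := rfl
theorem F260290 : act 4 n123952 = n165059 := d20_6 (iv4 F90910) (iv1 F90911) (iv4 D27572) D27571 D57748 D123952 (iv1 D165059) F121695 (iv3 D57314) D57312
def n165065 : Q := act 1 n79300
theorem D165065 : act 1 n79300 = n165065 := rfl
theorem F260304 : act 7 n165065 = n101280 := d15_2 F232477 D165065 (iv2 F186667)
theorem F260305 : act 3 n101284 = n165065 := d20_3 (iv4 D87395) (iv1 F133435) (iv4 F156061) (iv1 D165065) (iv3 D79300) F61262 F117245 (iv4 F43392) (iv3 F72307) (iv1 F233172)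
def n165085 : Q := act 1 n79307
theorem D165085 : act 1 n79307 = n165085 := rfl
theorem F260340 : act 1 n165085 = n85372 := d15_1 D165085 (iv7 F200620) F200618
def n165091 : Q := act 4 n79314
theorem D165091 : act 4 n79314 = n165091 := rfl
theorem F260346 : act 2 n165091 = n98123 := d1_1 D165091 (iv4 D98123) (iv2 F124494)
theorem F260347 : act 7 n165091 = n98125 := d11_2 F124496 D165091 (iv4 D98125)
theorem F260348 : act 5 n165091 = n84243 := d17_5 (iv1 D79322) (iv5 D36113) D36111 D79314 D165091 (iv0 D84243) (iv5 D38852) D38850 (iv4 F121713)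
theorem F260349 : act 0 n165091 = n83266 := d18_2 (iv1 F151678) D165091 F128338 F59194 (iv4 F113345) F113520 (iv4 F113490) F122151 (iv5 F151676)
def n165092 : Q := act 6 n79314
theorem D165092 : act 6 n79314 = n165092 := rfl
theorem F260351 : act 2 n165092 = n98124 := d3_1 D165092 (iv6 D98124) (iv2 F124494)
theorem F260353 : act 0 n102821 = n165092 := d21_4 (iv5 F72492) (iv1 F128313) D88654 (iv6 F158086) (iv6 D165092) (iv5 D79314) (iv1 F56862) (iv5 F72387) (iv6 F135888) (iv1 F135889)
def n165093 : Q := act 4 n79319
theorem D165093 : act 4 n79319 = n165093 := rfl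
theorem F260354 : act 2 n165093 = n98125 := d1_1 D165093 (iv4 D98125) (iv2 F124497)
theorem F260355 : act 6 n165093 = n158035 := d10_2 F135974 D165093 F248984
theorem F260356 : act 7 n165093 = n98123 := d11_2 (iv7 F124464) D165093 (iv4 D98123)
theorem F260357 : act 0 n165093 = n84193 := d18_2 F135939 D165093 (iv4 D84193) (iv5 F59847) (iv4 F113517) F249157 F249154 F123899 (iv5 F135938)
theorem F260358 : act 1 n165093 = n83266 := d18_6 (iv1 F29296) (iv4 F58640) (iv1 F58643) F121715 D79319 D165093 F128338 (iv0 F59197) (iv5 D18452)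
theorem F260359 : act 5 n84244 = n165093 := d17_7 F59195 (iv5 D18457) (iv1 D8677) D8678 D18461 D38852 D84244 F260358 F128338
def n165094 : Q := act 6 n79321
theorem D165094 : act 6 n79321 = n165094 := rfl
theorem F260361 : act 4 n165094 = n84235 := d10_1 D165094 (iv6 D84235) F126931
theorem F260362 : act 5 n165094 = n90988 := d12_1 D165094 F140013 (iv5 F151490) F151491 F121903
def n165095 : Q := act 3 n79323
theorem D165095 : act 3 n79323 = n165095 := rfl
theorem F260364 : act 6 n165095 = n79613 := d7_2 (iv6 F121909) D165095 (iv3 D79613)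
def n165096 : Q := act 5 n79323
theorem D165096 : act 5 n79323 = n165096 := rfl
theorem F260365 : act 2 n165096 = n98130 := d2_1 D165096 (iv5 D98130) (iv2 F121908)
def n165097 : Q := act 6 n79325
theorem D165097 : act 6 n79325 = n165097 := rfl
theorem F260366 : act 3 n165097 = n79326 := d7_1 D165097 (iv6 D79326) D79325
def n165099 : Q := act 1 n79327
theorem D165099 : act 1 n79327 = n165099 := rfl
def n165100 : Q := act 5 n79327
theorem D165100 : act 5 n79327 = n165100 := rfl
def n165105 : Q := act 4 n79330
theorem D165105 : act 4 n79330 = n165105 := rfl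
theorem F260376 : act 3 n165105 = n120389 := d5_1 D165105 (iv4 D120389) D120388 F191786 F121926
def n165107 : Q := act 0 n79331
theorem D165107 : act 0 n79331 = n165107 := rfl
def n165108 : Q := act 1 n79331
theorem D165108 : act 1 n79331 = n165108 := rfl
theorem F260382 : act 1 n165108 = n150632 := d15_1 D165108 F237179 F234006
def n165110 : Q := act 7 n79331
theorem D165110 : act 7 n79331 = n165110 := rfl
theorem F260385 : act 2 n165110 = n150632 := d4_1 D165110 F237179 F234006
theorem F260386 : act 3 n165110 = n79339 := d8_1 D165110 (iv7 D79339) (iv3 F121928)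
theorem F260387 : act 1 n150632 = n165107 := d15_0 (iv0 D165107) D165110 F260385
def n165124 : Q := act 3 n79337
theorem D165124 : act 3 n79337 = n165124 := rfl
def n165157 : Q := act 6 n79353
theorem D165157 : act 6 n79353 = n165157 := rfl
theorem F260419 : act 3 n165157 = n79355 := d7_1 D165157 (iv6 D79355) D79353
def n165162 : Q := act 3 n79357
theorem D165162 : act 3 n79357 = n165162 := rfl
theorem F260421 : act 4 n165162 = n162331 := d5_2 D79357 D165162 (iv3 D162331) (iv4 D77982) F91317
def n165164 : Q := act 3 n79358
theorem D165164 : act 3 n79358 = n165164 := rfl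
theorem F260423 : act 4 n165164 = n163622 := d5_2 (iv4 F192599) D165164 (iv3 D163622) F193987 F192600
def n165167 : Q := act 3 n79359
theorem D165167 : act 3 n79359 = n165167 := rfl
theorem F260425 : act 4 n165167 = n124214 := d5_2 F126982 D165167 (iv3 D124214) (iv4 D57914) D57913
def n165171 : Q := act 2 n79360
theorem D165171 : act 2 n79360 = n165171 := rfl
theorem F260426 : act 6 n165171 = n79619 := d3_2 (iv6 F121948) D165171 (iv2 D79619)
def n165179 : Q := act 3 n79363
theorem D165179 : act 3 n79363 = n165179 := rfl
theorem F260434 : act 4 n165179 = n96302 := d5_2 D79363 D165179 (iv3 D96302) (iv4 F110123) (iv3 F110124)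
theorem F260435 : act 5 n165179 = n149669 := d6_2 F134281 D165179 F235313
theorem F260436 : act 7 n165179 = n149828 := d8_2 F192652 D165179 F235670
def n165180 : Q := act 6 n79363
theorem D165180 : act 6 n79363 = n165180 := rfl
theorem F260438 : act 4 n165180 = n79364 := d10_1 D165180 (iv6 D79364) D79363
def n165191 : Q := act 6 n79368
theorem D165191 : act 6 n79368 = n165191 := rfl
theorem F260442 : act 2 n165191 = n79372 := d3_1 D165191 (iv6 D79372) (iv2 F121952)
theorem F260444 : act 4 n165191 = n79369 := d10_1 D165191 (iv6 D79369) D79368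
def n165192 : Q := act 0 n79369
theorem D165192 : act 0 n79369 = n165192 := rfl
def n165193 : Q := act 1 n79369
theorem D165193 : act 1 n79369 = n165193 := rfl
def n165194 : Q := act 5 n79369
theorem D165194 : act 5 n79369 = n165194 := rfl
theorem F260448 : act 3 n165194 = n86407 := d6_1 D165194 (iv5 D86407) (iv3 F121959)
theorem F260449 : act 6 n165194 = n86403 := d12_2 D79369 D165194 (iv5 D86403) (iv6 D40008) F56876
def n165195 : Q := act 7 n79369
theorem D165195 : act 7 n79369 = n165195 := rfl
theorem F260453 : act 1 n79375 = n165195 := d15_1 D79375 (iv7 D165195) F121958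
def n165196 : Q := act 6 n79370
theorem D165196 : act 6 n79370 = n165196 := rfl
theorem F260456 : act 3 n165196 = n128097 := d7_1 D165196 (iv6 D128097) F121962
theorem F260457 : act 4 n165196 = n165097 := d10_1 D165196 (iv6 D165097) F121963
theorem F260458 : act 0 n165196 = n79438 := d20_7 F56804 (iv1 F28449) D17495 D36214 (iv1 F188463) (iv3 F260366) (iv4 F260457) (iv4 D79438) (iv3 D36166) (iv1 F56808)
def n165197 : Q := act 6 n79371
theorem D165197 : act 6 n79371 = n165197 := rfl
theorem F260459 : act 3 n165197 = n82425 := d7_1 D165197 (iv6 D82425) (iv3 F121966)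
def n165198 : Q := act 0 n79372
theorem D165198 : act 0 n79372 = n165198 := rfl
theorem F260460 : act 3 n165198 = n125154 := d20_5 (iv4 D82428) (iv1 D37811) (iv4 F58661) (iv3 F121968) D165198 (iv4 D125154) (iv1 D58526) D58528 F92459 F126993
theorem F260461 : act 4 n165198 = n151355 := d20_8 (iv4 D39436) (iv1 D18690) D18692 (iv3 F30539) (iv1 F117297) (iv3 F56881) (iv4 F121969) D165198 (iv3 D151355) F232405
def n165199 : Q := act 1 n79372
theorem D165199 : act 1 n79372 = n165199 := rfl
def n165200 : Q := act 5 n79372
theorem D165200 : act 5 n79372 = n165200 := rfl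
def n165201 : Q := act 7 n79372
theorem D165201 : act 7 n79372 = n165201 := rfl
def n165202 : Q := act 1 n79373
theorem D165202 : act 1 n79373 = n165202 := rfl
theorem F260468 : act 1 n165202 = n86404 := d15_1 D165202 (iv7 D86404) (iv2 F121970)
def n165203 : Q := act 5 n79373
theorem D165203 : act 5 n79373 = n165203 := rfl
theorem F260473 : act 6 n165203 = n79376 := d12_2 D79373 D165203 (iv5 D79376) (iv6 D36144) D36143
def n165204 : Q := act 7 n79373
theorem D165204 : act 7 n79373 = n165204 := rfl
theorem F260474 : act 2 n165204 = n86404 := d4_1 D165204 (iv7 D86404) (iv2 F121970)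
theorem F260475 : act 3 n165204 = n79381 := d8_1 D165204 (iv7 D79381) (iv3 F121971)
theorem F260476 : act 1 n86402 = n165204 := d15_1 D86402 (iv7 D165204) F121970
def n165205 : Q := act 2 n79374
theorem D165205 : act 2 n79374 = n165205 := rfl
theorem F260478 : act 7 n79375 = n165205 := d15_2 (iv0 D79374) D79375 (iv2 D165205)
def n165210 : Q := act 7 n79374
theorem D165210 : act 7 n79374 = n165210 := rfl
theorem F260482 : act 2 n165210 = n79375 := d4_1 D165210 F260478 (iv2 D165205)
def n165211 : Q := act 3 n79375
theorem D165211 : act 3 n79375 = n165211 := rfl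
def n165212 : Q := act 4 n79375
theorem D165212 : act 4 n79375 = n165212 := rfl
def n165213 : Q := act 5 n79375
theorem D165213 : act 5 n79375 = n165213 := rfl
def n165214 : Q := act 6 n79375
theorem D165214 : act 6 n79375 = n165214 := rfl
def n165220 : Q := act 3 n79378
theorem D165220 : act 3 n79378 = n165220 := rfl
def n165221 : Q := act 5 n79378
theorem D165221 : act 5 n79378 = n165221 := rfl
def n165224 : Q := act 3 n79379
theorem D165224 : act 3 n79379 = n165224 := rfl
def n165225 : Q := act 5 n79379
theorem D165225 : act 5 n79379 = n165225 := rfl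
def n165227 : Q := act 0 n79380
theorem D165227 : act 0 n79380 = n165227 := rfl
def n165228 : Q := act 1 n79380
theorem D165228 : act 1 n79380 = n165228 := rfl
def n165229 : Q := act 4 n79380
theorem D165229 : act 4 n79380 = n165229 := rfl
def n165241 : Q := act 0 n79387
theorem D165241 : act 0 n79387 = n165241 := rfl
def n165242 : Q := act 1 n79387
theorem D165242 : act 1 n79387 = n165242 := rfl
def n165244 : Q := act 7 n79387
theorem D165244 : act 7 n79387 = n165244 := rfl
def n165248 : Q := act 7 n79388
theorem D165248 : act 7 n79388 = n165248 := rfl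
def n165249 : Q := act 2 n79389
theorem D165249 : act 2 n79389 = n165249 := rfl
theorem F260510 : act 7 n79390 = n165249 := d15_2 (iv0 D79389) D79390 (iv2 D165249)
def n165250 : Q := act 3 n79389
theorem D165250 : act 3 n79389 = n165250 := rfl
def n165255 : Q := act 4 n79390
theorem D165255 : act 4 n79390 = n165255 := rfl
theorem F260512 : act 3 n165255 = n89031 := d20_3 (iv4 F151199) (iv1 F151202) D165255 (iv1 D89031) F64180 (iv4 F54822) D75535 (iv4 F184700) (iv3 F184701) (iv1 F74434)
def n165260 : Q := act 4 n79391
theorem D165260 : act 4 n79391 = n165260 := rfl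
theorem F260513 : act 6 n165260 = n86386 := d10_2 (iv6 F121983) D165260 (iv4 D86386)
def n165272 : Q := act 7 n79395
theorem D165272 : act 7 n79395 = n165272 := rfl
theorem F260519 : act 3 n165272 = n86387 := d8_1 D165272 (iv7 D86387) (iv3 F121986)
def n165282 : Q := act 6 n79411
theorem D165282 : act 6 n79411 = n165282 := rfl
theorem F260533 : act 2 n165282 = n86509 := d3_1 D165282 (iv6 D86509) (iv2 F121994)
theorem F260534 : act 3 n165282 = n89106 := d7_1 D165282 (iv6 D89106) (iv3 F121995)
def n165283 : Q := act 1 n79412
theorem D165283 : act 1 n79412 = n165283 := rfl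
theorem F260537 : act 7 n165283 = n86517 := d15_2 (iv0 F252832) D165283 (iv2 F234492)
theorem F260538 : act 2 n86518 = n165283 := d4_3 F260537 (iv2 F234492) F234490
def n165285 : Q := act 7 n79412
theorem D165285 : act 7 n79412 = n165285 := rfl
theorem F260542 : act 2 n165285 = n86520 := d4_1 D165285 (iv7 D86520) (iv2 F121999)
theorem F260545 : act 1 n86518 = n165285 := d15_1 D86518 (iv7 D165285) F121999
theorem F260546 : act 1 n165285 = n86517 := d15_1 F260545 (iv7 F260537) (iv2 F260538)
def n165297 : Q := act 2 n79417
theorem D165297 : act 2 n79417 = n165297 := rfl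
theorem F260552 : act 7 n79418 = n165297 := d15_2 (iv0 D79417) D79418 (iv2 D165297)
def n165300 : Q := act 7 n79417
theorem D165300 : act 7 n79417 = n165300 := rfl
theorem F260553 : act 2 n165300 = n79418 := d4_1 D165300 F260552 (iv2 D165297)
def n165301 : Q := act 3 n79418
theorem D165301 : act 3 n79418 = n165301 := rfl
def n165302 : Q := act 5 n79418
theorem D165302 : act 5 n79418 = n165302 := rfl
def n165303 : Q := act 6 n79418
theorem D165303 : act 6 n79418 = n165303 := rfl
def n165307 : Q := act 7 n79419
theorem D165307 : act 7 n79419 = n165307 := rfl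
theorem F260557 : act 5 n165307 = n79420 := d13_1 D165307 (iv7 D79420) D79419
def n165311 : Q := act 4 n79421
theorem D165311 : act 4 n79421 = n165311 := rfl
theorem F260561 : act 2 n165311 = n79423 := d1_1 D165311 (iv4 D79423) D79421
def n165313 : Q := act 6 n79421
theorem D165313 : act 6 n79421 = n165313 := rfl
theorem F260565 : act 2 n165313 = n79425 := d3_1 D165313 (iv6 D79425) D79421
def n165314 : Q := act 0 n79422
theorem D165314 : act 0 n79422 = n165314 := rfl
def n165315 : Q := act 1 n79422
theorem D165315 : act 1 n79422 = n165315 := rfl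
def n165316 : Q := act 2 n79422
theorem D165316 : act 2 n79422 = n165316 := rfl
def n165317 : Q := act 4 n79422
theorem D165317 : act 4 n79422 = n165317 := rfl
def n165318 : Q := act 5 n79422
theorem D165318 : act 5 n79422 = n165318 := rfl
theorem F260566 : act 3 n165318 = n79424 := d6_1 D165318 (iv5 D79424) D79422
def n165319 : Q := act 6 n79422
theorem D165319 : act 6 n79422 = n165319 := rfl
theorem F260567 : act 3 n165319 = n79425 := d7_1 D165319 (iv6 D79425) D79422
def n165320 : Q := act 7 n79422
theorem D165320 : act 7 n79422 = n165320 := rfl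
theorem F260568 : act 3 n165320 = n79426 := d8_1 D165320 (iv7 D79426) D79422
def n165321 : Q := act 0 n79423
theorem D165321 : act 0 n79423 = n165321 := rfl
def n165322 : Q := act 1 n79423
theorem D165322 : act 1 n79423 = n165322 := rfl
def n165323 : Q := act 3 n79423
theorem D165323 : act 3 n79423 = n165323 := rfl
def n165324 : Q := act 5 n79423
theorem D165324 : act 5 n79423 = n165324 := rfl
def n165325 : Q := act 6 n79423
theorem D165325 : act 6 n79423 = n165325 := rfl
theorem F260570 : act 4 n165325 = n79425 := d10_1 D165325 (iv6 D79425) D79423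
def n165326 : Q := act 7 n79423
theorem D165326 : act 7 n79423 = n165326 := rfl
theorem F260572 : act 4 n165326 = n79426 := d11_1 D165326 (iv7 D79426) D79423
def n165332 : Q := act 0 n79425
theorem D165332 : act 0 n79425 = n165332 := rfl
def n165333 : Q := act 1 n79425
theorem D165333 : act 1 n79425 = n165333 := rfl
def n165334 : Q := act 5 n79425
theorem D165334 : act 5 n79425 = n165334 := rfl
theorem F260579 : act 0 n165334 = n121812 := d21_7 (iv5 D17479) (iv1 D8223) D8224 D17483 D36161 D79425 D165334 (iv5 D121812) (iv6 D56281) F43841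
def n165335 : Q := act 7 n79425
theorem D165335 : act 7 n79425 = n165335 := rfl
def n165341 : Q := act 5 n79427
theorem D165341 : act 5 n79427 = n165341 := rfl
theorem F260582 : act 3 n165341 = n79429 := d6_1 D165341 (iv5 D79429) D79427
def n165342 : Q := act 6 n79427
theorem D165342 : act 6 n79427 = n165342 := rfl
theorem F260583 : act 3 n165342 = n79430 := d7_1 D165342 (iv6 D79430) D79427
def n165345 : Q := act 6 n79428
theorem D165345 : act 6 n79428 = n165345 := rfl
theorem F260584 : act 4 n165345 = n79430 := d10_1 D165345 (iv6 D79430) D79428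
def n165350 : Q := act 5 n79430
theorem D165350 : act 5 n79430 = n165350 := rfl
theorem F260585 : act 0 n165221 = n165350 := d21_1 D165221 (iv5 D165350) (iv6 D79430) (iv1 D36162) (iv6 D17483) (iv5 D8224) D8222 D17476 D36145 D79378
def n165381 : Q := act 0 n79438
theorem D165381 : act 0 n79438 = n165381 := rfl
theorem F260599 : act 3 n165381 = n79840 := d20_5 F56285 (iv1 F120924) (iv4 F132307) (iv3 F132311) D165381 (iv4 D79840) (iv1 D36368) (iv4 F57099) (iv3 D36357) (iv1 F118386)
theorem F260600 : act 4 n165381 = n154888 := d20_8 (iv4 D33785) (iv1 D16326) (iv4 F25846) F25845 D17484 D36166 D79438 D165381 (iv3 D154888) (iv1 F110164)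
theorem F260601 : act 6 n128142 = n165381 := d7_0 F260599 F188474 (iv3 F206273)
def n165383 : Q := act 6 n79438
theorem D165383 : act 6 n79438 = n165383 := rfl
def n165418 : Q := act 4 n79451
theorem D165418 : act 4 n79451 = n165418 := rfl
theorem F260629 : act 7 n165418 = n84738 := d11_2 F259908 D165418 (iv4 F259907)
theorem F260630 : act 1 n84737 = n165418 := d15_1 D84737 F260629 (iv2 D84738)
def n165422 : Q := act 1 n79452
theorem D165422 : act 1 n79452 = n165422 := rfl
theorem F260638 : act 4 n154890 = n165422 := d20_0 (iv1 D165422) (iv4 D79452) (iv3 D36171) (iv1 D17485) (iv3 F25845) F25846 D16325 D33780 D73463 D154890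
theorem F260639 : act 3 n79492 = n154890 := d20_5 F12997 D8226 D17490 D36194 D79492 F260638 (iv1 D165422) (iv4 D79452) (iv3 D36171) (iv1 D17485)
def n165449 : Q := act 5 n79462
theorem D165449 : act 5 n79462 = n165449 := rfl
theorem F260659 : act 4 n165449 = n79561 := d16_2 D79462 D165449 (iv5 D79561) (iv4 F121511) (iv5 F121507) F122052 (iv5 D79468) (iv7 F122057) F122056
def n165459 : Q := act 5 n79466
theorem D165459 : act 5 n79466 = n165459 := rfl
theorem F260661 : act 3 n165459 = n79468 := d6_1 D165459 (iv5 D79468) D79466
theorem F260662 : act 4 n122446 = n165459 := d5_0 F260661 (iv4 F122052) F89742 (iv4 F89746) (iv3 F195895)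
theorem F260663 : act 6 n121814 = n165459 := d7_0 F260661 F122050 D121814
def n165462 : Q := act 5 n79467
theorem D165462 : act 5 n79467 = n165462 := rfl
theorem F260665 : act 4 n165462 = n79558 := d9_1 D165462 (iv5 D79558) F121635 D123371 F197728 (iv5 D79463) D79462 D165449 F260659 (iv5 D79561) (iv4 F121511) (iv5 F121507) F122052 (iv5 D79468) D79467
def n165485 : Q := act 4 n79477
theorem D165485 : act 4 n79477 = n165485 := rfl
theorem F260680 : act 2 n165485 = n79484 := d1_1 D165485 (iv4 D79484) (iv2 F122061)
theorem F260681 : act 7 n165485 = n84534 := d11_2 F136108 D165485 (iv4 F136111)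
theorem F260682 : act 5 n165485 = n124620 := d17_5 F121613 (iv5 D44900) (iv1 F120829) D79477 D165485 (iv0 D124620) (iv5 D58189) D58187 (iv4 F121612)
theorem F260684 : act 1 n165485 = n124584 := d18_6 (iv1 D13231) (iv4 F22034) D27709 (iv4 F118128) D79477 D165485 (iv4 D124584) F91958 (iv5 D27721)
def n165486 : Q := act 6 n79477
theorem D165486 : act 6 n79477 = n165486 := rfl
theorem F260685 : act 2 n165486 = n79485 := d3_1 D165486 (iv6 D79485) (iv2 F122061)
theorem F260686 : act 3 n165486 = n98816 := d7_1 D165486 F152354 F128514
theorem F260687 : act 5 n165486 = n98812 := d12_1 D165486 (iv6 D98812) F122065 (iv6 D79478) D79477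
theorem F260688 : act 0 n165486 = n97601 := d21_4 (iv5 D44900) (iv1 F120829) D79477 D165486 F150447 (iv5 F146828) (iv1 F148207) (iv5 F260104) (iv6 D164955) F121613
def n165490 : Q := act 5 n79479
theorem D165490 : act 5 n79479 = n165490 := rfl
theorem F260701 : act 7 n165490 = n124549 := d13_2 (iv7 F122068) D165490 (iv5 D124549)
def n165491 : Q := act 6 n79479
theorem D165491 : act 6 n79479 = n165491 := rfl
theorem F260702 : act 3 n165491 = n79481 := d7_1 D165491 (iv6 D79481) D79479
def n165492 : Q := act 1 n79480
theorem D165492 : act 1 n79480 = n165492 := rfl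
theorem F260705 : act 1 n165492 = n124509 := d15_1 D165492 F199156 (iv2 F122069)
theorem F260706 : act 7 n165492 = n124541 := d15_2 F253512 D165492 (iv2 F253509)
theorem F260707 : act 5 n165492 = n159075 := d17_7 (iv1 F194564) F194567 (iv1 D79483) (iv5 D36189) D36188 D79480 D165492 (iv0 F250435) (iv4 F151613)
theorem F260708 : act 2 n124542 = n165492 := d2_3 F260707 F250431 F199209
def n165493 : Q := act 4 n79480
theorem D165493 : act 4 n79480 = n165493 := rfl
theorem F260709 : act 2 n165493 = n124543 := d1_1 D165493 (iv4 D124543) (iv2 F122069)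
theorem F260710 : act 7 n165493 = n124550 := d11_2 (iv7 F122070) D165493 (iv4 D124550)
def n165495 : Q := act 1 n79481
theorem D165495 : act 1 n79481 = n165495 := rfl
theorem F260714 : act 7 n165495 = n96311 := d15_2 (iv0 F122074) D165495 F148173
theorem F260715 : act 4 n165495 = n85631 := d17_9 (iv1 F131301) (iv5 D45292) (iv1 D21597) (iv5 D10313) (iv4 F16401) D21584 D45241 (iv5 F122073) D165495
def n165497 : Q := act 1 n79484
theorem D165497 : act 1 n79484 = n165497 := rfl
theorem F260721 : act 1 n165497 = n84534 := d15_1 D165497 (iv7 F260681) F260680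
theorem F260723 : act 4 n165497 = n84521 := d18_7 (iv1 D27705) (iv4 F44711) F56909 (iv4 D36188) D36189 D79484 D165497 (iv0 D84521) F60006
def n165499 : Q := act 5 n79484
theorem D165499 : act 5 n79484 = n165499 := rfl
theorem F260727 : act 2 n165499 = n124620 := d2_1 D165499 (iv5 F260682) F260680
theorem F260729 : act 0 n165499 = n124624 := d17_2 (iv1 D165497) D165499 F199313 F91979 F44731 F44719 D58113 F129682 (iv4 F260723)
theorem F260730 : act 1 n165499 = n124520 := d17_6 (iv1 F136130) (iv5 D44483) (iv1 F120798) D36189 D79484 D165499 (iv5 D124520) D124518 F199179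
def n165501 : Q := act 5 n79485
theorem D165501 : act 5 n79485 = n165501 := rfl
theorem F260734 : act 2 n165501 = n98812 := d2_1 D165501 (iv5 F260687) F260685
theorem F260736 : act 6 n165501 = n79488 := d12_2 D79485 D165501 (iv5 D79488) (iv6 D36190) D36189
theorem F260738 : act 7 n80828 = n165501 := d14_0 F260736 (iv7 F122081) F124042 F124041 D80828
theorem F260739 : act 1 n98812 = n97599 := d15_0 (iv0 F150442) F260738 F260734
theorem F260740 : act 0 n79543 = n163309 := d21_4 F260049 (iv1 F151615) (iv5 D79542) D79543 (iv6 D163309) (iv5 F150441) (iv1 F260739) (iv5 F260687) (iv6 D165486) (iv1 F260047)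
def n165510 : Q := act 4 n79492
theorem D165510 : act 4 n79492 = n165510 := rfl
theorem F260762 : act 0 n165510 = n154866 := d20_1 D165510 (iv4 D154866) (iv3 D73441) (iv1 D33775) F25845 F12997 D8226 D17490 D36194 D79492
def n165517 : Q := act 6 n79493
theorem D165517 : act 6 n79493 = n165517 := rfl
def n165519 : Q := act 6 n79494
theorem D165519 : act 6 n79494 = n165519 := rfl
theorem F260766 : act 2 n165519 = n79496 := d3_1 D165519 (iv6 D79496) D79494
def n165547 : Q := act 3 n79506
theorem D165547 : act 3 n79506 = n165547 := rfl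
theorem F260798 : act 4 n165547 = n79779 := d5_2 D79506 D165547 (iv3 D79779) (iv4 D36333) (iv3 F88893)
def n165562 : Q := act 0 n79511
theorem D165562 : act 0 n79511 = n165562 := rfl
def n165563 : Q := act 1 n79511
theorem D165563 : act 1 n79511 = n165563 := rfl
theorem F260815 : act 1 n165563 = n120914 := d15_1 D165563 (iv7 F260045) F260043
def n165565 : Q := act 7 n79511
theorem D165565 : act 7 n79511 = n165565 := rfl
theorem F260816 : act 2 n165565 = n120914 := d4_1 D165565 (iv7 F260045) F260043
theorem F260819 : act 1 n120914 = n165562 := d15_0 (iv0 D165562) D165565 F260816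
def n165568 : Q := act 4 n79514
theorem D165568 : act 4 n79514 = n165568 := rfl
theorem F260824 : act 2 n165568 = n80880 := d1_1 D165568 F124609 (iv2 F122112)
theorem F260826 : act 7 n165568 = n80855 := d11_2 F122114 D165568 F124568
def n165572 : Q := act 3 n79519
theorem D165572 : act 3 n79519 = n165572 := rfl
theorem F260836 : act 4 n165572 = n79533 := d5_2 D79519 D165572 (iv3 D79533) (iv4 D36217) (iv3 F56926)
theorem F260837 : act 6 n165572 = n83284 := d7_2 (iv6 F122132) D165572 (iv3 D83284)
def n165581 : Q := act 1 n79527
theorem D165581 : act 1 n79527 = n165581 := rfl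
theorem F260841 : act 4 n83711 = n165581 := d20_6 (iv4 D38233) (iv1 F29598) (iv4 F59476) (iv3 F130280) (iv1 D83725) (iv3 F128772) (iv1 D165581) (iv4 F128526) F128525 F113577
def n165583 : Q := act 7 n79527
theorem D165583 : act 7 n79527 = n165583 := rfl
theorem F260844 : act 3 n165583 = n79532 := d8_1 D165583 (iv7 D79532) (iv3 F122153)
def n165597 : Q := act 6 n79533
theorem D165597 : act 6 n79533 = n165597 := rfl
theorem F260855 : act 3 n165597 = n79535 := d7_1 D165597 (iv6 D79535) D79533
theorem F260856 : act 4 n165597 = n83284 := d10_1 D165597 (iv6 F260837) F260836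
theorem F260857 : act 7 n120912 = n165597 := d8_0 F260855 (iv7 F122158) D120912
def n165603 : Q := act 6 n79540
theorem D165603 : act 6 n79540 = n165603 := rfl
theorem F260872 : act 2 n165603 = n79543 := d3_1 D165603 (iv6 D79543) D79540
theorem F260874 : act 4 n165603 = n124611 := d10_1 D165603 (iv6 D124611) F122175
def n165604 : Q := act 3 n79541
theorem D165604 : act 3 n79541 = n165604 := rfl
theorem F260877 : act 4 n165604 = n79546 := d5_2 D79541 D165604 (iv3 D79546) (iv4 D36225) D36224
theorem F260878 : act 7 n165604 = n124612 := d8_2 (iv7 F122170) D165604 (iv3 D124612)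
def n165605 : Q := act 5 n79541
theorem D165605 : act 5 n79541 = n165605 := rfl
theorem F260879 : act 2 n165605 = n124610 := d2_1 D165605 (iv5 D124610) (iv2 F122174)
theorem F260880 : act 7 n165605 = n124613 := d13_2 (iv7 F122170) D165605 (iv5 D124613)
def n165606 : Q := act 6 n79541
theorem D165606 : act 6 n79541 = n165606 := rfl
theorem F260881 : act 2 n165606 = n124611 := d3_1 D165606 (iv6 D124611) (iv2 F122174)
theorem F260882 : act 4 n165606 = n79543 := d10_1 D165606 (iv6 D79543) D79541
def n165607 : Q := act 7 n79543
theorem D165607 : act 7 n79543 = n165607 := rfl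
theorem F260884 : act 3 n165607 = n79551 := d8_1 D165607 (iv7 D79551) (iv3 F122178)
def n165609 : Q := act 6 n79544
theorem D165609 : act 6 n79544 = n165609 := rfl
theorem F260890 : act 4 n165609 = n123376 := d10_1 D165609 (iv6 D123376) (iv4 F122179)
theorem F260891 : act 7 n165609 = n79629 := d14_2 F122181 D165609 (iv6 D79629) (iv7 F87601) (iv6 F90641)
theorem F260892 : act 1 n79710 = n165609 := d15_1 (iv0 F254905) F260891 (iv2 F192856)
theorem F260893 : act 1 n165609 = n79708 := d15_1 F260892 (iv7 F260195) F260194
def n165611 : Q := act 0 n79546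
theorem D165611 : act 0 n79546 = n165611 := rfl
def n165612 : Q := act 1 n79546
theorem D165612 : act 1 n79546 = n165612 := rfl
def n165613 : Q := act 2 n79546
theorem D165613 : act 2 n79546 = n165613 := rfl
def n165614 : Q := act 5 n79546
theorem D165614 : act 5 n79546 = n165614 := rfl
theorem F260895 : act 3 n165614 = n79547 := d6_1 D165614 (iv5 D79547) D79546
def n165616 : Q := act 0 n79547
theorem D165616 : act 0 n79547 = n165616 := rfl
theorem F260897 : act 5 n165616 = n164933 := d17_3 (iv1 D79545) D79547 D165616 F260036 (iv5 F197701) (iv0 F195939) (iv5 D84773) (iv0 F121632) F122184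
def n165618 : Q := act 6 n79547
theorem D165618 : act 6 n79547 = n165618 := rfl
def n165627 : Q := act 2 n79553
theorem D165627 : act 2 n79553 = n165627 := rfl
def n165633 : Q := act 0 n79557
theorem D165633 : act 0 n79557 = n165633 := rfl
def n165634 : Q := act 1 n79557
theorem D165634 : act 1 n79557 = n165634 := rfl
def n165635 : Q := act 2 n79557
theorem D165635 : act 2 n79557 = n165635 := rfl
def n165636 : Q := act 4 n79557
theorem D165636 : act 4 n79557 = n165636 := rfl
theorem F260915 : act 3 n165636 = n160859 := d5_1 D165636 F254021 (iv3 D123370) (iv4 F121635) D79557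
def n165638 : Q := act 6 n79557
theorem D165638 : act 6 n79557 = n165638 := rfl
def n165645 : Q := act 0 n79560
theorem D165645 : act 0 n79560 = n165645 := rfl
def n165646 : Q := act 1 n79560
theorem D165646 : act 1 n79560 = n165646 := rfl
def n165647 : Q := act 2 n79560
theorem D165647 : act 2 n79560 = n165647 := rfl
def n165648 : Q := act 4 n79560
theorem D165648 : act 4 n79560 = n165648 := rfl
theorem F260927 : act 3 n165648 = n84655 := d5_1 D165648 (iv4 D84655) (iv3 F121509) F121511 D79560
theorem F260928 : act 7 n165648 = n84777 := d11_2 F260120 D165648 (iv4 F260119)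
def n165649 : Q := act 5 n79560
theorem D165649 : act 5 n79560 = n165649 := rfl
theorem F260929 : act 3 n165649 = n79561 := d6_1 D165649 (iv5 D79561) D79560
def n165650 : Q := act 6 n79560
theorem D165650 : act 6 n79560 = n165650 := rfl
def n165651 : Q := act 6 n79561
theorem D165651 : act 6 n79561 = n165651 := rfl
def n165654 : Q := act 0 n79563
theorem D165654 : act 0 n79563 = n165654 := rfl
theorem F260935 : act 2 n79567 = n165654 := d15_3 (iv0 D165654) (iv0 D79563) D79567
theorem F260936 : act 4 n165654 = n79912 := d1_2 (iv4 F122198) F260935 (iv2 F122658)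
theorem F260937 : act 7 n165654 = n79565 := d4_2 D79567 F260935 (iv2 D79565)
theorem F260938 : act 1 n79564 = n165654 := d15_1 D79564 F260937 (iv2 D79565)
def n165655 : Q := act 2 n79563
theorem D165655 : act 2 n79563 = n165655 := rfl
theorem F260939 : act 7 n79564 = n165655 := d15_2 (iv0 D79563) D79564 (iv2 D165655)
def n165656 : Q := act 3 n79563
theorem D165656 : act 3 n79563 = n165656 := rfl
def n165657 : Q := act 4 n79563
theorem D165657 : act 4 n79563 = n165657 := rfl
def n165658 : Q := act 5 n79563
theorem D165658 : act 5 n79563 = n165658 := rfl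
def n165659 : Q := act 6 n79563
theorem D165659 : act 6 n79563 = n165659 := rfl
def n165660 : Q := act 7 n79563
theorem D165660 : act 7 n79563 = n165660 := rfl
theorem F260940 : act 2 n165660 = n79564 := d4_1 D165660 F260939 (iv2 D165655)
def n165661 : Q := act 3 n79564
theorem D165661 : act 3 n79564 = n165661 := rfl
def n165662 : Q := act 4 n79564
theorem D165662 : act 4 n79564 = n165662 := rfl
theorem F260941 : act 3 n124660 = n165662 := d20_5 F43808 (iv1 F22051) (iv4 F44794) (iv3 F92073) (iv1 F199409) (iv4 D165662) (iv1 D79564) F56935 (iv3 D17577) D17575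
def n165663 : Q := act 5 n79564
theorem D165663 : act 5 n79564 = n165663 := rfl
def n165664 : Q := act 6 n79564
theorem D165664 : act 6 n79564 = n165664 := rfl
def n165665 : Q := act 0 n79565
theorem D165665 : act 0 n79565 = n165665 := rfl
theorem F260942 : act 1 n79567 = n165665 := d15_0 (iv0 D165665) (iv7 F260937) (iv2 F260935)
theorem F260943 : act 4 n124650 = n165665 := d20_6 F43801 (iv1 D13245) D13246 D27748 D58248 D124650 (iv1 F260942) F122198 F57150 (iv1 F43800)
def n165667 : Q := act 5 n79565
theorem D165667 : act 5 n79565 = n165667 := rfl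
theorem F260945 : act 2 n165667 = n79566 := d2_1 D165667 (iv5 D79566) D79565
def n165671 : Q := act 6 n79566
theorem D165671 : act 6 n79566 = n165671 := rfl
theorem F260946 : act 3 n165671 = n79571 := d7_1 D165671 (iv6 D79571) (iv3 F122196)
theorem F260947 : act 5 n165671 = n79693 := d12_1 D165671 (iv6 D79693) (iv5 D36286) (iv6 F56936) D79566
def n165678 : Q := act 6 n79570
theorem D165678 : act 6 n79570 = n165678 := rfl
theorem F260950 : act 4 n165678 = n79571 := d10_1 D165678 (iv6 D79571) D79570
def n165684 : Q := act 0 n79574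
theorem D165684 : act 0 n79574 = n165684 := rfl
theorem F260953 : act 1 n96346 = n165684 := d15_0 (iv0 D165684) F122204 D96346
def n165685 : Q := act 1 n79574
theorem D165685 : act 1 n79574 = n165685 := rfl
def n165686 : Q := act 2 n79574
theorem D165686 : act 2 n79574 = n165686 := rfl
theorem F260954 : act 3 n165686 = n157787 := d0_2 D79574 D165686 (iv2 D157787) (iv3 D75179) (iv2 F56940)
theorem F260955 : act 4 n165686 = n79598 := d1_2 (iv4 F122203) D165686 (iv2 D79598)
theorem F260956 : act 7 n165686 = n96346 := d4_2 (iv7 F122204) D165686 (iv2 D96346)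
theorem F260957 : act 1 n165686 = n96344 := d15_0 (iv0 D96344) (iv7 F122204) D165686
theorem F260958 : act 1 n165685 = n96346 := d15_1 D165685 (iv7 F260956) (iv2 D165686)
theorem F260959 : act 1 n96345 = n165686 := d15_1 D96345 F260956 (iv2 D96346)
def n165687 : Q := act 6 n79574
theorem D165687 : act 6 n79574 = n165687 := rfl
def n165688 : Q := act 5 n79575
theorem D165688 : act 5 n79575 = n165688 := rfl
theorem F260962 : act 2 n165688 = n157789 := d2_1 D165688 (iv5 D157789) (iv2 F122205)
theorem F260963 : act 0 n165688 = n159216 := d17_2 F125550 D165688 (iv5 D159216) (iv4 D76161) (iv5 D34789) (iv0 F116746) D17924 D37316 D81644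
def n165689 : Q := act 3 n79577
theorem D165689 : act 3 n79577 = n165689 := rfl
theorem F260964 : act 2 n165689 = n80208 := d0_1 D165689 F126215 F121855 D77176 (iv2 F122209)
theorem F260966 : act 7 n165689 = n80207 := d8_2 F133627 D165689 (iv3 F133632)
theorem F260967 : act 0 n165689 = n80196 := d20_4 (iv4 F125554) (iv1 F149078) F149080 D165689 F123180 (iv4 F132336) (iv1 F132338) (iv4 D81988) (iv3 F126079) (iv1 F71201)
def n165691 : Q := act 1 n79579
theorem D165691 : act 1 n79579 = n165691 := rfl
theorem F260972 : act 1 n165691 = n83350 := d15_1 D165691 F128469 (iv2 F122214)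
theorem F260975 : act 5 n83344 = n165691 := d21_6 (iv5 D17510) (iv1 F15244) D16728 (iv6 F29516) D38397 D83344 (iv1 D165691) (iv5 F122224) (iv6 D79581) (iv1 F56958)
theorem F260976 : act 2 n165691 = n84264 := d2_1 F260975 (iv5 F199289) F199287
theorem F260977 : act 3 n88393 = n165691 := d0_0 F260976 (iv3 F197460) F148462 F138258 (iv2 F138257)
theorem F260980 : act 4 n88393 = n163437 := d20_6 D102820 (iv1 F250027) F128581 (iv3 F128468) (iv1 F260972) (iv3 F260977) (iv1 D163437) F119728 F56452 D47686
def n165692 : Q := act 7 n79579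
theorem D165692 : act 7 n79579 = n165692 := rfl
theorem F260982 : act 3 n165692 = n160841 := d8_1 D165692 (iv7 D160841) (iv3 F122215)
theorem F260983 : act 4 n165692 = n162066 := d11_1 D165692 F256130 (iv4 F122216)
theorem F260985 : act 1 n84264 = n165692 := d15_1 D84264 (iv7 D165692) F122214
theorem F260987 : act 0 n157870 = n124433 := d20_1 (iv4 F248791) F199022 (iv3 F198992) (iv1 F254002) (iv3 F260982) F260983 (iv1 F256129) (iv4 D161223) (iv3 F254733) (iv1 D161130)
def n165694 : Q := act 7 n79581
theorem D165694 : act 7 n79581 = n165694 := rfl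
theorem F260991 : act 2 n165694 = n84279 := d4_1 D165694 (iv7 D84279) (iv2 F122222)
theorem F260992 : act 3 n165694 = n163234 := d8_1 D165694 (iv7 D163234) (iv3 F122223)
theorem F260993 : act 5 n165694 = n165692 := d13_1 D165694 (iv7 D165692) (iv5 F122224)
theorem F260995 : act 1 n84279 = n125385 := d15_0 (iv0 F254928) D165694 F260991
theorem F260996 : act 1 n84278 = n165694 := d15_1 D84278 (iv7 D165694) F122222
theorem E24161 : n162502 = n84278 := (c18_8 (iv1 F260985) F197461 (iv1 D121642) F88858 F43736 (iv4 F56270) D78032 D162502 F260996 F260993)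
theorem F260997 : act 3 n84278 = n84549 := (sb E24161 (iv3 F256666))
theorem F260998 : act 4 n84278 = n78032 := (sb E24161 (iv4 D162502))
theorem E24162 : n163905 = n160892 := (c20_8 F260998 (iv1 D78032) F56270 F28196 D17362 D35850 D78741 D163905 (iv4 F257507) (iv3 F260992) (iv1 F260996))
theorem F260999 : act 1 n160892 = n78741 := (sb E24162 (iv0 D163905))
theorem F261000 : act 0 n81508 = n125386 := d20_1 (iv4 F125359) (iv4 D125386) D125385 (iv1 F260995) F129352 (iv4 F129361) (iv1 F249020) (iv4 F250023) F255023 (iv1 D96340)
def n165695 : Q := act 6 n79582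
theorem D165695 : act 6 n79582 = n165695 := rfl
theorem F261003 : act 5 n165695 = n80917 := d12_1 D165695 F150378 (iv5 F199241) (iv6 F256114) F256116
def n165696 : Q := act 0 n79585
theorem D165696 : act 0 n79585 = n165696 := rfl
theorem F261006 : act 1 n120741 = n165696 := d15_0 (iv0 D165696) F122235 D120741
def n165697 : Q := act 1 n79585
theorem D165697 : act 1 n79585 = n165697 := rfl
def n165698 : Q := act 2 n79585
theorem D165698 : act 2 n79585 = n165698 := rfl
theorem F261007 : act 3 n165698 = n86258 := d0_2 D79585 D165698 F132208 F60737 (iv2 F56964)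
theorem F261009 : act 5 n165698 = n162476 := d2_2 (iv5 F122234) D165698 (iv2 D162476)
theorem F261010 : act 7 n165698 = n120741 := d4_2 (iv7 F122235) D165698 (iv2 D120741)
theorem F261011 : act 1 n165698 = n120739 := d15_0 (iv0 D120739) (iv7 F122235) D165698
theorem F261012 : act 1 n165697 = n120741 := d15_1 D165697 (iv7 F261010) (iv2 D165698)
def n165700 : Q := act 0 n79586
theorem D165700 : act 0 n79586 = n165700 := rfl
def n165702 : Q := act 5 n79586
theorem D165702 : act 5 n79586 = n165702 := rfl
theorem F261018 : act 2 n165702 = n121010 := d2_1 D165702 (iv5 D121010) (iv2 F122236)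
theorem F261019 : act 6 n165702 = n162480 := d12_2 D79586 D165702 (iv5 D162480) (iv6 D78026) (iv5 F56966)
def n165703 : Q := act 7 n79586
theorem D165703 : act 7 n79586 = n165703 := rfl
theorem F261021 : act 2 n165703 = n120932 := d4_1 D165703 F192844 (iv2 F122236)
theorem F261022 : act 4 n165703 = n79589 := d11_1 D165703 (iv7 D79589) (iv4 F122237)
theorem F261024 : act 1 n120932 = n165700 := d15_0 (iv0 D165700) D165703 F261021
theorem F261026 : act 4 n165700 = n161146 := d18_7 F192749 F260185 (iv1 F260184) F122201 (iv5 F88207) (iv4 F192843) F261024 (iv0 D161146) F116172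
theorem E24163 : n161146 = n86205 := ((c20_6 D35856 (iv1 F60704) F30120 (iv3 F30117) D39897 D86205 (iv4 F261026) (iv1 F261024) F192843 F88206 (iv1 F43492))).symm
theorem F261027 : act 0 n86205 = n124254 := (sb E24163 (iv1 F254804))
theorem F261028 : act 1 n86205 = n77362 := (sb E24163 (iv0 D161146))
theorem F261029 : act 4 n86205 = n165700 := (sb E24163 (iv4 F261026))
theorem F261030 : act 1 n165703 = n121008 := d15_0 (iv0 D121008) (iv7 F192844) (iv2 F261021)
theorem F261031 : act 4 n121008 = n124252 := d18_7 D124238 (iv4 F250144) F260159 F260156 (iv5 F122241) (iv4 F261022) F261030 (iv0 D124252) F91652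
theorem F261032 : act 3 n163233 = n124252 := d20_5 D78041 (iv1 F255065) F122953 F122223 D163233 (iv4 F261031) (iv1 F261030) F261022 F122240 (iv1 F116214)
def n165708 : Q := act 0 n79590
theorem D165708 : act 0 n79590 = n165708 := rfl
theorem F261039 : act 3 n165708 = n161489 := d20_5 F88060 F44569 (iv4 F56972) D79590 D165708 (iv4 D161489) (iv1 D77524) (iv4 F88064) (iv3 D55661) D55660
theorem F261040 : act 1 n164836 = n165708 := d15_0 (iv0 D165708) F122247 D164836
def n165709 : Q := act 1 n79590
theorem D165709 : act 1 n79590 = n165709 := rfl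
def n165710 : Q := act 2 n79590
theorem D165710 : act 2 n79590 = n165710 := rfl
theorem F261041 : act 3 n165710 = n164827 := d0_2 D79590 D165710 (iv2 D164827) (iv3 D79200) F56974
theorem F261042 : act 4 n165710 = n124257 := d1_2 (iv4 F122246) D165710 (iv2 D124257)
theorem F261043 : act 7 n165710 = n164836 := d4_2 (iv7 F122247) D165710 (iv2 D164836)
theorem F261044 : act 1 n165710 = n164834 := d15_0 (iv0 D164834) (iv7 F122247) D165710
theorem F261045 : act 1 n165709 = n164836 := d15_1 D165709 (iv7 F261043) (iv2 D165710)
theorem F261046 : act 1 n164835 = n165710 := d15_1 D164835 F261043 (iv2 D164836)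
def n165711 : Q := act 5 n79590
theorem D165711 : act 5 n79590 = n165711 := rfl
theorem F261048 : act 7 n165711 = n164837 := d13_2 (iv7 F122247) D165711 (iv5 D164837)
def n165712 : Q := act 6 n79590
theorem D165712 : act 6 n79590 = n165712 := rfl
theorem F261049 : act 3 n165712 = n79592 := d7_1 D165712 (iv6 D79592) D79590
def n165714 : Q := act 5 n79592
theorem D165714 : act 5 n79592 = n165714 := rfl
def n165715 : Q := act 7 n79592
theorem D165715 : act 7 n79592 = n165715 := rfl
theorem F261055 : act 4 n165715 = n124254 := d11_1 D165715 (iv7 D124254) (iv4 F122253)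
theorem F261057 : act 1 n121018 = n165715 := d15_1 F254906 (iv7 D165715) F122252
theorem F261058 : act 0 n122324 = n86206 := d20_7 (iv4 F261055) (iv1 F261057) (iv4 D121018) (iv3 F254995) (iv1 D88666) (iv3 F122907) (iv4 F195609) (iv4 D86206) D86205 F261027
theorem F261059 : act 0 n121013 = n165715 := d18_2 D55808 D121013 F261055 F198752 (iv4 F260890) F260893 (iv4 D79708) (iv0 D36293) (iv5 F43424)
theorem E24164 : n121012 = n96339 := ((c20_5 D86244 F254950 (iv4 F119919) F119918 D96339 (iv3 D121012) D121013 F261059 F261055 F198751 F254949)).symm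
theorem F261060 : act 3 n96339 = n55808 := (sb E24164 (iv3 D121012))
def n165716 : Q := act 1 n79593
theorem D165716 : act 1 n79593 = n165716 := rfl
def n165717 : Q := act 2 n79593
theorem D165717 : act 2 n79593 = n165717 := rfl
theorem F261063 : act 4 n165717 = n163593 := d1_2 (iv4 F122254) D165717 (iv2 D163593)
theorem F261064 : act 7 n165717 = n164827 := d4_2 (iv7 F122255) D165717 (iv2 D164827)
theorem F261065 : act 1 n165717 = n121215 := d15_0 (iv0 F193294) (iv7 F122255) D165717
theorem F261066 : act 1 n165716 = n164827 := d15_1 D165716 (iv7 F261064) (iv2 D165717)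
theorem F261067 : act 2 n121215 = n165716 := d15_3 F261066 F259874 F258123
theorem F261068 : act 7 n164826 = n165716 := d15_2 (iv0 F193294) D164826 (iv2 F261067)
theorem F261069 : act 2 n163769 = n164826 := d4_3 F261068 (iv2 F261067) (iv7 F258123)
theorem F261070 : act 1 n164826 = n165717 := d15_0 F261065 (iv7 F258123) F261069
def n165718 : Q := act 5 n79593
theorem D165718 : act 5 n79593 = n165718 := rfl
theorem F261071 : act 3 n165718 = n79594 := d6_1 D165718 (iv5 D79594) D79593
def n165719 : Q := act 6 n79593
theorem D165719 : act 6 n79593 = n165719 := rfl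
def n165721 : Q := act 5 n79595
theorem D165721 : act 5 n79595 = n165721 := rfl
theorem F261078 : act 1 n165721 = n120905 := d17_6 F192023 (iv5 D83123) (iv1 F121061) (iv5 F122927) F122926 D165721 (iv5 D120905) F192799 F192798
def n165722 : Q := act 2 n79596
theorem D165722 : act 2 n79596 = n165722 := rfl
theorem F261079 : act 7 n79597 = n165722 := d15_2 (iv0 D79596) D79597 (iv2 D165722)
def n165723 : Q := act 3 n79596
theorem D165723 : act 3 n79596 = n165723 := rfl
theorem F261080 : act 4 n165723 = n122326 := d20_6 (iv4 D12883) (iv1 F16985) D17507 D36249 D79596 D165723 (iv1 D122326) F89582 (iv3 D55796) (iv1 D26925)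
theorem F261081 : act 0 n121195 = n165723 := d20_10 F261080 (iv1 D122326) F89582 (iv3 D55796) (iv1 D26925) D26926 F43421 D26970 D55918 D121195
def n165724 : Q := act 4 n79596
theorem D165724 : act 4 n79596 = n165724 := rfl
def n165725 : Q := act 5 n79596
theorem D165725 : act 5 n79596 = n165725 := rfl
theorem F261082 : act 4 n165725 = n96347 := d19_2 D79596 D165725 F148286 F70740 (iv5 D39872) (iv4 D18865) F13724 (iv1 F9518) (iv5 D6120) (iv4 D2578) F2884 (iv1 D1205) F1377 (iv4 F1634) (iv3 F2803) D3706 D8233 D17507 D36249
def n165726 : Q := act 6 n79596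
theorem D165726 : act 6 n79596 = n165726 := rfl
def n165727 : Q := act 7 n79596
theorem D165727 : act 7 n79596 = n165727 := rfl
theorem F261083 : act 2 n165727 = n79597 := d4_1 D165727 F261079 (iv2 D165722)
def n165728 : Q := act 3 n79597
theorem D165728 : act 3 n79597 = n165728 := rfl
def n165729 : Q := act 4 n79597
theorem D165729 : act 4 n79597 = n165729 := rfl
theorem F261084 : act 3 n165729 = n81509 := d20_9 (iv4 F255431) (iv1 F255435) D162371 (iv3 F256501) (iv1 F248677) (iv3 F148285) (iv4 F194394) (iv1 F194398) D165729 (iv1 F248626)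
def n165730 : Q := act 5 n79597
theorem D165730 : act 5 n79597 = n165730 := rfl
def n165731 : Q := act 6 n79597
theorem D165731 : act 6 n79597 = n165731 := rfl
def n165732 : Q := act 5 n79598
theorem D165732 : act 5 n79598 = n165732 := rfl
theorem F261085 : act 2 n165732 = n79599 := d2_1 D165732 (iv5 D79599) D79598
def n165733 : Q := act 6 n79598
theorem D165733 : act 6 n79598 = n165733 := rfl
def n165736 : Q := act 4 n79599
theorem D165736 : act 4 n79599 = n165736 := rfl
theorem F261089 : act 3 n165736 = n162378 := d5_1 D165736 (iv4 D162378) F119208 (iv4 F56980) (iv3 F122262)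
def n165748 : Q := act 5 n79603
theorem D165748 : act 5 n79603 = n165748 := rfl
theorem F261103 : act 6 n165748 = n79606 := d12_2 D79603 D165748 (iv5 D79606) (iv6 D36251) D36250
def n165765 : Q := act 0 n79613
theorem D165765 : act 0 n79613 = n165765 := rfl
theorem F261152 : act 1 n158043 = n165765 := d15_0 (iv0 D165765) F122306 D158043
def n165766 : Q := act 1 n79613
theorem D165766 : act 1 n79613 = n165766 := rfl
def n165767 : Q := act 2 n79613
theorem D165767 : act 2 n79613 = n165767 := rfl
theorem F261153 : act 3 n165767 = n98134 := d0_2 D79613 D165767 (iv2 D98134) (iv3 D45840) (iv2 F56990)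
theorem F261154 : act 4 n165767 = n79619 := d1_2 (iv4 F122305) D165767 (iv2 D79619)
theorem F261155 : act 7 n165767 = n158043 := d4_2 (iv7 F122306) D165767 (iv2 D158043)
theorem F261156 : act 1 n165767 = n158041 := d15_0 (iv0 D158041) (iv7 F122306) D165767
theorem F261157 : act 1 n165766 = n158043 := d15_1 D165766 (iv7 F261155) (iv2 D165767)
theorem F261158 : act 1 n158042 = n165767 := d15_1 D158042 F261155 (iv2 D158043)
def n165768 : Q := act 3 n79617
theorem D165768 : act 3 n79617 = n165768 := rfl
theorem F261159 : act 7 n165768 = n164841 := d8_2 F254234 D165768 (iv3 D164841)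
def n165769 : Q := act 4 n79617
theorem D165769 : act 4 n79617 = n165769 := rfl
theorem F261160 : act 2 n165769 = n84318 := d1_1 D165769 F129387 F254232
theorem F261161 : act 7 n165769 = n164842 := d11_2 F254234 D165769 (iv4 D164842)
def n165770 : Q := act 5 n79617
theorem D165770 : act 5 n79617 = n165770 := rfl
theorem F261162 : act 2 n165770 = n164845 := d2_1 D165770 (iv5 D164845) F254232
theorem F261163 : act 7 n165770 = n164843 := d13_2 F254234 D165770 (iv5 D164843)
def n165771 : Q := act 6 n79617
theorem D165771 : act 6 n79617 = n165771 := rfl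
theorem F261164 : act 2 n165771 = n164846 := d3_1 D165771 (iv6 D164846) F254232
def n165772 : Q := act 5 n79618
theorem D165772 : act 5 n79618 = n165772 := rfl
theorem F261165 : act 2 n165772 = n164843 := d2_1 D165772 (iv5 D164843) (iv2 F254233)
theorem F261166 : act 7 n165772 = n164845 := d13_2 (iv7 F254231) D165772 (iv5 D164845)
def n165773 : Q := act 6 n79618
theorem D165773 : act 6 n79618 = n165773 := rfl
theorem F261167 : act 2 n165773 = n164844 := d3_1 D165773 (iv6 D164844) (iv2 F254233)
def n165774 : Q := act 5 n79619
theorem D165774 : act 5 n79619 = n165774 := rfl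
theorem F261168 : act 2 n165774 = n79620 := d2_1 D165774 (iv5 D79620) D79619
def n165782 : Q := act 7 n79622
theorem D165782 : act 7 n79622 = n165782 := rfl
theorem F261180 : act 3 n165782 = n90989 := d8_1 D165782 (iv7 D90989) (iv3 F122333)
theorem F261181 : act 4 n165782 = n164176 := d11_1 D165782 F258732 F132089
theorem F261183 : act 6 n165782 = n87063 := d14_1 D165782 (iv7 D87063) (iv6 D40452) (iv7 F57002) D79622
theorem F261184 : act 1 n79626 = n165782 := d15_1 D79626 (iv7 D165782) F122332
theorem F261185 : act 1 n165782 = n79625 := d15_1 F261184 (iv7 F193216) (iv2 F193217)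
theorem F261186 : act 0 n160612 = n160812 := d20_1 (iv4 F253709) F253976 F122339 (iv1 F261185) F261180 (iv4 F249045) (iv1 F258598) (iv4 D164082) D164081 (iv1 F258593)
def n165783 : Q := act 0 n79623
theorem D165783 : act 0 n79623 = n165783 := rfl
def n165784 : Q := act 1 n79623
theorem D165784 : act 1 n79623 = n165784 := rfl
def n165785 : Q := act 2 n79623
theorem D165785 : act 2 n79623 = n165785 := rfl
theorem F261188 : act 4 n165785 = n79633 := d1_2 (iv4 F122335) D165785 (iv2 D79633)
def n165786 : Q := act 6 n79623
theorem D165786 : act 6 n79623 = n165786 := rfl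
theorem F261189 : act 3 n165786 = n79624 := d7_1 D165786 (iv6 D79624) D79623
def n165787 : Q := act 5 n79624
theorem D165787 : act 5 n79624 = n165787 := rfl
def n165790 : Q := act 4 n79626
theorem D165790 : act 4 n79626 = n165790 := rfl
theorem F261204 : act 0 n165790 = n86126 := d20_1 D165790 F132071 (iv3 F88238) D120954 (iv3 F192899) (iv4 F250092) (iv1 F258599) F249045 (iv3 F261180) (iv1 F261184)
def n165793 : Q := act 2 n79628
theorem D165793 : act 2 n79628 = n165793 := rfl
theorem F261206 : act 4 n165793 = n124244 := d1_2 (iv4 F122342) D165793 (iv2 D124244)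
def n165794 : Q := act 6 n79628
theorem D165794 : act 6 n79628 = n165794 := rfl
theorem F261208 : act 4 n165794 = n124246 := d10_1 D165794 (iv6 D124246) (iv4 F122342)
def n165797 : Q := act 2 n79630
theorem D165797 : act 2 n79630 = n165797 := rfl
theorem F261209 : act 1 n165797 = n80060 := d15_0 (iv0 F192855) F192854 D165797
def n165798 : Q := act 2 n79631
theorem D165798 : act 2 n79631 = n165798 := rfl
theorem F261210 : act 7 n79632 = n165798 := d15_2 (iv0 D79631) D79632 (iv2 D165798)
def n165799 : Q := act 3 n79631
theorem D165799 : act 3 n79631 = n165799 := rfl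
def n165800 : Q := act 4 n79631
theorem D165800 : act 4 n79631 = n165800 := rfl
def n165801 : Q := act 5 n79631
theorem D165801 : act 5 n79631 = n165801 := rfl
theorem F261211 : act 4 n165801 = n157807 := d19_2 D79631 D165801 (iv3 D157807) (iv1 D75186) (iv5 D34429) (iv4 D16697) F12250 (iv1 F5652) (iv5 D3615) F2769 F1623 (iv1 F1636) (iv5 F2239) (iv4 F4116) (iv3 F9485) (iv1 F21347) (iv5 F21352) D17513 D36264
def n165802 : Q := act 6 n79631
theorem D165802 : act 6 n79631 = n165802 := rfl
def n165803 : Q := act 7 n79631
theorem D165803 : act 7 n79631 = n165803 := rfl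
theorem F261212 : act 2 n165803 = n79632 := d4_1 D165803 F261210 (iv2 D165798)
def n165805 : Q := act 4 n79632
theorem D165805 : act 4 n79632 = n165805 := rfl
theorem F261213 : act 3 n157757 = n165805 := d20_5 (iv4 D23669) F27362 D34422 D75165 D157757 (iv4 D165805) (iv1 D79632) (iv4 F122335) (iv3 D79623) F57005
def n165808 : Q := act 5 n79633
theorem D165808 : act 5 n79633 = n165808 := rfl
theorem F261214 : act 2 n165808 = n79634 := d2_1 D165808 (iv5 D79634) D79633
def n165809 : Q := act 6 n79633
theorem D165809 : act 6 n79633 = n165809 := rfl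
theorem F261215 : act 2 n165809 = n79635 := d3_1 D165809 (iv6 D79635) D79633
def n165812 : Q := act 4 n79634
theorem D165812 : act 4 n79634 = n165812 := rfl
theorem F261216 : act 5 n165805 = n165812 := d16_1 D165805 (iv4 D165812) (iv5 D79634) (iv4 F122335) (iv5 F248694) (iv4 F261211) (iv5 D165801) D165803 F261212
def n165832 : Q := act 6 n79643
theorem D165832 : act 6 n79643 = n165832 := rfl
theorem F261226 : act 7 n165832 = n98124 := d14_2 (iv7 F135977) D165832 (iv6 D98124) (iv7 F124464) (iv6 F135974)
theorem F261227 : act 0 n102788 = n165832 := d21_4 F136085 F135952 F118984 D102788 (iv6 D165832) (iv5 F152376) (iv1 F152378) (iv5 F136099) (iv6 D88743) D88740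
theorem F261228 : act 1 n102821 = n165832 := d15_1 (iv0 F260353) F261226 (iv2 F260351)
def n165833 : Q := act 2 n79645
theorem D165833 : act 2 n79645 = n165833 := rfl
theorem F261229 : act 7 n79646 = n165833 := d15_2 (iv0 D79645) D79646 (iv2 D165833)
theorem F261230 : act 3 n165833 = n80039 := d8_1 F261229 (iv7 F258177) F258184
def n165834 : Q := act 3 n79645
theorem D165834 : act 3 n79645 = n165834 := rfl
def n165838 : Q := act 7 n79645
theorem D165838 : act 7 n79645 = n165838 := rfl
theorem F261231 : act 2 n165838 = n79646 := d4_1 D165838 F261229 (iv2 D165833)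
def n165857 : Q := act 6 n79651
theorem D165857 : act 6 n79651 = n165857 := rfl
theorem F261239 : act 4 n165857 = n121963 := d10_1 D165857 (iv6 F194758) (iv4 F194971)
theorem F261240 : act 0 n121930 = n165857 := d18_2 F89195 D121930 F261239 (iv5 D121963) F124448 F88076 F56868 F43365 D55673
def n165867 : Q := act 2 n79657
theorem D165867 : act 2 n79657 = n165867 := rfl
theorem F261245 : act 7 n79658 = n165867 := d15_2 (iv0 D79657) D79658 (iv2 D165867)
def n165868 : Q := act 3 n79657
theorem D165868 : act 3 n79657 = n165868 := rfl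
def n165869 : Q := act 4 n79657
theorem D165869 : act 4 n79657 = n165869 := rfl
def n165870 : Q := act 5 n79657
theorem D165870 : act 5 n79657 = n165870 := rfl
def n165871 : Q := act 6 n79657
theorem D165871 : act 6 n79657 = n165871 := rfl
def n165872 : Q := act 7 n79657
theorem D165872 : act 7 n79657 = n165872 := rfl
theorem F261246 : act 2 n165872 = n79658 := d4_1 D165872 F261245 (iv2 D165867)
def n165874 : Q := act 4 n79658
theorem D165874 : act 4 n79658 = n165874 := rfl
theorem F261247 : act 3 n163235 = n165874 := d20_5 (iv4 D35235) F28265 D35751 D78454 D163235 (iv4 D165874) (iv1 D79658) D79660 F122359 F112859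
def n165877 : Q := act 4 n79659
theorem D165877 : act 4 n79659 = n165877 := rfl
theorem F261248 : act 2 n165877 = n79660 := d1_1 D165877 (iv4 D79660) D79659
def n165878 : Q := act 5 n79659
theorem D165878 : act 5 n79659 = n165878 := rfl
theorem F261249 : act 2 n165878 = n79661 := d2_1 D165878 (iv5 D79661) D79659
def n165879 : Q := act 6 n79659
theorem D165879 : act 6 n79659 = n165879 := rfl
theorem F261250 : act 2 n165879 = n79662 := d3_1 D165879 (iv6 D79662) D79659
def n165880 : Q := act 1 n79660
theorem D165880 : act 1 n79660 = n165880 := rfl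
theorem F261251 : act 4 n165834 = n165880 := d20_6 F56825 (iv1 F28455) D17516 D36271 D79645 D165834 (iv1 D165880) (iv4 D79660) (iv3 D36277) (iv1 F56827)
def n165881 : Q := act 5 n79660
theorem D165881 : act 5 n79660 = n165881 := rfl
theorem F261252 : act 3 n165881 = n158015 := d6_1 D165881 (iv5 D158015) (iv3 F122359)
def n165882 : Q := act 6 n79660
theorem D165882 : act 6 n79660 = n165882 := rfl
theorem F261253 : act 3 n165882 = n158016 := d7_1 D165882 (iv6 D158016) (iv3 F122359)
def n165900 : Q := act 3 n79668
theorem D165900 : act 3 n79668 = n165900 := rfl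
def n165901 : Q := act 4 n79668
theorem D165901 : act 4 n79668 = n165901 := rfl
def n165902 : Q := act 5 n79668
theorem D165902 : act 5 n79668 = n165902 := rfl
def n165906 : Q := act 4 n79669
theorem D165906 : act 4 n79669 = n165906 := rfl
theorem F261264 : act 3 n157899 = n165906 := d20_5 (iv4 D77262) (iv1 F63818) F63819 D75223 D157899 (iv4 D165906) (iv1 D79669) D79671 F122362 (iv1 F116029)
def n165909 : Q := act 4 n79670
theorem D165909 : act 4 n79670 = n165909 := rfl
theorem F261265 : act 2 n165909 = n79671 := d1_1 D165909 (iv4 D79671) D79670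
theorem F261266 : act 7 n165909 = n157873 := d11_2 F256392 D165909 (iv4 F256391)
theorem F261267 : act 1 n157872 = n165909 := d15_1 D157872 F261266 (iv2 D157873)
theorem F261268 : act 3 n157890 = n165909 := d0_0 F261265 F122362 F58521 D75217 D157890
theorem F261269 : act 1 n165909 = n157871 := d15_0 (iv0 D157871) (iv7 F122363) (iv2 F261265)
def n165910 : Q := act 5 n79670
theorem D165910 : act 5 n79670 = n165910 := rfl
theorem F261270 : act 2 n165910 = n79672 := d2_1 D165910 (iv5 D79672) D79670
def n165912 : Q := act 0 n79671
theorem D165912 : act 0 n79671 = n165912 := rfl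
theorem F261272 : act 5 n165912 = n93242 := d19_1 D165912 (iv4 D93242) F68560 F32750 F31989 F14760 F6188 (iv1 F3112) (iv5 D1767) F1752 (iv3 F1715) F2605 F2604 (iv4 F2914) (iv3 F5894) (iv1 F17001) D18056 D37677 (iv3 F122362)
theorem F261273 : act 1 n157873 = n165912 := d15_0 (iv0 D165912) F122363 D157873
theorem F261274 : act 7 n157871 = n165912 := d13_0 F261272 F143821 (iv5 F248792)
theorem F261275 : act 2 n165912 = n157872 := d15_3 F261267 F261269 F261274
def n165913 : Q := act 1 n79671
theorem D165913 : act 1 n79671 = n165913 := rfl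
theorem F261276 : act 1 n165913 = n157873 := d15_1 D165913 (iv7 F261266) F261265
theorem F261277 : act 7 n165913 = n157872 := d15_2 (iv0 D165912) D165913 (iv2 F261275)
theorem F261278 : act 4 n165799 = n165913 := d20_6 (iv4 D8240) D8238 D17513 D36264 D79631 D165799 (iv1 D165913) (iv4 D79671) (iv3 D36280) (iv1 D17519)
theorem F261279 : act 0 n80040 = n165799 := d20_10 F261278 (iv1 D165913) (iv4 D79671) (iv3 D36280) (iv1 D17519) D17520 F28519 D17598 D36450 D80040
theorem F261280 : act 2 n157871 = n165913 := d4_3 F261277 (iv2 F261275) (iv7 F261274)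
def n165914 : Q := act 5 n79671
theorem D165914 : act 5 n79671 = n165914 := rfl
theorem F261282 : act 7 n165914 = n157874 := d13_2 (iv7 F122363) D165914 (iv5 D157874)
def n165918 : Q := act 4 n79672
theorem D165918 : act 4 n79672 = n165918 := rfl
theorem F261285 : act 5 n87066 = n165918 := d19_1 D87066 (iv4 D165918) F122364 (iv1 F88282) F88280 F43422 F21392 (iv1 F9510) F5680 F2937 F1715 F1127 F965 (iv4 F1729) (iv3 F2965) D4001 D8969 D19121 D40454
def n165932 : Q := act 0 n79679
theorem D165932 : act 0 n79679 = n165932 := rfl
theorem F261293 : act 1 n79684 = n165932 := d15_0 (iv0 D165932) (iv7 F122366) (iv2 F122367)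
def n165934 : Q := act 3 n79679
theorem D165934 : act 3 n79679 = n165934 := rfl
theorem F261295 : act 7 n165934 = n79685 := d8_2 F122366 D165934 (iv3 D79685)
def n165935 : Q := act 4 n79679
theorem D165935 : act 4 n79679 = n165935 := rfl
theorem F261296 : act 2 n165935 = n79681 := d1_1 D165935 (iv4 D79681) D79679
theorem F261297 : act 7 n165935 = n79686 := d11_2 F122366 D165935 (iv4 D79686)
theorem F261298 : act 3 n125368 = n165935 := d8_3 F261297 (iv3 F122368) D125368
theorem F261299 : act 2 n163499 = n125369 := d0_3 F261298 F261296 F257779 (iv3 D125369) (iv2 F201641)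
theorem F261300 : act 7 n86148 = n125369 := d15_2 (iv0 F258429) F258423 (iv2 F261299)
theorem E24166 : n125365 = n39874 := (c8_3 F261300 (iv3 D125369) F201639 D86148)
theorem E24167 : n86147 = n58705 := (((iv2 F132102)).symm.trans (sb E24166 (iv2 D125365)))
theorem E24168 : n86174 = n34449 := ((((iv5 F256340)).symm.trans (sb E24166 F201638))).symm
theorem E24169 : n86142 = n58706 := ((F132100).symm.trans (sb E24166 (iv7 F201639)))
theorem F261301 : act 2 n58705 = n39874 := (sb E24167 F132102)
theorem E24170 : n75242 = n39885 := (((F194349).symm.trans (sb E24167 F256338))).symm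
theorem E24171 : n125368 = n39873 := ((D125368).symm.trans (sb E24167 (iv7 D86147)))
theorem E24172 : n75237 = n39886 := ((F112788).symm.trans (sb E24168 (iv7 F132141)))
theorem F261302 : act 7 n58706 = n39874 := (sb E24169 (iv7 F132100))
theorem F261303 : act 2 n39885 = n34449 := (sb E24170 F112789)
theorem E24175 : n157951 = n86175 := (((D86175).symm.trans (sb E24170 (iv3 F248846)))).symm
theorem E24176 : n157957 = n86176 := (((D86176).symm.trans (sb E24170 (iv4 F248851)))).symm
theorem E24177 : n157967 = n86178 := (((D86178).symm.trans (sb E24170 D157967))).symm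
theorem E24178 : n86179 = n34448 := ((D86179).symm.trans (sb E24170 (iv7 D75242)))
theorem F261304 : act 2 n39873 = n58706 := (sb E24171 F201641)
theorem E24179 : n165935 = n86143 := (((D86143).symm.trans (sb E24171 F261298))).symm
theorem F261305 : act 7 n39873 = n58705 := (sb E24171 (iv7 D125368))
theorem E24180 : n157942 = n86180 := (((D86180).symm.trans (sb E24172 D157942))).symm
theorem E24181 : n157943 = n86181 := (((D86181).symm.trans (sb E24172 D157943))).symm
theorem E24182 : n157945 = n86183 := (((D86183).symm.trans (sb E24172 D157945))).symm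
theorem F261306 : act 7 n39886 = n34449 := (sb E24172 (iv7 F112788))
theorem F261307 : act 7 n86175 = n75238 := (sb E24175 (iv7 D157951))
theorem F261308 : act 2 n86176 = n75244 := (sb E24176 F248850)
theorem F261309 : act 7 n86176 = n75239 := (sb E24176 (iv7 D157957))
theorem F261310 : act 2 n86178 = n75246 := (sb E24177 F248857)
theorem F261311 : act 2 n34448 = n39886 := (sb E24178 F132143)
theorem F261312 : act 7 n34448 = n39885 := (sb E24178 (iv7 D86179))
theorem F261313 : act 2 n86143 = n79681 := (sb E24179 F261296)
theorem E24183 : n79679 = n78708 := (((F132101).symm.trans (sb E24179 (iv4 D165935)))).symm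
theorem F261314 : act 7 n86143 = n79686 := (sb E24179 F261297)
theorem F261315 : act 7 n86180 = n75243 := (sb E24180 F248838)
theorem F261316 : act 2 n86181 = n75239 := (sb E24181 F248839)
theorem F261317 : act 7 n86181 = n75244 := (sb E24181 F248840)
theorem F261318 : act 2 n86183 = n75241 := (sb E24182 F248843)
theorem E24184 : n165932 = n35840 := ((((iv1 D78708)).symm.trans (sb E24183 D165932))).symm
theorem E24186 : n163829 = n36283 := (((iv2 F258276)).symm.trans (sb E24183 (iv2 D79679)))
theorem E24187 : n165934 = n163830 := (((D163830).symm.trans (sb E24183 D165934))).symm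
theorem E24188 : n163825 = n36284 := ((F258274).symm.trans (sb E24183 (iv7 F122366)))
theorem E24189 : n79684 = n78707 := (((D78707).symm.trans (sb E24184 (iv1 F261293)))).symm
theorem F261319 : act 2 n36283 = n78708 := (sb E24186 F258276)
theorem F261320 : act 7 n163830 = n79685 := (sb E24187 F261295)
theorem F261321 : act 7 n36284 = n78708 := (sb E24188 (iv7 F258274))
theorem F261322 : act 2 n78707 = n36284 := (sb E24189 F122367)
theorem F261323 : act 7 n78707 = n36283 := (sb E24189 (iv7 D79684))
theorem F261324 : act 7 n79680 = n163826 := d8_2 F261323 D79680 (iv3 D163826)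
theorem F261325 : act 7 n79681 = n163335 := d11_2 F261323 D79681 F257640
theorem F261326 : act 7 n79682 = n163827 := d13_2 F261323 D79682 (iv5 D163827)
theorem F261327 : act 2 n163335 = n79686 := d4_1 F261325 (iv7 F261314) F261313
theorem F261328 : act 7 n120292 = n124243 := d11_2 F261324 F258275 (iv4 F198742)
theorem F261329 : act 2 n124243 = n120291 := d15_3 (iv0 D120291) D120292 F261328
theorem F261330 : act 2 n120292 = n124242 := d15_3 (iv0 D124242) D124243 (iv7 F261328)
theorem F261331 : act 7 n124242 = n120291 := d4_2 (iv7 F261328) F261330 (iv2 F261329)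
theorem F261332 : act 2 n79687 = n163827 := d2_3 (iv5 D163827) F261322 D79687
theorem F261333 : act 2 n79688 = n163828 := d3_3 (iv6 D163828) F261322 D79688
theorem F261334 : act 1 n79687 = n120993 := d15_0 F194352 F261326 (iv2 F261332)
theorem F261335 : act 7 n120995 = n79687 := d13_2 F261321 F256349 (iv5 D79687)
theorem E24190 : n163827 = n120994 := (c15_4 (iv0 D120994) D120995 F261335 F261332)
theorem F261337 : act 2 n120994 = n79687 := (sb E24190 (iv2 F261332))
theorem F261338 : act 5 n120994 = n78707 := (sb E24190 (iv5 D163827))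
theorem F261339 : act 7 n120994 = n79682 := (sb E24190 (iv7 F261326))
theorem E24191 : n163320 = n157970 := ((c15_4 F258620 F258619 F261315 D157970)).symm
theorem F261341 : act 0 n157970 = n78492 := (sb E24191 (iv1 D163320))
theorem F261342 : act 1 n157970 = n164090 := (sb E24191 F258620)
theorem F261343 : act 4 n157970 = n158112 := (sb E24191 F258621)
theorem F261344 : act 2 n158112 = n157971 := d1_1 F261343 (iv4 D157971) D157970
theorem F261345 : act 7 n164129 = n158112 := d15_2 (iv0 F248859) D164129 F261344
theorem F261346 : act 3 n158106 = n164129 := d8_3 F261345 (iv3 D158112) F249052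
theorem E24192 : n157948 = n121623 := ((c2_3 (iv5 F256337) F261313 (iv5 F194359) (iv2 D157948))).symm
theorem F261347 : act 2 n121623 = n75238 := (sb E24192 (iv2 D157948))
theorem E24193 : n121621 = n121237 := ((c1_3 D121623 F261347 F193307 (iv2 D121621))).symm
theorem F261349 : act 7 n121237 = n56171 := (sb E24193 (iv7 F194085))
theorem E24195 : n121626 = n121236 := (c15_4 (iv0 D121236) D121237 F261349 (iv2 F194087))
theorem F261352 : act 2 n121236 = n56171 := (sb E24195 F194087)
theorem F261353 : act 7 n121236 = n56170 := (sb E24195 (iv7 D121626))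
theorem F261354 : act 7 n121622 = n158113 := d8_2 F261353 D121622 (iv3 F249054)
theorem E24196 : n162439 = n121624 := ((c13_2 F261353 D121624 (iv7 D162439) F256526)).symm
theorem F261355 : act 2 n121624 = n78016 := (sb E24196 F256647)
theorem E24197 : n158106 = n84268 := (c11_3 F261354 (iv4 D158113) F249052 (iv4 F194086))
theorem F261357 : act 2 n84268 = n75305 := (sb E24197 (iv2 D158106))
theorem F261358 : act 3 n84268 = n164129 := (sb E24197 F261346)
theorem F261359 : act 7 n84268 = n75306 := (sb E24197 (iv7 F249052))
theorem E24198 : n158111 = n84267 := (c15_4 (iv0 D84267) D84268 F261359 (iv2 F249053))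
theorem F261360 : act 2 n84267 = n75306 := (sb E24198 F249053)
theorem F261361 : act 7 n84267 = n75305 := (sb E24198 (iv7 D158111))
theorem F261363 : act 7 n125366 = n86144 := d11_2 F261305 D125366 (iv4 D86144)
theorem F261364 : act 2 n86144 = n125370 := d15_3 (iv0 F258686) F258685 F261363
theorem F261365 : act 2 n125371 = n86146 := d3_3 (iv6 D86146) F261304 D125371
theorem F261366 : act 7 n86149 = n125370 := d11_2 F261302 D86149 (iv4 D125370)
theorem F261367 : act 2 n125366 = n86149 := d4_3 F261366 (iv2 F261364) (iv7 F261363)
theorem F261368 : act 2 n86151 = n125367 := d3_3 (iv6 D125367) F261301 D86151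
def n165936 : Q := act 0 n79680
theorem D165936 : act 0 n79680 = n165936 := rfl
def n165937 : Q := act 1 n79680
theorem D165937 : act 1 n79680 = n165937 := rfl
def n165938 : Q := act 2 n79680
theorem D165938 : act 2 n79680 = n165938 := rfl
theorem F261369 : act 4 n165938 = n120291 := d1_2 (iv4 F198742) D165938 (iv2 F261329)
def n165939 : Q := act 5 n79680
theorem D165939 : act 5 n79680 = n165939 := rfl
theorem F261370 : act 3 n165939 = n79682 := d6_1 D165939 (iv5 D79682) D79680
def n165940 : Q := act 6 n79680
theorem D165940 : act 6 n79680 = n165940 := rfl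
theorem F261371 : act 3 n165940 = n79683 := d7_1 D165940 (iv6 D79683) D79680
def n165941 : Q := act 6 n79681
theorem D165941 : act 6 n79681 = n165941 := rfl
theorem F261372 : act 4 n165941 = n79683 := d10_1 D165941 (iv6 D79683) D79681
def n165942 : Q := act 4 n79682
theorem D165942 : act 4 n79682 = n165942 := rfl
def n165943 : Q := act 6 n79682
theorem D165943 : act 6 n79682 = n165943 := rfl
def n165945 : Q := act 1 n79683
theorem D165945 : act 1 n79683 = n165945 := rfl
def n165946 : Q := act 5 n79683
theorem D165946 : act 5 n79683 = n165946 := rfl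
def n165947 : Q := act 7 n79683
theorem D165947 : act 7 n79683 = n165947 := rfl
def n165948 : Q := act 0 n79685
theorem D165948 : act 0 n79685 = n165948 := rfl
def n165949 : Q := act 1 n79685
theorem D165949 : act 1 n79685 = n165949 := rfl
def n165950 : Q := act 2 n79685
theorem D165950 : act 2 n79685 = n165950 := rfl
def n165951 : Q := act 4 n79685
theorem D165951 : act 4 n79685 = n165951 := rfl
theorem F261373 : act 3 n165951 = n125366 := d5_1 D165951 (iv4 D125366) F122368 (iv4 D79686) D79685
theorem F261374 : act 0 n165800 = n165951 := d20_1 D165800 (iv4 D165951) (iv3 D79685) (iv1 D36284) (iv3 D17520) (iv4 D8240) D8238 D17513 D36264 D79631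
theorem F261375 : act 0 n165951 = n165805 := d19_4 D39885 (iv5 F194349) D125366 (iv3 F261373) F261216 (iv4 D165812) F122344 (iv1 F120482) (iv5 D79204) F56799 F55785 F27962 (iv5 D7982) F5646 F5645 (iv1 F2886) D3936 D8837 D18870
def n165952 : Q := act 5 n79685
theorem D165952 : act 5 n79685 = n165952 := rfl
theorem F261376 : act 3 n165952 = n79687 := d6_1 D165952 (iv5 D79687) D79685
def n165953 : Q := act 6 n79685
theorem D165953 : act 6 n79685 = n165953 := rfl
theorem F261377 : act 3 n165953 = n79688 := d7_1 D165953 (iv6 D79688) D79685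
def n165954 : Q := act 6 n79686
theorem D165954 : act 6 n79686 = n165954 := rfl
theorem F261378 : act 3 n165954 = n125367 := d7_1 D165954 (iv6 D125367) F122368
theorem F261379 : act 4 n165954 = n79688 := d10_1 D165954 (iv6 D79688) D79686
def n165955 : Q := act 4 n79687
theorem D165955 : act 4 n79687 = n165955 := rfl
def n165956 : Q := act 6 n79687
theorem D165956 : act 6 n79687 = n165956 := rfl
def n165957 : Q := act 0 n79688
theorem D165957 : act 0 n79688 = n165957 := rfl
def n165961 : Q := act 6 n79689
theorem D165961 : act 6 n79689 = n165961 := rfl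
theorem F261380 : act 2 n165961 = n79693 := d3_1 D165961 (iv6 D79693) (iv2 F122369)
def n165962 : Q := act 3 n79690
theorem D165962 : act 3 n79690 = n165962 := rfl
theorem F261381 : act 5 n165962 = n120984 := d6_2 (iv5 F258150) D165962 (iv3 D120984)
def n165965 : Q := act 3 n79691
theorem D165965 : act 3 n79691 = n165965 := rfl
theorem F261382 : act 5 n165965 = n120989 := d6_2 (iv5 F248732) D165965 (iv3 D120989)
def n165968 : Q := act 0 n79692
theorem D165968 : act 0 n79692 = n165968 := rfl
theorem F261383 : act 4 n165968 = n121196 := d18_3 (iv1 D79691) D79692 D165968 (iv5 D121196) (iv4 D55918) (iv0 D26970) (iv4 F43421) D55799 (iv5 F248732)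
def n165969 : Q := act 1 n79692
theorem D165969 : act 1 n79692 = n165969 := rfl
def n165971 : Q := act 6 n79692
theorem D165971 : act 6 n79692 = n165971 := rfl
theorem F261385 : act 4 n165971 = n79693 := d10_1 D165971 (iv6 D79693) D79692
def n165979 : Q := act 6 n79694
theorem D165979 : act 6 n79694 = n165979 := rfl
theorem F261389 : act 3 n165979 = n79695 := d7_1 D165979 (iv6 D79695) D79694
def n165982 : Q := act 5 n79695
theorem D165982 : act 5 n79695 = n165982 := rfl
theorem F261390 : act 6 n165982 = n120975 := d12_2 D79695 D165982 (iv5 D120975) (iv6 D55795) (iv5 F57020)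
def n165986 : Q := act 2 n79696
theorem D165986 : act 2 n79696 = n165986 := rfl
theorem F261392 : act 5 n165986 = n120979 := d2_2 (iv5 F122373) D165986 (iv2 D120979)
def n165987 : Q := act 4 n79696
theorem D165987 : act 4 n79696 = n165987 := rfl
theorem F261394 : act 7 n165987 = n95411 := d11_2 F260171 D165987 F260172
theorem F261395 : act 5 n87047 = n165987 := d19_1 D87047 (iv4 D165987) (iv3 D79696) (iv1 D36288) (iv5 D17521) (iv4 D8240) F5711 (iv1 F5679) (iv5 D3657) F2961 F2949 (iv1 D922) (iv5 F965) (iv4 F1737) (iv3 F3002) (iv1 F7291) D8956 D19115 D40446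
theorem F261396 : act 2 n165987 = n95415 := d2_1 F261395 (iv5 D95415) (iv2 F254754)
theorem F261397 : act 4 n95415 = n165986 := d1_2 D165987 F261396 (iv2 D165986)
def n166014 : Q := act 5 n79703
theorem D166014 : act 5 n79703 = n166014 := rfl
theorem F261409 : act 6 n166014 = n79706 := d12_2 D79703 D166014 (iv5 D79706) (iv6 D36292) (iv5 F57027)
def n166015 : Q := act 3 n79704
theorem D166015 : act 3 n79704 = n166015 := rfl
def n166016 : Q := act 5 n79704
theorem D166016 : act 5 n79704 = n166016 := rfl
def n166019 : Q := act 0 n79706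
theorem D166019 : act 0 n79706 = n166019 := rfl
def n166021 : Q := act 4 n79706
theorem D166021 : act 4 n79706 = n166021 := rfl
def n166022 : Q := act 4 n79707
theorem D166022 : act 4 n79707 = n166022 := rfl
theorem F261412 : act 0 n166022 = n104974 := d20_1 D166022 F160854 F76352 (iv1 F44801) D39891 D86191 (iv1 F253396) F193373 F115506 F129589
theorem F261413 : act 0 n96428 = n166022 := d20_1 (iv4 F148457) (iv4 D166022) (iv3 D79707) F121642 F121640 (iv4 F254892) (iv1 F254895) (iv4 F197461) (iv3 F197460) (iv1 D96429)
def n166025 : Q := act 3 n79710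
theorem D166025 : act 3 n79710 = n166025 := rfl
def n166027 : Q := act 5 n79711
theorem D166027 : act 5 n79711 = n166027 := rfl
theorem F261415 : act 3 n166027 = n79712 := d6_1 D166027 (iv5 D79712) D79711
theorem F261416 : act 7 n166027 = n80764 := d13_2 (iv7 F122380) D166027 (iv5 D80764)
def n166028 : Q := act 4 n79712
theorem D166028 : act 4 n79712 = n166028 := rfl
def n166029 : Q := act 6 n79712
theorem D166029 : act 6 n79712 = n166029 := rfl
def n166030 : Q := act 3 n79713
theorem D166030 : act 3 n79713 = n166030 := rfl
def n166031 : Q := act 5 n79713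
theorem D166031 : act 5 n79713 = n166031 := rfl
def n166034 : Q := act 2 n79714
theorem D166034 : act 2 n79714 = n166034 := rfl
theorem F261420 : act 3 n166034 = n79724 := d0_2 D79714 D166034 (iv2 D79724) (iv3 D36310) (iv2 F57031)
def n166036 : Q := act 6 n79714
theorem D166036 : act 6 n79714 = n166036 := rfl
theorem F261425 : act 3 n166036 = n79716 := d7_1 D166036 (iv6 D79716) D79714
def n166037 : Q := act 4 n79715
theorem D166037 : act 4 n79715 = n166037 := rfl
theorem F261426 : act 2 n166037 = n79729 := d1_1 D166037 (iv4 D79729) (iv2 F122384)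
def n166038 : Q := act 6 n79715
theorem D166038 : act 6 n79715 = n166038 := rfl
theorem F261427 : act 2 n166038 = n79730 := d3_1 D166038 (iv6 D79730) (iv2 F122384)
def n166039 : Q := act 7 n79716
theorem D166039 : act 7 n79716 = n166039 := rfl
theorem F261429 : act 4 n166039 = n79719 := d11_1 D166039 (iv7 D79719) (iv4 F122386)
theorem F261431 : act 6 n166039 = n86687 := d14_1 D166039 F132934 (iv6 D86536) F118110 D79716
def n166040 : Q := act 3 n79717
theorem D166040 : act 3 n79717 = n166040 := rfl
def n166041 : Q := act 5 n79717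
theorem D166041 : act 5 n79717 = n166041 := rfl
theorem F261434 : act 2 n166041 = n79741 := d2_1 D166041 (iv5 D79741) (iv2 F122387)
def n166042 : Q := act 6 n79717
theorem D166042 : act 6 n79717 = n166042 := rfl
theorem F261435 : act 2 n166042 = n79742 := d3_1 D166042 (iv6 D79742) (iv2 F122387)
theorem F261436 : act 4 n166042 = n79718 := d10_1 D166042 (iv6 D79718) D79717
theorem F261437 : act 7 n166042 = n163014 := d14_2 F132755 D166042 (iv6 D163014) (iv7 F132687) (iv6 F132754)
theorem F261438 : act 1 n163028 = n166042 := d15_1 D163028 F261437 F257369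
theorem F261439 : act 1 n166042 = n163027 := d15_0 (iv0 D163027) (iv7 F122429) (iv2 F261435)
def n166046 : Q := act 4 n79721
theorem D166046 : act 4 n79721 = n166046 := rfl
def n166048 : Q := act 3 n79722
theorem D166048 : act 3 n79722 = n166048 := rfl
theorem F261445 : act 4 n166048 = n124592 := d5_2 F187872 D166048 (iv3 F199284) F189133 (iv3 F187871)
theorem F261446 : act 6 n166048 = n149898 := d7_2 F131651 D166048 (iv3 D149898)
theorem F261447 : act 7 n166048 = n106006 := d8_2 (iv7 F131649) D166048 F162812
def n166049 : Q := act 5 n79722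
theorem D166049 : act 5 n79722 = n166049 := rfl
theorem F261448 : act 2 n166049 = n149328 := d2_1 D166049 (iv5 D149328) F131650
theorem F261449 : act 7 n166049 = n106007 := d13_2 (iv7 F131649) D166049 (iv5 D106007)
def n166050 : Q := act 5 n79724
theorem D166050 : act 5 n79724 = n166050 := rfl
theorem F261450 : act 2 n166050 = n79725 := d2_1 D166050 (iv5 D79725) D79724
theorem F261451 : act 7 n166050 = n149323 := d13_2 (iv7 F122415) D166050 (iv5 D149323)
theorem F261452 : act 1 n149330 = n166050 := d15_1 D149330 F261451 F234749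
theorem F261453 : act 5 n149330 = n148939 := d21_2 D166050 (iv1 F261452) (iv6 D148939) (iv1 D69822) (iv6 D32425) D32424 (iv1 F56770) F56769 D49004 F130345
theorem F261455 : act 1 n166050 = n149329 := d15_0 (iv0 D149329) (iv7 F122420) (iv2 F261450)
def n166051 : Q := act 6 n79724
theorem D166051 : act 6 n79724 = n166051 := rfl
theorem F261456 : act 2 n166051 = n79726 := d3_1 D166051 (iv6 D79726) D79724
theorem F261457 : act 4 n166051 = n79761 := d10_1 D166051 (iv6 D79761) (iv4 F122414)
theorem F261458 : act 1 n106018 = n166051 := d18_6 (iv1 F124773) (iv4 F243280) F243277 (iv4 F238824) (iv5 F238822) F187825 F261457 F215758 F215756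
theorem F261459 : act 5 n106018 = n150360 := d17_1 (iv1 F261458) (iv1 D150360) (iv5 D70832) (iv4 D32826) D32827 D70835 F190031 (iv0 F215732) (iv4 F261457)
def n166052 : Q := act 0 n79725
theorem D166052 : act 0 n79725 = n166052 := rfl
theorem F261460 : act 1 n149323 = n166052 := d15_0 (iv0 D166052) F122420 (iv2 F234749)
theorem F261461 : act 5 n166052 = n150638 := d17_7 D71014 F191203 (iv1 F122447) (iv5 D70114) D70113 D149323 F261460 (iv0 D150638) F107559
theorem F261462 : act 6 n150638 = n148894 := d21_3 D79725 D166052 F261461 (iv1 D148894) (iv6 D69794) (iv5 F56767) (iv1 D36011) F30273 D40138 F131633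
theorem F261463 : act 2 n148939 = n150638 := d3_3 F261462 (iv2 F233955) D148939
theorem F261464 : act 2 n166052 = n149330 := d2_3 F261453 F261463 (iv5 F261461)
theorem F261465 : act 7 n150639 = n148939 := d15_2 (iv0 D150638) D150639 F261463
theorem F261466 : act 7 n149329 = n166052 := d15_2 F261452 F261455 F261464
def n166053 : Q := act 1 n79725
theorem D166053 : act 1 n79725 = n166053 := rfl
theorem F261467 : act 1 n166053 = n149323 := d15_1 D166053 (iv7 F261451) F261450
def n166054 : Q := act 4 n79725
theorem D166054 : act 4 n79725 = n166054 := rfl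
theorem F261471 : act 7 n166054 = n149331 := d11_2 (iv7 F122420) D166054 (iv4 D149331)
def n166055 : Q := act 6 n79725
theorem D166055 : act 6 n79725 = n166055 := rfl
theorem F261472 : act 3 n166055 = n79730 := d7_1 D166055 (iv6 D79730) (iv3 F122419)
def n166056 : Q := act 0 n79726
theorem D166056 : act 0 n79726 = n166056 := rfl
def n166058 : Q := act 5 n79726
theorem D166058 : act 5 n79726 = n166058 := rfl
theorem F261474 : act 1 n166058 = n150358 := d17_6 (iv1 F57928) (iv5 F112445) (iv1 D61817) F57050 (iv4 F122422) D166058 (iv5 D150358) F124745 F124742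
theorem F261475 : act 0 n166058 = n150282 := d21_7 (iv5 F56767) (iv1 D36011) F30273 D40138 F131633 D79726 D166058 (iv5 D150282) (iv6 D70761) (iv1 F51930)
def n166060 : Q := act 4 n79727
theorem D166060 : act 4 n79727 = n166060 := rfl
def n166061 : Q := act 6 n79727
theorem D166061 : act 6 n79727 = n166061 := rfl
def n166062 : Q := act 3 n79728
theorem D166062 : act 3 n79728 = n166062 := rfl
def n166063 : Q := act 4 n79728
theorem D166063 : act 4 n79728 = n166063 := rfl
def n166064 : Q := act 6 n79728
theorem D166064 : act 6 n79728 = n166064 := rfl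
def n166065 : Q := act 0 n79729
theorem D166065 : act 0 n79729 = n166065 := rfl
def n166066 : Q := act 1 n79729
theorem D166066 : act 1 n79729 = n166066 := rfl
def n166067 : Q := act 3 n79729
theorem D166067 : act 3 n79729 = n166067 := rfl
def n166068 : Q := act 5 n79729
theorem D166068 : act 5 n79729 = n166068 := rfl
def n166069 : Q := act 6 n79729
theorem D166069 : act 6 n79729 = n166069 := rfl
theorem F261476 : act 4 n166069 = n79730 := d10_1 D166069 (iv6 D79730) D79729
def n166072 : Q := act 5 n79730
theorem D166072 : act 5 n79730 = n166072 := rfl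
theorem F261477 : act 6 n166072 = n79733 := d12_2 D79730 D166072 (iv5 D79733) (iv6 D36312) D36311
def n166078 : Q := act 1 n79735
theorem D166078 : act 1 n79735 = n166078 := rfl
theorem F261485 : act 1 n166078 = n79737 := d15_1 D166078 (iv7 F194206) F194205
theorem F261486 : act 4 n166078 = n83332 := d18_7 (iv1 D87331) (iv4 F134080) (iv1 F194679) (iv4 D121941) F119037 D79735 D166078 F199279 F199277
def n166079 : Q := act 3 n79735
theorem D166079 : act 3 n79735 = n166079 := rfl
def n166080 : Q := act 5 n79735
theorem D166080 : act 5 n79735 = n166080 := rfl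
def n166081 : Q := act 4 n79736
theorem D166081 : act 4 n79736 = n166081 := rfl
theorem F261487 : act 2 n166081 = n84751 := d1_1 D166081 (iv4 F199321) F199318
theorem F261489 : act 7 n166081 = n84750 := d11_2 F193856 D166081 (iv4 F193853)
theorem F261490 : act 0 n166081 = n84648 := d18_2 (iv1 F194672) D166081 (iv4 D84648) (iv5 D39094) D39093 F118548 F60986 (iv0 F118419) F118757
theorem F261491 : act 0 n84650 = n166081 := d20_1 D84650 (iv4 D166081) (iv3 D79736) (iv1 D36314) F28530 D17545 D36334 F57076 D58214 F117557
def n166082 : Q := act 3 n79737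
theorem D166082 : act 3 n79737 = n166082 := rfl
theorem F261492 : act 6 n166082 = n163636 := d7_2 (iv6 F122426) D166082 (iv3 D163636)
def n166083 : Q := act 5 n79737
theorem D166083 : act 5 n79737 = n166083 := rfl
def n166085 : Q := act 4 n79738
theorem D166085 : act 4 n79738 = n166085 := rfl
theorem F261497 : act 3 n166085 = n123364 := d20_3 D36315 D79738 D166085 (iv1 F197696) (iv3 F120932) D84650 F261491 (iv4 D166081) (iv3 D79736) (iv1 D36314)
theorem F261498 : act 0 n166085 = n86885 := d20_4 D79242 D164932 F260030 (iv3 F261497) F133300 F128393 F256184 (iv4 D162089) F120533 (iv1 D79241)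
def n166087 : Q := act 6 n79738
theorem D166087 : act 6 n79738 = n166087 := rfl
def n166088 : Q := act 3 n79739
theorem D166088 : act 3 n79739 = n166088 := rfl
theorem F261501 : act 6 n166088 = n163625 := d7_2 F148928 D166088 (iv3 D163625)
def n166089 : Q := act 5 n79739
theorem D166089 : act 5 n79739 = n166089 := rfl
theorem F261502 : act 0 n166089 = n121709 := d17_2 (iv1 F132756) D166089 (iv5 D121709) (iv4 D56243) F43879 D56385 (iv5 F119049) (iv0 F118097) D86537
def n166090 : Q := act 0 n79740
theorem D166090 : act 0 n79740 = n166090 := rfl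
def n166091 : Q := act 1 n79740
theorem D166091 : act 1 n79740 = n166091 := rfl
def n166092 : Q := act 2 n79740
theorem D166092 : act 2 n79740 = n166092 := rfl
theorem F261503 : act 4 n166092 = n79788 := d1_2 (iv4 F122427) D166092 (iv2 D79788)
def n166093 : Q := act 5 n79740
theorem D166093 : act 5 n79740 = n166093 := rfl
theorem F261504 : act 3 n166093 = n79741 := d6_1 D166093 (iv5 D79741) D79740
def n166094 : Q := act 6 n79740
theorem D166094 : act 6 n79740 = n166094 := rfl
theorem F261505 : act 3 n166094 = n79742 := d7_1 D166094 (iv6 D79742) D79740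
def n166095 : Q := act 0 n79741
theorem D166095 : act 0 n79741 = n166095 := rfl
theorem F261508 : act 5 n166095 = n79864 := d17_3 (iv1 D79739) D79741 D166095 (iv4 F135354) F135355 F64934 D86883 F133304 F130022
def n166096 : Q := act 4 n79741
theorem D166096 : act 4 n79741 = n166096 := rfl
def n166097 : Q := act 6 n79741
theorem D166097 : act 6 n79741 = n166097 := rfl
def n166098 : Q := act 0 n79742
theorem D166098 : act 0 n79742 = n166098 := rfl
theorem F261509 : act 1 n163014 = n166098 := d15_0 (iv0 D166098) F122429 (iv2 F257369)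
def n166099 : Q := act 1 n79742
theorem D166099 : act 1 n79742 = n166099 := rfl
theorem F261510 : act 1 n166099 = n163014 := d15_1 D166099 (iv7 F261437) F261435
def n166101 : Q := act 4 n79743
theorem D166101 : act 4 n79743 = n166101 := rfl
theorem F261513 : act 6 n166101 = n79969 := d10_2 F122431 D166101 (iv4 D79969)
def n166102 : Q := act 3 n79744
theorem D166102 : act 3 n79744 = n166102 := rfl
theorem F261515 : act 5 n166102 = n82205 := d6_2 F124955 D166102 F149483
theorem F261516 : act 7 n166102 = n161125 := d8_2 (iv7 F124490) D166102 F254722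
def n166103 : Q := act 4 n79744
theorem D166103 : act 4 n79744 = n166103 := rfl
theorem F261518 : act 7 n166103 = n163032 := d11_2 (iv7 F124490) D166103 (iv4 D163032)
def n166107 : Q := act 4 n79748
theorem D166107 : act 4 n79748 = n166107 := rfl
theorem F261529 : act 0 n166107 = n82151 := d18_2 (iv1 F193866) D166107 (iv4 D82151) (iv5 D37659) D37658 F126546 (iv4 F132450) (iv0 F132453) (iv5 F193864)
def n166110 : Q := act 5 n79752
theorem D166110 : act 5 n79752 = n166110 := rfl
theorem F261533 : act 2 n166110 = n149319 := d2_1 D166110 (iv5 D149319) F191149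
theorem F261534 : act 7 n166110 = n105965 := d13_2 (iv7 F190022) D166110 (iv5 D105965)
def n166111 : Q := act 4 n79753
theorem D166111 : act 4 n79753 = n166111 := rfl
theorem F261535 : act 2 n166111 = n149320 := d1_1 D166111 (iv4 D149320) F191152
theorem F261536 : act 6 n166111 = n154933 := d10_2 F252866 D166111 (iv4 F252864)
theorem F261537 : act 7 n166111 = n105979 := d11_2 (iv7 F190026) D166111 (iv4 D105979)
theorem F261538 : act 1 n166111 = n160115 := d18_6 D119317 F191111 (iv1 F190020) (iv4 D79752) D79753 D166111 (iv4 D160115) (iv0 D76683) (iv5 F86854)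
theorem F261539 : act 0 n166111 = n153630 := d20_1 D166111 F241518 (iv3 D73497) (iv1 D33789) F25847 D16341 D33817 F53153 D54350 (iv1 F189471)
theorem E24199 : n160115 = n153629 := (c15_1 F261538 (iv0 D153629) (iv7 F234744) (iv2 F261535))
theorem F261540 : act 0 n153629 = n166111 := (sb E24199 (iv1 F261538))
theorem F261541 : act 4 n153629 = n76683 := (sb E24199 (iv4 D160115))
def n166112 : Q := act 4 n79760
theorem D166112 : act 4 n79760 = n166112 := rfl
theorem F261542 : act 2 n166112 = n79764 := d1_1 D166112 (iv4 D79764) (iv2 F122439)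
theorem F261545 : act 1 n166112 = n149341 := d15_0 (iv0 D149341) (iv7 F122449) (iv2 F261542)
theorem F261546 : act 4 n149341 = n154914 := d18_7 (iv1 F130347) F86853 F130345 F122414 D79760 D166112 F261545 (iv0 D154914) (iv5 D73480)
def n166113 : Q := act 6 n79760
theorem D166113 : act 6 n79760 = n166113 := rfl
theorem F261547 : act 2 n166113 = n79765 := d3_1 D166113 (iv6 D79765) (iv2 F122439)
theorem F261549 : act 5 n166113 = n131758 := d12_1 D166113 (iv6 D131758) F122446 (iv6 D79761) D79760
theorem F261550 : act 0 n166113 = n133749 := d21_4 (iv5 D48991) F191156 D79760 D166113 (iv6 F252872) F252873 (iv1 D150652) F107561 (iv6 D70145) (iv1 F191171)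
theorem F261551 : act 0 n133750 = n151144 := d21_4 (iv5 F261549) F261550 (iv5 D133749) D133750 F237817 (iv5 D145192) (iv1 F243403) (iv5 D133830) D133831 (iv1 F235182)
theorem F261552 : act 1 n166113 = n133744 := d15_1 (iv0 F261550) F252918 (iv2 F252917)
def n166114 : Q := act 3 n79762
theorem D166114 : act 3 n79762 = n166114 := rfl
theorem F261553 : act 5 n166114 = n150423 := d6_2 F191203 D166114 F236811
theorem F261554 : act 7 n166114 = n149335 := d8_2 F234072 D166114 (iv3 D149335)
theorem F261555 : act 4 n166114 = n154038 := d20_6 D73534 F110201 (iv4 D36327) (iv3 F57047) D79762 D166114 (iv1 F242064) (iv4 D72923) (iv3 F190761) (iv1 F53034)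
theorem F261556 : act 0 n154208 = n166114 := d18_0 F261555 (iv1 F242064) (iv4 D72923) (iv5 D33616) D33615 (iv0 F190750) F190039 F190016 D154208
theorem F261557 : act 1 n117966 = n166114 := d15_0 (iv0 F261556) F242316 F242030
theorem F261558 : act 6 n149297 = n166114 := d21_9 (iv5 D117966) F190083 (iv5 F106549) (iv6 D70160) (iv1 F85801) D118012 F185207 D127930 F234670 (iv1 F261557)
def n166115 : Q := act 4 n79762
theorem D166115 : act 4 n79762 = n166115 := rfl
theorem F261559 : act 2 n166115 = n149339 := d1_1 D166115 (iv4 D149339) (iv2 F234070)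
theorem F261560 : act 7 n166115 = n149336 := d11_2 F234072 D166115 (iv4 D149336)
theorem F261561 : act 0 n166115 = n154916 := d18_2 D79762 D166115 (iv4 D154916) (iv5 D73480) D73479 (iv0 F122437) (iv4 D79752) (iv0 D36320) D36323
def n166116 : Q := act 6 n79762
theorem D166116 : act 6 n79762 = n166116 := rfl
theorem F261562 : act 2 n166116 = n149340 := d3_1 D166116 (iv6 D149340) (iv2 F234070)
theorem F261563 : act 3 n166116 = n149297 := d7_1 D166116 F261558 (iv3 D166114)
theorem F261564 : act 5 n166116 = n133776 := d12_1 D166116 F233966 (iv5 D148902) (iv6 F191204) F191203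
theorem F261565 : act 7 n166116 = n149479 := d14_2 F234072 D166116 (iv6 D149479) F235093 (iv6 D149338)
def n166117 : Q := act 3 n79763
theorem D166117 : act 3 n79763 = n166117 := rfl
theorem F261566 : act 5 n166117 = n150654 := d6_2 F234075 D166117 (iv3 D150654)
theorem F261567 : act 6 n166117 = n149480 := d7_2 F235098 D166117 (iv3 D149480)
theorem F261568 : act 7 n166117 = n149156 := d8_2 (iv7 F234073) D166117 (iv3 F234537)
def n166118 : Q := act 4 n79763
theorem D166118 : act 4 n79763 = n166118 := rfl
theorem F261569 : act 2 n166118 = n149336 := d1_1 D166118 (iv4 D149336) F234074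
theorem F261570 : act 6 n166118 = n149481 := d10_2 F235098 D166118 (iv4 D149481)
theorem F261571 : act 7 n166118 = n149339 := d11_2 (iv7 F234073) D166118 (iv4 D149339)
theorem F261572 : act 1 n166118 = n154916 := d15_0 (iv0 F261561) F261560 (iv2 F261569)
def n166119 : Q := act 0 n79764
theorem D166119 : act 0 n79764 = n166119 := rfl
theorem F261573 : act 1 n149325 = n166119 := d15_0 (iv0 D166119) F122449 (iv2 F234753)
def n166120 : Q := act 1 n79764
theorem D166120 : act 1 n79764 = n166120 := rfl
def n166121 : Q := act 3 n79764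
theorem D166121 : act 3 n79764 = n166121 := rfl
theorem F261575 : act 4 n166121 = n79772 := d5_2 D79764 D166121 (iv3 D79772) (iv4 D36327) (iv3 F57047)
theorem F261576 : act 7 n166121 = n149343 := d8_2 (iv7 F122449) D166121 (iv3 D149343)
def n166122 : Q := act 5 n79764
theorem D166122 : act 5 n79764 = n166122 := rfl
theorem F261577 : act 7 n166122 = n149344 := d13_2 (iv7 F122449) D166122 (iv5 D149344)
def n166123 : Q := act 6 n79764
theorem D166123 : act 6 n79764 = n166123 := rfl
theorem F261578 : act 4 n166123 = n79765 := d10_1 D166123 (iv6 D79765) D79764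
def n166124 : Q := act 1 n79765
theorem D166124 : act 1 n79765 = n166124 := rfl
theorem F261579 : act 7 n166124 = n133749 := d15_2 (iv0 F252916) D166124 F252917
theorem F261580 : act 5 n133710 = n166124 := d21_0 (iv1 D166124) F122451 (iv6 D61820) (iv1 F190079) F77222 (iv5 D23883) F54044 D29694 D62767 D133710
theorem F261581 : act 2 n166124 = n133744 := d2_1 F261580 (iv5 D133744) (iv2 F235573)
def n166125 : Q := act 7 n79765
theorem D166125 : act 7 n79765 = n166125 := rfl
theorem F261583 : act 5 n166125 = n131765 := d13_1 D166125 (iv7 D131765) (iv5 F122451)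
theorem F261584 : act 6 n166125 = n149348 := d14_1 D166125 (iv7 D149348) (iv6 D70123) (iv7 F57048) D79765
theorem F261585 : act 1 n133744 = n166125 := d15_1 F261552 (iv7 D166125) (iv2 F261547)
theorem F261586 : act 1 n166125 = n133749 := d15_1 F261585 (iv7 F261579) F261581
def n166126 : Q := act 4 n79766
theorem D166126 : act 4 n79766 = n166126 := rfl
theorem F261588 : act 3 n166126 = n154470 := d5_1 D166126 F242514 F109653 (iv4 F109654) (iv3 F215721)
theorem F261589 : act 6 n166126 = n105954 := d10_2 (iv6 F215723) D166126 (iv4 D105954)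
def n166127 : Q := act 3 n79767
theorem D166127 : act 3 n79767 = n166127 := rfl
def n166129 : Q := act 4 n79768
theorem D166129 : act 4 n79768 = n166129 := rfl
theorem F261595 : act 2 n166129 = n149175 := d1_1 D166129 (iv4 D149175) (iv2 F155460)
theorem F261596 : act 7 n166129 = n149176 := d11_2 F155470 D166129 (iv4 D149176)
theorem F261597 : act 0 n154886 = n166129 := d20_7 D36372 (iv1 F110202) (iv4 D73534) (iv3 F232640) (iv1 D73468) (iv3 F110157) D154886 (iv4 D166129) (iv3 D79768) (iv1 F57052)
def n166132 : Q := act 3 n79771
theorem D166132 : act 3 n79771 = n166132 := rfl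
theorem F261604 : act 7 n166132 = n149300 := d8_2 (iv7 F122463) D166132 (iv3 D149300)
def n166139 : Q := act 4 n79775
theorem D166139 : act 4 n79775 = n166139 := rfl
theorem F261620 : act 3 n166139 = n124545 := d5_1 D166139 F199212 F126061 (iv4 F57066) D79775
theorem F261621 : act 6 n166139 = n128409 := d10_2 (iv6 F122474) D166139 F206532
theorem F261623 : act 0 n166139 = n117945 := d18_2 F122476 D166139 F185004 (iv5 D74928) (iv4 F112466) F112112 F98061 F53911 D74758
theorem F261624 : act 0 n155516 = n166139 := d20_7 F28534 (iv1 F43771) F25899 (iv3 F25898) D33952 D73969 D155516 (iv4 D166139) (iv3 D79775) (iv1 D36329)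
def n166140 : Q := act 3 n79776
theorem D166140 : act 3 n79776 = n166140 := rfl
theorem F261625 : act 4 n166140 = n79777 := d5_2 D79776 D166140 (iv3 D79777) (iv4 D36331) D36330
def n166142 : Q := act 0 n79777
theorem D166142 : act 0 n79777 = n166142 := rfl
def n166143 : Q := act 1 n79777
theorem D166143 : act 1 n79777 = n166143 := rfl
def n166144 : Q := act 2 n79777
theorem D166144 : act 2 n79777 = n166144 := rfl
def n166145 : Q := act 5 n79777
theorem D166145 : act 5 n79777 = n166145 := rfl
theorem F261628 : act 3 n166145 = n79778 := d6_1 D166145 (iv5 D79778) D79777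
def n166146 : Q := act 6 n79778
theorem D166146 : act 6 n79778 = n166146 := rfl
theorem F261630 : act 0 n166146 = n163894 := d21_4 F57151 (iv1 F57071) D79778 D166146 (iv6 D163894) (iv5 D78727) (iv1 D35847) D35848 F56509 D36407
def n166147 : Q := act 0 n79779
theorem D166147 : act 0 n79779 = n166147 := rfl
def n166148 : Q := act 1 n79779
theorem D166148 : act 1 n79779 = n166148 := rfl
def n166149 : Q := act 2 n79779
theorem D166149 : act 2 n79779 = n166149 := rfl
theorem F261631 : act 6 n166149 = n86102 := d3_2 (iv6 F122480) D166149 (iv2 D86102)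
def n166150 : Q := act 5 n79779
theorem D166150 : act 5 n79779 = n166150 := rfl
theorem F261632 : act 3 n166150 = n79780 := d6_1 D166150 (iv5 D79780) D79779
def n166151 : Q := act 6 n79780
theorem D166151 : act 6 n79780 = n166151 := rfl
theorem F261633 : act 5 n166151 = n86105 := d12_1 D166151 (iv6 D86105) (iv5 D39857) (iv6 F57073) D79780
def n166152 : Q := act 0 n79781
theorem D166152 : act 0 n79781 = n166152 := rfl
def n166153 : Q := act 1 n79781
theorem D166153 : act 1 n79781 = n166153 := rfl
def n166154 : Q := act 2 n79781
theorem D166154 : act 2 n79781 = n166154 := rfl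
def n166155 : Q := act 4 n79781
theorem D166155 : act 4 n79781 = n166155 := rfl
theorem F261634 : act 3 n166155 = n124625 := d5_1 D166155 (iv4 D124625) (iv3 D58214) (iv4 F57076) D79781
def n166156 : Q := act 5 n79781
theorem D166156 : act 5 n79781 = n166156 := rfl
theorem F261635 : act 3 n166156 = n79782 := d6_1 D166156 (iv5 D79782) D79781
def n166157 : Q := act 6 n79781
theorem D166157 : act 6 n79781 = n166157 := rfl
def n166158 : Q := act 6 n79782
theorem D166158 : act 6 n79782 = n166158 := rfl
theorem F261639 : act 5 n166158 = n163556 := d12_1 D166158 (iv6 D163556) F122488 (iv6 D79783) D79782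
theorem F261640 : act 0 n166158 = n163933 := d21_4 (iv5 D36337) D36334 D79782 D166158 (iv6 D163933) (iv5 D78756) (iv1 F60704) D39905 F60716 (iv1 F57081)
def n166159 : Q := act 0 n79784
theorem D166159 : act 0 n79784 = n166159 := rfl
def n166160 : Q := act 1 n79784
theorem D166160 : act 1 n79784 = n166160 := rfl
def n166161 : Q := act 2 n79784
theorem D166161 : act 2 n79784 = n166161 := rfl
def n166162 : Q := act 4 n79784
theorem D166162 : act 4 n79784 = n166162 := rfl
theorem F261642 : act 3 n166162 = n124584 := d5_1 D166162 (iv4 D124584) F116998 (iv4 F57079) D79784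
theorem F261643 : act 6 n166162 = n125327 := d10_2 (iv6 F122491) D166162 F201588
def n166163 : Q := act 5 n79784
theorem D166163 : act 5 n79784 = n166163 := rfl
theorem F261644 : act 3 n166163 = n79785 := d6_1 D166163 (iv5 D79785) D79784
def n166165 : Q := act 2 n79786
theorem D166165 : act 2 n79786 = n166165 := rfl
theorem F261646 : act 7 n79787 = n166165 := d15_2 (iv0 D79786) D79787 (iv2 D166165)
def n166166 : Q := act 3 n79786
theorem D166166 : act 3 n79786 = n166166 := rfl
def n166167 : Q := act 4 n79786
theorem D166167 : act 4 n79786 = n166167 := rfl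
def n166168 : Q := act 5 n79786
theorem D166168 : act 5 n79786 = n166168 := rfl
def n166169 : Q := act 6 n79786
theorem D166169 : act 6 n79786 = n166169 := rfl
def n166170 : Q := act 7 n79786
theorem D166170 : act 7 n79786 = n166170 := rfl
theorem F261647 : act 2 n166170 = n79787 := d4_1 D166170 F261646 (iv2 D166165)
def n166171 : Q := act 3 n79787
theorem D166171 : act 3 n79787 = n166171 := rfl
def n166172 : Q := act 4 n79787
theorem D166172 : act 4 n79787 = n166172 := rfl
def n166173 : Q := act 5 n79787
theorem D166173 : act 5 n79787 = n166173 := rfl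
def n166174 : Q := act 6 n79787
theorem D166174 : act 6 n79787 = n166174 := rfl
def n166175 : Q := act 5 n79788
theorem D166175 : act 5 n79788 = n166175 := rfl
theorem F261648 : act 2 n166175 = n79789 := d2_1 D166175 (iv5 D79789) D79788
def n166176 : Q := act 6 n79788
theorem D166176 : act 6 n79788 = n166176 := rfl
theorem F261649 : act 2 n166176 = n79790 := d3_1 D166176 (iv6 D79790) D79788
def n166178 : Q := act 1 n79789
theorem D166178 : act 1 n79789 = n166178 := rfl
def n166179 : Q := act 4 n79789
theorem D166179 : act 4 n79789 = n166179 := rfl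
def n166180 : Q := act 6 n79789
theorem D166180 : act 6 n79789 = n166180 := rfl
theorem F261653 : act 3 n166180 = n79791 := d7_1 D166180 (iv6 D79791) (iv3 F122494)
def n166184 : Q := act 0 n79791
theorem D166184 : act 0 n79791 = n166184 := rfl
def n166185 : Q := act 1 n79791
theorem D166185 : act 1 n79791 = n166185 := rfl
def n166188 : Q := act 3 n79792
theorem D166188 : act 3 n79792 = n166188 := rfl
theorem F261660 : act 5 n166188 = n163379 := d6_2 F122501 D166188 (iv3 D163379)
def n166190 : Q := act 4 n79794
theorem D166190 : act 4 n79794 = n166190 := rfl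
theorem F261664 : act 6 n166190 = n79993 := d10_2 (iv6 F122506) D166190 (iv4 D79993)
theorem F261666 : act 0 n162129 = n166190 := d20_7 (iv4 F60070) (iv1 F122497) F122499 (iv3 F125199) (iv1 F129696) (iv3 F199236) (iv4 F256231) (iv4 D166190) (iv3 D79794) (iv1 F57086)
def n166192 : Q := act 0 n79796
theorem D166192 : act 0 n79796 = n166192 := rfl
def n166193 : Q := act 1 n79796
theorem D166193 : act 1 n79796 = n166193 := rfl
theorem F261670 : act 3 n128049 = n166193 := d20_3 (iv4 F52876) D72820 (iv4 F206055) (iv1 D166193) (iv3 D79796) (iv4 D36349) (iv1 D17553) D17555 D36357 F190373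
theorem F261671 : act 4 n117943 = n166193 := d20_6 (iv4 D27720) (iv1 D13231) (iv4 F22034) (iv3 F41715) D54332 D117943 (iv1 D166193) (iv4 F199243) (iv3 D124569) (iv1 F91956)
theorem F261672 : act 7 n166193 = n128113 := d8_2 (iv7 F206058) F261670 (iv3 D128113)
def n166194 : Q := act 2 n79796
theorem D166194 : act 2 n79796 = n166194 := rfl
def n166195 : Q := act 5 n79796
theorem D166195 : act 5 n79796 = n166195 := rfl
def n166196 : Q := act 4 n79797
theorem D166196 : act 4 n79797 = n166196 := rfl
def n166197 : Q := act 6 n79797
theorem D166197 : act 6 n79797 = n166197 := rfl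
def n166198 : Q := act 3 n79798
theorem D166198 : act 3 n79798 = n166198 := rfl
theorem F261675 : act 7 n166198 = n160857 := d8_2 (iv7 F122513) D166198 F254019
def n166199 : Q := act 5 n79798
theorem D166199 : act 5 n79798 = n166199 := rfl
theorem F261676 : act 7 n166199 = n160860 := d13_2 (iv7 F122513) D166199 (iv5 D160860)
def n166200 : Q := act 0 n79799
theorem D166200 : act 0 n79799 = n166200 := rfl
theorem F261678 : act 1 n128120 = n166200 := d15_0 (iv0 D166200) (iv7 F194111) (iv2 F206197)
def n166201 : Q := act 1 n79799
theorem D166201 : act 1 n79799 = n166201 := rfl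
theorem F261679 : act 1 n166201 = n128120 := d15_1 D166201 (iv7 F241904) F241902
def n166202 : Q := act 5 n79799
theorem D166202 : act 5 n79799 = n166202 := rfl
theorem F261680 : act 3 n166202 = n79800 := d6_1 D166202 (iv5 D79800) D79799
def n166203 : Q := act 6 n79799
theorem D166203 : act 6 n79799 = n166203 := rfl
theorem F261681 : act 3 n166203 = n79801 := d7_1 D166203 (iv6 D79801) D79799
def n166204 : Q := act 4 n79800
theorem D166204 : act 4 n79800 = n166204 := rfl
theorem F261682 : act 2 n166204 = n79814 := d1_1 D166204 (iv4 D79814) (iv2 F122514)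
def n166205 : Q := act 6 n79800
theorem D166205 : act 6 n79800 = n166205 := rfl
theorem F261683 : act 2 n166205 = n79815 := d3_1 D166205 (iv6 D79815) (iv2 F122514)
def n166206 : Q := act 5 n79801
theorem D166206 : act 5 n79801 = n166206 := rfl
theorem F261685 : act 7 n166206 = n158705 := d13_2 F129007 D166206 F249864
theorem F261686 : act 0 n166206 = n80432 := d17_2 (iv1 F128999) D166206 (iv5 D80432) (iv4 F57526) D75365 (iv0 F129019) (iv5 D84055) F59507 (iv4 F128997)
theorem F261687 : act 1 n166206 = n80429 := d17_6 D17667 D36661 F122524 (iv5 D79803) (iv4 F122516) D166206 (iv5 D80429) (iv0 D36654) F28740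
def n166207 : Q := act 3 n79802
theorem D166207 : act 3 n79802 = n166207 := rfl
theorem F261688 : act 6 n166207 = n162978 := d7_2 (iv6 F122519) D166207 (iv3 D162978)
def n166208 : Q := act 5 n79802
theorem D166208 : act 5 n79802 = n166208 := rfl
theorem F261689 : act 2 n166208 = n79827 := d2_1 D166208 (iv5 D79827) (iv2 F122518)
def n166209 : Q := act 4 n79803
theorem D166209 : act 4 n79803 = n166209 := rfl
theorem F261692 : act 7 n166209 = n81059 := d11_2 F122525 D166209 F124835
theorem F261694 : act 1 n166209 = n81072 := d18_6 (iv1 F59506) (iv4 F128997) (iv1 F128999) F122516 D79803 D166209 F124851 F129021 (iv5 F118274)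
theorem F261695 : act 5 n84048 = n166209 := d17_7 F129020 (iv5 D84055) (iv1 D38722) (iv5 D18417) D18416 D38719 D84048 F261694 F124851
def n166210 : Q := act 0 n79805
theorem D166210 : act 0 n79805 = n166210 := rfl
theorem F261696 : act 4 n166210 = n152601 := d20_0 (iv1 D152601) (iv4 F206175) (iv3 F260456) F260458 F132311 F132307 F120923 F117994 D79805 D166210
theorem F261697 : act 1 n155087 = n166210 := d15_0 (iv0 D166210) F127761 (iv2 F243904)
def n166211 : Q := act 1 n79805
theorem D166211 : act 1 n79805 = n166211 := rfl
theorem F261698 : act 4 n152600 = n166211 := d20_0 (iv1 D166211) (iv4 F127781) F127780 (iv1 F59019) D38424 F118559 (iv1 F188463) (iv4 F188147) F188146 D152600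
theorem F261699 : act 3 n82960 = n152600 := d20_5 (iv4 F118051) F118121 F31218 (iv3 F59043) D82960 F261698 (iv1 D166211) (iv4 F127781) F127780 (iv1 F59019)
theorem F261700 : act 3 n128168 = n166211 := d20_5 (iv4 D119686) F190368 F52876 (iv3 F94805) D128168 (iv4 F261698) (iv1 F239798) (iv4 F206178) F206177 F188817
def n166212 : Q := act 2 n79805
theorem D166212 : act 2 n79805 = n166212 := rfl
theorem F261701 : act 4 n166212 = n155091 := d1_2 F127781 D166212 F243912
theorem F261702 : act 7 n166212 = n155087 := d4_2 (iv7 F127761) D166212 F243904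
theorem F261703 : act 1 n166211 = n155087 := d15_1 D166211 (iv7 F261702) (iv2 D166212)
def n166216 : Q := act 0 n79810
theorem D166216 : act 0 n79810 = n166216 := rfl
theorem F261705 : act 1 n128121 = n166216 := d15_0 (iv0 D166216) F122539 (iv2 F206198)
def n166217 : Q := act 1 n79810
theorem D166217 : act 1 n79810 = n166217 := rfl
theorem F261706 : act 1 n166217 = n128121 := d15_1 D166217 (iv7 F241906) F241905
theorem F261707 : act 5 n166217 = n150252 := d21_2 D128121 (iv1 F261706) (iv6 D150252) (iv1 D70727) (iv6 D32789) D32788 F51906 (iv5 D28633) D28634 (iv1 F190372)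
def n166218 : Q := act 4 n79810
theorem D166218 : act 4 n79810 = n166218 := rfl
theorem F261708 : act 7 n166218 = n149281 := d11_2 (iv7 F122539) D166218 (iv4 D149281)
def n166219 : Q := act 6 n79810
theorem D166219 : act 6 n79810 = n166219 := rfl
theorem F261709 : act 3 n166219 = n79815 := d7_1 D166219 (iv6 D79815) (iv3 F122538)
def n166220 : Q := act 0 n79811
theorem D166220 : act 0 n79811 = n166220 := rfl
theorem F261710 : act 4 n166220 = n147148 := d18_3 (iv1 D79850) (iv4 F122541) D166220 (iv5 D147148) D147147 F230738 F105205 D69780 (iv5 F205842)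
theorem F261711 : act 7 n128266 = n166220 := d11_0 F261710 F230725 (iv4 F206387)
theorem F261712 : act 5 n148850 = n166220 := d17_3 (iv1 D69766) D69767 D148850 F261710 (iv5 D147148) (iv0 D68988) (iv5 F52685) (iv0 F105535) F130791
def n166222 : Q := act 3 n79812
theorem D166222 : act 3 n79812 = n166222 := rfl
def n166223 : Q := act 4 n79812
theorem D166223 : act 4 n79812 = n166223 := rfl
def n166224 : Q := act 5 n79812
theorem D166224 : act 5 n79812 = n166224 := rfl
theorem F261714 : act 2 n166224 = n80512 := d2_1 D166224 F194150 (iv2 F194149)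
theorem F261715 : act 7 n166224 = n80511 := d13_2 (iv7 F194146) D166224 (iv5 F194143)
theorem F261718 : act 6 n166224 = n81072 := d21_9 (iv5 F261695) (iv1 D84048) (iv5 D38719) D38720 F118569 (iv6 D36359) D36358 D79812 D166224 (iv1 F261694)
def n166225 : Q := act 6 n79812
theorem D166225 : act 6 n79812 = n166225 := rfl
def n166226 : Q := act 3 n79813
theorem D166226 : act 3 n79813 = n166226 := rfl
theorem F261720 : act 5 n166226 = n160762 := d6_2 (iv5 F194115) D166226 F253916
def n166227 : Q := act 4 n79813
theorem D166227 : act 4 n79813 = n166227 := rfl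
def n166228 : Q := act 6 n79813
theorem D166228 : act 6 n79813 = n166228 := rfl
theorem F261721 : act 5 n166228 = n160764 := d12_1 D166228 (iv6 D160764) (iv5 D77128) D77129 (iv5 F194115)
def n166229 : Q := act 0 n79814
theorem D166229 : act 0 n79814 = n166229 := rfl
def n166230 : Q := act 1 n79814
theorem D166230 : act 1 n79814 = n166230 := rfl
theorem F261722 : act 4 n166230 = n160809 := d18_7 (iv1 F120857) (iv4 D36349) (iv1 D17553) D17555 D36358 D79814 D166230 F253973 (iv5 D160599)
def n166231 : Q := act 3 n79814
theorem D166231 : act 3 n79814 = n166231 := rfl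
def n166232 : Q := act 5 n79814
theorem D166232 : act 5 n79814 = n166232 := rfl
def n166233 : Q := act 6 n79814
theorem D166233 : act 6 n79814 = n166233 := rfl
theorem F261723 : act 4 n166233 = n79815 := d10_1 D166233 (iv6 D79815) D79814
def n166234 : Q := act 0 n79815
theorem D166234 : act 0 n79815 = n166234 := rfl
def n166235 : Q := act 1 n79815
theorem D166235 : act 1 n79815 = n166235 := rfl
def n166237 : Q := act 7 n79815
theorem D166237 : act 7 n79815 = n166237 := rfl
def n166241 : Q := act 7 n79817
theorem D166241 : act 7 n79817 = n166241 := rfl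
theorem F261730 : act 5 n166241 = n79818 := d13_1 D166241 (iv7 D79818) D79817
def n166242 : Q := act 5 n79819
theorem D166242 : act 5 n79819 = n166242 := rfl
theorem F261733 : act 2 n166242 = n122626 := d2_1 D166242 F196455 (iv2 F193907)
theorem F261735 : act 6 n166242 = n80438 := d12_2 (iv6 F123640) D166242 (iv5 D80438) (iv6 F196251) F196250
theorem F261736 : act 7 n166242 = n80206 := d13_2 (iv7 F193905) D166242 F193903
theorem F261738 : act 0 n122627 = n166242 := d21_1 F197902 (iv5 D166242) F123640 (iv1 D77968) (iv6 D35572) F28191 (iv1 F27388) D27638 D57920 (iv1 F197903)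
theorem F261739 : act 1 n80148 = n166242 := d15_0 (iv0 F261738) (iv7 D122627) (iv2 F123025)
def n166243 : Q := act 0 n79820
theorem D166243 : act 0 n79820 = n166243 := rfl
theorem F261740 : act 4 n166243 = n82920 := d18_3 D36360 D79820 D166243 (iv5 D82920) F120859 (iv0 D76997) F55928 F120814 D17556
theorem F261741 : act 1 n79822 = n166243 := d15_0 (iv0 D166243) (iv7 F194158) F194157
theorem F261742 : act 7 n84759 = n166243 := d11_0 F261740 F127765 D84759
def n166244 : Q := act 1 n79820
theorem D166244 : act 1 n79820 = n166244 := rfl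
theorem F261743 : act 1 n166244 = n79822 := d15_1 D166244 (iv7 F194162) F194160
theorem F261745 : act 4 n82921 = n166244 := d18_5 (iv1 F43742) D36349 F120853 (iv4 F120851) D82921 F261743 (iv4 D79822) F88871 (iv5 D56191)
theorem F261746 : act 6 n166244 = n160637 := d10_2 F128093 F261745 F253748
def n166245 : Q := act 3 n79820
theorem D166245 : act 3 n79820 = n166245 := rfl
def n166246 : Q := act 5 n79820
theorem D166246 : act 5 n79820 = n166246 := rfl
def n166247 : Q := act 4 n79821
theorem D166247 : act 4 n79821 = n166247 := rfl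
theorem F261747 : act 2 n166247 = n80525 := d1_1 D166247 (iv4 D80525) (iv2 F122547)
theorem F261749 : act 7 n166247 = n80523 := d11_2 (iv7 F122549) D166247 (iv4 D80523)
def n166248 : Q := act 3 n79822
theorem D166248 : act 3 n79822 = n166248 := rfl
def n166249 : Q := act 5 n79822
theorem D166249 : act 5 n79822 = n166249 := rfl
def n166250 : Q := act 6 n79822
theorem D166250 : act 6 n79822 = n166250 := rfl
theorem F261752 : act 4 n166250 = n79823 := d10_1 D166250 (iv6 D79823) D79822
def n166252 : Q := act 5 n79824
theorem D166252 : act 5 n79824 = n166252 := rfl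
theorem F261753 : act 1 n166252 = n121704 := d17_6 D82922 F192286 F249859 F249856 (iv4 F194126) D166252 (iv5 D121704) (iv0 F127772) (iv4 D82924)
def n166253 : Q := act 3 n79825
theorem D166253 : act 3 n79825 = n166253 := rfl
def n166254 : Q := act 5 n79825
theorem D166254 : act 5 n79825 = n166254 := rfl
theorem F261754 : act 0 n166254 = n121704 := d17_2 F194124 D166254 (iv5 D121704) (iv4 D56238) (iv5 F57614) F121321 (iv5 F120815) F88871 D121654
def n166256 : Q := act 0 n79826
theorem D166256 : act 0 n79826 = n166256 := rfl
def n166257 : Q := act 1 n79826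
theorem D166257 : act 1 n79826 = n166257 := rfl
def n166258 : Q := act 2 n79826
theorem D166258 : act 2 n79826 = n166258 := rfl
theorem F261757 : act 6 n166258 = n162984 := d3_2 (iv6 F122555) D166258 (iv2 D162984)
def n166259 : Q := act 5 n79826
theorem D166259 : act 5 n79826 = n166259 := rfl
theorem F261758 : act 3 n166259 = n79827 := d6_1 D166259 (iv5 D79827) D79826
def n166260 : Q := act 1 n79827
theorem D166260 : act 1 n79827 = n166260 := rfl
theorem F261759 : act 5 n166260 = n79882 := d17_7 F121317 (iv5 D36350) (iv1 D17553) D17556 D36362 D79827 D166260 (iv0 F194230) (iv4 D121701)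
def n166261 : Q := act 4 n79827
theorem D166261 : act 4 n79827 = n166261 := rfl
def n166262 : Q := act 6 n79827
theorem D166262 : act 6 n79827 = n166262 := rfl
theorem F261760 : act 5 n166262 = n162989 := d12_1 D166262 (iv6 D162989) (iv5 D78377) (iv6 F57102) D79827
def n166263 : Q := act 3 n79829
theorem D166263 : act 3 n79829 = n166263 := rfl
def n166267 : Q := act 4 n79831
theorem D166267 : act 4 n79831 = n166267 := rfl
theorem F261766 : act 6 n166267 = n80525 := d10_2 F122564 D166267 (iv4 D80525)
theorem F261769 : act 1 n166267 = n82119 := d18_6 F117258 (iv4 F58448) F123596 (iv4 D80414) (iv5 F122563) D166267 F126538 (iv0 F129022) (iv5 D75365)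
def n166270 : Q := act 5 n79840
theorem D166270 : act 5 n79840 = n166270 := rfl
theorem F261777 : act 2 n166270 = n128119 := d2_1 D166270 F206196 (iv2 F188476)
theorem F261778 : act 7 n166270 = n128050 := d13_2 F188475 D166270 (iv5 D128050)
theorem F261779 : act 0 n166270 = n128117 := d17_2 (iv1 F188478) D166270 (iv5 F206195) (iv4 F240815) F240816 F199577 F199575 F109308 (iv4 F190724)
theorem F261780 : act 1 n166270 = n128116 := d15_0 (iv0 D128116) D128119 (iv2 F261777)
def n166271 : Q := act 4 n79841
theorem D166271 : act 4 n79841 = n166271 := rfl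
theorem F261781 : act 2 n166271 = n128130 := d1_1 D166271 F206228 (iv2 F188430)
theorem F261782 : act 6 n166271 = n154051 := d10_2 F253001 D166271 (iv4 F252999)
theorem F261783 : act 7 n166271 = n128051 := d11_2 (iv7 F188431) D166271 (iv4 D128051)
theorem F261784 : act 1 n166271 = n128127 := d18_6 D33589 (iv4 F190724) (iv1 F188478) (iv4 D79840) D79841 D166271 F206216 (iv0 D72841) (iv5 D33591)
theorem F261785 : act 0 n166271 = n128128 := d20_1 D166271 F206219 F191136 (iv1 D35076) (iv3 F55670) (iv4 F115040) D160113 F252714 F191169 (iv1 F188429)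
def n166272 : Q := act 4 n79843
theorem D166272 : act 4 n79843 = n166272 := rfl
theorem F261786 : act 2 n166272 = n79847 := d1_1 D166272 (iv4 D79847) (iv2 F122581)
theorem F261787 : act 6 n166272 = n147299 := d10_2 F253036 D166272 (iv4 F253034)
theorem F261788 : act 7 n166272 = n128123 := d11_2 F188443 D166272 (iv4 D128123)
theorem F261789 : act 0 n166272 = n149292 := d20_7 D72907 D154038 (iv4 F261555) (iv3 D166114) (iv1 F122447) (iv3 F122582) D166272 (iv4 F241931) F241930 (iv1 D72906)
theorem F261790 : act 3 n159982 = n166272 := d7_3 F261787 F253035 D159982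
theorem F261791 : act 1 n166272 = n149291 := d15_0 (iv0 D149291) (iv7 F122590) (iv2 F261786)
theorem F261792 : act 4 n149291 = n153923 := d18_7 (iv1 F109308) F109304 (iv1 F109331) F190728 D79843 D166272 F261791 (iv0 D153923) (iv5 D72834)
def n166273 : Q := act 3 n79845
theorem D166273 : act 3 n79845 = n166273 := rfl
theorem F261793 : act 7 n166273 = n149286 := d8_2 F234268 D166273 (iv3 D149286)
theorem F261794 : act 4 n166273 = n154981 := d20_6 D73531 F110196 (iv4 D36372) (iv3 F57114) D79845 D166273 (iv1 D154981) (iv4 D73526) F53028 D33798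
theorem F261795 : act 0 n128086 = n166273 := d18_0 F261794 (iv1 D154981) (iv4 D73526) (iv5 D33796) D33795 F188448 (iv4 F46182) D60193 D128086
def n166274 : Q := act 4 n79845
theorem D166274 : act 4 n79845 = n166274 := rfl
theorem F261796 : act 2 n166274 = n149290 := d1_1 D166274 (iv4 D149290) F234267
theorem F261797 : act 7 n166274 = n149287 := d11_2 F234268 D166274 (iv4 D149287)
theorem F261798 : act 0 n166274 = n153925 := d18_2 D79845 D166274 (iv4 D153925) (iv5 D72834) (iv4 F190724) (iv0 D60205) F46189 (iv0 F188426) D36370
def n166275 : Q := act 3 n79846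
theorem D166275 : act 3 n79846 = n166275 := rfl
theorem F261799 : act 5 n166275 = n150264 := d6_2 (iv5 F188473) D166275 F236466
theorem F261800 : act 7 n166275 = n149289 := d8_2 (iv7 F234266) D166275 (iv3 D149289)
theorem F261801 : act 4 n166275 = n154904 := d20_6 (iv4 F261546) (iv1 F261545) (iv4 D166112) (iv3 F188442) F188439 D166275 (iv1 F243592) (iv4 D73485) (iv3 F110170) D154914
theorem F261802 : act 0 n117954 = n166275 := d18_0 F261801 (iv1 F243592) (iv4 D73485) (iv5 D33786) D33785 F110164 F122579 (iv0 F131648) D117954
theorem E24200 : n154914 = n149716 := (c20_5 F261801 (iv1 F243592) (iv4 D73485) (iv3 F110170) D154914 F235433 (iv4 F235441) (iv1 F235442) (iv4 D117960) (iv3 F185010) F261802)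
theorem F261804 : act 4 n149716 = n149341 := (sb E24200 (iv4 F261546))
theorem F261805 : act 6 n149341 = n149714 := d10_2 D149716 F261804 (iv4 D149714)
theorem F261806 : act 6 n133744 = n166275 := d14_5 F261800 (iv6 F253013) (iv7 F252922) D160210 (iv7 F252918)
def n166276 : Q := act 4 n79846
theorem D166276 : act 4 n79846 = n166276 := rfl
theorem F261807 : act 2 n166276 = n149287 := d1_1 D166276 (iv4 D149287) F234264
theorem F261808 : act 7 n166276 = n149290 := d11_2 (iv7 F234266) D166276 (iv4 D149290)
theorem F261809 : act 0 n166276 = n153927 := d18_2 F188439 D166276 (iv4 D153927) (iv5 D72839) (iv4 F190719) F188477 (iv4 D79840) (iv0 F188425) D60212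
theorem F261810 : act 1 n166274 = n153927 := d15_0 (iv0 F261809) F261808 (iv2 F261796)
theorem F261811 : act 1 n166276 = n153925 := d15_0 (iv0 F261798) F261797 (iv2 F261807)
theorem F261812 : act 0 n153599 = n150267 := d18_2 (iv1 D153605) (iv4 F241425) F236467 (iv5 F188473) D166276 F261811 (iv4 D153925) D153924 (iv5 F241928)
def n166277 : Q := act 6 n79846
theorem D166277 : act 6 n79846 = n166277 := rfl
theorem F261814 : act 3 n166277 = n133744 := d7_1 D166277 F261806 (iv3 D166275)
def n166278 : Q := act 0 n79847
theorem D166278 : act 0 n79847 = n166278 := rfl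
theorem F261816 : act 1 n128123 = n166278 := d15_0 (iv0 D166278) F122590 (iv2 F206201)
def n166279 : Q := act 1 n79847
theorem D166279 : act 1 n79847 = n166279 := rfl
theorem F261817 : act 1 n166279 = n128123 := d15_1 D166279 (iv7 F261788) F261786
def n166280 : Q := act 3 n79847
theorem D166280 : act 3 n79847 = n166280 := rfl
theorem F261818 : act 4 n166280 = n79852 := d5_2 D79847 D166280 (iv3 D79852) (iv4 D36372) (iv3 F57114)
theorem F261819 : act 6 n166280 = n159589 := d7_2 (iv6 F190447) D166280 (iv3 D159589)
theorem F261820 : act 7 n166280 = n149293 := d8_2 (iv7 F122590) D166280 (iv3 D149293)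
def n166281 : Q := act 5 n79847
theorem D166281 : act 5 n79847 = n166281 := rfl
theorem F261821 : act 7 n166281 = n149294 := d13_2 (iv7 F122590) D166281 (iv5 D149294)
theorem F261822 : act 0 n166281 = n127800 := d21_7 F54179 (iv1 D16913) D16915 D34884 D76350 (iv6 F190447) D166281 F205592 (iv6 D106284) F77557
def n166282 : Q := act 5 n79848
theorem D166282 : act 5 n79848 = n166282 := rfl
theorem F261823 : act 3 n166282 = n79854 := d6_1 D166282 (iv5 D79854) (iv3 F122591)
theorem F261824 : act 6 n166282 = n79851 := d12_2 D79848 D166282 (iv5 D79851) (iv6 D36371) D36370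
theorem E24201 : n127675 = n127555 := ((c21_1 F243151 (iv1 D127675) D127676 (iv6 F233843) F233845 (iv6 F261824) (iv5 D166282) (iv1 F253058) F253055 F233906 (iv1 F243148))).symm
theorem F261825 : act 0 n127555 = n59942 := (sb E24201 (iv1 D127675))
def n166283 : Q := act 3 n79849
theorem D166283 : act 3 n79849 = n166283 := rfl
theorem F261826 : act 5 n166283 = n148866 := d6_2 F205847 D166283 (iv3 D148866)
theorem F261827 : act 7 n166283 = n128337 := d8_2 F205846 D166283 F206458
def n166284 : Q := act 4 n79849
theorem D166284 : act 4 n79849 = n166284 := rfl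
def n166285 : Q := act 3 n79850
theorem D166285 : act 3 n79850 = n166285 := rfl
theorem F261830 : act 2 n166285 = n144897 := d0_1 D166285 (iv3 F227854) (iv2 F206457) F206458 (iv2 F205841)
theorem F261831 : act 5 n166285 = n144859 := d6_2 (iv5 F205842) D166285 F230323
theorem F261832 : act 6 n166285 = n117924 := d7_2 (iv6 F205843) D166285 (iv3 F200331)
theorem F261835 : act 0 n85807 = n166285 := d17_0 F261831 (iv1 D144859) F103968 F94678 D118779 (iv0 F200655) (iv5 D124926) D124925 (iv4 F200650)
def n166286 : Q := act 4 n79850
theorem D166286 : act 4 n79850 = n166286 := rfl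
theorem F261838 : act 6 n166286 = n125154 := d10_2 (iv6 F205843) D166286 (iv4 D125154)
theorem F261839 : act 0 n166286 = n128115 := d20_7 D144833 F227745 (iv4 D85808) D85807 F261835 (iv3 D166285) D166286 F206194 (iv3 F190715) F105998
def n166287 : Q := act 4 n79851
theorem D166287 : act 4 n79851 = n166287 := rfl
theorem F261840 : act 2 n166287 = n147818 := d1_1 D166287 (iv4 F233885) (iv2 F233887)
theorem F261841 : act 7 n166287 = n147571 := d11_2 (iv7 F122593) D166287 F231360
theorem F261842 : act 0 n166287 = n147409 := d18_2 F233845 D166287 F231143 F108783 (iv4 F233705) F233703 F106181 (iv0 F106170) D148837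
theorem F261843 : act 1 n166287 = n147820 := d18_6 (iv1 D124774) (iv4 F200429) F200430 F122541 D79851 D166287 F231581 (iv0 F230017) (iv5 F200437)
def n166288 : Q := act 0 n79852
theorem D166288 : act 0 n79852 = n166288 := rfl
def n166289 : Q := act 1 n79852
theorem D166289 : act 1 n79852 = n166289 := rfl
def n166290 : Q := act 2 n79852
theorem D166290 : act 2 n79852 = n166290 := rfl
theorem F261846 : act 7 n166290 = n149312 := d4_2 (iv7 F122594) D166290 (iv2 D149312)
theorem F261847 : act 1 n166290 = n149310 := d15_0 (iv0 D149310) (iv7 F122594) D166290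
theorem F261848 : act 1 n166289 = n149312 := d15_1 D166289 (iv7 F261846) (iv2 D166290)
theorem F261849 : act 1 n149311 = n166290 := d15_1 D149311 F261846 (iv2 D149312)
def n166291 : Q := act 6 n79852
theorem D166291 : act 6 n79852 = n166291 := rfl
theorem F261850 : act 3 n166291 = n79853 := d7_1 D166291 (iv6 D79853) D79852
theorem F261851 : act 4 n166291 = n159589 := d10_1 D166291 (iv6 F261819) F261818
theorem F261852 : act 7 n148909 = n166291 := d11_0 F261851 (iv7 F259283) (iv4 F259284)
theorem F261854 : act 0 n166291 = n148911 := d20_7 (iv4 F177773) (iv1 D52627) F40376 (iv3 F55179) D76350 D159589 (iv4 F261851) F233981 F106222 (iv1 F56568)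
theorem F261855 : act 4 n148891 = n96783 := d20_2 F233981 (iv1 F233943) (iv3 D96783) (iv1 D45228) (iv3 F71290) F71291 F57120 (iv4 F122596) (iv3 F261850) F261854
theorem F261856 : act 3 n96784 = n164496 := d5_3 F261855 (iv3 D96783) D96784 (iv4 D164496) (iv3 F259264)
theorem F261857 : act 0 n96783 = n152428 := d20_1 F261855 F239613 F108417 D71910 (iv3 F239633) (iv4 F177636) (iv1 F55218) (iv4 F56565) (iv3 F106222) (iv1 F233943)
theorem E24203 : n159525 = n95516 := (c20_9 (iv4 F70356) (iv1 F71296) D96784 F261856 F259263 F147995 F114419 D76319 D159525 (iv3 D95516) (iv1 F70148))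
theorem F261858 : act 4 n95516 = n76319 := (sb E24203 (iv4 D159525))
theorem F261859 : act 4 n114037 = n96550 := d20_2 F147996 D114037 (iv3 D96550) (iv1 F70988) F34142 (iv4 F70356) (iv1 F71296) D96784 F261856 F259263
theorem F261860 : act 0 n96550 = n164488 := d18_2 D114037 F261859 F259230 (iv5 F176001) (iv4 F209155) F214541 (iv4 F259154) (iv0 D106517) (iv5 F83149)
theorem F261861 : act 3 n119067 = n114037 := d20_5 D151568 F252352 F107997 F88604 D119067 F261859 F261860 F259230 F120180 (iv1 F114539)
theorem F261862 : act 3 n81709 = n159521 := d20_3 (iv4 F71699) (iv1 F71702) D81709 (iv1 D159521) (iv3 F147995) F147996 D114037 F261859 (iv3 D96550) (iv1 F70988)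
theorem F261863 : act 1 n96550 = n95784 := d15_1 (iv0 F261860) (iv7 F258999) (iv2 F259229)
theorem F261865 : act 2 n166291 = n148908 := d15_3 (iv0 D148908) D148909 F261852
theorem F261866 : act 4 n148908 = n152429 := d1_2 (iv4 F261851) F261865 (iv2 F259279)
theorem F261867 : act 6 n148908 = n166290 := d3_2 D166291 F261865 (iv2 D166290)
theorem E24204 : n159978 = n121359 := (c20_10 (iv4 F252349) (iv1 F252353) (iv4 D151568) (iv3 F238443) (iv1 D35908) (iv3 F51472) (iv4 F106221) D148908 F261866 F259278 (iv1 F193589))
theorem F261868 : act 2 n121359 = n76597 := (sb E24204 (iv2 D159978))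
theorem F261869 : act 3 n121359 = n152429 := (sb E24204 (iv3 F259278))
theorem F261870 : act 4 n121359 = n159678 := (sb E24204 (iv4 F253053))
theorem F261871 : act 7 n121359 = n76598 := (sb E24204 (iv7 F252358))
theorem E24205 : n159591 = n121360 := (c15_4 F193582 F193589 F261871 (iv2 F253045))
theorem F261872 : act 2 n121360 = n76598 := (sb E24205 F253045)
theorem F261873 : act 3 n121360 = n76351 := (sb E24205 (iv3 D159591))
theorem F261874 : act 4 n121360 = n159679 := (sb E24205 (iv4 F251551))
theorem F261875 : act 7 n121360 = n76597 := (sb E24205 F253046)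
theorem F261876 : act 0 n120111 = n119066 := d20_7 F261870 (iv1 F251556) F238435 (iv3 F192335) (iv1 F192338) F259276 D120111 F187338 (iv3 F88604) D121359
def n166293 : Q := act 2 n79855
theorem D166293 : act 2 n79855 = n166293 := rfl
theorem F261878 : act 7 n79856 = n166293 := d15_2 (iv0 D79855) D79856 (iv2 D166293)
def n166294 : Q := act 3 n79855
theorem D166294 : act 3 n79855 = n166294 := rfl
def n166298 : Q := act 7 n79855
theorem D166298 : act 7 n79855 = n166298 := rfl
theorem F261879 : act 2 n166298 = n79856 := d4_1 D166298 F261878 (iv2 D166293)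
def n166299 : Q := act 3 n79856
theorem D166299 : act 3 n79856 = n166299 := rfl
def n166300 : Q := act 4 n79856
theorem D166300 : act 4 n79856 = n166300 := rfl
def n166301 : Q := act 5 n79856
theorem D166301 : act 5 n79856 = n166301 := rfl
def n166302 : Q := act 6 n79856
theorem D166302 : act 6 n79856 = n166302 := rfl
def n166303 : Q := act 5 n79857
theorem D166303 : act 5 n79857 = n166303 := rfl
theorem F261880 : act 2 n166303 = n79858 := d2_1 D166303 (iv5 D79858) D79857
def n166304 : Q := act 0 n79858
theorem D166304 : act 0 n79858 = n166304 := rfl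
def n166305 : Q := act 1 n79858
theorem D166305 : act 1 n79858 = n166305 := rfl
def n166306 : Q := act 4 n79858
theorem D166306 : act 4 n79858 = n166306 := rfl
def n166311 : Q := act 1 n79860
theorem D166311 : act 1 n79860 = n166311 := rfl
theorem F261884 : act 7 n166311 = n127876 := d15_2 (iv0 F201174) D166311 F234250
theorem F261886 : act 6 n80543 = n166311 := d21_3 D79843 (iv1 F122584) (iv5 F206212) (iv1 D166311) F122607 F107272 (iv1 F190965) (iv5 D78235) (iv6 F189958) (iv1 F188405)
theorem F261887 : act 2 n166311 = n81101 := d3_1 F261886 (iv6 F234851) (iv2 F234853)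
theorem F261888 : act 0 n81096 = n166311 := d21_4 (iv5 F191037) (iv1 F124889) (iv5 D81095) D81096 (iv6 F261886) F206212 (iv1 D70087) (iv5 D32522) D32523 (iv1 F191070)
theorem E24206 : n127876 = n81102 := ((c15_2 (iv0 D81101) D81102 (iv7 F261884) F261887)).symm
theorem F261890 : act 3 n81102 = n149767 := (sb E24206 (iv3 F235568))
theorem F261891 : act 5 n81102 = n60348 := (sb E24206 F205789)
theorem F261892 : act 6 n81102 = n60064 := (sb E24206 (iv6 D127876))
theorem F261893 : act 7 n81102 = n166311 := (sb E24206 (iv7 F261884))
theorem F261894 : act 3 n166311 = n150798 := d8_1 F261893 F237362 (iv3 F261890)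
def n166312 : Q := act 2 n79860
theorem D166312 : act 2 n79860 = n166312 := rfl
theorem F261898 : act 5 n166312 = n85764 := d2_2 (iv5 F122606) D166312 (iv2 D85764)
theorem F261899 : act 6 n166312 = n127921 := d3_2 (iv6 F122607) D166312 F205829
theorem F261900 : act 7 n166312 = n81096 := d4_2 (iv7 F122608) D166312 F124890
def n166313 : Q := act 3 n79861
theorem D166313 : act 3 n79861 = n166313 := rfl
def n166314 : Q := act 5 n79861
theorem D166314 : act 5 n79861 = n166314 := rfl
theorem F261903 : act 2 n166314 = n79866 := d2_1 D166314 (iv5 D79866) (iv2 F122609)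
theorem F261904 : act 0 n166314 = n166089 := d17_2 (iv1 F135351) D166314 (iv5 D166089) (iv4 F130022) (iv5 F191962) F191966 F134088 (iv0 F132775) (iv4 F135349)
def n166315 : Q := act 6 n79861
theorem D166315 : act 6 n79861 = n166315 := rfl
theorem F261906 : act 2 n166315 = n79867 := d3_1 D166315 (iv6 D79867) (iv2 F122609)
theorem F261907 : act 4 n166315 = n79863 := d10_1 D166315 (iv6 D79863) D79861
def n166316 : Q := act 4 n79862
theorem D166316 : act 4 n79862 = n166316 := rfl
def n166318 : Q := act 0 n79865
theorem D166318 : act 0 n79865 = n166318 := rfl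
def n166319 : Q := act 1 n79865
theorem D166319 : act 1 n79865 = n166319 := rfl
def n166320 : Q := act 2 n79865
theorem D166320 : act 2 n79865 = n166320 := rfl
theorem F261912 : act 4 n166320 = n79873 := d1_2 (iv4 F122615) D166320 (iv2 D79873)
def n166321 : Q := act 5 n79865
theorem D166321 : act 5 n79865 = n166321 := rfl
theorem F261913 : act 3 n166321 = n79866 := d6_1 D166321 (iv5 D79866) D79865
def n166322 : Q := act 6 n79865
theorem D166322 : act 6 n79865 = n166322 := rfl
theorem F261914 : act 3 n166322 = n79867 := d7_1 D166322 (iv6 D79867) D79865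
theorem F261915 : act 4 n166322 = n79875 := d10_1 D166322 (iv6 D79875) (iv4 F122615)
def n166323 : Q := act 0 n79866
theorem D166323 : act 0 n79866 = n166323 := rfl
theorem F261916 : act 5 n166323 = n121693 := d17_3 F121536 D79866 D166323 (iv4 F199274) F199277 F196398 F196396 (iv0 D86886) (iv4 F119737)
theorem F261917 : act 2 n166089 = n166323 := d2_3 F261916 (iv2 F197850) D166089
def n166324 : Q := act 1 n79866
theorem D166324 : act 1 n79866 = n166324 := rfl
theorem F261919 : act 7 n166324 = n166089 := d15_2 (iv0 D166323) D166324 F261917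
theorem F261920 : act 5 n166324 = n121694 := d17_7 (iv1 F88936) (iv5 F118545) (iv1 F119051) (iv5 D36383) D36382 D79866 D166324 F194211 (iv4 D79717)
def n166325 : Q := act 4 n79866
theorem D166325 : act 4 n79866 = n166325 := rfl
def n166326 : Q := act 6 n79866
theorem D166326 : act 6 n79866 = n166326 := rfl
def n166327 : Q := act 0 n79867
theorem D166327 : act 0 n79867 = n166327 := rfl
def n166328 : Q := act 1 n79867
theorem D166328 : act 1 n79867 = n166328 := rfl
theorem F261922 : act 4 n124174 = n166328 := d20_6 (iv4 F119708) (iv1 F194275) F194271 (iv3 F197626) (iv1 F197630) (iv3 F198642) (iv1 D166328) F122616 F57138 F56448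
theorem F261923 : act 6 n166328 = n124173 := d10_2 D124174 F261922 (iv4 D124173)
def n166329 : Q := act 5 n79867
theorem D166329 : act 5 n79867 = n166329 := rfl
def n166331 : Q := act 4 n79869
theorem D166331 : act 4 n79869 = n166331 := rfl
def n166332 : Q := act 4 n79870
theorem D166332 : act 4 n79870 = n166332 := rfl
def n166333 : Q := act 2 n79871
theorem D166333 : act 2 n79871 = n166333 := rfl
theorem F261930 : act 7 n79872 = n166333 := d15_2 (iv0 D79871) D79872 (iv2 D166333)
def n166334 : Q := act 3 n79871
theorem D166334 : act 3 n79871 = n166334 := rfl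
def n166335 : Q := act 4 n79871
theorem D166335 : act 4 n79871 = n166335 := rfl
def n166336 : Q := act 5 n79871
theorem D166336 : act 5 n79871 = n166336 := rfl
def n166337 : Q := act 6 n79871
theorem D166337 : act 6 n79871 = n166337 := rfl
def n166338 : Q := act 7 n79871
theorem D166338 : act 7 n79871 = n166338 := rfl
theorem F261931 : act 2 n166338 = n79872 := d4_1 D166338 F261930 (iv2 D166333)
def n166341 : Q := act 5 n79872
theorem D166341 : act 5 n79872 = n166341 := rfl
def n166343 : Q := act 5 n79873
theorem D166343 : act 5 n79873 = n166343 := rfl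
theorem F261932 : act 2 n166343 = n79874 := d2_1 D166343 (iv5 D79874) D79873
def n166344 : Q := act 6 n79873
theorem D166344 : act 6 n79873 = n166344 := rfl
theorem F261933 : act 2 n166344 = n79875 := d3_1 D166344 (iv6 D79875) D79873
def n166345 : Q := act 0 n79874
theorem D166345 : act 0 n79874 = n166345 := rfl
def n166346 : Q := act 1 n79874
theorem D166346 : act 1 n79874 = n166346 := rfl
def n166347 : Q := act 4 n79874
theorem D166347 : act 4 n79874 = n166347 := rfl
def n166349 : Q := act 0 n79875
theorem D166349 : act 0 n79875 = n166349 := rfl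
def n166350 : Q := act 1 n79875
theorem D166350 : act 1 n79875 = n166350 := rfl
def n166351 : Q := act 5 n79875
theorem D166351 : act 5 n79875 = n166351 := rfl
theorem F261935 : act 3 n166351 = n79879 := d6_1 D166351 (iv5 D79879) (iv3 F122619)
def n166352 : Q := act 3 n79876
theorem D166352 : act 3 n79876 = n166352 := rfl
theorem F261936 : act 5 n166352 = n84811 := d6_2 (iv5 F122620) D166352 (iv3 D84811)
def n166354 : Q := act 3 n79877
theorem D166354 : act 3 n79877 = n166354 := rfl
theorem F261940 : act 5 n166354 = n84810 := d6_2 (iv5 F122626) D166354 (iv3 D84810)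
def n166355 : Q := act 6 n79877
theorem D166355 : act 6 n79877 = n166355 := rfl
def n166360 : Q := act 3 n79880
theorem D166360 : act 3 n79880 = n166360 := rfl
def n166361 : Q := act 5 n79880
theorem D166361 : act 5 n79880 = n166361 := rfl
def n166362 : Q := act 6 n79880
theorem D166362 : act 6 n79880 = n166362 := rfl
theorem F261948 : act 2 n166362 = n79885 := d3_1 D166362 (iv6 D79885) (iv2 F122629)
def n166366 : Q := act 2 n79883
theorem D166366 : act 2 n79883 = n166366 := rfl
theorem F261952 : act 4 n166366 = n79888 := d1_2 (iv4 F122634) D166366 (iv2 D79888)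
def n166368 : Q := act 6 n79883
theorem D166368 : act 6 n79883 = n166368 := rfl
theorem F261954 : act 3 n166368 = n79885 := d7_1 D166368 (iv6 D79885) D79883
theorem F261955 : act 4 n166368 = n79890 := d10_1 D166368 (iv6 D79890) (iv4 F122634)
def n166369 : Q := act 0 n79884
theorem D166369 : act 0 n79884 = n166369 := rfl
def n166370 : Q := act 1 n79884
theorem D166370 : act 1 n79884 = n166370 := rfl
theorem F261956 : act 5 n166370 = n121670 := d17_7 (iv1 F88881) (iv5 F121405) (iv1 D36736) (iv5 F28771) D36391 D79884 D166370 F194165 (iv4 D79802)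
theorem F261958 : act 7 n166254 = n166370 := d13_0 F261956 F199354 D166254
theorem F261959 : act 2 n166254 = n166369 := d15_3 (iv0 D166369) D166370 (iv7 F261958)
theorem F261960 : act 5 n166369 = n121669 := d2_2 D166254 F261959 (iv2 F199357)
def n166373 : Q := act 1 n79885
theorem D166373 : act 1 n79885 = n166373 := rfl
theorem F261964 : act 4 n122369 = n166373 := d20_6 D35251 (iv1 F60056) (iv4 D39055) (iv3 F117689) F112827 (iv3 F195741) (iv1 D166373) F122635 F57140 F30533
theorem F261965 : act 6 n166373 = n164117 := d10_2 F195744 F261964 (iv4 D164117)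
def n166374 : Q := act 5 n79885
theorem D166374 : act 5 n79885 = n166374 := rfl
def n166375 : Q := act 2 n79886
theorem D166375 : act 2 n79886 = n166375 := rfl
theorem F261967 : act 7 n79887 = n166375 := d15_2 (iv0 D79886) D79887 (iv2 D166375)
def n166376 : Q := act 3 n79886
theorem D166376 : act 3 n79886 = n166376 := rfl
def n166377 : Q := act 4 n79886
theorem D166377 : act 4 n79886 = n166377 := rfl
def n166380 : Q := act 7 n79886
theorem D166380 : act 7 n79886 = n166380 := rfl
theorem F261968 : act 2 n166380 = n79887 := d4_1 D166380 F261967 (iv2 D166375)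
def n166381 : Q := act 3 n79887
theorem D166381 : act 3 n79887 = n166381 := rfl
def n166382 : Q := act 4 n79887
theorem D166382 : act 4 n79887 = n166382 := rfl
def n166383 : Q := act 5 n79887
theorem D166383 : act 5 n79887 = n166383 := rfl
def n166384 : Q := act 6 n79887
theorem D166384 : act 6 n79887 = n166384 := rfl
def n166385 : Q := act 5 n79888
theorem D166385 : act 5 n79888 = n166385 := rfl
def n166386 : Q := act 6 n79888
theorem D166386 : act 6 n79888 = n166386 := rfl
theorem F261970 : act 2 n166386 = n79890 := d3_1 D166386 (iv6 D79890) D79888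
def n166389 : Q := act 4 n79889
theorem D166389 : act 4 n79889 = n166389 := rfl
def n166390 : Q := act 6 n79889
theorem D166390 : act 6 n79889 = n166390 := rfl
theorem F261971 : act 3 n166390 = n79891 := d7_1 D166390 (iv6 D79891) (iv3 F122636)
def n166391 : Q := act 0 n79890
theorem D166391 : act 0 n79890 = n166391 := rfl
def n166392 : Q := act 1 n79890
theorem D166392 : act 1 n79890 = n166392 := rfl
def n166393 : Q := act 5 n79890
theorem D166393 : act 5 n79890 = n166393 := rfl
theorem F261972 : act 3 n166393 = n79892 := d6_1 D166393 (iv5 D79892) (iv3 F122637)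
def n166395 : Q := act 1 n79891
theorem D166395 : act 1 n79891 = n166395 := rfl
def n166396 : Q := act 5 n79891
theorem D166396 : act 5 n79891 = n166396 := rfl
theorem F261975 : act 6 n166396 = n79892 := d12_2 D79891 D166396 (iv5 D79892) (iv6 D36395) D36394
theorem F261976 : act 0 n166396 = n143808 := d21_4 (iv5 D76177) F57142 D79892 (iv6 F261975) (iv6 D143808) (iv5 F103240) F103241 (iv5 F166603) F166601 (iv1 F122774)
def n166398 : Q := act 2 n79893
theorem D166398 : act 2 n79893 = n166398 := rfl
theorem F261977 : act 7 n79894 = n166398 := d15_2 (iv0 D79893) D79894 (iv2 D166398)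
def n166399 : Q := act 3 n79893
theorem D166399 : act 3 n79893 = n166399 := rfl
def n166400 : Q := act 4 n79893
theorem D166400 : act 4 n79893 = n166400 := rfl
def n166401 : Q := act 5 n79893
theorem D166401 : act 5 n79893 = n166401 := rfl
def n166402 : Q := act 6 n79893
theorem D166402 : act 6 n79893 = n166402 := rfl
def n166403 : Q := act 7 n79893
theorem D166403 : act 7 n79893 = n166403 := rfl
theorem F261978 : act 2 n166403 = n79894 := d4_1 D166403 F261977 (iv2 D166398)
def n166408 : Q := act 4 n79895
theorem D166408 : act 4 n79895 = n166408 := rfl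
theorem F261979 : act 2 n166408 = n79896 := d1_1 D166408 (iv4 D79896) D79895
def n166409 : Q := act 5 n79895
theorem D166409 : act 5 n79895 = n166409 := rfl
theorem F261980 : act 2 n166409 = n79897 := d2_1 D166409 (iv5 D79897) D79895
def n166410 : Q := act 6 n79895
theorem D166410 : act 6 n79895 = n166410 := rfl
theorem F261981 : act 2 n166410 = n79898 := d3_1 D166410 (iv6 D79898) D79895
def n166411 : Q := act 0 n79896
theorem D166411 : act 0 n79896 = n166411 := rfl
def n166412 : Q := act 1 n79896
theorem D166412 : act 1 n79896 = n166412 := rfl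
theorem F261982 : act 4 n166376 = n166412 := d20_6 F43814 (iv1 F21583) D17573 D36393 D79886 D166376 (iv1 D166412) (iv4 D79896) (iv3 D36396) (iv1 F43816)
def n166413 : Q := act 5 n79896
theorem D166413 : act 5 n79896 = n166413 := rfl
theorem F261983 : act 3 n166413 = n83457 := d6_1 D166413 (iv5 D83457) (iv3 F122640)
def n166414 : Q := act 6 n79896
theorem D166414 : act 6 n79896 = n166414 := rfl
theorem F261984 : act 3 n166414 = n83458 := d7_1 D166414 (iv6 D83458) (iv3 F122640)
theorem F261985 : act 4 n166414 = n79898 := d10_1 D166414 (iv6 D79898) D79896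
def n166417 : Q := act 4 n79897
theorem D166417 : act 4 n79897 = n166417 := rfl
def n166421 : Q := act 7 n79898
theorem D166421 : act 7 n79898 = n166421 := rfl
theorem F261987 : act 3 n166421 = n79903 := d8_1 D166421 (iv7 D79903) (iv3 F122642)
theorem F261988 : act 6 n166421 = n84573 := d14_1 D166421 F194288 (iv6 D121724) F88968 D79898
def n166422 : Q := act 3 n79899
theorem D166422 : act 3 n79899 = n166422 := rfl
theorem F261989 : act 5 n166422 = n121679 := d6_2 (iv5 F122643) D166422 (iv3 D121679)
theorem F261990 : act 7 n166422 = n166145 := d8_2 F122646 D166422 F261628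
def n166424 : Q := act 3 n79900
theorem D166424 : act 3 n79900 = n166424 := rfl
theorem F261993 : act 5 n166424 = n121678 := d6_2 (iv5 F122649) D166424 (iv3 D121678)
theorem F261994 : act 7 n166424 = n166150 := d8_2 (iv7 F122648) D166424 F261632
def n166425 : Q := act 6 n79900
theorem D166425 : act 6 n79900 = n166425 := rfl
def n166430 : Q := act 3 n79904
theorem D166430 : act 3 n79904 = n166430 := rfl
def n166433 : Q := act 6 n79904
theorem D166433 : act 6 n79904 = n166433 := rfl
def n166435 : Q := act 3 n79905
theorem D166435 : act 3 n79905 = n166435 := rfl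
def n166436 : Q := act 4 n79905
theorem D166436 : act 4 n79905 = n166436 := rfl
def n166437 : Q := act 5 n79905
theorem D166437 : act 5 n79905 = n166437 := rfl
def n166438 : Q := act 6 n79905
theorem D166438 : act 6 n79905 = n166438 := rfl
def n166439 : Q := act 4 n79906
theorem D166439 : act 4 n79906 = n166439 := rfl
theorem F261999 : act 2 n166439 = n79907 := d1_1 D166439 (iv4 D79907) D79906
def n166440 : Q := act 5 n79906
theorem D166440 : act 5 n79906 = n166440 := rfl
theorem F262000 : act 2 n166440 = n79908 := d2_1 D166440 (iv5 D79908) D79906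
def n166441 : Q := act 6 n79906
theorem D166441 : act 6 n79906 = n166441 := rfl
theorem F262001 : act 2 n166441 = n79909 := d3_1 D166441 (iv6 D79909) D79906
def n166442 : Q := act 0 n79907
theorem D166442 : act 0 n79907 = n166442 := rfl
def n166443 : Q := act 1 n79907
theorem D166443 : act 1 n79907 = n166443 := rfl
theorem F262002 : act 4 n166334 = n166443 := d20_6 (iv4 D8254) D8252 D17568 D36385 D79871 D166334 (iv1 D166443) (iv4 D79907) (iv3 D36399) (iv1 D17576)
def n166444 : Q := act 5 n79907
theorem D166444 : act 5 n79907 = n166444 := rfl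
theorem F262003 : act 3 n166444 = n84834 := d6_1 D166444 (iv5 D84834) (iv3 F122653)
def n166445 : Q := act 6 n79907
theorem D166445 : act 6 n79907 = n166445 := rfl
theorem F262004 : act 3 n166445 = n84835 := d7_1 D166445 (iv6 D84835) (iv3 F122653)
theorem F262005 : act 4 n166445 = n79909 := d10_1 D166445 (iv6 D79909) D79907
def n166450 : Q := act 0 n79909
theorem D166450 : act 0 n79909 = n166450 := rfl
def n166451 : Q := act 1 n79909
theorem D166451 : act 1 n79909 = n166451 := rfl
def n166452 : Q := act 5 n79909
theorem D166452 : act 5 n79909 = n166452 := rfl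
theorem F262007 : act 3 n166452 = n79911 := d6_1 D166452 (iv5 D79911) (iv3 F122655)
def n166454 : Q := act 1 n79910
theorem D166454 : act 1 n79910 = n166454 := rfl
theorem F262008 : act 6 n155372 = n166454 := d21_3 (iv5 F194272) (iv1 F194274) D155372 (iv1 D166454) (iv6 D79910) (iv5 D36400) (iv1 D17576) D17578 (iv6 F56509) D78729
theorem F262009 : act 5 n166454 = n125362 := d12_1 F262008 (iv6 D125362) F92744 D73842 D155372
def n166455 : Q := act 5 n79910
theorem D166455 : act 5 n79910 = n166455 := rfl
theorem F262010 : act 6 n166455 = n79911 := d12_2 D79910 D166455 (iv5 D79911) (iv6 D36401) D36400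
def n166457 : Q := act 5 n79912
theorem D166457 : act 5 n79912 = n166457 := rfl
theorem F262011 : act 2 n166457 = n79929 := d2_1 D166457 F122667 F122658
theorem F262012 : act 7 n166457 = n79925 := d13_2 (iv7 F122659) D166457 (iv5 D79925)
theorem F262013 : act 1 n79927 = n166457 := d15_1 D79927 F262012 F122665
theorem F262014 : act 1 n166457 = n79926 := d15_0 (iv0 D79926) D79929 (iv2 F262011)
def n166458 : Q := act 0 n79913
theorem D166458 : act 0 n79913 = n166458 := rfl
theorem F262015 : act 1 n79918 = n166458 := d15_0 (iv0 D166458) (iv7 F122661) (iv2 F122662)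
def n166459 : Q := act 1 n79913
theorem D166459 : act 1 n79913 = n166459 := rfl
theorem F262016 : act 1 n166459 = n79918 := d15_1 D166459 (iv7 D79918) D79913
def n166460 : Q := act 3 n79913
theorem D166460 : act 3 n79913 = n166460 := rfl
theorem F262017 : act 7 n166460 = n79919 := d8_2 F122661 D166460 (iv3 D79919)
def n166461 : Q := act 4 n79913
theorem D166461 : act 4 n79913 = n166461 := rfl
theorem F262018 : act 2 n166461 = n79915 := d1_1 D166461 (iv4 D79915) D79913
theorem F262019 : act 7 n166461 = n79920 := d11_2 F122661 D166461 (iv4 D79920)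
def n166462 : Q := act 5 n79913
theorem D166462 : act 5 n79913 = n166462 := rfl
theorem F262020 : act 2 n166462 = n79916 := d2_1 D166462 (iv5 D79916) D79913
theorem F262021 : act 7 n166462 = n79921 := d13_2 F122661 D166462 (iv5 D79921)
def n166463 : Q := act 6 n79913
theorem D166463 : act 6 n79913 = n166463 := rfl
theorem F262022 : act 2 n166463 = n79917 := d3_1 D166463 (iv6 D79917) D79913
def n166464 : Q := act 0 n79914
theorem D166464 : act 0 n79914 = n166464 := rfl
def n166465 : Q := act 1 n79914
theorem D166465 : act 1 n79914 = n166465 := rfl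
def n166466 : Q := act 2 n79914
theorem D166466 : act 2 n79914 = n166466 := rfl
def n166467 : Q := act 4 n79914
theorem D166467 : act 4 n79914 = n166467 := rfl
theorem F262023 : act 0 n166467 = n84802 := d20_7 (iv4 D17573) (iv1 D8253) D8254 D17577 D36402 D79914 D166467 F130010 F60226 (iv1 F30469)
theorem F262024 : act 0 n84800 = n166467 := d20_7 (iv4 F260936) (iv1 F260938) D165662 (iv3 F260941) (iv1 D124660) F92070 (iv4 F130006) (iv4 D166467) (iv3 D79914) D79912
def n166468 : Q := act 5 n79914
theorem D166468 : act 5 n79914 = n166468 := rfl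
theorem F262025 : act 3 n166468 = n79916 := d6_1 D166468 (iv5 D79916) D79914
def n166469 : Q := act 6 n79914
theorem D166469 : act 6 n79914 = n166469 := rfl
theorem F262026 : act 3 n166469 = n79917 := d7_1 D166469 (iv6 D79917) D79914
def n166470 : Q := act 7 n79914
theorem D166470 : act 7 n79914 = n166470 := rfl
theorem F262027 : act 3 n166470 = n79918 := d8_1 D166470 (iv7 D79918) D79914
def n166471 : Q := act 0 n79915
theorem D166471 : act 0 n79915 = n166471 := rfl
theorem F262028 : act 4 n166471 = n166381 := d20_2 D79915 D166471 (iv3 D166381) (iv1 D79887) (iv3 D36393) (iv4 D17573) (iv1 D8253) D8254 D17577 D36402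
def n166472 : Q := act 1 n79915
theorem D166472 : act 1 n79915 = n166472 := rfl
theorem F262029 : act 1 n166472 = n79920 := d15_1 D166472 (iv7 F262019) F262018
def n166473 : Q := act 3 n79915
theorem D166473 : act 3 n79915 = n166473 := rfl
def n166474 : Q := act 5 n79915
theorem D166474 : act 5 n79915 = n166474 := rfl
def n166475 : Q := act 6 n79915
theorem D166475 : act 6 n79915 = n166475 := rfl
theorem F262030 : act 4 n166475 = n79917 := d10_1 D166475 (iv6 D79917) D79915
def n166476 : Q := act 7 n79915
theorem D166476 : act 7 n79915 = n166476 := rfl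
theorem F262031 : act 2 n166476 = n79920 := d4_1 D166476 (iv7 F262019) F262018
theorem F262032 : act 4 n166476 = n79918 := d11_1 D166476 (iv7 D79918) D79915
theorem F262033 : act 1 n79920 = n166471 := d15_0 (iv0 D166471) D166476 F262031
def n166477 : Q := act 0 n79916
theorem D166477 : act 0 n79916 = n166477 := rfl
def n166478 : Q := act 1 n79916
theorem D166478 : act 1 n79916 = n166478 := rfl
theorem F262034 : act 1 n166478 = n79921 := d15_1 D166478 (iv7 F262021) F262020
def n166479 : Q := act 4 n79916
theorem D166479 : act 4 n79916 = n166479 := rfl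
def n166480 : Q := act 6 n79916
theorem D166480 : act 6 n79916 = n166480 := rfl
def n166481 : Q := act 7 n79916
theorem D166481 : act 7 n79916 = n166481 := rfl
theorem F262035 : act 2 n166481 = n79921 := d4_1 D166481 (iv7 F262021) F262020
theorem F262036 : act 5 n166481 = n79918 := d13_1 D166481 (iv7 D79918) D79916
theorem F262037 : act 1 n79921 = n166477 := d15_0 (iv0 D166477) D166481 F262035
def n166482 : Q := act 0 n79917
theorem D166482 : act 0 n79917 = n166482 := rfl
def n166483 : Q := act 1 n79917
theorem D166483 : act 1 n79917 = n166483 := rfl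
def n166484 : Q := act 5 n79917
theorem D166484 : act 5 n79917 = n166484 := rfl
def n166485 : Q := act 7 n79917
theorem D166485 : act 7 n79917 = n166485 := rfl
def n166486 : Q := act 6 n79918
theorem D166486 : act 6 n79918 = n166486 := rfl
theorem F262038 : act 2 n166486 = n79922 := d3_1 D166486 (iv6 D79922) (iv2 F122662)
def n166487 : Q := act 0 n79919
theorem D166487 : act 0 n79919 = n166487 := rfl
def n166488 : Q := act 1 n79919
theorem D166488 : act 1 n79919 = n166488 := rfl
def n166489 : Q := act 2 n79919
theorem D166489 : act 2 n79919 = n166489 := rfl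
def n166490 : Q := act 4 n79919
theorem D166490 : act 4 n79919 = n166490 := rfl
theorem F262039 : act 0 n166335 = n166490 := d20_1 D166335 (iv4 D166490) (iv3 D79919) (iv1 D36403) (iv3 D17577) (iv4 D8254) D8252 D17568 D36385 D79871
def n166491 : Q := act 5 n79919
theorem D166491 : act 5 n79919 = n166491 := rfl
theorem F262040 : act 3 n166491 = n79921 := d6_1 D166491 (iv5 D79921) D79919
def n166492 : Q := act 6 n79919
theorem D166492 : act 6 n79919 = n166492 := rfl
theorem F262041 : act 3 n166492 = n79922 := d7_1 D166492 (iv6 D79922) D79919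
def n166495 : Q := act 6 n79920
theorem D166495 : act 6 n79920 = n166495 := rfl
theorem F262042 : act 4 n166495 = n79922 := d10_1 D166495 (iv6 D79922) D79920
def n166496 : Q := act 4 n79921
theorem D166496 : act 4 n79921 = n166496 := rfl
def n166497 : Q := act 6 n79921
theorem D166497 : act 6 n79921 = n166497 := rfl
def n166498 : Q := act 0 n79922
theorem D166498 : act 0 n79922 = n166498 := rfl
def n166499 : Q := act 1 n79922
theorem D166499 : act 1 n79922 = n166499 := rfl
def n166500 : Q := act 5 n79922
theorem D166500 : act 5 n79922 = n166500 := rfl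
def n166501 : Q := act 7 n79922
theorem D166501 : act 7 n79922 = n166501 := rfl
def n166506 : Q := act 6 n79923
theorem D166506 : act 6 n79923 = n166506 := rfl
def n166508 : Q := act 3 n79924
theorem D166508 : act 3 n79924 = n166508 := rfl
theorem F262045 : act 4 n166508 = n84799 := d20_6 F41786 (iv1 F21582) (iv4 F28558) (iv3 F57150) (iv1 F122664) D166508 (iv1 D84799) F60163 (iv3 D18627) D18625
def n166510 : Q := act 5 n79924
theorem D166510 : act 5 n79924 = n166510 := rfl
def n166511 : Q := act 6 n79924
theorem D166511 : act 6 n79924 = n166511 := rfl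
def n166512 : Q := act 0 n79925
theorem D166512 : act 0 n79925 = n166512 := rfl
theorem F262046 : act 1 n79929 = n166512 := d15_0 (iv0 D166512) (iv7 F262012) F262011
def n166513 : Q := act 1 n79925
theorem D166513 : act 1 n79925 = n166513 := rfl
theorem F262047 : act 1 n166513 = n79929 := d15_1 D166513 (iv7 D79929) (iv2 F122665)
theorem F262048 : act 5 n121091 = n166513 := d21_6 (iv5 F256346) (iv1 D55928) (iv5 D26973) (iv6 F43483) D55874 D121091 (iv1 D166513) (iv5 D79925) F57148 (iv1 F56500)
def n166514 : Q := act 4 n79925
theorem D166514 : act 4 n79925 = n166514 := rfl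
theorem F262049 : act 2 n166514 = n79928 := d1_1 D166514 (iv4 D79928) (iv2 F122665)
def n166515 : Q := act 2 n79926
theorem D166515 : act 2 n79926 = n166515 := rfl
theorem F262050 : act 7 n79927 = n166515 := d15_2 (iv0 D79926) D79927 (iv2 D166515)
def n166516 : Q := act 3 n79926
theorem D166516 : act 3 n79926 = n166516 := rfl
def n166517 : Q := act 4 n79926
theorem D166517 : act 4 n79926 = n166517 := rfl
def n166518 : Q := act 5 n79926
theorem D166518 : act 5 n79926 = n166518 := rfl
def n166519 : Q := act 6 n79926
theorem D166519 : act 6 n79926 = n166519 := rfl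
def n166520 : Q := act 7 n79926
theorem D166520 : act 7 n79926 = n166520 := rfl
theorem F262051 : act 2 n166520 = n79927 := d4_1 D166520 F262050 (iv2 D166515)
def n166521 : Q := act 3 n79927
theorem D166521 : act 3 n79927 = n166521 := rfl
def n166522 : Q := act 4 n79927
theorem D166522 : act 4 n79927 = n166522 := rfl
def n166523 : Q := act 5 n79927
theorem D166523 : act 5 n79927 = n166523 := rfl
theorem F262052 : act 6 n121097 = n166523 := d21_5 F194345 (iv1 F88482) (iv5 D55926) (iv6 F88381) D121097 (iv5 D166523) (iv1 D79927) (iv5 D36405) F28557 D17598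
def n166524 : Q := act 6 n79927
theorem D166524 : act 6 n79927 = n166524 := rfl
def n166525 : Q := act 0 n79928
theorem D166525 : act 0 n79928 = n166525 := rfl
def n166526 : Q := act 1 n79928
theorem D166526 : act 1 n79928 = n166526 := rfl
def n166527 : Q := act 3 n79928
theorem D166527 : act 3 n79928 = n166527 := rfl
theorem F262053 : act 4 n166527 = n79934 := d5_2 D79928 D166527 (iv3 D79934) (iv4 D36409) (iv3 F57149)
def n166528 : Q := act 5 n79928
theorem D166528 : act 5 n79928 = n166528 := rfl
def n166529 : Q := act 7 n79928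
theorem D166529 : act 7 n79928 = n166529 := rfl
theorem F262054 : act 4 n166529 = n79929 := d11_1 D166529 (iv7 D79929) D79928
def n166530 : Q := act 6 n79929
theorem D166530 : act 6 n79929 = n166530 := rfl
theorem F262055 : act 3 n166530 = n79935 := d7_1 D166530 (iv6 D79935) (iv3 F122666)
def n166531 : Q := act 0 n79930
theorem D166531 : act 0 n79930 = n166531 := rfl
def n166532 : Q := act 1 n79930
theorem D166532 : act 1 n79930 = n166532 := rfl
def n166533 : Q := act 2 n79930
theorem D166533 : act 2 n79930 = n166533 := rfl
theorem F262056 : act 5 n166533 = n84814 := d2_2 (iv5 F122668) D166533 (iv2 D84814)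
def n166534 : Q := act 4 n79930
theorem D166534 : act 4 n79930 = n166534 := rfl
def n166535 : Q := act 6 n79930
theorem D166535 : act 6 n79930 = n166535 := rfl
theorem F262057 : act 3 n166535 = n79931 := d7_1 D166535 (iv6 D79931) D79930
def n166536 : Q := act 0 n79931
theorem D166536 : act 0 n79931 = n166536 := rfl
def n166537 : Q := act 1 n79931
theorem D166537 : act 1 n79931 = n166537 := rfl
def n166540 : Q := act 0 n79932
theorem D166540 : act 0 n79932 = n166540 := rfl
def n166541 : Q := act 1 n79932
theorem D166541 : act 1 n79932 = n166541 := rfl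
def n166542 : Q := act 2 n79932
theorem D166542 : act 2 n79932 = n166542 := rfl
theorem F262059 : act 5 n166542 = n84832 := d2_2 (iv5 F122669) D166542 (iv2 D84832)
def n166543 : Q := act 4 n79932
theorem D166543 : act 4 n79932 = n166543 := rfl
def n166544 : Q := act 6 n79932
theorem D166544 : act 6 n79932 = n166544 := rfl
def n166551 : Q := act 0 n79935
theorem D166551 : act 0 n79935 = n166551 := rfl
def n166552 : Q := act 1 n79935
theorem D166552 : act 1 n79935 = n166552 := rfl
theorem F262063 : act 4 n166552 = n150481 := d18_7 (iv1 F184937) (iv4 F184939) (iv1 D56004) (iv4 F88027) (iv5 F188893) F188892 D166552 F236958 F185009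
def n166553 : Q := act 0 n79937
theorem D166553 : act 0 n79937 = n166553 := rfl
theorem F262064 : act 1 n163585 = n166553 := d15_0 (iv0 D166553) F122677 D163585
def n166554 : Q := act 1 n79937
theorem D166554 : act 1 n79937 = n166554 := rfl
def n166555 : Q := act 2 n79937
theorem D166555 : act 2 n79937 = n166555 := rfl
theorem F262065 : act 3 n166555 = n79959 := d0_2 D79937 D166555 (iv2 D79959) (iv3 D36421) (iv2 F57160)
theorem F262066 : act 4 n166555 = n160677 := d1_2 (iv4 F122676) D166555 (iv2 D160677)
theorem F262067 : act 7 n166555 = n163585 := d4_2 (iv7 F122677) D166555 (iv2 D163585)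
theorem F262068 : act 1 n166555 = n163583 := d15_0 (iv0 D163583) (iv7 F122677) D166555
theorem F262069 : act 1 n166554 = n163585 := d15_1 D166554 (iv7 F262067) (iv2 D166555)
theorem F262070 : act 1 n163584 = n166555 := d15_1 D163584 F262067 (iv2 D163585)
def n166556 : Q := act 6 n79937
theorem D166556 : act 6 n79937 = n166556 := rfl
theorem F262071 : act 3 n166556 = n79938 := d7_1 D166556 (iv6 D79938) D79937
theorem F262072 : act 4 n166556 = n160672 := d10_1 D166556 F253810 (iv4 F122676)
def n166557 : Q := act 1 n79938
theorem D166557 : act 1 n79938 = n166557 := rfl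
theorem F262073 : act 1 n166557 = n79966 := d15_1 D166557 (iv7 D79966) (iv2 F122678)
theorem F262074 : act 7 n166557 = n79963 := d15_2 (iv0 F253326) D166557 (iv2 F253323)
theorem F262075 : act 4 n166557 = n122595 := d18_7 (iv1 F89964) F123676 (iv1 D80456) F57558 (iv5 F57166) (iv4 F122679) D166557 F196346 F125521
theorem F262076 : act 2 n79964 = n166557 := d1_3 F262075 F196349 F126129
def n166558 : Q := act 5 n79938
theorem D166558 : act 5 n79938 = n166558 := rfl
theorem F262077 : act 2 n166558 = n79965 := d2_1 D166558 (iv5 D79965) (iv2 F122678)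
def n166559 : Q := act 7 n79938
theorem D166559 : act 7 n79938 = n166559 := rfl
theorem F262079 : act 4 n166559 = n79941 := d11_1 D166559 (iv7 D79941) (iv4 F122679)
theorem F262080 : act 6 n166559 = n163589 := d14_1 D166559 (iv7 D163589) (iv6 D78599) (iv7 F57161) D79938
theorem F262081 : act 1 n79964 = n166559 := d15_1 D79964 (iv7 D166559) F122678
def n166560 : Q := act 4 n79939
theorem D166560 : act 4 n79939 = n166560 := rfl
theorem F262083 : act 2 n166560 = n79969 := d1_1 D166560 (iv4 D79969) (iv2 F124476)
theorem F262084 : act 6 n166560 = n163032 := d10_2 (iv6 F122681) D166560 (iv4 D163032)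
theorem F262085 : act 7 n166560 = n79972 := d11_2 (iv7 F124477) D166560 (iv4 D79972)
def n166561 : Q := act 4 n79940
theorem D166561 : act 4 n79940 = n166561 := rfl
theorem F262087 : act 2 n166561 = n79972 := d1_1 D166561 (iv4 D79972) (iv2 F124473)
theorem F262088 : act 7 n166561 = n79969 := d11_2 (iv7 F124474) D166561 (iv4 D79969)
def n166562 : Q := act 0 n79942
theorem D166562 : act 0 n79942 = n166562 := rfl
theorem F262090 : act 1 n160998 = n166562 := d15_0 (iv0 D166562) F122697 D160998
def n166563 : Q := act 1 n79942
theorem D166563 : act 1 n79942 = n166563 := rfl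
theorem F262091 : act 4 n158048 = n166563 := d20_0 (iv1 D166563) F122696 (iv3 D38877) (iv1 D18473) D18474 F29656 D18882 D39927 D86286 F254195
def n166564 : Q := act 2 n79942
theorem D166564 : act 2 n79942 = n166564 := rfl
theorem F262092 : act 3 n166564 = n163412 := d0_2 D79942 D166564 (iv2 D163412) (iv3 D78533) (iv2 F57167)
theorem F262093 : act 4 n166564 = n84309 := d1_2 (iv4 F122696) D166564 (iv2 D84309)
theorem F262094 : act 7 n166564 = n160998 := d4_2 (iv7 F122697) D166564 (iv2 D160998)
theorem F262095 : act 1 n166564 = n160996 := d15_0 (iv0 D160996) (iv7 F122697) D166564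
theorem F262096 : act 1 n166563 = n160998 := d15_1 D166563 (iv7 F262094) (iv2 D166564)
theorem F262097 : act 1 n160997 = n166564 := d15_1 D160997 F262094 (iv2 D160998)
def n166565 : Q := act 5 n79942
theorem D166565 : act 5 n79942 = n166565 := rfl
theorem F262098 : act 3 n166565 = n79943 := d6_1 D166565 (iv5 D79943) D79942
theorem F262099 : act 7 n166565 = n160999 := d13_2 (iv7 F122697) D166565 (iv5 D160999)
def n166566 : Q := act 6 n79942
theorem D166566 : act 6 n79942 = n166566 := rfl
theorem F262100 : act 3 n166566 = n79944 := d7_1 D166566 (iv6 D79944) D79942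
def n166567 : Q := act 1 n79943
theorem D166567 : act 1 n79943 = n166567 := rfl
theorem F262104 : act 5 n166567 = n86718 := d17_7 F30316 (iv5 D9574) D9572 (iv5 F28571) D36414 D79943 D166567 F132997 (iv4 D40215)
def n166568 : Q := act 6 n79943
theorem D166568 : act 6 n79943 = n166568 := rfl
theorem F262107 : act 2 n166568 = n163415 := d3_1 D166568 (iv6 D163415) (iv2 F122698)
def n166569 : Q := act 0 n79944
theorem D166569 : act 0 n79944 = n166569 := rfl
def n166572 : Q := act 7 n79944
theorem D166572 : act 7 n79944 = n166572 := rfl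
theorem F262113 : act 2 n166572 = n162842 := d4_1 D166572 F257111 (iv2 F122701)
theorem F262114 : act 4 n166572 = n79947 := d11_1 D166572 (iv7 D79947) (iv4 F122702)
theorem F262116 : act 1 n162842 = n166569 := d15_0 (iv0 D166569) D166572 F262113
def n166574 : Q := act 5 n79945
theorem D166574 : act 5 n79945 = n166574 := rfl
theorem F262126 : act 6 n166574 = n163491 := d12_2 F257701 D166574 F257771 (iv6 D163421) D163420
theorem F262128 : act 0 n166574 = n163925 := d21_1 D166574 (iv5 F258360) (iv6 D91702) (iv1 D42873) (iv6 D20253) (iv5 D9574) D9572 (iv5 F28571) D36415 D79945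
def n166575 : Q := act 0 n79949
theorem D166575 : act 0 n79949 = n166575 := rfl
theorem F262130 : act 1 n163412 = n166575 := d15_0 (iv0 D166575) F122716 D163412
def n166576 : Q := act 1 n79949
theorem D166576 : act 1 n79949 = n166576 := rfl
theorem F262131 : act 3 n163647 = n166576 := d20_3 (iv4 F254299) (iv1 F254294) F257988 (iv1 D166576) (iv3 D79949) (iv4 D36417) (iv1 D17585) D17586 D36421 D79957
def n166577 : Q := act 2 n79949
theorem D166577 : act 2 n79949 = n166577 := rfl
theorem F262132 : act 3 n166577 = n160998 := d0_2 D79949 D166577 (iv2 D160998) (iv3 D77260) (iv2 F57176)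
theorem F262133 : act 7 n166577 = n163412 := d4_2 (iv7 F122716) D166577 (iv2 D163412)
theorem F262134 : act 1 n166577 = n163410 := d15_0 (iv0 D163410) (iv7 F122716) D166577
theorem F262135 : act 1 n166576 = n163412 := d15_1 D166576 (iv7 F262133) (iv2 D166577)
theorem F262136 : act 1 n163411 = n166577 := d15_1 D163411 F262133 (iv2 D163412)
def n166578 : Q := act 5 n79949
theorem D166578 : act 5 n79949 = n166578 := rfl
theorem F262137 : act 3 n166578 = n79950 := d6_1 D166578 (iv5 D79950) D79949
theorem F262138 : act 7 n166578 = n163413 := d13_2 (iv7 F122716) D166578 (iv5 D163413)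
def n166579 : Q := act 6 n79949
theorem D166579 : act 6 n79949 = n166579 := rfl
theorem F262139 : act 3 n166579 = n79951 := d7_1 D166579 (iv6 D79951) D79949
theorem F262140 : act 7 n162840 = n166579 := d8_0 F262139 (iv7 F122722) D162840
def n166580 : Q := act 6 n79950
theorem D166580 : act 6 n79950 = n166580 := rfl
theorem F262141 : act 2 n166580 = n161002 := d3_1 D166580 (iv6 D161002) (iv2 F122717)
def n166581 : Q := act 0 n79951
theorem D166581 : act 0 n79951 = n166581 := rfl
theorem F262143 : act 4 n166581 = n86868 := d18_3 (iv1 F118524) (iv4 F122721) D166581 (iv5 F249986) (iv4 F254673) (iv0 D161106) F116120 (iv0 F119513) (iv5 F57915)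
theorem F262147 : act 3 n162112 = n166581 := d5_5 F262143 F133265 (iv4 D77888) D77887 D162112
def n166582 : Q := act 5 n79951
theorem D166582 : act 5 n79951 = n166582 := rfl
theorem F262148 : act 2 n166582 = n86506 := d2_1 D166582 (iv5 D86506) (iv2 F122720)
theorem F262149 : act 7 n166582 = n162841 := d13_2 F122722 D166582 (iv5 D162841)
def n166583 : Q := act 0 n79952
theorem D166583 : act 0 n79952 = n166583 := rfl
theorem F262150 : act 1 n163593 = n166583 := d15_0 (iv0 D166583) F122724 D163593
def n166584 : Q := act 1 n79952
theorem D166584 : act 1 n79952 = n166584 := rfl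
def n166585 : Q := act 2 n79952
theorem D166585 : act 2 n79952 = n166585 := rfl
theorem F262151 : act 3 n166585 = n163596 := d0_2 D79952 D166585 (iv2 D163596) (iv3 D78604) F57182
theorem F262152 : act 4 n166585 = n164827 := d1_2 (iv4 F122723) D166585 (iv2 D164827)
theorem F262153 : act 7 n166585 = n163593 := d4_2 (iv7 F122724) D166585 (iv2 D163593)
theorem F262154 : act 1 n166585 = n163591 := d15_0 (iv0 D163591) (iv7 F122724) D166585
theorem F262155 : act 1 n166584 = n163593 := d15_1 D166584 (iv7 F262153) (iv2 D166585)
theorem F262156 : act 1 n163592 = n166585 := d15_1 D163592 F262153 (iv2 D163593)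
def n166586 : Q := act 5 n79952
theorem D166586 : act 5 n79952 = n166586 := rfl
theorem F262157 : act 3 n166586 = n79953 := d6_1 D166586 (iv5 D79953) D79952
theorem F262158 : act 7 n166586 = n163470 := d13_2 (iv7 F122724) D166586 F257751
def n166587 : Q := act 6 n79952
theorem D166587 : act 6 n79952 = n166587 := rfl
theorem F262160 : act 4 n166587 = n164829 := d10_1 D166587 (iv6 D164829) (iv4 F122723)
def n166588 : Q := act 6 n79953
theorem D166588 : act 6 n79953 = n166588 := rfl
theorem F262161 : act 2 n166588 = n163473 := d3_1 D166588 (iv6 D163473) (iv2 F122725)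
theorem F262162 : act 4 n166588 = n89992 := d10_1 D166588 (iv6 D89992) (iv4 F122727)
def n166590 : Q := act 7 n79954
theorem D166590 : act 7 n79954 = n166590 := rfl
theorem F262166 : act 4 n166590 = n91672 := d11_1 D166590 (iv7 D91672) (iv4 F122731)
theorem F262168 : act 1 n163419 = n166590 := d15_1 (iv0 F257697) (iv7 D166590) F122730
theorem F262169 : act 1 n166590 = n121250 := d15_1 F262168 F193328 (iv2 F257696)
def n166591 : Q := act 0 n79955
theorem D166591 : act 0 n79955 = n166591 := rfl
theorem F262170 : act 1 n163596 = n166591 := d15_0 (iv0 D166591) F122733 D163596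
def n166592 : Q := act 1 n79955
theorem D166592 : act 1 n79955 = n166592 := rfl
def n166593 : Q := act 2 n79955
theorem D166593 : act 2 n79955 = n166593 := rfl
theorem F262171 : act 3 n166593 = n163593 := d0_2 D79955 D166593 (iv2 D163593) (iv3 D78602) F57187
theorem F262172 : act 4 n166593 = n120272 := d1_2 (iv4 F122732) D166593 (iv2 D120272)
theorem F262173 : act 7 n166593 = n163596 := d4_2 (iv7 F122733) D166593 (iv2 D163596)
theorem F262174 : act 1 n166593 = n163594 := d15_0 (iv0 D163594) (iv7 F122733) D166593
theorem F262175 : act 1 n166592 = n163596 := d15_1 D166592 (iv7 F262173) (iv2 D166593)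
theorem F262176 : act 1 n163595 = n166593 := d15_1 D163595 F262173 (iv2 D163596)
def n166594 : Q := act 5 n79955
theorem D166594 : act 5 n79955 = n166594 := rfl
theorem F262177 : act 3 n166594 = n79956 := d6_1 D166594 (iv5 D79956) D79955
theorem F262178 : act 7 n166594 = n163472 := d13_2 (iv7 F122733) D166594 F257753
def n166595 : Q := act 6 n79956
theorem D166595 : act 6 n79956 = n166595 := rfl
theorem F262179 : act 2 n166595 = n163471 := d3_1 D166595 (iv6 D163471) (iv2 F122734)
theorem F262180 : act 4 n166595 = n90019 := d10_1 D166595 (iv6 D90019) (iv4 F122735)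
def n166596 : Q := act 3 n79957
theorem D166596 : act 3 n79957 = n166596 := rfl
theorem F262181 : act 7 n166596 = n163599 := d8_2 (iv7 F254296) D166596 (iv3 D163599)
theorem F262182 : act 4 n166596 = n96677 := d20_6 (iv4 D36417) (iv1 D17585) D17586 D36421 D79957 D166596 (iv1 D96677) (iv4 F148940) (iv3 D96652) F71120
def n166597 : Q := act 5 n79957
theorem D166597 : act 5 n79957 = n166597 := rfl
theorem F262183 : act 2 n166597 = n163463 := d2_1 D166597 F257746 (iv2 F254298)
theorem F262184 : act 7 n166597 = n163600 := d13_2 (iv7 F254296) D166597 (iv5 D163600)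
theorem F262185 : act 0 n166597 = n163460 := d17_2 D79957 D166597 (iv5 D163460) F119738 (iv5 F88449) F88451 (iv5 F254082) (iv0 D36427) (iv4 F57188)
theorem F262186 : act 1 n166597 = n91691 := d17_6 F254427 (iv5 F194341) D121779 F254301 F254299 D166597 (iv5 D91691) D91689 (iv4 F140955)
def n166598 : Q := act 6 n79957
theorem D166598 : act 6 n79957 = n166598 := rfl
theorem F262187 : act 2 n166598 = n163603 := d3_1 D166598 (iv6 D163603) (iv2 F254298)
def n166599 : Q := act 3 n79958
theorem D166599 : act 3 n79958 = n166599 := rfl
theorem F262188 : act 4 n166599 = n86286 := d5_2 F122740 D166599 (iv3 D86286) (iv4 D39927) D39926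
theorem F262189 : act 7 n166599 = n163602 := d8_2 F254297 D166599 (iv3 D163602)
def n166600 : Q := act 5 n79958
theorem D166600 : act 5 n79958 = n166600 := rfl
theorem F262190 : act 2 n166600 = n163600 := d2_1 D166600 (iv5 D163600) F254295
theorem F262191 : act 7 n166600 = n163463 := d13_2 F254297 D166600 F257746
theorem F262192 : act 0 n166600 = n91691 := d17_2 F122741 D166600 (iv5 D91691) F67180 F43494 D35764 (iv5 F254093) F57199 (iv4 F119779)
theorem E24208 : n163600 = n163462 := (c15_4 (iv0 D163462) D163463 (iv7 F262191) F262190)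
theorem F262193 : act 2 n163462 = n166600 := (sb E24208 (iv2 F262190))
theorem F262194 : act 5 n163462 = n78606 := (sb E24208 (iv5 D163600))
theorem F262195 : act 7 n163462 = n166597 := (sb E24208 (iv7 F262184))
theorem F262196 : act 1 n166600 = n163460 := d15_0 (iv0 F262185) (iv7 F262195) F262193
def n166601 : Q := act 6 n79958
theorem D166601 : act 6 n79958 = n166601 := rfl
theorem F262197 : act 2 n166601 = n163601 := d3_1 D166601 (iv6 D163601) F254295
theorem F262198 : act 4 n166601 = n86282 := d10_1 D166601 (iv6 D86282) F122740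
def n166602 : Q := act 5 n79959
theorem D166602 : act 5 n79959 = n166602 := rfl
theorem F262199 : act 2 n166602 = n79960 := d2_1 D166602 (iv5 D79960) D79959
theorem F262200 : act 7 n166602 = n163604 := d13_2 (iv7 F122743) D166602 (iv5 D163604)
theorem F262201 : act 0 n166602 = n163607 := d17_2 (iv1 F122744) D166602 F257876 (iv4 F140955) F254071 (iv0 F254415) F254418 (iv0 F254289) F254292
theorem F262202 : act 1 n166602 = n163606 := d17_6 D55884 F254069 (iv1 F57243) F57241 (iv4 F122742) D166602 F257872 (iv0 D91688) F67180
def n166603 : Q := act 6 n79959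
theorem D166603 : act 6 n79959 = n166603 := rfl
theorem F262204 : act 4 n166603 = n79984 := d10_1 D166603 (iv6 D79984) (iv4 F122742)
def n166604 : Q := act 4 n79960
theorem D166604 : act 4 n79960 = n166604 := rfl
theorem F262205 : act 7 n166604 = n163608 := d11_2 (iv7 F122747) D166604 (iv4 D163608)
def n166605 : Q := act 6 n79960
theorem D166605 : act 6 n79960 = n166605 := rfl
def n166606 : Q := act 0 n79961
theorem D166606 : act 0 n79961 = n166606 := rfl
def n166607 : Q := act 1 n79961
theorem D166607 : act 1 n79961 = n166607 := rfl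
def n166608 : Q := act 5 n79961
theorem D166608 : act 5 n79961 = n166608 := rfl
theorem F262207 : act 3 n166608 = n79965 := d6_1 D166608 (iv5 D79965) (iv3 F122748)
def n166609 : Q := act 7 n79961
theorem D166609 : act 7 n79961 = n166609 := rfl
theorem F262208 : act 3 n166609 = n79966 := d8_1 D166609 (iv7 D79966) (iv3 F122748)
theorem F262209 : act 4 n166609 = n79988 := d11_1 D166609 (iv7 D79988) (iv4 F122749)
theorem F262210 : act 6 n166609 = n163613 := d14_1 D166609 (iv7 D163613) (iv6 D78610) (iv7 F57189) D79961
def n166610 : Q := act 0 n79962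
theorem D166610 : act 0 n79962 = n166610 := rfl
def n166611 : Q := act 1 n79962
theorem D166611 : act 1 n79962 = n166611 := rfl
def n166612 : Q := act 5 n79962
theorem D166612 : act 5 n79962 = n166612 := rfl
theorem F262211 : act 6 n166612 = n79965 := d12_2 D79962 D166612 (iv5 D79965) (iv6 D36423) D36422
def n166613 : Q := act 7 n79962
theorem D166613 : act 7 n79962 = n166613 := rfl
theorem F262212 : act 6 n166613 = n163621 := d14_1 D166613 (iv7 D163621) (iv6 D78613) (iv7 F57190) D79962
def n166615 : Q := act 5 n79963
theorem D166615 : act 5 n79963 = n166615 := rfl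
theorem F262214 : act 1 n166615 = n162929 := d17_6 F129622 (iv5 D84496) D84494 F196355 (iv4 F195828) D166615 (iv5 D162929) (iv0 F253248) (iv4 D160342)
theorem F262215 : act 6 n79963 = n166098 := d21_3 D162929 (iv1 F262214) (iv5 D166615) (iv1 F261509) (iv6 D163014) D163013 F257367 (iv5 D162905) (iv6 F253247) F253248
theorem F262216 : act 2 n166098 = n163028 := d3_1 F262215 F257388 F253323
theorem F262217 : act 7 n163027 = n166098 := d15_2 F261438 F261439 F262216
theorem F262218 : act 7 n166099 = n163028 := d15_2 (iv0 D166098) D166099 (iv2 F262216)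
theorem F262219 : act 2 n163027 = n166099 := d4_3 F262218 (iv2 F262216) (iv7 F262217)
def n166616 : Q := act 3 n79964
theorem D166616 : act 3 n79964 = n166616 := rfl
def n166617 : Q := act 5 n79964
theorem D166617 : act 5 n79964 = n166617 := rfl
theorem F262220 : act 0 n166617 = n162929 := d17_2 (iv1 F262081) D166617 (iv5 D162929) (iv4 D78327) (iv5 D35701) D35700 F119485 F122694 (iv4 F262079)
def n166618 : Q := act 6 n79964
theorem D166618 : act 6 n79964 = n166618 := rfl
def n166619 : Q := act 0 n79965
theorem D166619 : act 0 n79965 = n166619 := rfl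
def n166620 : Q := act 1 n79965
theorem D166620 : act 1 n79965 = n166620 := rfl
def n166621 : Q := act 4 n79965
theorem D166621 : act 4 n79965 = n166621 := rfl
def n166622 : Q := act 7 n79965
theorem D166622 : act 7 n79965 = n166622 := rfl
theorem F262221 : act 5 n166622 = n79966 := d13_1 D166622 (iv7 D79966) D79965
def n166623 : Q := act 0 n79969
theorem D166623 : act 0 n79969 = n166623 := rfl
theorem F262223 : act 1 n79972 = n166623 := d15_0 (iv0 D166623) (iv7 F262088) F262087
theorem F262224 : act 7 n166623 = n81610 := d15_2 F196363 F262223 (iv2 F196360)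
theorem F262225 : act 6 n163631 = n166623 := d14_5 F262224 F125519 F116023 (iv6 F148931) (iv7 F257895)
def n166624 : Q := act 3 n79969
theorem D166624 : act 3 n79969 = n166624 := rfl
def n166625 : Q := act 5 n79969
theorem D166625 : act 5 n79969 = n166625 := rfl
def n166627 : Q := act 3 n79972
theorem D166627 : act 3 n79972 = n166627 := rfl
def n166628 : Q := act 5 n79972
theorem D166628 : act 5 n79972 = n166628 := rfl
def n166629 : Q := act 6 n79972
theorem D166629 : act 6 n79972 = n166629 := rfl
theorem F262229 : act 4 n166629 = n79973 := d10_1 D166629 (iv6 D79973) D79972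
def n166630 : Q := act 1 n79975
theorem D166630 : act 1 n79975 = n166630 := rfl
theorem F262230 : act 1 n166630 = n124293 := d15_1 D166630 F257951 (iv2 F257934)
theorem F262231 : act 7 n166630 = n157840 := d15_2 (iv0 F257952) D166630 (iv2 D157840)
theorem F262232 : act 3 n120985 = n166630 := d20_3 (iv4 F43421) D55798 D120985 (iv1 D166630) (iv3 D79975) D79976 F193291 (iv4 D121212) (iv3 D55922) (iv1 D26971)
theorem F262233 : act 2 n166630 = n125399 := d0_1 F262232 (iv3 D125399) (iv2 F256542) D75189 (iv2 F256570)
theorem F262234 : act 4 n166630 = n160568 := d20_6 D78673 (iv1 F254199) (iv4 D77256) D77255 F254200 F262232 (iv1 D160568) (iv4 D76982) D76981 (iv1 F254421)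
theorem F262235 : act 3 n124256 = n160568 := d5_5 (iv4 F262234) (iv3 F262232) (iv4 D120985) D120984 F198754
theorem F262236 : act 7 n160264 = n124256 := d8_0 F262235 (iv7 F256580) F256581
theorem F262237 : act 2 n124256 = n160263 := d15_3 (iv0 D160263) D160264 F262236
theorem F262238 : act 2 n160264 = n124255 := d15_3 (iv0 D124255) D124256 (iv7 F262236)
theorem F262239 : act 7 n124255 = n160263 := d4_2 (iv7 F262236) F262238 (iv2 F262237)
def n166631 : Q := act 6 n79975
theorem D166631 : act 6 n79975 = n166631 := rfl
theorem F262240 : act 3 n166631 = n79978 := d7_1 D166631 (iv6 D79978) D79975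
theorem F262241 : act 4 n166631 = n124299 := d10_1 D166631 (iv6 D124299) (iv4 F122759)
def n166632 : Q := act 1 n79976
theorem D166632 : act 1 n79976 = n166632 := rfl
theorem F262242 : act 1 n166632 = n79981 := d15_1 D166632 F257927 (iv2 F257980)
theorem F262243 : act 7 n166632 = n163647 := d15_2 (iv0 F193291) D166632 F257989
theorem F262244 : act 4 n159299 = n166632 := d20_0 (iv1 D166632) (iv4 D79976) D79975 F257952 (iv3 D75194) D75195 (iv1 F248708) (iv4 F254261) (iv3 F254291) F254289
theorem F262245 : act 2 n166632 = n163646 := d1_1 F262244 F257984 F254387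
theorem F262246 : act 3 n166632 = n163411 := d20_3 (iv4 F254292) F254289 F262244 (iv1 D163411) (iv3 D78533) (iv4 D35778) F28273 D17348 D35809 D78606
theorem F262247 : act 7 n163411 = n166576 := d8_2 (iv7 F262243) F262246 (iv3 F262131)
theorem F262248 : act 2 n166576 = n163410 := d15_3 (iv0 D163410) D163411 F262247
theorem F262249 : act 2 n163411 = n166575 := d15_3 (iv0 D166575) D166576 (iv7 F262247)
theorem F262250 : act 7 n166575 = n163410 := d4_2 (iv7 F262247) F262249 (iv2 F262248)
def n166633 : Q := act 3 n79976
theorem D166633 : act 3 n79976 = n166633 := rfl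
theorem F262251 : act 4 n166633 = n124297 := d5_2 D79976 D166633 (iv3 D124297) (iv4 F122759) (iv3 D79975)
theorem F262252 : act 7 n166633 = n163648 := d8_2 F257979 D166633 (iv3 D163648)
def n166634 : Q := act 5 n79976
theorem D166634 : act 5 n79976 = n166634 := rfl
theorem F262253 : act 2 n166634 = n163656 := d2_1 D166634 (iv5 D163656) (iv2 F257980)
theorem F262254 : act 7 n166634 = n163649 := d13_2 F257979 D166634 (iv5 D163649)
def n166635 : Q := act 6 n79976
theorem D166635 : act 6 n79976 = n166635 := rfl
theorem F262256 : act 4 n166635 = n79978 := d10_1 D166635 (iv6 D79978) D79976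
def n166636 : Q := act 0 n79978
theorem D166636 : act 0 n79978 = n166636 := rfl
def n166637 : Q := act 1 n79978
theorem D166637 : act 1 n79978 = n166637 := rfl
def n166638 : Q := act 5 n79978
theorem D166638 : act 5 n79978 = n166638 := rfl
theorem F262259 : act 6 n166638 = n163332 := d12_2 D79978 D166638 (iv5 D163332) (iv6 D78495) (iv5 F254082)
def n166639 : Q := act 7 n79978
theorem D166639 : act 7 n79978 = n166639 := rfl
theorem F262260 : act 2 n166639 = n163661 := d4_1 D166639 (iv7 D163661) F257981
theorem F262261 : act 6 n166639 = n163654 := d14_1 D166639 (iv7 D163654) (iv6 D78627) (iv7 F257931) D79978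
theorem F262264 : act 1 n166639 = n163658 := d15_0 (iv0 D163658) D163661 (iv2 F262260)
def n166640 : Q := act 6 n79980
theorem D166640 : act 6 n79980 = n166640 := rfl
theorem F262265 : act 3 n166640 = n79983 := d7_1 D166640 (iv6 D79983) D79980
def n166641 : Q := act 3 n79981
theorem D166641 : act 3 n79981 = n166641 := rfl
theorem F262267 : act 0 n87311 = n166641 := d20_4 F57180 F32112 D40560 D87311 (iv3 D166641) (iv4 D79981) (iv1 D36428) (iv4 F57188) (iv3 D36421) D36419
def n166642 : Q := act 5 n79981
theorem D166642 : act 5 n79981 = n166642 := rfl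
theorem F262269 : act 2 n166642 = n163649 := d2_1 D166642 (iv5 D163649) (iv2 F257926)
theorem F262270 : act 7 n166642 = n163656 := d13_2 (iv7 F257927) D166642 (iv5 D163656)
def n166643 : Q := act 6 n79981
theorem D166643 : act 6 n79981 = n166643 := rfl
theorem F262271 : act 2 n166643 = n163650 := d3_1 D166643 (iv6 D163650) (iv2 F257926)
theorem F262272 : act 4 n166643 = n79983 := d10_1 D166643 (iv6 D79983) D79981
def n166644 : Q := act 0 n79983
theorem D166644 : act 0 n79983 = n166644 := rfl
def n166645 : Q := act 1 n79983
theorem D166645 : act 1 n79983 = n166645 := rfl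
def n166646 : Q := act 5 n79983
theorem D166646 : act 5 n79983 = n166646 := rfl
theorem F262274 : act 2 n166646 = n163653 := d2_1 D166646 (iv5 D163653) (iv2 F257928)
theorem F262275 : act 6 n166646 = n163343 := d12_2 D79983 D166646 (iv5 D163343) (iv6 D78500) (iv5 F254093)
def n166647 : Q := act 7 n79983
theorem D166647 : act 7 n79983 = n166647 := rfl
theorem F262276 : act 2 n166647 = n163654 := d4_1 D166647 (iv7 D163654) (iv2 F257928)
theorem F262277 : act 6 n166647 = n163661 := d14_1 D166647 (iv7 D163661) (iv6 D78632) F257929 D79983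
theorem F262278 : act 1 n163654 = n166644 := d15_0 (iv0 D166644) D166647 F262276
theorem F262279 : act 1 n163652 = n166647 := d15_1 D163652 (iv7 D166647) F257928
def n166648 : Q := act 0 n79984
theorem D166648 : act 0 n79984 = n166648 := rfl
def n166649 : Q := act 1 n79984
theorem D166649 : act 1 n79984 = n166649 := rfl
theorem F262281 : act 1 n166649 = n79988 := d15_1 D166649 (iv7 D79988) (iv2 F122761)
def n166650 : Q := act 5 n79984
theorem D166650 : act 5 n79984 = n166650 := rfl
theorem F262282 : act 2 n166650 = n79987 := d2_1 D166650 (iv5 D79987) (iv2 F122761)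
theorem F262283 : act 3 n166650 = n160959 := d6_1 D166650 (iv5 D160959) (iv3 F122762)
theorem F262284 : act 6 n166650 = n162692 := d12_2 D79984 D166650 (iv5 D162692) F119324 F57241
def n166651 : Q := act 7 n79984
theorem D166651 : act 7 n79984 = n166651 := rfl
theorem F262285 : act 2 n166651 = n79988 := d4_1 D166651 (iv7 D79988) (iv2 F122761)
theorem F262286 : act 3 n166651 = n160946 := d8_1 D166651 F254160 (iv3 F122762)
theorem F262287 : act 6 n166651 = n163665 := d14_1 D166651 (iv7 D163665) (iv6 D78633) (iv7 F57197) D79984
theorem F262288 : act 1 n79988 = n166648 := d15_0 (iv0 D166648) D166651 F262285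
theorem F262289 : act 1 n79986 = n166651 := d15_1 D79986 (iv7 D166651) F122761
theorem F262290 : act 1 n166651 = n79985 := d15_0 (iv0 D79985) D79988 (iv2 F262285)
def n166652 : Q := act 2 n79985
theorem D166652 : act 2 n79985 = n166652 := rfl
theorem F262291 : act 7 n79986 = n166652 := d15_2 (iv0 D79985) D79986 (iv2 D166652)
def n166653 : Q := act 3 n79985
theorem D166653 : act 3 n79985 = n166653 := rfl
def n166654 : Q := act 4 n79985
theorem D166654 : act 4 n79985 = n166654 := rfl
def n166655 : Q := act 5 n79985
theorem D166655 : act 5 n79985 = n166655 := rfl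
def n166656 : Q := act 6 n79985
theorem D166656 : act 6 n79985 = n166656 := rfl
def n166657 : Q := act 7 n79985
theorem D166657 : act 7 n79985 = n166657 := rfl
theorem F262292 : act 2 n166657 = n79986 := d4_1 D166657 F262291 (iv2 D166652)
def n166658 : Q := act 3 n79986
theorem D166658 : act 3 n79986 = n166658 := rfl
def n166659 : Q := act 4 n79986
theorem D166659 : act 4 n79986 = n166659 := rfl
def n166660 : Q := act 5 n79986
theorem D166660 : act 5 n79986 = n166660 := rfl
def n166661 : Q := act 6 n79986
theorem D166661 : act 6 n79986 = n166661 := rfl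
def n166662 : Q := act 0 n79987
theorem D166662 : act 0 n79987 = n166662 := rfl
def n166663 : Q := act 1 n79987
theorem D166663 : act 1 n79987 = n166663 := rfl
def n166664 : Q := act 4 n79987
theorem D166664 : act 4 n79987 = n166664 := rfl
theorem F262293 : act 6 n166664 = n162695 := d10_2 (iv6 F122764) D166664 (iv4 D162695)
def n166665 : Q := act 7 n79987
theorem D166665 : act 7 n79987 = n166665 := rfl
theorem F262294 : act 3 n166665 = n79990 := d8_1 D166665 (iv7 D79990) (iv3 F122763)
theorem F262295 : act 5 n166665 = n79988 := d13_1 D166665 (iv7 D79988) D79987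
def n166668 : Q := act 0 n79994
theorem D166668 : act 0 n79994 = n166668 := rfl
theorem F262301 : act 1 n160677 = n166668 := d15_0 (iv0 D166668) F122780 D160677
def n166669 : Q := act 1 n79994
theorem D166669 : act 1 n79994 = n166669 := rfl
def n166670 : Q := act 2 n79994
theorem D166670 : act 2 n79994 = n166670 := rfl
theorem F262302 : act 3 n166670 = n80012 := d0_2 D79994 D166670 (iv2 D80012) (iv3 D36443) (iv2 F57216)
theorem F262303 : act 4 n166670 = n163585 := d1_2 (iv4 F122779) D166670 (iv2 D163585)
theorem F262304 : act 7 n166670 = n160677 := d4_2 (iv7 F122780) D166670 (iv2 D160677)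
theorem F262305 : act 1 n166670 = n160675 := d15_0 (iv0 D160675) (iv7 F122780) D166670
theorem F262306 : act 1 n166669 = n160677 := d15_1 D166669 (iv7 F262304) (iv2 D166670)
theorem F262307 : act 1 n160676 = n166670 := d15_1 D160676 F262304 (iv2 D160677)
def n166671 : Q := act 0 n79995
theorem D166671 : act 0 n79995 = n166671 := rfl
theorem F262308 : act 1 n160866 = n166671 := d15_0 (iv0 D166671) F122782 D160866
def n166672 : Q := act 1 n79995
theorem D166672 : act 1 n79995 = n166672 := rfl
def n166673 : Q := act 2 n79995
theorem D166673 : act 2 n79995 = n166673 := rfl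
theorem F262309 : act 3 n166673 = n160643 := d0_2 D79995 D166673 (iv2 D160643) (iv3 D77043) (iv2 F57220)
theorem F262310 : act 4 n166673 = n160443 := d1_2 (iv4 F122781) D166673 (iv2 D160443)
theorem F262311 : act 7 n166673 = n160866 := d4_2 (iv7 F122782) D166673 (iv2 D160866)
theorem F262312 : act 1 n166673 = n160864 := d15_0 (iv0 D160864) (iv7 F122782) D166673
theorem F262313 : act 1 n166672 = n160866 := d15_1 D166672 (iv7 F262311) (iv2 D166673)
theorem F262314 : act 1 n160865 = n166673 := d15_1 D160865 F262311 (iv2 D160866)
def n166674 : Q := act 5 n79995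
theorem D166674 : act 5 n79995 = n166674 := rfl
theorem F262315 : act 3 n166674 = n79996 := d6_1 D166674 (iv5 D79996) D79995
theorem F262316 : act 7 n166674 = n160867 := d13_2 (iv7 F122782) D166674 (iv5 D160867)
def n166675 : Q := act 6 n79995
theorem D166675 : act 6 n79995 = n166675 := rfl
theorem F262317 : act 3 n166675 = n79997 := d7_1 D166675 (iv6 D79997) D79995
theorem F262318 : act 4 n166675 = n160445 := d10_1 D166675 (iv6 D160445) (iv4 F122781)
theorem F262319 : act 7 n162703 = n166675 := d8_0 F262317 (iv7 F122787) D162703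
def n166676 : Q := act 6 n79996
theorem D166676 : act 6 n79996 = n166676 := rfl
theorem F262320 : act 2 n166676 = n160645 := d3_1 D166676 (iv6 D160645) (iv2 F122783)
def n166677 : Q := act 5 n79997
theorem D166677 : act 5 n79997 = n166677 := rfl
theorem F262321 : act 2 n166677 = n160639 := d2_1 D166677 (iv5 D160639) (iv2 F122785)
theorem F262322 : act 7 n166677 = n162704 := d13_2 F122787 D166677 (iv5 D162704)
def n166678 : Q := act 0 n79998
theorem D166678 : act 0 n79998 = n166678 := rfl
theorem F262323 : act 1 n160643 = n166678 := d15_0 (iv0 D166678) F122788 D160643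
def n166679 : Q := act 1 n79998
theorem D166679 : act 1 n79998 = n166679 := rfl
theorem F262324 : act 3 n160975 = n166679 := d20_3 (iv4 F122821) (iv1 F254422) (iv4 F254409) (iv1 D166679) (iv3 D79998) (iv4 D36439) (iv1 D17595) D17596 D36443 D80010
theorem F262325 : act 4 n157792 = n166679 := d20_6 (iv4 D21559) F16327 D16697 D34428 D75181 D157792 (iv1 D166679) (iv4 F146925) (iv3 D95280) F70024
theorem F262326 : act 7 n166679 = n160642 := d8_2 F258108 F262324 (iv3 F258109)
theorem F262327 : act 2 n160642 = n166678 := d15_3 (iv0 D166678) D166679 F262326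
theorem F262328 : act 2 n166679 = n160641 := d15_3 (iv0 D160641) D160642 (iv7 F262326)
theorem F262329 : act 7 n160641 = n166678 := d4_2 (iv7 F262326) F262328 (iv2 F262327)
theorem F262330 : act 1 n166679 = n160643 := d15_0 F262323 (iv7 F262329) (iv2 F262328)
def n166680 : Q := act 2 n79998
theorem D166680 : act 2 n79998 = n166680 := rfl
theorem F262331 : act 3 n166680 = n160866 := d0_2 D79998 D166680 (iv2 D160866) (iv3 D77199) (iv2 F57224)
theorem F262332 : act 7 n166680 = n160643 := d4_2 (iv7 F122788) D166680 (iv2 D160643)
theorem F262333 : act 1 n166680 = n160641 := d15_0 (iv0 D160641) (iv7 F122788) D166680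
theorem F262334 : act 1 n160642 = n166680 := d15_0 F262333 F262329 (iv2 F262327)
def n166681 : Q := act 5 n79998
theorem D166681 : act 5 n79998 = n166681 := rfl
theorem F262335 : act 3 n166681 = n79999 := d6_1 D166681 (iv5 D79999) D79998
theorem F262336 : act 7 n166681 = n160644 := d13_2 (iv7 F122788) D166681 (iv5 D160644)
def n166682 : Q := act 6 n79998
theorem D166682 : act 6 n79998 = n166682 := rfl
theorem F262337 : act 3 n166682 = n80000 := d7_1 D166682 (iv6 D80000) D79998
def n166683 : Q := act 6 n79999
theorem D166683 : act 6 n79999 = n166683 := rfl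
theorem F262338 : act 2 n166683 = n160869 := d3_1 D166683 (iv6 D160869) (iv2 F122789)
def n166684 : Q := act 0 n80000
theorem D166684 : act 0 n80000 = n166684 := rfl
theorem F262339 : act 4 n166684 = n163233 := d20_2 (iv4 F122792) D166684 F261032 (iv1 F254808) F254802 (iv4 F262166) (iv1 F262168) (iv4 D163419) F255039 (iv1 D80002)
def n166685 : Q := act 1 n80000
theorem D166685 : act 1 n80000 = n166685 := rfl
theorem F262341 : act 1 n166685 = n160873 := d15_1 D166685 (iv7 D160873) (iv2 F122791)
def n166686 : Q := act 5 n80000
theorem D166686 : act 5 n80000 = n166686 := rfl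
theorem F262343 : act 2 n166686 = n160872 := d2_1 D166686 (iv5 D160872) (iv2 F122791)
def n166687 : Q := act 7 n80000
theorem D166687 : act 7 n80000 = n166687 := rfl
theorem F262345 : act 4 n166687 = n80003 := d11_1 D166687 (iv7 D80003) (iv4 F122792)
def n166688 : Q := act 4 n80002
theorem D166688 : act 4 n80002 = n166688 := rfl
def n166691 : Q := act 2 n80004
theorem D166691 : act 2 n80004 = n166691 := rfl
theorem F262356 : act 3 n166691 = n158026 := d0_2 D80004 D166691 (iv2 D158026) (iv3 D75277) F57230
theorem F262357 : act 4 n166691 = n161250 := d1_2 (iv4 F122800) D166691 (iv2 D161250)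
def n166692 : Q := act 5 n80004
theorem D166692 : act 5 n80004 = n166692 := rfl
theorem F262362 : act 3 n166692 = n80005 := d6_1 D166692 (iv5 D80005) D80004
def n166694 : Q := act 6 n80005
theorem D166694 : act 6 n80005 = n166694 := rfl
theorem F262367 : act 2 n166694 = n158028 := d3_1 D166694 (iv6 D158028) (iv2 F122802)
theorem F262368 : act 4 n166694 = n166683 := d10_1 D166694 (iv6 D166683) (iv4 F122804)
def n166695 : Q := act 5 n80006
theorem D166695 : act 5 n80006 = n166695 := rfl
theorem F262369 : act 2 n166695 = n83141 := d2_1 D166695 (iv5 D83141) (iv2 F122807)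
theorem F262370 : act 7 n166695 = n162761 := d13_2 (iv7 F128103) D166695 F256989
theorem F262371 : act 0 n166695 = n162712 := d17_2 F122809 D166695 (iv5 D162712) (iv4 D78189) (iv5 D35645) F121248 (iv5 F57223) F120873 D55867
theorem F262372 : act 1 n166695 = n121055 := d17_6 (iv1 D124416) (iv5 D58017) (iv1 F117851) D38246 (iv4 F122808) D166695 (iv5 D121055) D121053 F198979
def n166696 : Q := act 0 n80007
theorem D166696 : act 0 n80007 = n166696 := rfl
theorem F262373 : act 1 n158026 = n166696 := d15_0 (iv0 D166696) F122812 D158026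
def n166697 : Q := act 1 n80007
theorem D166697 : act 1 n80007 = n166697 := rfl
def n166698 : Q := act 2 n80007
theorem D166698 : act 2 n80007 = n166698 := rfl
theorem F262374 : act 3 n166698 = n160885 := d0_2 D80007 D166698 (iv2 D160885) (iv3 D77205) F57235
theorem F262376 : act 7 n166698 = n158026 := d4_2 (iv7 F122812) D166698 (iv2 D158026)
theorem F262377 : act 1 n166698 = n158024 := d15_0 (iv0 D158024) (iv7 F122812) D166698
theorem F262378 : act 1 n166697 = n158026 := d15_1 D166697 (iv7 F262376) (iv2 D166698)
theorem F262379 : act 1 n158025 = n166698 := d15_1 D158025 F262376 (iv2 D158026)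
def n166699 : Q := act 5 n80007
theorem D166699 : act 5 n80007 = n166699 := rfl
theorem F262380 : act 3 n166699 = n80008 := d6_1 D166699 (iv5 D80008) D80007
theorem F262381 : act 7 n166699 = n158027 := d13_2 (iv7 F122812) D166699 (iv5 D158027)
def n166700 : Q := act 6 n80007
theorem D166700 : act 6 n80007 = n166700 := rfl
theorem F262382 : act 3 n166700 = n80009 := d7_1 D166700 (iv6 D80009) D80007
def n166701 : Q := act 6 n80008
theorem D166701 : act 6 n80008 = n166701 := rfl
theorem F262384 : act 2 n166701 = n160888 := d3_1 D166701 (iv6 D160888) (iv2 F122813)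
theorem F262385 : act 4 n166701 = n166676 := d10_1 D166701 (iv6 D166676) (iv4 F122814)
def n166703 : Q := act 7 n80009
theorem D166703 : act 7 n80009 = n166703 := rfl
theorem F262389 : act 6 n166703 = n83142 := d14_1 D166703 (iv7 D83142) F59142 (iv7 F57233) D80009
theorem F262390 : act 1 n121258 = n166703 := d15_1 (iv0 F254929) (iv7 D166703) F122818
def n166704 : Q := act 3 n80010
theorem D166704 : act 3 n80010 = n166704 := rfl
theorem F262392 : act 7 n166704 = n160894 := d8_2 (iv7 F254348) D166704 (iv3 D160894)
theorem F262393 : act 4 n166704 = n157855 := d20_6 (iv4 D36439) (iv1 D17595) D17596 D36443 D80010 D166704 (iv1 D157855) (iv4 F248763) (iv3 D157852) F112750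
theorem F262394 : act 7 n157855 = n81914 := d11_2 (iv7 F262392) F262393 (iv4 F254054)
theorem F262395 : act 2 n81914 = n157854 := d15_3 (iv0 D157854) D157855 F262394
theorem F262396 : act 2 n157855 = n81913 := d15_3 (iv0 D81913) D81914 (iv7 F262394)
theorem F262397 : act 7 n81913 = n157854 := d4_2 (iv7 F262394) F262396 (iv2 F262395)
def n166705 : Q := act 5 n80010
theorem D166705 : act 5 n80010 = n166705 := rfl
theorem F262398 : act 2 n166705 = n160900 := d2_1 D166705 (iv5 D160900) (iv2 F254347)
theorem F262399 : act 7 n166705 = n160896 := d13_2 (iv7 F254348) D166705 (iv5 D160896)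
theorem F262400 : act 0 n166705 = n163278 := d17_2 D80010 D166705 (iv5 D163278) F119674 (iv5 F88404) F88406 (iv5 F250801) (iv0 D36445) (iv4 F57236)
theorem F262401 : act 1 n166705 = n121143 := d17_6 (iv1 F257644) (iv5 F256347) F258182 F257740 F122821 D166705 (iv5 D121143) D121141 (iv4 F193198)
def n166706 : Q := act 6 n80010
theorem D166706 : act 6 n80010 = n166706 := rfl
theorem F262402 : act 2 n166706 = n160901 := d3_1 D166706 (iv6 D160901) (iv2 F254347)
theorem F262403 : act 4 n166706 = n163749 := d10_1 D166706 (iv6 D163749) F122821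
def n166707 : Q := act 3 n80011
theorem D166707 : act 3 n80011 = n166707 := rfl
theorem F262404 : act 4 n166707 = n160569 := d5_2 F122822 D166707 (iv3 D160569) (iv4 D76982) D76981
theorem F262405 : act 7 n166707 = n160899 := d8_2 (iv7 F254344) D166707 (iv3 D160899)
def n166708 : Q := act 5 n80011
theorem D166708 : act 5 n80011 = n166708 := rfl
theorem F262406 : act 2 n166708 = n160896 := d2_1 D166708 (iv5 D160896) (iv2 F254343)
theorem F262407 : act 7 n166708 = n160900 := d13_2 (iv7 F254344) D166708 (iv5 D160900)
theorem F262408 : act 0 n166708 = n121143 := d17_2 F122823 D166708 (iv5 D121143) F88440 F43514 D35793 (iv5 F250818) F57244 (iv4 F115965)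
theorem F262409 : act 1 n166708 = n163278 := d15_0 (iv0 F262400) F262399 (iv2 F262406)
def n166709 : Q := act 6 n80011
theorem D166709 : act 6 n80011 = n166709 := rfl
theorem F262410 : act 2 n166709 = n160897 := d3_1 D166709 (iv6 D160897) (iv2 F254343)
theorem F262411 : act 4 n166709 = n160566 := d10_1 D166709 (iv6 D160566) F122822
def n166710 : Q := act 5 n80012
theorem D166710 : act 5 n80012 = n166710 := rfl
theorem F262412 : act 2 n166710 = n80013 := d2_1 D166710 (iv5 D80013) D80012
theorem F262413 : act 7 n166710 = n160902 := d13_2 (iv7 F122825) D166710 (iv5 D160902)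
theorem F262414 : act 0 n166710 = n160904 := d17_2 (iv1 F122826) D166710 F254101 (iv4 F193198) F250798 D159299 (iv5 F254418) F254416 F254340
theorem F262415 : act 1 n166710 = n160903 := d17_6 D55904 (iv5 F250810) (iv1 F57198) (iv5 F57241) (iv4 F122824) D166710 F257591 (iv0 D121140) F88440
def n166711 : Q := act 4 n80013
theorem D166711 : act 4 n80013 = n166711 := rfl
theorem F262416 : act 7 n166711 = n160905 := d11_2 (iv7 F122829) D166711 (iv4 D160905)
def n166712 : Q := act 6 n80013
theorem D166712 : act 6 n80013 = n166712 := rfl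
theorem F262417 : act 3 n166712 = n80014 := d7_1 D166712 (iv6 D80014) (iv3 F122828)
def n166713 : Q := act 0 n80014
theorem D166713 : act 0 n80014 = n166713 := rfl
def n166714 : Q := act 1 n80014
theorem D166714 : act 1 n80014 = n166714 := rfl
def n166715 : Q := act 7 n80014
theorem D166715 : act 7 n80014 = n166715 := rfl
theorem F262418 : act 6 n166715 = n160915 := d14_1 D166715 (iv7 D160915) (iv6 D77215) (iv7 F57238) D80014
def n166716 : Q := act 1 n80016
theorem D166716 : act 1 n80016 = n166716 := rfl
theorem F262419 : act 1 n166716 = n158895 := d15_1 D166716 F254227 (iv2 F254215)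
theorem F262420 : act 7 n166716 = n160971 := d15_2 F254228 D166716 F256536
theorem F262421 : act 5 n166716 = n166630 := d17_7 (iv1 F115549) D160457 (iv1 F253458) F250820 (iv4 F119937) F250800 D166716 F262230 (iv4 D124293)
theorem F262422 : act 3 n162410 = n166716 := d20_3 (iv4 F56268) (iv1 F256562) (iv4 F256619) (iv1 D166716) (iv3 D80016) D80017 (iv1 F258012) (iv4 D163681) (iv3 D78643) F254377
theorem F262423 : act 2 n166716 = n86356 := d0_1 F262422 (iv3 D86356) (iv2 F256540) F119216 (iv2 F256618)
theorem F262424 : act 4 n166716 = n86285 := d5_2 (iv4 F256619) F262422 F256599 (iv4 F256597) F256596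
def n166717 : Q := act 6 n80016
theorem D166717 : act 6 n80016 = n166717 := rfl
theorem F262425 : act 3 n166717 = n80019 := d7_1 D166717 (iv6 D80019) D80016
theorem F262426 : act 4 n166717 = n158901 := d10_1 D166717 (iv6 D158901) (iv4 F122831)
def n166718 : Q := act 3 n80017
theorem D166718 : act 3 n80017 = n166718 := rfl
theorem F262427 : act 4 n166718 = n158899 := d5_2 D80017 D166718 (iv3 D158899) (iv4 F122831) (iv3 D80016)
theorem F262428 : act 7 n166718 = n160976 := d8_2 (iv7 F254218) D166718 (iv3 D160976)
def n166719 : Q := act 5 n80017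
theorem D166719 : act 5 n80017 = n166719 := rfl
theorem F262429 : act 2 n166719 = n160989 := d2_1 D166719 (iv5 D160989) (iv2 F254217)
theorem F262430 : act 7 n166719 = n160977 := d13_2 (iv7 F254218) D166719 (iv5 D160977)
def n166720 : Q := act 6 n80017
theorem D166720 : act 6 n80017 = n166720 := rfl
theorem F262431 : act 2 n166720 = n160990 := d3_1 D166720 (iv6 D160990) (iv2 F254217)
theorem F262432 : act 4 n166720 = n80019 := d10_1 D166720 (iv6 D80019) D80017
def n166723 : Q := act 5 n80019
theorem D166723 : act 5 n80019 = n166723 := rfl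
theorem F262434 : act 2 n166723 = n160993 := d2_1 D166723 (iv5 D160993) (iv2 F254221)
theorem F262435 : act 6 n166723 = n163508 := d12_2 D80019 D166723 (iv5 D163508) (iv6 D78573) (iv5 F250801)
def n166724 : Q := act 7 n80019
theorem D166724 : act 7 n80019 = n166724 := rfl
theorem F262436 : act 2 n166724 = n160994 := d4_1 D166724 (iv7 D160994) (iv2 F254221)
theorem F262437 : act 6 n166724 = n160983 := d14_1 D166724 (iv7 D160983) (iv6 D77253) (iv7 F254212) D80019
theorem F262439 : act 1 n160992 = n166724 := d15_1 D160992 (iv7 D166724) F254221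
theorem F262440 : act 1 n166724 = n160991 := d15_0 (iv0 D160991) D160994 (iv2 F262436)
def n166725 : Q := act 2 n80021
theorem D166725 : act 2 n80021 = n166725 := rfl
theorem F262441 : act 3 n166725 = n158895 := d0_2 D80021 D166725 F254226 (iv3 D77250) F254206
theorem F262442 : act 4 n166725 = n163723 := d1_2 F193278 D166725 (iv2 F258080)
theorem F262443 : act 5 n166725 = n157947 := d2_2 F250819 D166725 F258426
theorem F262444 : act 7 n166725 = n157819 := d4_2 (iv7 F254205) D166725 (iv2 F254190)
theorem F262445 : act 1 n166725 = n120985 := d15_0 (iv0 F254200) (iv7 F254205) D166725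
theorem F262446 : act 1 n120990 = n166725 := d15_0 F262445 (iv7 F256615) F256610
def n166726 : Q := act 6 n80021
theorem D166726 : act 6 n80021 = n166726 := rfl
theorem F262447 : act 3 n166726 = n80024 := d7_1 D166726 (iv6 D80024) D80021
def n166727 : Q := act 3 n80022
theorem D166727 : act 3 n80022 = n166727 := rfl
theorem F262448 : act 7 n166727 = n160988 := d8_2 (iv7 F254208) D166727 (iv3 D160988)
theorem F262449 : act 0 n120973 = n166727 := d20_4 F57228 (iv1 F56031) (iv4 F115768) (iv3 F192936) (iv3 D166727) (iv4 D80022) (iv1 D36446) (iv4 F57236) (iv3 D36443) D36441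
def n166728 : Q := act 5 n80022
theorem D166728 : act 5 n80022 = n166728 := rfl
theorem F262450 : act 2 n166728 = n160977 := d2_1 D166728 (iv5 D160977) (iv2 F254207)
theorem F262451 : act 7 n166728 = n160989 := d13_2 (iv7 F254208) D166728 (iv5 D160989)
def n166734 : Q := act 6 n80032
theorem D166734 : act 6 n80032 = n166734 := rfl
def n166735 : Q := act 6 n80033
theorem D166735 : act 6 n80033 = n166735 := rfl
theorem F262462 : act 2 n166735 = n80036 := d3_1 D166735 (iv6 D80036) D80033
theorem F262463 : act 4 n166735 = n157921 := d10_1 D166735 (iv6 D157921) (iv4 F258217)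
def n166736 : Q := act 3 n80034
theorem D166736 : act 3 n80034 = n166736 := rfl
theorem F262464 : act 4 n166736 = n80040 := d5_2 D80034 D166736 (iv3 D80040) (iv4 D36450) D36449
theorem F262465 : act 7 n166736 = n157923 := d8_2 (iv7 F258220) D166736 (iv3 D157923)
def n166737 : Q := act 5 n80034
theorem D166737 : act 5 n80034 = n166737 := rfl
theorem F262466 : act 2 n166737 = n157920 := d2_1 D166737 (iv5 D157920) (iv2 F258219)
theorem F262467 : act 7 n166737 = n157924 := d13_2 (iv7 F258220) D166737 (iv5 D157924)
theorem F262468 : act 0 n166737 = n86348 := d17_2 F122842 D166737 (iv5 D86348) F60820 (iv5 F45071) D58706 F201640 F60692 (iv4 F112777)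
def n166738 : Q := act 6 n80034
theorem D166738 : act 6 n80034 = n166738 := rfl
theorem F262469 : act 2 n166738 = n157921 := d3_1 D166738 (iv6 D157921) (iv2 F258219)
theorem F262470 : act 4 n166738 = n80036 := d10_1 D166738 (iv6 D80036) D80034
def n166739 : Q := act 0 n80036
theorem D166739 : act 0 n80036 = n166739 := rfl
def n166740 : Q := act 1 n80036
theorem D166740 : act 1 n80036 = n166740 := rfl
def n166741 : Q := act 5 n80036
theorem D166741 : act 5 n80036 = n166741 := rfl
def n166742 : Q := act 7 n80036
theorem D166742 : act 7 n80036 = n166742 := rfl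
theorem F262472 : act 3 n166742 = n80052 := d8_1 D166742 (iv7 D80052) (iv3 F122844)
def n166743 : Q := act 3 n80038
theorem D166743 : act 3 n80038 = n166743 := rfl
theorem F262473 : act 4 n166743 = n163338 := d5_2 (iv4 F122846) D166743 (iv3 D163338) (iv4 D78498) D78497
def n166744 : Q := act 5 n80038
theorem D166744 : act 5 n80038 = n166744 := rfl
theorem F262474 : act 0 n166744 = n121216 := d17_2 D80038 D166744 (iv5 D121216) (iv4 D55923) F254385 F254378 D35837 F56498 D36450
theorem F262475 : act 1 n166744 = n121196 := d17_6 (iv1 D157819) (iv5 F248724) (iv1 F257642) (iv5 F254094) (iv4 F122846) D166744 (iv5 D121196) D121194 F254182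
theorem F262476 : act 4 n121216 = n165969 := d18_1 F262474 (iv1 D165969) (iv4 D79692) (iv5 D36286) F28519 D17599 D36455 F122851 D166744
def n166745 : Q := act 6 n80038
theorem D166745 : act 6 n80038 = n166745 := rfl
theorem F262477 : act 4 n166745 = n163337 := d10_1 D166745 (iv6 D163337) (iv4 F122846)
def n166746 : Q := act 4 n80039
theorem D166746 : act 4 n80039 = n166746 := rfl
theorem F262479 : act 7 n166746 = n163336 := d11_2 F258177 D166746 (iv4 F258179)
theorem F262480 : act 5 n166746 = n162406 := d18_4 (iv1 F56497) D36455 (iv1 F122847) D166746 F256604 F256607 (iv4 D78644) F254378 D35837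
theorem F262481 : act 3 n157968 = n166746 := d20_5 (iv4 F248847) (iv1 F248852) (iv4 D75244) D75243 D157968 (iv4 D166746) (iv1 D80039) (iv4 D36450) D36449 (iv1 F258035)
theorem F262482 : act 0 n166746 = n86143 := d20_10 F132101 (iv1 D78708) (iv4 D35840) F28292 (iv1 F14992) D20337 (iv4 F67475) D92174 (iv4 F248858) F262481
theorem F262483 : act 1 n166746 = n163335 := d15_1 (iv0 F262482) (iv7 F261325) (iv2 F261313)
theorem E24209 : n165833 = n120958 := (c20_4 (iv4 F257640) (iv1 F262483) (iv4 D166746) (iv3 F261230) (iv1 D120958) (iv3 D55788) (iv4 D26922) (iv1 F21391) (iv4 F28520) (iv3 F56501) D78707)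
theorem F262484 : act 2 n120958 = n79645 := (sb E24209 (iv2 D165833))
theorem F262485 : act 3 n120958 = n80039 := (sb E24209 F261230)
theorem F262486 : act 7 n120958 = n79646 := (sb E24209 (iv7 F261229))
theorem E24210 : n165838 = n120957 := (c15_4 (iv0 D120957) D120958 F262486 (iv2 F261231))
theorem F262488 : act 7 n120957 = n79645 := (sb E24210 (iv7 D165838))
def n166747 : Q := act 5 n80039
theorem D166747 : act 5 n80039 = n166747 := rfl
theorem F262489 : act 0 n166747 = n121196 := d17_2 (iv1 F122847) D166747 (iv5 D121196) (iv4 D55918) F254376 (iv0 F254375) F28295 D17599 D36455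
theorem F262490 : act 1 n166747 = n121216 := d17_6 (iv1 F256614) (iv5 D162408) D162406 (iv5 F262480) (iv4 D166746) D166747 (iv5 D121216) F193283 F193278
def n166748 : Q := act 6 n80039
theorem D166748 : act 6 n80039 = n166748 := rfl
def n166749 : Q := act 1 n80040
theorem D166749 : act 1 n80040 = n166749 := rfl
theorem F262491 : act 4 n165912 = n166749 := d20_0 (iv1 D166749) (iv4 F262464) (iv3 D166736) F122841 (iv3 D39880) (iv4 D18868) F29224 D37677 (iv3 F122362) D165912
def n166750 : Q := act 2 n80040
theorem D166750 : act 2 n80040 = n166750 := rfl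
def n166751 : Q := act 5 n80040
theorem D166751 : act 5 n80040 = n166751 := rfl
theorem F262492 : act 3 n166751 = n80041 := d6_1 D166751 (iv5 D80041) D80040
def n166752 : Q := act 6 n80040
theorem D166752 : act 6 n80040 = n166752 := rfl
theorem F262493 : act 3 n166752 = n80042 := d7_1 D166752 (iv6 D80042) D80040
def n166753 : Q := act 0 n80041
theorem D166753 : act 0 n80041 = n166753 := rfl
theorem F262494 : act 5 n166753 = n160986 := d17_3 (iv1 D80039) D80041 D166753 (iv4 D160986) F254067 F256631 (iv5 F256337) (iv0 F262482) (iv4 D166746)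
theorem F262495 : act 1 n80061 = n166753 := d15_0 (iv0 D166753) F258249 (iv2 F258250)
def n166754 : Q := act 1 n80041
theorem D166754 : act 1 n80041 = n166754 := rfl
theorem F262496 : act 1 n166754 = n80061 := d15_1 D166754 (iv7 F258264) F258263
theorem F262497 : act 5 n166754 = n163723 := d17_7 F248740 F30126 D27108 (iv5 F194345) D36450 D80041 D166754 F258078 (iv4 D78679)
theorem F262498 : act 3 n165772 = n166754 := d6_3 F262497 (iv3 F258081) D165772
def n166755 : Q := act 4 n80041
theorem D166755 : act 4 n80041 = n166755 := rfl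
def n166756 : Q := act 6 n80041
theorem D166756 : act 6 n80041 = n166756 := rfl
def n166761 : Q := act 2 n80049
theorem D166761 : act 2 n80049 = n166761 := rfl
def n166762 : Q := act 3 n80049
theorem D166762 : act 3 n80049 = n166762 := rfl
def n166763 : Q := act 4 n80049
theorem D166763 : act 4 n80049 = n166763 := rfl
def n166764 : Q := act 5 n80049
theorem D166764 : act 5 n80049 = n166764 := rfl
def n166765 : Q := act 6 n80049
theorem D166765 : act 6 n80049 = n166765 := rfl
def n166766 : Q := act 7 n80049
theorem D166766 : act 7 n80049 = n166766 := rfl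
def n166775 : Q := act 6 n80054
theorem D166775 : act 6 n80054 = n166775 := rfl
def n166776 : Q := act 4 n80056
theorem D166776 : act 4 n80056 = n166776 := rfl
theorem F262503 : act 2 n166776 = n80057 := d1_1 D166776 (iv4 D80057) D80056
theorem F262504 : act 7 n166776 = n163502 := d11_2 F258193 D166776 F258255
theorem F262505 : act 0 n166776 = n121117 := d18_2 (iv1 F258227) D166776 (iv4 D121117) F254069 D77251 D160975 F254409 F254422 (iv5 F257740)
theorem F262506 : act 1 n166776 = n121122 := d18_6 (iv1 F88453) D78498 (iv1 F257634) F258254 F194361 D166776 (iv4 D121122) F88407 (iv5 F88449)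
theorem F262507 : act 3 n166776 = n161008 := d20_3 D163454 (iv1 F258227) D166776 (iv1 D161008) (iv3 D77265) (iv4 D35271) F28063 D17340 D35786 D78551
def n166777 : Q := act 6 n80056
theorem D166777 : act 6 n80056 = n166777 := rfl
theorem F262508 : act 2 n166777 = n80059 := d3_1 D166777 (iv6 D80059) D80056
def n166778 : Q := act 3 n80057
theorem D166778 : act 3 n80057 = n166778 := rfl
theorem F262509 : act 4 n166778 = n80060 := d5_2 D80057 D166778 (iv3 D80060) (iv4 D36455) D36454
def n166779 : Q := act 5 n80057
theorem D166779 : act 5 n80057 = n166779 := rfl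
theorem F262510 : act 0 n166779 = n163656 := d17_2 F122857 D166779 (iv5 D163656) (iv4 D78630) F250813 F88452 (iv5 F88404) F88406 D78571
theorem F262511 : act 1 n166779 = n163649 := d17_6 (iv1 D86279) D86281 F254307 F194341 D80057 D166779 (iv5 D163649) D163647 (iv4 F257988)
def n166780 : Q := act 6 n80057
theorem D166780 : act 6 n80057 = n166780 := rfl
theorem F262512 : act 4 n166780 = n80059 := d10_1 D166780 (iv6 D80059) D80057
def n166785 : Q := act 2 n80060
theorem D166785 : act 2 n80060 = n166785 := rfl
def n166786 : Q := act 5 n80060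
theorem D166786 : act 5 n80060 = n166786 := rfl
theorem F262515 : act 3 n166786 = n80061 := d6_1 D166786 (iv5 D80061) D80060
def n166787 : Q := act 6 n80060
theorem D166787 : act 6 n80060 = n166787 := rfl
def n166788 : Q := act 4 n80061
theorem D166788 : act 4 n80061 = n166788 := rfl
def n166789 : Q := act 6 n80061
theorem D166789 : act 6 n80061 = n166789 := rfl
def n166808 : Q := act 3 n80069
theorem D166808 : act 3 n80069 = n166808 := rfl
theorem F262521 : act 4 n166808 = n80070 := d5_2 D80069 D166808 (iv3 D80070) (iv4 D36459) D36458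
def n166810 : Q := act 0 n80070
theorem D166810 : act 0 n80070 = n166810 := rfl
def n166811 : Q := act 1 n80070
theorem D166811 : act 1 n80070 = n166811 := rfl
def n166812 : Q := act 2 n80070
theorem D166812 : act 2 n80070 = n166812 := rfl
def n166813 : Q := act 5 n80070
theorem D166813 : act 5 n80070 = n166813 := rfl
theorem F262522 : act 3 n166813 = n80071 := d6_1 D166813 (iv5 D80071) D80070
def n166815 : Q := act 6 n80071
theorem D166815 : act 6 n80071 = n166815 := rfl
theorem F262523 : act 0 n162804 = n166815 := d21_4 (iv5 D35674) D35671 D78262 D162804 (iv6 D166815) (iv5 D80071) (iv1 F60699) (iv5 F91899) (iv6 D58104) (iv1 F56359)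
def n166816 : Q := act 6 n80072
theorem D166816 : act 6 n80072 = n166816 := rfl
theorem F262524 : act 2 n166816 = n114461 := d3_1 D166816 (iv6 D114461) F122864
theorem F262525 : act 4 n166816 = n122659 := d10_1 D166816 (iv6 D122659) (iv4 F122863)
def n166817 : Q := act 6 n80073
theorem D166817 : act 6 n80073 = n166817 := rfl
theorem F262526 : act 2 n166817 = n80074 := d3_1 D166817 (iv6 D80074) D80073
theorem F262529 : act 1 n166817 = n153353 := d15_0 (iv0 F240927) F195173 (iv2 F262526)
def n166818 : Q := act 0 n80074
theorem D166818 : act 0 n80074 = n166818 := rfl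
theorem F262531 : act 4 n166818 = n153337 := d20_0 (iv1 F240908) (iv4 F240574) F240573 (iv1 F190489) (iv3 D37043) (iv4 D17827) F120739 (iv4 F57258) (iv3 F122873) D166818
def n166824 : Q := act 7 n80075
theorem D166824 : act 7 n80075 = n166824 := rfl
theorem F262538 : act 4 n166824 = n82452 := d11_1 D166824 (iv7 D82452) (iv4 F122876)
theorem F262539 : act 6 n166824 = n160687 := d14_1 D166824 (iv7 D160687) (iv6 D77069) (iv7 F57255) D80075
def n166837 : Q := act 5 n80081
theorem D166837 : act 5 n80081 = n166837 := rfl
theorem F262566 : act 1 n166837 = n86323 := d17_6 D70426 F185392 (iv1 F185391) (iv5 F107409) (iv4 F122887) D166837 (iv5 D86323) (iv0 F94753) F94752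
def n166838 : Q := act 6 n80081
theorem D166838 : act 6 n80081 = n166838 := rfl
theorem F262568 : act 2 n166838 = n127888 := d3_1 D166838 (iv6 D127888) F122888
theorem F262569 : act 4 n166838 = n150441 := d10_1 D166838 (iv6 D150441) (iv4 F122887)
def n166839 : Q := act 6 n80082
theorem D166839 : act 6 n80082 = n166839 := rfl
def n166840 : Q := act 6 n80083
theorem D166840 : act 6 n80083 = n166840 := rfl
def n166841 : Q := act 0 n80084
theorem D166841 : act 0 n80084 = n166841 := rfl
theorem F262574 : act 2 n127996 = n166841 := d15_3 (iv0 D166841) (iv0 F241458) F241457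
def n166843 : Q := act 0 n80085
theorem D166843 : act 0 n80085 = n166843 := rfl
def n166844 : Q := act 1 n80085
theorem D166844 : act 1 n80085 = n166844 := rfl
theorem F262577 : act 1 n166844 = n160687 := d15_1 D166844 (iv7 D160687) (iv2 F122899)
def n166845 : Q := act 5 n80085
theorem D166845 : act 5 n80085 = n166845 := rfl
def n166846 : Q := act 7 n80085
theorem D166846 : act 7 n80085 = n166846 := rfl
theorem F262580 : act 2 n166846 = n160687 := d4_1 D166846 (iv7 D160687) (iv2 F122899)
theorem F262582 : act 6 n166846 = n160700 := d14_1 D166846 (iv7 D160700) (iv6 D77087) (iv7 F57273) D80085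
theorem F262583 : act 1 n160687 = n166843 := d15_0 (iv0 D166843) D166846 F262580
theorem F262584 : act 1 n160685 = n166846 := d15_1 D160685 (iv7 D166846) F122899
theorem F262585 : act 1 n166846 = n160684 := d15_0 (iv0 D160684) D160687 (iv2 F262580)
def n166847 : Q := act 5 n80086
theorem D166847 : act 5 n80086 = n166847 := rfl
theorem F262588 : act 0 n166847 = n162766 := d17_2 D80086 D166847 (iv5 D162766) (iv4 D78224) (iv5 F121418) (iv0 D36731) (iv5 D17706) (iv0 F121355) (iv4 F57275)
theorem F262589 : act 1 n166847 = n162768 := d17_6 D82462 F127042 F127004 (iv5 D82430) (iv4 F122901) D166847 (iv5 D162768) F127051 (iv4 D82463)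
def n166848 : Q := act 6 n80086
theorem D166848 : act 6 n80086 = n166848 := rfl
theorem F262593 : act 5 n166848 = n160604 := d21_6 D56647 F89593 (iv5 D36470) D36471 D80086 D166848 (iv1 D160604) (iv5 D76999) (iv6 D35175) (iv1 F44051)
def n166852 : Q := act 1 n80088
theorem D166852 : act 1 n80088 = n166852 := rfl
theorem F262604 : act 1 n166852 = n161134 := d15_1 D166852 (iv7 D161134) (iv2 F122906)
theorem F262606 : act 3 n160862 = n166852 := d20_3 (iv4 F198759) (iv1 F253410) (iv4 F258377) (iv1 D166852) F122907 (iv4 F113700) (iv1 F250169) (iv4 D158079) (iv3 F255020) (iv1 F115531)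
theorem F262607 : act 2 n166852 = n161133 := d0_1 F262606 F256709 F256681 D78040 (iv2 F258376)
theorem F262608 : act 4 n91836 = n166569 := d20_0 (iv1 F262116) F257110 (iv3 F254739) (iv1 F262604) (iv3 F262606) F258377 (iv1 D160422) F115530 (iv3 F67263) D91836
theorem F262609 : act 3 n91836 = n84550 := d20_3 (iv4 F122702) D166569 (iv4 F262608) (iv1 D84550) F60012 (iv4 F60084) (iv1 F60705) (iv4 D35856) D35855 F255036
def n166853 : Q := act 7 n80088
theorem D166853 : act 7 n80088 = n166853 := rfl
theorem F262611 : act 3 n166853 = n88658 := d8_1 D166853 F135973 (iv3 F122907)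
theorem F262612 : act 5 n166853 = n162165 := d13_1 D166853 (iv7 D162165) (iv5 F122908)
def n166854 : Q := act 0 n80089
theorem D166854 : act 0 n80089 = n166854 := rfl
theorem F262617 : act 1 n161137 = n166854 := d15_0 (iv0 D166854) F122910 D161137
theorem F262618 : act 4 n162420 = n166854 := d20_0 (iv1 F262617) F254742 (iv3 F193640) (iv1 F193644) D162302 (iv4 F256604) F256608 (iv4 D78009) D78008 D162420
def n166856 : Q := act 2 n80089
theorem D166856 : act 2 n80089 = n166856 := rfl
theorem F262620 : act 4 n166856 = n80116 := d1_2 (iv4 F122909) D166856 (iv2 D80116)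
def n166857 : Q := act 5 n80091
theorem D166857 : act 5 n80091 = n166857 := rfl
theorem F262628 : act 0 n166857 = n84179 := d17_2 (iv1 F122911) D166857 (iv5 F129223) D158715 F256861 F256860 (iv5 D78122) F119292 (iv4 F124298)
def n166858 : Q := act 6 n80091
theorem D166858 : act 6 n80091 = n166858 := rfl
theorem F262633 : act 2 n166858 = n81857 := d3_1 D166858 (iv6 D81857) F125831
theorem F262638 : act 0 n82146 = n166858 := d21_4 (iv5 F199348) (iv1 F199356) (iv5 D82920) F126557 (iv6 D166858) D166857 F262628 (iv5 F129223) F249888 (iv1 D158713)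
def n166861 : Q := act 5 n80103
theorem D166861 : act 5 n80103 = n166861 := rfl
theorem F262650 : act 4 n166861 = n121924 := d17_4 (iv1 F124360) D36480 D80103 D166861 F194610 (iv0 D79349) (iv5 D36123) D36122 F121769
theorem F262651 : act 1 n166861 = n82468 := d17_8 (iv1 F259742) F259740 (iv1 F192695) F121993 (iv4 F89267) (iv5 F193983) F193986 D166861 (iv4 F194440)
theorem F262653 : act 0 n121959 = n82471 := d20_7 F262650 (iv1 F259696) F259698 (iv3 F250478) F250476 (iv3 F121384) D121959 F127066 (iv3 F127065) (iv1 F262651)
def n166862 : Q := act 3 n80104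
theorem D166862 : act 3 n80104 = n166862 := rfl
theorem F262654 : act 6 n166862 = n80107 := d7_2 (iv6 F122921) D166862 (iv3 D80107)
def n166865 : Q := act 0 n80107
theorem D166865 : act 0 n80107 = n166865 := rfl
theorem F262663 : act 1 n120972 = n166865 := d15_0 (iv0 D166865) F122931 D120972
def n166866 : Q := act 1 n80107
theorem D166866 : act 1 n80107 = n166866 := rfl
def n166867 : Q := act 2 n80107
theorem D166867 : act 2 n80107 = n166867 := rfl
theorem F262664 : act 3 n166867 = n120979 := d0_2 D80107 D166867 (iv2 D120979) (iv3 D55796) (iv2 F57299)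
theorem F262665 : act 7 n166867 = n120972 := d4_2 (iv7 F122931) D166867 (iv2 D120972)
theorem F262666 : act 1 n166867 = n120970 := d15_0 (iv0 D120970) (iv7 F122931) D166867
theorem F262667 : act 1 n166866 = n120972 := d15_1 D166866 (iv7 F262665) (iv2 D166867)
theorem F262668 : act 1 n120971 = n166867 := d15_1 D120971 F262665 (iv2 D120972)
def n166869 : Q := act 1 n80108
theorem D166869 : act 1 n80108 = n166869 := rfl
def n166870 : Q := act 2 n80108
theorem D166870 : act 2 n80108 = n166870 := rfl
theorem F262671 : act 4 n166870 = n158008 := d1_2 (iv4 F122932) D166870 (iv2 D158008)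
theorem F262672 : act 7 n166870 = n161241 := d4_2 (iv7 F122933) D166870 (iv2 D161241)
theorem F262673 : act 1 n166870 = n161239 := d15_0 (iv0 D161239) (iv7 F122933) D166870
theorem F262674 : act 1 n166869 = n161241 := d15_1 D166869 (iv7 F262672) (iv2 D166870)
def n166872 : Q := act 6 n80108
theorem D166872 : act 6 n80108 = n166872 := rfl
theorem F262678 : act 3 n166872 = n80110 := d7_1 D166872 (iv6 D80110) D80108
theorem F262679 : act 4 n166872 = n82913 := d10_1 D166872 F127742 (iv4 F122932)
def n166875 : Q := act 1 n80111
theorem D166875 : act 1 n80111 = n166875 := rfl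
theorem F262687 : act 7 n166875 = n163760 := d15_2 (iv0 F122946) D166875 (iv2 D163760)
theorem F262688 : act 2 n161248 = n166875 := d4_3 F262687 (iv2 D163760) F255069
theorem F262691 : act 3 n166875 = n163709 := d0_2 (iv3 F255068) F262688 (iv2 D163709) (iv3 D78656) (iv2 F119813)
def n166876 : Q := act 2 n80111
theorem D166876 : act 2 n80111 = n166876 := rfl
theorem F262694 : act 4 n166876 = n160885 := d1_2 (iv4 F122944) D166876 (iv2 D160885)
def n166877 : Q := act 5 n80111
theorem D166877 : act 5 n80111 = n166877 := rfl
theorem F262698 : act 3 n166877 = n80112 := d6_1 D166877 (iv5 D80112) D80111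
def n166882 : Q := act 2 n80114
theorem D166882 : act 2 n80114 = n166882 := rfl
theorem F262710 : act 7 n80115 = n166882 := d15_2 (iv0 D80114) D80115 (iv2 D166882)
def n166883 : Q := act 3 n80114
theorem D166883 : act 3 n80114 = n166883 := rfl
theorem F262711 : act 4 n166883 = n157748 := d20_6 F28195 (iv1 F13431) D17614 D36486 D80114 D166883 (iv1 D157748) (iv4 F116401) (iv3 D77517) (iv1 F56111)
def n166885 : Q := act 5 n80114
theorem D166885 : act 5 n80114 = n166885 := rfl
theorem F262714 : act 4 n166885 = n90093 := d19_2 D80114 D166885 F138493 F65032 (iv5 D23673) (iv4 D11085) F7513 F3377 (iv5 D1833) (iv4 D958) D957 F2875 (iv5 F2266) (iv4 F4162) (iv3 F9578) F16976 D8286 D17614 D36486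
theorem F262715 : act 7 n161259 = n166885 := d11_0 F262714 F138494 (iv4 F255081)
theorem E24213 : n161261 = n80114 := ((c13_2 F262715 (iv5 D166885) (iv7 D161261) D161259)).symm
theorem E24214 : n166882 = n77412 := ((D166882).symm.trans (sb E24213 F255082))
theorem F262716 : act 7 n80114 = n77411 := (sb E24213 (iv7 D161261))
theorem E24215 : n161256 = n80115 := ((F255078).symm.trans (sb E24214 (iv7 F262710)))
theorem F262718 : act 2 n80115 = n77411 := (sb E24215 (iv2 D161256))
theorem F262719 : act 7 n80115 = n77412 := (sb E24215 (iv7 F255078))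
theorem F262723 : act 7 n161257 = n166883 := d8_2 F262716 D161257 (iv3 D166883)
theorem F262724 : act 7 n157748 = n81510 := d11_2 F262723 F262711 (iv4 F255079)
theorem F262725 : act 2 n81510 = n157747 := d15_3 (iv0 D157747) D157748 F262724
theorem F262726 : act 2 n157748 = n81509 := d15_3 (iv0 D81509) D81510 (iv7 F262724)
theorem F262728 : act 7 n81509 = n157747 := d4_2 (iv7 F262724) F262726 (iv2 F262725)
def n166888 : Q := act 4 n80115
theorem D166888 : act 4 n80115 = n166888 := rfl
theorem F262732 : act 7 n166888 = n161263 := d11_2 (iv7 F262719) D166888 (iv4 D161263)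
theorem F262733 : act 5 n166888 = n90231 := d16_1 D166888 (iv4 D90231) (iv5 D42173) (iv4 F65027) D90093 (iv4 F262714) (iv5 D166885) F262716 (iv2 F262718)
theorem F262734 : act 3 n157864 = n166888 := d20_5 (iv4 D18902) F27391 D34438 D75206 D157864 (iv4 D166888) (iv1 D80115) (iv4 F122909) (iv3 D80089) F57289
theorem F262735 : act 7 n122325 = n157864 := d8_0 F262734 F262732 (iv3 F255084)
theorem F262736 : act 2 n157864 = n122326 := d15_3 F248786 F248784 F262735
theorem F262737 : act 2 n122325 = n157865 := d15_3 F248785 F248781 (iv7 F262735)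
theorem F262738 : act 7 n157865 = n122326 := d4_2 (iv7 F262735) F262737 (iv2 F262736)
def n166889 : Q := act 5 n80115
theorem D166889 : act 5 n80115 = n166889 := rfl
def n166894 : Q := act 4 n80117
theorem D166894 : act 4 n80117 = n166894 := rfl
theorem F262749 : act 3 n166894 = n95411 := d5_1 D166894 F260172 (iv3 D164994) F121649 (iv3 F122960)
theorem F262751 : act 5 n166894 = n90225 := d16_5 F248830 F248829 F122909 D80117 D166894 (iv4 D90225) D90226 (iv7 F254753) F254763
def n166899 : Q := act 6 n80120
theorem D166899 : act 6 n80120 = n166899 := rfl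
theorem F262759 : act 3 n166899 = n80123 := d7_1 D166899 (iv6 D80123) D80120
def n166900 : Q := act 6 n80121
theorem D166900 : act 6 n80121 = n166900 := rfl
theorem F262760 : act 4 n166900 = n80123 := d10_1 D166900 (iv6 D80123) D80121
def n166901 : Q := act 6 n80122
theorem D166901 : act 6 n80122 = n166901 := rfl
theorem F262761 : act 2 n166901 = n123077 := d3_1 D166901 (iv6 D123077) (iv2 F125380)
theorem F262762 : act 3 n166901 = n98138 := d7_1 D166901 (iv6 D98138) (iv3 F122977)
theorem F262763 : act 4 n166901 = n122556 := d10_1 D166901 (iv6 D122556) F122968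
def n166902 : Q := act 0 n80123
theorem D166902 : act 0 n80123 = n166902 := rfl
def n166904 : Q := act 5 n80123
theorem D166904 : act 5 n80123 = n166904 := rfl
def n166905 : Q := act 7 n80123
theorem D166905 : act 7 n80123 = n166905 := rfl
def n166906 : Q := act 6 n80125
theorem D166906 : act 6 n80125 = n166906 := rfl
def n166907 : Q := act 6 n80126
theorem D166907 : act 6 n80126 = n166907 := rfl
theorem F262767 : act 4 n166907 = n80128 := d10_1 D166907 (iv6 D80128) D80126
def n166908 : Q := act 6 n80127
theorem D166908 : act 6 n80127 = n166908 := rfl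
theorem F262768 : act 2 n166908 = n123087 := d3_1 D166908 (iv6 D123087) F125381
theorem F262769 : act 4 n166908 = n122554 := d10_1 D166908 (iv6 D122554) (iv4 F122987)
def n166909 : Q := act 0 n80128
theorem D166909 : act 0 n80128 = n166909 := rfl
def n166910 : Q := act 1 n80128
theorem D166910 : act 1 n80128 = n166910 := rfl
def n166911 : Q := act 5 n80128
theorem D166911 : act 5 n80128 = n166911 := rfl
def n166912 : Q := act 7 n80128
theorem D166912 : act 7 n80128 = n166912 := rfl
def n166923 : Q := act 3 n80131
theorem D166923 : act 3 n80131 = n166923 := rfl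
theorem F262775 : act 4 n166923 = n157560 := d20_6 (iv4 D33272) (iv1 F52440) (iv4 F108316) (iv3 F239398) (iv1 F239400) D166923 (iv1 D157560) (iv4 F116245) F116244 F191282
def n166944 : Q := act 0 n80138
theorem D166944 : act 0 n80138 = n166944 := rfl
def n166945 : Q := act 1 n80138
theorem D166945 : act 1 n80138 = n166945 := rfl
def n166946 : Q := act 2 n80138
theorem D166946 : act 2 n80138 = n166946 := rfl
theorem F262790 : act 3 n166946 = n80311 := d0_2 D80138 D166946 (iv2 D80311) (iv3 D36588) (iv2 F117038)
theorem F262791 : act 4 n166946 = n81760 := d1_2 (iv4 F123001) D166946 (iv2 D81760)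
theorem F262792 : act 7 n166946 = n80325 := d4_2 (iv7 F123002) D166946 (iv2 D80325)
theorem F262793 : act 1 n166946 = n80323 := d15_0 (iv0 D80323) (iv7 F123002) D166946
theorem F262795 : act 1 n80324 = n166946 := d15_1 D80324 F262792 (iv2 D80325)
def n166947 : Q := act 5 n80138
theorem D166947 : act 5 n80138 = n166947 := rfl
def n166948 : Q := act 6 n80138
theorem D166948 : act 6 n80138 = n166948 := rfl
theorem F262798 : act 3 n166948 = n80140 := d7_1 D166948 (iv6 D80140) D80138
theorem F262799 : act 4 n166948 = n81762 := d10_1 D166948 (iv6 D81762) (iv4 F123001)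
theorem F262800 : act 5 n121491 = n166948 := d6_0 F262798 F123007 D121491
def n166949 : Q := act 0 n80139
theorem D166949 : act 0 n80139 = n166949 := rfl
theorem F262801 : act 5 n166949 = n80375 := d17_3 D36496 D80139 D166949 (iv4 D80375) F91202 F57334 (iv5 D36503) (iv0 D17619) (iv4 F28653)
theorem F262804 : act 3 n124989 = n166949 := d6_3 F262801 F123487 D124989
def n166950 : Q := act 1 n80139
theorem D166950 : act 1 n80139 = n166950 := rfl
theorem F262806 : act 1 n166950 = n80142 := d15_1 D166950 F123011 (iv2 F123003)
theorem F262808 : act 5 n166950 = n80374 := d17_7 F129148 (iv5 D84122) (iv1 F118680) (iv5 D37370) F57326 D80139 D166950 (iv0 F123484) (iv4 F123054)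
theorem F262809 : act 2 n80316 = n166950 := d2_3 F262808 F123481 F123399
def n166951 : Q := act 4 n80139
theorem D166951 : act 4 n80139 = n166951 := rfl
theorem F262810 : act 2 n166951 = n80317 := d1_1 D166951 (iv4 D80317) (iv2 F123003)
theorem F262811 : act 7 n166951 = n80329 := d11_2 (iv7 F123004) D166951 (iv4 D80329)
def n166952 : Q := act 6 n80139
theorem D166952 : act 6 n80139 = n166952 := rfl
theorem F262814 : act 5 n166952 = n121493 := d12_1 D166952 (iv6 D121493) (iv5 F123007) (iv6 D80140) D80139
def n166953 : Q := act 1 n80140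
theorem D166953 : act 1 n80140 = n166953 := rfl
theorem F262816 : act 7 n166953 = n80238 := d15_2 (iv0 F123008) D166953 F123275
theorem F262818 : act 6 n80191 = n166953 := d21_3 D56068 D121446 F193797 (iv1 D166953) (iv6 D80140) D80139 D166949 F262801 F123488 F116693
theorem F262819 : act 2 n166953 = n80320 := d3_1 F262818 (iv6 F123400) (iv2 F123162)
def n166954 : Q := act 7 n80140
theorem D166954 : act 7 n80140 = n166954 := rfl
theorem F262821 : act 4 n166954 = n81755 := d11_1 D166954 (iv7 D81755) (iv4 F123006)
theorem F262822 : act 5 n166954 = n121401 := d13_1 D166954 F193668 (iv5 F123007)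
theorem F262824 : act 1 n80320 = n166954 := d15_1 D80320 (iv7 D166954) F123005
theorem F262825 : act 1 n166954 = n80238 := d15_1 F262824 (iv7 F262816) F262819
def n166955 : Q := act 0 n80141
theorem D166955 : act 0 n80141 = n166955 := rfl
theorem F262826 : act 1 n80311 = n166955 := d15_0 (iv0 D166955) F123009 D80311
def n166956 : Q := act 1 n80141
theorem D166956 : act 1 n80141 = n166956 := rfl
def n166957 : Q := act 2 n80141
theorem D166957 : act 2 n80141 = n166957 := rfl
theorem F262828 : act 7 n166957 = n80311 := d4_2 (iv7 F123009) D166957 (iv2 D80311)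
theorem F262830 : act 1 n166956 = n80311 := d15_1 D166956 (iv7 F262828) (iv2 D166957)
theorem F262831 : act 1 n80310 = n166957 := d15_1 D80310 F262828 (iv2 D80311)
def n166962 : Q := act 5 n80143
theorem D166962 : act 5 n80143 = n166962 := rfl
theorem F262838 : act 2 n166962 = n80333 := d2_1 D166962 (iv5 D80333) (iv2 F123012)
theorem F262839 : act 0 n166962 = n121435 := d17_2 (iv1 F249207) D166962 (iv5 D121435) (iv4 D56060) D56061 (iv0 F88727) (iv5 F57340) (iv0 F91259) (iv4 F116132)
theorem F262840 : act 1 n166962 = n86855 := d17_6 D36791 D80617 (iv1 F255840) F255838 F196404 D166962 (iv5 D86855) F125928 F43709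
def n166963 : Q := act 7 n80143
theorem D166963 : act 7 n80143 = n166963 := rfl
theorem F262843 : act 4 n166963 = n164633 := d11_1 D166963 F259599 F196404
theorem F262846 : act 1 n80190 = n166963 := d15_1 (iv0 F193768) (iv7 D166963) F123012
theorem F262847 : act 1 n166963 = n80331 := d15_1 F262846 (iv7 F123413) (iv2 F123160)
theorem F262848 : act 0 n161315 = n152731 := d20_4 F262843 (iv1 D164633) F120396 (iv3 F255136) F239936 F108529 (iv1 F130936) D117848 F184793 (iv1 F262847)
def n166964 : Q := act 3 n80144
theorem D166964 : act 3 n80144 = n166964 := rfl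
def n166970 : Q := act 0 n80148
theorem D166970 : act 0 n80148 = n166970 := rfl
theorem F262859 : act 4 n166970 = n81804 := d18_1 D166970 (iv1 F196632) F196630 (iv5 F91109) D123037 (iv0 F197173) F119934 (iv0 F123029) F123028
theorem F262860 : act 6 n166970 = n80195 := d21_5 F123536 (iv1 F123520) (iv5 D80147) D80148 D166970 (iv5 F256087) (iv1 F256089) (iv5 F253919) (iv6 D122625) (iv1 F123533)
def n166971 : Q := act 7 n80148
theorem D166971 : act 7 n80148 = n166971 := rfl
theorem F262865 : act 2 n166971 = n122627 := d4_1 D166971 (iv7 D122627) (iv2 F123025)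
theorem F262866 : act 3 n166971 = n80155 := d8_1 D166971 (iv7 D80155) (iv3 F123026)
theorem F262867 : act 4 n166971 = n122725 := d11_1 D166971 (iv7 D122725) (iv4 F123027)
theorem F262868 : act 5 n166971 = n120282 := d13_1 D166971 F197189 F123028
theorem F262870 : act 1 n122626 = n166971 := d15_1 D122626 (iv7 D166971) F123025
theorem F262871 : act 1 n166971 = n80206 := d15_1 F262870 (iv7 F261736) F261733
def n166972 : Q := act 0 n80150
theorem D166972 : act 0 n80150 = n166972 := rfl
theorem F262872 : act 2 n80394 = n166972 := d15_3 (iv0 D166972) (iv0 F191289) (iv7 F239445)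
theorem F262873 : act 1 n80395 = n166972 := d15_0 (iv0 D166972) F123036 D80395
theorem F262874 : act 6 n166972 = n161286 := d3_2 F259303 F262872 F259305
theorem F262875 : act 7 n166972 = n80212 := d4_2 (iv7 F239445) F262872 F123223
def n166973 : Q := act 2 n80150
theorem D166973 : act 2 n80150 = n166973 := rfl
theorem F262878 : act 4 n166973 = n122719 := d1_2 (iv4 F123035) D166973 (iv2 D122719)
theorem F262880 : act 1 n166973 = n80212 := d15_0 F239446 (iv7 F123036) D166973
theorem F262881 : act 1 n80394 = n166973 := d15_0 F262880 (iv7 F262875) (iv2 F262872)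
def n166975 : Q := act 6 n80150
theorem D166975 : act 6 n80150 = n166975 := rfl
theorem F262884 : act 3 n166975 = n80152 := d7_1 D166975 (iv6 D80152) D80150
def n166976 : Q := act 0 n80151
theorem D166976 : act 0 n80151 = n166976 := rfl
theorem F262886 : act 5 n166976 = n80377 := d17_3 (iv1 F118740) D80151 D166976 F123498 D84122 (iv0 F129148) F123055 (iv0 D34534) (iv4 F54778)
theorem F262888 : act 2 n80367 = n166976 := d2_3 F262886 (iv2 F123499) (iv5 F123474)
def n166977 : Q := act 1 n80151
theorem D166977 : act 1 n80151 = n166977 := rfl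
theorem F262890 : act 1 n166977 = n80158 := d15_1 D166977 F123082 (iv2 F123037)
theorem F262891 : act 7 n166977 = n80367 := d15_2 (iv0 D166976) D166977 F262888
theorem F262892 : act 5 n166977 = n80376 := d17_7 D36620 F57479 F89352 (iv5 D36503) D36502 D80151 D166977 (iv0 D80376) (iv4 D36622)
def n166978 : Q := act 4 n80151
theorem D166978 : act 4 n80151 = n166978 := rfl
theorem F262896 : act 5 n166978 = n162001 := d16_1 D166978 (iv4 D162001) (iv5 D77813) F56188 F28655 D36507 D80158 F123082 (iv2 F123037)
def n166980 : Q := act 1 n80152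
theorem D166980 : act 1 n80152 = n166980 := rfl
theorem F262899 : act 7 n166980 = n80229 := d15_2 (iv0 F254854) D166980 F123253
theorem F262901 : act 6 n158203 = n166980 := d21_3 D56035 D121418 (iv5 F249196) (iv1 D166980) (iv6 D80152) D80151 D166976 F262886 (iv6 F123500) F91418
theorem F262902 : act 2 n166980 = n80371 := d3_1 F262901 F194940 (iv2 F249194)
def n166981 : Q := act 5 n80152
theorem D166981 : act 5 n80152 = n166981 := rfl
theorem F262903 : act 2 n166981 = n80372 := d2_1 D166981 (iv5 D80372) (iv2 F123039)
def n166982 : Q := act 7 n80152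
theorem D166982 : act 7 n80152 = n166982 := rfl
theorem F262907 : act 2 n166982 = n80373 := d4_1 D166982 (iv7 D80373) (iv2 F123039)
theorem F262908 : act 4 n166982 = n80155 := d11_1 D166982 (iv7 D80155) (iv4 F123040)
theorem F262910 : act 1 n80371 = n166982 := d15_1 D80371 (iv7 D166982) F123039
theorem F262911 : act 1 n166982 = n80229 := d15_1 F262910 (iv7 F262899) F262902
def n166984 : Q := act 7 n80156
theorem D166984 : act 7 n80156 = n166984 := rfl
theorem F262921 : act 1 n80162 = n166984 := d15_1 (iv0 F152294) (iv7 D166984) F123075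
def n166987 : Q := act 2 n80157
theorem D166987 : act 2 n80157 = n166987 := rfl
theorem F262924 : act 3 n166987 = n80395 := d0_2 D80157 D166987 (iv2 D80395) (iv3 D36636) (iv2 F91344)
theorem F262925 : act 4 n166987 = n122420 := d1_2 (iv4 F123079) D166987 (iv2 D122420)
def n166988 : Q := act 5 n80157
theorem D166988 : act 5 n80157 = n166988 := rfl
theorem F262930 : act 3 n166988 = n80158 := d6_1 D166988 (iv5 D80158) D80157
theorem F262931 : act 7 n166988 = n80365 := d13_2 (iv7 F123080) D166988 (iv5 D80365)
def n166989 : Q := act 6 n80157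
theorem D166989 : act 6 n80157 = n166989 := rfl
theorem F262932 : act 3 n166989 = n80159 := d7_1 D166989 (iv6 D80159) D80157
def n166990 : Q := act 4 n80158
theorem D166990 : act 4 n80158 = n166990 := rfl
theorem F262936 : act 7 n166990 = n80369 := d11_2 (iv7 F123082) D166990 (iv4 D80369)
def n166993 : Q := act 7 n80159
theorem D166993 : act 7 n80159 = n166993 := rfl
theorem F262946 : act 1 n80180 = n166993 := d15_1 (iv0 F250441) (iv7 D166993) F123083
def n166994 : Q := act 0 n80161
theorem D166994 : act 0 n80161 = n166994 := rfl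
theorem F262948 : act 5 n166994 = n85896 := d17_1 D166994 (iv1 F132600) (iv5 D81830) (iv4 F117196) D122338 (iv0 F250630) (iv5 D159171) F250614 F250612
theorem F262949 : act 4 n166994 = n85865 := d18_1 D166994 (iv1 F131724) (iv4 D76076) (iv5 D34760) D34759 F87876 (iv4 F112742) F112746 D80161
theorem F262953 : act 1 n80163 = n166994 := d15_0 (iv0 D166994) F123091 (iv2 F123096)
theorem F262955 : act 0 n100823 = n150232 := d20_4 (iv4 F262949) (iv1 F262953) (iv4 F195785) F195784 F236435 F107179 (iv1 F155465) (iv4 F192268) (iv3 D120638) (iv1 F131721)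
def n166995 : Q := act 1 n80165
theorem D166995 : act 1 n80165 = n166995 := rfl
def n166998 : Q := act 5 n80167
theorem D166998 : act 5 n80167 = n166998 := rfl
theorem F262960 : act 2 n166998 = n83527 := d2_1 D166998 (iv5 D83527) (iv2 F155802)
theorem F262961 : act 7 n166998 = n83532 := d13_2 (iv7 F155803) D166998 (iv5 D83532)
def n166999 : Q := act 6 n80167
theorem D166999 : act 6 n80167 = n166999 := rfl
theorem F262962 : act 2 n166999 = n83528 := d3_1 D166999 (iv6 D83528) (iv2 F155802)
theorem F262963 : act 4 n166999 = n99496 := d10_1 D166999 (iv6 D99496) (iv4 F155405)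
theorem F262964 : act 5 n166999 = n158389 := d21_6 (iv5 D8612) D8609 F28669 D36514 D80167 D166999 (iv1 D158389) (iv5 D75537) (iv6 D34561) F27520
theorem F262965 : act 2 n158389 = n83789 := d2_1 F262964 (iv5 F128819) (iv2 F262962)
theorem F262966 : act 7 n83788 = n158389 := d15_2 F249563 F249564 F262965
theorem F262967 : act 7 n158388 = n83789 := d15_2 F249557 F249562 (iv2 F262965)
theorem F262968 : act 2 n83788 = n158388 := d4_3 F262967 (iv2 F262965) (iv7 F262966)
theorem F262969 : act 7 n166999 = n158533 := d13_2 F262966 (iv5 F262964) F249711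
def n167000 : Q := act 3 n80168
theorem D167000 : act 3 n80168 = n167000 := rfl
theorem F262970 : act 7 n167000 = n83525 := d8_2 (iv7 F155811) D167000 (iv3 D83525)
def n167001 : Q := act 5 n80168
theorem D167001 : act 5 n80168 = n167001 := rfl
theorem F262971 : act 2 n167001 = n83532 := d2_1 D167001 (iv5 D83532) (iv2 F155810)
theorem F262972 : act 7 n167001 = n83527 := d13_2 (iv7 F155811) D167001 (iv5 D83527)
theorem F262973 : act 1 n83532 = n83855 := d15_0 (iv0 F128871) (iv7 F262972) F262971
theorem E24217 : n83854 = n83768 := (c17_9 F156367 (iv5 F155785) (iv1 F155789) (iv5 D47110) (iv4 F155362) D83532 F262973 (iv5 D83855) D83854 (iv4 F155184))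
theorem F262974 : act 0 n83768 = n38622 := (sb E24217 (iv1 D83854))
def n167002 : Q := act 6 n80168
theorem D167002 : act 6 n80168 = n167002 := rfl
theorem F262975 : act 2 n167002 = n83533 := d3_1 D167002 (iv6 D83533) (iv2 F155810)
theorem F262976 : act 4 n167002 = n99501 := d10_1 D167002 (iv6 D99501) F155408
theorem F262977 : act 1 n101670 = n167002 := d17_8 (iv1 F156338) (iv5 D47331) (iv1 F73576) F73573 (iv4 F59440) D83873 F128881 D101670 F262976
def n167003 : Q := act 0 n80169
theorem D167003 : act 0 n80169 = n167003 := rfl
def n167004 : Q := act 1 n80169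
theorem D167004 : act 1 n80169 = n167004 := rfl
theorem F262978 : act 1 n167004 = n83537 := d15_1 D167004 (iv7 D83537) (iv2 F123105)
theorem F262979 : act 5 n83768 = n167004 := d21_6 F27540 (iv1 F12384) F13570 D18380 D38598 D83768 (iv1 D167004) (iv5 D80169) (iv6 D36514) F28668
theorem F262980 : act 2 n167004 = n83535 := d2_1 F262979 (iv5 F249602) F249600
def n167005 : Q := act 4 n80169
theorem D167005 : act 4 n80169 = n167005 := rfl
theorem F262981 : act 2 n167005 = n83536 := d1_1 D167005 (iv4 D83536) (iv2 F123105)
theorem F262982 : act 6 n167005 = n82954 := d10_2 (iv6 F123107) D167005 (iv4 D82954)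
def n167006 : Q := act 7 n80169
theorem D167006 : act 7 n80169 = n167006 := rfl
theorem F262983 : act 2 n167006 = n83537 := d4_1 D167006 (iv7 D83537) (iv2 F123105)
theorem F262985 : act 5 n167006 = n80170 := d13_1 D167006 (iv7 D80170) D80169
theorem F262986 : act 1 n83537 = n167003 := d15_0 (iv0 D167003) D167006 F262983
theorem F262987 : act 1 n83535 = n167006 := d15_1 D83535 (iv7 D167006) F123105
theorem F262988 : act 7 n167003 = n83535 := d15_2 F262978 F262986 (iv2 F262980)
theorem F262989 : act 5 n83853 = n167003 := d21_0 (iv1 F262986) F128631 (iv6 F127872) (iv1 F127874) D83577 (iv5 F128861) (iv1 F128865) (iv5 D38621) D38622 D83853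
theorem F262990 : act 7 n158419 = n83853 := d13_0 F262989 F262988 (iv5 F249602)
theorem F262991 : act 2 n167003 = n83534 := d15_3 (iv0 D83534) D83535 (iv7 F262988)
theorem F262992 : act 7 n83534 = n167004 := d4_2 (iv7 F262988) F262991 F262980
theorem F262993 : act 1 n167006 = n83534 := d15_1 F262987 F262992 F262980
def n167007 : Q := act 6 n80171
theorem D167007 : act 6 n80171 = n167007 := rfl
theorem F262994 : act 3 n167007 = n80172 := d7_1 D167007 (iv6 D80172) D80171
theorem F262995 : act 4 n167007 = n83312 := d10_1 D167007 (iv6 D83312) (iv4 F123118)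
def n167008 : Q := act 0 n80172
theorem D167008 : act 0 n80172 = n167008 := rfl
def n167010 : Q := act 5 n80172
theorem D167010 : act 5 n80172 = n167010 := rfl
theorem F262998 : act 6 n167010 = n82883 := d12_2 D80172 D167010 (iv5 D82883) (iv6 D38124) (iv5 F57351)
def n167011 : Q := act 7 n80172
theorem D167011 : act 7 n80172 = n167011 := rfl
theorem F262999 : act 2 n167011 = n83553 := d4_1 D167011 (iv7 D83553) (iv2 F123119)
theorem F263002 : act 1 n83553 = n167008 := d15_0 (iv0 D167008) D167011 F262999
def n167014 : Q := act 5 n80173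
theorem D167014 : act 5 n80173 = n167014 := rfl
theorem F263007 : act 6 n167014 = n83303 := d12_2 D80173 D167014 (iv5 D83303) (iv6 D38372) (iv5 F57359)
def n167016 : Q := act 2 n80174
theorem D167016 : act 2 n80174 = n167016 := rfl
theorem F263013 : act 7 n80175 = n167016 := d15_2 (iv0 D80174) D80175 (iv2 D167016)
def n167017 : Q := act 3 n80174
theorem D167017 : act 3 n80174 = n167017 := rfl
theorem F263014 : act 4 n167017 = n161964 := d20_6 D38310 F119010 F30237 (iv3 F57362) D80174 D167017 (iv1 D161964) (iv4 F127679) F127678 (iv1 F58980)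
def n167020 : Q := act 7 n80174
theorem D167020 : act 7 n80174 = n167020 := rfl
theorem F263016 : act 2 n167020 = n80175 := d4_1 D167020 F263013 (iv2 D167016)
def n167021 : Q := act 3 n80175
theorem D167021 : act 3 n80175 = n167021 := rfl
theorem F263017 : act 0 n167021 = n83594 := d20_4 F123354 (iv1 F124125) (iv4 F154857) D167021 F128674 (iv4 F243921) F259372 (iv4 D83178) F124252 (iv1 F123358)
def n167022 : Q := act 5 n80175
theorem D167022 : act 5 n80175 = n167022 := rfl
def n167026 : Q := act 4 n80176
theorem D167026 : act 4 n80176 = n167026 := rfl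
theorem F263021 : act 6 n167026 = n80186 := d10_2 (iv6 F123125) D167026 (iv4 D80186)
def n167027 : Q := act 7 n80176
theorem D167027 : act 7 n80176 = n167027 := rfl
theorem F263022 : act 2 n167027 = n161310 := d4_1 D167027 (iv7 D161310) (iv2 F123123)
theorem F263023 : act 3 n167027 = n82955 := d8_1 D167027 (iv7 D82955) (iv3 F123124)
theorem F263027 : act 1 n167027 = n161307 := d15_0 (iv0 D161307) D161310 (iv2 F263022)
def n167030 : Q := act 2 n80178
theorem D167030 : act 2 n80178 = n167030 := rfl
theorem F263031 : act 3 n167030 = n161313 := d0_2 D80178 D167030 (iv2 D161313) (iv3 D77442) (iv2 F113051)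
theorem F263032 : act 4 n167030 = n158207 := d1_2 (iv4 F123133) D167030 (iv2 D158207)
theorem F263034 : act 1 n167030 = n158768 := d15_0 (iv0 D158768) (iv7 F123134) D167030
def n167031 : Q := act 5 n80178
theorem D167031 : act 5 n80178 = n167031 := rfl
theorem F263036 : act 3 n167031 = n80179 := d6_1 D167031 (iv5 D80179) D80178
def n167032 : Q := act 6 n80178
theorem D167032 : act 6 n80178 = n167032 := rfl
theorem F263038 : act 3 n167032 = n80180 := d7_1 D167032 (iv6 D80180) D80178
theorem F263039 : act 4 n167032 = n158209 := d10_1 D167032 (iv6 D158209) (iv4 F123133)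
def n167034 : Q := act 4 n80179
theorem D167034 : act 4 n80179 = n167034 := rfl
theorem F263046 : act 5 n167034 = n161719 := d16_1 D167034 F255717 (iv5 F193710) F123247 (iv5 D75741) (iv4 F113048) D80182 F123141 (iv2 F123135)
def n167035 : Q := act 6 n80179
theorem D167035 : act 6 n80179 = n167035 := rfl
theorem F263047 : act 2 n167035 = n161317 := d3_1 D167035 (iv6 D161317) (iv2 F123135)
def n167036 : Q := act 1 n80181
theorem D167036 : act 1 n80181 = n167036 := rfl
theorem F263048 : act 7 n167036 = n83596 := d15_2 (iv0 F130931) D167036 F128678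
theorem F263049 : act 2 n161311 = n167036 := d4_3 F263048 F128678 F255133
theorem F263050 : act 3 n83609 = n167036 := d8_3 F263048 F128679 D83609
theorem F263051 : act 6 n161165 = n167036 := d14_5 F263048 (iv6 D83596) (iv7 F86940) D119409 (iv7 F254840)
theorem E24218 : n161312 = n83596 := (c15_2 (iv0 D161311) D161312 (iv7 F263048) (iv2 F263049))
theorem F263052 : act 0 n83596 = n77442 := (sb E24218 (iv1 D161312))
theorem F263053 : act 1 n167036 = n161313 := d15_0 F255134 F255133 F263049
def n167037 : Q := act 2 n80181
theorem D167037 : act 2 n80181 = n167037 := rfl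
theorem F263054 : act 3 n167037 = n158770 := d0_2 D80181 D167037 (iv2 D158770) (iv3 D75743) F113049
theorem F263055 : act 7 n167037 = n161313 := d4_2 (iv7 F123139) D167037 (iv2 D161313)
theorem F263056 : act 1 n167037 = n161311 := d15_0 (iv0 D161311) (iv7 F123139) D167037
theorem F263057 : act 1 n83596 = n167037 := d15_0 F263056 (iv7 F255133) (iv2 F128678)
def n167038 : Q := act 4 n80181
theorem D167038 : act 4 n80181 = n167038 := rfl
theorem F263058 : act 3 n167038 = n80411 := d5_1 D167038 (iv4 F123586) F117275 (iv4 F113048) D80181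
def n167039 : Q := act 5 n80181
theorem D167039 : act 5 n80181 = n167039 := rfl
theorem F263061 : act 7 n167039 = n161314 := d13_2 (iv7 F123139) D167039 (iv5 D161314)
def n167040 : Q := act 6 n80181
theorem D167040 : act 6 n80181 = n167040 := rfl
theorem F263062 : act 3 n167040 = n80183 := d7_1 D167040 (iv6 D80183) D80181
def n167041 : Q := act 4 n80182
theorem D167041 : act 4 n80182 = n167041 := rfl
theorem F263064 : act 5 n167041 = n161718 := d9_2 D80182 D167041 F255713 (iv5 F249196) (iv4 D158203) (iv5 D75351) F91435 D80179 D167034 F263046 F255717 (iv5 F193710) F123247 (iv5 D75741) (iv4 F113048)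
def n167043 : Q := act 3 n80184
theorem D167043 : act 3 n80184 = n167043 := rfl
def n167044 : Q := act 4 n80184
theorem D167044 : act 4 n80184 = n167044 := rfl
theorem F263070 : act 0 n167044 = n161721 := d17_0 (iv5 D161721) D161718 (iv5 F263064) (iv4 D167041) (iv5 D80182) F57364 (iv5 F116250) F123150 D167044
def n167045 : Q := act 6 n80184
theorem D167045 : act 6 n80184 = n167045 := rfl
def n167046 : Q := act 3 n80185
theorem D167046 : act 3 n80185 = n167046 := rfl
theorem F263073 : act 5 n167046 = n161605 := d6_2 F123145 D167046 F255607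
def n167053 : Q := act 0 n80188
theorem D167053 : act 0 n80188 = n167053 := rfl
theorem F263091 : act 1 n161332 = n167053 := d15_0 (iv0 D167053) F123157 D161332
def n167054 : Q := act 1 n80188
theorem D167054 : act 1 n80188 = n167054 := rfl
def n167055 : Q := act 5 n80188
theorem D167055 : act 5 n80188 = n167055 := rfl
theorem F263093 : act 3 n167055 = n80189 := d6_1 D167055 (iv5 D80189) D80188
theorem F263094 : act 7 n167055 = n161333 := d13_2 (iv7 F123157) D167055 (iv5 D161333)
def n167056 : Q := act 6 n80188
theorem D167056 : act 6 n80188 = n167056 := rfl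
theorem F263095 : act 3 n167056 = n80190 := d7_1 D167056 (iv6 D80190) D80188
def n167057 : Q := act 1 n80189
theorem D167057 : act 1 n80189 = n167057 := rfl
theorem F263097 : act 1 n167057 = n80192 := d15_1 D167057 F123166 (iv2 F123158)
theorem F263098 : act 7 n167057 = n161110 := d15_2 F193848 D167057 (iv2 F254682)
theorem F263099 : act 5 n167057 = n86837 := d17_7 D40265 F91211 (iv1 F91385) (iv5 D36525) D36524 D80189 D167057 (iv0 D86837) (iv4 D40267)
def n167063 : Q := act 7 n80196
theorem D167063 : act 7 n80196 = n167063 := rfl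
theorem F263110 : act 3 n167063 = n98157 := d8_1 D167063 (iv7 D98157) (iv3 F123180)
theorem F263111 : act 5 n167063 = n80197 := d13_1 D167063 (iv7 D80197) D80196
theorem F263112 : act 6 n167063 = n122613 := d14_1 D167063 (iv7 D122613) F90006 (iv7 F87582) (iv6 F123181)
theorem F263113 : act 1 n80208 = n167063 := d15_1 D80208 (iv7 D167063) F123179
theorem F263114 : act 1 n167063 = n80207 := d15_1 F263113 (iv7 F260966) F260964
def n167066 : Q := act 6 n80200
theorem D167066 : act 6 n80200 = n167066 := rfl
theorem F263119 : act 2 n167066 = n80201 := d3_1 D167066 (iv6 D80201) D80200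
theorem F263120 : act 3 n167066 = n99290 := d7_1 D167066 (iv6 D99290) (iv3 F123193)
theorem F263121 : act 4 n167066 = n80214 := d10_1 D167066 (iv6 D80214) (iv4 F123194)
def n167067 : Q := act 0 n80201
theorem D167067 : act 0 n80201 = n167067 := rfl
def n167068 : Q := act 1 n80201
theorem D167068 : act 1 n80201 = n167068 := rfl
def n167069 : Q := act 5 n80201
theorem D167069 : act 5 n80201 = n167069 := rfl
def n167071 : Q := act 4 n80202
theorem D167071 : act 4 n80202 = n167071 := rfl
theorem F263127 : act 2 n167071 = n122657 := d1_1 D167071 (iv4 D122657) (iv2 F123205)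
theorem F263129 : act 1 n167071 = n160331 := d18_6 (iv1 F115330) (iv4 F115874) (iv1 D36536) (iv4 F57382) D80202 D167071 (iv4 D160331) F253145 F253144
def n167072 : Q := act 4 n80203
theorem D167072 : act 4 n80203 = n167072 := rfl
theorem F263130 : act 2 n167072 = n160778 := d1_1 D167072 (iv4 D160778) (iv2 F123206)
theorem F263132 : act 5 n167072 = n160397 := d17_5 (iv1 D80208) (iv5 D36537) D36535 D80203 D167072 (iv0 D160397) (iv5 D76890) D76888 (iv4 F126217)
def n167073 : Q := act 4 n80205
theorem D167073 : act 4 n80205 = n167073 := rfl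
theorem F263135 : act 7 n167073 = n160778 := d11_2 (iv7 F123213) D167073 (iv4 D160778)
theorem F263136 : act 1 n167073 = n160355 := d18_6 (iv1 F55813) (iv4 F115328) (iv1 F115330) (iv4 F115874) D80205 D167073 (iv4 D160355) (iv0 D76863) (iv5 D35124)
theorem F263138 : act 5 n160398 = n167073 := d17_7 (iv1 F115463) (iv5 D35129) (iv1 D17054) D17055 D35133 D76890 D160398 F263136 (iv4 D160355)
def n167074 : Q := act 6 n80207
theorem D167074 : act 6 n80207 = n167074 := rfl
theorem F263141 : act 4 n167074 = n160388 := d10_1 D167074 (iv6 D160388) F133633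
theorem F263142 : act 5 n167074 = n97600 := d12_1 D167074 F194930 (iv5 F256085) (iv6 D162038) (iv5 F146835)
theorem F263143 : act 0 n167074 = n162090 := d21_4 (iv5 D77840) D77838 (iv5 F146835) D167074 (iv6 D162090) (iv5 F196472) (iv1 F196473) (iv5 F123183) F123184 F121550
def n167075 : Q := act 6 n80208
theorem D167075 : act 6 n80208 = n167075 := rfl
theorem F263146 : act 3 n167075 = n160670 := d7_1 D167075 (iv6 D160670) (iv3 F126215)
theorem F263147 : act 4 n167075 = n160391 := d10_1 D167075 (iv6 D160391) (iv4 F126217)
def n167078 : Q := act 6 n80211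
theorem D167078 : act 6 n80211 = n167078 := rfl
theorem F263152 : act 3 n167078 = n80212 := d7_1 D167078 (iv6 D80212) D80211
def n167079 : Q := act 5 n80212
theorem D167079 : act 5 n80212 = n167079 := rfl
theorem F263154 : act 6 n167079 = n158359 := d12_2 D80212 D167079 (iv5 D158359) (iv6 D75527) F64255
def n167081 : Q := act 1 n80214
theorem D167081 : act 1 n80214 = n167081 := rfl
theorem F263158 : act 1 n167081 = n80219 := d15_1 D167081 (iv7 D80219) (iv2 F123226)
theorem F263159 : act 7 n167081 = n80216 := d15_2 (iv0 F239804) D167081 (iv2 F239805)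
theorem F263160 : act 2 n80217 = n167081 := d4_3 F263159 (iv2 F239805) F239802
def n167082 : Q := act 5 n80214
theorem D167082 : act 5 n80214 = n167082 := rfl
theorem F263161 : act 2 n167082 = n80218 := d2_1 D167082 (iv5 D80218) (iv2 F123226)
theorem F263162 : act 3 n167082 = n82966 := d6_1 D167082 (iv5 D82966) (iv3 F123227)
theorem F263163 : act 6 n167082 = n82962 := d12_2 D80214 D167082 (iv5 D82962) (iv6 D38182) F57398
def n167083 : Q := act 7 n80214
theorem D167083 : act 7 n80214 = n167083 := rfl
theorem F263164 : act 2 n167083 = n80219 := d4_1 D167083 (iv7 D80219) (iv2 F123226)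
theorem F263165 : act 3 n167083 = n82967 := d8_1 D167083 (iv7 D82967) (iv3 F123227)
theorem F263166 : act 6 n167083 = n83509 := d14_1 D167083 (iv7 D83509) (iv6 D38498) (iv7 F57395) D80214
theorem F263167 : act 1 n80217 = n167083 := d15_1 D80217 (iv7 D167083) F123226
theorem F263168 : act 1 n167083 = n80216 := d15_1 F263167 (iv7 F263159) (iv2 F263160)
def n167084 : Q := act 0 n80215
theorem D167084 : act 0 n80215 = n167084 := rfl
def n167085 : Q := act 1 n80215
theorem D167085 : act 1 n80215 = n167085 := rfl
theorem F263169 : act 1 n167085 = n82963 := d15_1 D167085 (iv7 D82963) (iv2 F123228)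
def n167086 : Q := act 5 n80215
theorem D167086 : act 5 n80215 = n167086 := rfl
theorem F263170 : act 2 n167086 = n82962 := d2_1 D167086 (iv5 D82962) (iv2 F123228)
theorem F263171 : act 3 n167086 = n80222 := d6_1 D167086 (iv5 D80222) (iv3 F123229)
theorem F263172 : act 6 n167086 = n80218 := d12_2 D80215 D167086 (iv5 D80218) (iv6 D36543) D36542
def n167087 : Q := act 7 n80215
theorem D167087 : act 7 n80215 = n167087 := rfl
theorem F263173 : act 2 n167087 = n82963 := d4_1 D167087 (iv7 D82963) (iv2 F123228)
theorem F263174 : act 3 n167087 = n80223 := d8_1 D167087 (iv7 D80223) (iv3 F123229)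
theorem F263175 : act 6 n167087 = n83499 := d14_1 D167087 (iv7 D83499) (iv6 D38495) (iv7 F57402) D80215
theorem F263176 : act 1 n82963 = n167084 := d15_0 (iv0 D167084) D167087 F263173
theorem F263177 : act 1 n82961 = n167087 := d15_1 D82961 (iv7 D167087) F123228
theorem F263178 : act 0 n82960 = n167087 := d20_4 (iv4 F243905) (iv1 F261703) (iv4 F261698) (iv3 F261699) F263174 F123237 (iv1 F124264) (iv4 F130352) (iv3 F243907) (iv1 D155089)
def n167088 : Q := act 3 n80216
theorem D167088 : act 3 n80216 = n167088 := rfl
theorem F263179 : act 2 n167088 = n164520 := d0_1 D167088 (iv3 D164520) (iv2 F234039) D152604 F239805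
def n167089 : Q := act 5 n80216
theorem D167089 : act 5 n80216 = n167089 := rfl
def n167090 : Q := act 6 n80216
theorem D167090 : act 6 n80216 = n167090 := rfl
def n167091 : Q := act 5 n80217
theorem D167091 : act 5 n80217 = n167091 := rfl
theorem F263180 : act 3 n167091 = n164523 := d6_1 D167091 (iv5 D164523) F236164
def n167092 : Q := act 6 n80217
theorem D167092 : act 6 n80217 = n167092 := rfl
theorem F263181 : act 3 n167092 = n164524 := d7_1 D167092 (iv6 D164524) F236164
def n167093 : Q := act 0 n80218
theorem D167093 : act 0 n80218 = n167093 := rfl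
def n167094 : Q := act 1 n80218
theorem D167094 : act 1 n80218 = n167094 := rfl
theorem F263182 : act 5 n154425 = n167094 := d21_6 (iv5 F64255) (iv1 D34556) D34559 D75530 F186298 D154425 (iv1 D167094) (iv5 D80218) (iv6 D36543) D36539
def n167095 : Q := act 4 n80218
theorem D167095 : act 4 n80218 = n167095 := rfl
def n167096 : Q := act 7 n80218
theorem D167096 : act 7 n80218 = n167096 := rfl
theorem F263183 : act 3 n167096 = n80233 := d8_1 D167096 (iv7 D80233) (iv3 F123230)
theorem F263184 : act 5 n167096 = n80219 := d13_1 D167096 (iv7 D80219) D80218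
def n167097 : Q := act 2 n80220
theorem D167097 : act 2 n80220 = n167097 := rfl
theorem F263185 : act 7 n80221 = n167097 := d15_2 (iv0 D80220) D80221 (iv2 D167097)
def n167098 : Q := act 5 n80220
theorem D167098 : act 5 n80220 = n167098 := rfl
def n167099 : Q := act 6 n80220
theorem D167099 : act 6 n80220 = n167099 := rfl
theorem F263186 : act 5 n167099 = n98771 := d21_6 (iv5 D18185) (iv1 F13483) D17634 D36544 D80220 D167099 (iv1 D98771) (iv5 D46188) (iv6 D22102) (iv1 F29354)
def n167101 : Q := act 3 n80221
theorem D167101 : act 3 n80221 = n167101 := rfl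
theorem F263188 : act 4 n167101 = n83316 := d20_6 D38420 F118362 F31250 (iv3 F59361) (iv1 F123233) D167101 (iv1 D83316) F59246 F29520 D18324
def n167104 : Q := act 0 n80222
theorem D167104 : act 0 n80222 = n167104 := rfl
def n167105 : Q := act 1 n80222
theorem D167105 : act 1 n80222 = n167105 := rfl
theorem F263189 : act 1 n167105 = n83567 := d15_1 D167105 (iv7 D83567) (iv2 F123234)
theorem F263190 : act 5 n158408 = n167105 := d21_6 F57359 F29508 F27525 D34567 D75555 D158408 (iv1 D167105) (iv5 D80222) (iv6 D36544) (iv1 F57357)
def n167106 : Q := act 4 n80222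
theorem D167106 : act 4 n80222 = n167106 := rfl
def n167107 : Q := act 7 n80222
theorem D167107 : act 7 n80222 = n167107 := rfl
theorem F263193 : act 2 n167107 = n83567 := d4_1 D167107 (iv7 D83567) (iv2 F123234)
theorem F263194 : act 5 n167107 = n80223 := d13_1 D167107 (iv7 D80223) D80222
theorem F263195 : act 1 n83567 = n167104 := d15_0 (iv0 D167104) D167107 F263193
theorem F263196 : act 1 n83565 = n167107 := d15_1 D83565 (iv7 D167107) F123234
theorem F263197 : act 1 n167107 = n83564 := d15_0 (iv0 D83564) D83567 (iv2 F263193)
def n167108 : Q := act 5 n80224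
theorem D167108 : act 5 n80224 = n167108 := rfl
theorem F263199 : act 7 n167108 = n161167 := d13_2 (iv7 F123243) D167108 (iv5 D161167)
def n167110 : Q := act 4 n80225
theorem D167110 : act 4 n80225 = n167110 := rfl
theorem F263202 : act 2 n167110 = n161163 := d1_1 D167110 (iv4 D161163) (iv2 F123244)
def n167112 : Q := act 0 n80227
theorem D167112 : act 0 n80227 = n167112 := rfl
theorem F263206 : act 1 n161160 = n167112 := d15_0 (iv0 D167112) F123249 D161160
def n167113 : Q := act 1 n80227
theorem D167113 : act 1 n80227 = n167113 := rfl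
def n167114 : Q := act 2 n80227
theorem D167114 : act 2 n80227 = n167114 := rfl
theorem F263207 : act 3 n167114 = n161166 := d0_2 D80227 D167114 (iv2 D161166) (iv3 D77371) (iv2 F113030)
theorem F263208 : act 4 n167114 = n158312 := d1_2 (iv4 F123248) D167114 (iv2 F249428)
theorem F263209 : act 7 n167114 = n161160 := d4_2 (iv7 F123249) D167114 (iv2 D161160)
theorem F263210 : act 1 n167114 = n161158 := d15_0 (iv0 D161158) (iv7 F123249) D167114
theorem F263211 : act 1 n167113 = n161160 := d15_1 D167113 (iv7 F263209) (iv2 D167114)
theorem F263212 : act 1 n161159 = n167114 := d15_1 D161159 F263209 (iv2 D161160)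
def n167115 : Q := act 5 n80227
theorem D167115 : act 5 n80227 = n167115 := rfl
theorem F263213 : act 3 n167115 = n80228 := d6_1 D167115 (iv5 D80228) D80227
def n167116 : Q := act 6 n80227
theorem D167116 : act 6 n80227 = n167116 := rfl
theorem F263215 : act 3 n167116 = n80229 := d7_1 D167116 (iv6 D80229) D80227
theorem F263216 : act 4 n167116 = n158835 := d10_1 D167116 (iv6 D158835) (iv4 F123248)
def n167119 : Q := act 3 n80230
theorem D167119 : act 3 n80230 = n167119 := rfl
theorem F263221 : act 5 n167119 = n162056 := d6_2 (iv5 F123263) D167119 (iv3 D162056)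
theorem F263222 : act 7 n167119 = n161177 := d8_2 (iv7 F193744) D167119 (iv3 D161177)
def n167121 : Q := act 6 n80230
theorem D167121 : act 6 n80230 = n167121 := rfl
def n167122 : Q := act 3 n80231
theorem D167122 : act 3 n80231 = n167122 := rfl
theorem F263228 : act 7 n167122 = n161173 := d8_2 F193745 D167122 (iv3 D161173)
def n167123 : Q := act 4 n80231
theorem D167123 : act 4 n80231 = n167123 := rfl
theorem F263231 : act 0 n167123 = n121994 := d18_2 (iv1 F123256) D167123 (iv4 D121994) (iv5 D56433) F43929 (iv0 F116781) (iv4 F91499) F57408 (iv5 F116185)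
def n167134 : Q := act 3 n80235
theorem D167134 : act 3 n80235 = n167134 := rfl
theorem F263259 : act 4 n167134 = n80487 := d5_2 D80235 D167134 (iv3 D80487) (iv4 D36705) (iv3 F91237)
def n167136 : Q := act 0 n80236
theorem D167136 : act 0 n80236 = n167136 := rfl
def n167137 : Q := act 1 n80236
theorem D167137 : act 1 n80236 = n167137 := rfl
theorem F263266 : act 1 n167137 = n161188 := d15_1 D167137 F254865 F239811
def n167139 : Q := act 6 n80236
theorem D167139 : act 6 n80236 = n167139 := rfl
theorem F263269 : act 3 n167139 = n80238 := d7_1 D167139 (iv6 D80238) D80236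
def n167149 : Q := act 6 n80246
theorem D167149 : act 6 n80246 = n167149 := rfl
theorem F263292 : act 4 n167149 = n165695 := d10_1 D167149 (iv6 D165695) (iv4 F123314)
def n167163 : Q := act 6 n80251
theorem D167163 : act 6 n80251 = n167163 := rfl
theorem F263327 : act 3 n167163 = n100062 := d7_1 D167163 (iv6 D100062) (iv3 F123317)
def n167165 : Q := act 1 n80252
theorem D167165 : act 1 n80252 = n167165 := rfl
def n167166 : Q := act 5 n80252
theorem D167166 : act 5 n80252 = n167166 := rfl
theorem F263330 : act 6 n167166 = n82514 := d12_2 D80252 D167166 (iv5 D82514) (iv6 D37883) (iv5 F57430)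
def n167167 : Q := act 7 n80252
theorem D167167 : act 7 n80252 = n167167 := rfl
theorem F263331 : act 3 n167167 = n82519 := d8_1 D167167 (iv7 D82519) (iv3 F123320)
def n167168 : Q := act 6 n80253
theorem D167168 : act 6 n80253 = n167168 := rfl
theorem F263332 : act 2 n167168 = n82501 := d3_1 D167168 (iv6 D82501) (iv2 F123321)
theorem F263333 : act 3 n167168 = n80255 := d7_1 D167168 (iv6 D80255) D80253
def n167169 : Q := act 6 n80254
theorem D167169 : act 6 n80254 = n167169 := rfl
theorem F263334 : act 4 n167169 = n80255 := d10_1 D167169 (iv6 D80255) D80254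
def n167170 : Q := act 0 n80255
theorem D167170 : act 0 n80255 = n167170 := rfl
def n167171 : Q := act 1 n80255
theorem D167171 : act 1 n80255 = n167171 := rfl
def n167172 : Q := act 5 n80255
theorem D167172 : act 5 n80255 = n167172 := rfl
def n167173 : Q := act 7 n80255
theorem D167173 : act 7 n80255 = n167173 := rfl
def n167174 : Q := act 6 n80256
theorem D167174 : act 6 n80256 = n167174 := rfl
theorem F263335 : act 2 n167174 = n80260 := d3_1 D167174 (iv6 D80260) (iv2 F123326)
theorem F263336 : act 4 n167174 = n80257 := d10_1 D167174 (iv6 D80257) D80256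
def n167175 : Q := act 0 n80257
theorem D167175 : act 0 n80257 = n167175 := rfl
def n167176 : Q := act 5 n80257
theorem D167176 : act 5 n80257 = n167176 := rfl
theorem F263337 : act 2 n167176 = n80264 := d2_1 D167176 (iv5 D80264) (iv2 F123329)
theorem F263338 : act 3 n167176 = n119376 := d6_1 D167176 (iv5 D119376) (iv3 F123330)
theorem F263339 : act 6 n167176 = n119372 := d12_2 D80257 D167176 (iv5 D119372) (iv6 D54936) F57433
def n167178 : Q := act 6 n80258
theorem D167178 : act 6 n80258 = n167178 := rfl
theorem F263345 : act 2 n167178 = n105917 := d3_1 D167178 (iv6 D105917) (iv2 F123333)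
theorem F263346 : act 3 n167178 = n118784 := d7_1 D167178 (iv6 D118784) F123335
theorem F263347 : act 4 n167178 = n167078 := d10_1 D167178 (iv6 D167078) F123332
theorem F263348 : act 0 n167178 = n80312 := d20_7 F57323 (iv1 F28659) D17659 D36636 (iv1 F239446) (iv3 F263152) (iv4 F263347) (iv4 D80312) (iv3 D36588) (iv1 F57327)
def n167180 : Q := act 0 n80260
theorem D167180 : act 0 n80260 = n167180 := rfl
theorem F263352 : act 3 n167180 = n150277 := d20_5 (iv4 F117093) (iv1 D40566) (iv4 F61692) (iv3 F123341) D167180 (iv4 D150277) (iv1 F107236) (iv4 F107251) F107250 (iv1 F116041)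
theorem F263353 : act 4 n167180 = n152582 := d20_8 F120222 F130873 D55542 (iv3 F91221) F116615 (iv3 F57440) (iv4 F123342) D167180 (iv3 D152582) (iv1 F120226)
def n167181 : Q := act 1 n80260
theorem D167181 : act 1 n80260 = n167181 := rfl
def n167183 : Q := act 7 n80260
theorem D167183 : act 7 n80260 = n167183 := rfl
theorem F263357 : act 4 n167183 = n80265 := d11_1 D167183 (iv7 D80265) (iv4 F123342)
theorem F263358 : act 0 n167183 = n150307 := d20_7 F56685 F130872 D34691 (iv3 F56013) (iv1 F116612) (iv3 F123348) (iv4 F263357) (iv4 F259393) (iv3 D164558) (iv1 D79034)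
theorem F263359 : act 1 n167174 = n150307 := d15_0 (iv0 F263358) (iv7 D167183) (iv2 F263335)
def n167184 : Q := act 5 n80261
theorem D167184 : act 5 n80261 = n167184 := rfl
theorem F263360 : act 2 n167184 = n119372 := d2_1 D167184 (iv5 D119372) (iv2 F123343)
theorem F263362 : act 6 n167184 = n80264 := d12_2 D80261 D167184 (iv5 D80264) (iv6 D36567) D36566
def n167185 : Q := act 2 n80262
theorem D167185 : act 2 n80262 = n167185 := rfl
theorem F263363 : act 7 n80263 = n167185 := d15_2 (iv0 D80262) D80263 (iv2 D167185)
def n167187 : Q := act 5 n80262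
theorem D167187 : act 5 n80262 = n167187 := rfl
theorem F263365 : act 3 n167187 = n100475 := d6_1 D167187 (iv5 D100475) (iv3 F123346)
def n167188 : Q := act 6 n80262
theorem D167188 : act 6 n80262 = n167188 := rfl
theorem F263366 : act 3 n167188 = n100476 := d7_1 D167188 (iv6 D100476) (iv3 F123346)
def n167189 : Q := act 7 n80262
theorem D167189 : act 7 n80262 = n167189 := rfl
theorem F263367 : act 2 n167189 = n80263 := d4_1 D167189 F263363 (iv2 D167185)
theorem F263368 : act 3 n167189 = n100477 := d8_1 D167189 (iv7 D100477) (iv3 F123346)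
def n167190 : Q := act 3 n80263
theorem D167190 : act 3 n80263 = n167190 := rfl
theorem F263369 : act 2 n167190 = n100493 := d0_1 D167190 (iv3 D100493) (iv2 F154531) (iv3 F263368) F263367
def n167194 : Q := act 0 n80264
theorem D167194 : act 0 n80264 = n167194 := rfl
def n167195 : Q := act 1 n80264
theorem D167195 : act 1 n80264 = n167195 := rfl
def n167196 : Q := act 4 n80264
theorem D167196 : act 4 n80264 = n167196 := rfl
def n167197 : Q := act 7 n80264
theorem D167197 : act 7 n80264 = n167197 := rfl
theorem F263370 : act 3 n167197 = n80273 := d8_1 D167197 (iv7 D80273) (iv3 F123347)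
def n167198 : Q := act 2 n80266
theorem D167198 : act 2 n80266 = n167198 := rfl
theorem F263372 : act 4 n167198 = n165297 := d1_2 F124134 D167198 (iv2 D165297)
theorem F263373 : act 7 n80267 = n167198 := d15_2 (iv0 D80266) D80267 (iv2 D167198)
def n167199 : Q := act 3 n80266
theorem D167199 : act 3 n80266 = n167199 := rfl
def n167201 : Q := act 6 n80266
theorem D167201 : act 6 n80266 = n167201 := rfl
def n167203 : Q := act 5 n80267
theorem D167203 : act 5 n80267 = n167203 := rfl
def n167204 : Q := act 6 n80267
theorem D167204 : act 6 n80267 = n167204 := rfl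
def n167206 : Q := act 1 n80268
theorem D167206 : act 1 n80268 = n167206 := rfl
theorem F263379 : act 1 n167206 = n161748 := d15_1 D167206 (iv7 D161748) (iv2 F123351)
def n167207 : Q := act 4 n80268
theorem D167207 : act 4 n80268 = n167207 := rfl
theorem F263381 : act 6 n167207 = n80272 := d10_2 (iv6 F123352) D167207 (iv4 D80272)
def n167209 : Q := act 3 n80270
theorem D167209 : act 3 n80270 = n167209 := rfl
def n167210 : Q := act 6 n80270
theorem D167210 : act 6 n80270 = n167210 := rfl
def n167213 : Q := act 6 n80273
theorem D167213 : act 6 n80273 = n167213 := rfl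
def n167214 : Q := act 6 n80274
theorem D167214 : act 6 n80274 = n167214 := rfl
theorem F263388 : act 3 n167214 = n80275 := d7_1 D167214 (iv6 D80275) D80274
def n167215 : Q := act 0 n80275
theorem D167215 : act 0 n80275 = n167215 := rfl
def n167216 : Q := act 1 n80275
theorem D167216 : act 1 n80275 = n167216 := rfl
def n167217 : Q := act 5 n80275
theorem D167217 : act 5 n80275 = n167217 := rfl
theorem F263390 : act 6 n167217 = n150102 := d12_2 D80275 D167217 (iv5 D150102) (iv6 D70634) (iv5 F57444)
def n167218 : Q := act 7 n80275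
theorem D167218 : act 7 n80275 = n167218 := rfl
def n167223 : Q := act 2 n80277
theorem D167223 : act 2 n80277 = n167223 := rfl
theorem F263391 : act 7 n80278 = n167223 := d15_2 (iv0 D80277) D80278 (iv2 D167223)
def n167225 : Q := act 4 n80277
theorem D167225 : act 4 n80277 = n167225 := rfl
def n167228 : Q := act 7 n80277
theorem D167228 : act 7 n80277 = n167228 := rfl
theorem F263392 : act 2 n167228 = n80278 := d4_1 D167228 F263391 (iv2 D167223)
def n167229 : Q := act 3 n80278
theorem D167229 : act 3 n80278 = n167229 := rfl
def n167230 : Q := act 4 n80278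
theorem D167230 : act 4 n80278 = n167230 := rfl
def n167231 : Q := act 5 n80278
theorem D167231 : act 5 n80278 = n167231 := rfl
def n167232 : Q := act 6 n80278
theorem D167232 : act 6 n80278 = n167232 := rfl
def n167233 : Q := act 0 n80279
theorem D167233 : act 0 n80279 = n167233 := rfl
def n167234 : Q := act 1 n80279
theorem D167234 : act 1 n80279 = n167234 := rfl
def n167235 : Q := act 4 n80279
theorem D167235 : act 4 n80279 = n167235 := rfl
theorem F263393 : act 6 n167235 = n119344 := d10_2 (iv6 F123364) D167235 (iv4 D119344)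
def n167236 : Q := act 7 n80279
theorem D167236 : act 7 n80279 = n167236 := rfl
theorem F263395 : act 5 n167236 = n80280 := d13_1 D167236 (iv7 D80280) D80279
def n167237 : Q := act 2 n80281
theorem D167237 : act 2 n80281 = n167237 := rfl
theorem F263397 : act 7 n80282 = n167237 := d15_2 (iv0 D80281) D80282 (iv2 D167237)
def n167238 : Q := act 5 n80281
theorem D167238 : act 5 n80281 = n167238 := rfl
def n167239 : Q := act 6 n80281
theorem D167239 : act 6 n80281 = n167239 := rfl
theorem F263399 : act 5 n167239 = n161670 := d21_6 F43860 F21645 D17644 D36576 D80281 D167239 (iv1 D161670) (iv5 D77646) (iv6 D35452) (iv1 F43863)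
def n167240 : Q := act 7 n80281
theorem D167240 : act 7 n80281 = n167240 := rfl
theorem F263400 : act 2 n167240 = n80282 := d4_1 D167240 F263397 (iv2 D167237)
def n167241 : Q := act 3 n80282
theorem D167241 : act 3 n80282 = n167241 := rfl
def n167246 : Q := act 4 n80283
theorem D167246 : act 4 n80283 = n167246 := rfl
theorem F263405 : act 6 n167246 = n80287 := d10_2 (iv6 F123369) D167246 (iv4 D80287)
def n167247 : Q := act 7 n80283
theorem D167247 : act 7 n80283 = n167247 := rfl
theorem F263407 : act 3 n167247 = n119345 := d8_1 D167247 (iv7 D119345) (iv3 F123368)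
theorem F263408 : act 5 n167247 = n80284 := d13_1 D167247 (iv7 D80284) D80283
theorem F263410 : act 1 n161735 = n167247 := d15_1 D161735 (iv7 D167247) F123367
def n167253 : Q := act 7 n80287
theorem D167253 : act 7 n80287 = n167253 := rfl
def n167332 : Q := act 3 n80309
theorem D167332 : act 3 n80309 = n167332 := rfl
theorem F263468 : act 4 n167332 = n122419 := d20_6 F54778 D34534 (iv4 F117863) D36588 D80309 D167332 (iv1 D122419) (iv4 F123079) (iv3 D80157) F118739
def n167333 : Q := act 4 n80309
theorem D167333 : act 4 n80309 = n167333 := rfl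
def n167337 : Q := act 3 n80310
theorem D167337 : act 3 n80310 = n167337 := rfl
def n167338 : Q := act 4 n80310
theorem D167338 : act 4 n80310 = n167338 := rfl
theorem F263470 : act 0 n165124 = n167338 := d20_10 (iv4 D167338) (iv1 D80310) D80312 F123393 F121279 (iv3 F121988) F121989 (iv1 F116513) F151627 D165124
def n167341 : Q := act 4 n80311
theorem D167341 : act 4 n80311 = n167341 := rfl
theorem F263471 : act 2 n167341 = n80312 := d1_1 D167341 (iv4 D80312) D80311
theorem F263472 : act 1 n167341 = n105917 := d15_0 (iv0 F191338) F132411 (iv2 F263471)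
theorem F263473 : act 4 n80324 = n150484 := d20_0 (iv1 D150484) D150486 F236963 (iv1 F191323) (iv3 F259288) F259289 (iv1 F263472) (iv4 D167341) (iv3 F262790) (iv1 F262795)
theorem F263474 : act 3 n152660 = n80324 := d20_5 F120193 (iv1 F191319) (iv4 D72018) D72017 D152660 F263473 (iv1 D150484) D150486 F236963 (iv1 F191323)
theorem F263475 : act 3 n81716 = n150484 := d20_5 F69991 (iv1 F121461) (iv4 F118922) D37348 D81716 (iv4 F263473) (iv1 D80324) D80326 F123407 (iv1 F121426)
def n167342 : Q := act 5 n80311
theorem D167342 : act 5 n80311 = n167342 := rfl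
theorem F263476 : act 2 n167342 = n80313 := d2_1 D167342 (iv5 D80313) D80311
def n167343 : Q := act 6 n80311
theorem D167343 : act 6 n80311 = n167343 := rfl
theorem F263477 : act 2 n167343 = n80314 := d3_1 D167343 (iv6 D80314) D80311
def n167344 : Q := act 0 n80312
theorem D167344 : act 0 n80312 = n167344 := rfl
theorem F263479 : act 4 n167344 = n152698 := d20_8 (iv4 D33277) (iv1 D16065) (iv4 F25590) F25589 D17648 D36588 D80312 D167344 (iv3 D152698) (iv1 F108518)
theorem F263480 : act 7 n105917 = n167344 := d11_0 F263479 F259290 F259289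
theorem F263481 : act 6 n167344 = n150350 := d14_1 F263480 F236640 (iv6 D148923) F106237 D105917
def n167345 : Q := act 5 n80312
theorem D167345 : act 5 n80312 = n167345 := rfl
def n167346 : Q := act 6 n80312
theorem D167346 : act 6 n80312 = n167346 := rfl
def n167347 : Q := act 0 n80313
theorem D167347 : act 0 n80313 = n167347 := rfl
def n167348 : Q := act 1 n80313
theorem D167348 : act 1 n80313 = n167348 := rfl
def n167349 : Q := act 4 n80313
theorem D167349 : act 4 n80313 = n167349 := rfl
def n167350 : Q := act 6 n80313
theorem D167350 : act 6 n80313 = n167350 := rfl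
def n167351 : Q := act 0 n80314
theorem D167351 : act 0 n80314 = n167351 := rfl
def n167352 : Q := act 1 n80314
theorem D167352 : act 1 n80314 = n167352 := rfl
def n167353 : Q := act 5 n80314
theorem D167353 : act 5 n80314 = n167353 := rfl
theorem F263486 : act 3 n167353 = n80321 := d6_1 D167353 (iv5 D80321) (iv3 F123395)
theorem F263487 : act 7 n121488 = n167353 := d8_0 F263486 F128451 D121488
def n167354 : Q := act 7 n80314
theorem D167354 : act 7 n80314 = n167354 := rfl
theorem F263488 : act 3 n167354 = n80322 := d8_1 D167354 (iv7 D80322) (iv3 F123395)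
theorem F263489 : act 5 n167354 = n121488 := d13_1 D167354 F263487 (iv5 D167353)
def n167357 : Q := act 6 n80315
theorem D167357 : act 6 n80315 = n167357 := rfl
theorem F263493 : act 5 n167357 = n161625 := d12_1 D167357 (iv6 D161625) (iv5 D77626) D77627 (iv5 F123396)
def n167359 : Q := act 6 n80316
theorem D167359 : act 6 n80316 = n167359 := rfl
def n167361 : Q := act 1 n80317
theorem D167361 : act 1 n80317 = n167361 := rfl
theorem F263498 : act 1 n167361 = n80329 := d15_1 D167361 (iv7 F262811) F262810
theorem F263499 : act 4 n167361 = n166977 := d18_7 F118739 F54778 D34534 (iv4 F117863) D36590 D80317 D167361 F262890 (iv5 D80158)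
def n167368 : Q := act 4 n80321
theorem D167368 : act 4 n80321 = n167368 := rfl
def n167371 : Q := act 4 n80323
theorem D167371 : act 4 n80323 = n167371 := rfl
def n167377 : Q := act 4 n80325
theorem D167377 : act 4 n80325 = n167377 := rfl
theorem F263508 : act 2 n167377 = n80326 := d1_1 D167377 (iv4 D80326) D80325
theorem F263509 : act 7 n167377 = n81760 := d11_2 F262792 D167377 (iv4 F262791)
theorem F263510 : act 1 n81759 = n167377 := d15_1 D81759 F263509 (iv2 D81760)
theorem F263511 : act 3 n81787 = n167377 := d0_0 F263508 F123407 F116875 D37395 D81787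
theorem F263512 : act 1 n167377 = n81758 := d15_0 (iv0 D81758) (iv7 F123408) (iv2 F263508)
def n167380 : Q := act 0 n80326
theorem D167380 : act 0 n80326 = n167380 := rfl
theorem F263515 : act 4 n167380 = n152701 := d20_0 (iv1 D152701) (iv4 F236713) (iv3 D150389) (iv1 F107323) F52032 F29108 (iv1 F29075) D37259 (iv3 F123407) D167380
theorem F263516 : act 1 n81760 = n167380 := d15_0 (iv0 D167380) F123408 D81760
def n167381 : Q := act 1 n80326
theorem D167381 : act 1 n80326 = n167381 := rfl
theorem F263517 : act 1 n167381 = n81760 := d15_1 D167381 (iv7 F263509) F263508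
def n167382 : Q := act 5 n80326
theorem D167382 : act 5 n80326 = n167382 := rfl
theorem F263520 : act 3 n167382 = n81567 := d6_1 D167382 (iv5 D81567) (iv3 F123407)
def n167398 : Q := act 7 n80333
theorem D167398 : act 7 n80333 = n167398 := rfl
theorem F263529 : act 1 n86855 = n167398 := d15_1 F262840 (iv7 D167398) (iv2 F262838)
theorem F263530 : act 1 n167398 = n121435 := d15_1 F263529 F193766 (iv2 F133207)
def n167404 : Q := act 0 n80336
theorem D167404 : act 0 n80336 = n167404 := rfl
theorem F263533 : act 4 n167404 = n162000 := d18_1 D167404 (iv1 D162000) D162001 (iv5 F262896) (iv4 D166978) D166977 (iv4 F263499) F263498 (iv5 F123415)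
theorem F263534 : act 1 n80339 = n167404 := d15_0 (iv0 D167404) (iv7 F255857) F255856
def n167434 : Q := act 6 n80347
theorem D167434 : act 6 n80347 = n167434 := rfl
theorem F263549 : act 2 n167434 = n80355 := d3_1 D167434 (iv6 D80355) (iv2 F123424)
theorem F263551 : act 4 n167434 = n85880 := d10_1 D167434 (iv6 D85880) (iv4 F123427)
theorem F263552 : act 7 n167434 = n88644 := d14_2 (iv7 F123426) D167434 (iv6 D88644) F118765 (iv6 F119030)
theorem F263553 : act 0 n167434 = n122295 := d21_4 F34361 (iv1 F119025) D80347 D167434 (iv6 D122295) D122294 F195499 (iv5 F123078) (iv6 D80156) F119022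
theorem F263554 : act 0 n161124 = n167434 := d21_4 D82066 (iv1 F193869) F124756 (iv6 F254721) (iv6 D167434) (iv5 D80347) F119024 F34439 D45870 (iv1 F118210)
def n167435 : Q := act 7 n80348
theorem D167435 : act 7 n80348 = n167435 := rfl
theorem F263555 : act 2 n167435 = n80359 := d4_1 D167435 (iv7 D80359) (iv2 F123432)
theorem F263556 : act 3 n167435 = n122627 := d8_1 D167435 (iv7 D122627) (iv3 F123433)
theorem F263557 : act 4 n167435 = n84717 := d11_1 D167435 F129945 (iv4 F123434)
theorem F263558 : act 5 n167435 = n84792 := d13_1 D167435 (iv7 F158032) (iv5 F158033)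
theorem F263559 : act 6 n167435 = n98174 := d14_1 D167435 (iv7 D98174) (iv6 D45869) (iv7 F118885) D80348
theorem F263560 : act 1 n80357 = n167435 := d15_1 D80357 (iv7 D167435) F123432
theorem F263561 : act 1 n167435 = n80356 := d15_1 F263560 (iv7 F194669) F194666
def n167436 : Q := act 0 n80349
theorem D167436 : act 0 n80349 = n167436 := rfl
theorem F263562 : act 1 n122420 = n167436 := d15_0 (iv0 D167436) F123436 D122420
def n167438 : Q := act 2 n80349
theorem D167438 : act 2 n80349 = n167438 := rfl
theorem F263563 : act 3 n167438 = n122413 := d0_2 D80349 D167438 (iv2 D122413) (iv3 D56726) (iv2 F91364)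
theorem F263565 : act 7 n167438 = n122420 := d4_2 (iv7 F123436) D167438 (iv2 D122420)
theorem F263569 : act 1 n122419 = n167438 := d15_1 D122419 F263565 (iv2 D122420)
theorem E24219 : n167332 = n152676 := (c20_1 (iv4 F263468) (iv1 D152676) D152678 F239895 (iv1 D72597) (iv3 F109131) F109132 D72649 (iv4 F195860) (iv3 F263563) (iv1 F263569))
theorem F263570 : act 3 n152676 = n80309 := (sb E24219 (iv3 D167332))
theorem F263571 : act 4 n152676 = n122419 := (sb E24219 F263468)
def n167439 : Q := act 5 n80349
theorem D167439 : act 5 n80349 = n167439 := rfl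
theorem F263572 : act 3 n167439 = n80350 := d6_1 D167439 (iv5 D80350) D80349
theorem F263573 : act 7 n167439 = n122421 := d13_2 (iv7 F123436) D167439 (iv5 D122421)
def n167440 : Q := act 6 n80349
theorem D167440 : act 6 n80349 = n167440 := rfl
theorem F263574 : act 3 n167440 = n80351 := d7_1 D167440 (iv6 D80351) D80349
theorem F263575 : act 4 n167440 = n80366 := d10_1 D167440 (iv6 D80366) (iv4 F123435)
theorem F263576 : act 5 n84719 = n167440 := d6_0 F263574 F123442 D84719
def n167441 : Q := act 1 n80350
theorem D167441 : act 1 n80350 = n167441 := rfl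
theorem F263577 : act 1 n167441 = n85882 := d15_1 D167441 F131734 (iv2 F123437)
theorem F263578 : act 7 n167441 = n85838 := d15_2 (iv0 F123439) D167441 F131692
def n167442 : Q := act 4 n80350
theorem D167442 : act 4 n80350 = n167442 := rfl
theorem F263581 : act 2 n167442 = n122416 := d1_1 D167442 (iv4 D122416) (iv2 F123437)
theorem F263582 : act 7 n167442 = n122423 := d11_2 (iv7 F123438) D167442 (iv4 D122423)
def n167443 : Q := act 6 n80350
theorem D167443 : act 6 n80350 = n167443 := rfl
theorem F263583 : act 2 n167443 = n122417 := d3_1 D167443 (iv6 D122417) (iv2 F123437)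
theorem F263584 : act 5 n167443 = n84721 := d12_1 D167443 (iv6 D84721) (iv5 F123442) (iv6 D80351) D80350
def n167444 : Q := act 1 n80351
theorem D167444 : act 1 n80351 = n167444 := rfl
theorem F263585 : act 1 n167444 = n84717 := d15_1 D167444 F129945 (iv2 F123440)
theorem F263586 : act 7 n167444 = n99986 := d15_2 (iv0 F123443) D167444 F153923
theorem F263587 : act 4 n167444 = n84780 := d17_9 (iv1 F129984) (iv5 D39183) (iv1 D18587) (iv5 D8730) (iv4 F13632) D18574 D39130 (iv5 F123442) D167444
theorem F263588 : act 6 n120625 = n167444 := d21_3 D39108 D84669 (iv5 F192233) (iv1 D167444) (iv6 D80351) D80350 F123439 (iv5 D39721) (iv6 D18791) F91157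
theorem F263589 : act 2 n167444 = n120640 := d3_1 F263588 (iv6 D120640) (iv2 F192231)
def n167445 : Q := act 7 n80351
theorem D167445 : act 7 n80351 = n167445 := rfl
theorem F263590 : act 2 n167445 = n84717 := d4_1 D167445 F129945 (iv2 F123440)
theorem F263591 : act 4 n167445 = n80359 := d11_1 D167445 (iv7 D80359) (iv4 F123441)
theorem F263592 : act 5 n167445 = n84642 := d13_1 D167445 F129839 (iv5 F123442)
theorem F263593 : act 6 n167445 = n120635 := d14_1 D167445 F201464 (iv6 D56733) (iv7 F91365) D80351
theorem F263594 : act 1 n120640 = n167445 := d15_1 (iv0 F192276) (iv7 D167445) F123440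
theorem F263595 : act 1 n167445 = n99986 := d15_1 F263594 (iv7 F263586) F263589
def n167446 : Q := act 3 n80354
theorem D167446 : act 3 n80354 = n167446 := rfl
theorem F263597 : act 7 n167446 = n85881 := d8_2 (iv7 F123458) D167446 (iv3 D85881)
def n167447 : Q := act 1 n80355
theorem D167447 : act 1 n80355 = n167447 := rfl
theorem F263598 : act 1 n167447 = n88644 := d15_1 D167447 (iv7 F263552) F263549
theorem F263599 : act 7 n167447 = n122295 := d15_2 (iv0 F126137) D167447 F195500
theorem F263600 : act 5 n167447 = n98156 := d18_9 (iv1 F151403) F250733 (iv1 D159245) (iv4 D76189) F55005 (iv4 F92623) (iv0 F198917) F198915 D167447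
theorem F263602 : act 6 n121504 = n167447 := d21_3 D98176 (iv1 F194883) (iv5 F194887) (iv1 D167447) (iv6 D80355) (iv5 D36611) D36607 F118650 F118857 (iv1 F72433)
theorem F263604 : act 4 n167447 = n124428 := d10_1 F263602 F199011 (iv4 F193859)
def n167449 : Q := act 1 n80360
theorem D167449 : act 1 n80360 = n167449 := rfl
theorem F263606 : act 4 n158406 = n167449 := d20_6 F118974 (iv1 D21878) (iv4 F27533) (iv3 F54835) D75555 D158406 (iv1 D167449) F123469 F113293 (iv1 F54800)
def n167450 : Q := act 2 n80360
theorem D167450 : act 2 n80360 = n167450 := rfl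
theorem F263608 : act 4 n167450 = n158317 := d1_2 (iv4 F123469) D167450 F249439
theorem F263609 : act 7 n167450 = n158300 := d4_2 (iv7 F123470) D167450 F249403
def n167455 : Q := act 4 n80362
theorem D167455 : act 4 n80362 = n167455 := rfl
theorem F263620 : act 0 n167455 = n152678 := d20_1 D167455 (iv4 D152678) (iv3 D72022) (iv1 D33267) F25589 F13121 D8315 D17654 D36616 D80362
def n167465 : Q := act 0 n80365
theorem D167465 : act 0 n80365 = n167465 := rfl
def n167466 : Q := act 1 n80365
theorem D167466 : act 1 n80365 = n167466 := rfl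
def n167467 : Q := act 4 n80365
theorem D167467 : act 4 n80365 = n167467 := rfl
def n167468 : Q := act 6 n80365
theorem D167468 : act 6 n80365 = n167468 := rfl
def n167469 : Q := act 0 n80366
theorem D167469 : act 0 n80366 = n167469 := rfl
def n167470 : Q := act 1 n80366
theorem D167470 : act 1 n80366 = n167470 := rfl
def n167471 : Q := act 5 n80366
theorem D167471 : act 5 n80366 = n167471 := rfl
def n167472 : Q := act 7 n80366
theorem D167472 : act 7 n80366 = n167472 := rfl
theorem F263627 : act 3 n167472 = n80373 := d8_1 D167472 (iv7 D80373) (iv3 F123473)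
def n167473 : Q := act 3 n80367
theorem D167473 : act 3 n80367 = n167473 := rfl
theorem F263628 : act 5 n167473 = n84128 := d6_2 (iv5 F123474) D167473 F129156
def n167475 : Q := act 6 n80367
theorem D167475 : act 6 n80367 = n167475 := rfl
theorem F263634 : act 5 n167475 = n84132 := d12_1 D167475 (iv6 D84132) (iv5 D38778) D38779 (iv5 F123474)
def n167483 : Q := act 5 n80370
theorem D167483 : act 5 n80370 = n167483 := rfl
theorem F263644 : act 6 n167483 = n80372 := d12_2 D80370 D167483 (iv5 D80372) (iv6 D36618) D36617
def n167485 : Q := act 3 n80371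
theorem D167485 : act 3 n80371 = n167485 := rfl
theorem F263645 : act 7 n167485 = n161168 := d8_2 (iv7 F123478) D167485 F254849
def n167486 : Q := act 1 n80372
theorem D167486 : act 1 n80372 = n167486 := rfl
theorem F263647 : act 7 n167486 = n83303 := d15_2 (iv0 F123479) D167486 F128384
theorem F263648 : act 5 n167486 = n83304 := d17_7 (iv1 F43674) (iv5 F43716) F57489 (iv5 D36627) (iv4 F57475) D80372 D167486 F128389 F118566
theorem F263649 : act 2 n83331 = n167486 := d2_3 F263648 F128385 (iv5 F128434)
def n167488 : Q := act 7 n80372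
theorem D167488 : act 7 n80372 = n167488 := rfl
theorem F263654 : act 5 n167488 = n80373 := d13_1 D167488 (iv7 D80373) D80372
def n167489 : Q := act 3 n80374
theorem D167489 : act 3 n80374 = n167489 := rfl
def n167490 : Q := act 3 n80376
theorem D167490 : act 3 n80376 = n167490 := rfl
theorem F263660 : act 4 n167490 = n84159 := d5_2 (iv4 F123492) D167490 F129196 F59818 (iv3 F59679)
theorem F263661 : act 7 n167490 = n84128 := d8_2 F123494 D167490 F129156
def n167491 : Q := act 3 n80377
theorem D167491 : act 3 n80377 = n167491 := rfl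
theorem F263663 : act 6 n167491 = n84120 := d7_2 F123500 D167491 (iv3 D84120)
def n167492 : Q := act 0 n80378
theorem D167492 : act 0 n80378 = n167492 := rfl
theorem F263665 : act 1 n161979 = n167492 := d15_0 (iv0 D167492) F123501 (iv2 F255976)
def n167493 : Q := act 1 n80378
theorem D167493 : act 1 n80378 = n167493 := rfl
def n167494 : Q := act 2 n80378
theorem D167494 : act 2 n80378 = n167494 := rfl
def n167495 : Q := act 5 n80378
theorem D167495 : act 5 n80378 = n167495 := rfl
theorem F263670 : act 3 n167495 = n80379 := d6_1 D167495 (iv5 D80379) D80378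
def n167496 : Q := act 6 n80378
theorem D167496 : act 6 n80378 = n167496 := rfl
theorem F263672 : act 3 n167496 = n80380 := d7_1 D167496 (iv6 D80380) D80378
def n167497 : Q := act 6 n80379
theorem D167497 : act 6 n80379 = n167497 := rfl
def n167498 : Q := act 1 n80381
theorem D167498 : act 1 n80381 = n167498 := rfl
theorem F263675 : act 1 n167498 = n83346 := d15_1 D167498 F128459 (iv2 F123512)
theorem F263676 : act 7 n167498 = n83308 := d15_2 (iv0 F123514) D167498 F128401
def n167499 : Q := act 3 n80381
theorem D167499 : act 3 n80381 = n167499 := rfl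
theorem F263680 : act 4 n167499 = n84795 := d5_2 D80381 D167499 (iv3 D84795) (iv4 F123466) F123463
def n167501 : Q := act 5 n80383
theorem D167501 : act 5 n80383 = n167501 := rfl
theorem F263685 : act 3 n167501 = n98173 := d6_1 D167501 (iv5 D98173) (iv3 F123522)
theorem F263686 : act 6 n167501 = n120261 := d12_2 D80383 D167501 (iv5 D120261) (iv6 F123519) (iv5 D80382)
def n167503 : Q := act 0 n80384
theorem D167503 : act 0 n80384 = n167503 := rfl
theorem F263699 : act 1 n122719 = n167503 := d15_0 (iv0 D167503) F123525 D122719
def n167505 : Q := act 2 n80384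
theorem D167505 : act 2 n80384 = n167505 := rfl
theorem F263701 : act 4 n167505 = n80395 := d1_2 (iv4 F123524) D167505 (iv2 D80395)
def n167508 : Q := act 4 n80385
theorem D167508 : act 4 n80385 = n167508 := rfl
theorem F263712 : act 1 n167508 = n123982 := d18_6 (iv1 F121342) (iv4 F121301) (iv1 D36631) D36633 D80385 D167508 (iv4 D123982) (iv0 F121464) (iv5 D57027)
def n167511 : Q := act 7 n80386
theorem D167511 : act 7 n80386 = n167511 := rfl
theorem F263723 : act 1 n120322 = n167511 := d15_1 (iv0 F196583) (iv7 D167511) F123529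
theorem F263724 : act 1 n167511 = n120527 := d15_1 F263723 (iv7 D120527) (iv2 F191612)
def n167530 : Q := act 3 n80400
theorem D167530 : act 3 n80400 = n167530 := rfl
theorem F263741 : act 7 n167530 = n161315 := d8_2 (iv7 F193758) D167530 F255136
def n167536 : Q := act 5 n80404
theorem D167536 : act 5 n80404 = n167536 := rfl
theorem F263750 : act 3 n167536 = n80405 := d6_1 D167536 (iv5 D80405) D80404
theorem F263751 : act 0 n167536 = n167079 := d21_7 (iv5 D18346) D18342 D38489 D83483 F191367 (iv6 F123562) D167536 (iv5 D167079) (iv6 D80212) (iv1 F57387)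
def n167537 : Q := act 6 n80405
theorem D167537 : act 6 n80405 = n167537 := rfl
theorem F263755 : act 5 n167537 = n161422 := d12_1 D167537 (iv6 D161422) (iv5 D77492) (iv6 F57495) D80405
def n167538 : Q := act 0 n80406
theorem D167538 : act 0 n80406 = n167538 := rfl
theorem F263756 : act 5 n167538 = n161565 := d17_1 D167538 (iv1 D161565) (iv5 D77600) (iv4 D35420) (iv5 D17179) (iv0 F125916) D33959 (iv0 F125951) D80406
theorem F263757 : act 4 n167538 = n80621 := d18_3 F57498 D80406 D167538 (iv5 D80621) F123966 F88719 F88716 F43699 D35411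
theorem F263758 : act 2 n84206 = n167538 := d1_3 F263757 F126156 D84206
theorem F263759 : act 6 n121596 = n167538 := d10_0 F263757 (iv6 F192849) (iv4 F194053)
theorem F263760 : act 7 n162018 = n167538 := d11_0 F263757 (iv7 F194370) (iv4 F256455)
theorem F263762 : act 7 n161565 = n162324 := d13_2 F263760 F263756 F256461
theorem F263763 : act 2 n162324 = n161564 := d15_3 (iv0 D161564) D161565 F263762
def n167539 : Q := act 1 n80406
theorem D167539 : act 1 n80406 = n167539 := rfl
theorem F263767 : act 7 n167539 = n84206 := d15_2 (iv0 D167538) D167539 F263758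
theorem F263768 : act 4 n167539 = n80617 := d18_7 (iv1 D158204) (iv4 F123138) F250441 F57494 D36642 D80406 D167539 F249204 (iv5 F249202)
theorem F263770 : act 5 n161564 = n167539 := d17_3 (iv1 D77598) D77600 D161564 F263768 (iv5 D80617) (iv0 D36791) (iv5 F56996) D79615 (iv4 F123556)
def n167540 : Q := act 3 n80406
theorem D167540 : act 3 n80406 = n167540 := rfl
theorem F263771 : act 6 n167540 = n161426 := d7_2 (iv6 F123569) D167540 (iv3 D161426)
def n167543 : Q := act 6 n80408
theorem D167543 : act 6 n80408 = n167543 := rfl
def n167544 : Q := act 6 n80409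
theorem D167544 : act 6 n80409 = n167544 := rfl
theorem F263783 : act 4 n167544 = n164867 := d10_1 D167544 (iv6 D164867) F123580
def n167545 : Q := act 0 n80410
theorem D167545 : act 0 n80410 = n167545 := rfl
def n167546 : Q := act 1 n80410
theorem D167546 : act 1 n80410 = n167546 := rfl
def n167547 : Q := act 5 n80410
theorem D167547 : act 5 n80410 = n167547 := rfl
theorem F263784 : act 3 n167547 = n80412 := d6_1 D167547 (iv5 D80412) (iv3 F123582)
def n167548 : Q := act 7 n80410
theorem D167548 : act 7 n80410 = n167548 := rfl
theorem F263785 : act 3 n167548 = n80413 := d8_1 D167548 (iv7 D80413) (iv3 F123582)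
def n167549 : Q := act 1 n80412
theorem D167549 : act 1 n80412 = n167549 := rfl
def n167550 : Q := act 4 n80412
theorem D167550 : act 4 n80412 = n167550 := rfl
def n167551 : Q := act 7 n80412
theorem D167551 : act 7 n80412 = n167551 := rfl
theorem F263794 : act 5 n167551 = n80413 := d13_1 D167551 (iv7 D80413) D80412
def n167552 : Q := act 3 n80414
theorem D167552 : act 3 n80414 = n167552 := rfl
theorem F263797 : act 4 n167552 = n81588 := d5_2 D80414 D167552 (iv3 D81588) (iv4 F117096) F115906
theorem F263799 : act 0 n127888 = n167552 := d20_4 F233705 (iv1 D72329) (iv4 F94623) (iv3 F205804) (iv3 D167552) (iv4 D80414) (iv1 F57510) (iv4 F57527) (iv3 F106180) (iv1 F233703)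
def n167553 : Q := act 5 n80414
theorem D167553 : act 5 n80414 = n167553 := rfl
theorem F263800 : act 2 n167553 = n80441 := d2_1 D167553 (iv5 D80441) (iv2 F123594)
theorem F263801 : act 7 n167553 = n80447 := d13_2 (iv7 F123595) D167553 (iv5 D80447)
def n167557 : Q := act 6 n80418
theorem D167557 : act 6 n80418 = n167557 := rfl
theorem F263809 : act 3 n167557 = n152378 := d7_1 D167557 (iv6 D152378) (iv3 F123604)
theorem F263810 : act 4 n167557 = n161149 := d10_1 D167557 (iv6 D161149) (iv4 F123605)
def n167563 : Q := act 6 n80421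
theorem D167563 : act 6 n80421 = n167563 := rfl
theorem F263816 : act 2 n167563 = n152434 := d3_1 D167563 (iv6 D152434) (iv2 F123613)
theorem F263817 : act 3 n167563 = n80422 := d7_1 D167563 (iv6 D80422) D80421
def n167564 : Q := act 0 n80422
theorem D167564 : act 0 n80422 = n167564 := rfl
def n167565 : Q := act 1 n80422
theorem D167565 : act 1 n80422 = n167565 := rfl
theorem F263818 : act 1 n167565 = n83108 := d15_1 D167565 (iv7 D83108) (iv2 F123616)
def n167566 : Q := act 5 n80422
theorem D167566 : act 5 n80422 = n167566 := rfl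
theorem F263819 : act 2 n167566 = n83107 := d2_1 D167566 (iv5 D83107) (iv2 F123616)
theorem F263820 : act 6 n167566 = n83091 := d12_2 D80422 D167566 (iv5 D83091) (iv6 D38243) (iv5 F57517)
def n167567 : Q := act 7 n80422
theorem D167567 : act 7 n80422 = n167567 := rfl
theorem F263821 : act 2 n167567 = n83108 := d4_1 D167567 (iv7 D83108) (iv2 F123616)
theorem F263822 : act 6 n167567 = n160728 := d14_1 D167567 (iv7 D160728) (iv6 D77117) F57520 D80422
theorem F263823 : act 1 n83108 = n167564 := d15_0 (iv0 D167564) D167567 F263821
theorem F263824 : act 1 n83106 = n167567 := d15_1 D83106 (iv7 D167567) F123616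
theorem F263825 : act 1 n167567 = n83105 := d15_0 (iv0 D83105) D83108 (iv2 F263821)
def n167568 : Q := act 0 n80423
theorem D167568 : act 0 n80423 = n167568 := rfl
def n167569 : Q := act 1 n80423
theorem D167569 : act 1 n80423 = n167569 := rfl
theorem F263826 : act 1 n167569 = n160728 := d15_1 D167569 (iv7 D160728) (iv2 F123617)
def n167570 : Q := act 5 n80423
theorem D167570 : act 5 n80423 = n167570 := rfl
theorem F263827 : act 2 n167570 = n160727 := d2_1 D167570 (iv5 D160727) (iv2 F123617)
def n167571 : Q := act 7 n80423
theorem D167571 : act 7 n80423 = n167571 := rfl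
theorem F263830 : act 2 n167571 = n160728 := d4_1 D167571 (iv7 D160728) (iv2 F123617)
theorem F263831 : act 3 n167571 = n152412 := d8_1 D167571 (iv7 D152412) (iv3 F123618)
theorem F263832 : act 6 n167571 = n83108 := d14_1 D167571 (iv7 D83108) (iv6 D38254) (iv7 F57522) D80423
theorem F263833 : act 1 n160728 = n167568 := d15_0 (iv0 D167568) D167571 F263830
theorem F263834 : act 1 n160726 = n167571 := d15_1 D160726 (iv7 D167571) F123617
theorem F263835 : act 1 n167571 = n160725 := d15_0 (iv0 D160725) D160728 (iv2 F263830)
def n167572 : Q := act 2 n80424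
theorem D167572 : act 2 n80424 = n167572 := rfl
theorem F263836 : act 7 n80425 = n167572 := d15_2 (iv0 D80424) D80425 (iv2 D167572)
def n167573 : Q := act 3 n80424
theorem D167573 : act 3 n80424 = n167573 := rfl
def n167574 : Q := act 4 n80424
theorem D167574 : act 4 n80424 = n167574 := rfl
def n167575 : Q := act 5 n80424
theorem D167575 : act 5 n80424 = n167575 := rfl
def n167576 : Q := act 6 n80424
theorem D167576 : act 6 n80424 = n167576 := rfl
def n167577 : Q := act 7 n80424
theorem D167577 : act 7 n80424 = n167577 := rfl
theorem F263837 : act 2 n167577 = n80425 := d4_1 D167577 F263836 (iv2 D167572)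
def n167578 : Q := act 3 n80425
theorem D167578 : act 3 n80425 = n167578 := rfl
def n167579 : Q := act 4 n80425
theorem D167579 : act 4 n80425 = n167579 := rfl
def n167580 : Q := act 5 n80425
theorem D167580 : act 5 n80425 = n167580 := rfl
def n167581 : Q := act 6 n80425
theorem D167581 : act 6 n80425 = n167581 := rfl
def n167582 : Q := act 0 n80426
theorem D167582 : act 0 n80426 = n167582 := rfl
def n167583 : Q := act 1 n80426
theorem D167583 : act 1 n80426 = n167583 := rfl
def n167584 : Q := act 4 n80426
theorem D167584 : act 4 n80426 = n167584 := rfl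
theorem F263838 : act 6 n167584 = n80436 := d10_2 (iv6 F123619) D167584 (iv4 D80436)
def n167585 : Q := act 7 n80426
theorem D167585 : act 7 n80426 = n167585 := rfl
theorem F263839 : act 5 n167585 = n80427 := d13_1 D167585 (iv7 D80427) D80426
def n167586 : Q := act 0 n80428
theorem D167586 : act 0 n80428 = n167586 := rfl
def n167587 : Q := act 1 n80428
theorem D167587 : act 1 n80428 = n167587 := rfl
def n167588 : Q := act 2 n80428
theorem D167588 : act 2 n80428 = n167588 := rfl
theorem F263840 : act 3 n167588 = n158702 := d0_2 D80428 D167588 (iv2 D158702) (iv3 D75702) F113062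
theorem F263841 : act 4 n167588 = n161313 := d1_2 (iv4 F123621) D167588 (iv2 D161313)
def n167589 : Q := act 5 n80428
theorem D167589 : act 5 n80428 = n167589 := rfl
theorem F263842 : act 3 n167589 = n80429 := d6_1 D167589 (iv5 D80429) D80428
def n167590 : Q := act 6 n80428
theorem D167590 : act 6 n80428 = n167590 := rfl
theorem F263843 : act 3 n167590 = n80430 := d7_1 D167590 (iv6 D80430) D80428
theorem F263844 : act 4 n167590 = n161315 := d10_1 D167590 (iv6 D161315) (iv4 F123621)
def n167591 : Q := act 4 n80429
theorem D167591 : act 4 n80429 = n167591 := rfl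
def n167592 : Q := act 6 n80429
theorem D167592 : act 6 n80429 = n167592 := rfl
theorem F263846 : act 2 n167592 = n158707 := d3_1 D167592 (iv6 D158707) (iv2 F123622)
def n167593 : Q := act 0 n80431
theorem D167593 : act 0 n80431 = n167593 := rfl
theorem F263847 : act 1 n158702 = n167593 := d15_0 (iv0 D167593) F123626 D158702
theorem F263848 : act 4 n158484 = n167593 := d20_0 (iv1 F263847) F249860 (iv3 F249217) (iv1 F249220) F205692 (iv4 F205687) (iv1 F205689) F233757 D75606 D158484
def n167594 : Q := act 1 n80431
theorem D167594 : act 1 n80431 = n167594 := rfl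
theorem F263849 : act 4 n158566 = n167594 := d20_6 F29329 (iv1 F59747) (iv4 D34592) D34591 D75638 D158566 (iv1 D167594) F123625 (iv3 D75367) F59725
theorem F263850 : act 0 n158702 = n167594 := d20_7 F249161 (iv1 D99476) (iv4 F153244) F153243 (iv1 F249219) F249217 (iv4 F249860) (iv4 F263849) (iv3 D158566) (iv1 F249163)
theorem E24220 : n158566 = n158485 := (c20_1 (iv4 F263849) (iv1 D158485) D158487 F249687 F233852 (iv3 F240744) F240745 (iv1 F255134) (iv4 F263841) F263840 F263850)
theorem F263852 : act 4 n158485 = n167594 := (sb E24220 F263849)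
def n167596 : Q := act 5 n80431
theorem D167596 : act 5 n80431 = n167596 := rfl
theorem F263857 : act 3 n167596 = n80432 := d6_1 D167596 (iv5 D80432) D80431
theorem F263858 : act 7 n167596 = n158703 := d13_2 (iv7 F123626) D167596 (iv5 D158703)
def n167597 : Q := act 6 n80431
theorem D167597 : act 6 n80431 = n167597 := rfl
theorem F263859 : act 3 n167597 = n80433 := d7_1 D167597 (iv6 D80433) D80431
theorem F263860 : act 4 n167597 = n158218 := d10_1 D167597 (iv6 D158218) (iv4 F123625)
def n167598 : Q := act 4 n80432
theorem D167598 : act 4 n80432 = n167598 := rfl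
def n167599 : Q := act 6 n80432
theorem D167599 : act 6 n80432 = n167599 := rfl
def n167607 : Q := act 1 n80436
theorem D167607 : act 1 n80436 = n167607 := rfl
def n167608 : Q := act 3 n80436
theorem D167608 : act 3 n80436 = n167608 := rfl
def n167609 : Q := act 5 n80436
theorem D167609 : act 5 n80436 = n167609 := rfl
def n167610 : Q := act 7 n80436
theorem D167610 : act 7 n80436 = n167610 := rfl
theorem F263867 : act 4 n167610 = n80437 := d11_1 D167610 (iv7 D80437) D80436
def n167611 : Q := act 6 n80437
theorem D167611 : act 6 n80437 = n167611 := rfl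
def n167612 : Q := act 0 n80440
theorem D167612 : act 0 n80440 = n167612 := rfl
def n167613 : Q := act 1 n80440
theorem D167613 : act 1 n80440 = n167613 := rfl
def n167614 : Q := act 2 n80440
theorem D167614 : act 2 n80440 = n167614 := rfl
def n167615 : Q := act 5 n80440
theorem D167615 : act 5 n80440 = n167615 := rfl
theorem F263869 : act 3 n167615 = n80441 := d6_1 D167615 (iv5 D80441) D80440
def n167616 : Q := act 6 n80440
theorem D167616 : act 6 n80440 = n167616 := rfl
theorem F263870 : act 3 n167616 = n80442 := d7_1 D167616 (iv6 D80442) D80440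
def n167618 : Q := act 1 n80441
theorem D167618 : act 1 n80441 = n167618 := rfl
theorem F263873 : act 1 n167618 = n80447 := d15_1 D167618 (iv7 F263801) F263800
theorem F263874 : act 5 n167618 = n84060 := d17_7 F121401 F57107 (iv1 F120885) (iv5 D36661) D36660 D80441 D167618 (iv0 F256997) F256995
def n167621 : Q := act 5 n80442
theorem D167621 : act 5 n80442 = n167621 := rfl
theorem F263875 : act 0 n167621 = n81851 := d17_2 (iv1 F249894) D167621 (iv5 D81851) F58360 D37477 (iv0 F117616) (iv5 D75711) D75710 D158715
def n167624 : Q := act 0 n80445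
theorem D167624 : act 0 n80445 = n167624 := rfl
theorem F263881 : act 5 n167624 = n84532 := d21_2 F192770 D167624 F136109 (iv1 F136113) F146885 (iv5 F133769) F133768 (iv5 F146818) (iv6 F146820) D120870
theorem F263884 : act 1 n80830 = n167624 := d15_0 (iv0 D167624) (iv7 F195247) (iv2 F195248)
theorem F263885 : act 7 n167624 = n80821 := d15_2 D80830 F263884 F124526
theorem F263886 : act 4 n84454 = n167624 := d11_3 F263885 F124528 (iv7 F129596)
theorem F263887 : act 3 n96838 = n149953 := d20_3 F263886 (iv1 F263884) (iv4 F149304) (iv1 D149953) (iv3 D70528) (iv4 D32717) (iv1 F51779) D70496 F131055 (iv1 F129597)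
theorem F263888 : act 7 n149953 = n162782 := d8_2 (iv7 F149302) F263887 (iv3 F257056)
theorem F263889 : act 2 n162782 = n149952 := d15_3 (iv0 D149952) D149953 F263888
theorem F263890 : act 2 n149953 = n162781 := d15_3 (iv0 D162781) D162782 (iv7 F263888)
def n167625 : Q := act 0 n80446
theorem D167625 : act 0 n80446 = n167625 := rfl
def n167626 : Q := act 1 n80446
theorem D167626 : act 1 n80446 = n167626 := rfl
theorem F263892 : act 3 n127892 = n167626 := d20_3 F192122 (iv1 F108871) (iv4 F205807) (iv1 D167626) (iv3 D80446) (iv4 D36665) (iv1 D17668) (iv4 F28740) (iv3 F51443) D69765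
theorem F263893 : act 4 n150445 = n167626 := d20_6 F33954 (iv1 F116655) D16818 D34728 F130792 (iv3 F236867) (iv1 D167626) (iv4 F149159) (iv3 D96730) (iv1 D45195)
theorem F263895 : act 7 n167626 = n127888 := d11_2 D150445 F263893 F205805
theorem E24221 : n167625 = n166838 := ((c15_4 (iv0 D167625) D167626 F263895 (iv2 F262568))).symm
theorem F263896 : act 1 n166838 = n80446 := (sb E24221 (iv0 D167625))
def n167627 : Q := act 2 n80446
theorem D167627 : act 2 n80446 = n167627 := rfl
def n167628 : Q := act 5 n80446
theorem D167628 : act 5 n80446 = n167628 := rfl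
theorem F263897 : act 3 n167628 = n80447 := d6_1 D167628 (iv5 D80447) D80446
def n167632 : Q := act 0 n80448
theorem D167632 : act 0 n80448 = n167632 := rfl
theorem F263899 : act 5 n167632 = n160634 := d17_1 D167632 (iv1 F253742) (iv5 D78162) (iv4 D35636) D35637 (iv0 F121274) D35722 (iv0 F120897) (iv4 F123652)
theorem F263900 : act 1 n162990 = n167632 := d15_0 (iv0 D167632) (iv7 F195253) (iv2 F257350)
def n167633 : Q := act 5 n80448
theorem D167633 : act 5 n80448 = n167633 := rfl
theorem F263903 : act 0 n167633 = n83126 := d17_2 (iv1 F249286) D167633 (iv5 D83126) (iv4 D38266) D38267 F128133 (iv5 F248943) F249236 (iv4 F249285)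
def n167639 : Q := act 6 n80453
theorem D167639 : act 6 n80453 = n167639 := rfl
theorem F263919 : act 2 n167639 = n161016 := d3_1 D167639 (iv6 D161016) (iv2 F123666)
theorem F263920 : act 3 n167639 = n167169 := d7_1 D167639 (iv6 D167169) (iv3 F123663)
def n167640 : Q := act 6 n80454
theorem D167640 : act 6 n80454 = n167640 := rfl
theorem F263921 : act 2 n167640 = n161014 := d3_1 D167640 (iv6 D161014) F123671
def n167641 : Q := act 0 n80455
theorem D167641 : act 0 n80455 = n167641 := rfl
def n167642 : Q := act 1 n80455
theorem D167642 : act 1 n80455 = n167642 := rfl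
def n167643 : Q := act 5 n80455
theorem D167643 : act 5 n80455 = n167643 := rfl
theorem F263922 : act 3 n167643 = n80457 := d6_1 D167643 (iv5 D80457) (iv3 F123672)
def n167644 : Q := act 7 n80455
theorem D167644 : act 7 n80455 = n167644 := rfl
theorem F263923 : act 3 n167644 = n80458 := d8_1 D167644 (iv7 D80458) (iv3 F123672)
def n167645 : Q := act 3 n80456
theorem D167645 : act 3 n80456 = n167645 := rfl
theorem F263926 : act 4 n167645 = n80693 := d5_2 F123676 D167645 (iv3 D80693) (iv4 F117593) F117592
def n167646 : Q := act 0 n80457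
theorem D167646 : act 0 n80457 = n167646 := rfl
theorem F263928 : act 5 n167646 = n162850 := d17_3 (iv1 D80456) D80457 D167646 F257122 F197470 F196356 (iv5 D56913) D56912 F123676
def n167647 : Q := act 1 n80457
theorem D167647 : act 1 n80457 = n167647 := rfl
theorem F263932 : act 1 n167647 = n80474 := d15_1 D167647 (iv7 D80474) (iv2 F123678)
theorem F263934 : act 5 n167647 = n86667 := d17_7 (iv1 F122686) F122687 (iv1 D79940) F57166 (iv4 F57558) D80457 D167647 (iv0 F192757) F119505
theorem F263935 : act 2 n80472 = n167647 := d2_3 F263934 F132909 F123694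
def n167648 : Q := act 4 n80457
theorem D167648 : act 4 n80457 = n167648 := rfl
theorem F263936 : act 2 n167648 = n80473 := d1_1 D167648 (iv4 D80473) (iv2 F123678)
def n167649 : Q := act 7 n80457
theorem D167649 : act 7 n80457 = n167649 := rfl
theorem F263937 : act 2 n167649 = n80474 := d4_1 D167649 (iv7 D80474) (iv2 F123678)
theorem F263938 : act 5 n167649 = n80458 := d13_1 D167649 (iv7 D80458) D80457
theorem F263939 : act 1 n80472 = n167649 := d15_1 D80472 (iv7 D167649) F123678
def n167650 : Q := act 3 n80459
theorem D167650 : act 3 n80459 = n167650 := rfl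
theorem F263941 : act 4 n167650 = n81975 := d5_2 D80459 D167650 (iv3 D81975) F117323 (iv3 F114036)
theorem F263943 : act 7 n167650 = n80483 := d8_2 (iv7 F123686) D167650 (iv3 D80483)
theorem F263944 : act 0 n98050 = n167650 := d20_4 F233954 F232772 (iv4 F193619) F193618 (iv3 D167650) (iv4 D80459) F57560 (iv4 F57567) (iv3 F106257) (iv1 F233952)
def n167651 : Q := act 5 n80459
theorem D167651 : act 5 n80459 = n167651 := rfl
theorem F263945 : act 2 n167651 = n80478 := d2_1 D167651 (iv5 D80478) (iv2 F123684)
def n167652 : Q := act 5 n80460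
theorem D167652 : act 5 n80460 = n167652 := rfl
theorem F263947 : act 2 n167652 = n80484 := d2_1 D167652 (iv5 D80484) (iv2 F123688)
theorem F263948 : act 7 n167652 = n80478 := d13_2 (iv7 F123689) D167652 (iv5 D80478)
def n167655 : Q := act 4 n80461
theorem D167655 : act 4 n80461 = n167655 := rfl
def n167657 : Q := act 6 n80461
theorem D167657 : act 6 n80461 = n167657 := rfl
theorem F263950 : act 5 n167657 = n88123 := d21_6 F30288 F14113 D17682 D36685 D80461 D167657 (iv1 D88123) (iv5 D41143) (iv6 D19354) (iv1 F30287)
def n167663 : Q := act 0 n80463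
theorem D167663 : act 0 n80463 = n167663 := rfl
def n167664 : Q := act 1 n80463
theorem D167664 : act 1 n80463 = n167664 := rfl
theorem F263952 : act 5 n101297 = n167664 := d21_6 F36466 (iv1 D18930) (iv5 F17276) D22693 D47165 D101297 (iv1 D167664) (iv5 D80463) (iv6 D36685) (iv1 F36469)
def n167665 : Q := act 4 n80463
theorem D167665 : act 4 n80463 = n167665 := rfl
theorem F263953 : act 6 n167665 = n80473 := d10_2 (iv6 F123691) D167665 (iv4 D80473)
def n167666 : Q := act 7 n80463
theorem D167666 : act 7 n80463 = n167666 := rfl
theorem F263954 : act 5 n167666 = n80464 := d13_1 D167666 (iv7 D80464) D80463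
def n167672 : Q := act 4 n80466
theorem D167672 : act 4 n80466 = n167672 := rfl
def n167673 : Q := act 6 n80466
theorem D167673 : act 6 n80466 = n167673 := rfl
def n167674 : Q := act 0 n80468
theorem D167674 : act 0 n80468 = n167674 := rfl
def n167675 : Q := act 1 n80468
theorem D167675 : act 1 n80468 = n167675 := rfl
def n167676 : Q := act 2 n80468
theorem D167676 : act 2 n80468 = n167676 := rfl
def n167677 : Q := act 5 n80468
theorem D167677 : act 5 n80468 = n167677 := rfl
theorem F263959 : act 3 n167677 = n80469 := d6_1 D167677 (iv5 D80469) D80468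
def n167678 : Q := act 6 n80468
theorem D167678 : act 6 n80468 = n167678 := rfl
theorem F263960 : act 3 n167678 = n80470 := d7_1 D167678 (iv6 D80470) D80468
def n167679 : Q := act 4 n80469
theorem D167679 : act 4 n80469 = n167679 := rfl
def n167680 : Q := act 6 n80469
theorem D167680 : act 6 n80469 = n167680 := rfl
def n167684 : Q := act 3 n80472
theorem D167684 : act 3 n80472 = n167684 := rfl
def n167685 : Q := act 4 n80472
theorem D167685 : act 4 n80472 = n167685 := rfl
def n167686 : Q := act 6 n80472
theorem D167686 : act 6 n80472 = n167686 := rfl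
def n167687 : Q := act 0 n80473
theorem D167687 : act 0 n80473 = n167687 := rfl
theorem F263963 : act 4 n167687 = n162922 := d18_3 (iv1 D80472) D80473 D167687 (iv5 D162922) (iv4 D78320) (iv0 D35699) (iv4 F56371) D78302 F123694
def n167688 : Q := act 1 n80473
theorem D167688 : act 1 n80473 = n167688 := rfl
def n167689 : Q := act 3 n80473
theorem D167689 : act 3 n80473 = n167689 := rfl
def n167690 : Q := act 5 n80473
theorem D167690 : act 5 n80473 = n167690 := rfl
def n167691 : Q := act 7 n80473
theorem D167691 : act 7 n80473 = n167691 := rfl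
theorem F263964 : act 4 n167691 = n80474 := d11_1 D167691 (iv7 D80474) D80473
def n167692 : Q := act 6 n80474
theorem D167692 : act 6 n80474 = n167692 := rfl
theorem F263965 : act 5 n167692 = n161080 := d12_1 D167692 (iv6 D161080) F116091 (iv6 F57568) (iv5 F123695)
def n167693 : Q := act 4 n80475
theorem D167693 : act 4 n80475 = n167693 := rfl
theorem F263969 : act 0 n167693 = n83277 := d18_2 F136138 D167693 (iv4 D83277) (iv5 D38355) (iv4 F59206) (iv0 F126912) F126910 (iv0 F72538) (iv5 F136137)
def n167695 : Q := act 5 n80476
theorem D167695 : act 5 n80476 = n167695 := rfl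
theorem F263974 : act 7 n167695 = n81603 := d13_2 (iv7 F123701) D167695 (iv5 D81603)
theorem F263975 : act 0 n167695 = n162925 := d17_2 D80476 D167695 (iv5 D162925) (iv4 D78325) F119485 F122694 F122692 F57566 D36692
theorem F263976 : act 1 n167695 = n162922 := d17_6 D123192 F197470 (iv1 F196354) F125521 (iv4 F123699) D167695 (iv5 D162922) (iv0 F196352) F132667
theorem F263977 : act 4 n162925 = n167688 := d18_1 F263975 (iv1 D167688) (iv4 D80473) (iv5 D36688) F28754 D17685 D36697 F123700 D167695
def n167699 : Q := act 5 n80477
theorem D167699 : act 5 n80477 = n167699 := rfl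
theorem F263978 : act 3 n167699 = n80478 := d6_1 D167699 (iv5 D80478) D80477
def n167701 : Q := act 0 n80478
theorem D167701 : act 0 n80478 = n167701 := rfl
theorem F263983 : act 1 n80484 = n167701 := d15_0 (iv0 D167701) (iv7 F263948) F263947
def n167702 : Q := act 1 n80478
theorem D167702 : act 1 n80478 = n167702 := rfl
def n167703 : Q := act 4 n80478
theorem D167703 : act 4 n80478 = n167703 := rfl
def n167705 : Q := act 1 n80479
theorem D167705 : act 1 n80479 = n167705 := rfl
theorem F263986 : act 7 n167705 = n87516 := d15_2 (iv0 F132472) D167705 F134394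
theorem F263987 : act 4 n167705 = n87518 := d18_7 (iv1 F71209) (iv4 F134060) (iv1 F134062) (iv4 D77276) (iv5 F57570) (iv4 F123704) D167705 (iv0 F149092) (iv5 D96711)
theorem F263990 : act 5 n86682 = n167705 := d17_3 (iv1 F61084) D40199 (iv1 F132928) F263987 F134401 F90962 (iv5 F116687) (iv0 F116734) F90483
def n167706 : Q := act 5 n80479
theorem D167706 : act 5 n80479 = n167706 := rfl
theorem F263993 : act 0 n167706 = n81522 := d17_2 (iv1 D167705) D167706 (iv5 D81522) F58179 (iv5 F33948) D45186 F116678 F134402 (iv4 F263987)
def n167707 : Q := act 0 n80480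
theorem D167707 : act 0 n80480 = n167707 := rfl
theorem F263995 : act 1 n80486 = n167707 := d15_0 (iv0 D167707) (iv7 F257256) F257254
def n167708 : Q := act 1 n80480
theorem D167708 : act 1 n80480 = n167708 := rfl
theorem F263996 : act 1 n167708 = n80486 := d15_1 D167708 F257216 F257214
def n167709 : Q := act 3 n80480
theorem D167709 : act 3 n80480 = n167709 := rfl
def n167710 : Q := act 5 n80480
theorem D167710 : act 5 n80480 = n167710 := rfl
def n167711 : Q := act 0 n80481
theorem D167711 : act 0 n80481 = n167711 := rfl
theorem F263998 : act 5 n167711 = n167434 := d17_3 (iv1 F114030) D80481 D167711 F263551 (iv5 F250715) (iv0 D159222) (iv5 D76169) F91498 F73813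
theorem F263999 : act 4 n167711 = n159227 := d18_1 D167711 (iv1 F250723) (iv4 D81987) (iv5 D37549) D37548 F117327 (iv4 F34427) (iv0 F114029) D80481
theorem F264002 : act 1 n98155 = n167711 := d15_0 (iv0 D167711) F123708 (iv2 F151398)
def n167712 : Q := act 4 n80481
theorem D167712 : act 4 n80481 = n167712 := rfl
theorem F264007 : act 6 n167712 = n157877 := d10_2 F193991 D167712 F248795
theorem F264010 : act 0 n167712 = n84789 := d20_7 (iv4 F256980) (iv1 F256983) (iv4 D160792) F121410 F119479 (iv3 F123707) D167712 F130001 (iv3 F129998) F195739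
def n167713 : Q := act 0 n80483
theorem D167713 : act 0 n80483 = n167713 := rfl
def n167714 : Q := act 1 n80483
theorem D167714 : act 1 n80483 = n167714 := rfl
theorem F264011 : act 4 n100110 = n167714 := d20_6 F44099 F117290 D35147 (iv3 F106261) F232803 (iv3 F232755) (iv1 D167714) (iv4 F195795) (iv3 D122380) (iv1 D56701)
theorem F264012 : act 7 n167714 = n98050 := d11_2 (iv7 F232749) F264011 F151189
theorem E24222 : n167713 = n86399 := ((c15_4 (iv0 D167713) D167714 F264012 F151188)).symm
theorem F264014 : act 1 n86399 = n80483 := (sb E24222 (iv0 D167713))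
theorem E24223 : n101205 = n87892 := ((c20_1 D87892 (iv1 F155918) F132658 F62341 (iv1 F89677) D122380 F195795 (iv1 F264014) F132456 F62137 D41007)).symm
theorem F264016 : act 1 n87892 = n47133 := (sb E24223 (iv0 D101205))
theorem E24224 : n87891 = n82018 := (c20_4 (iv4 F74378) (iv1 F264016) (iv4 D87892) D87891 (iv1 F152886) F152882 (iv4 F127871) (iv1 F127874) (iv4 F155082) D47042 (iv1 F155086))
theorem F264017 : act 3 n82018 = n41007 := (sb E24224 (iv3 D87891))
def n167715 : Q := act 2 n80483
theorem D167715 : act 2 n80483 = n167715 := rfl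
theorem F264018 : act 4 n167715 = n100825 := d1_2 F195795 D167715 (iv2 F195794)
theorem F264019 : act 0 n167715 = n98050 := d20_7 (iv4 D70625) (iv1 F51863) (iv4 F106312) (iv3 F154869) (iv1 F154871) D100825 (iv4 F264018) F151189 F107125 (iv1 F232741)
def n167716 : Q := act 5 n80483
theorem D167716 : act 5 n80483 = n167716 := rfl
theorem F264020 : act 3 n167716 = n80484 := d6_1 D167716 (iv5 D80484) D80483
def n167717 : Q := act 6 n80483
theorem D167717 : act 6 n80483 = n167717 := rfl
theorem F264021 : act 3 n167717 = n80485 := d7_1 D167717 (iv6 D80485) D80483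
def n167718 : Q := act 4 n80484
theorem D167718 : act 4 n80484 = n167718 := rfl
def n167720 : Q := act 0 n80485
theorem D167720 : act 0 n80485 = n167720 := rfl
theorem F264022 : act 5 n167720 = n86530 := d17_1 D167720 (iv1 F132742) (iv5 D79712) (iv4 D36297) D36298 (iv0 F118846) D36383 F119051 (iv4 F123711)
theorem F264023 : act 4 n167720 = n87332 := d18_3 F118546 (iv4 F123711) D167720 F134088 F132774 (iv0 D86540) (iv4 D40115) D40114 (iv5 F61004)
theorem F264024 : act 1 n161098 = n167720 := d15_0 (iv0 D167720) (iv7 F194677) (iv2 F254659)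
theorem F264025 : act 7 n167720 = n87329 := d15_2 (iv0 F254662) F264024 F134079
def n167721 : Q := act 5 n80485
theorem D167721 : act 5 n80485 = n167721 := rfl
def n167722 : Q := act 3 n80486
theorem D167722 : act 3 n80486 = n167722 := rfl
def n167723 : Q := act 5 n80486
theorem D167723 : act 5 n80486 = n167723 := rfl
def n167726 : Q := act 2 n80487
theorem D167726 : act 2 n80487 = n167726 := rfl
theorem F264028 : act 3 n167726 = n160926 := d0_2 D80487 D167726 (iv2 D160926) (iv3 D77223) (iv2 F57581)
def n167730 : Q := act 3 n80490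
theorem D167730 : act 3 n80490 = n167730 := rfl
theorem F264039 : act 4 n167730 = n80491 := d5_2 D80490 D167730 (iv3 D80491) (iv4 D36712) (iv3 F57590)
def n167732 : Q := act 0 n80491
theorem D167732 : act 0 n80491 = n167732 := rfl
theorem F264044 : act 1 n160926 = n167732 := d15_0 (iv0 D167732) F123721 D160926
def n167733 : Q := act 1 n80491
theorem D167733 : act 1 n80491 = n167733 := rfl
def n167734 : Q := act 2 n80491
theorem D167734 : act 2 n80491 = n167734 := rfl
theorem F264046 : act 7 n167734 = n160926 := d4_2 (iv7 F123721) D167734 (iv2 D160926)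
theorem F264048 : act 1 n167733 = n160926 := d15_1 D167733 (iv7 F264046) (iv2 D167734)
theorem F264049 : act 1 n160925 = n167734 := d15_1 D160925 F264046 (iv2 D160926)
def n167735 : Q := act 0 n80492
theorem D167735 : act 0 n80492 = n167735 := rfl
theorem F264050 : act 3 n167735 = n82541 := d20_5 (iv4 D17705) D17702 D36715 D80492 D167735 (iv4 D82541) (iv1 D37893) (iv4 F58676) F58675 (iv1 F117810)
theorem F264051 : act 4 n167735 = n153361 := d20_0 (iv1 D153361) (iv4 F109160) F109159 (iv1 F190175) (iv3 D36728) (iv4 D17705) D17702 D36715 D80492 D167735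
def n167736 : Q := act 1 n80492
theorem D167736 : act 1 n80492 = n167736 := rfl
theorem F264053 : act 4 n153360 = n167736 := d20_0 (iv1 D167736) (iv4 F191832) F191831 F121341 (iv3 F86559) (iv4 D54736) (iv1 F190103) (iv4 F52745) (iv3 F108986) D153360
theorem E24225 : n153360 = n122679 := ((c20_6 (iv4 D27281) (iv1 F121117) (iv4 F21865) (iv3 F44244) D56985 D122679 F264053 (iv1 D167736) (iv4 F191832) F191831 F121341)).symm
theorem F264054 : act 1 n122679 = n72456 := (sb E24225 (iv0 D153360))
theorem F264055 : act 4 n122679 = n167736 := (sb E24225 F264053)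
def n167743 : Q := act 2 n80494
theorem D167743 : act 2 n80494 = n167743 := rfl
theorem F264065 : act 3 n167743 = n80504 := d0_2 D80494 D167743 (iv2 D80504) (iv3 D36728) (iv2 F57597)
def n167746 : Q := act 4 n80495
theorem D167746 : act 4 n80495 = n167746 := rfl
theorem F264071 : act 2 n167746 = n80509 := d1_1 D167746 (iv4 D80509) (iv2 F123724)
def n167747 : Q := act 6 n80495
theorem D167747 : act 6 n80495 = n167747 := rfl
theorem F264073 : act 2 n167747 = n80510 := d3_1 D167747 (iv6 D80510) (iv2 F123724)
def n167748 : Q := act 5 n80496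
theorem D167748 : act 5 n80496 = n167748 := rfl
theorem F264074 : act 2 n167748 = n80513 := d2_1 D167748 (iv5 D80513) (iv2 F123725)
theorem F264076 : act 1 n167748 = n121658 := d17_6 D27077 D56183 (iv1 F121291) F57603 (iv4 F123726) D167748 (iv5 D121658) (iv0 D56193) (iv4 D27080)
theorem F264077 : act 7 n162563 = n167748 := d15_2 F123764 F256801 F264074
def n167749 : Q := act 7 n80496
theorem D167749 : act 7 n80496 = n167749 := rfl
theorem F264079 : act 4 n167749 = n80499 := d11_1 D167749 (iv7 D80499) (iv4 F123726)
theorem F264082 : act 1 n80512 = n167749 := d15_1 D80512 (iv7 D167749) F123725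
theorem F264083 : act 1 n167749 = n80511 := d15_1 F264082 (iv7 F261715) F261714
def n167750 : Q := act 3 n80497
theorem D167750 : act 3 n80497 = n167750 := rfl
def n167751 : Q := act 6 n80497
theorem D167751 : act 6 n80497 = n167751 := rfl
theorem F264085 : act 2 n167751 = n80521 := d3_1 D167751 (iv6 D80521) (iv2 F123727)
theorem F264087 : act 7 n167751 = n83111 := d14_2 (iv7 F123728) D167751 (iv6 D83111) F117746 D78188
def n167756 : Q := act 4 n80501
theorem D167756 : act 4 n80501 = n167756 := rfl
theorem F264098 : act 7 n167756 = n160722 := d11_2 (iv7 F123749) D167756 (iv4 D160722)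
theorem F264099 : act 5 n167756 = n82457 := d16_1 D167756 (iv4 D82457) (iv5 D37829) F29305 F13375 (iv4 F29305) D37829 D82458 F127038
def n167758 : Q := act 3 n80502
theorem D167758 : act 3 n80502 = n167758 := rfl
theorem F264100 : act 4 n167758 = n122458 := d5_2 F190214 D167758 (iv3 F195919) F155738 F109113
theorem F264101 : act 6 n167758 = n150322 := d7_2 F190545 D167758 (iv3 D150322)
theorem F264102 : act 7 n167758 = n150241 := d8_2 (iv7 F190212) D167758 F236442
def n167759 : Q := act 5 n80502
theorem D167759 : act 5 n80502 = n167759 := rfl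
theorem F264103 : act 2 n167759 = n150666 := d2_1 D167759 (iv5 D150666) F190213
theorem F264104 : act 7 n167759 = n150242 := d13_2 (iv7 F190212) D167759 (iv5 D150242)
theorem F264105 : act 0 n167759 = n153595 := d17_2 D80502 D167759 (iv5 F242270) F242269 (iv5 F190679) F188362 (iv5 D80529) (iv0 D36738) (iv4 F57604)
theorem F264106 : act 1 n167759 = n153594 := d17_6 F241482 (iv5 D153614) (iv1 F110072) F110069 F190214 D167759 F241418 F206394 F206393
def n167760 : Q := act 5 n80504
theorem D167760 : act 5 n80504 = n167760 := rfl
theorem F264107 : act 2 n167760 = n80505 := d2_1 D167760 (iv5 D80505) D80504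
theorem F264108 : act 7 n167760 = n128007 := d13_2 F188335 D167760 (iv5 D128007)
theorem F264109 : act 0 n167760 = n150668 := d17_2 F190178 D167760 (iv5 F237210) F206393 (iv5 F240289) (iv0 F240810) (iv5 D153272) (iv0 D72401) (iv4 F107187)
theorem F264110 : act 1 n167760 = n150667 := d15_0 (iv0 D150667) (iv7 F123757) (iv2 F264107)
def n167761 : Q := act 6 n80504
theorem D167761 : act 6 n80504 = n167761 := rfl
theorem F264111 : act 2 n167761 = n80506 := d3_1 D167761 (iv6 D80506) D80504
theorem F264112 : act 4 n167761 = n80537 := d10_1 D167761 (iv6 D80537) (iv4 F123751)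
theorem F264113 : act 5 n167761 = n153920 := d21_6 (iv5 F46211) (iv1 F90852) F90854 D70724 F190178 D167761 (iv1 D153920) (iv5 D72829) (iv6 D33588) F25783
theorem F264114 : act 1 n150252 = n167761 := d17_8 F205848 (iv5 F188473) (iv1 D79846) (iv5 D36370) (iv4 F57099) D79810 D166217 F261707 F264112
def n167762 : Q := act 0 n80505
theorem D167762 : act 0 n80505 = n167762 := rfl
theorem F264115 : act 1 n128007 = n167762 := d15_0 (iv0 D167762) F123757 (iv2 F205993)
theorem F264116 : act 5 n167762 = n162723 := d17_7 D78248 F201136 (iv1 F188337) (iv5 D60149) D60148 D128007 F264115 (iv0 D162723) F119407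
theorem F264117 : act 6 n125159 = n162723 := d21_5 F231554 (iv1 F206082) F94836 (iv6 F92460) D125159 (iv5 F264116) (iv1 F264115) (iv5 D128007) D128008 (iv1 F231555)
theorem F264118 : act 2 n162723 = n128269 := d3_1 F264117 (iv6 D128269) F201166
theorem F264119 : act 4 n162723 = n153240 := d10_1 F264117 (iv6 D153240) (iv4 F201165)
theorem F264120 : act 2 n150668 = n167762 := d2_3 F264116 F264118 F237210
theorem F264121 : act 7 n162724 = n128269 := d15_2 (iv0 D162723) D162724 (iv2 F264118)
theorem F264122 : act 7 n150667 = n167762 := d15_2 (iv0 F264109) F264110 (iv2 F264120)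
def n167763 : Q := act 1 n80505
theorem D167763 : act 1 n80505 = n167763 := rfl
theorem F264123 : act 1 n167763 = n128007 := d15_1 D167763 (iv7 F264108) F264107
theorem F264124 : act 7 n167763 = n150668 := d15_2 (iv0 D167762) D167763 F264120
theorem F264125 : act 2 n150667 = n167763 := d4_3 F264124 F264120 (iv7 F264122)
theorem F264126 : act 5 n162724 = n167763 := d13_3 F264124 (iv5 F237210) (iv7 F264121)
def n167764 : Q := act 4 n80505
theorem D167764 : act 4 n80505 = n167764 := rfl
theorem F264127 : act 7 n167764 = n150669 := d11_2 (iv7 F123757) D167764 (iv4 D150669)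
def n167765 : Q := act 6 n80505
theorem D167765 : act 6 n80505 = n167765 := rfl
theorem F264128 : act 3 n167765 = n80510 := d7_1 D167765 (iv6 D80510) (iv3 F123756)
def n167766 : Q := act 0 n80506
theorem D167766 : act 0 n80506 = n167766 := rfl
theorem F264129 : act 5 n167766 = n149279 := d17_1 D167766 (iv1 F241908) (iv5 D153917) F190728 D79843 F122585 (iv5 F201146) (iv0 D80542) (iv4 F123759)
theorem F264130 : act 4 n167766 = n149966 := d18_3 (iv1 D80543) (iv4 F123759) D167766 (iv5 F241924) (iv4 F261792) (iv0 D149291) (iv4 D70088) D70087 (iv5 F206212)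
theorem F264131 : act 2 n150252 = n167766 := d1_3 F264130 (iv2 F239785) F239787
theorem F264132 : act 6 n127869 = n167766 := d10_0 F264130 (iv6 D149966) F205780
theorem F264133 : act 2 n149279 = n166217 := d2_3 F261707 F264131 F264129
theorem F264134 : act 7 n166216 = n149279 := d15_2 F261706 F261705 F264133
theorem F264135 : act 7 n149280 = n166217 := d15_2 (iv0 D149279) D149280 (iv2 F264133)
theorem F264136 : act 2 n166216 = n149280 := d4_3 F264135 (iv2 F264133) (iv7 F264134)
def n167767 : Q := act 1 n80506
theorem D167767 : act 1 n80506 = n167767 := rfl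
theorem F264137 : act 7 n167767 = n150252 := d15_2 (iv0 D167766) D167767 F264131
theorem F264138 : act 4 n167767 = n153605 := d17_9 (iv1 D153605) (iv5 F190322) F190324 F106783 F52876 D60258 D128177 (iv5 F206312) D167767
theorem F264139 : act 5 n149280 = n167767 := d17_3 (iv1 F109331) D153917 (iv1 F241907) F264138 F241928 F241927 (iv5 D72839) F109307 F109304
def n167768 : Q := act 3 n80507
theorem D167768 : act 3 n80507 = n167768 := rfl
def n167769 : Q := act 4 n80507
theorem D167769 : act 4 n80507 = n167769 := rfl
def n167770 : Q := act 6 n80507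
theorem D167770 : act 6 n80507 = n167770 := rfl
def n167771 : Q := act 3 n80508
theorem D167771 : act 3 n80508 = n167771 := rfl
def n167772 : Q := act 4 n80508
theorem D167772 : act 4 n80508 = n167772 := rfl
def n167773 : Q := act 6 n80508
theorem D167773 : act 6 n80508 = n167773 := rfl
def n167774 : Q := act 0 n80509
theorem D167774 : act 0 n80509 = n167774 := rfl
theorem F264142 : act 4 n167774 = n162766 := d18_3 (iv1 D80508) D80509 D167774 (iv5 D162766) (iv4 D78224) (iv0 D35656) (iv4 F56319) D78203 (iv5 F123760)
def n167775 : Q := act 1 n80509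
theorem D167775 : act 1 n80509 = n167775 := rfl
theorem F264143 : act 4 n167775 = n162768 := d18_7 (iv1 F121427) F57275 F121355 D17705 D36729 D80509 D167775 F256993 (iv5 D122454)
def n167776 : Q := act 3 n80509
theorem D167776 : act 3 n80509 = n167776 := rfl
def n167778 : Q := act 6 n80509
theorem D167778 : act 6 n80509 = n167778 := rfl
theorem F264148 : act 4 n167778 = n80510 := d10_1 D167778 (iv6 D80510) D80509
def n167779 : Q := act 0 n80510
theorem D167779 : act 0 n80510 = n167779 := rfl
def n167780 : Q := act 1 n80510
theorem D167780 : act 1 n80510 = n167780 := rfl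
def n167781 : Q := act 5 n80510
theorem D167781 : act 5 n80510 = n167781 := rfl
theorem F264149 : act 6 n167781 = n80513 := d12_2 D80510 D167781 (iv5 D80513) (iv6 D36730) D36729
def n167782 : Q := act 7 n80510
theorem D167782 : act 7 n80510 = n167782 := rfl
def n167783 : Q := act 3 n80511
theorem D167783 : act 3 n80511 = n167783 := rfl
theorem F264150 : act 4 n167783 = n161168 := d5_2 F127012 D167783 F254849 (iv4 F120437) (iv3 F127011)
theorem F264151 : act 6 n167783 = n160657 := d7_2 (iv6 F124859) D167783 (iv3 D160657)
def n167785 : Q := act 4 n80513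
theorem D167785 : act 4 n80513 = n167785 := rfl
theorem F264155 : act 0 n167785 = n160605 := d18_2 (iv1 F123764) D167785 (iv4 D160605) (iv5 D76999) F55928 F120814 D17555 D36356 D79806
def n167786 : Q := act 7 n80513
theorem D167786 : act 7 n80513 = n167786 := rfl
theorem F264156 : act 2 n167786 = n162563 := d4_1 D167786 F264077 F264074
theorem F264157 : act 3 n167786 = n153919 := d8_1 D167786 (iv7 F241913) F206313
theorem F264158 : act 5 n167786 = n80514 := d13_1 D167786 (iv7 D80514) D80513
theorem F264159 : act 1 n121658 = n167786 := d15_1 F264076 (iv7 D167786) (iv2 F264074)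
theorem F264160 : act 1 n167786 = n82919 := d15_1 F264159 F127763 (iv2 F194141)
def n167788 : Q := act 3 n80515
theorem D167788 : act 3 n80515 = n167788 := rfl
theorem F264168 : act 6 n167788 = n166263 := d7_2 (iv6 F123767) D167788 (iv3 D166263)
theorem F264169 : act 7 n167788 = n123967 := d8_2 (iv7 F123768) D167788 F198387
def n167790 : Q := act 3 n80516
theorem D167790 : act 3 n80516 = n167790 := rfl
theorem F264174 : act 6 n167790 = n86338 := d7_2 (iv6 F123770) D167790 (iv3 D86338)
def n167794 : Q := act 0 n80519
theorem D167794 : act 0 n80519 = n167794 := rfl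
theorem F264186 : act 5 n167794 = n150667 := d17_1 D167794 (iv1 F264110) (iv5 D167760) F123751 D80536 F123807 F201237 (iv0 D80551) (iv4 F123782)
theorem F264187 : act 2 n162724 = n167794 := d15_3 (iv0 D167794) F206394 (iv7 F264121)
theorem F264188 : act 1 n154159 = n167794 := d15_0 (iv0 D167794) F123783 (iv2 F242268)
theorem F264189 : act 7 n167794 = n162723 := d15_2 F242271 F264188 F264118
theorem F264190 : act 4 n167794 = n154154 := d17_9 (iv1 D154154) F109547 (iv1 D72640) (iv5 D33523) (iv4 F52840) D72627 D153595 (iv5 F242270) F264188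
theorem F264191 : act 6 n166220 = n167794 := d21_3 D69767 D148850 F261712 (iv1 F264188) (iv6 D154159) D154158 F242266 (iv5 F241010) (iv6 D148849) (iv1 D69766)
theorem F264192 : act 4 n147903 = n150677 := d18_5 F201233 (iv4 F123782) D167794 F264190 (iv5 F242246) (iv0 D150677) (iv4 D71042) D71041 F188384
theorem F264193 : act 6 n150677 = n147902 := d10_2 D147903 F264192 (iv4 D147902)
def n167795 : Q := act 2 n80519
theorem D167795 : act 2 n80519 = n167795 := rfl
theorem F264194 : act 4 n167795 = n80553 := d1_2 (iv4 F123782) D167795 (iv2 D80553)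
theorem F264195 : act 6 n167795 = n154542 := d3_2 (iv6 F206367) D167795 (iv2 F242587)
theorem F264196 : act 7 n167795 = n154159 := d4_2 (iv7 F123783) D167795 F242268
theorem F264197 : act 1 n167795 = n162723 := d15_0 (iv0 D162723) (iv7 F123783) D167795
theorem F264198 : act 1 n162724 = n167795 := d15_0 F264197 (iv7 F264189) (iv2 F264187)
def n167798 : Q := act 1 n80521
theorem D167798 : act 1 n80521 = n167798 := rfl
theorem F264202 : act 1 n167798 = n83111 := d15_1 D167798 (iv7 F264087) F264085
theorem F264205 : act 6 n121664 = n167798 := d21_3 D81058 (iv1 F195211) (iv5 F195214) (iv1 D167798) (iv6 D80521) D80520 F123785 (iv5 D80501) (iv6 F118216) (iv1 F89427)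
def n167799 : Q := act 4 n80522
theorem D167799 : act 4 n80522 = n167799 := rfl
theorem F264209 : act 6 n167799 = n121676 := d10_2 F123792 D167799 (iv4 D121676)
theorem F264212 : act 1 n167799 = n124414 := d18_6 F129229 D122372 F253800 (iv4 D160668) F123791 D167799 F198969 F128152 D84182
def n167800 : Q := act 0 n80523
theorem D167800 : act 0 n80523 = n167800 := rfl
theorem F264213 : act 5 n167800 = n160603 := d17_1 D167800 (iv1 F253692) (iv5 D79797) (iv4 D36349) D36350 (iv0 F121317) (iv5 F123745) F123747 D80523
theorem F264216 : act 1 n80525 = n167800 := d15_0 (iv0 D167800) (iv7 F261749) F261747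
theorem F264218 : act 0 n166196 = n167785 := d18_2 (iv1 F253692) D166196 (iv4 D167785) (iv5 D80513) F57606 D36736 D80525 F264216 F264213
def n167801 : Q := act 3 n80523
theorem D167801 : act 3 n80523 = n167801 := rfl
theorem F264219 : act 4 n167801 = n160324 := d5_2 D80523 D167801 F253230 (iv4 F123215) F123214
theorem F264220 : act 6 n167801 = n160322 := d7_2 (iv6 F123795) D167801 F253227
def n167806 : Q := act 5 n80527
theorem D167806 : act 5 n80527 = n167806 := rfl
theorem F264231 : act 3 n167806 = n80529 := d6_1 D167806 (iv5 D80529) D80527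
theorem F264232 : act 7 n167806 = n114615 := d13_2 (iv7 F188324) D167806 (iv5 D114615)
theorem F264233 : act 0 n167806 = n118242 := d18_0 F189711 (iv1 D119245) (iv4 D54882) (iv5 D26546) (iv4 F42498) D54867 (iv4 F185139) (iv0 F187619) D167806
theorem F264234 : act 4 n167806 = n152950 := d20_6 D16094 D33326 F52556 D54479 F190681 (iv3 F264231) (iv1 D152950) (iv4 D72195) (iv3 D33324) (iv1 D16093)
def n167807 : Q := act 3 n80528
theorem D167807 : act 3 n80528 = n167807 := rfl
theorem F264235 : act 4 n167807 = n152922 := d5_2 D80528 D167807 (iv3 D152922) (iv4 F123800) (iv3 D80527)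
theorem F264237 : act 7 n167807 = n127898 := d8_2 (iv7 F188359) D167807 F205812
theorem F264238 : act 0 n167807 = n82541 := d20_4 F57604 D36738 D80528 D167807 (iv3 F264050) F264051 (iv1 D153361) (iv4 F109160) F109159 (iv1 F190175)
theorem F264239 : act 1 n152188 = n82541 := d15_0 (iv0 F264238) F264237 (iv2 F239272)
def n167808 : Q := act 5 n80528
theorem D167808 : act 5 n80528 = n167808 := rfl
theorem F264241 : act 2 n167808 = n128005 := d2_1 D167808 F205991 F188364
theorem F264242 : act 7 n167808 = n127915 := d13_2 (iv7 F188359) D167808 (iv5 D127915)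
theorem F264243 : act 1 n128003 = n167808 := d15_1 D128003 F264242 F205823
theorem F264244 : act 1 n167808 = n128002 := d15_0 (iv0 D128002) D128005 (iv2 F264241)
def n167809 : Q := act 4 n80529
theorem D167809 : act 4 n80529 = n167809 := rfl
theorem F264245 : act 2 n167809 = n128016 := d1_1 D167809 F206003 F188361
theorem F264246 : act 7 n167809 = n127928 := d11_2 (iv7 F188360) D167809 (iv4 D127928)
theorem F264247 : act 1 n167809 = n128012 := d18_6 D72401 F190139 (iv1 F188373) (iv4 D80528) D80529 D167809 F206000 (iv0 D73366) F52988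
theorem F264248 : act 0 n167809 = n128013 := d20_1 D167809 F206001 (iv3 D72079) (iv1 D33281) F25591 D16094 D33326 F52556 D54479 F190681
def n167810 : Q := act 4 n80536
theorem D167810 : act 4 n80536 = n167810 := rfl
theorem F264249 : act 2 n167810 = n80540 := d1_1 D167810 (iv4 D80540) (iv2 F123803)
theorem F264250 : act 7 n167810 = n128009 := d11_2 F188340 D167810 (iv4 D128009)
theorem F264251 : act 0 n167810 = n150678 := d18_2 (iv1 F123807) D167810 (iv4 F240288) F240289 (iv4 F206393) F242271 F242269 F123837 (iv5 F201237)
theorem F264252 : act 1 n167810 = n150677 := d18_6 (iv1 F190160) (iv4 F107187) F190178 F123751 D80536 D167810 (iv4 F264192) F241437 (iv5 D72062)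
def n167811 : Q := act 6 n80536
theorem D167811 : act 6 n80536 = n167811 := rfl
theorem F264253 : act 2 n167811 = n80541 := d3_1 D167811 (iv6 D80541) (iv2 F123803)
theorem F264254 : act 3 n167811 = n150630 := d7_1 D167811 (iv6 D150630) (iv3 F123804)
theorem F264255 : act 0 n167811 = n149435 := d21_4 (iv5 D60101) (iv1 F188307) D80536 D167811 (iv6 F235027) (iv5 F236695) F236697 F119433 (iv6 D71062) (iv1 F190973)
def n167812 : Q := act 3 n80538
theorem D167812 : act 3 n80538 = n167812 := rfl
theorem F264256 : act 5 n167812 = n83736 := d6_2 F201136 D167812 (iv3 F201135)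
theorem F264257 : act 7 n167812 = n150673 := d8_2 F201123 D167812 (iv3 D150673)
def n167813 : Q := act 4 n80538
theorem D167813 : act 4 n80538 = n167813 := rfl
theorem F264259 : act 2 n167813 = n150675 := d1_1 D167813 (iv4 D150675) (iv2 F201122)
theorem F264261 : act 0 n167813 = n152724 := d18_2 D80538 D167813 (iv4 D152724) (iv5 D72062) (iv4 F188367) F188366 (iv4 D80528) (iv0 D36738) D36741
def n167814 : Q := act 6 n80538
theorem D167814 : act 6 n80538 = n167814 := rfl
theorem F264262 : act 2 n167814 = n150676 := d3_1 D167814 (iv6 D150676) (iv2 F201122)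
theorem F264263 : act 7 n167814 = n150856 := d14_2 F201123 D167814 (iv6 D150856) F206020 (iv6 F206012)
def n167815 : Q := act 3 n80539
theorem D167815 : act 3 n80539 = n167815 := rfl
theorem F264264 : act 5 n167815 = n162778 := d6_2 (iv5 F201143) D167815 (iv3 D162778)
theorem F264265 : act 6 n167815 = n150857 := d7_2 (iv6 F201145) D167815 (iv3 D150857)
theorem F264266 : act 7 n167815 = n150508 := d8_2 (iv7 F201124) D167815 (iv3 F236988)
theorem F264267 : act 0 n167815 = n127964 := d21_10 (iv5 D127964) (iv1 F205911) (iv5 F251029) F251030 (iv1 D155933) D155936 F244926 F250981 (iv5 F237591) (iv6 F264265)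
theorem F264268 : act 1 n167815 = n127966 := d15_1 (iv0 F264267) F205936 (iv2 F205932)
def n167816 : Q := act 4 n80539
theorem D167816 : act 4 n80539 = n167816 := rfl
theorem F264269 : act 2 n167816 = n150674 := d1_1 D167816 (iv4 D150674) F201125
theorem F264270 : act 6 n167816 = n147905 := d10_2 (iv6 F201145) D167816 F237593
theorem F264271 : act 7 n167816 = n150675 := d11_2 (iv7 F201124) D167816 (iv4 D150675)
theorem F264272 : act 1 n150674 = n153610 := d15_0 F241465 (iv7 F264271) F264269
def n167817 : Q := act 0 n80540
theorem D167817 : act 0 n80540 = n167817 := rfl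
theorem F264274 : act 4 n167817 = n153600 := d18_3 (iv1 D80539) D80540 D167817 F241426 (iv4 F264119) (iv0 D162723) F119407 D78249 (iv5 F201143)
theorem F264275 : act 1 n128009 = n167817 := d15_0 (iv0 D167817) F123812 (iv2 F205996)
theorem F264276 : act 2 n150678 = n167817 := d1_3 F264274 (iv2 F241428) F240288
def n167818 : Q := act 1 n80540
theorem D167818 : act 1 n80540 = n167818 := rfl
theorem F264278 : act 1 n167818 = n128009 := d15_1 D167818 (iv7 F264250) F264249
theorem F264280 : act 4 n167818 = n153601 := d18_7 (iv1 D33522) (iv4 F52840) (iv1 F190175) F57604 D36741 D80540 D167818 F241431 (iv5 D72637)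
theorem F264281 : act 2 n150677 = n167818 := d1_3 F264280 F241434 F264192
theorem F264282 : act 6 n150850 = n167818 := d10_0 F264280 (iv6 F241433) F237418
def n167820 : Q := act 5 n80540
theorem D167820 : act 5 n80540 = n167820 := rfl
theorem F264286 : act 1 n167820 = n153618 := d17_6 (iv1 D60152) (iv5 D28585) F188329 D36741 D80540 D167820 (iv5 D153618) (iv0 F205998) (iv4 D128010)
def n167821 : Q := act 6 n80540
theorem D167821 : act 6 n80540 = n167821 := rfl
theorem F264287 : act 4 n167821 = n80541 := d10_1 D167821 (iv6 D80541) D80540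
def n167822 : Q := act 0 n80541
theorem D167822 : act 0 n80541 = n167822 := rfl
theorem F264288 : act 5 n167822 = n149418 := d21_0 (iv1 D149418) F106552 (iv6 D60158) (iv1 D28598) (iv6 F46158) (iv5 D28585) F188329 D36741 D80541 D167822
theorem F264289 : act 2 n149435 = n167822 := d2_3 F264288 (iv2 F234976) D149435
theorem F264290 : act 7 n149432 = n167822 := d13_0 F264288 F234975 D149432
theorem F264291 : act 6 n118316 = n167822 := d21_5 (iv5 D13629) (iv1 F50831) D26352 D54492 D118316 F264288 (iv1 D149418) F106552 (iv6 D60158) (iv1 D28598)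
theorem F264293 : act 1 n167811 = n149432 := d15_1 (iv0 F264255) F264290 (iv2 F264289)
def n167823 : Q := act 1 n80541
theorem D167823 : act 1 n80541 = n167823 := rfl
theorem F264294 : act 7 n167823 = n149435 := d15_2 (iv0 D167822) D167823 F264289
theorem F264295 : act 5 n149417 = n167823 := d21_0 (iv1 D167823) (iv5 F185158) (iv6 D117988) (iv1 F188344) (iv6 F53371) (iv5 D34027) (iv1 F54129) D32554 D70161 D149417
theorem F264296 : act 2 n167823 = n149432 := d2_1 F264295 (iv5 D149432) F234972
def n167824 : Q := act 7 n80541
theorem D167824 : act 7 n80541 = n167824 := rfl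
theorem F264298 : act 3 n167824 = n80548 := d8_1 D167824 (iv7 D80548) (iv3 F123813)
theorem F264299 : act 6 n167824 = n116953 := d14_1 D167824 F182795 F104186 (iv7 F57622) D80541
theorem F264300 : act 1 n149432 = n167824 := d15_1 F264293 (iv7 D167824) (iv2 F264253)
theorem F264301 : act 1 n167824 = n149435 := d15_1 F264300 (iv7 F264294) F264296
def n167825 : Q := act 4 n80542
theorem D167825 : act 4 n80542 = n167825 := rfl
theorem F264302 : act 2 n167825 = n150267 := d1_1 D167825 F236467 F234263
theorem F264303 : act 6 n167825 = n127878 := d10_2 (iv6 F201147) D167825 (iv4 D127878)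
def n167826 : Q := act 3 n80543
theorem D167826 : act 3 n80543 = n167826 := rfl
theorem F264304 : act 5 n167826 = n149289 := d6_2 (iv5 F206212) D167826 (iv3 D149289)
theorem F264305 : act 6 n167826 = n150798 := d7_2 (iv6 F261886) D167826 (iv3 F261894)
theorem F264306 : act 7 n167826 = n150264 := d8_2 (iv7 F234265) D167826 F236466
theorem F264307 : act 2 n150513 = n167826 := d4_3 F264306 F236465 F237380
theorem F264308 : act 0 n167826 = n127965 := d21_10 F235052 (iv1 D149459) (iv5 F120369) (iv6 D79104) F56746 D54321 F85721 D71095 D150798 (iv6 F264305)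
theorem F264309 : act 1 n167826 = n150514 := d15_1 (iv0 F264308) (iv7 D150514) (iv2 F205933)
theorem F264310 : act 1 n149769 = n127965 := d15_0 (iv0 F264308) F264306 F236465
theorem F264311 : act 1 n154938 = n151716 := d18_6 (iv1 D149459) (iv4 F235050) F241369 (iv4 D73493) D73494 D154938 F238590 F264310 F235052
theorem F264312 : act 1 n150514 = n149769 := d15_1 F264309 F237380 F264307
def n167827 : Q := act 4 n80543
theorem D167827 : act 4 n80543 = n167827 := rfl
theorem F264313 : act 7 n167827 = n150267 := d11_2 (iv7 F234265) D167827 F236467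
theorem F264314 : act 0 n167827 = n127998 := d17_0 F206195 (iv1 D128117) (iv5 D60207) F46189 D28620 F188344 F85763 D80543 D167827
theorem F264315 : act 1 n167825 = n127998 := d15_0 (iv0 F264314) F264313 (iv2 F264302)
def n167828 : Q := act 2 n80544
theorem D167828 : act 2 n80544 = n167828 := rfl
theorem F264316 : act 3 n167828 = n127764 := d0_2 D80544 D167828 F205384 F199831 F57627
theorem F264318 : act 6 n167828 = n118256 := d3_2 (iv6 F123815) D167828 F227861
theorem F264319 : act 7 n167828 = n85954 := d4_2 (iv7 F123816) D167828 F131903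
theorem F264320 : act 1 n167828 = n85985 := d15_0 (iv0 D85985) (iv7 F123816) D167828
theorem F264321 : act 1 n85986 = n167828 := d15_0 F264320 F187627 (iv2 F187636)
theorem F264322 : act 0 n146019 = n144900 := d21_7 (iv5 F155442) (iv1 F85989) (iv5 F86004) D118249 (iv1 F185783) D155905 (iv5 F244898) F227860 (iv6 F264318) (iv1 F264321)
theorem E24226 : n146009 = n145911 := (c15_4 (iv0 F229086) (iv0 F264322) (iv7 D146019) (iv2 F229233))
theorem F264323 : act 2 n145911 = n68455 := (sb E24226 F229233)
theorem E24227 : n68452 = n68416 := ((((iv6 D145911)).symm.trans (sb E24226 (iv6 D146009)))).symm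
theorem E24228 : n145990 = n31839 := ((((iv1 D68416)).symm.trans (sb E24227 (iv1 F229218)))).symm
theorem E24230 : n145908 = n31851 := (((iv2 F229084)).symm.trans (sb E24227 F104651))
theorem E24231 : n146000 = n145909 := (((D145909).symm.trans (sb E24227 (iv3 F229227)))).symm
theorem E24232 : n146006 = n145910 := (((D145910).symm.trans (sb E24227 (iv4 F229231)))).symm
theorem E24233 : n145051 = n127746 := ((((iv5 F205356)).symm.trans (sb E24227 F227997))).symm
theorem E24234 : n145904 = n31850 := ((F229080).symm.trans (sb E24227 (iv7 D68452)))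
theorem E24235 : n68447 = n68415 := (((D68415).symm.trans (sb E24228 (iv1 D145990)))).symm
theorem F264324 : act 2 n31851 = n68416 := (sb E24230 F229084)
theorem F264325 : act 7 n145909 = n68448 := (sb E24231 (iv7 D146000))
theorem F264327 : act 7 n145910 = n68449 := (sb E24232 (iv7 D146006))
theorem F264328 : act 2 n127746 = n67999 := (sb E24233 F227996)
theorem E24236 : n67995 = n67957 := ((((iv6 F205357)).symm.trans (sb E24233 (iv6 D145051)))).symm
theorem F264329 : act 7 n127746 = n68450 := (sb E24233 (iv7 F227998))
theorem F264330 : act 7 n31850 = n68416 := (sb E24234 (iv7 F229080))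
theorem F264331 : act 2 n68415 = n31850 := (sb E24235 (iv2 D68447))
theorem E24237 : n145991 = n145905 := (((D145905).symm.trans (sb E24235 D145991))).symm
theorem E24238 : n145992 = n145906 := (((D145906).symm.trans (sb E24235 D145992))).symm
theorem E24239 : n145069 = n127745 := (((F205363).symm.trans (sb E24235 (iv5 F228022)))).symm
theorem F264332 : act 7 n68415 = n31851 := (sb E24235 (iv7 F104650))
theorem E24241 : n145046 = n31646 := ((((iv1 F104060)).symm.trans (sb E24236 D145046))).symm
theorem E24243 : n144955 = n31643 := ((D144955).symm.trans (sb E24236 (iv2 D67995)))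
theorem E24244 : n145048 = n144956 := (((D144956).symm.trans (sb E24236 D145048))).symm
theorem E24245 : n145049 = n144957 := (((D144957).symm.trans (sb E24236 D145049))).symm
theorem E24246 : n145050 = n144958 := (((D144958).symm.trans (sb E24236 D145050))).symm
theorem E24247 : n144959 = n31644 := ((D144959).symm.trans (sb E24236 (iv7 F104104)))
theorem F264333 : act 7 n145905 = n68453 := (sb E24237 F229219)
theorem F264334 : act 2 n145906 = n68449 := (sb E24238 F229220)
theorem F264335 : act 7 n145906 = n68454 := (sb E24238 F229221)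
theorem F264336 : act 2 n127745 = n68450 := (sb E24239 F228021)
theorem F264337 : act 7 n127745 = n67999 := (sb E24239 (iv7 D145069))
theorem E24248 : n68000 = n67958 := ((((iv1 F104058)).symm.trans (sb E24241 (iv1 F227989)))).symm
theorem F264339 : act 2 n31643 = n67957 := (sb E24243 (iv2 D144955))
theorem F264340 : act 7 n144956 = n68001 := (sb E24244 F227991)
theorem F264341 : act 2 n144957 = n67997 := (sb E24245 F227992)
theorem F264343 : act 2 n144958 = n67998 := (sb E24246 F227994)
theorem F264344 : act 7 n144958 = n68003 := (sb E24246 F227995)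
theorem F264345 : act 7 n31644 = n67957 := (sb E24247 (iv7 D144959))
theorem F264346 : act 2 n67958 = n31644 := (sb E24248 F104106)
theorem E24249 : n145058 = n144960 := (((D144960).symm.trans (sb E24248 (iv3 F228004)))).symm
theorem E24250 : n145064 = n144961 := (((D144961).symm.trans (sb E24248 (iv4 F228008)))).symm
theorem E24251 : n145068 = n144962 := (((D144962).symm.trans (sb E24248 (iv5 F228020)))).symm
theorem E24252 : n145070 = n144963 := (((D144963).symm.trans (sb E24248 D145070))).symm
theorem F264347 : act 7 n67958 = n31643 := (sb E24248 (iv7 D68000))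
theorem F264348 : act 7 n144960 = n67996 := (sb E24249 (iv7 D145058))
theorem F264349 : act 2 n144961 = n68002 := (sb E24250 F228007)
theorem F264350 : act 7 n144961 = n67997 := (sb E24250 (iv7 D145064))
theorem F264351 : act 2 n144962 = n68003 := (sb E24251 F228019)
theorem E24253 : n155897 = n118286 := (((F227932).symm.trans (sb E24251 (iv6 F244887)))).symm
theorem F264352 : act 7 n144962 = n67998 := (sb E24251 (iv7 D145068))
theorem F264353 : act 1 n144963 = n131484 := (sb E24252 F228033)
theorem F264354 : act 2 n144963 = n68004 := (sb E24252 F228023)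
theorem F264355 : act 2 n118286 = n74144 := (sb E24253 (iv2 D155897))
theorem F264356 : act 7 n118286 = n74145 := (sb E24253 (iv7 F244888))
theorem E24254 : n155901 = n118287 := (c15_4 F185833 F185832 F264356 (iv2 F244892))
theorem F264357 : act 2 n118287 = n74145 := (sb E24254 F244892)
theorem F264358 : act 7 n118287 = n74144 := (sb E24254 (iv7 D155901))
theorem F264359 : act 7 n155900 = n157322 := d13_2 F264358 D155900 F247572
theorem F264360 : act 2 n155904 = n157322 := d2_3 F247572 F264357 D155904
theorem E24255 : n157318 = n130847 := (c3_4 (iv6 F244895) F264360 (iv6 D157322) D157318)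
theorem F264362 : act 7 n130847 = n74808 := (sb E24255 (iv7 F247570))
theorem F264363 : act 1 n150097 = n155900 := d15_1 (iv0 F244896) F264359 (iv2 F264360)
theorem E24256 : n145082 = n144984 := ((c21_1 (iv5 F227947) (iv1 D145082) D145083 (iv6 F244891) (iv1 F264363) (iv6 D150097) (iv5 D70626) (iv1 F51863) (iv5 F106319) F106320 (iv1 F210650))).symm
theorem F264364 : act 0 n144984 = n68004 := (sb E24256 (iv1 D145082))
theorem F264369 : act 1 n144957 = n147311 := d15_0 (iv0 F243343) F264350 (iv2 F264341)
theorem F264370 : act 7 n145055 = n117699 := d11_2 F264348 D145055 (iv4 F227931)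
theorem F264371 : act 2 n145055 = n117698 := d15_3 (iv0 D117698) D117699 (iv7 F264370)
theorem F264372 : act 4 n117698 = n145054 := d1_2 D145055 F264371 (iv2 D145054)
theorem F264373 : act 7 n145074 = n117543 := d11_2 F264340 D145074 F227929
theorem F264374 : act 1 n145906 = n144912 := d15_0 (iv0 F243215) F264327 (iv2 F264334)
theorem F264375 : act 7 n146013 = n117447 := d11_2 F264333 D146013 F229081
theorem F264376 : act 7 n145997 = n117259 := d11_2 F264325 D145997 (iv4 F229085)
theorem F264377 : act 2 n145997 = n117258 := d15_3 (iv0 D117258) D117259 (iv7 F264376)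
theorem F264378 : act 4 n117258 = n145996 := d1_2 D145997 F264377 (iv2 D145996)
def n167829 : Q := act 4 n80544
theorem D167829 : act 4 n80544 = n167829 := rfl
theorem F264380 : act 7 n167829 = n85987 := d11_2 (iv7 F123816) D167829 (iv4 D85987)
theorem F264381 : act 0 n167829 = n153551 := d18_2 F155195 D167829 (iv4 D153551) (iv5 D72603) (iv4 F190221) (iv0 D54446) F41999 D26335 D54458
theorem F264382 : act 0 n153557 = n167829 := d20_1 D153557 (iv4 D167829) (iv3 D80544) (iv1 D36743) (iv3 F57621) D80540 D167817 F264274 (iv3 F241429) (iv1 F241348)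
def n167836 : Q := act 4 n80549
theorem D167836 : act 4 n80549 = n167836 := rfl
theorem F264398 : act 3 n167836 = n120640 := d5_1 D167836 F192274 F87885 (iv4 F57635) D80549
theorem F264399 : act 6 n167836 = n120638 := d10_2 (iv6 F123833) D167836 F192268
theorem F264400 : act 7 n167836 = n150099 := d11_2 F155488 D167836 F236219
theorem F264401 : act 5 n167836 = n149118 := d17_5 (iv1 F51551) D32498 (iv1 F106415) F155468 D167836 F234498 (iv5 D69984) F106342 F106340
theorem F264402 : act 0 n167836 = n118195 := d17_0 F234387 (iv1 D149052) (iv5 D69909) F51544 D32467 D69921 (iv5 F106349) F155461 D167836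
theorem F264403 : act 3 n149118 = n84701 := d6_1 F264401 (iv5 F192277) (iv3 F264398)
def n167837 : Q := act 3 n80551
theorem D167837 : act 3 n80551 = n167837 := rfl
theorem F264404 : act 5 n167837 = n150673 := d6_2 F201237 D167837 (iv3 D150673)
theorem F264405 : act 6 n167837 = n166283 := d7_2 (iv6 F205840) D167837 (iv3 D166283)
theorem F264406 : act 7 n167837 = n83736 := d8_2 (iv7 F201235) D167837 (iv3 F201135)
theorem F264407 : act 4 n83742 = n167837 := d11_3 F264406 F128790 D83742
theorem F264408 : act 0 n83742 = n81824 := d20_7 F30411 (iv1 D17716) D17717 D36749 D80551 D167837 (iv4 F264407) F125770 (iv3 D37450) (iv1 F30409)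
theorem F264409 : act 1 n85981 = n167837 := d17_8 F264408 (iv5 F151595) F191350 (iv5 D120196) (iv4 F106299) D148996 (iv0 F234192) F185773 (iv4 F264407)
theorem F264410 : act 1 n83659 = n81824 := d15_0 (iv0 F264408) (iv7 D83742) (iv2 F201109)
def n167838 : Q := act 4 n80551
theorem D167838 : act 4 n80551 = n167838 := rfl
theorem F264411 : act 2 n167838 = n162779 := d1_1 D167838 (iv4 D162779) F201236
theorem F264412 : act 6 n167838 = n166284 := d10_2 (iv6 F205840) D167838 (iv4 D166284)
theorem F264413 : act 7 n167838 = n162777 := d11_2 (iv7 F201235) D167838 (iv4 D162777)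
def n167839 : Q := act 0 n80554
theorem D167839 : act 0 n80554 = n167839 := rfl
theorem F264414 : act 1 n98051 = n167839 := d15_0 (iv0 D167839) F123842 (iv2 F151190)
def n167840 : Q := act 1 n80554
theorem D167840 : act 1 n80554 = n167840 := rfl
theorem F264415 : act 3 n105919 = n167840 := d20_3 (iv4 F106994) F190224 (iv4 F191321) (iv1 D167840) (iv3 D80554) (iv4 D36758) (iv1 D17723) D17725 D36766 (iv1 F185045)
theorem F264416 : act 4 n118192 = n167840 := d20_6 (iv4 D27270) (iv1 D13061) (iv4 F21785) (iv3 F41998) D54446 D118192 (iv1 D167840) (iv4 F195887) (iv3 D122440) (iv1 F89749)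
theorem F264417 : act 7 n167840 = n98054 := d8_2 F233991 F264415 (iv3 F235906)
theorem F264418 : act 0 n98051 = n167840 := d20_4 (iv4 F151627) (iv1 D77615) (iv4 F88132) (iv3 F151191) (iv3 F264415) F191321 F190223 (iv4 F186900) (iv3 F192530) (iv1 F192534)
theorem F264419 : act 2 n98054 = n167839 := d15_3 (iv0 D167839) D167840 F264417
theorem F264420 : act 2 n167840 = n98053 := d15_3 (iv0 D98053) D98054 (iv7 F264417)
theorem F264421 : act 7 n98053 = n167839 := d4_2 (iv7 F264417) F264420 (iv2 F264419)
def n167841 : Q := act 2 n80554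
theorem D167841 : act 2 n80554 = n167841 := rfl
theorem F264423 : act 6 n167841 = n165204 := d3_2 F132460 D167841 F260474
theorem F264424 : act 7 n167841 = n98051 := d4_2 (iv7 F123842) D167841 F151190
theorem F264425 : act 1 n167841 = n98053 := d15_0 (iv0 D98053) (iv7 F123842) D167841
theorem F264426 : act 1 n98054 = n167841 := d15_0 F264425 F264421 (iv2 F264419)
def n167842 : Q := act 5 n80554
theorem D167842 : act 5 n80554 = n167842 := rfl
theorem F264428 : act 7 n167842 = n98055 := d13_2 (iv7 F123842) D167842 (iv5 D98055)
def n167843 : Q := act 4 n80555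
theorem D167843 : act 4 n80555 = n167843 := rfl
theorem F264429 : act 7 n167843 = n98062 := d11_2 (iv7 F123843) D167843 (iv4 D98062)
theorem F264430 : act 5 n167843 = n86386 := d16_1 D167843 (iv4 D86386) (iv5 D39987) F30191 F13827 (iv4 F30191) D39987 D86387 F132416
def n167844 : Q := act 6 n80555
theorem D167844 : act 6 n80555 = n167844 := rfl
def n167845 : Q := act 0 n80556
theorem D167845 : act 0 n80556 = n167845 := rfl
theorem F264431 : act 3 n167845 = n167338 := d20_5 F60861 F118871 D36761 D80556 D167845 (iv4 D167338) (iv1 D80310) D80312 F123393 F121279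
def n167852 : Q := act 0 n80558
theorem D167852 : act 0 n80558 = n167852 := rfl
theorem F264441 : act 4 n167852 = n120513 := d18_3 (iv1 F118872) (iv4 F123846) D167852 F191974 D124206 (iv0 F198699) F119764 (iv0 F116111) (iv5 D77311)
theorem F264443 : act 2 n80574 = n167852 := d15_3 (iv0 D167852) F194549 (iv7 F193989)
theorem F264444 : act 7 n167852 = n80575 := d4_2 (iv7 F193989) F264443 (iv2 F123881)
def n167854 : Q := act 7 n80558
theorem D167854 : act 7 n80558 = n167854 := rfl
theorem F264450 : act 4 n167854 = n80562 := d11_1 D167854 (iv7 D80562) (iv4 F123846)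
theorem F264452 : act 1 n80575 = n167854 := d15_1 D80575 (iv7 D167854) F123845
def n167855 : Q := act 3 n80559
theorem D167855 : act 3 n80559 = n167855 := rfl
theorem F264455 : act 6 n167855 = n86499 := d7_2 (iv6 F123848) D167855 (iv3 D86499)
def n167856 : Q := act 4 n80560
theorem D167856 : act 4 n80560 = n167856 := rfl
theorem F264460 : act 0 n167856 = n161092 := d20_1 D167856 (iv4 F254646) (iv3 F259603) (iv1 D164633) F120395 (iv4 F123624) (iv1 F194732) F127034 F89248 D80560
def n167857 : Q := act 4 n80561
theorem D167857 : act 4 n80561 = n167857 := rfl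
theorem F264461 : act 2 n167857 = n80588 := d1_1 D167857 (iv4 D80588) (iv2 F123855)
theorem F264462 : act 6 n167857 = n86501 := d10_2 (iv6 F123857) D167857 (iv4 D86501)
def n167858 : Q := act 7 n80561
theorem D167858 : act 7 n80561 = n167858 := rfl
theorem F264467 : act 1 n80587 = n167858 := d15_1 D80587 (iv7 D167858) F123855
theorem F264468 : act 1 n167858 = n80586 := d15_1 F264467 (iv7 F124465) F124468
def n167859 : Q := act 5 n80563
theorem D167859 : act 5 n80563 = n167859 := rfl
theorem F264470 : act 7 n167859 = n122602 := d13_2 (iv7 F123865) D167859 (iv5 D122602)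
def n167862 : Q := act 5 n80566
theorem D167862 : act 5 n80566 = n167862 := rfl
theorem F264473 : act 2 n167862 = n150633 := d2_1 D167862 (iv5 D150633) F185050
def n167863 : Q := act 5 n80567
theorem D167863 : act 5 n80567 = n167863 := rfl
theorem F264476 : act 2 n167863 = n80568 := d2_1 D167863 (iv5 D80568) D80567
theorem F264477 : act 7 n167863 = n150627 := d13_2 (iv7 F123869) D167863 (iv5 D150627)
theorem F264479 : act 1 n167863 = n150634 := d15_0 (iv0 D150634) (iv7 F123875) (iv2 F264476)
theorem F264480 : act 5 n150634 = n149904 := d17_7 D70490 F194693 (iv1 F123932) (iv5 D80600) (iv4 F123868) D167863 F264479 (iv0 D149904) F106941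
theorem F264481 : act 6 n149904 = n85670 := d21_3 D71008 D150634 F264480 (iv1 F131392) (iv6 D40140) D40139 F61035 (iv5 F51937) D70762 F110798
def n167864 : Q := act 6 n80567
theorem D167864 : act 6 n80567 = n167864 := rfl
theorem F264485 : act 2 n167864 = n80569 := d3_1 D167864 (iv6 D80569) D80567
theorem F264486 : act 4 n167864 = n80601 := d10_1 D167864 (iv6 D80601) (iv4 F123868)
def n167865 : Q := act 0 n80568
theorem D167865 : act 0 n80568 = n167865 := rfl
def n167866 : Q := act 1 n80568
theorem D167866 : act 1 n80568 = n167866 := rfl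
theorem F264488 : act 1 n167866 = n150627 := d15_1 D167866 (iv7 F264477) F264476
theorem F264489 : act 5 n167866 = n86596 := d21_2 D150627 (iv1 F264488) (iv6 D86596) (iv1 D40145) (iv6 D18965) D18964 D40141 F61039 D69818 F185044
theorem F264491 : act 1 n86596 = n149895 := d17_8 F194685 (iv5 F191355) (iv1 D80603) (iv5 D36779) (iv4 F57660) D80568 D167866 F264489 F235766
def n167867 : Q := act 4 n80568
theorem D167867 : act 4 n80568 = n167867 := rfl
theorem F264496 : act 7 n167867 = n150636 := d11_2 (iv7 F123875) D167867 (iv4 D150636)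
def n167868 : Q := act 6 n80568
theorem D167868 : act 6 n80568 = n167868 := rfl
theorem F264497 : act 3 n167868 = n80573 := d7_1 D167868 (iv6 D80573) (iv3 F123874)
def n167869 : Q := act 0 n80569
theorem D167869 : act 0 n80569 = n167869 := rfl
theorem F264498 : act 4 n167869 = n155176 := d18_3 (iv1 D80607) (iv4 F123877) D167869 F243996 (iv4 F184248) (iv0 D105817) F77131 D48923 (iv5 F259391)
theorem F264499 : act 6 n167869 = n155175 := d21_5 (iv5 F264489) (iv1 D167866) (iv5 D80568) D80569 D167869 (iv5 F257165) (iv1 F257166) (iv5 D149894) D149895 (iv1 F264491)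
theorem F264501 : act 5 n106019 = n167869 := d17_3 (iv1 D49008) D49009 D106019 F264498 F243996 F232270 F104829 (iv0 F232302) F86850
def n167870 : Q := act 5 n80569
theorem D167870 : act 5 n80569 = n167870 := rfl
theorem F264502 : act 3 n167870 = n80576 := d6_1 D167870 (iv5 D80576) (iv3 F123876)
def n167871 : Q := act 7 n80569
theorem D167871 : act 7 n80569 = n167871 := rfl
theorem F264504 : act 3 n167871 = n80577 := d8_1 D167871 (iv7 D80577) (iv3 F123876)
theorem F264505 : act 4 n167871 = n80608 := d11_1 D167871 (iv7 D80608) (iv4 F123877)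
theorem F264506 : act 6 n167871 = n150641 := d14_1 D167871 (iv7 D150641) (iv6 D71009) (iv7 F57661) D80569
theorem F264507 : act 0 n167871 = n150290 := d20_7 F187572 (iv1 F205346) (iv4 D127737) F94455 (iv1 F57693) (iv3 F123940) (iv4 F264505) (iv4 F238622) F238621 F187573
theorem F264508 : act 1 n167864 = n150290 := d15_0 (iv0 F264507) (iv7 D167871) (iv2 F264485)
def n167875 : Q := act 3 n80571
theorem D167875 : act 3 n80571 = n167875 := rfl
theorem F264510 : act 5 n167875 = n86645 := d6_2 (iv5 F123878) D167875 F132893
def n167876 : Q := act 4 n80571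
theorem D167876 : act 4 n80571 = n167876 := rfl
def n167877 : Q := act 6 n80571
theorem D167877 : act 6 n80571 = n167877 := rfl
theorem F264511 : act 5 n167877 = n86647 := d12_1 D167877 (iv6 D86647) (iv5 D40159) D40160 (iv5 F123878)
def n167878 : Q := act 0 n80572
theorem D167878 : act 0 n80572 = n167878 := rfl
def n167879 : Q := act 1 n80572
theorem D167879 : act 1 n80572 = n167879 := rfl
theorem F264512 : act 4 n167879 = n86703 := d18_7 (iv1 F118860) (iv4 D36758) (iv1 D17723) D17725 D36767 D80572 D167879 F132963 (iv5 D86379)
def n167880 : Q := act 3 n80572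
theorem D167880 : act 3 n80572 = n167880 := rfl
def n167881 : Q := act 5 n80572
theorem D167881 : act 5 n80572 = n167881 := rfl
theorem F264513 : act 4 n167881 = n87325 := d16_2 D80572 D167881 F134073 (iv4 D86391) (iv5 D39992) D39991 D86389 F132422 F123844
theorem F264514 : act 0 n167881 = n167843 := d17_2 (iv1 D167879) D167881 F264430 (iv4 D86386) (iv5 D39987) D39986 D86382 F132964 (iv4 F264512)
theorem F264515 : act 1 n167881 = n86386 := d17_6 (iv1 F134074) (iv5 D80564) (iv1 D36765) D36767 D80572 D167881 (iv5 F264430) (iv0 F264514) F264513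
def n167882 : Q := act 6 n80572
theorem D167882 : act 6 n80572 = n167882 := rfl
theorem F264516 : act 4 n167882 = n80573 := d10_1 D167882 (iv6 D80573) D80572
def n167883 : Q := act 0 n80573
theorem D167883 : act 0 n80573 = n167883 := rfl
def n167884 : Q := act 1 n80573
theorem D167884 : act 1 n80573 = n167884 := rfl
def n167885 : Q := act 5 n80573
theorem D167885 : act 5 n80573 = n167885 := rfl
theorem F264517 : act 6 n167885 = n80576 := d12_2 D80573 D167885 (iv5 D80576) (iv6 D36768) D36767
def n167886 : Q := act 7 n80573
theorem D167886 : act 7 n80573 = n167886 := rfl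
def n167887 : Q := act 3 n80574
theorem D167887 : act 3 n80574 = n167887 := rfl
def n167888 : Q := act 3 n80575
theorem D167888 : act 3 n80575 = n167888 := rfl
theorem F264520 : act 6 n167888 = n120507 := d7_2 (iv6 F123880) D167888 (iv3 D120507)
def n167889 : Q := act 0 n80576
theorem D167889 : act 0 n80576 = n167889 := rfl
theorem F264521 : act 5 n167889 = n86365 := d17_3 (iv1 D80575) D80576 D167889 (iv4 F132364) D87305 (iv0 F134045) (iv5 D81784) F191971 F123879
def n167892 : Q := act 5 n80578
theorem D167892 : act 5 n80578 = n167892 := rfl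
theorem F264529 : act 1 n167892 = n87328 := d17_6 (iv1 F118881) D27144 F118868 (iv5 F118811) D80578 D167892 (iv5 D87328) F121280 F34367
def n167893 : Q := act 3 n80579
theorem D167893 : act 3 n80579 = n167893 := rfl
theorem F264530 : act 7 n167893 = n86699 := d8_2 (iv7 F123886) D167893 F132960
def n167894 : Q := act 5 n80579
theorem D167894 : act 5 n80579 = n167894 := rfl
theorem F264532 : act 0 n167894 = n87328 := d17_2 F196388 D167894 (iv5 D87328) (iv4 D40578) D40579 F125707 (iv5 F196379) (iv0 D122605) D122606
def n167896 : Q := act 3 n80581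
theorem D167896 : act 3 n80581 = n167896 := rfl
theorem F264537 : act 6 n167896 = n124062 := d7_2 F123888 D167896 (iv3 D124062)
theorem F264538 : act 7 n167896 = n86645 := d8_2 F123889 D167896 F132893
def n167897 : Q := act 4 n80582
theorem D167897 : act 4 n80582 = n167897 := rfl
theorem F264539 : act 0 n167897 = n86386 := d18_2 (iv1 F123893) D167897 (iv4 D86386) (iv5 D39987) F30191 F118838 D17725 D36765 D80564
theorem F264540 : act 1 n167897 = n167843 := d18_6 F196388 (iv4 D80579) (iv1 D36770) D36771 D80582 D167897 (iv4 D167843) F132418 (iv5 F196387)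
def n167898 : Q := act 6 n80582
theorem D167898 : act 6 n80582 = n167898 := rfl
def n167900 : Q := act 5 n80584
theorem D167900 : act 5 n80584 = n167900 := rfl
theorem F264544 : act 1 n167900 = n87303 := d17_6 (iv1 D18987) (iv5 F28282) D35812 F119514 D80584 D167900 (iv5 D87303) (iv0 F126115) (iv4 D40211)
def n167902 : Q := act 5 n80585
theorem D167902 : act 5 n80585 = n167902 := rfl
theorem F264547 : act 0 n167902 = n87303 := d17_2 F250510 D167902 (iv5 D87303) F61684 D40558 D87308 (iv5 F149098) F149105 D159116
def n167903 : Q := act 4 n80586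
theorem D167903 : act 4 n80586 = n167903 := rfl
theorem F264548 : act 2 n167903 = n86716 := d1_1 D167903 (iv4 D86716) (iv2 F124466)
theorem F264549 : act 6 n167903 = n91698 := d10_2 F123913 D167903 (iv4 D91698)
theorem F264550 : act 7 n167903 = n86709 := d11_2 F124465 D167903 (iv4 D86709)
def n167904 : Q := act 4 n80587
theorem D167904 : act 4 n80587 = n167904 := rfl
theorem F264551 : act 2 n167904 = n86709 := d1_1 D167904 (iv4 D86709) F124468
theorem F264552 : act 6 n167904 = n166332 := d10_2 (iv6 F123915) D167904 (iv4 D166332)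
theorem F264553 : act 7 n167904 = n86716 := d11_2 (iv7 F124467) D167904 (iv4 D86716)
def n167905 : Q := act 0 n80588
theorem D167905 : act 0 n80588 = n167905 := rfl
theorem F264554 : act 4 n167905 = n87305 := d18_3 (iv1 D80587) D80588 D167905 (iv5 D87305) F132364 F132362 F61058 F60851 F123914
theorem F264555 : act 6 n91694 = n167905 := d10_0 F264554 (iv6 F256316) (iv4 F256317)
def n167906 : Q := act 3 n80588
theorem D167906 : act 3 n80588 = n167906 := rfl
theorem F264556 : act 4 n167906 = n80611 := d5_2 D80588 D167906 (iv3 D80611) (iv4 D36786) (iv3 F57664)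
theorem F264557 : act 6 n167906 = n121030 := d7_2 (iv6 F123917) D167906 (iv3 D121030)
def n167907 : Q := act 5 n80588
theorem D167907 : act 5 n80588 = n167907 := rfl
theorem F264558 : act 0 n167907 = n163623 := d17_2 F198641 D167907 (iv5 D163623) F193987 (iv5 F148938) (iv0 D81782) D81784 (iv0 F126122) D124173
theorem F264559 : act 1 n167907 = n163626 := d17_6 (iv1 F119772) (iv5 F118866) (iv1 D36773) D36774 D80588 D167907 (iv5 D163626) F257856 F257855
def n167908 : Q := act 7 n80588
theorem D167908 : act 7 n80588 = n167908 := rfl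
theorem F264561 : act 6 n167908 = n121791 := d14_1 D167908 F194367 (iv6 D78315) (iv7 F88302) (iv6 F123917)
def n167909 : Q := act 5 n80596
theorem D167909 : act 5 n80596 = n167909 := rfl
theorem F264562 : act 3 n167909 = n80598 := d6_1 D167909 (iv5 D80598) D80596
theorem F264563 : act 7 n167909 = n105903 := d13_2 (iv7 F190042) D167909 (iv5 D105903)
theorem F264564 : act 4 n167909 = n152740 := d18_5 D16064 D33272 D72042 F123926 D167909 (iv0 D152740) (iv4 D72075) (iv0 D33280) (iv5 D16066)
theorem F264565 : act 0 n118239 = n167909 := d20_10 F264564 (iv1 F239939) (iv4 D72080) D72079 F199423 (iv3 F109110) D153526 (iv1 F241380) (iv4 D118240) D118239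
def n167910 : Q := act 5 n80597
theorem D167910 : act 5 n80597 = n167910 := rfl
theorem F264566 : act 2 n167910 = n150623 := d2_1 D167910 (iv5 D150623) F191315
theorem F264567 : act 7 n167910 = n105921 := d13_2 (iv7 F190043) D167910 (iv5 D105921)
def n167911 : Q := act 4 n80598
theorem D167911 : act 4 n80598 = n167911 := rfl
theorem F264568 : act 2 n167911 = n150624 := d1_1 D167911 (iv4 D150624) (iv2 F191249)
theorem F264569 : act 7 n167911 = n105935 := d11_2 (iv7 F190044) D167911 (iv4 D105935)
def n167912 : Q := act 6 n80598
theorem D167912 : act 6 n80598 = n167912 := rfl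
theorem F264570 : act 2 n167912 = n150625 := d3_1 D167912 (iv6 D150625) (iv2 F191249)
theorem F264571 : act 5 n167912 = n131292 := d12_1 D167912 F210416 F112445 F189466 D80598
theorem F264572 : act 7 n167912 = n105943 := d14_2 (iv7 F190044) D167912 (iv6 D105943) (iv7 D48979) (iv6 F77263)
theorem F264573 : act 0 n157338 = n150777 := d21_10 F247605 (iv1 F247602) (iv5 F237231) (iv6 D150686) (iv1 F189465) D167912 F264571 F248033 D131783 (iv6 F247613)
theorem F264574 : act 1 n118405 = n167912 := d15_1 (iv0 F243254) F264572 F162686
theorem F264575 : act 1 n167912 = n150756 := d15_0 (iv0 D150756) (iv7 F237165) (iv2 F264570)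
def n167913 : Q := act 4 n80600
theorem D167913 : act 4 n80600 = n167913 := rfl
theorem F264576 : act 2 n167913 = n80604 := d1_1 D167913 (iv4 D80604) (iv2 F123928)
theorem F264577 : act 7 n167913 = n150629 := d11_2 (iv7 F123930) D167913 (iv4 D150629)
theorem F264578 : act 1 n150647 = n167913 := d15_1 D150647 F264577 F237170
theorem F264579 : act 1 n167913 = n150646 := d15_0 (iv0 D150646) (iv7 F123937) (iv2 F264576)
def n167915 : Q := act 0 n80601
theorem D167915 : act 0 n80601 = n167915 := rfl
theorem F264585 : act 6 n167915 = n81025 := d21_5 F194693 (iv1 F123932) (iv5 D80600) D80601 D167915 F234818 (iv1 D70487) (iv5 D32705) D32706 D70490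
theorem F264586 : act 5 n167915 = n105779 := d21_0 (iv1 F162460) F77135 F37324 D39584 (iv6 F194694) F194693 (iv1 F123932) (iv5 D80600) D80601 D167915
theorem F264587 : act 2 n80606 = n167915 := d15_3 (iv0 D167915) F191363 (iv7 F233790)
theorem F264588 : act 7 n167915 = n80607 := d4_2 (iv7 F233790) F264587 F259389
theorem F264589 : act 1 n80608 = n167915 := d15_1 (iv0 F191362) F264588 F259389
def n167916 : Q := act 7 n80601
theorem D167916 : act 7 n80601 = n167916 := rfl
theorem F264590 : act 2 n167916 = n80608 := d4_1 D167916 (iv7 D80608) (iv2 F123933)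
theorem F264591 : act 3 n167916 = n127655 := d8_1 D167916 F205221 F188342
theorem F264592 : act 6 n167916 = n150631 := d14_1 D167916 (iv7 D150631) (iv6 D71005) (iv7 F57670) D80601
theorem F264593 : act 1 n80607 = n167916 := d15_1 D80607 (iv7 D167916) F123933
theorem F264594 : act 1 n167916 = n80606 := d15_1 F264593 F233790 (iv2 F259389)
def n167917 : Q := act 3 n80602
theorem D167917 : act 3 n80602 = n167917 := rfl
theorem F264595 : act 7 n167917 = n150535 := d8_2 F191358 D167917 F237025
theorem F264596 : act 4 n167917 = n152908 := d20_6 D39460 F60376 (iv4 D36781) (iv3 F57674) D80602 D167917 (iv1 D152908) (iv4 D72154) F52539 (iv1 F29963)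
theorem F264597 : act 0 n127976 = n167917 := d18_0 F264596 (iv1 D152908) (iv4 D72154) (iv5 D33307) D33306 F190085 F87735 D60127 D127976
theorem F264598 : act 1 n127974 = n167917 := d15_0 (iv0 F264597) (iv7 F241531) F241529
theorem F264599 : act 2 n167917 = n150534 := d15_3 (iv0 D150534) D150535 (iv7 F264595)
def n167918 : Q := act 4 n80602
theorem D167918 : act 4 n80602 = n167918 := rfl
theorem F264600 : act 2 n167918 = n150645 := d1_1 D167918 (iv4 D150645) F191357
theorem F264601 : act 7 n167918 = n150642 := d11_2 F191358 D167918 (iv4 D150642)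
def n167919 : Q := act 6 n80602
theorem D167919 : act 6 n80602 = n167919 := rfl
theorem F264602 : act 2 n167919 = n118334 := d3_1 D167919 (iv6 F194702) F191357
theorem F264603 : act 5 n167919 = n150312 := d12_1 D167919 (iv6 D150312) (iv5 F215734) F215735 F194682
theorem F264604 : act 0 n167919 = n105937 := d21_4 (iv5 F89222) D121944 F194682 D167919 (iv6 D105937) (iv5 D48976) (iv1 D23895) D23896 (iv6 F77263) (iv1 F189965)
theorem F264605 : act 1 n167919 = n118335 := d15_1 (iv0 F264604) (iv7 D118335) (iv2 F162672)
def n167920 : Q := act 3 n80603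
theorem D167920 : act 3 n80603 = n167920 := rfl
theorem F264606 : act 5 n167920 = n86793 := d6_2 (iv5 F191355) D167920 F133096
theorem F264607 : act 7 n167920 = n150644 := d8_2 (iv7 F191356) D167920 (iv3 D150644)
theorem F264608 : act 4 n167920 = n152715 := d20_6 F264192 (iv1 F264252) (iv4 D167810) F123804 (iv1 F123936) D167920 (iv1 F239921) (iv4 D72067) (iv3 F108527) (iv1 F241437)
theorem F264609 : act 0 n118214 = n167920 := d18_0 F264608 (iv1 F239921) (iv4 D72067) (iv5 D33278) D33277 F108518 F123926 F187561 D118214
def n167921 : Q := act 4 n80603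
theorem D167921 : act 4 n80603 = n167921 := rfl
theorem F264610 : act 2 n167921 = n150642 := d1_1 D167921 (iv4 D150642) (iv2 F191354)
theorem F264611 : act 7 n167921 = n150645 := d11_2 (iv7 F191356) D167921 (iv4 D150645)
def n167922 : Q := act 6 n80603
theorem D167922 : act 6 n80603 = n167922 := rfl
theorem F264612 : act 2 n167922 = n150643 := d3_1 D167922 (iv6 D150643) (iv2 F191354)
theorem F264613 : act 5 n167922 = n86798 := d12_1 D167922 (iv6 D86798) (iv5 D40239) D40240 (iv5 F191355)
def n167923 : Q := act 0 n80604
theorem D167923 : act 0 n80604 = n167923 := rfl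
theorem F264614 : act 1 n150629 = n167923 := d15_0 (iv0 D167923) F123937 (iv2 F237170)
def n167924 : Q := act 1 n80604
theorem D167924 : act 1 n80604 = n167924 := rfl
theorem F264615 : act 1 n167924 = n150629 := d15_1 D167924 (iv7 F264577) F264576
def n167925 : Q := act 3 n80604
theorem D167925 : act 3 n80604 = n167925 := rfl
theorem F264617 : act 7 n167925 = n150648 := d8_2 (iv7 F123937) D167925 (iv3 D150648)
def n167926 : Q := act 5 n80604
theorem D167926 : act 5 n80604 = n167926 := rfl
theorem F264618 : act 7 n167926 = n150649 := d13_2 (iv7 F123937) D167926 (iv5 D150649)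
def n167927 : Q := act 6 n80604
theorem D167927 : act 6 n80604 = n167927 := rfl
theorem F264619 : act 4 n167927 = n80605 := d10_1 D167927 (iv6 D80605) D80604
theorem F264621 : act 0 n150785 = n167927 := d20_7 (iv4 F104198) (iv1 F182801) F182803 (iv3 F184163) (iv1 D117554) (iv3 F184129) (iv4 F237344) F264619 F123938 (iv1 F84983)
def n167928 : Q := act 0 n80605
theorem D167928 : act 0 n80605 = n167928 := rfl
theorem F264622 : act 6 n167928 = n150777 := d21_5 (iv5 D80598) (iv1 D36777) D36779 D80605 D167928 F247605 (iv1 F247602) (iv5 F237231) (iv6 D150686) (iv1 F189465)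
theorem F264623 : act 5 n167928 = n105791 := d21_0 F243250 D145180 (iv6 F243253) (iv1 F264575) (iv6 D167912) (iv5 D80598) (iv1 D36777) D36779 D80605 D167928
theorem F264625 : act 1 n145211 = n167928 := d15_0 (iv0 D167928) (iv7 F123939) D145211
theorem F264626 : act 7 n167928 = n105790 := d15_2 (iv0 F229538) F264625 F162479
theorem F264627 : act 3 n128382 = n167928 := d8_3 F264626 F162480 D128382
def n167929 : Q := act 4 n80606
theorem D167929 : act 4 n80606 = n167929 := rfl
theorem F264628 : act 7 n167929 = n150302 := d11_2 (iv7 F233790) D167929 F236535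
def n167934 : Q := act 4 n80610
theorem D167934 : act 4 n80610 = n167934 := rfl
theorem F264638 : act 3 n167934 = n120637 := d5_1 D167934 F192263 F87888 (iv4 F57684) D80610
theorem F264639 : act 6 n167934 = n150161 := d10_2 F155260 D167934 F236336
theorem F264640 : act 7 n167934 = n120631 := d11_2 (iv7 F123946) D167934 F192258
theorem F264641 : act 5 n167934 = n149094 := d17_5 (iv1 F184617) (iv5 F50450) (iv1 F155256) (iv5 F123944) D167934 (iv0 D149094) (iv5 D69970) (iv0 F232416) (iv4 D60405)
theorem F264642 : act 1 n167934 = n118200 := d18_6 F232281 F104580 (iv1 F233217) (iv4 D105849) (iv5 F123944) D167934 (iv4 F190219) (iv0 F242764) (iv5 D147831)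
theorem F264643 : act 3 n149094 = n84671 := d6_1 F264641 F192265 (iv3 F264638)
def n167935 : Q := act 0 n80611
theorem D167935 : act 0 n80611 = n167935 := rfl
def n167936 : Q := act 1 n80611
theorem D167936 : act 1 n80611 = n167936 := rfl
def n167937 : Q := act 2 n80611
theorem D167937 : act 2 n80611 = n167937 := rfl
theorem F264644 : act 3 n167937 = n162822 := d0_2 D80611 D167937 F257096 F119466 (iv2 F57696)
theorem F264645 : act 6 n167937 = n121037 := d3_2 (iv6 F123947) D167937 (iv2 D121037)
def n167938 : Q := act 5 n80611
theorem D167938 : act 5 n80611 = n167938 := rfl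
theorem F264646 : act 3 n167938 = n80612 := d6_1 D167938 (iv5 D80612) D80611
def n167939 : Q := act 6 n80612
theorem D167939 : act 6 n80612 = n167939 := rfl
theorem F264647 : act 2 n167939 = n162832 := d3_1 D167939 F257099 (iv2 F123948)
theorem F264649 : act 5 n167939 = n84614 := d12_1 D167939 (iv6 D84614) F60074 (iv6 F57697) D80612
theorem F264650 : act 0 n167939 = n160517 := d21_4 (iv5 D39810) (iv1 F57699) D80612 D167939 (iv6 D160517) (iv5 D76963) F55890 D36431 F57203 (iv1 F60637)
def n167940 : Q := act 6 n80617
theorem D167940 : act 6 n80617 = n167940 := rfl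
theorem F264651 : act 3 n167940 = n82408 := d7_1 D167940 (iv6 D82408) F126155
def n167941 : Q := act 5 n80623
theorem D167941 : act 5 n80623 = n167941 := rfl
theorem F264658 : act 0 n167941 = n86600 := d17_2 F238616 D167941 (iv5 F132847) (iv4 F238102) F238101 (iv0 F252334) (iv5 D159971) D159970 (iv4 F252327)
def n167949 : Q := act 6 n80627
theorem D167949 : act 6 n80627 = n167949 := rfl
theorem F264667 : act 4 n167949 = n128055 := d10_1 D167949 (iv6 D128055) (iv4 F123986)
def n167968 : Q := act 0 n80633
theorem D167968 : act 0 n80633 = n167968 := rfl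
theorem F264673 : act 1 n80799 = n167968 := d15_0 (iv0 D167968) F123990 D80799
def n167969 : Q := act 1 n80633
theorem D167969 : act 1 n80633 = n167969 := rfl
def n167970 : Q := act 2 n80633
theorem D167970 : act 2 n80633 = n167970 := rfl
theorem F264674 : act 3 n167970 = n80785 := d0_2 D80633 D167970 (iv2 D80785) (iv3 D36888) (iv2 F117550)
theorem F264675 : act 4 n167970 = n82097 := d1_2 (iv4 F123989) D167970 (iv2 D82097)
theorem F264676 : act 7 n167970 = n80799 := d4_2 (iv7 F123990) D167970 (iv2 D80799)
theorem F264677 : act 1 n167970 = n80797 := d15_0 (iv0 D80797) (iv7 F123990) D167970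
theorem F264678 : act 1 n167969 = n80799 := d15_1 D167969 (iv7 F264676) (iv2 D167970)
theorem F264679 : act 1 n80798 = n167970 := d15_1 D80798 F264676 (iv2 D80799)
def n167980 : Q := act 2 n80636
theorem D167980 : act 2 n80636 = n167980 := rfl
theorem F264704 : act 3 n167980 = n80799 := d0_2 D80636 D167980 (iv2 D80799) (iv3 D36893) (iv2 F117552)
theorem F264706 : act 1 n167980 = n80783 := d15_0 (iv0 D80783) (iv7 F123997) D167980
def n167995 : Q := act 2 n80643
theorem D167995 : act 2 n80643 = n167995 := rfl
theorem F264740 : act 3 n167995 = n80837 := d0_2 D80643 D167995 (iv2 D80837) (iv3 D36916) (iv2 F118173)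
theorem F264741 : act 4 n167995 = n98786 := d1_2 (iv4 F124016) D167995 (iv2 D98786)
def n168005 : Q := act 0 n80647
theorem D168005 : act 0 n80647 = n168005 := rfl
theorem F264775 : act 4 n168005 = n122782 := d18_3 (iv1 D80646) D80647 D168005 F196670 F194761 F260013 F120529 D79245 F124024
def n168009 : Q := act 6 n80647
theorem D168009 : act 6 n80647 = n168009 := rfl
theorem F264789 : act 2 n168009 = n80855 := d3_1 D168009 (iv6 D80855) (iv2 F124028)
theorem F264791 : act 7 n168009 = n80880 := d14_2 (iv7 F124029) D168009 (iv6 D80880) (iv7 F124062) F124061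
def n168011 : Q := act 0 n80652
theorem D168011 : act 0 n80652 = n168011 := rfl
theorem F264798 : act 1 n80837 = n168011 := d15_0 (iv0 D168011) F124051 D80837
def n168013 : Q := act 2 n80652
theorem D168013 : act 2 n80652 = n168013 := rfl
theorem F264801 : act 7 n168013 = n80837 := d4_2 (iv7 F124051) D168013 (iv2 D80837)
theorem F264802 : act 1 n168013 = n80835 := d15_0 (iv0 D80835) (iv7 F124051) D168013
theorem F264804 : act 1 n80836 = n168013 := d15_1 D80836 F264801 (iv2 D80837)
def n168021 : Q := act 5 n80656
theorem D168021 : act 5 n80656 = n168021 := rfl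
theorem F264820 : act 2 n168021 = n80876 := d2_1 D168021 (iv5 D80876) (iv2 F124060)
theorem F264821 : act 7 n168021 = n80879 := d13_2 (iv7 F124062) D168021 (iv5 D80879)
def n168055 : Q := act 0 n80667
theorem D168055 : act 0 n80667 = n168055 := rfl
theorem F264871 : act 5 n168055 = n96179 := d17_3 D36816 D80667 D168055 F147879 (iv5 F250704) (iv0 D159208) (iv5 D76158) F59740 F29101
theorem F264872 : act 4 n168055 = n159213 := d18_1 D168055 (iv1 F250711) (iv4 D81639) (iv5 D37313) D37312 F116770 F71262 F61536 D80667
theorem F264874 : act 1 n80668 = n168055 := d15_0 (iv0 D168055) F124091 (iv2 F124092)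
def n168056 : Q := act 4 n80667
theorem D168056 : act 4 n80667 = n168056 := rfl
theorem F264877 : act 6 n168056 = n84482 := d10_2 F192772 D168056 (iv4 F192771)
theorem F264879 : act 0 n168056 = n84512 := d18_2 F260105 D168056 (iv4 D84512) (iv5 D38982) (iv4 F60003) F129443 F126153 D96321 (iv5 F260104)
theorem F264880 : act 1 n168056 = n160487 := d18_6 F116743 (iv4 F33937) D45167 (iv4 F117053) D80667 D168056 (iv4 D160487) (iv0 D76942) (iv5 D35154)
def n168069 : Q := act 6 n80677
theorem D168069 : act 6 n80677 = n168069 := rfl
theorem F264902 : act 2 n168069 = n89211 := d3_1 D168069 (iv6 D89211) (iv2 F124108)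
theorem F264903 : act 3 n168069 = n80678 := d7_1 D168069 (iv6 D80678) D80677
def n168071 : Q := act 1 n80678
theorem D168071 : act 1 n80678 = n168071 := rfl
theorem F264905 : act 1 n168071 = n150287 := d15_1 D168071 (iv7 D150287) (iv2 F124112)
def n168072 : Q := act 5 n80678
theorem D168072 : act 5 n80678 = n168072 := rfl
theorem F264907 : act 6 n168072 = n150275 := d12_2 D80678 D168072 (iv5 D150275) (iv6 D70755) (iv5 F57746)
def n168074 : Q := act 0 n80679
theorem D168074 : act 0 n80679 = n168074 := rfl
def n168075 : Q := act 1 n80679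
theorem D168075 : act 1 n80679 = n168075 := rfl
theorem F264913 : act 1 n168075 = n80683 := d15_1 D168075 (iv7 D80683) (iv2 F124113)
theorem F264914 : act 3 n168075 = n86559 := d20_5 (iv4 D35248) (iv1 F59793) (iv4 F57765) (iv3 F124116) (iv1 F264913) F232746 (iv1 D41110) (iv4 F60972) F60971 (iv1 F117357)
theorem F264915 : act 4 n168075 = n149776 := d20_0 (iv1 D149776) (iv4 F133018) F133017 F109927 (iv3 F55980) (iv4 D35248) (iv1 F59793) (iv4 F57765) (iv3 F124116) (iv1 F264913)
theorem F264916 : act 7 n80680 = n168075 := d8_0 F264914 F232747 (iv3 F155921)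
theorem F264917 : act 2 n80680 = n168074 := d15_3 (iv0 D168074) D168075 (iv7 F264916)
theorem F264918 : act 7 n80681 = n168074 := d15_2 (iv0 D80680) D80681 (iv2 F264917)
theorem F264919 : act 2 n168075 = n80681 := d4_3 F264918 (iv2 F264917) F264916
def n168077 : Q := act 7 n80679
theorem D168077 : act 7 n80679 = n168077 := rfl
theorem F264928 : act 1 n80681 = n168077 := d15_1 D80681 (iv7 D168077) F124113
theorem F264929 : act 1 n168077 = n80680 := d15_1 F264928 F264916 F264919
def n168078 : Q := act 4 n80680
theorem D168078 : act 4 n80680 = n168078 := rfl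
theorem F264931 : act 7 n168078 = n149776 := d11_2 (iv7 F264916) D168078 (iv4 F264915)
def n168079 : Q := act 5 n80680
theorem D168079 : act 5 n80680 = n168079 := rfl
def n168081 : Q := act 3 n80681
theorem D168081 : act 3 n80681 = n168081 := rfl
def n168083 : Q := act 5 n80681
theorem D168083 : act 5 n80681 = n168083 := rfl
def n168084 : Q := act 6 n80681
theorem D168084 : act 6 n80681 = n168084 := rfl
def n168089 : Q := act 6 n80684
theorem D168089 : act 6 n80684 = n168089 := rfl
theorem F264941 : act 3 n168089 = n80685 := d7_1 D168089 (iv6 D80685) D80684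
def n168094 : Q := act 2 n80686
theorem D168094 : act 2 n80686 = n168094 := rfl
theorem F264952 : act 7 n80687 = n168094 := d15_2 (iv0 D80686) D80687 (iv2 D168094)
def n168096 : Q := act 5 n80686
theorem D168096 : act 5 n80686 = n168096 := rfl
def n168098 : Q := act 7 n80686
theorem D168098 : act 7 n80686 = n168098 := rfl
theorem F264956 : act 4 n168098 = n167020 := d11_1 D168098 (iv7 D167020) F128303
def n168099 : Q := act 3 n80687
theorem D168099 : act 3 n80687 = n168099 := rfl
theorem F264957 : act 0 n168099 = n86551 := d20_4 F124247 (iv1 F123122) F154857 D168099 F132793 F114883 D123223 (iv4 F242361) F242360 (iv1 F124253)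
def n168100 : Q := act 5 n80687
theorem D168100 : act 5 n80687 = n168100 := rfl
def n168105 : Q := act 7 n80688
theorem D168105 : act 7 n80688 = n168105 := rfl
theorem F264964 : act 3 n168105 = n162862 := d8_1 D168105 F257157 F130091
theorem F264965 : act 5 n168105 = n80689 := d13_1 D168105 (iv7 D80689) D80688
def n168112 : Q := act 4 n80691
theorem D168112 : act 4 n80691 = n168112 := rfl
theorem F264984 : act 2 n168112 = n164773 := d1_1 D168112 (iv4 D164773) (iv2 F124137)
def n168118 : Q := act 4 n80694
theorem D168118 : act 4 n80694 = n168118 := rfl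
theorem F265000 : act 7 n168118 = n164773 := d11_2 (iv7 F124144) D168118 (iv4 D164773)
def n168141 : Q := act 6 n80704
theorem D168141 : act 6 n80704 = n168141 := rfl
theorem F265054 : act 3 n168141 = n80705 := d7_1 D168141 (iv6 D80705) D80704
def n168144 : Q := act 1 n80707
theorem D168144 : act 1 n80707 = n168144 := rfl
theorem F265059 : act 7 n168144 = n80711 := d15_2 (iv0 F238652) D168144 (iv2 F238651)
theorem F265060 : act 2 n80712 = n168144 := d4_3 F265059 (iv2 F238651) F238649
def n168145 : Q := act 5 n80707
theorem D168145 : act 5 n80707 = n168145 := rfl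
def n168146 : Q := act 7 n80707
theorem D168146 : act 7 n80707 = n168146 := rfl
theorem F265064 : act 3 n168146 = n164653 := d8_1 D168146 (iv7 D164653) (iv3 F124170)
theorem F265065 : act 4 n168146 = n158718 := d11_1 D168146 F249896 F127148
theorem F265067 : act 1 n80712 = n168146 := d15_1 D80712 (iv7 D168146) F124169
theorem F265068 : act 1 n168146 = n80711 := d15_1 F265067 (iv7 F265059) (iv2 F265060)
def n168147 : Q := act 6 n80708
theorem D168147 : act 6 n80708 = n168147 := rfl
def n168148 : Q := act 6 n80709
theorem D168148 : act 6 n80709 = n168148 := rfl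
theorem F265071 : act 3 n168148 = n86567 := d7_1 D168148 (iv6 D86567) F124177
def n168149 : Q := act 0 n80710
theorem D168149 : act 0 n80710 = n168149 := rfl
def n168150 : Q := act 1 n80710
theorem D168150 : act 1 n80710 = n168150 := rfl
def n168151 : Q := act 5 n80710
theorem D168151 : act 5 n80710 = n168151 := rfl
def n168152 : Q := act 7 n80710
theorem D168152 : act 7 n80710 = n168152 := rfl
def n168153 : Q := act 3 n80711
theorem D168153 : act 3 n80711 = n168153 := rfl
def n168154 : Q := act 5 n80711
theorem D168154 : act 5 n80711 = n168154 := rfl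
def n168155 : Q := act 6 n80711
theorem D168155 : act 6 n80711 = n168155 := rfl
def n168156 : Q := act 5 n80712
theorem D168156 : act 5 n80712 = n168156 := rfl
def n168162 : Q := act 2 n80715
theorem D168162 : act 2 n80715 = n168162 := rfl
theorem F265085 : act 4 n168162 = n167097 := d1_2 F154836 D168162 (iv2 D167097)
def n168163 : Q := act 3 n80715
theorem D168163 : act 3 n80715 = n168163 := rfl
theorem F265087 : act 0 n86449 = n168163 := d20_4 F118417 (iv1 F120717) (iv4 F60926) (iv3 F132567) (iv3 D168163) (iv4 F154836) (iv1 F123239) (iv4 F122378) (iv3 D79711) (iv1 F118416)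
def n168167 : Q := act 3 n80716
theorem D168167 : act 3 n80716 = n168167 := rfl
def n168198 : Q := act 6 n80729
theorem D168198 : act 6 n80729 = n168198 := rfl
theorem F265158 : act 3 n168198 = n80731 := d7_1 D168198 (iv6 D80731) D80729
def n168212 : Q := act 6 n80737
theorem D168212 : act 6 n80737 = n168212 := rfl
theorem F265169 : act 4 n168212 = n80738 := d10_1 D168212 (iv6 D80738) D80737
theorem F265170 : act 0 n150265 = n168212 := d20_7 (iv4 D87892) (iv1 F75734) (iv4 F159608) F159607 (iv1 F114884) D160009 F252406 F265169 F124229 (iv1 F264016)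
def n168217 : Q := act 6 n80739
theorem D168217 : act 6 n80739 = n168217 := rfl
theorem F265180 : act 3 n168217 = n127893 := d7_1 D168217 (iv6 D127893) F124232
theorem F265181 : act 4 n168217 = n168141 := d10_1 D168217 (iv6 D168141) F124233
theorem F265182 : act 0 n168217 = n80786 := d20_7 F57711 (iv1 F28854) D17779 D36936 (iv1 F238262) (iv3 F265054) (iv4 F265181) (iv4 D80786) (iv3 D36888) (iv1 F57715)
def n168219 : Q := act 0 n80741
theorem D168219 : act 0 n80741 = n168219 := rfl
theorem F265184 : act 3 n168219 = n127874 := d20_5 (iv4 F117570) (iv1 D37819) (iv4 F58670) (iv3 F124237) D168219 (iv4 D127874) (iv1 F94603) (iv4 F107191) F107190 (iv1 F115779)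
theorem F265185 : act 4 n168219 = n151712 := d20_8 F114887 (iv1 F232462) D55335 F87571 F117584 (iv3 F57812) (iv4 F124238) D168219 (iv3 D151712) (iv1 F114891)
def n168223 : Q := act 5 n80742
theorem D168223 : act 5 n80742 = n168223 := rfl
def n168239 : Q := act 3 n80747
theorem D168239 : act 3 n80747 = n168239 := rfl
def n168256 : Q := act 6 n80755
theorem D168256 : act 6 n80755 = n168256 := rfl
theorem F265217 : act 3 n168256 = n80756 := d7_1 D168256 (iv6 D80756) D80755
theorem F265218 : act 4 n168256 = n98192 := d10_1 D168256 (iv6 D98192) (iv4 F124257)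
def n168259 : Q := act 5 n80756
theorem D168259 : act 5 n80756 = n168259 := rfl
theorem F265219 : act 6 n168259 = n86374 := d12_2 D80756 D168259 (iv5 D86374) (iv6 D39982) (iv5 F57816)
def n168260 : Q := act 7 n80756
theorem D168260 : act 7 n80756 = n168260 := rfl
theorem F265220 : act 4 n168260 = n87779 := d11_1 D168260 (iv7 D87779) (iv4 F124258)
def n168265 : Q := act 2 n80758
theorem D168265 : act 2 n80758 = n168265 := rfl
theorem F265223 : act 4 n168265 = n87784 := d1_2 (iv4 F233091) D168265 (iv2 D87784)
theorem F265224 : act 7 n80759 = n168265 := d15_2 (iv0 D80758) D80759 (iv2 D168265)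
theorem E24260 : n87791 = n80759 := (c11_4 F265224 F265223 (iv7 F134767) D87791)
theorem E24261 : n100427 = n40903 := (((iv4 F154484)).symm.trans (sb E24260 (iv4 D87791)))
theorem E24262 : n87790 = n46868 := ((D87790).symm.trans (sb E24261 (iv3 D100427)))
theorem F265225 : act 4 n40903 = n80759 := (sb E24261 F154484)
theorem F265226 : act 3 n46868 = n40903 := (sb E24262 (iv3 D87790))
theorem F265227 : act 3 n87792 = n100429 := d6_3 (iv5 D100429) F265226 D87792
theorem F265228 : act 3 n87793 = n100430 := d7_3 (iv6 D100430) F265226 D87793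
theorem F265229 : act 3 n87784 = n100421 := d8_3 (iv7 F154482) F265226 F134767
theorem F265230 : act 2 n100422 = n87785 := d0_3 F265229 (iv2 D100421) D100422 (iv3 D87785) D87784
def n168266 : Q := act 3 n80758
theorem D168266 : act 3 n80758 = n168266 := rfl
theorem F265231 : act 4 n168266 = n158717 := d20_6 F117341 (iv1 D35351) (iv4 F28906) (iv3 F57822) D80758 D168266 (iv1 D158717) (iv4 F124183) F124182 (iv1 F57803)
def n168268 : Q := act 6 n80758
theorem D168268 : act 6 n80758 = n168268 := rfl
theorem F265232 : act 4 n168268 = n87788 := d10_1 D168268 (iv6 D87788) (iv4 F233091)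
def n168273 : Q := act 0 n80760
theorem D168273 : act 0 n80760 = n168273 := rfl
def n168274 : Q := act 1 n80760
theorem D168274 : act 1 n80760 = n168274 := rfl
def n168276 : Q := act 7 n80760
theorem D168276 : act 7 n80760 = n168276 := rfl
def n168279 : Q := act 6 n80762
theorem D168279 : act 6 n80762 = n168279 := rfl
theorem F265240 : act 4 n168279 = n161730 := d10_1 D168279 (iv6 D161730) (iv4 F130349)
theorem F265241 : act 5 n168279 = n165228 := d21_6 (iv5 D27116) F21606 D17765 D36878 D80762 D168279 (iv1 D165228) (iv5 D79380) (iv6 D36145) (iv1 F43842)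
def n168352 : Q := act 3 n80783
theorem D168352 : act 3 n80783 = n168352 := rfl
theorem F265285 : act 4 n168352 = n96803 := d20_6 F44257 D27365 (iv4 F120943) D36888 D80783 D168352 (iv1 D96803) (iv4 F124050) (iv3 D80652) F120977
def n168361 : Q := act 4 n80785
theorem D168361 : act 4 n80785 = n168361 := rfl
theorem F265287 : act 2 n168361 = n80786 := d1_1 D168361 (iv4 D80786) D80785
theorem F265288 : act 1 n168361 = n127836 := d15_0 (iv0 F249300) F249299 (iv2 F265287)
theorem F265289 : act 4 n80798 = n150165 := d20_0 (iv1 D150165) D150167 F236347 F190946 (iv3 F252203) F252204 (iv1 F265288) (iv4 D168361) (iv3 F264674) (iv1 F264679)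
theorem F265291 : act 3 n82045 = n150165 := d20_5 F60872 (iv1 F118213) (iv4 D37599) D37598 D82045 (iv4 F265289) (iv1 D80798) D80800 F124511 (iv1 F118260)
def n168364 : Q := act 0 n80786
theorem D168364 : act 0 n80786 = n168364 := rfl
theorem F265294 : act 3 n168364 = n81092 := d20_5 F57516 (iv1 F120939) (iv4 F120773) (iv3 F124274) D168364 (iv4 D81092) (iv1 D37052) (iv4 F57979) (iv3 D37043) (iv1 F118231)
theorem F265295 : act 4 n168364 = n151856 := d20_8 (iv4 D33111) (iv1 D15966) (iv4 F25482) F25481 D17768 D36888 D80786 D168364 (iv3 D151856) (iv1 F108106)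
theorem F265296 : act 7 n127836 = n168364 := d11_0 F265295 F252205 F252204
theorem F265297 : act 6 n168364 = n127991 := d14_1 F265296 (iv7 D127991) (iv6 D60135) (iv7 F94535) D127836
def n168391 : Q := act 3 n80797
theorem D168391 : act 3 n80797 = n168391 := rfl
theorem F265323 : act 4 n168391 = n98785 := d20_6 F124011 (iv1 F58801) (iv4 F120948) D36893 D80797 D168391 (iv1 D98785) (iv4 F124016) (iv3 D80643) D80642
def n168392 : Q := act 4 n80797
theorem D168392 : act 4 n80797 = n168392 := rfl
def n168398 : Q := act 4 n80799
theorem D168398 : act 4 n80799 = n168398 := rfl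
theorem F265325 : act 2 n168398 = n80800 := d1_1 D168398 (iv4 D80800) D80799
theorem F265326 : act 7 n168398 = n82097 := d11_2 F264676 D168398 (iv4 F264675)
theorem F265327 : act 1 n82096 = n168398 := d15_1 D82096 F265326 (iv2 D82097)
theorem F265328 : act 3 n82127 = n168398 := d0_0 F265325 F124511 F117459 D37645 D82127
theorem F265329 : act 1 n168398 = n82095 := d15_0 (iv0 D82095) (iv7 F124512) (iv2 F265325)
def n168401 : Q := act 0 n80800
theorem D168401 : act 0 n80800 = n168401 := rfl
theorem F265332 : act 4 n168401 = n151859 := d20_0 (iv1 D151859) (iv4 F236085) (iv3 D150056) (iv1 F107071) F51895 F29205 (iv1 F29173) D37526 (iv3 F124511) D168401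
theorem F265333 : act 1 n82097 = n168401 := d15_0 (iv0 D168401) F124512 D82097
def n168402 : Q := act 1 n80800
theorem D168402 : act 1 n80800 = n168402 := rfl
theorem F265334 : act 1 n168402 = n82097 := d15_1 D168402 (iv7 F265326) F265325
theorem F265335 : act 4 n151858 = n168402 := d20_0 (iv1 D168402) (iv4 D80800) (iv3 D36893) (iv1 D17769) (iv3 F25481) F25482 D15965 D33106 D71592 D151858
theorem F265336 : act 3 n80835 = n151858 := d20_5 F13179 D8380 D17774 D36916 D80835 F265335 (iv1 D168402) (iv4 D80800) (iv3 D36893) (iv1 D17769)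
def n168403 : Q := act 5 n80800
theorem D168403 : act 5 n80800 = n168403 := rfl
theorem F265338 : act 7 n168403 = n82098 := d13_2 (iv7 F124512) D168403 (iv5 D82098)
def n168410 : Q := act 5 n80802
theorem D168410 : act 5 n80802 = n168410 := rfl
def n168466 : Q := act 2 n80822
theorem D168466 : act 2 n80822 = n168466 := rfl
theorem F265381 : act 3 n168466 = n96793 := d0_2 D80822 D168466 (iv2 D96793) (iv3 D45232) (iv2 F118265)
theorem F265382 : act 4 n168466 = n80837 := d1_2 (iv4 F124529) D168466 (iv2 D80837)
theorem F265383 : act 7 n168466 = n96804 := d4_2 (iv7 F124530) D168466 (iv2 D96804)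
theorem F265387 : act 1 n96803 = n168466 := d15_1 D96803 F265383 (iv2 D96804)
theorem E24263 : n168352 = n151831 := (c20_1 (iv4 F265285) (iv1 D151831) D151833 F238755 F185647 (iv3 F235916) F235917 (iv1 F151466) (iv4 F149259) (iv3 F265381) (iv1 F265387))
theorem F265388 : act 3 n151831 = n80783 := (sb E24263 (iv3 D168352))
theorem F265389 : act 4 n151831 = n96803 := (sb E24263 F265285)
def n168472 : Q := act 1 n80824
theorem D168472 : act 1 n80824 = n168472 := rfl
theorem F265403 : act 1 n168472 = n84454 := d15_1 D168472 F129596 (iv2 F124533)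
theorem F265406 : act 6 n159073 = n168472 := d21_3 D38913 D84384 (iv5 F250428) (iv1 D168472) (iv6 D80824) D80823 (iv1 F201519) (iv5 D125299) (iv6 D58672) (iv1 F121781)
def n168473 : Q := act 7 n80824
theorem D168473 : act 7 n80824 = n168473 := rfl
theorem F265409 : act 4 n168473 = n80832 := d11_1 D168473 (iv7 D80832) (iv4 F124534)
theorem F265410 : act 5 n168473 = n84352 := d13_1 D168473 F129422 (iv5 F124535)
theorem F265412 : act 1 n96801 = n168473 := d15_1 D96801 (iv7 D168473) F124533
def n168489 : Q := act 6 n80835
theorem D168489 : act 6 n80835 = n168489 := rfl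
def n168492 : Q := act 4 n80836
theorem D168492 : act 4 n80836 = n168492 := rfl
theorem F265452 : act 0 n151833 = n168492 := d20_10 (iv4 D168492) (iv1 D80836) (iv4 F124529) (iv3 D80822) F57840 (iv3 F71293) F71294 (iv1 F85958) D118146 (iv3 F238755)
def n168501 : Q := act 0 n80839
theorem D168501 : act 0 n80839 = n168501 := rfl
theorem F265456 : act 4 n168501 = n149931 := d20_0 (iv1 D149931) (iv4 F235788) (iv3 D149912) F232221 F232218 F124507 (iv1 D36926) (iv4 F57846) (iv3 F124552) D168501
def n168503 : Q := act 5 n80839
theorem D168503 : act 5 n80839 = n168503 := rfl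
def n168539 : Q := act 0 n80855
theorem D168539 : act 0 n80855 = n168539 := rfl
theorem F265512 : act 4 n168539 = n162181 := d18_3 F121743 (iv4 F124568) D168539 (iv5 D162181) F198685 F192875 F192872 F121736 D78519
theorem F265513 : act 1 n80880 = n168539 := d15_0 (iv0 D168539) (iv7 F260826) F260824
theorem F265514 : act 6 n80908 = n168539 := d10_0 F265512 (iv6 F256323) F149470
def n168540 : Q := act 1 n80855
theorem D168540 : act 1 n80855 = n168540 := rfl
theorem F265516 : act 1 n168540 = n80880 := d15_1 D168540 (iv7 F264791) F264789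
theorem F265518 : act 4 n162180 = n168540 := d18_5 (iv1 D36275) (iv4 F57017) D79651 F194971 D162180 F265516 F124609 F122357 (iv5 D79656)
theorem F265519 : act 6 n168540 = n168005 := d10_2 (iv6 F256319) F265518 F264775
def n168541 : Q := act 5 n80855
theorem D168541 : act 5 n80855 = n168541 := rfl
def n168553 : Q := act 1 n80864
theorem D168553 : act 1 n80864 = n168553 := rfl
def n168554 : Q := act 5 n80864
theorem D168554 : act 5 n80864 = n168554 := rfl
def n168577 : Q := act 1 n80876
theorem D168577 : act 1 n80876 = n168577 := rfl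
theorem F265551 : act 1 n168577 = n80879 := d15_1 D168577 (iv7 F264821) F264820
theorem F265553 : act 5 n168577 = n168005 := d17_7 (iv1 F121742) F89437 F121734 F118158 D36945 D80876 D168577 (iv0 D168005) (iv4 D80647)
def n168602 : Q := act 5 n80886
theorem D168602 : act 5 n80886 = n168602 := rfl
def n168633 : Q := act 5 n80897
theorem D168633 : act 5 n80897 = n168633 := rfl
theorem F265595 : act 4 n168633 = n162102 := d18_5 (iv1 D56521) (iv4 F89381) D122127 F195046 D168633 (iv0 D162102) F119095 (iv0 F116369) F116190
def n168663 : Q := act 5 n80908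
theorem D168663 : act 5 n80908 = n168663 := rfl
theorem F265646 : act 0 n168541 = n168663 := d21_1 D168541 (iv5 D168663) F265514 (iv1 F265513) (iv6 D80880) D80879 (iv1 F265551) F265553 (iv6 F265519) (iv1 D168540)
def n168671 : Q := act 5 n80913
theorem D168671 : act 5 n80913 = n168671 := rfl
theorem F265652 : act 0 n168671 = n168602 := d21_1 D168671 (iv5 D168602) (iv6 D80886) (iv1 D36952) F28910 D17795 (iv1 F57894) (iv5 D36972) D36973 (iv1 F126592)
def n168675 : Q := act 5 n80916
theorem D168675 : act 5 n80916 = n168675 := rfl
theorem F265659 : act 3 n168675 = n82837 := d6_1 D168675 (iv5 D82837) (iv3 F150374)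
theorem F265661 : act 0 n162125 = n168675 := d21_10 (iv5 D168675) (iv1 F124642) (iv5 F192852) (iv6 F249038) (iv1 F249039) (iv6 F192901) (iv5 F149292) (iv1 D96826) (iv5 F119110) D162125
def n168677 : Q := act 3 n80917
theorem D168677 : act 3 n80917 = n168677 := rfl
theorem F265668 : act 6 n168677 = n82120 := d7_2 (iv6 F150378) D168677 F194924
theorem F265670 : act 0 n168677 = n82198 := d20_4 (iv4 F195055) (iv1 F195057) (iv4 F195049) D168677 F126635 F89363 (iv1 F126592) (iv4 D80913) (iv3 F126071) (iv1 F89388)
theorem F265671 : act 0 n82204 = n168677 := d20_4 F149484 (iv1 F126670) F126666 (iv3 F126644) (iv3 D168677) F195049 (iv1 D122113) F89370 (iv3 F58533) D82205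
def n168678 : Q := act 2 n80919
theorem D168678 : act 2 n80919 = n168678 := rfl
theorem F265672 : act 7 n80920 = n168678 := d15_2 (iv0 D80919) D80920 (iv2 D168678)
def n168680 : Q := act 4 n80919
theorem D168680 : act 4 n80919 = n168680 := rfl
def n168683 : Q := act 7 n80919
theorem D168683 : act 7 n80919 = n168683 := rfl
theorem F265673 : act 2 n168683 = n80920 := d4_1 D168683 F265672 (iv2 D168678)
def n168684 : Q := act 4 n80920
theorem D168684 : act 4 n80920 = n168684 := rfl
theorem F265674 : act 3 n168684 = n81300 := d5_1 D168684 (iv4 F126875) F196074 (iv4 F196075) F196168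
def n168825 : Q := act 6 n80972
theorem D168825 : act 6 n80972 = n168825 := rfl
def n168828 : Q := act 0 n80974
theorem D168828 : act 0 n80974 = n168828 := rfl
theorem F265895 : act 1 n150352 = n168828 := d15_0 (iv0 D168828) (iv7 F132478) (iv2 F236643)
def n168829 : Q := act 1 n80974
theorem D168829 : act 1 n80974 = n168829 := rfl
def n168830 : Q := act 2 n80974
theorem D168830 : act 2 n80974 = n168830 := rfl
theorem F265898 : act 7 n168830 = n150352 := d4_2 F132478 D168830 F236643
theorem F265899 : act 1 n168829 = n150352 := d15_1 D168829 (iv7 F265898) (iv2 D168830)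
def n168835 : Q := act 7 n80976
theorem D168835 : act 7 n80976 = n168835 := rfl
theorem F265905 : act 4 n168835 = n80979 := d11_1 D168835 (iv7 D80979) (iv4 F124725)
theorem F265906 : act 5 n168835 = n86562 := d13_1 D168835 (iv7 F197426) (iv5 F197427)
def n168844 : Q := act 3 n80982
theorem D168844 : act 3 n80982 = n168844 := rfl
theorem F265921 : act 4 n168844 = n96853 := d5_2 F187245 D168844 (iv3 F235585) F235581 (iv3 F187244)
theorem F265922 : act 6 n168844 = n150632 := d7_2 F124740 D168844 (iv3 D150632)
def n168846 : Q := act 5 n80983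
theorem D168846 : act 5 n80983 = n168846 := rfl
theorem F265928 : act 0 n168846 = n150360 := d17_2 (iv1 F124744) D168846 (iv5 F261459) (iv4 F187825) F238822 F244304 F244302 (iv0 D119018) (iv4 F107244)
def n168847 : Q := act 6 n80983
theorem D168847 : act 6 n80983 = n168847 := rfl
theorem F265932 : act 0 n155175 = n168847 := d21_4 D49009 D106019 F264501 F264499 (iv6 D168847) D168846 F265928 (iv5 F261459) (iv6 D106018) (iv1 D49008)
def n168848 : Q := act 0 n80984
theorem D168848 : act 0 n80984 = n168848 := rfl
theorem F265934 : act 1 n150353 = n168848 := d15_0 (iv0 D168848) F124747 (iv2 F236644)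
theorem F265935 : act 5 n168848 = n166056 := d17_7 D79766 F215722 (iv1 F124776) (iv5 D70828) D70827 D150353 F265934 (iv0 D166056) F122422
theorem F265936 : act 6 n166056 = n105945 := d21_3 D80984 D168848 F265935 (iv1 D105945) (iv6 D48981) (iv5 F56835) (iv1 D36091) (iv5 F42458) D54775 F86659
def n168852 : Q := act 0 n80985
theorem D168852 : act 0 n80985 = n168852 := rfl
theorem F265948 : act 4 n168852 = n119783 := d18_3 (iv1 D81025) (iv4 F124749) D168852 F232617 (iv4 F232219) (iv0 F232221) (iv4 D70488) D70487 (iv5 F234818)
theorem F265950 : act 6 n148477 = n168852 := d10_0 F265948 F232618 D148477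
def n168853 : Q := act 1 n80985
theorem D168853 : act 1 n80985 = n168853 := rfl
theorem F265957 : act 4 n168853 = n119782 := d18_7 (iv1 F87168) (iv4 F188925) (iv1 F188927) (iv4 F87175) F85902 (iv4 F124749) D168853 (iv0 D119782) (iv5 D55116)
def n168854 : Q := act 5 n80985
theorem D168854 : act 5 n80985 = n168854 := rfl
theorem F265961 : act 0 n168854 = n86581 := d17_2 (iv1 D168853) D168854 (iv5 D86581) F61030 (iv5 D26637) D26636 D55121 F188997 (iv4 F265957)
theorem F265962 : act 1 n168854 = n162862 := d17_6 (iv1 F56380) D78336 F119548 F85902 (iv4 F124749) D168854 (iv5 D162862) F119493 (iv4 D70480)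
def n168872 : Q := act 4 n80992
theorem D168872 : act 4 n80992 = n168872 := rfl
theorem F265972 : act 0 n168872 = n86497 := d18_2 (iv1 F124750) D168872 (iv4 D86497) (iv5 D40071) F30247 (iv0 F118793) D17299 D35691 D78291
def n168876 : Q := act 6 n80994
theorem D168876 : act 6 n80994 = n168876 := rfl
theorem F265977 : act 4 n168876 = n80995 := d10_1 D168876 (iv6 D80995) D80994
def n168896 : Q := act 4 n81003
theorem D168896 : act 4 n81003 = n168896 := rfl
theorem F265994 : act 7 n168896 = n168876 := d11_2 (iv7 F132506) D168896 F265977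
def n168897 : Q := act 4 n81004
theorem D168897 : act 4 n81004 = n168897 := rfl
theorem F265995 : act 2 n168897 = n168876 := d1_1 D168897 F265977 (iv2 F124760)
def n168898 : Q := act 0 n81005
theorem D168898 : act 0 n81005 = n168898 := rfl
theorem F265997 : act 5 n168898 = n86495 := d17_1 D168898 (iv1 F132672) (iv5 D78273) (iv4 D35684) D35685 F118795 (iv5 F124731) F124734 D81005
theorem F265999 : act 2 n161106 = n168898 := d15_3 (iv0 D168898) (iv0 F132465) F254674
def n168902 : Q := act 3 n81010
theorem D168902 : act 3 n81010 = n168902 := rfl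
theorem F266010 : act 6 n168902 = n150622 := d7_2 (iv6 F191314) D168902 (iv3 D150622)
theorem F266011 : act 7 n168902 = n105876 := d8_2 (iv7 F191240) D168902 F162607
theorem F266012 : act 0 n168902 = n165224 := d20_4 F57916 D37008 D81010 D168902 (iv3 D165224) F187432 (iv1 D119124) F86748 (iv3 F86657) F86659
theorem E24267 : n165224 = n151795 := ((c15_1 D151795 (iv0 F266012) F266011 F162606)).symm
theorem F266014 : act 3 n151795 = n79379 := (sb E24267 (iv3 D165224))
theorem F266016 : act 2 n151797 = n168902 := d4_3 F266011 F162606 D151797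
def n168904 : Q := act 6 n81018
theorem D168904 : act 6 n81018 = n168904 := rfl
theorem F266023 : act 5 n168904 = n155297 := d12_1 D168904 F244222 (iv5 F189989) (iv6 D81019) D81018
theorem F266024 : act 0 n168904 = n149768 := d21_4 (iv5 D48955) F190012 D81018 D168904 F235572 F261580 (iv1 D166124) F122451 (iv6 D61820) (iv1 F190079)
theorem F266025 : act 1 n168904 = n149766 := d15_1 (iv0 F266024) F235567 (iv2 F235571)
theorem F266026 : act 4 n157646 = n168904 := d18_7 (iv1 F235554) F235550 (iv1 F232568) (iv4 D76619) D76620 D160019 F252437 F266025 (iv5 D149766)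
theorem F266028 : act 6 n139050 = n157646 := d10_0 F266026 (iv6 D168904) (iv4 F243280)
def n168905 : Q := act 4 n81020
theorem D168905 : act 4 n81020 = n168905 := rfl
theorem F266031 : act 0 n168905 = n151884 := d18_2 D81020 D168905 (iv4 D151884) (iv5 D71609) D71608 (iv0 F124767) (iv4 D81010) (iv0 D37008) D37011
def n168906 : Q := act 3 n81021
theorem D168906 : act 3 n81021 = n168906 := rfl
theorem F266032 : act 2 n168906 = n150193 := d0_1 D168906 (iv3 F247998) F247997 (iv3 D150367) (iv2 F191312)
theorem F266033 : act 5 n168906 = n166127 := d6_2 F215729 D168906 (iv3 D166127)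
theorem F266034 : act 6 n168906 = n129540 := d7_2 (iv6 F215162) D168906 F208671
theorem F266036 : act 4 n168906 = n129541 := d20_6 F231380 (iv1 F243035) F243037 F124886 (iv1 F124777) D168906 F244545 (iv4 D155525) (iv3 F190826) (iv1 F231382)
theorem F266039 : act 2 n166127 = n149161 := d2_1 F266033 (iv5 F236378) (iv2 F266032)
def n168907 : Q := act 4 n81021
theorem D168907 : act 4 n81021 = n168907 := rfl
theorem F266043 : act 6 n168907 = n131328 := d10_2 (iv6 F215162) D168907 (iv4 D131328)
def n168912 : Q := act 6 n81022
theorem D168912 : act 6 n81022 = n168912 := rfl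
theorem F266053 : act 4 n168912 = n81023 := d10_1 D168912 (iv6 D81023) D81022
theorem F266055 : act 0 n168912 = n120255 := d20_7 D119895 F189275 (iv4 D70745) (iv3 F107203) F109849 (iv3 F124779) (iv4 F266053) (iv4 D120255) F87573 (iv1 F87312)
def n168913 : Q := act 1 n81023
theorem D168913 : act 1 n81023 = n168913 := rfl
theorem F266059 : act 5 n168913 = n148999 := d18_9 F234208 (iv4 F186851) (iv1 F186855) (iv4 D55335) D55336 D120255 (iv0 F266055) F266053 D168913
theorem F266061 : act 3 n149000 = n168913 := d6_3 F266059 (iv3 D148999) D149000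
def n168914 : Q := act 7 n81023
theorem D168914 : act 7 n81023 = n168914 := rfl
theorem F266064 : act 5 n168914 = n155302 := d13_1 D168914 (iv7 F244217) F185597
def n168915 : Q := act 4 n81024
theorem D168915 : act 4 n81024 = n168915 := rfl
theorem F266069 : act 6 n168915 = n150278 := d10_2 F234808 D168915 (iv4 D150278)
def n168916 : Q := act 3 n81025
theorem D168916 : act 3 n81025 = n168916 := rfl
theorem F266070 : act 2 n168916 = n150197 := d0_1 D168916 (iv3 F238784) F233742 F235736 (iv2 F235733)
theorem F266071 : act 5 n168916 = n149909 := d6_2 (iv5 F234818) D168916 (iv3 D149909)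
theorem F266072 : act 7 n168916 = n150196 := d8_2 F234819 D168916 F238781
theorem F266073 : act 1 n150188 = n168916 := d15_1 (iv0 F239772) F266072 F238780
theorem F266074 : act 1 n168916 = n150198 := d15_1 F266073 (iv7 D150198) (iv2 F236363)
theorem F266075 : act 1 n150198 = n148986 := d15_1 F266074 (iv7 F238783) (iv2 F266070)
def n168918 : Q := act 4 n81026
theorem D168918 : act 4 n81026 = n168918 := rfl
theorem F266078 : act 6 n168918 = n131242 := d10_2 (iv6 F124781) D168918 F210295
def n168919 : Q := act 3 n81027
theorem D168919 : act 3 n81027 = n168919 := rfl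
theorem F266082 : act 6 n168919 = n130074 := d7_2 F185274 D168919 (iv3 D130074)
def n168991 : Q := act 5 n81059
theorem D168991 : act 5 n81059 = n168991 := rfl
theorem F266151 : act 7 n168991 = n84048 := d13_2 F261692 D168991 F261695
def n168995 : Q := act 1 n81061
theorem D168995 : act 1 n81061 = n168995 := rfl
theorem F266157 : act 4 n158370 = n168995 := d20_6 (iv4 F118012) F118019 (iv4 F27523) (iv3 F54820) D75531 D158370 (iv1 D168995) F124838 F113151 (iv1 F54751)
theorem F266159 : act 0 n152378 = n168995 := d20_1 (iv4 F239574) (iv4 F266157) (iv3 D158370) (iv1 F249526) F249519 F152249 (iv1 F152218) (iv4 F187442) (iv3 F239848) (iv1 D152636)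
theorem F266160 : act 0 n158370 = n152211 := d20_1 (iv4 F266157) F239287 F205811 F190657 D153264 F240776 F254811 (iv4 F263810) F263809 F266159
def n168996 : Q := act 2 n81061
theorem D168996 : act 2 n81061 = n168996 := rfl
theorem F266163 : act 7 n168996 = n152378 := d4_2 (iv7 F124839) D168996 F239573
def n169002 : Q := act 0 n81067
theorem D169002 : act 0 n81067 = n169002 := rfl
theorem F266174 : act 4 n169002 = n153268 := d18_3 (iv1 D81102) (iv4 F124850) D169002 F240791 (iv4 F206482) (iv0 D128359) (iv4 D60349) D60348 (iv5 F261891)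
theorem F266176 : act 5 n128270 = n169002 := d17_3 (iv1 D60292) D60293 D128270 F266174 F240791 F200496 F107729 F199872 F94837
def n169003 : Q := act 5 n81067
theorem D169003 : act 5 n81067 = n169003 := rfl
theorem F266178 : act 1 n169003 = n124768 := d17_6 (iv1 F92457) D125155 F201131 F92481 (iv4 F124850) D169003 (iv5 D124768) (iv0 F94528) F94527
def n169006 : Q := act 5 n81068
theorem D169006 : act 5 n81068 = n169006 := rfl
theorem F266181 : act 1 n169006 = n121666 := d17_8 F124867 (iv5 D81077) (iv1 F89423) (iv5 D56545) D56544 D122167 F195185 D169006 F194154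
def n169024 : Q := act 5 n81075
theorem D169024 : act 5 n81075 = n169024 := rfl
theorem F266200 : act 6 n169024 = n121058 := d12_2 F195043 D169024 F193062 D160813 F253979
theorem F266202 : act 4 n169024 = n123460 := d17_4 (iv1 F90038) D57094 F195983 D169024 (iv5 F197843) F195965 (iv5 D57172) (iv0 F90921) (iv4 F90036)
theorem F266203 : act 0 n169024 = n120279 := d18_0 (iv4 F196890) (iv1 F198537) F91630 (iv5 F120617) D82288 F196745 (iv4 D122807) F196467 D169024
def n169033 : Q := act 5 n81081
theorem D169033 : act 5 n81081 = n169033 := rfl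
def n169034 : Q := act 6 n81081
theorem D169034 : act 6 n81081 = n169034 := rfl
theorem F266217 : act 4 n169034 = n168677 := d10_1 D169034 F265668 (iv4 F194925)
theorem F266219 : act 1 n81232 = n169034 := d18_6 (iv1 F256292) F257526 (iv1 D163242) F119644 (iv5 F58035) (iv4 F125016) F266217 (iv0 F265671) (iv5 F248804)
theorem F266221 : act 0 n122214 = n169033 := d21_1 D122214 (iv5 D169033) D169034 (iv1 F266219) (iv6 D81232) D81231 (iv1 F125036) (iv5 D81238) (iv6 F113146) F118560
def n169047 : Q := act 3 n81097
theorem D169047 : act 3 n81097 = n169047 := rfl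
theorem F266234 : act 6 n169047 = n131404 := d7_2 (iv6 F191044) D169047 (iv3 F210624)
theorem F266235 : act 7 n169047 = n150224 := d8_2 (iv7 F191040) D169047 (iv3 F236419)
theorem F266236 : act 4 n169047 = n152083 := d20_6 D33967 (iv1 F57993) (iv4 D37056) (iv3 F57988) D81097 D169047 (iv1 D152083) (iv4 D71698) F52374 F25901
theorem F266237 : act 3 n107905 = n152083 := d5_5 (iv4 F266236) (iv3 D169047) (iv4 F191046) F98005 (iv4 F166741)
theorem F266238 : act 6 n152083 = n107903 := d7_2 D107905 F266237 (iv3 D107903)
def n169048 : Q := act 3 n81101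
theorem D169048 : act 3 n81101 = n169048 := rfl
theorem F266241 : act 5 n169048 = n128352 := d6_2 (iv5 F201164) D169048 (iv3 D128352)
theorem F266242 : act 7 n169048 = n150258 := d8_2 (iv7 F234254) D169048 F236460
theorem F266243 : act 1 n150228 = n169048 := d15_1 (iv0 F239707) F266242 F236459
def n169049 : Q := act 4 n81101
theorem D169049 : act 4 n81101 = n169049 := rfl
theorem F266245 : act 1 n169049 = n127910 := d18_6 (iv1 D71248) (iv4 F107746) F237369 (iv4 D128353) (iv5 F201164) D169049 F205821 F237874 (iv5 D151177)
def n169050 : Q := act 4 n81102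
theorem D169050 : act 4 n81102 = n169050 := rfl
theorem F266247 : act 6 n169050 = n127874 := d10_2 (iv6 F261892) D169050 (iv4 D127874)
theorem F266248 : act 0 n169050 = n127910 := d20_7 F235842 (iv1 D149936) F106957 (iv3 F106942) F235570 (iv3 F261890) D169050 F205821 (iv3 F191101) (iv1 F110388)
def n169051 : Q := act 0 n81103
theorem D169051 : act 0 n81103 = n169051 := rfl
theorem F266249 : act 1 n150343 = n169051 := d15_0 (iv0 D169051) F124896 D150343
theorem F266250 : act 4 n108302 = n169051 := d20_6 (iv4 F100954) (iv1 F130304) (iv4 D68407) D68406 (iv1 F243169) (iv3 F167463) (iv1 F266249) F243290 (iv3 D74844) (iv1 F54418)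
theorem F266252 : act 6 n169051 = n108301 := d10_2 D108302 F266250 (iv4 D108301)
theorem E24269 : n117602 = n117574 := ((c18_2 (iv1 F184063) D117574 (iv1 D117602) (iv4 F184198) F184199 F266250 (iv0 D169051) (iv4 F243041) F189758 F189757)).symm
theorem F266253 : act 0 n117574 = n54178 := (sb E24269 (iv1 D117602))
def n169110 : Q := act 3 n81124
theorem D169110 : act 3 n81124 = n169110 := rfl
theorem F266298 : act 4 n169110 = n158293 := d5_2 F124920 D169110 F249381 F113232 (iv3 F113147)
theorem F266300 : act 7 n169110 = n158250 := d8_2 (iv7 F124919) D169110 (iv3 D158250)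
def n169295 : Q := act 0 n81177
theorem D169295 : act 0 n81177 = n169295 := rfl
theorem F266403 : act 4 n169295 = n81407 := d20_2 (iv4 F124954) D169295 (iv3 D81407) (iv1 F90218) F90214 (iv4 F127572) (iv1 F127575) F141777 (iv3 F141778) (iv1 D81179)
def n169299 : Q := act 4 n81178
theorem D169299 : act 4 n81178 = n169299 := rfl
theorem F266418 : act 2 n169299 = n81194 := d1_1 D169299 (iv4 D81194) (iv2 F124958)
theorem F266419 : act 7 n169299 = n81197 := d11_2 F124956 D169299 (iv4 D81197)
theorem F266420 : act 0 n86435 = n169299 := d20_1 (iv4 F132530) (iv4 D169299) (iv3 F149483) (iv1 F126651) (iv3 F196790) (iv4 F196987) (iv1 F196989) (iv4 D122953) (iv3 F194979) (iv1 D87526)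
def n169300 : Q := act 4 n81179
theorem D169300 : act 4 n81179 = n169300 := rfl
theorem F266421 : act 2 n169300 = n81197 := d1_1 D169300 (iv4 D81197) (iv2 F124964)
theorem F266424 : act 0 n169300 = n86435 := d20_1 D169300 F132530 F61845 F126140 (iv3 D37166) (iv4 F92686) (iv1 F58062) F58025 (iv3 F58019) (iv1 F124960)
def n169311 : Q := act 3 n81184
theorem D169311 : act 3 n81184 = n169311 := rfl
def n169342 : Q := act 3 n81198
theorem D169342 : act 3 n81198 = n169342 := rfl
theorem F266471 : act 7 n169342 = n81204 := d8_2 F124988 D169342 (iv3 D81204)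
theorem F266472 : act 2 n169342 = n82348 := d15_3 (iv0 F195113) (iv0 F196159) (iv7 F266471)
theorem F266473 : act 2 n122542 = n81199 := d0_3 D169342 F266472 (iv3 F196190) (iv3 D81199) D81198
theorem F266476 : act 7 n122542 = n122542 := d15_2 F196198 F196195 F266473
theorem F266477 : act 7 n81199 = n81199 := d4_0 (iv2 F266473) F266476 F266473
theorem F266487 : act 7 n81258 = n81258 := d13_2 F266477 (iv5 F195410) F195410
theorem F266489 : act 7 n81301 = n81301 := d11_2 F266487 F125115 (iv4 F125115)
theorem F266490 : act 2 n81301 = n81300 := d15_3 (iv0 D81300) D81301 F266489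
theorem F266491 : act 7 n81300 = n81300 := d4_2 F266489 F266490 (iv2 F266490)
theorem F266492 : act 7 n168684 = n168684 := d8_2 F266491 (iv3 F265674) F265674
theorem E24277 : n168678 = n80920 := (c11_3 F266492 (iv4 D168684) F265672 D168684)
theorem E24278 : n168683 = n80919 := (((iv2 F265673)).symm.trans (sb E24277 (iv2 D168678)))
theorem F266494 : act 2 n80919 = n80920 := (sb E24278 F265673)
theorem F266503 : act 2 n168684 = n168680 := d1_3 (iv4 D168680) F266494 D168684
def n169470 : Q := act 5 n81250
theorem D169470 : act 5 n81250 = n169470 := rfl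
theorem F266668 : act 3 n169470 = n81252 := d6_1 D169470 (iv5 D81252) D81250
theorem F266669 : act 7 n169470 = n160813 := d13_2 F195039 D169470 F253979
theorem F266672 : act 2 n169470 = n162094 := d15_3 (iv0 D162094) (iv0 F256032) (iv7 F266669)
theorem F266673 : act 3 n162094 = n97555 := d0_2 (iv3 F266668) F266672 (iv2 F150437) (iv3 F194175) F194174
def n169519 : Q := act 4 n81273
theorem D169519 : act 4 n81273 = n169519 := rfl
theorem F266740 : act 5 n169519 = n163383 := d16_1 D169519 (iv4 D163383) F119696 F115660 F55883 (iv4 F92682) D81275 F125078 (iv2 F125074)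
def n169557 : Q := act 3 n81288
theorem D169557 : act 3 n81288 = n169557 := rfl
theorem F266832 : act 7 n169557 = n81294 := d8_2 F125107 D169557 (iv3 D81294)
theorem F266833 : act 2 n169557 = n122261 := d15_3 F195395 (iv0 F196171) (iv7 F266832)
theorem F266834 : act 2 n81364 = n81289 := d0_3 D169557 F266833 (iv3 F195392) (iv3 D81289) D81288
theorem F266839 : act 7 n81364 = n81364 := d15_2 (iv0 F126710) F196166 F266834
theorem F266840 : act 7 n81289 = n81289 := d4_0 (iv2 F266834) F266839 F266834
theorem E24281 : n81293 = n37133 := (c8_3 F266840 (iv3 D81289) D81293 D81289)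
theorem E24284 : n81288 = n37134 := ((D81288).symm.trans (sb E24281 F125109))
theorem F266843 : act 7 n37134 = n37134 := (sb E24284 (iv7 F125107))
theorem F266884 : act 7 n81295 = n81295 := d11_2 F266843 D81295 (iv4 D81295)
theorem F266885 : act 7 n82841 = n82841 := d8_2 F266884 (iv3 F127598) F127598
theorem F266886 : act 2 n81295 = n81290 := d15_3 F195135 (iv0 F196173) F266884
theorem F266888 : act 2 n82841 = n82842 := d15_3 F127601 F127600 F266885
def n169559 : Q := act 3 n81290
theorem D169559 : act 3 n81290 = n169559 := rfl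
theorem F266898 : act 4 n169559 = n169311 := d5_2 D81290 D169559 (iv3 D169311) (iv4 F125108) (iv3 D81289)
def n169561 : Q := act 6 n81290
theorem D169561 : act 6 n81290 = n169561 := rfl
def n169567 : Q := act 5 n81295
theorem D169567 : act 5 n81295 = n169567 := rfl
def n169568 : Q := act 6 n81295
theorem D169568 : act 6 n81295 = n169568 := rfl
theorem F266906 : act 2 n169568 = n169561 := d3_1 D169568 (iv6 D169561) (iv2 F266886)
theorem F266907 : act 4 n169568 = n81297 := d10_1 D169568 (iv6 D81297) D81295
def n169632 : Q := act 5 n81324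
theorem D169632 : act 5 n81324 = n169632 := rfl
theorem F266992 : act 1 n169632 = n81326 := d17_6 F196197 F195450 D82369 F196191 F196189 D169632 (iv5 D81326) D81325 (iv4 F125135)
def n169739 : Q := act 1 n81382
theorem D169739 : act 1 n81382 = n169739 := rfl
def n169748 : Q := act 6 n81387
theorem D169748 : act 6 n81387 = n169748 := rfl
theorem F267139 : act 0 n169748 = n84298 := d21_4 F32270 D37163 D81387 D169748 F129371 D158080 F250108 F250105 (iv6 D92188) (iv1 D43104)
theorem F267140 : act 0 n84293 = n169748 := d21_4 D78847 (iv1 F255012) F255013 (iv6 F129365) (iv6 D169748) (iv5 D81387) (iv1 F58918) (iv5 F112875) (iv6 F119996) (iv1 F119997)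
def n169751 : Q := act 4 n81392
theorem D169751 : act 4 n81392 = n169751 := rfl
theorem F267141 : act 2 n169751 = n158846 := d1_1 D169751 F250102 (iv2 F125856)
theorem F267142 : act 6 n169751 = n98211 := d10_2 (iv6 F125195) D169751 F151548
def n169773 : Q := act 5 n81407
theorem D169773 : act 5 n81407 = n169773 := rfl
theorem F267156 : act 7 n169773 = n160376 := d13_2 F194980 D169773 F253329
theorem F267157 : act 4 n169773 = n166099 := d18_5 (iv1 D81179) (iv4 F124954) D169295 F266403 D169773 F261510 F257370 F122430 F124962
def n169774 : Q := act 6 n81407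
theorem D169774 : act 6 n81407 = n169774 := rfl
theorem F267160 : act 5 n169774 = n163947 := d21_6 (iv5 D19169) (iv1 F14115) D19222 D40741 (iv1 F194977) D169774 (iv1 F258407) F132073 (iv6 D40740) F30872
def n169778 : Q := act 4 n81409
theorem D169778 : act 4 n81409 = n169778 := rfl
theorem F267166 : act 1 n169778 = n123334 := d18_6 F150444 (iv4 F90225) F194987 (iv4 D81408) D81409 D169778 (iv4 F256186) (iv0 F263143) F263142
def n169779 : Q := act 6 n81409
theorem D169779 : act 6 n81409 = n169779 := rfl
theorem F267169 : act 7 n169779 = n124191 := d14_2 (iv7 F125208) D169779 F198662 F124405 D76882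
theorem F267170 : act 0 n169779 = n124273 := d21_4 (iv5 F29048) D37174 D81409 D169779 F198769 D160427 F253413 F253337 (iv6 D78788) (iv1 D35868)
theorem F267171 : act 0 n124268 = n169779 := d21_4 D121284 (iv1 F254955) (iv5 F254959) (iv6 F198763) (iv6 D169779) (iv5 D81409) (iv1 F90218) (iv5 F119931) (iv6 F193367) (iv1 F193368)
def n169780 : Q := act 5 n81411
theorem D169780 : act 5 n81411 = n169780 := rfl
theorem F267174 : act 4 n169780 = n165562 := d18_5 (iv1 F57888) (iv4 F124630) (iv1 F124653) F125214 D169780 (iv0 D165562) F122099 D79513 (iv5 F122111)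
theorem F267176 : act 0 n84731 = n169780 := d21_10 (iv5 D169780) (iv1 F149431) F89364 (iv6 D35552) (iv1 F54705) (iv6 F90627) (iv5 D57444) F120713 D39142 D84731
def n169786 : Q := act 4 n81417
theorem D169786 : act 4 n81417 = n169786 := rfl
theorem F267184 : act 0 n124449 = n169786 := d20_7 (iv4 F60189) F114163 F114162 D79794 F126027 (iv3 F255365) F255366 (iv4 D169786) F125221 F58127
def n169788 : Q := act 4 n81427
theorem D169788 : act 4 n81427 = n169788 := rfl
theorem F267186 : act 2 n169788 = n164604 := d1_1 D169788 (iv4 D164604) (iv2 F128748)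
theorem F267187 : act 3 n169788 = n98284 := d5_1 D169788 (iv4 D98284) F91685 (iv4 F91684) (iv3 F125264)
theorem F267188 : act 7 n169788 = n128164 := d11_2 F146790 D169788 F206302
theorem F267189 : act 0 n169788 = n165179 := d17_0 F260435 (iv1 F235314) (iv5 F249264) F249263 F151565 F252760 F252758 F146794 D169788
theorem F267191 : act 1 n169788 = n128053 := d18_8 (iv1 D149670) F106741 D70307 (iv4 F178512) F178513 (iv4 F146792) F146794 D169788 (iv5 F235316)
def n169789 : Q := act 5 n81427
theorem D169789 : act 5 n81427 = n169789 := rfl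
theorem F267193 : act 3 n169789 = n95877 := d6_1 D169789 F147548 (iv3 F125264)
theorem F267196 : act 0 n81442 = n169789 := d19_0 (iv5 D169789) D169788 F267187 F151699 (iv5 F108407) (iv4 F115143) (iv3 D76756) (iv1 D35082) (iv5 D17032) F27770 (iv3 F27769) (iv1 F27695) F27692 (iv4 F16425) (iv3 D10325) D10323 (iv5 F33700) (iv4 F58157) D81442
def n169791 : Q := act 5 n81428
theorem D169791 : act 5 n81428 = n169791 := rfl
theorem F267199 : act 3 n169791 = n122836 := d6_1 D169791 F196820 F128750
theorem F267202 : act 0 n169791 = n81442 := d17_2 (iv1 F146795) D169791 F125278 F58214 D77085 (iv0 F205816) F205815 (iv0 F132282) (iv4 F146792)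
theorem F267203 : act 0 n160215 = n169791 := d19_0 (iv5 D169791) (iv4 F128107) (iv3 D83097) (iv1 F110313) F110310 (iv4 D35919) (iv3 F56588) F56590 (iv5 D23875) (iv4 D11185) D11184 F25656 (iv5 F25798) F25797 D33593 D72844 D153929 F241942 D160215
def n169794 : Q := act 0 n81430
theorem D169794 : act 0 n81430 = n169794 := rfl
theorem F267207 : act 5 n169794 = n95228 := d17_3 (iv1 D81428) D81430 D169794 (iv4 F235325) (iv5 D149672) D149670 F235316 (iv0 F206065) F128107
theorem F267208 : act 4 n169794 = n160621 := d18_1 D169794 (iv1 F253724) F178891 (iv5 F148149) (iv4 F260434) (iv0 F267189) (iv4 D169788) (iv0 D81427) D81430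
theorem F267209 : act 3 n169794 = n99606 := d20_5 F29098 D21251 (iv4 F58147) (iv3 F125266) D169794 F153361 (iv1 D47809) (iv4 F36285) (iv3 D23177) (iv1 F29100)
def n169795 : Q := act 4 n81430
theorem D169795 : act 4 n81430 = n169795 := rfl
theorem F267213 : act 2 n169795 = n149623 := d1_1 D169795 (iv4 F235220) F235193
theorem F267214 : act 3 n169795 = n95585 := d5_1 D169795 (iv4 D95585) (iv3 D44644) (iv4 F58147) (iv3 F125266)
theorem F267215 : act 7 n169795 = n149622 := d11_2 F125482 D169795 F235216
theorem F267216 : act 5 n169795 = n149972 := d16_1 D169795 (iv4 D149972) F148044 (iv4 F178512) F178513 (iv4 F146792) (iv5 F252758) F252759 F235193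
theorem F267217 : act 0 n169795 = n149620 := d17_0 (iv5 F235213) F206065 (iv5 F235316) (iv4 F235315) F235110 F146759 (iv5 F267207) (iv0 D169794) D169795
theorem F267218 : act 1 n169795 = n118027 := d18_6 (iv1 D70427) (iv4 F94752) F94753 F60773 D81430 D169795 (iv4 D118027) D118026 (iv5 F185399)
def n169796 : Q := act 6 n81430
theorem D169796 : act 6 n81430 = n169796 := rfl
def n169797 : Q := act 0 n81431
theorem D169797 : act 0 n81431 = n169797 := rfl
def n169798 : Q := act 1 n81431
theorem D169798 : act 1 n81431 = n169798 := rfl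
def n169800 : Q := act 0 n81432
theorem D169800 : act 0 n81432 = n169800 := rfl
def n169802 : Q := act 5 n81432
theorem D169802 : act 5 n81432 = n169802 := rfl
theorem F267221 : act 6 n169802 = n81433 := d12_2 D81432 D169802 (iv5 D81433) (iv6 D37189) D37188
def n169803 : Q := act 7 n81432
theorem D169803 : act 7 n81432 = n169803 := rfl
def n169804 : Q := act 0 n81433
theorem D169804 : act 0 n81433 = n169804 := rfl
def n169805 : Q := act 4 n81433
theorem D169805 : act 4 n81433 = n169805 := rfl
theorem F267224 : act 0 n169805 = n124553 := d18_2 F125683 D169805 (iv4 D124553) F151616 (iv4 F151613) F151619 (iv4 F125540) (iv0 F125541) D81768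
theorem F267225 : act 1 n169805 = n124556 := d18_6 (iv1 F91913) (iv4 F56812) (iv1 F120826) (iv4 F58150) D81433 D169805 (iv4 D124556) F199164 F199163
def n169806 : Q := act 0 n81434
theorem D169806 : act 0 n81434 = n169806 := rfl
def n169807 : Q := act 1 n81434
theorem D169807 : act 1 n81434 = n169807 := rfl
def n169808 : Q := act 5 n81434
theorem D169808 : act 5 n81434 = n169808 := rfl
theorem F267226 : act 6 n169808 = n81435 := d12_2 D81434 D169808 (iv5 D81435) (iv6 D37191) D37190
def n169809 : Q := act 7 n81434
theorem D169809 : act 7 n81434 = n169809 := rfl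
theorem F267227 : act 4 n169809 = n95596 := d11_1 D169809 (iv7 D95596) (iv4 F125269)
def n169810 : Q := act 0 n81435
theorem D169810 : act 0 n81435 = n169810 := rfl
theorem F267228 : act 5 n169810 = n84520 := d17_3 (iv1 F121222) D81435 D169810 (iv4 D84520) (iv5 D38987) (iv0 D18503) (iv5 D8696) D8695 D18500
theorem F267229 : act 7 n96839 = n169810 := d13_0 F267228 F129678 D96839
theorem F267230 : act 1 n84468 = n169810 := d17_6 F152324 F124547 F146804 F146803 F121259 D84468 F267228 (iv0 F150364) F125490
theorem F267231 : act 4 n84459 = n169810 := d18_3 (iv1 D38939) D38940 D84459 F267228 (iv4 D84520) F116997 (iv4 F87940) (iv0 F124536) F124535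
def n169811 : Q := act 1 n81435
theorem D169811 : act 1 n81435 = n169811 := rfl
theorem F267232 : act 1 n169811 = n84468 := d15_1 D169811 (iv7 F146800) F146799
theorem F267233 : act 5 n84527 = n169811 := d21_6 D17887 D37194 F58156 D37265 F120772 (iv6 F129690) (iv1 D169811) (iv5 D81435) (iv6 D37191) (iv1 D17885)
theorem F267234 : act 2 n169811 = n96839 := d2_1 F267233 (iv5 D96839) (iv2 F129689)
theorem F267235 : act 4 n84460 = n169811 := d18_7 (iv1 F59989) (iv4 D18500) (iv1 D8695) (iv4 F13614) D18491 D38940 D84460 F267232 (iv5 D84468)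
theorem F267236 : act 3 n163215 = n169811 := d20_5 F106909 (iv1 D35745) D35746 D78446 D163215 (iv4 F267235) (iv1 D84460) (iv4 D38940) (iv3 F51766) D70447
def n169812 : Q := act 4 n81435
theorem D169812 : act 4 n81435 = n169812 := rfl
def n169813 : Q := act 7 n81435
theorem D169813 : act 7 n81435 = n169813 := rfl
theorem F267237 : act 2 n169813 = n84468 := d4_1 D169813 (iv7 F146800) F146799
theorem F267238 : act 5 n169813 = n81436 := d13_1 D169813 (iv7 D81436) D81435
theorem F267239 : act 1 n96839 = n169813 := d15_1 (iv0 F149306) (iv7 D169813) (iv2 F146799)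
def n169814 : Q := act 0 n81437
theorem D169814 : act 0 n81437 = n169814 := rfl
theorem F267240 : act 4 n169814 = n83675 := d20_8 F113383 (iv1 F64190) D46071 D98540 (iv1 F151932) (iv3 F187163) F187164 D169814 F184738 (iv1 F113387)
theorem F267241 : act 3 n101494 = n169814 := d5_5 F267240 F184738 (iv4 F184683) D47223 D101494
theorem F267242 : act 7 n81439 = n169814 := d11_0 F267240 F188253 F188252
theorem F267243 : act 0 n169814 = n81441 := d20_1 (iv4 F267240) (iv4 F187458) F187457 F125945 (iv3 D33945) (iv4 D16409) F130762 (iv4 F52412) (iv3 F59400) D83675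
theorem F267244 : act 2 n169814 = n81438 := d15_3 (iv0 D81438) D81439 F267242
theorem F267245 : act 4 n81438 = n119467 := d1_2 (iv4 F267240) F267244 (iv2 F188254)
def n169815 : Q := act 1 n81437
theorem D169815 : act 1 n81437 = n169815 := rfl
theorem F267246 : act 1 n169815 = n81441 := d15_1 D169815 (iv7 D81441) (iv2 F125274)
theorem F267247 : act 7 n169815 = n81438 := d15_2 (iv0 D169814) D169815 (iv2 F267244)
theorem F267248 : act 2 n81439 = n169815 := d4_3 F267247 (iv2 F267244) (iv7 F267242)
theorem F267249 : act 4 n83676 = n169815 := d11_3 F267247 F267245 (iv7 F188255)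
def n169816 : Q := act 5 n81437
theorem D169816 : act 5 n81437 = n169816 := rfl
theorem F267250 : act 2 n169816 = n81440 := d2_1 D169816 (iv5 D81440) (iv2 F125274)
def n169817 : Q := act 7 n81437
theorem D169817 : act 7 n81437 = n169817 := rfl
theorem F267251 : act 2 n169817 = n81441 := d4_1 D169817 (iv7 D81441) (iv2 F125274)
theorem F267252 : act 6 n169817 = n85563 := d14_1 D169817 F148878 (iv6 D96632) F71084 D81437
theorem F267253 : act 1 n81439 = n169817 := d15_1 D81439 (iv7 D169817) F125274
theorem F267254 : act 1 n169817 = n81438 := d15_1 F267253 (iv7 F267247) (iv2 F267248)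
def n169818 : Q := act 3 n81438
theorem D169818 : act 3 n81438 = n169818 := rfl
def n169819 : Q := act 5 n81438
theorem D169819 : act 5 n81438 = n169819 := rfl
def n169820 : Q := act 6 n81438
theorem D169820 : act 6 n81438 = n169820 := rfl
def n169821 : Q := act 3 n81439
theorem D169821 : act 3 n81439 = n169821 := rfl
theorem F267255 : act 4 n169821 = n89183 := d5_2 F188252 D169821 (iv3 D89183) (iv4 F184696) (iv3 F188251)
theorem F267256 : act 7 n169821 = n101494 := d8_2 (iv7 F267242) D169821 F267241
def n169822 : Q := act 5 n81439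
theorem D169822 : act 5 n81439 = n169822 := rfl
def n169823 : Q := act 6 n81439
theorem D169823 : act 6 n81439 = n169823 := rfl
def n169824 : Q := act 0 n81440
theorem D169824 : act 0 n81440 = n169824 := rfl
def n169825 : Q := act 1 n81440
theorem D169825 : act 1 n81440 = n169825 := rfl
def n169826 : Q := act 4 n81440
theorem D169826 : act 4 n81440 = n169826 := rfl
def n169827 : Q := act 7 n81440
theorem D169827 : act 7 n81440 = n169827 := rfl
theorem F267258 : act 5 n169827 = n81441 := d13_1 D169827 (iv7 D81441) D81440
def n169828 : Q := act 4 n81442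
theorem D169828 : act 4 n81442 = n169828 := rfl
theorem F267260 : act 3 n169828 = n95832 := d5_1 D169828 F147519 (iv3 D44934) (iv4 F58157) D81442
theorem F267261 : act 7 n169828 = n149669 := d11_2 F134286 D169828 F235312
theorem F267262 : act 5 n169828 = n149828 := d16_1 D169828 (iv4 D149828) F185392 (iv4 F251212) F251213 (iv4 F146761) (iv5 F252942) F252943 F235109
theorem F267264 : act 1 n169828 = n118050 := d18_6 (iv1 D70894) (iv4 F94611) F94612 (iv4 F58214) (iv5 F125278) D169828 F185444 D118056 (iv5 F185460)
def n169830 : Q := act 0 n81443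
theorem D169830 : act 0 n81443 = n169830 := rfl
def n169832 : Q := act 5 n81443
theorem D169832 : act 5 n81443 = n169832 := rfl
theorem F267266 : act 6 n169832 = n81572 := d12_2 D81443 D169832 (iv5 D81572) (iv6 D37265) (iv5 F58156)
def n169833 : Q := act 7 n81443
theorem D169833 : act 7 n81443 = n169833 := rfl
def n169834 : Q := act 0 n81444
theorem D169834 : act 0 n81444 = n169834 := rfl
def n169835 : Q := act 1 n81444
theorem D169835 : act 1 n81444 = n169835 := rfl
def n169836 : Q := act 5 n81444
theorem D169836 : act 5 n81444 = n169836 := rfl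
def n169837 : Q := act 7 n81444
theorem D169837 : act 7 n81444 = n169837 := rfl
theorem F267269 : act 4 n169837 = n96249 := d11_1 D169837 (iv7 D96249) (iv4 F125280)
def n169845 : Q := act 4 n81446
theorem D169845 : act 4 n81446 = n169845 := rfl
theorem F267272 : act 3 n169845 = n96359 := d20_3 (iv4 F148972) (iv1 F148975) D169845 (iv1 D96359) F70756 (iv4 F70573) D96193 (iv4 F259560) (iv3 D95860) (iv1 F71675)
def n169850 : Q := act 4 n81447
theorem D169850 : act 4 n81447 = n169850 := rfl
theorem F267273 : act 6 n169850 = n81461 := d10_2 (iv6 F125281) D169850 (iv4 D81461)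
def n169854 : Q := act 2 n81450
theorem D169854 : act 2 n81450 = n169854 := rfl
theorem F267275 : act 3 n169854 = n164585 := d0_2 D81450 D169854 (iv2 F259481) (iv3 D95245) (iv2 F126072)
def n169857 : Q := act 1 n81452
theorem D169857 : act 1 n81452 = n169857 := rfl
theorem F267278 : act 1 n169857 = n81457 := d15_1 D169857 (iv7 F146814) F146813
theorem F267280 : act 5 n169857 = n159076 := d17_7 (iv1 F250477) F250475 (iv1 D96317) (iv5 D44971) F126089 D81452 D169857 F250440 F146879
def n169860 : Q := act 7 n81453
theorem D169860 : act 7 n81453 = n169860 := rfl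
theorem F267283 : act 4 n169860 = n96322 := d11_1 D169860 (iv7 D96322) (iv4 F126153)
theorem F267284 : act 5 n169860 = n96697 := d13_1 D169860 (iv7 F149048) (iv5 F125542)
theorem F267285 : act 1 n84507 = n169860 := d15_1 (iv0 F149045) (iv7 D169860) (iv2 F146815)
theorem F267286 : act 1 n169860 = n84361 := d15_1 F267285 F129442 (iv2 F129634)
def n169864 : Q := act 6 n81455
theorem D169864 : act 6 n81455 = n169864 := rfl
theorem F267296 : act 3 n169864 = n81458 := d7_1 D169864 (iv6 D81458) D81455
def n169865 : Q := act 4 n81457
theorem D169865 : act 4 n81457 = n169865 := rfl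
def n169869 : Q := act 4 n81459
theorem D169869 : act 4 n81459 = n169869 := rfl
theorem F267301 : act 1 n169869 = n96314 := d18_6 F131329 (iv4 F125651) (iv1 F148238) (iv4 F250500) F250499 D169869 (iv4 D96314) D96313 (iv5 F148183)
def n169872 : Q := act 4 n81460
theorem D169872 : act 4 n81460 = n169872 := rfl
theorem F267302 : act 0 n169872 = n96314 := d18_2 (iv1 F148984) D169872 (iv4 D96314) (iv5 D44966) F33747 D21473 (iv4 F126019) F71143 (iv5 F148983)
def n169874 : Q := act 0 n81461
theorem D169874 : act 0 n81461 = n169874 := rfl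
theorem F267303 : act 4 n169874 = n84384 := d18_3 (iv1 D81460) D81461 D169874 (iv5 F250428) F250427 F113880 D76018 F149154 F149151
def n169875 : Q := act 3 n81461
theorem D169875 : act 3 n81461 = n169875 := rfl
def n169876 : Q := act 5 n81461
theorem D169876 : act 5 n81461 = n169876 := rfl
def n169877 : Q := act 7 n81461
theorem D169877 : act 7 n81461 = n169877 := rfl
theorem F267304 : act 4 n169877 = n81462 := d11_1 D169877 (iv7 D81462) D81461
def n169879 : Q := act 0 n81476
theorem D169879 : act 0 n81476 = n169879 := rfl
def n169881 : Q := act 5 n81476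
theorem D169881 : act 5 n81476 = n169881 := rfl
theorem F267306 : act 3 n169881 = n81477 := d6_1 D169881 (iv5 D81477) D81476
def n169882 : Q := act 6 n81476
theorem D169882 : act 6 n81476 = n169882 := rfl
theorem F267307 : act 3 n169882 = n81478 := d7_1 D169882 (iv6 D81478) D81476
def n169883 : Q := act 4 n81477
theorem D169883 : act 4 n81477 = n169883 := rfl
theorem F267308 : act 2 n169883 = n86024 := d1_1 D169883 (iv4 D86024) (iv2 F126189)
def n169884 : Q := act 6 n81477
theorem D169884 : act 6 n81477 = n169884 := rfl
theorem F267309 : act 2 n169884 = n86025 := d3_1 D169884 (iv6 D86025) (iv2 F126189)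
def n169885 : Q := act 7 n81478
theorem D169885 : act 7 n81478 = n169885 := rfl
theorem F267312 : act 5 n169885 = n96749 := d13_1 D169885 F149210 (iv5 F126185)
theorem F267313 : act 6 n169885 = n165495 := d14_1 D169885 F260714 (iv6 D96311) (iv7 F126009) D81478
theorem F267314 : act 1 n84451 = n169885 := d15_1 (iv0 F131962) (iv7 D169885) F126187
theorem F267315 : act 1 n169885 = n84351 := d15_1 F267314 (iv7 F201400) F201398
def n169886 : Q := act 3 n81480
theorem D169886 : act 3 n81480 = n169886 := rfl
def n169887 : Q := act 5 n81480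
theorem D169887 : act 5 n81480 = n169887 := rfl
theorem F267316 : act 2 n169887 = n86032 := d2_1 D169887 (iv5 D86032) (iv2 F126188)
theorem F267317 : act 1 n169887 = n95267 := d17_6 (iv1 F116795) (iv5 D17891) D17889 D37204 D81480 D169887 (iv5 D95267) F126195 (iv4 D58691)
def n169888 : Q := act 6 n81480
theorem D169888 : act 6 n81480 = n169888 := rfl
theorem F267318 : act 2 n169888 = n86033 := d3_1 D169888 (iv6 D86033) (iv2 F126188)
theorem F267319 : act 4 n169888 = n81481 := d10_1 D169888 (iv6 D81481) D81480
def n169889 : Q := act 3 n81495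
theorem D169889 : act 3 n81495 = n169889 := rfl
def n169890 : Q := act 5 n81495
theorem D169890 : act 5 n81495 = n169890 := rfl
theorem F267320 : act 2 n169890 = n86065 := d2_1 D169890 (iv5 D86065) (iv2 F125346)
def n169891 : Q := act 6 n81495
theorem D169891 : act 6 n81495 = n169891 := rfl
theorem F267321 : act 2 n169891 = n86066 := d3_1 D169891 (iv6 D86066) (iv2 F125346)
theorem F267322 : act 4 n169891 = n81496 := d10_1 D169891 (iv6 D81496) D81495
def n169893 : Q := act 5 n81497
theorem D169893 : act 5 n81497 = n169893 := rfl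
def n169896 : Q := act 5 n81498
theorem D169896 : act 5 n81498 = n169896 := rfl
def n169897 : Q := act 0 n81499
theorem D169897 : act 0 n81499 = n169897 := rfl
def n169898 : Q := act 1 n81499
theorem D169898 : act 1 n81499 = n169898 := rfl
def n169899 : Q := act 2 n81499
theorem D169899 : act 2 n81499 = n169899 := rfl
theorem F267324 : act 4 n169899 = n162375 := d1_2 (iv4 F125350) D169899 F256503
theorem F267325 : act 6 n169899 = n81511 := d3_2 (iv6 F125351) D169899 (iv2 D81511)
def n169900 : Q := act 5 n81499
theorem D169900 : act 5 n81499 = n169900 := rfl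
theorem F267326 : act 3 n169900 = n81500 := d6_1 D169900 (iv5 D81500) D81499
def n169901 : Q := act 7 n81499
theorem D169901 : act 7 n81499 = n169901 := rfl
theorem F267327 : act 3 n169901 = n81501 := d8_1 D169901 (iv7 D81501) D81499
theorem F267328 : act 4 n169901 = n162383 := d11_1 D169901 (iv7 D162383) (iv4 F125350)
def n169902 : Q := act 0 n81500
theorem D169902 : act 0 n81500 = n169902 := rfl
def n169903 : Q := act 1 n81500
theorem D169903 : act 1 n81500 = n169903 := rfl
theorem F267330 : act 5 n169903 = n96325 := d17_7 F126044 (iv5 D27899) (iv1 F126005) D17891 D37213 D81500 D169903 F148228 (iv4 D81797)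
def n169904 : Q := act 4 n81500
theorem D169904 : act 4 n81500 = n169904 := rfl
def n169905 : Q := act 6 n81500
theorem D169905 : act 6 n81500 = n169905 := rfl
theorem F267331 : act 5 n169905 = n81515 := d12_1 D169905 (iv6 D81515) (iv5 D37219) (iv6 F58166) D81500
def n169906 : Q := act 7 n81500
theorem D169906 : act 7 n81500 = n169906 := rfl
theorem F267332 : act 5 n169906 = n81501 := d13_1 D169906 (iv7 D81501) D81500
def n169907 : Q := act 0 n81502
theorem D169907 : act 0 n81502 = n169907 := rfl
def n169908 : Q := act 1 n81502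
theorem D169908 : act 1 n81502 = n169908 := rfl
def n169909 : Q := act 2 n81502
theorem D169909 : act 2 n81502 = n169909 := rfl
theorem F267333 : act 3 n169909 = n86139 := d0_2 D81502 D169909 (iv2 D86139) (iv3 D39871) (iv2 F58168)
theorem F267334 : act 4 n169909 = n157861 := d1_2 (iv4 F125353) D169909 (iv2 D157861)
def n169910 : Q := act 0 n81503
theorem D169910 : act 0 n81503 = n169910 := rfl
def n169911 : Q := act 1 n81503
theorem D169911 : act 1 n81503 = n169911 := rfl
def n169912 : Q := act 2 n81503
theorem D169912 : act 2 n81503 = n169912 := rfl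
theorem F267335 : act 4 n169912 = n160643 := d1_2 (iv4 F125354) D169912 (iv2 D160643)
def n169913 : Q := act 5 n81503
theorem D169913 : act 5 n81503 = n169913 := rfl
theorem F267336 : act 3 n169913 = n81504 := d6_1 D169913 (iv5 D81504) D81503
def n169914 : Q := act 6 n81503
theorem D169914 : act 6 n81503 = n169914 := rfl
theorem F267337 : act 3 n169914 = n81505 := d7_1 D169914 (iv6 D81505) D81503
theorem F267338 : act 4 n169914 = n160638 := d10_1 D169914 F253749 (iv4 F125354)
def n169915 : Q := act 6 n81504
theorem D169915 : act 6 n81504 = n169915 := rfl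
theorem F267339 : act 4 n169915 = n96467 := d10_1 D169915 (iv6 D96467) (iv4 F125355)
def n169916 : Q := act 5 n81505
theorem D169916 : act 5 n81505 = n169916 := rfl
def n169917 : Q := act 1 n81506
theorem D169917 : act 1 n81506 = n169917 := rfl
def n169918 : Q := act 2 n81506
theorem D169918 : act 2 n81506 = n169918 := rfl
theorem F267340 : act 4 n169918 = n160434 := d1_2 (iv4 F125357) D169918 (iv2 D160434)
def n169919 : Q := act 5 n81506
theorem D169919 : act 5 n81506 = n169919 := rfl
theorem F267341 : act 3 n169919 = n81507 := d6_1 D169919 (iv5 D81507) D81506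
def n169920 : Q := act 6 n81506
theorem D169920 : act 6 n81506 = n169920 := rfl
theorem F267342 : act 3 n169920 = n81508 := d7_1 D169920 (iv6 D81508) D81506
def n169921 : Q := act 6 n81507
theorem D169921 : act 6 n81507 = n169921 := rfl
theorem F267344 : act 4 n169921 = n96459 := d10_1 D169921 (iv6 D96459) (iv4 F125358)
def n169923 : Q := act 7 n81508
theorem D169923 : act 7 n81508 = n169923 := rfl
theorem F267345 : act 4 n169923 = n96341 := d11_1 D169923 (iv7 D96341) (iv4 F125359)
def n169924 : Q := act 5 n81509
theorem D169924 : act 5 n81509 = n169924 := rfl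
theorem F267347 : act 4 n169924 = n161470 := d19_2 D81509 D169924 F255436 F116406 F88857 F43734 F21569 (iv1 F9592) (iv5 D3655) F2995 F2989 F2962 F2957 F4246 (iv3 F7511) F16845 D8441 D17894 D37218
def n169925 : Q := act 6 n81509
theorem D169925 : act 6 n81509 = n169925 := rfl
def n169927 : Q := act 5 n81510
theorem D169927 : act 5 n81510 = n169927 := rfl
theorem F267348 : act 2 n169927 = n162378 := d2_1 D169927 (iv5 F256504) (iv2 F262725)
def n169929 : Q := act 5 n81511
theorem D169929 : act 5 n81511 = n169929 := rfl
theorem F267350 : act 2 n169929 = n81512 := d2_1 D169929 (iv5 D81512) D81511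
def n169930 : Q := act 0 n81512
theorem D169930 : act 0 n81512 = n169930 := rfl
def n169931 : Q := act 1 n81512
theorem D169931 : act 1 n81512 = n169931 := rfl
def n169932 : Q := act 4 n81512
theorem D169932 : act 4 n81512 = n169932 := rfl
theorem F267352 : act 5 n166883 = n169932 := d16_1 (iv4 F262711) (iv4 D169932) (iv5 D81512) F58172 D77996 D162378 (iv5 F256504) (iv7 F262728) (iv2 F262726)
def n169933 : Q := act 6 n81512
theorem D169933 : act 6 n81512 = n169933 := rfl
theorem F267353 : act 3 n169933 = n81515 := d7_1 D169933 (iv6 D81515) (iv3 F125361)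
def n169934 : Q := act 3 n81513
theorem D169934 : act 3 n81513 = n169934 := rfl
theorem F267354 : act 5 n169934 = n96334 := d6_2 (iv5 F125362) D169934 (iv3 D96334)
def n169935 : Q := act 6 n81513
theorem D169935 : act 6 n81513 = n169935 := rfl
theorem F267355 : act 4 n169935 = n96486 := d10_1 D169935 (iv6 D96486) (iv4 F125363)
def n169936 : Q := act 3 n81514
theorem D169936 : act 3 n81514 = n169936 := rfl
theorem F267356 : act 5 n169936 = n96335 := d6_2 (iv5 F125364) D169936 (iv3 D96335)
def n169937 : Q := act 6 n81514
theorem D169937 : act 6 n81514 = n169937 := rfl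
theorem F267357 : act 4 n169937 = n96484 := d10_1 D169937 (iv6 D96484) (iv4 F125365)
def n169938 : Q := act 0 n81515
theorem D169938 : act 0 n81515 = n169938 := rfl
def n169939 : Q := act 1 n81515
theorem D169939 : act 1 n81515 = n169939 := rfl
def n169940 : Q := act 7 n81515
theorem D169940 : act 7 n81515 = n169940 := rfl
def n169942 : Q := act 3 n81517
theorem D169942 : act 3 n81517 = n169942 := rfl
theorem F267361 : act 5 n169942 = n87316 := d6_2 F152240 D169942 (iv3 F152239)
theorem F267363 : act 0 n169942 = n105960 := d20_4 (iv4 F197926) F197927 F148147 D169942 (iv3 D105960) F77299 F42224 (iv4 F30275) D40136 (iv1 F124175)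
def n169945 : Q := act 6 n81519
theorem D169945 : act 6 n81519 = n169945 := rfl
theorem F267368 : act 4 n169945 = n83149 := d10_1 D169945 (iv6 D83149) (iv4 F125370)
def n169949 : Q := act 0 n81521
theorem D169949 : act 0 n81521 = n169949 := rfl
def n169952 : Q := act 7 n81521
theorem D169952 : act 7 n81521 = n169952 := rfl
theorem F267373 : act 2 n169952 = n165248 := d4_1 D169952 (iv7 D165248) (iv2 F125390)
theorem F267376 : act 1 n165248 = n169949 := d15_0 (iv0 D169949) D169952 F267373
def n169953 : Q := act 0 n81522
theorem D169953 : act 0 n81522 = n169953 := rfl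
def n169955 : Q := act 4 n81523
theorem D169955 : act 4 n81523 = n169955 := rfl
theorem F267384 : act 2 n169955 = n120686 := d1_1 D169955 F192394 (iv2 F125392)
theorem F267385 : act 3 n169955 = n123816 := d5_1 D169955 (iv4 D123816) D123815 F198281 (iv3 F125393)
theorem F267386 : act 5 n169955 = n127880 := d9_2 D81523 D169955 F205792 F123322 F58740 (iv5 F77347) F77346 F58186 (iv4 F87993) (iv5 F128259) (iv4 D83191) F59158 F34451 D36038 (iv4 F58182)
theorem F267387 : act 7 n169955 = n120685 := d11_2 (iv7 F125394) D169955 F192392
theorem F267388 : act 0 n169955 = n120684 := d17_0 F192390 F188247 F151368 F105085 (iv5 F71214) F71219 (iv5 F88017) F125396 D169955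
theorem F267389 : act 1 n169955 = n120683 := d18_8 D128092 F206166 (iv1 F151361) F151364 (iv5 F192415) (iv4 D120703) F125396 D169955 F192388
def n169956 : Q := act 6 n81523
theorem D169956 : act 6 n81523 = n169956 := rfl
theorem F267390 : act 2 n169956 = n120705 := d3_1 D169956 (iv6 D120705) (iv2 F125392)
theorem F267391 : act 3 n169956 = n160163 := d7_1 D169956 (iv6 D160163) (iv3 F125393)
def n169957 : Q := act 0 n81524
theorem D169957 : act 0 n81524 = n169957 := rfl
theorem F267392 : act 2 n84356 = n169957 := d15_3 (iv0 D169957) F129628 (iv7 F129427)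
theorem F267393 : act 3 n169957 = n84471 := d0_2 D84356 F267392 (iv2 D84471) (iv3 D38956) (iv2 F116869)
theorem F267394 : act 7 n169957 = n84500 := d4_2 (iv7 F129427) F267392 (iv2 D84500)
theorem E24290 : n119835 = n84500 := (c15_2 (iv0 F129428) D119835 (iv7 F267394) (iv2 F267392))
theorem F267395 : act 0 n84500 = n55141 := (sb E24290 (iv1 D119835))
theorem F267396 : act 1 n84499 = n169957 := d15_1 D84499 F267394 (iv2 D84500)
theorem E24291 : n161873 = n149858 := ((c20_11 (iv4 D161873) (iv1 F255197) F255195 (iv3 F267393) (iv1 F267396) (iv3 F129625) F87232 (iv1 F42709) (iv4 F51765) D70444 D149858)).symm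
theorem F267397 : act 4 n149858 = n77744 := (sb E24291 (iv4 D161873))
def n169958 : Q := act 5 n81524
theorem D169958 : act 5 n81524 = n169958 := rfl
theorem F267398 : act 2 n169958 = n119836 := d2_1 D169958 (iv5 D119836) (iv2 F125397)
theorem F267400 : act 7 n163217 = n169958 := d4_0 F267398 F189128 D163217
theorem F267402 : act 1 n163216 = n169958 := d15_1 D163216 (iv7 F267400) (iv2 D163217)
def n169959 : Q := act 7 n81524
theorem D169959 : act 7 n81524 = n169959 := rfl
def n169960 : Q := act 1 n81525
theorem D169960 : act 1 n81525 = n169960 := rfl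
def n169961 : Q := act 5 n81525
theorem D169961 : act 5 n81525 = n169961 := rfl
theorem F267409 : act 3 n169961 = n119739 := d6_1 D169961 F188893 (iv3 F125400)
theorem F267410 : act 6 n169961 = n119737 := d12_2 D81525 D169961 (iv5 D119737) F87134 (iv5 F58186)
def n169968 : Q := act 3 n81529
theorem D169968 : act 3 n81529 = n169968 := rfl
theorem F267417 : act 2 n169968 = n164580 := d0_1 D169968 (iv3 D164580) (iv2 F199709) F201300 F201304
def n169972 : Q := act 4 n81530
theorem D169972 : act 4 n81530 = n169972 := rfl
theorem F267419 : act 3 n169972 = n85670 := d5_1 D169972 (iv4 F199820) (iv3 D79063) D79064 F199734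
def n169997 : Q := act 1 n81538
theorem D169997 : act 1 n81538 = n169997 := rfl
def n170010 : Q := act 6 n81544
theorem D170010 : act 6 n81544 = n170010 := rfl
theorem F267452 : act 3 n170010 = n81545 := d7_1 D170010 (iv6 D81545) D81544
theorem F267453 : act 4 n170010 = n120391 := d10_1 D170010 (iv6 D120391) (iv4 F125417)
def n170011 : Q := act 0 n81545
theorem D170011 : act 0 n81545 = n170011 := rfl
def n170012 : Q := act 1 n81545
theorem D170012 : act 1 n81545 = n170012 := rfl
def n170013 : Q := act 5 n81545
theorem D170013 : act 5 n81545 = n170013 := rfl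
def n170014 : Q := act 7 n81545
theorem D170014 : act 7 n81545 = n170014 := rfl
theorem F267454 : act 4 n170014 = n99554 := d11_1 D170014 (iv7 D99554) (iv4 F125418)
def n170015 : Q := act 6 n81546
theorem D170015 : act 6 n81546 = n170015 := rfl
theorem F267455 : act 3 n170015 = n81547 := d7_1 D170015 (iv6 D81547) D81546
def n170016 : Q := act 0 n81547
theorem D170016 : act 0 n81547 = n170016 := rfl
def n170017 : Q := act 1 n81547
theorem D170017 : act 1 n81547 = n170017 := rfl
def n170018 : Q := act 5 n81547
theorem D170018 : act 5 n81547 = n170018 := rfl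
def n170019 : Q := act 7 n81547
theorem D170019 : act 7 n81547 = n170019 := rfl
def n170020 : Q := act 2 n81548
theorem D170020 : act 2 n81548 = n170020 := rfl
theorem F267458 : act 7 n81549 = n170020 := d15_2 (iv0 D81548) D81549 (iv2 D170020)
def n170021 : Q := act 3 n81548
theorem D170021 : act 3 n81548 = n170021 := rfl
def n170022 : Q := act 4 n81548
theorem D170022 : act 4 n81548 = n170022 := rfl
def n170023 : Q := act 5 n81548
theorem D170023 : act 5 n81548 = n170023 := rfl
def n170024 : Q := act 6 n81548
theorem D170024 : act 6 n81548 = n170024 := rfl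
def n170025 : Q := act 7 n81548
theorem D170025 : act 7 n81548 = n170025 := rfl
theorem F267459 : act 2 n170025 = n81549 := d4_1 D170025 F267458 (iv2 D170020)
def n170026 : Q := act 3 n81549
theorem D170026 : act 3 n81549 = n170026 := rfl
def n170027 : Q := act 4 n81549
theorem D170027 : act 4 n81549 = n170027 := rfl
def n170028 : Q := act 5 n81549
theorem D170028 : act 5 n81549 = n170028 := rfl
def n170029 : Q := act 6 n81549
theorem D170029 : act 6 n81549 = n170029 := rfl
def n170030 : Q := act 0 n81550
theorem D170030 : act 0 n81550 = n170030 := rfl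
def n170031 : Q := act 1 n81550
theorem D170031 : act 1 n81550 = n170031 := rfl
def n170032 : Q := act 4 n81550
theorem D170032 : act 4 n81550 = n170032 := rfl
def n170036 : Q := act 2 n81552
theorem D170036 : act 2 n81552 = n170036 := rfl
theorem F267463 : act 3 n170036 = n81718 := d0_2 D81552 D170036 (iv2 D81718) (iv3 D37348) (iv2 F89179)
theorem F267464 : act 4 n170036 = n121903 := d1_2 (iv4 F125423) D170036 (iv2 D121903)
theorem F267465 : act 7 n170036 = n81729 := d4_2 (iv7 F125424) D170036 (iv2 D81729)
theorem F267466 : act 1 n170036 = n81727 := d15_0 (iv0 D81727) (iv7 F125424) D170036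
theorem F267468 : act 1 n81728 = n170036 := d15_1 D81728 F267465 (iv2 D81729)
def n170039 : Q := act 1 n81553
theorem D170039 : act 1 n81553 = n170039 := rfl
theorem F267474 : act 1 n170039 = n81556 := d15_1 D170039 F125435 (iv2 F125425)
theorem F267476 : act 5 n170039 = n81770 := d17_7 F147082 (iv5 D95447) (iv1 F125721) (iv5 D56334) (iv4 F58196) D81553 D170039 F125689 F118940
theorem F267477 : act 2 n81722 = n170039 := d2_3 F267476 F125685 F125642
def n170040 : Q := act 4 n81553
theorem D170040 : act 4 n81553 = n170040 := rfl
theorem F267478 : act 2 n170040 = n81723 := d1_1 D170040 (iv4 D81723) (iv2 F125425)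
theorem F267479 : act 7 n170040 = n81734 := d11_2 (iv7 F125426) D170040 (iv4 D81734)
def n170041 : Q := act 6 n81553
theorem D170041 : act 6 n81553 = n170041 := rfl
theorem F267480 : act 2 n170041 = n81724 := d3_1 D170041 (iv6 D81724) (iv2 F125425)
theorem F267481 : act 5 n170041 = n124557 := d12_1 D170041 (iv6 D124557) (iv5 F125430) (iv6 D81554) D81553
def n170042 : Q := act 0 n81555
theorem D170042 : act 0 n81555 = n170042 := rfl
theorem F267482 : act 1 n81718 = n170042 := d15_0 (iv0 D170042) F125433 D81718
def n170043 : Q := act 1 n81555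
theorem D170043 : act 1 n81555 = n170043 := rfl
def n170044 : Q := act 2 n81555
theorem D170044 : act 2 n81555 = n170044 := rfl
theorem F267484 : act 4 n170044 = n82584 := d1_2 (iv4 F125432) D170044 (iv2 D82584)
theorem F267485 : act 7 n170044 = n81718 := d4_2 (iv7 F125433) D170044 (iv2 D81718)
theorem F267486 : act 1 n170044 = n81716 := d15_0 (iv0 D81716) (iv7 F125433) D170044
theorem F267487 : act 1 n170043 = n81718 := d15_1 D170043 (iv7 F267485) (iv2 D170044)
theorem F267488 : act 1 n81717 = n170044 := d15_1 D81717 F267485 (iv2 D81718)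
def n170045 : Q := act 5 n81555
theorem D170045 : act 5 n81555 = n170045 := rfl
theorem F267489 : act 3 n170045 = n81556 := d6_1 D170045 (iv5 D81556) D81555
theorem F267490 : act 7 n170045 = n81719 := d13_2 (iv7 F125433) D170045 (iv5 D81719)
def n170046 : Q := act 4 n81556
theorem D170046 : act 4 n81556 = n170046 := rfl
theorem F267491 : act 2 n170046 = n81734 := d1_1 D170046 (iv4 D81734) (iv2 F125434)
theorem F267492 : act 7 n170046 = n81723 := d11_2 (iv7 F125435) D170046 (iv4 D81723)
def n170047 : Q := act 6 n81556
theorem D170047 : act 6 n81556 = n170047 := rfl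
def n170048 : Q := act 3 n81558
theorem D170048 : act 3 n81558 = n170048 := rfl
theorem F267494 : act 7 n170048 = n81742 := d8_2 (iv7 F125448) D170048 (iv3 D81742)
def n170049 : Q := act 4 n81558
theorem D170049 : act 4 n81558 = n170049 := rfl
theorem F267495 : act 2 n170049 = n81740 := d1_1 D170049 (iv4 D81740) (iv2 F125449)
theorem F267496 : act 7 n170049 = n81743 := d11_2 (iv7 F125448) D170049 (iv4 D81743)
theorem F267497 : act 5 n170049 = n170046 := d16_1 D170049 (iv4 D170046) (iv5 D81556) (iv4 F121332) (iv5 F129576) F129575 F125439 (iv7 F125450) (iv2 F125449)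
def n170051 : Q := act 3 n81559
theorem D170051 : act 3 n81559 = n170051 := rfl
theorem F267499 : act 5 n170051 = n84431 := d6_2 F125439 D170051 F129570
theorem F267500 : act 7 n170051 = n81739 := d8_2 F125450 D170051 (iv3 D81739)
def n170052 : Q := act 4 n81559
theorem D170052 : act 4 n81559 = n170052 := rfl
theorem F267501 : act 2 n170052 = n81743 := d1_1 D170052 (iv4 D81743) (iv2 F125440)
theorem F267503 : act 7 n170052 = n81740 := d11_2 F125450 D170052 (iv4 D81740)
def n170053 : Q := act 6 n81559
theorem D170053 : act 6 n81559 = n170053 := rfl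
theorem F267504 : act 2 n170053 = n81744 := d3_1 D170053 (iv6 D81744) (iv2 F125440)
theorem F267505 : act 5 n170053 = n84437 := d12_1 D170053 (iv6 D84437) (iv5 D38931) D38932 F125439
def n170054 : Q := act 0 n81560
theorem D170054 : act 0 n81560 = n170054 := rfl
theorem F267506 : act 1 n81749 = n170054 := d15_0 (iv0 D170054) (iv7 F125656) (iv2 F125658)
def n170055 : Q := act 1 n81560
theorem D170055 : act 1 n81560 = n170055 := rfl
theorem F267507 : act 1 n170055 = n81749 := d15_1 D170055 (iv7 D81749) (iv2 F125443)
theorem F267508 : act 4 n84479 = n170055 := d18_5 (iv1 D85650) F60445 (iv1 F116809) (iv4 F59986) D84479 F267507 F125659 F125446 F131358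
theorem F267509 : act 2 n170055 = n81746 := d1_1 F267508 (iv4 F125724) (iv2 F129608)
theorem F267510 : act 7 n170055 = n81745 := d11_2 (iv7 F129609) F267508 (iv4 F125698)
theorem F267511 : act 2 n81745 = n170054 := d15_3 (iv0 D170054) D170055 F267510
theorem F267512 : act 7 n81746 = n170054 := d4_2 (iv7 F267510) F267509 (iv2 F267511)
def n170056 : Q := act 3 n81560
theorem D170056 : act 3 n81560 = n170056 := rfl
def n170057 : Q := act 6 n81561
theorem D170057 : act 6 n81561 = n170057 := rfl
def n170058 : Q := act 5 n81562
theorem D170058 : act 5 n81562 = n170058 := rfl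
theorem F267514 : act 2 n170058 = n81757 := d2_1 D170058 (iv5 D81757) F125454
theorem F267515 : act 7 n170058 = n81574 := d13_2 (iv7 F125456) D170058 (iv5 D81574)
theorem F267516 : act 0 n170058 = n84479 := d17_2 D81562 D170058 (iv5 D84479) F59986 F29682 F29075 F13262 F29078 D37255
def n170059 : Q := act 0 n81563
theorem D170059 : act 0 n81563 = n170059 := rfl
theorem F267517 : act 2 n81786 = n170059 := d15_3 (iv0 D170059) (iv0 F185137) (iv7 F192539)
theorem F267518 : act 1 n81787 = n170059 := d15_0 (iv0 D170059) F125457 D81787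
theorem F267519 : act 4 n170059 = n165110 := d1_2 F237178 F267517 F260385
theorem F267520 : act 7 n170059 = n81613 := d4_2 (iv7 F192539) F267517 (iv2 F149120)
theorem F267521 : act 1 n96715 = n81787 := d15_0 F267518 F267520 (iv2 F149120)
theorem E24292 : n158411 = n120750 := ((c20_11 (iv4 D158411) (iv1 D75556) (iv4 F56891) F56890 D39985 D86378 F132406 D170059 F267519 F260386 (iv1 F192526))).symm
theorem F267522 : act 4 n120750 = n75556 := (sb E24292 (iv4 D158411))
theorem F267523 : act 0 n158410 = n152240 := d20_10 F239303 D164731 F259767 (iv3 F151628) (iv1 F151632) (iv3 F193789) F193790 (iv1 F192526) F267522 D158410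
theorem F267524 : act 0 n152188 = n82536 := d20_7 F193790 (iv1 F192526) F267522 D158410 F267523 F239302 (iv4 F239274) (iv4 D82536) (iv3 F192687) (iv1 F193796)
def n170060 : Q := act 2 n81563
theorem D170060 : act 2 n81563 = n170060 := rfl
theorem F267525 : act 3 n170060 = n81760 := d0_2 D81563 D170060 (iv2 D81760) (iv3 D37375) (iv2 F116859)
theorem F267526 : act 7 n170060 = n81787 := d4_2 (iv7 F125457) D170060 (iv2 D81787)
theorem F267527 : act 1 n170060 = n81613 := d15_0 F192537 (iv7 F125457) D170060
theorem F267528 : act 1 n81786 = n170060 := d15_0 F267527 (iv7 F267520) (iv2 F267517)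
theorem E24293 : n167371 = n150483 := ((c20_11 (iv4 D167371) (iv1 F262793) F262791 (iv3 F267525) (iv1 F267528) (iv3 F230517) F230518 (iv1 F107000) F108329 D70916 D150483)).symm
theorem F267529 : act 4 n150483 = n80323 := (sb E24293 (iv4 D167371))
def n170061 : Q := act 5 n81563
theorem D170061 : act 5 n81563 = n170061 := rfl
def n170062 : Q := act 6 n81563
theorem D170062 : act 6 n81563 = n170062 := rfl
def n170063 : Q := act 0 n81564
theorem D170063 : act 0 n81564 = n170063 := rfl
theorem F267533 : act 5 n170063 = n81772 := d17_3 F121357 D81564 D170063 (iv4 F125694) D95447 (iv0 F147082) (iv5 D45941) F121461 (iv4 F69991)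
theorem F267534 : act 1 n81567 = n170063 := d15_0 (iv0 D170063) F125459 (iv2 F125467)
theorem F267535 : act 2 n81763 = n170063 := d2_3 F267533 F125695 (iv5 F125680)
theorem F267536 : act 7 n81764 = n170063 := d13_0 F267533 (iv7 F129605) (iv5 F129607)
def n170064 : Q := act 1 n81564
theorem D170064 : act 1 n81564 = n170064 := rfl
theorem F267537 : act 1 n170064 = n81567 := d15_1 D170064 F125468 (iv2 F125458)
theorem F267539 : act 5 n170064 = n81771 := d17_7 D37379 F116764 (iv1 F116807) (iv5 D37256) D37255 D81564 D170064 (iv0 D81771) (iv4 D37381)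
theorem F267540 : act 2 n81764 = n170064 := d2_3 F267539 F129606 (iv5 F129607)
def n170065 : Q := act 4 n81564
theorem D170065 : act 4 n81564 = n170065 := rfl
theorem F267541 : act 2 n170065 = n81765 := d1_1 D170065 (iv4 D81765) (iv2 F125458)
theorem F267543 : act 5 n170065 = n170055 := d16_1 D170065 (iv4 F267508) (iv5 D84479) F59986 F29682 D37259 D81567 F125468 (iv2 F125458)
def n170066 : Q := act 6 n81564
theorem D170066 : act 6 n81564 = n170066 := rfl
theorem F267545 : act 2 n170066 = n81766 := d3_1 D170066 (iv6 D81766) (iv2 F125458)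
def n170067 : Q := act 5 n81565
theorem D170067 : act 5 n81565 = n170067 := rfl
theorem F267546 : act 2 n170067 = n81768 := d2_1 D170067 (iv5 D81768) (iv2 F125460)
theorem F267549 : act 1 n170067 = n124570 := d17_6 (iv1 F44721) (iv5 F91921) (iv1 F91923) (iv5 F58205) (iv4 F125461) D170067 (iv5 D124570) (iv0 D58149) (iv4 D27715)
theorem F267550 : act 4 n124559 = n170067 := d18_7 (iv1 F91956) (iv4 D27720) (iv1 D13231) (iv4 F22034) D27711 D58135 D124559 F267549 (iv5 D124570)
def n170069 : Q := act 5 n81566
theorem D170069 : act 5 n81566 = n170069 := rfl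
theorem F267555 : act 0 n170069 = n170058 := d17_2 (iv1 F125464) D170069 (iv5 D170058) F125453 F70525 (iv0 F121460) D45941 F125466 (iv4 F125413)
theorem F267557 : act 4 n170069 = n170054 := d18_5 (iv1 F125442) F92542 (iv1 F116807) D81566 D170069 (iv0 D170054) (iv4 D81560) D81559 (iv5 F125439)
def n170070 : Q := act 4 n81567
theorem D170070 : act 4 n81567 = n170070 := rfl
theorem F267560 : act 7 n170070 = n81765 := d11_2 (iv7 F125468) D170070 (iv4 D81765)
def n170071 : Q := act 6 n81567
theorem D170071 : act 6 n81567 = n170071 := rfl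
theorem F267562 : act 2 n170071 = n81791 := d3_1 D170071 (iv6 D81791) (iv2 F125467)
def n170072 : Q := act 4 n81568
theorem D170072 : act 4 n81568 = n170072 := rfl
theorem F267563 : act 2 n170072 = n158224 := d1_1 D170072 F249263 F155029
theorem F267564 : act 3 n170072 = n98298 := d5_1 D170072 (iv4 D98298) F89625 (iv4 F155026) (iv3 F155028)
theorem F267565 : act 5 n170072 = n118050 := d9_2 F252823 D170072 F185444 F85835 (iv4 F94752) (iv5 F205815) (iv4 F252812) F252813 (iv4 F127019) F235322 F235320 (iv5 F128733) (iv4 F132291) (iv5 F253832) F253833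
theorem F267567 : act 0 n170072 = n149972 := d17_0 (iv5 F267216) F267217 (iv5 F235213) F128107 D169791 (iv0 F267203) F252942 F146763 D170072
theorem F267568 : act 1 n170072 = n149975 := d18_6 (iv1 F185395) (iv4 F185398) D160693 F253833 F252823 D170072 (iv4 D149975) F107413 F107409
def n170074 : Q := act 6 n81569
theorem D170074 : act 6 n81569 = n170074 := rfl
def n170075 : Q := act 6 n81570
theorem D170075 : act 6 n81570 = n170075 := rfl
theorem F267569 : act 2 n170075 = n81571 := d3_1 D170075 (iv6 D81571) D81570
theorem F267571 : act 4 n170075 = n160692 := d10_1 D170075 (iv6 D160692) (iv4 F125470)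
def n170083 : Q := act 4 n81574
theorem D170083 : act 4 n81574 = n170083 := rfl
def n170085 : Q := act 1 n81575
theorem D170085 : act 1 n81575 = n170085 := rfl
def n170086 : Q := act 5 n81575
theorem D170086 : act 5 n81575 = n170086 := rfl
theorem F267580 : act 6 n170086 = n148684 := d12_2 D81575 D170086 (iv5 D148684) (iv6 D69682) (iv5 F58219)
def n170087 : Q := act 7 n81575
theorem D170087 : act 7 n81575 = n170087 := rfl
def n170088 : Q := act 5 n81576
theorem D170088 : act 5 n81576 = n170088 := rfl
theorem F267582 : act 6 n170088 = n114721 := d12_2 D81576 D170088 (iv5 D114721) (iv6 D52947) F58221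
def n170089 : Q := act 5 n81577
theorem D170089 : act 5 n81577 = n170089 := rfl
theorem F267583 : act 2 n170089 = n114721 := d2_1 D170089 (iv5 D114721) (iv2 F125477)
theorem F267585 : act 6 n170089 = n81580 := d12_2 D81577 D170089 (iv5 D81580) (iv6 D37271) D37270
def n170090 : Q := act 5 n81578
theorem D170090 : act 5 n81578 = n170090 := rfl
def n170091 : Q := act 6 n81578
theorem D170091 : act 6 n81578 = n170091 := rfl
def n170092 : Q := act 5 n81579
theorem D170092 : act 5 n81579 = n170092 := rfl
def n170093 : Q := act 6 n81579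
theorem D170093 : act 6 n81579 = n170093 := rfl
def n170097 : Q := act 6 n81581
theorem D170097 : act 6 n81581 = n170097 := rfl
theorem F267586 : act 3 n170097 = n81582 := d7_1 D170097 (iv6 D81582) D81581
def n170099 : Q := act 1 n81582
theorem D170099 : act 1 n81582 = n170099 := rfl
theorem F267587 : act 1 n170099 = n169809 := d15_1 D170099 (iv7 D169809) (iv2 F125483)
def n170100 : Q := act 5 n81582
theorem D170100 : act 5 n81582 = n170100 := rfl
theorem F267588 : act 2 n170100 = n169808 := d2_1 D170100 (iv5 D169808) (iv2 F125483)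
theorem F267589 : act 6 n170100 = n95241 := d12_2 D81582 D170100 (iv5 D95241) (iv6 D44486) (iv5 F58229)
def n170101 : Q := act 7 n81582
theorem D170101 : act 7 n81582 = n170101 := rfl
theorem F267590 : act 2 n170101 = n169809 := d4_1 D170101 (iv7 D169809) (iv2 F125483)
theorem F267591 : act 4 n170101 = n87863 := d11_1 D170101 (iv7 D87863) (iv4 F125484)
theorem F267592 : act 6 n170101 = n169803 := d14_1 D170101 (iv7 D169803) (iv6 D81432) F58233 D81582
theorem F267594 : act 1 n169807 = n170101 := d15_1 D169807 (iv7 D170101) F125483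
theorem F267595 : act 1 n170101 = n169806 := d15_0 (iv0 D169806) D169809 (iv2 F267590)
def n170104 : Q := act 5 n81583
theorem D170104 : act 5 n81583 = n170104 := rfl
theorem F267597 : act 2 n170104 = n169802 := d2_1 D170104 (iv5 D169802) (iv2 F125485)
theorem F267598 : act 6 n170104 = n95234 := d12_2 D81583 D170104 (iv5 D95234) (iv6 D44480) (iv5 F58236)
def n170105 : Q := act 7 n81583
theorem D170105 : act 7 n81583 = n170105 := rfl
theorem F267599 : act 2 n170105 = n169803 := d4_1 D170105 (iv7 D169803) (iv2 F125485)
theorem F267601 : act 6 n170105 = n169809 := d14_1 D170105 (iv7 D169809) (iv6 D81434) (iv7 F58235) D81583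
theorem F267604 : act 1 n170105 = n169800 := d15_0 (iv0 D169800) D169803 (iv2 F267599)
def n170106 : Q := act 2 n81584
theorem D170106 : act 2 n81584 = n170106 := rfl
theorem F267605 : act 7 n81585 = n170106 := d15_2 (iv0 D81584) D81585 (iv2 D170106)
def n170111 : Q := act 7 n81584
theorem D170111 : act 7 n81584 = n170111 := rfl
theorem F267607 : act 2 n170111 = n81585 := d4_1 D170111 F267605 (iv2 D170106)
def n170112 : Q := act 3 n81585
theorem D170112 : act 3 n81585 = n170112 := rfl
def n170113 : Q := act 4 n81585
theorem D170113 : act 4 n81585 = n170113 := rfl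
theorem F267608 : act 3 n170113 = n97048 := d20_3 (iv4 F149138) (iv1 F149141) D170113 (iv1 D97048) F71521 (iv4 F59960) D84404 (iv4 F177605) (iv3 D95808) (iv1 F71614)
def n170114 : Q := act 5 n81585
theorem D170114 : act 5 n81585 = n170114 := rfl
def n170115 : Q := act 6 n81585
theorem D170115 : act 6 n81585 = n170115 := rfl
def n170119 : Q := act 7 n81586
theorem D170119 : act 7 n81586 = n170119 := rfl
theorem F267610 : act 5 n170119 = n81587 := d13_1 D170119 (iv7 D81587) D81586
def n170120 : Q := act 0 n81588
theorem D170120 : act 0 n81588 = n170120 := rfl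
def n170121 : Q := act 1 n81588
theorem D170121 : act 1 n81588 = n170121 := rfl
def n170122 : Q := act 2 n81588
theorem D170122 : act 2 n81588 = n170122 := rfl
theorem F267611 : act 3 n170122 = n149798 := d0_2 D81588 D170122 (iv2 F235637) (iv3 D96727) (iv2 F117100)
def n170123 : Q := act 5 n81588
theorem D170123 : act 5 n81588 = n170123 := rfl
theorem F267612 : act 3 n170123 = n81589 := d6_1 D170123 (iv5 D81589) D81588
def n170124 : Q := act 6 n81588
theorem D170124 : act 6 n81588 = n170124 := rfl
theorem F267613 : act 3 n170124 = n81590 := d7_1 D170124 (iv6 D81590) D81588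
def n170127 : Q := act 1 n81591
theorem D170127 : act 1 n81591 = n170127 := rfl
theorem F267616 : act 7 n170127 = n149797 := d15_2 (iv0 F131156) D170127 F235636
theorem F267617 : act 2 n149800 = n170127 := d4_3 F267616 F235636 D149800
theorem F267618 : act 1 n96727 = n149797 := d15_1 (iv0 F235641) (iv7 F267616) (iv2 F267617)
theorem F267619 : act 1 n170127 = n149798 := d15_0 (iv0 D149798) D149800 F267617
def n170128 : Q := act 2 n81591
theorem D170128 : act 2 n81591 = n170128 := rfl
theorem F267620 : act 6 n170128 = n149952 := d3_2 F257057 D170128 (iv2 F263889)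
theorem F267621 : act 7 n170128 = n149798 := d4_2 F149144 D170128 (iv2 F235637)
theorem F267622 : act 1 n170128 = n149800 := d15_0 (iv0 F235641) F149144 D170128
theorem F267623 : act 1 n149797 = n170128 := d15_0 F267622 (iv7 D149800) (iv2 F235636)
def n170129 : Q := act 5 n81591
theorem D170129 : act 5 n81591 = n170129 := rfl
def n170132 : Q := act 1 n81593
theorem D170132 : act 1 n81593 = n170132 := rfl
def n170133 : Q := act 5 n81593
theorem D170133 : act 5 n81593 = n170133 := rfl
theorem F267627 : act 2 n170133 = n84474 := d2_1 D170133 (iv5 F149167) F149165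
theorem F267628 : act 7 n170133 = n84475 := d13_2 F149302 D170133 (iv5 F149305)
theorem F267629 : act 1 n170133 = n84357 := d17_6 (iv1 F121261) D84432 F259597 (iv5 D164632) (iv4 F125490) D170133 (iv5 D84357) (iv0 F121264) F70003
theorem F267630 : act 0 n170133 = n84360 := d21_7 F267284 (iv1 F149049) F125543 (iv6 F71234) (iv1 F71236) D81593 D170133 (iv5 D84360) D84361 (iv1 F267286)
theorem E24294 : n170132 = n84527 := (c17_9 F129454 D55603 (iv1 F117032) (iv5 D38901) D38900 D84360 (iv0 F267630) (iv5 D170133) D170132 (iv4 D84527))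
theorem F267631 : act 0 n84527 = n81593 := (sb E24294 (iv1 D170132))
def n170138 : Q := act 4 n81595
theorem D170138 : act 4 n81595 = n170138 := rfl
theorem F267636 : act 0 n170138 = n96760 := d18_2 (iv1 F149183) D170138 (iv4 D96760) (iv5 D45219) F33969 D36001 (iv4 F117104) F71236 (iv5 F149182)
def n170141 : Q := act 6 n81597
theorem D170141 : act 6 n81597 = n170141 := rfl
def n170142 : Q := act 6 n81598
theorem D170142 : act 6 n81598 = n170142 := rfl
def n170143 : Q := act 6 n81599
theorem D170143 : act 6 n81599 = n170143 := rfl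
theorem F267641 : act 4 n170143 = n81615 := d10_1 D170143 (iv6 D81615) (iv4 F125494)
def n170146 : Q := act 1 n81601
theorem D170146 : act 1 n81601 = n170146 := rfl
def n170147 : Q := act 5 n81601
theorem D170147 : act 5 n81601 = n170147 := rfl
def n170152 : Q := act 0 n81603
theorem D170152 : act 0 n81603 = n170152 := rfl
theorem F267654 : act 5 n170152 = n162857 := d17_3 F123690 D81603 D170152 (iv4 D162857) (iv5 F122680) (iv0 D79939) F57166 D36683 D80460
def n170153 : Q := act 1 n81603
theorem D170153 : act 1 n81603 = n170153 := rfl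
def n170154 : Q := act 4 n81603
theorem D170154 : act 4 n81603 = n170154 := rfl
def n170155 : Q := act 4 n81604
theorem D170155 : act 4 n81604 = n170155 := rfl
theorem F267664 : act 7 n170155 = n162927 := d11_2 F196338 D170155 F257257
theorem F267665 : act 5 n170155 = n166619 := d17_5 (iv1 D81609) (iv5 D37294) D37292 D81604 D170155 (iv0 D166619) (iv5 D79965) D79964 (iv4 F126129)
theorem F267666 : act 0 n170155 = n162858 := d18_2 F199301 D170155 (iv4 D162858) (iv5 D78283) (iv4 F119473) F192758 (iv4 F148908) (iv0 F196350) (iv5 F199300)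
def n170156 : Q := act 4 n81606
theorem D170156 : act 4 n81606 = n170156 := rfl
theorem F267668 : act 2 n170156 = n162927 := d1_1 D170156 F257257 F196336
theorem F267669 : act 6 n170156 = n163426 := d10_2 F193387 D170156 F257710
theorem F267670 : act 7 n170156 = n160342 := d11_2 (iv7 F125514) D170156 (iv4 D160342)
theorem F267671 : act 0 n170156 = n121710 := d18_2 F197476 D170156 F194256 F88961 (iv4 F119505) F257126 F257122 (iv0 D123192) D123193
theorem F267672 : act 1 n170156 = n162858 := d18_6 (iv1 F57566) (iv4 F123680) (iv1 F123682) (iv4 F117084) D81606 D170156 (iv4 D162858) (iv0 F119480) (iv5 D36693)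
theorem F267673 : act 5 n166620 = n170156 := d17_7 F119479 (iv5 D36698) (iv1 D17685) (iv5 F28581) (iv4 F57191) D79965 D166620 F267672 (iv4 D162858)
def n170157 : Q := act 6 n81608
theorem D170157 : act 6 n81608 = n170157 := rfl
theorem F267674 : act 2 n170157 = n160376 := d3_1 D170157 (iv6 D160376) F126130
theorem F267676 : act 4 n170157 = n166098 := d10_1 D170157 (iv6 F262215) F195828
theorem F267677 : act 0 n170157 = n123194 := d21_4 (iv5 D84496) D84494 F196355 D170157 (iv6 D123194) (iv5 F127338) (iv1 F149112) F149109 (iv6 F129616) F129622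
theorem F267678 : act 5 n170157 = n87529 := d21_6 (iv5 D19055) F30171 D39974 F60831 D81608 D170157 (iv1 D87529) (iv5 F133275) (iv6 D86870) F61354
theorem E24295 : n164058 = n163988 := ((c21_11 F258535 (iv1 F134422) (iv5 F267678) (iv6 D170157) (iv1 F196369) F196367 F134050 (iv1 F71109) D96646 (iv6 F148913) D163988)).symm
theorem F267680 : act 5 n163988 = n87527 := (sb E24295 F258535)
theorem F267681 : act 6 n163988 = n157773 := (sb E24295 F258536)
theorem F267682 : act 7 n163988 = n86127 := (sb E24295 F258537)
def n170159 : Q := act 3 n81610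
theorem D170159 : act 3 n81610 = n170159 := rfl
theorem F267686 : act 4 n170159 = n81648 := d5_2 D81610 D170159 (iv3 D81648) (iv4 D37317) (iv3 F58252)
theorem F267687 : act 6 n170159 = n160995 := d7_2 (iv6 F125519) D170159 (iv3 D160995)
def n170161 : Q := act 6 n81612
theorem D170161 : act 6 n81612 = n170161 := rfl
theorem F267688 : act 2 n170161 = n119193 := d3_1 D170161 (iv6 D119193) (iv2 F125522)
theorem F267689 : act 3 n170161 = n81613 := d7_1 D170161 (iv6 D81613) D81612
theorem F267690 : act 4 n170161 = n98180 := d10_1 D170161 (iv6 D98180) (iv4 F125523)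
def n170162 : Q := act 5 n81613
theorem D170162 : act 5 n81613 = n170162 := rfl
def n170164 : Q := act 5 n81614
theorem D170164 : act 5 n81614 = n170164 := rfl
theorem F267691 : act 3 n170164 = n149770 := d6_1 D170164 (iv5 D149770) (iv3 F125527)
def n170165 : Q := act 0 n81615
theorem D170165 : act 0 n81615 = n170165 := rfl
def n170166 : Q := act 1 n81615
theorem D170166 : act 1 n81615 = n170166 := rfl
theorem F267692 : act 1 n170166 = n81621 := d15_1 D170166 (iv7 D81621) (iv2 F125528)
theorem F267693 : act 2 n81619 = n170166 := d15_3 F267692 (iv0 F235945) F235944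
theorem F267694 : act 7 n170166 = n81618 := d4_2 F235944 F267693 (iv2 F235946)
theorem E24296 : n170165 = n149987 := ((c15_4 (iv0 D170165) D170166 F267694 (iv2 F235946))).symm
theorem F267695 : act 1 n149987 = n81615 := (sb E24296 (iv0 D170165))
def n170168 : Q := act 7 n81615
theorem D170168 : act 7 n81615 = n170168 := rfl
theorem F267698 : act 1 n81619 = n170168 := d15_1 D81619 (iv7 D170168) F125528
def n170174 : Q := act 3 n81618
theorem D170174 : act 3 n81618 = n170174 := rfl
theorem F267705 : act 2 n170174 = n149779 := d0_1 D170174 (iv3 D149779) (iv2 F186203) D149987 F235946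
def n170200 : Q := act 6 n81626
theorem D170200 : act 6 n81626 = n170200 := rfl
theorem F267719 : act 3 n170200 = n81628 := d7_1 D170200 (iv6 D81628) D81626
def n170202 : Q := act 1 n81627
theorem D170202 : act 1 n81627 = n170202 := rfl
theorem F267724 : act 1 n170202 = n81630 := d15_1 D170202 (iv7 F149021) F149020
theorem F267726 : act 5 n170202 = n84507 := d17_7 (iv1 F148220) (iv5 F253951) (iv1 F253954) (iv5 D87044) (iv4 F117065) D81627 D170202 F267285 F267283
def n170210 : Q := act 4 n81630
theorem D170210 : act 4 n81630 = n170210 := rfl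
def n170212 : Q := act 3 n81632
theorem D170212 : act 3 n81632 = n170212 := rfl
def n170213 : Q := act 4 n81632
theorem D170213 : act 4 n81632 = n170213 := rfl
theorem F267731 : act 1 n170213 = n96750 := d18_6 (iv1 F131963) (iv4 F147879) (iv1 F148214) F146827 (iv5 F146829) D170213 (iv4 D96750) (iv0 F131970) (iv5 D86026)
def n170216 : Q := act 4 n81633
theorem D170216 : act 4 n81633 = n170216 := rfl
def n170224 : Q := act 0 n81636
theorem D170224 : act 0 n81636 = n170224 := rfl
theorem F267738 : act 1 n149788 = n170224 := d15_0 (iv0 D170224) (iv7 F149056) (iv2 F235606)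
theorem F267739 : act 4 n100917 = n170224 := d20_0 (iv1 F267738) (iv4 F236197) (iv3 D150092) F232740 F155723 (iv4 F159608) (iv1 F159611) F232746 D88057 (iv1 F156888)
def n170225 : Q := act 1 n81636
theorem D170225 : act 1 n81636 = n170225 := rfl
theorem F267741 : act 4 n100916 = n170225 := d20_0 (iv1 D170225) (iv4 F153919) (iv3 D99984) (iv1 D46697) F34950 (iv4 F29539) D38527 (iv4 F155084) D47037 D100916
def n170226 : Q := act 5 n81636
theorem D170226 : act 5 n81636 = n170226 := rfl
theorem F267742 : act 3 n170226 = n81637 := d6_1 D170226 (iv5 D81637) D81636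
def n170227 : Q := act 6 n81636
theorem D170227 : act 6 n81636 = n170227 := rfl
theorem F267743 : act 3 n170227 = n81638 := d7_1 D170227 (iv6 D81638) D81636
def n170230 : Q := act 3 n81639
theorem D170230 : act 3 n81639 = n170230 := rfl
def n170231 : Q := act 5 n81639
theorem D170231 : act 5 n81639 = n170231 := rfl
theorem F267746 : act 2 n170231 = n160491 := d2_1 D170231 (iv5 D160491) (iv2 F125547)
theorem F267747 : act 0 n170231 = n165688 := d17_2 (iv1 F250711) D170231 (iv5 D165688) F122206 F56945 D36817 D80668 F264874 F264872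
def n170233 : Q := act 5 n81644
theorem D170233 : act 5 n81644 = n170233 := rfl
theorem F267748 : act 2 n170233 = n160509 := d2_1 D170233 (iv5 D160509) (iv2 F126163)
def n170235 : Q := act 0 n81645
theorem D170235 : act 0 n81645 = n170235 := rfl
theorem F267751 : act 5 n170235 = n84550 := d21_2 (iv5 F125551) D170235 (iv6 F201673) F201672 (iv6 D76961) F55886 (iv1 F126074) F116927 (iv6 F160861) F160863
theorem F267752 : act 6 n170235 = n86068 := d21_5 (iv5 F116828) F58303 F58262 D81645 D170235 (iv5 F201674) (iv1 F201676) (iv5 D78870) F56558 D76942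
theorem F267753 : act 0 n170235 = n160511 := d21_4 (iv5 F125348) F201675 F201674 (iv6 F267752) F253563 (iv5 D81397) (iv1 F126139) (iv5 F112716) F120023 (iv1 F120024)
def n170236 : Q := act 7 n81645
theorem D170236 : act 7 n81645 = n170236 := rfl
theorem F267756 : act 6 n170236 = n96899 := d14_1 D170236 F149388 (iv6 F129692) F125312 D81645
def n170237 : Q := act 3 n81646
theorem D170237 : act 3 n81646 = n170237 := rfl
theorem F267759 : act 4 n170237 = n160386 := d5_2 F146830 D170237 (iv3 D160386) F133633 (iv3 F133632)
def n170238 : Q := act 5 n81646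
theorem D170238 : act 5 n81646 = n170238 := rfl
def n170239 : Q := act 6 n81646
theorem D170239 : act 6 n81646 = n170239 := rfl
theorem F267760 : act 4 n170239 = n97601 := d10_1 D170239 F150447 F146830
def n170240 : Q := act 3 n81647
theorem D170240 : act 3 n81647 = n170240 := rfl
theorem F267761 : act 4 n170240 = n160819 := d5_2 (iv4 F125552) D170240 (iv3 D160819) (iv4 D77177) D77176
def n170241 : Q := act 5 n81647
theorem D170241 : act 5 n81647 = n170241 := rfl
def n170242 : Q := act 6 n81647
theorem D170242 : act 6 n81647 = n170242 := rfl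
theorem F267762 : act 4 n170242 = n160818 := d10_1 D170242 (iv6 D160818) (iv4 F125552)
def n170243 : Q := act 0 n81648
theorem D170243 : act 0 n81648 = n170243 := rfl
def n170244 : Q := act 1 n81648
theorem D170244 : act 1 n81648 = n170244 := rfl
def n170245 : Q := act 2 n81648
theorem D170245 : act 2 n81648 = n170245 := rfl
def n170246 : Q := act 5 n81648
theorem D170246 : act 5 n81648 = n170246 := rfl
theorem F267763 : act 3 n170246 = n81649 := d6_1 D170246 (iv5 D81649) D81648
def n170247 : Q := act 7 n81648
theorem D170247 : act 7 n81648 = n170247 := rfl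
theorem F267764 : act 3 n170247 = n81650 := d8_1 D170247 (iv7 D81650) D81648
def n170248 : Q := act 0 n81649
theorem D170248 : act 0 n81649 = n170248 := rfl
def n170249 : Q := act 1 n81649
theorem D170249 : act 1 n81649 = n170249 := rfl
def n170250 : Q := act 4 n81649
theorem D170250 : act 4 n81649 = n170250 := rfl
def n170251 : Q := act 6 n81649
theorem D170251 : act 6 n81649 = n170251 := rfl
def n170252 : Q := act 7 n81649
theorem D170252 : act 7 n81649 = n170252 := rfl
theorem F267766 : act 5 n170252 = n81650 := d13_1 D170252 (iv7 D81650) D81649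
def n170253 : Q := act 6 n81651
theorem D170253 : act 6 n81651 = n170253 := rfl
theorem F267768 : act 4 n170253 = n81653 := d10_1 D170253 (iv6 D81653) D81651
def n170254 : Q := act 6 n81652
theorem D170254 : act 6 n81652 = n170254 := rfl
def n170259 : Q := act 6 n81654
theorem D170259 : act 6 n81654 = n170259 := rfl
theorem F267771 : act 3 n170259 = n81656 := d7_1 D170259 (iv6 D81656) D81654
theorem F267772 : act 4 n170259 = n153299 := d10_1 D170259 (iv6 D153299) F125561
def n170260 : Q := act 6 n81655
theorem D170260 : act 6 n81655 = n170260 := rfl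
theorem F267773 : act 3 n170260 = n157983 := d7_1 D170260 (iv6 D157983) (iv3 F125563)
theorem F267774 : act 4 n170260 = n81656 := d10_1 D170260 (iv6 D81656) D81655
def n170261 : Q := act 0 n81656
theorem D170261 : act 0 n81656 = n170261 := rfl
def n170262 : Q := act 1 n81656
theorem D170262 : act 1 n81656 = n170262 := rfl
def n170263 : Q := act 5 n81656
theorem D170263 : act 5 n81656 = n170263 := rfl
def n170264 : Q := act 7 n81656
theorem D170264 : act 7 n81656 = n170264 := rfl
def n170265 : Q := act 6 n81657
theorem D170265 : act 6 n81657 = n170265 := rfl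
theorem F267775 : act 2 n170265 = n81661 := d3_1 D170265 (iv6 D81661) (iv2 F125577)
theorem F267776 : act 3 n170265 = n105429 := d7_1 D170265 (iv6 D105429) (iv3 F125578)
theorem F267777 : act 4 n170265 = n160102 := d10_1 D170265 (iv6 D160102) (iv4 F125579)
def n170266 : Q := act 5 n81658
theorem D170266 : act 5 n81658 = n170266 := rfl
def n170267 : Q := act 6 n81659
theorem D170267 : act 6 n81659 = n170267 := rfl
theorem F267779 : act 3 n170267 = n119045 := d7_1 D170267 (iv6 D119045) (iv3 F125581)
theorem F267780 : act 4 n170267 = n151328 := d10_1 D170267 (iv6 D151328) F125582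
def n170268 : Q := act 6 n81660
theorem D170268 : act 6 n81660 = n170268 := rfl
theorem F267781 : act 2 n170268 = n160102 := d3_1 D170268 (iv6 D160102) (iv2 F125585)
theorem F267782 : act 3 n170268 = n95648 := d7_1 D170268 (iv6 D95648) (iv3 F125586)
theorem F267783 : act 4 n170268 = n81661 := d10_1 D170268 (iv6 D81661) D81660
def n170269 : Q := act 0 n81661
theorem D170269 : act 0 n81661 = n170269 := rfl
def n170270 : Q := act 1 n81661
theorem D170270 : act 1 n81661 = n170270 := rfl
def n170271 : Q := act 5 n81661
theorem D170271 : act 5 n81661 = n170271 := rfl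
theorem F267784 : act 3 n170271 = n81667 := d6_1 D170271 (iv5 D81667) (iv3 F125590)
theorem F267785 : act 6 n170271 = n81664 := d12_2 D81661 D170271 (iv5 D81664) (iv6 D37323) D37322
def n170272 : Q := act 7 n81661
theorem D170272 : act 7 n81661 = n170272 := rfl
theorem F267786 : act 3 n170272 = n81668 := d8_1 D170272 (iv7 D81668) (iv3 F125590)
def n170273 : Q := act 2 n81662
theorem D170273 : act 2 n81662 = n170273 := rfl
theorem F267787 : act 7 n81663 = n170273 := d15_2 (iv0 D81662) D81663 (iv2 D170273)
def n170274 : Q := act 3 n81662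
theorem D170274 : act 3 n81662 = n170274 := rfl
theorem F267788 : act 4 n170274 = n119374 := d20_6 F116720 F113856 F30747 (iv3 F58265) D81662 D170274 (iv1 F188046) F130124 (iv3 D75961) (iv1 F116719)
theorem F267789 : act 0 n83605 = n170274 := d20_10 F267788 (iv1 F188046) F130124 (iv3 D75961) (iv1 F116719) D96730 F149159 (iv1 F263896) F262569 F236864
theorem F267790 : act 0 n170274 = n150016 := d20_1 (iv4 F267788) F235995 F188225 (iv1 F120219) D164558 F259393 (iv1 F263359) F263336 F123330 D119374
theorem F267791 : act 3 n152624 = n119374 := d20_5 F130919 (iv1 F233070) F106278 (iv3 F108488) D152624 (iv4 F267788) F267790 F235995 F188225 (iv1 F120219)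
def n170275 : Q := act 4 n81662
theorem D170275 : act 4 n81662 = n170275 := rfl
def n170276 : Q := act 5 n81662
theorem D170276 : act 5 n81662 = n170276 := rfl
def n170277 : Q := act 6 n81662
theorem D170277 : act 6 n81662 = n170277 := rfl
def n170278 : Q := act 7 n81662
theorem D170278 : act 7 n81662 = n170278 := rfl
theorem F267792 : act 2 n170278 = n81663 := d4_1 D170278 F267787 (iv2 D170273)
def n170279 : Q := act 3 n81663
theorem D170279 : act 3 n81663 = n170279 := rfl
def n170280 : Q := act 4 n81663
theorem D170280 : act 4 n81663 = n170280 := rfl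
theorem F267793 : act 3 n158146 = n170280 := d20_5 (iv4 D16776) (iv1 F27470) (iv4 F54723) (iv3 F112942) (iv1 F249098) (iv4 D170280) (iv1 D81663) (iv4 F72454) F72453 F59786
def n170281 : Q := act 5 n81663
theorem D170281 : act 5 n81663 = n170281 := rfl
def n170282 : Q := act 6 n81663
theorem D170282 : act 6 n81663 = n170282 := rfl
def n170283 : Q := act 0 n81664
theorem D170283 : act 0 n81664 = n170283 := rfl
def n170284 : Q := act 1 n81664
theorem D170284 : act 1 n81664 = n170284 := rfl
def n170285 : Q := act 4 n81664
theorem D170285 : act 4 n81664 = n170285 := rfl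
def n170286 : Q := act 2 n81665
theorem D170286 : act 2 n81665 = n170286 := rfl
theorem F267794 : act 7 n81666 = n170286 := d15_2 (iv0 D81665) D81666 (iv2 D170286)
def n170288 : Q := act 5 n81665
theorem D170288 : act 5 n81665 = n170288 := rfl
def n170290 : Q := act 7 n81665
theorem D170290 : act 7 n81665 = n170290 := rfl
theorem F267795 : act 2 n170290 = n81666 := d4_1 D170290 F267794 (iv2 D170286)
def n170295 : Q := act 0 n81667
theorem D170295 : act 0 n81667 = n170295 := rfl
def n170296 : Q := act 1 n81667
theorem D170296 : act 1 n81667 = n170296 := rfl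
def n170297 : Q := act 4 n81667
theorem D170297 : act 4 n81667 = n170297 := rfl
theorem F267796 : act 6 n170297 = n81670 := d10_2 (iv6 F125592) D170297 (iv4 D81670)
def n170298 : Q := act 7 n81667
theorem D170298 : act 7 n81667 = n170298 := rfl
theorem F267797 : act 5 n170298 = n81668 := d13_1 D170298 (iv7 D81668) D81667
def n170304 : Q := act 6 n81671
theorem D170304 : act 6 n81671 = n170304 := rfl
def n170313 : Q := act 7 n81675
theorem D170313 : act 7 n81675 = n170313 := rfl
def n170316 : Q := act 5 n81676
theorem D170316 : act 5 n81676 = n170316 := rfl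
theorem F267816 : act 2 n170316 = n81680 := d2_1 D170316 (iv5 D81680) (iv2 F125609)
def n170317 : Q := act 7 n81676
theorem D170317 : act 7 n81676 = n170317 := rfl
theorem F267818 : act 4 n170317 = n168077 := d11_1 D170317 (iv7 D168077) (iv4 F125610)
def n170318 : Q := act 0 n81677
theorem D170318 : act 0 n81677 = n170318 := rfl
def n170319 : Q := act 1 n81677
theorem D170319 : act 1 n81677 = n170319 := rfl
def n170320 : Q := act 5 n81677
theorem D170320 : act 5 n81677 = n170320 := rfl
theorem F267822 : act 6 n170320 = n81680 := d12_2 D81677 D170320 (iv5 D81680) (iv6 D37333) D37332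
def n170325 : Q := act 6 n81678
theorem D170325 : act 6 n81678 = n170325 := rfl
def n170328 : Q := act 4 n81679
theorem D170328 : act 4 n81679 = n170328 := rfl
def n170331 : Q := act 0 n81680
theorem D170331 : act 0 n81680 = n170331 := rfl
def n170332 : Q := act 1 n81680
theorem D170332 : act 1 n81680 = n170332 := rfl
def n170333 : Q := act 4 n81680
theorem D170333 : act 4 n81680 = n170333 := rfl
def n170334 : Q := act 7 n81680
theorem D170334 : act 7 n81680 = n170334 := rfl
theorem F267827 : act 3 n170334 = n81689 := d8_1 D170334 (iv7 D81689) (iv3 F125613)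
theorem F267828 : act 5 n170334 = n81681 := d13_1 D170334 (iv7 D81681) D81680
def n170335 : Q := act 2 n81682
theorem D170335 : act 2 n81682 = n170335 := rfl
theorem F267829 : act 7 n81683 = n170335 := d15_2 (iv0 D81682) D81683 (iv2 D170335)
def n170339 : Q := act 6 n81682
theorem D170339 : act 6 n81682 = n170339 := rfl
def n170341 : Q := act 3 n81683
theorem D170341 : act 3 n81683 = n170341 := rfl
def n170342 : Q := act 5 n81683
theorem D170342 : act 5 n81683 = n170342 := rfl
def n170343 : Q := act 6 n81683
theorem D170343 : act 6 n81683 = n170343 := rfl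
def n170346 : Q := act 4 n81684
theorem D170346 : act 4 n81684 = n170346 := rfl
theorem F267831 : act 6 n170346 = n81688 := d10_2 (iv6 F125616) D170346 (iv4 D81688)
def n170351 : Q := act 0 n81688
theorem D170351 : act 0 n81688 = n170351 := rfl
theorem F267835 : act 4 n170351 = n96697 := d18_3 (iv1 D81687) D81688 D170351 (iv5 F267284) F267283 F148221 F129591 (iv0 F149061) F126185
theorem F267836 : act 2 n170213 = n170351 := d1_3 F267835 (iv2 F149047) D170213
def n170352 : Q := act 1 n81688
theorem D170352 : act 1 n81688 = n170352 := rfl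
theorem F267838 : act 7 n170352 = n170213 := d15_2 (iv0 D170351) D170352 F267836
theorem F267839 : act 4 n170352 = n96698 := d18_7 (iv1 F71181) F117063 (iv1 D36817) (iv4 F29101) D37337 D81688 D170352 F149041 F125543
theorem F267840 : act 2 n170216 = n170352 := d1_3 F267839 F149043 D170216
def n170353 : Q := act 3 n81688
theorem D170353 : act 3 n81688 = n170353 := rfl
def n170354 : Q := act 5 n81688
theorem D170354 : act 5 n81688 = n170354 := rfl
def n170357 : Q := act 6 n81690
theorem D170357 : act 6 n81690 = n170357 := rfl
theorem F267844 : act 2 n170357 = n81692 := d3_1 D170357 (iv6 D81692) D81690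
theorem F267845 : act 3 n170357 = n119021 := d7_1 D170357 (iv6 D119021) (iv3 F125619)
def n170358 : Q := act 6 n81691
theorem D170358 : act 6 n81691 = n170358 := rfl
theorem F267846 : act 3 n170358 = n95458 := d7_1 D170358 (iv6 D95458) (iv3 F125621)
theorem F267847 : act 4 n170358 = n81692 := d10_1 D170358 (iv6 D81692) D81691
def n170359 : Q := act 0 n81692
theorem D170359 : act 0 n81692 = n170359 := rfl
def n170360 : Q := act 1 n81692
theorem D170360 : act 1 n81692 = n170360 := rfl
def n170361 : Q := act 5 n81692
theorem D170361 : act 5 n81692 = n170361 := rfl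
theorem F267848 : act 3 n170361 = n81695 := d6_1 D170361 (iv5 D81695) (iv3 F125622)
theorem F267849 : act 6 n170361 = n84382 := d12_2 D81692 D170361 (iv5 D84382) (iv6 D38910) (iv5 F58274)
def n170362 : Q := act 7 n81692
theorem D170362 : act 7 n81692 = n170362 := rfl
def n170363 : Q := act 2 n81693
theorem D170363 : act 2 n81693 = n170363 := rfl
def n170364 : Q := act 3 n81693
theorem D170364 : act 3 n81693 = n170364 := rfl
def n170365 : Q := act 4 n81693
theorem D170365 : act 4 n81693 = n170365 := rfl
def n170366 : Q := act 5 n81693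
theorem D170366 : act 5 n81693 = n170366 := rfl
def n170367 : Q := act 6 n81693
theorem D170367 : act 6 n81693 = n170367 := rfl
def n170368 : Q := act 7 n81693
theorem D170368 : act 7 n81693 = n170368 := rfl
def n170373 : Q := act 0 n81695
theorem D170373 : act 0 n81695 = n170373 := rfl
def n170374 : Q := act 1 n81695
theorem D170374 : act 1 n81695 = n170374 := rfl
theorem F267853 : act 5 n170339 = n170374 := d21_6 (iv5 F16262) F16263 D17930 D37334 D81682 D170339 (iv1 D170374) (iv5 D81695) (iv6 D37340) (iv1 F29104)
def n170375 : Q := act 4 n81695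
theorem D170375 : act 4 n81695 = n170375 := rfl
theorem F267854 : act 6 n170375 = n84385 := d10_2 (iv6 F125623) D170375 (iv4 D84385)
def n170376 : Q := act 7 n81695
theorem D170376 : act 7 n81695 = n170376 := rfl
def n170377 : Q := act 0 n81697
theorem D170377 : act 0 n81697 = n170377 := rfl
theorem F267856 : act 4 n170377 = n152271 := d20_2 (iv4 F125626) D170377 (iv3 D152271) (iv1 F108285) F52469 (iv4 F76741) (iv1 F76744) (iv4 F136458) D52850 F248555
def n170380 : Q := act 7 n81697
theorem D170380 : act 7 n81697 = n170380 := rfl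
theorem F267860 : act 3 n170380 = n81701 := d8_1 D170380 (iv7 D81701) (iv3 F125625)
theorem F267861 : act 4 n170380 = n148905 := d11_1 D170380 (iv7 D148905) (iv4 F125626)
def n170381 : Q := act 2 n81698
theorem D170381 : act 2 n81698 = n170381 := rfl
theorem F267864 : act 7 n81699 = n170381 := d15_2 (iv0 D81698) D81699 (iv2 D170381)
def n170382 : Q := act 3 n81698
theorem D170382 : act 3 n81698 = n170382 := rfl
def n170383 : Q := act 4 n81698
theorem D170383 : act 4 n81698 = n170383 := rfl
def n170386 : Q := act 7 n81698
theorem D170386 : act 7 n81698 = n170386 := rfl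
def n170389 : Q := act 6 n81699
theorem D170389 : act 6 n81699 = n170389 := rfl
def n170394 : Q := act 0 n81702
theorem D170394 : act 0 n81702 = n170394 := rfl
theorem F267869 : act 1 n81707 = n170394 := d15_0 (iv0 D170394) (iv7 F125629) (iv2 F125630)
def n170396 : Q := act 3 n81702
theorem D170396 : act 3 n81702 = n170396 := rfl
theorem F267871 : act 7 n170396 = n81708 := d8_2 F125629 D170396 (iv3 D81708)
def n170397 : Q := act 4 n81702
theorem D170397 : act 4 n81702 = n170397 := rfl
theorem F267872 : act 2 n170397 = n81704 := d1_1 D170397 (iv4 D81704) D81702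
theorem F267873 : act 7 n170397 = n81709 := d11_2 F125629 D170397 (iv4 D81709)
def n170398 : Q := act 5 n81702
theorem D170398 : act 5 n81702 = n170398 := rfl
theorem F267874 : act 2 n170398 = n81705 := d2_1 D170398 (iv5 D81705) D81702
theorem F267875 : act 7 n170398 = n81710 := d13_2 F125629 D170398 (iv5 D81710)
def n170399 : Q := act 6 n81702
theorem D170399 : act 6 n81702 = n170399 := rfl
theorem F267876 : act 2 n170399 = n81706 := d3_1 D170399 (iv6 D81706) D81702
def n170400 : Q := act 0 n81703
theorem D170400 : act 0 n81703 = n170400 := rfl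
def n170401 : Q := act 1 n81703
theorem D170401 : act 1 n81703 = n170401 := rfl
def n170402 : Q := act 2 n81703
theorem D170402 : act 2 n81703 = n170402 := rfl
def n170403 : Q := act 4 n81703
theorem D170403 : act 4 n81703 = n170403 := rfl
def n170404 : Q := act 5 n81703
theorem D170404 : act 5 n81703 = n170404 := rfl
theorem F267877 : act 3 n170404 = n81705 := d6_1 D170404 (iv5 D81705) D81703
def n170405 : Q := act 6 n81703
theorem D170405 : act 6 n81703 = n170405 := rfl
theorem F267878 : act 3 n170405 = n81706 := d7_1 D170405 (iv6 D81706) D81703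
def n170406 : Q := act 7 n81703
theorem D170406 : act 7 n81703 = n170406 := rfl
theorem F267879 : act 3 n170406 = n81707 := d8_1 D170406 (iv7 D81707) D81703
def n170407 : Q := act 0 n81704
theorem D170407 : act 0 n81704 = n170407 := rfl
def n170408 : Q := act 1 n81704
theorem D170408 : act 1 n81704 = n170408 := rfl
theorem F267880 : act 1 n170408 = n81709 := d15_1 D170408 (iv7 F267873) F267872
def n170409 : Q := act 3 n81704
theorem D170409 : act 3 n81704 = n170409 := rfl
def n170410 : Q := act 5 n81704
theorem D170410 : act 5 n81704 = n170410 := rfl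
def n170411 : Q := act 6 n81704
theorem D170411 : act 6 n81704 = n170411 := rfl
theorem F267881 : act 4 n170411 = n81706 := d10_1 D170411 (iv6 D81706) D81704
def n170412 : Q := act 7 n81704
theorem D170412 : act 7 n81704 = n170412 := rfl
theorem F267882 : act 2 n170412 = n81709 := d4_1 D170412 (iv7 F267873) F267872
theorem F267883 : act 4 n170412 = n81707 := d11_1 D170412 (iv7 D81707) D81704
theorem F267884 : act 1 n81709 = n170407 := d15_0 (iv0 D170407) D170412 F267882
def n170413 : Q := act 0 n81705
theorem D170413 : act 0 n81705 = n170413 := rfl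
theorem F267885 : act 5 n170413 = n170343 := d21_2 D81705 D170413 (iv6 D170343) (iv1 D81683) (iv6 D37334) (iv5 D17930) (iv1 D8460) D8461 D17934 D37343
def n170414 : Q := act 1 n81705
theorem D170414 : act 1 n81705 = n170414 := rfl
theorem F267886 : act 1 n170414 = n81710 := d15_1 D170414 (iv7 F267875) F267874
def n170415 : Q := act 4 n81705
theorem D170415 : act 4 n81705 = n170415 := rfl
def n170416 : Q := act 6 n81705
theorem D170416 : act 6 n81705 = n170416 := rfl
def n170417 : Q := act 7 n81705
theorem D170417 : act 7 n81705 = n170417 := rfl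
theorem F267887 : act 2 n170417 = n81710 := d4_1 D170417 (iv7 F267875) F267874
theorem F267888 : act 5 n170417 = n81707 := d13_1 D170417 (iv7 D81707) D81705
theorem F267889 : act 1 n81710 = n170413 := d15_0 (iv0 D170413) D170417 F267887
def n170418 : Q := act 0 n81706
theorem D170418 : act 0 n81706 = n170418 := rfl
def n170419 : Q := act 1 n81706
theorem D170419 : act 1 n81706 = n170419 := rfl
def n170420 : Q := act 7 n81706
theorem D170420 : act 7 n81706 = n170420 := rfl
def n170421 : Q := act 6 n81707
theorem D170421 : act 6 n81707 = n170421 := rfl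
theorem F267890 : act 2 n170421 = n81711 := d3_1 D170421 (iv6 D81711) (iv2 F125630)
def n170422 : Q := act 0 n81708
theorem D170422 : act 0 n81708 = n170422 := rfl
def n170423 : Q := act 1 n81708
theorem D170423 : act 1 n81708 = n170423 := rfl
def n170424 : Q := act 2 n81708
theorem D170424 : act 2 n81708 = n170424 := rfl
def n170425 : Q := act 4 n81708
theorem D170425 : act 4 n81708 = n170425 := rfl
def n170426 : Q := act 5 n81708
theorem D170426 : act 5 n81708 = n170426 := rfl
theorem F267891 : act 3 n170426 = n81710 := d6_1 D170426 (iv5 D81710) D81708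
def n170427 : Q := act 6 n81708
theorem D170427 : act 6 n81708 = n170427 := rfl
theorem F267892 : act 3 n170427 = n81711 := d7_1 D170427 (iv6 D81711) D81708
def n170428 : Q := act 5 n81709
theorem D170428 : act 5 n81709 = n170428 := rfl
def n170429 : Q := act 6 n81709
theorem D170429 : act 6 n81709 = n170429 := rfl
theorem F267893 : act 4 n170429 = n81711 := d10_1 D170429 (iv6 D81711) D81709
def n170430 : Q := act 4 n81710
theorem D170430 : act 4 n81710 = n170430 := rfl
def n170431 : Q := act 6 n81710
theorem D170431 : act 6 n81710 = n170431 := rfl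
def n170432 : Q := act 0 n81711
theorem D170432 : act 0 n81711 = n170432 := rfl
def n170433 : Q := act 1 n81711
theorem D170433 : act 1 n81711 = n170433 := rfl
def n170434 : Q := act 5 n81711
theorem D170434 : act 5 n81711 = n170434 := rfl
theorem F267894 : act 0 n170288 = n170434 := d21_1 D170288 (iv5 D170434) (iv6 D81711) (iv1 D37344) (iv6 D17934) (iv5 D8461) D8459 D17927 D37324 D81665
def n170435 : Q := act 7 n81711
theorem D170435 : act 7 n81711 = n170435 := rfl
def n170436 : Q := act 2 n81712
theorem D170436 : act 2 n81712 = n170436 := rfl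
theorem F267895 : act 7 n81713 = n170436 := d15_2 (iv0 D81712) D81713 (iv2 D170436)
def n170441 : Q := act 7 n81712
theorem D170441 : act 7 n81712 = n170441 := rfl
theorem F267896 : act 2 n170441 = n81713 := d4_1 D170441 F267895 (iv2 D170436)
def n170442 : Q := act 3 n81713
theorem D170442 : act 3 n81713 = n170442 := rfl
def n170443 : Q := act 4 n81713
theorem D170443 : act 4 n81713 = n170443 := rfl
def n170444 : Q := act 6 n81713
theorem D170444 : act 6 n81713 = n170444 := rfl
def n170445 : Q := act 0 n81714
theorem D170445 : act 0 n81714 = n170445 := rfl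
def n170446 : Q := act 1 n81714
theorem D170446 : act 1 n81714 = n170446 := rfl
def n170447 : Q := act 3 n81714
theorem D170447 : act 3 n81714 = n170447 := rfl
theorem F267897 : act 6 n170447 = n81747 := d7_2 (iv6 F125631) D170447 (iv3 D81747)
def n170448 : Q := act 5 n81714
theorem D170448 : act 5 n81714 = n170448 := rfl
def n170449 : Q := act 7 n81714
theorem D170449 : act 7 n81714 = n170449 := rfl
theorem F267898 : act 4 n170449 = n81715 := d11_1 D170449 (iv7 D81715) D81714
def n170450 : Q := act 6 n81715
theorem D170450 : act 6 n81715 = n170450 := rfl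
theorem F267899 : act 7 n170450 = n81750 := d14_2 D81715 D170450 (iv6 D81750) (iv7 D37360) (iv6 F58279)
def n170451 : Q := act 2 n81716
theorem D170451 : act 2 n81716 = n170451 := rfl
theorem F267900 : act 7 n81717 = n170451 := d15_2 (iv0 D81716) D81717 (iv2 D170451)
def n170452 : Q := act 4 n81716
theorem D170452 : act 4 n81716 = n170452 := rfl
def n170453 : Q := act 5 n81716
theorem D170453 : act 5 n81716 = n170453 := rfl
def n170454 : Q := act 6 n81716
theorem D170454 : act 6 n81716 = n170454 := rfl
def n170455 : Q := act 7 n81716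
theorem D170455 : act 7 n81716 = n170455 := rfl
theorem F267901 : act 2 n170455 = n81717 := d4_1 D170455 F267900 (iv2 D170451)
def n170456 : Q := act 3 n81717
theorem D170456 : act 3 n81717 = n170456 := rfl
theorem F267902 : act 4 n153662 = n170456 := d20_2 (iv4 F190352) D153662 (iv3 D170456) (iv1 D81717) (iv3 D37348) F118922 F121460 (iv4 F125453) F237048 (iv1 D150540)
def n170457 : Q := act 4 n81717
theorem D170457 : act 4 n81717 = n170457 := rfl
theorem F267903 : act 3 n170457 = n158343 := d20_3 (iv4 F267484) (iv1 F267488) D170457 (iv1 F249481) F186969 (iv4 D118910) F110795 (iv4 F86812) (iv3 F151621) (iv1 F151622)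
def n170460 : Q := act 5 n81718
theorem D170460 : act 5 n81718 = n170460 := rfl
theorem F267904 : act 2 n170460 = n81719 := d2_1 D170460 (iv5 D81719) D81718
def n170461 : Q := act 6 n81718
theorem D170461 : act 6 n81718 = n170461 := rfl
theorem F267905 : act 2 n170461 = n81720 := d3_1 D170461 (iv6 D81720) D81718
def n170462 : Q := act 0 n81719
theorem D170462 : act 0 n81719 = n170462 := rfl
def n170463 : Q := act 1 n81719
theorem D170463 : act 1 n81719 = n170463 := rfl
def n170464 : Q := act 4 n81719
theorem D170464 : act 4 n81719 = n170464 := rfl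
def n170465 : Q := act 6 n81719
theorem D170465 : act 6 n81719 = n170465 := rfl
theorem F267906 : act 3 n170465 = n81724 := d7_1 D170465 (iv6 D81724) (iv3 F125633)
def n170466 : Q := act 0 n81720
theorem D170466 : act 0 n81720 = n170466 := rfl
def n170467 : Q := act 1 n81720
theorem D170467 : act 1 n81720 = n170467 := rfl
def n170468 : Q := act 5 n81720
theorem D170468 : act 5 n81720 = n170468 := rfl
theorem F267907 : act 3 n170468 = n81725 := d6_1 D170468 (iv5 D81725) (iv3 F125634)
theorem F267908 : act 7 n124552 = n170468 := d8_0 F267907 F151618 D124552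
def n170469 : Q := act 7 n81720
theorem D170469 : act 7 n81720 = n170469 := rfl
theorem F267909 : act 3 n170469 = n81726 := d8_1 D170469 (iv7 D81726) (iv3 F125634)
theorem F267910 : act 5 n170469 = n124552 := d13_1 D170469 F267908 (iv5 D170468)
def n170471 : Q := act 4 n81721
theorem D170471 : act 4 n81721 = n170471 := rfl
theorem F267915 : act 1 n170471 = n81765 := d18_6 (iv1 D84478) F59986 F116808 (iv4 F92542) (iv5 F125635) D170471 (iv4 D81765) D81764 F129607
def n170473 : Q := act 4 n81722
theorem D170473 : act 4 n81722 = n170473 := rfl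
theorem F267919 : act 0 n170473 = n81765 := d17_0 F125726 (iv1 D81746) D81748 F125655 F125445 F58203 D37350 D81722 D170473
def n170475 : Q := act 0 n81723
theorem D170475 : act 0 n81723 = n170475 := rfl
theorem F267922 : act 4 n170475 = n170063 := d18_3 (iv1 D81722) D81723 D170475 F267533 (iv4 F125694) F129579 F129575 (iv0 F125441) F125642
theorem F267923 : act 1 n81734 = n170475 := d15_0 (iv0 D170475) (iv7 F267492) F267491
def n170476 : Q := act 1 n81723
theorem D170476 : act 1 n81723 = n170476 := rfl
theorem F267924 : act 1 n170476 = n81734 := d15_1 D170476 (iv7 F267479) F267478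
theorem F267925 : act 4 n170476 = n170064 := d18_7 (iv1 F121426) F69991 (iv1 F121461) (iv4 F118922) D37350 D81723 D170476 F267537 (iv5 D81567)
def n170477 : Q := act 3 n81723
theorem D170477 : act 3 n81723 = n170477 := rfl
def n170478 : Q := act 6 n81723
theorem D170478 : act 6 n81723 = n170478 := rfl
theorem F267926 : act 4 n170478 = n81724 := d10_1 D170478 (iv6 D81724) D81723
def n170479 : Q := act 0 n81724
theorem D170479 : act 0 n81724 = n170479 := rfl
def n170480 : Q := act 1 n81724
theorem D170480 : act 1 n81724 = n170480 := rfl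
def n170481 : Q := act 5 n81724
theorem D170481 : act 5 n81724 = n170481 := rfl
theorem F267927 : act 2 n170481 = n124557 := d2_1 D170481 (iv5 F267481) F267480
theorem F267928 : act 6 n170481 = n81725 := d12_2 D81724 D170481 (iv5 D81725) (iv6 D37351) D37350
def n170482 : Q := act 7 n81724
theorem D170482 : act 7 n81724 = n170482 := rfl
def n170483 : Q := act 4 n81725
theorem D170483 : act 4 n81725 = n170483 := rfl
theorem F267929 : act 2 n170483 = n124556 := d1_1 D170483 (iv4 D124556) (iv2 F125643)
theorem F267930 : act 7 n170483 = n124553 := d11_2 (iv7 F151618) D170483 (iv4 D124553)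
def n170484 : Q := act 2 n81727
theorem D170484 : act 2 n81727 = n170484 := rfl
theorem F267931 : act 7 n81728 = n170484 := d15_2 (iv0 D81727) D81728 (iv2 D170484)
def n170486 : Q := act 4 n81727
theorem D170486 : act 4 n81727 = n170486 := rfl
theorem F267932 : act 0 n118792 = n170486 := d20_10 (iv4 D170486) (iv1 F267466) F267464 (iv3 F259766) (iv1 F259769) (iv3 F252215) F252211 (iv1 F205910) F188371 D118792
def n170489 : Q := act 7 n81727
theorem D170489 : act 7 n81727 = n170489 := rfl
theorem F267933 : act 2 n170489 = n81728 := d4_1 D170489 F267931 (iv2 D170484)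
def n170498 : Q := act 1 n81730
theorem D170498 : act 1 n81730 = n170498 := rfl
theorem F267947 : act 4 n150517 = n170498 := d20_0 (iv1 D170498) (iv4 D81730) (iv3 D37353) (iv1 D17936) (iv3 F25312) F25313 D15816 D32860 D70939 D150517
theorem F267948 : act 3 n81758 = n150517 := d20_5 F13260 D8463 D17941 D37375 D81758 F267947 (iv1 D170498) (iv4 D81730) (iv3 D37353) (iv1 D17936)
def n170507 : Q := act 5 n81732
theorem D170507 : act 5 n81732 = n170507 := rfl
theorem F267954 : act 3 n170507 = n81737 := d6_1 D170507 (iv5 D81737) (iv3 F125649)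
def n170508 : Q := act 3 n81734
theorem D170508 : act 3 n81734 = n170508 := rfl
def n170509 : Q := act 6 n81734
theorem D170509 : act 6 n81734 = n170509 := rfl
theorem F267955 : act 4 n170509 = n81735 := d10_1 D170509 (iv6 D81735) D81734
def n170512 : Q := act 5 n81735
theorem D170512 : act 5 n81735 = n170512 := rfl
theorem F267956 : act 6 n170512 = n81737 := d12_2 D81735 D170512 (iv5 D81737) (iv6 D37356) D37355
def n170514 : Q := act 4 n81737
theorem D170514 : act 4 n81737 = n170514 := rfl
def n170515 : Q := act 0 n81739
theorem D170515 : act 0 n81739 = n170515 := rfl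
def n170516 : Q := act 1 n81739
theorem D170516 : act 1 n81739 = n170516 := rfl
def n170517 : Q := act 2 n81739
theorem D170517 : act 2 n81739 = n170517 := rfl
def n170518 : Q := act 4 n81739
theorem D170518 : act 4 n81739 = n170518 := rfl
def n170519 : Q := act 6 n81739
theorem D170519 : act 6 n81739 = n170519 := rfl
theorem F267957 : act 3 n170519 = n81741 := d7_1 D170519 (iv6 D81741) D81739
def n170520 : Q := act 0 n81740
theorem D170520 : act 0 n81740 = n170520 := rfl
theorem F267958 : act 4 n170520 = n170058 := d18_1 D170520 F267516 F267508 (iv5 F267543) (iv4 D170065) D170064 (iv4 F267925) F267924 (iv5 F125653)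
theorem F267959 : act 1 n81743 = n170520 := d15_0 (iv0 D170520) (iv7 F267503) F267501
def n170521 : Q := act 1 n81740
theorem D170521 : act 1 n81740 = n170521 := rfl
theorem F267961 : act 1 n170521 = n81743 := d15_1 D170521 (iv7 F267496) F267495
theorem F267963 : act 4 n170521 = n95232 := d18_7 F125414 F125413 (iv1 F125466) (iv4 F118940) (iv5 F119009) D81740 D170521 (iv0 F146771) (iv5 D84479)
def n170522 : Q := act 3 n81740
theorem D170522 : act 3 n81740 = n170522 := rfl
theorem F267965 : act 5 n170522 = n170508 := d6_2 (iv5 F125653) D170522 (iv3 D170508)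
def n170523 : Q := act 6 n81740
theorem D170523 : act 6 n81740 = n170523 := rfl
theorem F267966 : act 4 n170523 = n81741 := d10_1 D170523 (iv6 D81741) D81740
def n170526 : Q := act 5 n81741
theorem D170526 : act 5 n81741 = n170526 := rfl
theorem F267967 : act 6 n170526 = n160483 := d12_2 D81741 D170526 F253504 (iv6 D125249) (iv5 F119009)
def n170529 : Q := act 1 n81742
theorem D170529 : act 1 n81742 = n170529 := rfl
def n170532 : Q := act 6 n81742
theorem D170532 : act 6 n81742 = n170532 := rfl
theorem F267968 : act 3 n170532 = n81744 := d7_1 D170532 (iv6 D81744) D81742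
def n170533 : Q := act 3 n81743
theorem D170533 : act 3 n81743 = n170533 := rfl
theorem F267969 : act 5 n170533 = n170477 := d6_2 (iv5 F125654) D170533 (iv3 D170477)
def n170534 : Q := act 6 n81743
theorem D170534 : act 6 n81743 = n170534 := rfl
theorem F267970 : act 4 n170534 = n81744 := d10_1 D170534 (iv6 D81744) D81743
def n170535 : Q := act 0 n81744
theorem D170535 : act 0 n81744 = n170535 := rfl
def n170537 : Q := act 5 n81744
theorem D170537 : act 5 n81744 = n170537 := rfl
theorem F267972 : act 6 n170537 = n84349 := d12_2 D81744 D170537 (iv5 D84349) (iv6 F92564) F92566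
def n170541 : Q := act 3 n81746
theorem D170541 : act 3 n81746 = n170541 := rfl
def n170542 : Q := act 6 n81746
theorem D170542 : act 6 n81746 = n170542 := rfl
def n170543 : Q := act 0 n81747
theorem D170543 : act 0 n81747 = n170543 := rfl
def n170544 : Q := act 1 n81747
theorem D170544 : act 1 n81747 = n170544 := rfl
def n170545 : Q := act 2 n81747
theorem D170545 : act 2 n81747 = n170545 := rfl
def n170546 : Q := act 5 n81747
theorem D170546 : act 5 n81747 = n170546 := rfl
theorem F267973 : act 3 n170546 = n81748 := d6_1 D170546 (iv5 D81748) D81747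
theorem F267974 : act 7 n170056 = n170546 := d8_0 F267973 F125656 D170056
def n170547 : Q := act 7 n81747
theorem D170547 : act 7 n81747 = n170547 := rfl
theorem F267975 : act 3 n170547 = n81749 := d8_1 D170547 (iv7 D81749) D81747
theorem F267976 : act 5 n170547 = n170056 := d13_1 D170547 F267974 (iv5 D170546)
def n170548 : Q := act 6 n81748
theorem D170548 : act 6 n81748 = n170548 := rfl
theorem F267977 : act 4 n170548 = n170057 := d10_1 D170548 (iv6 D170057) (iv4 F125655)
def n170549 : Q := act 6 n81749
theorem D170549 : act 6 n81749 = n170549 := rfl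
theorem F267978 : act 2 n170549 = n170548 := d3_1 D170549 (iv6 D170548) (iv2 F125658)
theorem F267979 : act 4 n170549 = n81750 := d10_1 D170549 (iv6 D81750) (iv4 F125659)
def n170551 : Q := act 1 n81750
theorem D170551 : act 1 n81750 = n170551 := rfl
def n170552 : Q := act 3 n81751
theorem D170552 : act 3 n81751 = n170552 := rfl
theorem F267980 : act 4 n170552 = n81773 := d5_2 D81751 D170552 (iv3 D81773) (iv4 D37381) (iv3 F58293)
theorem F267981 : act 5 n170552 = n166964 := d6_2 (iv5 F125664) D170552 (iv3 D166964)
def n170554 : Q := act 1 n81756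
theorem D170554 : act 1 n81756 = n170554 := rfl
def n170557 : Q := act 4 n81757
theorem D170557 : act 4 n81757 = n170557 := rfl
theorem F267986 : act 7 n170557 = n170521 := d11_2 F146770 D170557 F267963
theorem F267987 : act 5 n170557 = n170083 := d16_1 D170557 (iv4 D170083) (iv5 D81574) F58218 F33646 (iv4 F58218) D81574 (iv7 F267515) F267514
theorem F267988 : act 0 n170557 = n170052 := d18_2 F125720 D170557 (iv4 D170052) (iv5 F125439) (iv4 F129575) (iv0 F129578) (iv4 F125690) (iv0 D81771) D81774
theorem F267989 : act 1 n170557 = n170049 := d18_6 D37249 F58196 F121328 F121326 D81757 D170557 (iv4 D170049) (iv0 D81558) (iv5 D37251)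
def n170559 : Q := act 2 n81758
theorem D170559 : act 2 n81758 = n170559 := rfl
def n170560 : Q := act 4 n81758
theorem D170560 : act 4 n81758 = n170560 := rfl
theorem F267991 : act 0 n170560 = n150486 := d20_1 D170560 (iv4 D150486) (iv3 D70916) (iv1 D32855) F25312 F13260 D8463 D17941 D37375 D81758
def n170561 : Q := act 5 n81758
theorem D170561 : act 5 n81758 = n170561 := rfl
def n170562 : Q := act 6 n81758
theorem D170562 : act 6 n81758 = n170562 := rfl
def n170563 : Q := act 7 n81758
theorem D170563 : act 7 n81758 = n170563 := rfl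
def n170565 : Q := act 4 n81759
theorem D170565 : act 4 n81759 = n170565 := rfl
theorem F267994 : act 0 n150486 = n170565 := d20_10 (iv4 D170565) (iv1 D81759) (iv4 F123001) (iv3 D80138) (iv1 F57324) (iv3 F52504) F52505 (iv1 F52434) D71861 (iv3 F236963)
theorem F267995 : act 1 n152702 = n170565 := d15_0 (iv0 F267994) F236964 D152702
def n170568 : Q := act 5 n81760
theorem D170568 : act 5 n81760 = n170568 := rfl
theorem F267996 : act 2 n170568 = n81761 := d2_1 D170568 (iv5 D81761) D81760
def n170569 : Q := act 6 n81760
theorem D170569 : act 6 n81760 = n170569 := rfl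
theorem F267997 : act 2 n170569 = n81762 := d3_1 D170569 (iv6 D81762) D81760
def n170570 : Q := act 0 n81761
theorem D170570 : act 0 n81761 = n170570 := rfl
def n170571 : Q := act 1 n81761
theorem D170571 : act 1 n81761 = n170571 := rfl
def n170572 : Q := act 4 n81761
theorem D170572 : act 4 n81761 = n170572 := rfl
def n170573 : Q := act 6 n81761
theorem D170573 : act 6 n81761 = n170573 := rfl
theorem F267998 : act 3 n170573 = n81766 := d7_1 D170573 (iv6 D81766) (iv3 F125678)
def n170574 : Q := act 0 n81762
theorem D170574 : act 0 n81762 = n170574 := rfl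
def n170575 : Q := act 1 n81762
theorem D170575 : act 1 n81762 = n170575 := rfl
def n170576 : Q := act 5 n81762
theorem D170576 : act 5 n81762 = n170576 := rfl
theorem F267999 : act 3 n170576 = n81768 := d6_1 D170576 (iv5 D81768) (iv3 F125679)
def n170577 : Q := act 7 n81762
theorem D170577 : act 7 n81762 = n170577 := rfl
def n170579 : Q := act 4 n81763
theorem D170579 : act 4 n81763 = n170579 := rfl
theorem F268004 : act 5 n170579 = n170475 := d16_1 D170579 F267922 F267533 (iv4 F125694) D95447 F147081 (iv5 F129607) F267536 (iv2 F267535)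
theorem F268005 : act 0 n170579 = n170046 := d17_0 (iv5 F267497) (iv1 F267989) F267987 (iv4 D170083) (iv5 D81574) F121335 D37396 F125681 D170579
def n170581 : Q := act 3 n81764
theorem D170581 : act 3 n81764 = n170581 := rfl
def n170582 : Q := act 4 n81764
theorem D170582 : act 4 n81764 = n170582 := rfl
theorem F268008 : act 2 n170582 = n170476 := d1_1 D170582 F267925 (iv2 F267540)
theorem F268009 : act 5 n170582 = n170476 := d9_2 (iv5 F129607) D170582 F267925 F267539 F125690 F121424 (iv4 F125413) (iv5 F125680) D170579 F268004 F267922 F267533 (iv4 F125694) D95447 F147081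
theorem F268010 : act 7 n170582 = n170475 := d11_2 (iv7 F267536) D170582 F267922
theorem F268012 : act 1 n170582 = n170046 := d18_6 D58588 F118940 F147082 F147081 (iv5 F129607) D170582 (iv4 D170046) F125436 (iv5 D58590)
def n170583 : Q := act 6 n81764
theorem D170583 : act 6 n81764 = n170583 := rfl
def n170584 : Q := act 3 n81765
theorem D170584 : act 3 n81765 = n170584 := rfl
def n170585 : Q := act 6 n81765
theorem D170585 : act 6 n81765 = n170585 := rfl
theorem F268014 : act 4 n170585 = n81766 := d10_1 D170585 (iv6 D81766) D81765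
def n170586 : Q := act 0 n81766
theorem D170586 : act 0 n81766 = n170586 := rfl
def n170587 : Q := act 1 n81766
theorem D170587 : act 1 n81766 = n170587 := rfl
def n170588 : Q := act 5 n81766
theorem D170588 : act 5 n81766 = n170588 := rfl
theorem F268015 : act 6 n170588 = n81768 := d12_2 D81766 D170588 (iv5 D81768) (iv6 D37377) D37376
def n170589 : Q := act 7 n81766
theorem D170589 : act 7 n81766 = n170589 := rfl
def n170591 : Q := act 1 n81768
theorem D170591 : act 1 n81768 = n170591 := rfl
theorem F268017 : act 7 n170591 = n95234 := d15_2 (iv0 F125683) D170591 F146774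
theorem F268018 : act 5 n170591 = n95235 := d17_7 (iv1 F44719) (iv5 F44731) F58308 (iv5 D37386) (iv4 F58297) D81768 D170591 F146779 (iv4 D58112)
theorem F268019 : act 2 n124570 = n170591 := d2_3 F268018 F146775 D124570
def n170592 : Q := act 4 n81768
theorem D170592 : act 4 n81768 = n170592 := rfl
theorem F268020 : act 2 n170592 = n124559 := d1_1 D170592 F267550 F267546
theorem F268021 : act 0 n170592 = n124511 := d18_2 (iv1 D170591) D170592 (iv4 D124511) (iv5 D58108) F44711 D27705 D58115 F146778 (iv5 F268018)
theorem F268022 : act 1 n170592 = n124562 := d18_6 F250483 F113894 (iv1 F116803) (iv4 F58297) D81768 D170592 F199216 F199159 F250484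
def n170593 : Q := act 7 n81768
theorem D170593 : act 7 n81768 = n170593 := rfl
theorem F268024 : act 5 n170593 = n81769 := d13_1 D170593 (iv7 D81769) D81768
theorem F268027 : act 4 n124558 = n170593 := d18_3 (iv1 D58134) D58135 D124558 F268024 F125684 F116850 (iv4 F115629) (iv0 F125431) F125430
theorem F268028 : act 7 n170592 = n124558 := d11_0 F268027 (iv7 D170593) D170592
def n170597 : Q := act 0 n81773
theorem D170597 : act 0 n81773 = n170597 := rfl
def n170598 : Q := act 1 n81773
theorem D170598 : act 1 n81773 = n170598 := rfl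
def n170599 : Q := act 2 n81773
theorem D170599 : act 2 n81773 = n170599 := rfl
def n170600 : Q := act 5 n81773
theorem D170600 : act 5 n81773 = n170600 := rfl
theorem F268035 : act 3 n170600 = n81774 := d6_1 D170600 (iv5 D81774) D81773
def n170601 : Q := act 6 n81773
theorem D170601 : act 6 n81773 = n170601 := rfl
theorem F268036 : act 3 n170601 = n81775 := d7_1 D170601 (iv6 D81775) D81773
def n170602 : Q := act 6 n81774
theorem D170602 : act 6 n81774 = n170602 := rfl
def n170603 : Q := act 5 n81775
theorem D170603 : act 5 n81775 = n170603 := rfl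
def n170604 : Q := act 1 n81776
theorem D170604 : act 1 n81776 = n170604 := rfl
theorem F268045 : act 7 n170604 = n95236 := d15_2 F147883 D170604 (iv2 F147881)
def n170605 : Q := act 3 n81776
theorem D170605 : act 3 n81776 = n170605 := rfl
theorem F268048 : act 4 n170605 = n121555 := d5_2 D81776 D170605 (iv3 D121555) (iv4 F118732) F118730
theorem F268049 : act 7 n170605 = n124601 := d8_2 (iv7 F125702) D170605 (iv3 D124601)
def n170606 : Q := act 5 n81776
theorem D170606 : act 5 n81776 = n170606 := rfl
theorem F268050 : act 2 n170606 = n124607 := d2_1 D170606 (iv5 D124607) (iv2 F125701)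
theorem F268051 : act 7 n170606 = n124602 := d13_2 (iv7 F125702) D170606 (iv5 D124602)
def n170614 : Q := act 5 n81779
theorem D170614 : act 5 n81779 = n170614 := rfl
theorem F268058 : act 0 n170614 = n86714 := d17_2 F125705 D170614 (iv5 D86714) (iv4 D40211) D40212 (iv0 F123858) (iv5 D80561) F118872 (iv4 F116105)
theorem F268059 : act 1 n170614 = n86707 := d17_6 F126120 D57879 F126122 (iv5 D81784) (iv4 F125704) D170614 (iv5 D86707) (iv0 F126126) F61684
def n170616 : Q := act 6 n81782
theorem D170616 : act 6 n81782 = n170616 := rfl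
theorem F268066 : act 0 n170616 = n82659 := d21_4 D45134 D96648 (iv5 F148938) D170616 (iv6 D82659) D82658 (iv1 F149328) (iv5 F149329) (iv6 D96647) (iv1 D45133)
theorem F268067 : act 5 n170616 = n84490 := d21_6 (iv5 F90965) (iv1 F121175) (iv5 D37393) D37394 D81782 D170616 (iv1 F133264) (iv5 D86867) F89994 (iv1 F121485)
theorem F268069 : act 0 n123194 = n169773 := d21_10 (iv5 D169773) F194976 (iv5 F267680) F267681 (iv1 F256413) F256409 (iv5 F268067) F268066 F127338 D123194
def n170617 : Q := act 4 n81784
theorem D170617 : act 4 n81784 = n170617 := rfl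
theorem F268070 : act 6 n170617 = n123188 := d10_2 (iv6 F125716) D170617 (iv4 D123188)
theorem F268071 : act 0 n170617 = n86716 := d18_2 F126122 D170617 (iv4 D86716) (iv5 D40212) D40211 F132643 F132641 (iv0 F126119) D57879
def n170618 : Q := act 5 n81786
theorem D170618 : act 5 n81786 = n170618 := rfl
def n170619 : Q := act 5 n81787
theorem D170619 : act 5 n81787 = n170619 := rfl
theorem F268073 : act 2 n170619 = n81788 := d2_1 D170619 (iv5 D81788) D81787
def n170620 : Q := act 6 n81787
theorem D170620 : act 6 n81787 = n170620 := rfl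
theorem F268074 : act 2 n170620 = n81789 := d3_1 D170620 (iv6 D81789) D81787
def n170621 : Q := act 0 n81788
theorem D170621 : act 0 n81788 = n170621 := rfl
def n170622 : Q := act 1 n81788
theorem D170622 : act 1 n81788 = n170622 := rfl
def n170623 : Q := act 4 n81788
theorem D170623 : act 4 n81788 = n170623 := rfl
def n170624 : Q := act 6 n81788
theorem D170624 : act 6 n81788 = n170624 := rfl
theorem F268075 : act 3 n170624 = n81791 := d7_1 D170624 (iv6 D81791) (iv3 F125717)
def n170625 : Q := act 0 n81789
theorem D170625 : act 0 n81789 = n170625 := rfl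
def n170627 : Q := act 5 n81789
theorem D170627 : act 5 n81789 = n170627 := rfl
def n170629 : Q := act 6 n81790
theorem D170629 : act 6 n81790 = n170629 := rfl
theorem F268078 : act 4 n170629 = n81791 := d10_1 D170629 (iv6 D81791) D81790
def n170632 : Q := act 5 n81791
theorem D170632 : act 5 n81791 = n170632 := rfl
theorem F268079 : act 6 n170632 = n81794 := d12_2 D81791 D170632 (iv5 D81794) (iv6 D37397) D37396
def n170635 : Q := act 4 n81794
theorem D170635 : act 4 n81794 = n170635 := rfl
theorem F268081 : act 0 n170635 = n125297 := d18_2 (iv1 F125722) D170635 (iv4 D125297) (iv5 D58671) (iv4 D27898) (iv0 F126004) (iv4 F71140) F71144 D81452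
theorem F268082 : act 1 n170635 = n169883 := d18_6 (iv1 D159072) F113869 F116834 (iv4 F58312) D81794 D170635 (iv4 D169883) F201513 (iv5 F250424)
def n170639 : Q := act 5 n81795
theorem D170639 : act 5 n81795 = n170639 := rfl
theorem F268088 : act 3 n170639 = n81796 := d6_1 D170639 (iv5 D81796) D81795
theorem F268089 : act 0 n170639 = n170162 := d21_7 (iv5 F83666) (iv1 F88025) F88023 (iv6 F87227) F129428 F129426 D170639 (iv5 D170162) (iv6 D81613) (iv1 F71222)
def n170640 : Q := act 6 n81796
theorem D170640 : act 6 n81796 = n170640 := rfl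
def n170641 : Q := act 3 n81797
theorem D170641 : act 3 n81797 = n170641 := rfl
def n170642 : Q := act 5 n81797
theorem D170642 : act 5 n81797 = n170642 := rfl
def n170643 : Q := act 0 n81798
theorem D170643 : act 0 n81798 = n170643 := rfl
theorem F268091 : act 1 n122619 = n170643 := d15_0 (iv0 D170643) F125727 (iv2 F196441)
def n170644 : Q := act 1 n81798
theorem D170644 : act 1 n81798 = n170644 := rfl
theorem F268092 : act 4 n170021 = n170644 := d20_6 (iv4 D37259) (iv1 D17906) (iv4 F29074) (iv3 F58195) D81548 D170021 (iv1 D170644) F237049 (iv3 F237048) (iv1 F125455)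
theorem F268093 : act 0 n122619 = n170644 := d20_1 F236815 (iv4 F268092) (iv3 D170021) (iv1 F236712) F236709 F107322 (iv1 F51990) D32865 D70958 (iv1 F237051)
def n170645 : Q := act 2 n81798
theorem D170645 : act 2 n81798 = n170645 := rfl
theorem F268094 : act 7 n170645 = n122619 := d4_2 (iv7 F125727) D170645 F196441
theorem F268095 : act 1 n170645 = n122620 := d15_0 (iv0 D122620) (iv7 F125727) D170645
theorem F268096 : act 1 n122621 = n170645 := d15_1 D122621 F268094 F196441
def n170646 : Q := act 5 n81798
theorem D170646 : act 5 n81798 = n170646 := rfl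
theorem F268097 : act 3 n170646 = n81799 := d6_1 D170646 (iv5 D81799) D81798
theorem F268098 : act 7 n170646 = n122622 := d13_2 (iv7 F125727) D170646 (iv5 D122622)
def n170647 : Q := act 4 n81799
theorem D170647 : act 4 n81799 = n170647 := rfl
theorem F268099 : act 7 n170647 = n122624 := d11_2 (iv7 F125728) D170647 (iv4 D122624)
theorem F268100 : act 5 n170647 = n120422 := d16_1 D170647 (iv4 D120422) (iv5 D55440) (iv4 F44198) F44199 F44198 D55440 D120423 F191846
theorem F268101 : act 0 n170647 = n122740 := d18_2 F125747 D170647 (iv4 D122740) D122741 F196599 (iv0 F198363) F198360 (iv0 D81808) D81810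
theorem F268102 : act 1 n170647 = n122736 := d18_6 D27347 (iv4 F121435) F121433 (iv4 F121346) D81799 D170647 (iv4 D122736) (iv0 D57007) (iv5 D27349)
def n170648 : Q := act 6 n81799
theorem D170648 : act 6 n81799 = n170648 := rfl
def n170649 : Q := act 3 n81800
theorem D170649 : act 3 n81800 = n170649 := rfl
theorem F268103 : act 5 n170649 = n123145 := d6_2 (iv5 F125729) D170649 F197346
def n170650 : Q := act 4 n81800
theorem D170650 : act 4 n81800 = n170650 := rfl
theorem F268104 : act 2 n170650 = n123982 := d1_1 D170650 (iv4 D123982) F125730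
theorem F268105 : act 5 n170650 = n123982 := d16_1 D170650 (iv4 D123982) (iv5 D57760) (iv4 F90938) (iv5 F123536) (iv4 F123538) (iv5 F125732) F125731 F125730
theorem F268106 : act 0 n170650 = n122730 := d17_0 (iv5 F196588) (iv1 F268102) F268100 (iv4 D120422) (iv5 D55440) (iv0 F121344) D120386 F191779 D170650
theorem F268107 : act 1 n170650 = n122723 := d18_6 (iv1 F121515) F121516 D80387 F123541 (iv5 F125729) D170650 (iv4 D122723) D122722 F196569
def n170651 : Q := act 6 n81800
theorem D170651 : act 6 n81800 = n170651 := rfl
theorem F268108 : act 2 n170651 = n123980 := d3_1 D170651 F198393 F125730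
theorem F268109 : act 5 n170651 = n123147 := d12_1 D170651 (iv6 D123147) (iv5 D57303) D57304 (iv5 F125729)
def n170652 : Q := act 3 n81801
theorem D170652 : act 3 n81801 = n170652 := rfl
theorem F268110 : act 5 n170652 = n123975 := d6_2 (iv5 F125732) D170652 F198391
theorem F268111 : act 7 n170652 = n123974 := d8_2 (iv7 F125731) D170652 F198390
def n170653 : Q := act 4 n81801
theorem D170653 : act 4 n81801 = n170653 := rfl
theorem F268112 : act 7 n170653 = n123982 := d11_2 (iv7 F125731) D170653 (iv4 D123982)
theorem F268113 : act 0 n170653 = n122723 := d17_0 (iv5 F196596) F196597 (iv5 F268100) (iv4 D170647) (iv5 D81799) (iv0 D37416) D37418 D81801 D170653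
theorem F268114 : act 1 n170653 = n122730 := d18_6 D57860 (iv4 F121444) (iv1 F123533) (iv4 F123538) (iv5 F125732) D170653 (iv4 D122730) F123528 (iv5 D57862)
def n170654 : Q := act 6 n81801
theorem D170654 : act 6 n81801 = n170654 := rfl
def n170655 : Q := act 0 n81802
theorem D170655 : act 0 n81802 = n170655 := rfl
theorem F268115 : act 5 n170655 = n124161 := d17_1 D170655 F198617 F196605 F196604 F196444 (iv0 F123543) (iv5 F125729) (iv0 D81800) D81802
theorem F268116 : act 4 n170655 = n123177 := d18_3 (iv1 D81801) D81802 D170655 (iv5 D123177) F90499 F121091 (iv4 F60026) F123545 (iv5 F125732)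
theorem F268117 : act 2 n124161 = n170655 := d1_3 F268116 F197411 D124161
def n170656 : Q := act 1 n81802
theorem D170656 : act 1 n81802 = n170656 := rfl
theorem F268119 : act 4 n170656 = n124162 := d18_7 F121233 F43019 F121145 D17958 D37418 D81802 D170656 F198622 (iv5 D80385)
def n170657 : Q := act 3 n81802
theorem D170657 : act 3 n81802 = n170657 := rfl
def n170658 : Q := act 5 n81802
theorem D170658 : act 5 n81802 = n170658 := rfl
theorem F268120 : act 2 n170658 = n122744 := d2_1 D170658 (iv5 F196623) F196622
theorem F268121 : act 7 n170658 = n122743 := d13_2 F195963 D170658 (iv5 F196605)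
theorem F268122 : act 4 n170658 = n120421 := d16_2 D81802 D170658 (iv5 F191844) F90582 F44393 D55421 D120386 F191777 (iv2 F121520)
theorem F268123 : act 0 n170658 = n120383 := d17_2 (iv1 D170656) D170658 (iv5 F196613) F196612 F90078 F87713 D120379 F198621 (iv4 F268119)
theorem F268124 : act 1 n170658 = n122747 := d17_6 (iv1 D120421) (iv5 D55440) (iv1 F121343) D37418 D81802 D170658 F196613 (iv0 F268123) F268122
def n170659 : Q := act 6 n81802
theorem D170659 : act 6 n81802 = n170659 := rfl
theorem F268125 : act 4 n170659 = n81803 := d10_1 D170659 (iv6 D81803) D81802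
def n170660 : Q := act 0 n81803
theorem D170660 : act 0 n81803 = n170660 := rfl
def n170661 : Q := act 1 n81803
theorem D170661 : act 1 n81803 = n170661 := rfl
def n170662 : Q := act 5 n81803
theorem D170662 : act 5 n81803 = n170662 := rfl
theorem F268127 : act 3 n170662 = n154231 := d6_1 D170662 F242337 F240120
theorem F268128 : act 6 n170662 = n81806 := d12_2 D81803 D170662 (iv5 D81806) (iv6 D37419) D37418
def n170663 : Q := act 7 n81803
theorem D170663 : act 7 n81803 = n170663 := rfl
def n170664 : Q := act 3 n81804
theorem D170664 : act 3 n81804 = n170664 := rfl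
theorem F268129 : act 6 n170664 = n160276 := d7_2 (iv6 F196914) D170664 (iv3 D160276)
def n170665 : Q := act 3 n81805
theorem D170665 : act 3 n81805 = n170665 := rfl
theorem F268130 : act 7 n170665 = n160324 := d8_2 (iv7 F196911) D170665 F253230
def n170666 : Q := act 4 n81806
theorem D170666 : act 4 n81806 = n170666 := rfl
theorem F268133 : act 0 n170666 = n123032 := d18_2 (iv1 F125734) D170666 (iv4 D123032) (iv5 D57241) F44321 F120601 D18610 F120792 (iv5 F90774)
def n170667 : Q := act 3 n81808
theorem D170667 : act 3 n81808 = n170667 := rfl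
theorem F268135 : act 6 n170667 = n123934 := d7_2 F125743 D170667 F198356
theorem F268136 : act 7 n170667 = n123145 := d8_2 (iv7 F125742) D170667 F197346
def n170668 : Q := act 0 n81809
theorem D170668 : act 0 n81809 = n170668 := rfl
theorem F268137 : act 2 n123758 = n170668 := d15_3 (iv0 D170668) (iv0 F198241) D123758
theorem F268138 : act 1 n123660 = n170668 := d15_0 (iv0 D170668) (iv7 F190624) (iv2 F198074)
theorem F268139 : act 7 n170668 = n123691 := d15_2 (iv0 F198243) F268138 F198152
theorem F268140 : act 6 n123745 = n170668 := d14_5 F268139 (iv6 D123691) F191229 D57680 D123745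
def n170669 : Q := act 2 n81809
theorem D170669 : act 2 n81809 = n170669 := rfl
theorem F268142 : act 6 n170669 = n153842 := d3_2 F190627 D170669 (iv2 F241708)
theorem F268143 : act 7 n170669 = n123660 := d4_2 F190624 D170669 F198074
theorem F268146 : act 5 n157562 = n170669 := d21_2 D75005 D157562 F268142 (iv1 D153842) (iv6 D72770) D72769 D153838 F241692 (iv6 D118938) F191288
def n170670 : Q := act 5 n81809
theorem D170670 : act 5 n81809 = n170670 := rfl
theorem F268147 : act 2 n170670 = n157562 := d2_1 D170670 F268146 (iv2 D170669)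
theorem F268148 : act 3 n170670 = n81810 := d6_1 D170670 (iv5 D81810) D81809
theorem F268149 : act 7 n170670 = n154142 := d13_2 F190624 D170670 (iv5 D154142)
theorem F268150 : act 1 n170670 = n120428 := d17_6 (iv1 D16204) D16205 F190600 (iv5 F58326) (iv4 F125744) D170670 (iv5 D120428) F109642 (iv4 D33543)
theorem F268151 : act 0 n170670 = n152894 := d21_1 D170670 (iv5 D152894) F191263 (iv1 F186503) D152099 (iv5 F239124) (iv1 F198226) (iv5 D57684) D57685 F198241
def n170671 : Q := act 4 n81810
theorem D170671 : act 4 n81810 = n170671 := rfl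
theorem F268152 : act 2 n170671 = n122743 := d1_1 D170671 F196604 (iv2 F196445)
theorem F268153 : act 7 n170671 = n122744 := d11_2 F129720 D170671 F196606
theorem F268154 : act 0 n170671 = n122747 := d18_2 (iv1 F125748) D170671 F196612 F90078 F44249 F121146 D17958 F121343 D55440
theorem F268155 : act 1 n170671 = n120383 := d18_6 F121514 F44517 F121110 D37422 D81810 D170671 (iv4 D120383) D120382 F191767
def n170672 : Q := act 6 n81810
theorem D170672 : act 6 n81810 = n170672 := rfl
def n170673 : Q := act 1 n81811
theorem D170673 : act 1 n81811 = n170673 := rfl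
theorem F268156 : act 1 n170673 = n123009 := d15_1 D170673 F197095 F196634
theorem F268159 : act 6 n123460 = n170673 := d21_3 D57172 (iv1 F195965) F197843 (iv1 D170673) (iv6 D81811) D81810 F125747 (iv5 D81799) F121347 F90921
theorem F268160 : act 5 n170673 = n160278 := d21_6 D120314 (iv1 F198518) (iv5 D124107) D124108 F198523 F268159 (iv1 F253141) F115375 F55822 (iv1 F87629)
def n170675 : Q := act 3 n81813
theorem D170675 : act 3 n81813 = n170675 := rfl
theorem F268169 : act 4 n170675 = n167678 := d5_2 D81813 D170675 F263960 (iv4 F125516) F125515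
theorem F268170 : act 6 n170675 = n160284 := d7_2 (iv6 F125758) D170675 (iv3 D160284)
def n170677 : Q := act 3 n81816
theorem D170677 : act 3 n81816 = n170677 := rfl
theorem F268172 : act 5 n170677 = n153601 := d6_2 F190857 D170677 F241435
theorem F268173 : act 6 n170677 = n124775 := d7_2 F190701 D170677 F200440
theorem F268174 : act 7 n170677 = n124744 := d8_2 F190839 D170677 F199656
theorem F268175 : act 4 n170677 = n162724 := d20_6 F22098 (iv1 F13716) D17968 D37427 D81816 D170677 (iv1 D162724) F119407 F56330 (iv1 F41735)
theorem F268176 : act 2 n154154 = n170677 := d1_3 F268175 F264187 F264190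
theorem F268177 : act 1 n124668 = n170677 := d17_8 (iv1 D162724) D162725 F256962 (iv5 D150242) F107187 (iv5 F52988) (iv0 F199423) F199425 F268175
theorem F268178 : act 0 n154155 = n170677 := d18_0 F268175 (iv1 D162724) F119407 (iv5 F56331) D71061 D150708 (iv4 F237266) F110070 (iv5 F242249)
def n170678 : Q := act 4 n81816
theorem D170678 : act 4 n81816 = n170678 := rfl
theorem F268180 : act 6 n170678 = n124788 := d10_2 F190701 D170678 F200455
theorem F268181 : act 7 n170678 = n124747 := d11_2 F190839 D170678 F199661
theorem F268182 : act 0 n170678 = n124690 := d17_0 F199468 (iv1 D72668) (iv5 D33534) F25762 D16205 D33547 (iv5 F92134) F190559 D170678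
theorem F268183 : act 1 n170678 = n124823 := d15_1 (iv0 F268182) (iv7 F240089) (iv2 F199466)
theorem E24298 : n124824 = n124690 := (c15_1 D124824 (iv0 F268182) F268181 F199660)
theorem F268184 : act 0 n124690 = n58361 := (sb E24298 (iv1 D124824))
theorem F268185 : act 4 n170670 = n153675 := d18_5 F268184 F92216 F190653 (iv4 F125744) D170670 (iv0 D153675) (iv4 D72669) D72668 (iv5 F199468)
theorem E24299 : n153635 = n122739 := ((c20_4 D170647 F268101 (iv4 D122740) D122739 (iv1 D153635) F109180 D72669 D153675 (iv4 F268185) F268148 F125747)).symm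
theorem F268186 : act 0 n122739 = n72651 := (sb E24299 (iv1 D153635))
def n170679 : Q := act 3 n81819
theorem D170679 : act 3 n81819 = n170679 := rfl
def n170680 : Q := act 4 n81819
theorem D170680 : act 4 n81819 = n170680 := rfl
theorem F268187 : act 0 n170680 = n98262 := d17_0 F151639 (iv1 D98252) D98254 F151602 F113424 (iv0 F118893) D37933 F125769 D170680
theorem F268188 : act 1 n170680 = n98270 := d18_6 (iv1 F127207) F127206 (iv1 F128907) F128902 F127994 D170680 (iv4 D98270) (iv0 F128069) (iv5 D83086)
def n170681 : Q := act 0 n81820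
theorem D170681 : act 0 n81820 = n170681 := rfl
theorem F268189 : act 4 n170681 = n82578 := d18_1 D170681 (iv1 D82578) D82579 (iv5 F127217) (iv4 D82597) F113315 (iv4 F127228) F127230 (iv5 F127226)
theorem F268190 : act 1 n82611 = n170681 := d15_0 (iv0 D170681) (iv7 F195933) F195932
def n170682 : Q := act 3 n81820
theorem D170682 : act 3 n81820 = n170682 := rfl
def n170683 : Q := act 6 n81820
theorem D170683 : act 6 n81820 = n170683 := rfl
theorem F268191 : act 4 n170683 = n81821 := d10_1 D170683 (iv6 D81821) D81820
def n170684 : Q := act 0 n81821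
theorem D170684 : act 0 n81821 = n170684 := rfl
def n170685 : Q := act 1 n81821
theorem D170685 : act 1 n81821 = n170685 := rfl
def n170686 : Q := act 5 n81821
theorem D170686 : act 5 n81821 = n170686 := rfl
theorem F268192 : act 6 n170686 = n81823 := d12_2 D81821 D170686 (iv5 D81823) (iv6 D37443) D37442
theorem F268193 : act 5 n101671 = n170685 := d21_6 (iv5 D82398) (iv1 D37790) D37791 F58638 D47280 D101671 (iv1 D170685) D170686 F268192 (iv1 F126916)
def n170687 : Q := act 7 n81821
theorem D170687 : act 7 n81821 = n170687 := rfl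
def n170688 : Q := act 4 n81823
theorem D170688 : act 4 n81823 = n170688 := rfl
def n170689 : Q := act 3 n81825
theorem D170689 : act 3 n81825 = n170689 := rfl
theorem F268194 : act 4 n170689 = n81828 := d5_2 D81825 D170689 (iv3 D81828) (iv4 D37451) (iv3 F58345)
theorem F268195 : act 6 n170689 = n124469 := d7_2 (iv6 F125772) D170689 (iv3 D124469)
def n170690 : Q := act 5 n81825
theorem D170690 : act 5 n81825 = n170690 := rfl
theorem F268196 : act 0 n170690 = n84234 := d17_2 F151305 D170690 (iv5 D84234) F126931 (iv5 F121903) (iv0 D45969) D45971 (iv0 F72545) D98123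
theorem F268197 : act 1 n170690 = n84237 := d17_6 (iv1 F58654) (iv5 F54728) F117793 D37449 D81825 D170690 (iv5 D84237) F126980 F126979
def n170691 : Q := act 0 n81828
theorem D170691 : act 0 n81828 = n170691 := rfl
def n170692 : Q := act 1 n81828
theorem D170692 : act 1 n81828 = n170692 := rfl
def n170693 : Q := act 2 n81828
theorem D170693 : act 2 n81828 = n170693 := rfl
theorem F268198 : act 6 n170693 = n124473 := d3_2 (iv6 F125773) D170693 (iv2 D124473)
def n170694 : Q := act 5 n81828
theorem D170694 : act 5 n81828 = n170694 := rfl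
theorem F268199 : act 3 n170694 = n81829 := d6_1 D170694 (iv5 D81829) D81828
def n170695 : Q := act 6 n81829
theorem D170695 : act 6 n81829 = n170695 := rfl
theorem F268200 : act 2 n170695 = n163204 := d3_1 D170695 F257487 F129729
theorem F268202 : act 5 n170695 = n121106 := d12_1 D170695 (iv6 D121106) F88384 (iv6 F58349) D81829
theorem F268203 : act 0 n170695 = n159271 := d21_4 F92744 (iv1 F58351) D81829 D170695 (iv6 D159271) (iv5 D76199) (iv1 D34805) D34807 F55011 D58703
def n170696 : Q := act 6 n81832
theorem D170696 : act 6 n81832 = n170696 := rfl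
theorem F268204 : act 3 n170696 = n154062 := d7_1 D170696 (iv6 D154062) F125785
def n170697 : Q := act 0 n81833
theorem D170697 : act 0 n81833 = n170697 := rfl
def n170698 : Q := act 1 n81833
theorem D170698 : act 1 n81833 = n170698 := rfl
def n170699 : Q := act 5 n81833
theorem D170699 : act 5 n81833 = n170699 := rfl
theorem F268205 : act 3 n170699 = n81834 := d6_1 D170699 (iv5 D81834) (iv3 F125786)
def n170701 : Q := act 4 n81834
theorem D170701 : act 4 n81834 = n170701 := rfl
theorem F268209 : act 0 n170701 = n124379 := d18_2 F126517 D170701 (iv4 D124379) (iv5 F198819) D159164 (iv0 F250601) (iv4 F126439) (iv0 F126440) D82105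
theorem F268210 : act 1 n170701 = n124382 := d18_6 (iv1 F91697) (iv4 F56087) (iv1 F118767) F60896 D81834 D170701 (iv4 D124382) F198815 F198813
def n170702 : Q := act 0 n81835
theorem D170702 : act 0 n81835 = n170702 := rfl
theorem F268211 : act 5 n170702 = n84781 := d17_3 (iv1 F118132) D81835 D170702 (iv4 D84781) (iv5 D39178) (iv0 D18586) (iv5 D8730) D8729 D18583
theorem F268212 : act 7 n122452 = n170702 := d13_0 F268211 F129988 D122452
theorem F268214 : act 4 n84722 = n170702 := d18_3 (iv1 D39130) D39131 D84722 F268211 (iv4 D84781) F117599 (iv4 F114137) (iv0 F123443) F123442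
def n170703 : Q := act 1 n81835
theorem D170703 : act 1 n81835 = n170703 := rfl
theorem F268215 : act 1 n170703 = n84735 := d15_1 D170703 (iv7 F132709) F132708
theorem F268216 : act 5 n84790 = n170703 := d21_6 F16637 D21897 F34384 D37540 (iv1 F118991) (iv6 F130003) (iv1 D170703) (iv5 D81835) (iv6 D37457) (iv1 D17987)
theorem F268217 : act 2 n170703 = n122452 := d2_1 F268216 (iv5 D122452) (iv2 F130002)
theorem F268218 : act 4 n84723 = n170703 := d18_7 (iv1 F60150) (iv4 D18583) (iv1 D8729) (iv4 F13632) D18574 D39131 D84723 F268215 (iv5 D84735)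
def n170704 : Q := act 4 n81835
theorem D170704 : act 4 n81835 = n170704 := rfl
def n170705 : Q := act 7 n81835
theorem D170705 : act 7 n81835 = n170705 := rfl
theorem F268219 : act 2 n170705 = n84735 := d4_1 D170705 (iv7 F132709) F132708
theorem F268220 : act 5 n170705 = n81836 := d13_1 D170705 (iv7 D81836) D81835
theorem F268221 : act 1 n122452 = n170705 := d15_1 (iv0 F195904) (iv7 D170705) (iv2 F132708)
def n170706 : Q := act 0 n81837
theorem D170706 : act 0 n81837 = n170706 := rfl
def n170707 : Q := act 1 n81837
theorem D170707 : act 1 n81837 = n170707 := rfl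
def n170708 : Q := act 2 n81837
theorem D170708 : act 2 n81837 = n170708 := rfl
theorem F268222 : act 3 n170708 = n83897 := d0_2 D81837 D170708 F128890 (iv3 F117195) F117194
def n170711 : Q := act 1 n81838
theorem D170711 : act 1 n81838 = n170711 := rfl
theorem F268226 : act 1 n170711 = n81841 := d15_1 D170711 (iv7 F195641) F195639
theorem F268227 : act 7 n170711 = n159169 := d15_2 F126542 D170711 F250618
theorem F268228 : act 5 n170711 = n85890 := d17_7 (iv1 F250639) F250635 (iv1 F132601) (iv5 D86469) (iv4 F117236) D81838 D170711 F131761 (iv4 F248753)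
theorem F268229 : act 4 n170711 = n85870 := d17_9 (iv1 F200998) F200995 (iv1 F195720) F195719 (iv4 D85829) (iv5 D39685) (iv0 F117235) D81838 D170711
theorem F268230 : act 2 n159171 = n170711 := d1_3 F268229 (iv2 F250624) (iv4 F250627)
def n170712 : Q := act 4 n81838
theorem D170712 : act 4 n81838 = n170712 := rfl
theorem F268231 : act 0 n170712 = n125126 := d18_2 (iv1 D170711) D170712 (iv4 D125126) (iv5 F117525) (iv4 F151455) F192236 (iv4 F126393) (iv0 F131759) (iv5 F268228)
theorem F268232 : act 1 n170712 = n125129 := d18_6 (iv1 F91430) F44601 (iv1 F91425) (iv4 F117236) D81838 D170712 (iv4 D125129) F92441 (iv5 D39694)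
def n170714 : Q := act 5 n81840
theorem D170714 : act 5 n81840 = n170714 := rfl
theorem F268233 : act 3 n170714 = n81841 := d6_1 D170714 (iv5 D81841) D81840
theorem F268234 : act 7 n170714 = n83902 := d13_2 (iv7 F125794) D170714 (iv5 D83902)
def n170715 : Q := act 6 n81840
theorem D170715 : act 6 n81840 = n170715 := rfl
theorem F268236 : act 4 n170715 = n83046 := d10_1 D170715 (iv6 D83046) (iv4 F125793)
def n170716 : Q := act 4 n81841
theorem D170716 : act 4 n81841 = n170716 := rfl
theorem F268237 : act 0 n170716 = n125129 := d18_2 (iv1 F132952) D170716 (iv4 D125129) (iv5 F117534) D159174 F250639 F248753 (iv0 D82132) D82134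
theorem F268238 : act 1 n170716 = n125126 := d18_6 D27839 F91427 (iv1 F91423) (iv4 F117234) D81841 D170716 (iv4 D125126) (iv0 D58507) (iv5 D27842)
def n170717 : Q := act 6 n81841
theorem D170717 : act 6 n81841 = n170717 := rfl
def n170718 : Q := act 5 n81842
theorem D170718 : act 5 n81842 = n170718 := rfl
theorem F268242 : act 1 n170718 = n122353 := d17_6 (iv1 F119025) D80347 (iv1 F123430) F123452 (iv4 F125795) D170718 (iv5 D122353) F118991 F58436
def n170720 : Q := act 4 n81843
theorem D170720 : act 4 n81843 = n170720 := rfl
theorem F268243 : act 0 n170720 = n125112 := d18_2 D81843 D170720 (iv4 D125112) (iv5 D58502) F91427 (iv0 F91424) (iv4 F117236) (iv0 D37458) D37460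
theorem F268244 : act 1 n170720 = n124344 := d18_6 F115589 (iv4 F126483) F152293 (iv4 F250612) F250611 D170720 (iv4 D124344) D124343 (iv5 F198878)
def n170723 : Q := act 4 n81844
theorem D170723 : act 4 n81844 = n170723 := rfl
theorem F268246 : act 0 n170723 = n124344 := d18_2 (iv1 F125799) D170723 (iv4 D124344) (iv5 D57972) F44601 (iv0 F91422) (iv4 F117234) F117232 D39685
theorem F268247 : act 1 n170723 = n125112 := d18_6 (iv1 F131721) (iv4 F262949) (iv1 F262953) (iv4 F195785) F195786 D170723 (iv4 D125112) (iv0 F192272) (iv5 D120639)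
def n170725 : Q := act 3 n81845
theorem D170725 : act 3 n81845 = n170725 := rfl
def n170726 : Q := act 6 n81846
theorem D170726 : act 6 n81846 = n170726 := rfl
theorem F268248 : act 2 n170726 = n98462 := d3_1 D170726 (iv6 D98462) F125803
theorem F268249 : act 4 n170726 = n98461 := d10_1 D170726 (iv6 D98461) (iv4 F125800)
def n170727 : Q := act 6 n81847
theorem D170727 : act 6 n81847 = n170727 := rfl
theorem F268250 : act 4 n170727 = n88937 := d10_1 D170727 (iv6 D88937) F125806
def n170728 : Q := act 6 n81848
theorem D170728 : act 6 n81848 = n170728 := rfl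
theorem F268251 : act 2 n170728 = n120682 := d3_1 D170728 (iv6 D120682) (iv2 F125808)
theorem F268252 : act 3 n170728 = n81850 := d7_1 D170728 (iv6 D81850) (iv3 F125809)
def n170729 : Q := act 0 n81849
theorem D170729 : act 0 n81849 = n170729 := rfl
theorem F268253 : act 4 n170729 = n98513 := d20_2 (iv4 F125814) D170729 (iv3 F233022) (iv1 F233024) (iv3 F184676) F232349 (iv1 F232346) D73314 F163035 (iv1 D81868)
theorem F268254 : act 2 n98514 = n170729 := d1_3 F268253 (iv2 D98513) D98514
def n170730 : Q := act 1 n81849
theorem D170730 : act 1 n81849 = n170730 := rfl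
theorem F268255 : act 7 n170730 = n98514 := d15_2 (iv0 D170729) D170730 F268254
theorem F268256 : act 4 n89049 = n170730 := d20_6 (iv4 F126113) (iv1 F89549) (iv4 F60127) F60126 (iv1 F64184) D89049 (iv1 D170730) F125814 F58373 D37485
theorem E24300 : n98517 = n89049 := (c11_1 D98517 F268256 F268255 (iv4 D98514))
theorem E24301 : n46069 = n41589 := ((((iv3 D89049)).symm.trans (sb E24300 F151915))).symm
theorem F268257 : act 7 n89049 = n46065 := (sb E24300 (iv7 D98517))
theorem E24302 : n98506 = n19586 := ((((iv1 D41589)).symm.trans (sb E24301 (iv1 F151906)))).symm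
theorem E24304 : n89048 = n22005 := (((iv2 F136723)).symm.trans (sb E24301 F72643))
theorem E24305 : n98523 = n38034 := ((((iv4 F184766)).symm.trans (sb E24301 (iv4 F151919)))).symm
theorem E24306 : n98528 = n89051 := (((D89051).symm.trans (sb E24301 (iv5 F151924)))).symm
theorem E24307 : n98533 = n89052 := (((D89052).symm.trans (sb E24301 D98533))).symm
theorem E24308 : n89043 = n22004 := ((F136720).symm.trans (sb E24301 (iv7 D46069)))
theorem E24309 : n46064 = n41588 := (((D41588).symm.trans (sb E24302 (iv1 D98506)))).symm
theorem F268258 : act 2 n22005 = n41589 := (sb E24304 F136723)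
theorem E24310 : n82754 = n46071 := (((D46071).symm.trans (sb E24304 F184764))).symm
theorem E24311 : n82749 = n46066 := ((F127508).symm.trans (sb E24305 (iv7 D98523)))
theorem F268259 : act 2 n89051 = n46072 := (sb E24306 F151923)
theorem F268260 : act 7 n89051 = n46067 := (sb E24306 (iv7 D98528))
theorem F268261 : act 2 n89052 = n46073 := (sb E24307 F151928)
theorem F268262 : act 7 n22004 = n41589 := (sb E24308 (iv7 F136720))
theorem F268263 : act 2 n41588 = n22004 := (sb E24309 (iv2 D46064))
theorem E24312 : n98507 = n89044 := (((D89044).symm.trans (sb E24309 D98507))).symm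
theorem E24313 : n98508 = n38033 := ((((iv4 F184760)).symm.trans (sb E24309 D98508))).symm
theorem E24314 : n98509 = n89046 := (((D89046).symm.trans (sb E24309 D98509))).symm
theorem E24315 : n98510 = n89047 := (((D89047).symm.trans (sb E24309 D98510))).symm
theorem F268264 : act 7 n41588 = n22005 := (sb E24309 (iv7 F72642))
theorem F268265 : act 2 n46071 = n38034 := (sb E24310 F127509)
theorem E24316 : n161653 = n98540 := (((D98540).symm.trans (sb E24310 (iv3 F255673)))).symm
theorem F268266 : act 7 n46066 = n38034 := (sb E24311 (iv7 F127508))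
theorem F268267 : act 2 n89044 = n87546 := (sb E24312 F233021)
theorem F268268 : act 7 n89044 = n46070 := (sb E24312 F151907)
theorem F268269 : act 2 n38033 = n46066 := (sb E24313 F151908)
theorem F268270 : act 7 n38033 = n46071 := (sb E24313 F151909)
theorem F268271 : act 2 n89046 = n46067 := (sb E24314 F151910)
theorem F268272 : act 7 n89046 = n46072 := (sb E24314 F151911)
theorem F268273 : act 2 n89047 = n46068 := (sb E24315 F151912)
theorem F268274 : act 2 n98540 = n77641 := (sb E24316 F255672)
theorem F268275 : act 7 n98540 = n77640 := (sb E24316 (iv7 D161653))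
theorem E24317 : n161649 = n161639 := (c15_4 (iv0 D161639) F151932 F268275 D161649)
theorem F268276 : act 2 n161639 = n77640 := (sb E24317 (iv2 D161649))
theorem F268277 : act 7 n161639 = n77641 := (sb E24317 (iv7 F255669))
theorem F268278 : act 2 n98522 = n82753 := d1_3 (iv4 F184763) F268273 (iv4 F151917)
theorem E24318 : n100129 = n98531 := ((c2_3 (iv5 F136722) F268273 D98531 F154056)).symm
theorem F268279 : act 2 n98531 = n46738 := (sb E24318 F154056)
theorem F268280 : act 7 n98531 = n46737 := (sb E24318 (iv7 D100129))
theorem F268281 : act 7 n100126 = n100960 := d11_2 F268280 D100126 F155575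
theorem E24319 : n100127 = n98532 := (c13_2 F268280 D100127 (iv7 D98532) D98531)
theorem F268282 : act 5 n98532 = n46737 := (sb E24319 (iv5 D100127))
theorem E24320 : n100124 = n99313 := (c15_4 (iv0 D99313) (iv0 F151926) F268280 D100124)
theorem F268283 : act 2 n99313 = n46737 := (sb E24320 (iv2 D100124))
theorem F268284 : act 7 n99313 = n46738 := (sb E24320 (iv7 F154054))
theorem F268285 : act 2 n100960 = n100131 := d15_3 F155578 (iv0 F155579) F268281
theorem F268286 : act 2 n100126 = n100959 := d15_3 (iv0 D100959) D100960 (iv7 F268281)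
theorem F268287 : act 4 n100959 = n99313 := d1_2 D100126 F268286 F268283
theorem F268288 : act 7 n100959 = n100131 := d4_2 (iv7 F268281) F268286 (iv2 F268285)
theorem F268289 : act 1 n100126 = n99449 := d15_0 (iv0 F155453) (iv7 F268288) (iv2 F268286)
theorem F268290 : act 4 n101824 = n98532 := d18_3 (iv1 F156732) (iv4 F74545) D101824 F268282 D100126 F268289 (iv4 D99449) D99448 (iv5 F153176)
theorem F268291 : act 7 n98522 = n101824 := d11_0 F268290 (iv7 D98532) (iv4 F151917)
theorem F268292 : act 7 n98541 = n82752 := d13_2 F268270 D98541 (iv5 D82752)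
theorem F268293 : act 2 n98521 = n82752 := d2_3 (iv5 D82752) F268269 D98521
theorem F268294 : act 1 n98536 = n87549 := d15_0 F233027 F268268 D98536
theorem F268295 : act 1 n87542 = n98536 := d15_0 F268294 (iv7 D87549) (iv2 F134438)
theorem F268296 : act 7 n82755 = n98520 := d8_2 F268266 D82755 (iv3 D98520)
theorem F268297 : act 7 n82757 = n98521 := d13_2 F268266 D82757 (iv5 D98521)
theorem F268298 : act 2 n98541 = n82757 := d4_3 F268297 F268293 (iv7 F268292)
theorem F268299 : act 2 n82758 = n98542 := d3_3 (iv6 D98542) F268265 D82758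
def n170731 : Q := act 5 n81849
theorem D170731 : act 5 n81849 = n170731 := rfl
theorem F268300 : act 3 n170731 = n81851 := d6_1 D170731 (iv5 D81851) (iv3 F125813)
def n170732 : Q := act 0 n81850
theorem D170732 : act 0 n81850 = n170732 := rfl
def n170733 : Q := act 1 n81850
theorem D170733 : act 1 n81850 = n170733 := rfl
def n170734 : Q := act 5 n81850
theorem D170734 : act 5 n81850 = n170734 := rfl
theorem F268301 : act 6 n170734 = n81851 := d12_2 D81850 D170734 (iv5 D81851) (iv6 D37474) D37473
def n170735 : Q := act 7 n81850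
theorem D170735 : act 7 n81850 = n170735 := rfl
def n170736 : Q := act 0 n81851
theorem D170736 : act 0 n81851 = n170736 := rfl
def n170737 : Q := act 4 n81851
theorem D170737 : act 4 n81851 = n170737 := rfl
theorem F268302 : act 0 n170737 = n162605 := d18_2 F263875 D170737 (iv4 D162605) (iv5 F195917) F195916 (iv0 D122456) (iv4 F195910) (iv0 F195911) D167621
theorem F268303 : act 1 n170737 = n162608 := d18_6 (iv1 F119243) (iv4 F124358) (iv1 D37476) (iv4 F58360) D81851 D170737 (iv4 D162608) F256763 F256762
def n170738 : Q := act 4 n81854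
theorem D170738 : act 4 n81854 = n170738 := rfl
theorem F268306 : act 5 n170738 = n162669 := d17_5 F117616 (iv5 D37477) D37475 D81854 D170738 (iv0 D162669) (iv5 D78143) D78141 (iv4 F119313)
def n170739 : Q := act 6 n81854
theorem D170739 : act 6 n81854 = n170739 := rfl
def n170740 : Q := act 4 n81856
theorem D170740 : act 4 n81856 = n170740 := rfl
theorem F268311 : act 6 n170740 = n163241 := d10_2 F141789 D170740 F257520
theorem F268314 : act 1 n170740 = n162632 := d18_6 (iv1 F56284) (iv4 F119242) (iv1 F119243) (iv4 F124358) D81856 D170740 (iv4 D162632) (iv0 D78106) (iv5 D35617)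
theorem F268315 : act 5 n162670 = n170740 := d17_7 (iv1 F119296) (iv5 D35622) (iv1 D17251) D17252 D35626 D78143 D162670 F268314 (iv4 D162632)
def n170741 : Q := act 7 n81857
theorem D170741 : act 7 n81857 = n170741 := rfl
theorem F268317 : act 4 n170741 = n121664 := d11_1 D170741 F195209 (iv4 F125873)
theorem F268319 : act 6 n170741 = n83130 := d14_1 D170741 F128148 (iv6 D38813) (iv7 F125832) D81857
theorem F268320 : act 1 n82146 = n170741 := d15_1 (iv0 F262638) (iv7 D170741) (iv2 F262633)
theorem F268321 : act 1 n170741 = n84061 := d15_1 F268320 (iv7 F197692) F197690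
def n170742 : Q := act 6 n81858
theorem D170742 : act 6 n81858 = n170742 := rfl
theorem F268323 : act 4 n170742 = n162661 := d10_1 D170742 (iv6 D162661) F129295
theorem F268324 : act 5 n170742 = n158017 := d21_6 (iv5 D34664) (iv1 F28026) D17994 (iv6 F58362) D81858 D170742 (iv1 D158017) F112861 (iv6 D75274) (iv1 F54905)
def n170743 : Q := act 3 n81859
theorem D170743 : act 3 n81859 = n170743 := rfl
theorem F268325 : act 4 n170743 = n81894 := d5_2 D81859 D170743 (iv3 D81894) (iv4 D37501) (iv3 F58361)
theorem F268326 : act 6 n170743 = n81861 := d7_2 (iv6 F125875) D170743 (iv3 D81861)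
def n170744 : Q := act 5 n81859
theorem D170744 : act 5 n81859 = n170744 := rfl
def n170745 : Q := act 0 n81861
theorem D170745 : act 0 n81861 = n170745 := rfl
def n170746 : Q := act 1 n81861
theorem D170746 : act 1 n81861 = n170746 := rfl
def n170747 : Q := act 2 n81861
theorem D170747 : act 2 n81861 = n170747 := rfl
theorem F268327 : act 4 n170747 = n81915 := d1_2 (iv4 F125878) D170747 (iv2 D81915)
def n170748 : Q := act 5 n81861
theorem D170748 : act 5 n81861 = n170748 := rfl
theorem F268328 : act 3 n170748 = n81862 := d6_1 D170748 (iv5 D81862) D81861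
def n170749 : Q := act 6 n81862
theorem D170749 : act 6 n81862 = n170749 := rfl
def n170750 : Q := act 6 n81863
theorem D170750 : act 6 n81863 = n170750 := rfl
theorem F268329 : act 2 n170750 = n124701 := d3_1 D170750 (iv6 D124701) (iv2 F125881)
theorem F268330 : act 3 n170750 = n81864 := d7_1 D170750 (iv6 D81864) D81863
theorem F268331 : act 4 n170750 = n123208 := d10_1 D170750 (iv6 D123208) (iv4 F125882)
theorem E24321 : n123426 = n123208 := ((c20_7 F60097 (iv1 F29807) D18583 D39166 (iv1 F199503) (iv3 F268330) F268331 (iv1 D123426) (iv4 F120844) (iv3 D39120) (iv1 F60099))).symm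
theorem F268332 : act 0 n123208 = n57491 := (sb E24321 (iv1 D123426))
def n170751 : Q := act 0 n81864
theorem D170751 : act 0 n81864 = n170751 := rfl
theorem F268333 : act 2 n84646 = n170751 := d15_3 (iv0 D170751) F199503 (iv7 F129843)
theorem F268335 : act 7 n170751 = n84762 := d4_2 (iv7 F129843) F268333 (iv2 D84762)
theorem F268336 : act 1 n101013 = n84762 := d15_1 (iv0 F191125) (iv7 F268335) (iv2 F268333)
theorem F268337 : act 1 n84761 = n170751 := d15_1 D84761 F268335 (iv2 D84762)
def n170752 : Q := act 5 n81864
theorem D170752 : act 5 n81864 = n170752 := rfl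
theorem F268339 : act 6 n170752 = n87965 := d12_2 D81864 D170752 (iv5 D87965) (iv6 D41070) (iv5 F62305)
def n170753 : Q := act 7 n81864
theorem D170753 : act 7 n81864 = n170753 := rfl
theorem F268340 : act 2 n170753 = n84761 := d4_1 D170753 F199502 F155623
theorem F268341 : act 1 n84762 = n170753 := d15_1 F268336 (iv7 D170753) (iv2 F155623)
theorem F268342 : act 1 n170753 = n84646 := d15_1 F268341 F129843 D84762
def n170754 : Q := act 1 n81865
theorem D170754 : act 1 n81865 = n170754 := rfl
def n170755 : Q := act 5 n81865
theorem D170755 : act 5 n81865 = n170755 := rfl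
theorem F268343 : act 3 n170755 = n154059 := d6_1 D170755 (iv5 D154059) (iv3 F125887)
theorem F268344 : act 6 n170755 = n87959 := d12_2 D81865 D170755 (iv5 D87959) (iv6 D41067) (iv5 F58369)
def n170756 : Q := act 5 n81866
theorem D170756 : act 5 n81866 = n170756 := rfl
theorem F268345 : act 2 n170756 = n86951 := d2_1 D170756 (iv5 D86951) (iv2 F125889)
theorem F268346 : act 3 n170756 = n81873 := d6_1 D170756 (iv5 D81873) (iv3 F125890)
theorem F268347 : act 6 n170756 = n81869 := d12_2 D81866 D170756 (iv5 D81869) (iv6 D37483) D37482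
def n170757 : Q := act 3 n81867
theorem D170757 : act 3 n81867 = n170757 := rfl
theorem F268348 : act 2 n170757 = n153867 := d0_1 D170757 (iv3 D153867) F184629 F184637 F184641
theorem F268349 : act 4 n170757 = n153878 := d5_2 F206358 D170757 F241800 (iv4 F242566) F242565
theorem F268350 : act 7 n170757 = n154628 := d8_2 (iv7 F184642) D170757 F242740
theorem F268351 : act 1 n154627 = n170757 := d15_1 D154627 F268350 (iv2 D154628)
theorem F268352 : act 1 n170757 = n154626 := d15_0 (iv0 D154626) (iv7 F241759) (iv2 F268348)
def n170758 : Q := act 5 n81867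
theorem D170758 : act 5 n81867 = n170758 := rfl
def n170759 : Q := act 6 n81867
theorem D170759 : act 6 n81867 = n170759 := rfl
def n170760 : Q := act 5 n81868
theorem D170760 : act 5 n81868 = n170760 := rfl
theorem F268353 : act 3 n170760 = n154620 := d6_1 D170760 (iv5 D154620) F163035
def n170761 : Q := act 6 n81868
theorem D170761 : act 6 n81868 = n170761 := rfl
theorem F268354 : act 3 n170761 = n154621 := d7_1 D170761 (iv6 D154621) F163035
def n170762 : Q := act 0 n81869
theorem D170762 : act 0 n81869 = n170762 := rfl
def n170763 : Q := act 1 n81869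
theorem D170763 : act 1 n81869 = n170763 := rfl
def n170764 : Q := act 4 n81869
theorem D170764 : act 4 n81869 = n170764 := rfl
def n170765 : Q := act 7 n81869
theorem D170765 : act 7 n81869 = n170765 := rfl
theorem F268356 : act 5 n170765 = n81870 := d13_1 D170765 (iv7 D81870) D81869
def n170766 : Q := act 2 n81871
theorem D170766 : act 2 n81871 = n170766 := rfl
theorem F268357 : act 7 n81872 = n170766 := d15_2 (iv0 D81871) D81872 (iv2 D170766)
def n170767 : Q := act 5 n81871
theorem D170767 : act 5 n81871 = n170767 := rfl
def n170768 : Q := act 6 n81871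
theorem D170768 : act 6 n81871 = n170768 := rfl
theorem F268358 : act 5 n170768 = n99877 := d21_6 F34899 (iv1 F29152) D17996 D37484 D81871 D170768 (iv1 D99877) (iv5 D46644) (iv6 D22357) D22355
def n170769 : Q := act 7 n81871
theorem D170769 : act 7 n81871 = n170769 := rfl
theorem F268359 : act 2 n170769 = n81872 := d4_1 D170769 F268357 (iv2 D170766)
def n170770 : Q := act 3 n81872
theorem D170770 : act 3 n81872 = n170770 := rfl
theorem F268360 : act 4 n170770 = n87467 := d20_6 (iv4 F62862) F62859 F62639 D44290 (iv1 F125895) D170770 (iv1 D87467) F61810 F30889 D19229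
theorem F268361 : act 0 n170770 = n95731 := d20_10 F147425 F157624 F65900 (iv3 D41593) (iv1 F31368) (iv3 F34497) (iv4 F69204) D94104 F145025 D170770
theorem F268362 : act 0 n95959 = n170770 := d20_4 (iv4 F62855) D44076 D94280 (iv3 F147593) (iv3 D170770) (iv4 F145025) (iv1 F145026) F72303 (iv3 F64179) F135032
theorem F268363 : act 3 n87467 = n96950 := d20_3 D95959 F268362 F268360 (iv1 D96950) F71404 F34009 (iv1 F66247) F35773 D21327 D44785
def n170771 : Q := act 5 n81872
theorem D170771 : act 5 n81872 = n170771 := rfl
def n170772 : Q := act 6 n81872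
theorem D170772 : act 6 n81872 = n170772 := rfl
def n170774 : Q := act 1 n81873
theorem D170774 : act 1 n81873 = n170774 := rfl
theorem F268364 : act 1 n170774 = n94798 := d15_1 D170774 F146125 F136394
theorem F268365 : act 5 n88041 = n170774 := d21_6 F34386 (iv1 D18015) (iv5 F14159) D19344 D41105 D88041 (iv1 D170774) (iv5 D81873) (iv6 D37484) F34387
def n170775 : Q := act 4 n81873
theorem D170775 : act 4 n81873 = n170775 := rfl
def n170780 : Q := act 6 n81876
theorem D170780 : act 6 n81876 = n170780 := rfl
def n170787 : Q := act 3 n81881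
theorem D170787 : act 3 n81881 = n170787 := rfl
def n170788 : Q := act 4 n81881
theorem D170788 : act 4 n81881 = n170788 := rfl
def n170789 : Q := act 6 n81881
theorem D170789 : act 6 n81881 = n170789 := rfl
def n170791 : Q := act 4 n81882
theorem D170791 : act 4 n81882 = n170791 := rfl
theorem F268380 : act 0 n170791 = n124341 := d18_2 (iv1 F195539) D170791 (iv4 D124341) (iv5 D57970) F44598 (iv0 F126109) (iv4 F124379) F89560 (iv5 F195537)
def n170792 : Q := act 6 n81882
theorem D170792 : act 6 n81882 = n170792 := rfl
def n170793 : Q := act 0 n81883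
theorem D170793 : act 0 n81883 = n170793 := rfl
theorem F268381 : act 4 n170793 = n84671 := d18_3 (iv1 D81882) D81883 D170793 F192265 F192263 F117320 (iv4 F89765) (iv0 F195931) F195683
def n170798 : Q := act 6 n81884
theorem D170798 : act 6 n81884 = n170798 := rfl
theorem F268384 : act 5 n170798 = n85830 := d12_1 D170798 (iv6 D85830) (iv5 D39685) (iv6 F117238) (iv5 F125900)
def n170799 : Q := act 0 n81885
theorem D170799 : act 0 n81885 = n170799 := rfl
def n170805 : Q := act 7 n81887
theorem D170805 : act 7 n81887 = n170805 := rfl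
theorem F268390 : act 4 n170805 = n81889 := d11_1 D170805 (iv7 D81889) (iv4 F125903)
def n170807 : Q := act 5 n81888
theorem D170807 : act 5 n81888 = n170807 := rfl
theorem F268394 : act 0 n170807 = n161507 := d17_2 (iv1 F201484) D170807 (iv5 D161507) (iv4 D77540) (iv5 D35400) D35399 D77536 F151440 (iv4 F201483)
def n170808 : Q := act 3 n81890
theorem D170808 : act 3 n81890 = n170808 := rfl
def n170809 : Q := act 5 n81890
theorem D170809 : act 5 n81890 = n170809 := rfl
theorem F268395 : act 2 n170809 = n86085 := d2_1 D170809 (iv5 D86085) (iv2 F125908)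
def n170810 : Q := act 6 n81890
theorem D170810 : act 6 n81890 = n170810 := rfl
theorem F268396 : act 2 n170810 = n84749 := d3_1 D170810 F129958 (iv2 F125908)
theorem F268397 : act 4 n170810 = n81891 := d10_1 D170810 (iv6 D81891) D81890
theorem F268398 : act 7 n84747 = n170810 := d11_0 F268397 F126226 D84747
theorem F268399 : act 0 n124446 = n170810 := d18_2 F256144 F256139 F268397 (iv5 F129982) (iv4 F263587) F263585 (iv4 F263557) F263561 (iv5 F193854)
theorem F268400 : act 1 n121502 = n170810 := d18_6 (iv1 D18564) (iv4 F29801) D39087 F60092 D56101 D121502 F268397 (iv0 F126224) (iv5 D39097)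
def n170811 : Q := act 3 n81892
theorem D170811 : act 3 n81892 = n170811 := rfl
theorem F268401 : act 4 n170811 = n84233 := d5_2 (iv4 F195511) D170811 (iv3 D84233) F126931 (iv3 F195504)
def n170812 : Q := act 5 n81892
theorem D170812 : act 5 n81892 = n170812 := rfl
def n170813 : Q := act 6 n81892
theorem D170813 : act 6 n81892 = n170813 := rfl
def n170814 : Q := act 3 n81893
theorem D170814 : act 3 n81893 = n170814 := rfl
theorem F268402 : act 4 n170814 = n163636 := d5_2 (iv4 F126227) D170814 (iv3 D163636) (iv4 D78622) D78621
def n170815 : Q := act 5 n81893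
theorem D170815 : act 5 n81893 = n170815 := rfl
def n170816 : Q := act 0 n81894
theorem D170816 : act 0 n81894 = n170816 := rfl
def n170817 : Q := act 1 n81894
theorem D170817 : act 1 n81894 = n170817 := rfl
def n170818 : Q := act 2 n81894
theorem D170818 : act 2 n81894 = n170818 := rfl
theorem F268403 : act 6 n170818 = n81915 := d3_2 (iv6 F126228) D170818 (iv2 D81915)
def n170819 : Q := act 5 n81894
theorem D170819 : act 5 n81894 = n170819 := rfl
theorem F268404 : act 3 n170819 = n81895 := d6_1 D170819 (iv5 D81895) D81894
def n170820 : Q := act 7 n81894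
theorem D170820 : act 7 n81894 = n170820 := rfl
theorem F268405 : act 3 n170820 = n81896 := d8_1 D170820 (iv7 D81896) D81894
def n170822 : Q := act 1 n81895
theorem D170822 : act 1 n81895 = n170822 := rfl
def n170825 : Q := act 7 n81895
theorem D170825 : act 7 n81895 = n170825 := rfl
theorem F268407 : act 5 n170825 = n81896 := d13_1 D170825 (iv7 D81896) D81895
def n170826 : Q := act 0 n81897
theorem D170826 : act 0 n81897 = n170826 := rfl
theorem F268408 : act 1 n157861 = n170826 := d15_0 (iv0 D170826) F126230 D157861
def n170827 : Q := act 1 n81897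
theorem D170827 : act 1 n81897 = n170827 := rfl
def n170828 : Q := act 2 n81897
theorem D170828 : act 2 n81897 = n170828 := rfl
theorem F268409 : act 3 n170828 = n86162 := d0_2 D81897 D170828 (iv2 D86162) (iv3 D39880) (iv2 F58379)
theorem F268410 : act 7 n170828 = n157861 := d4_2 (iv7 F126230) D170828 (iv2 D157861)
theorem F268411 : act 1 n170828 = n157859 := d15_0 (iv0 D157859) (iv7 F126230) D170828
theorem F268412 : act 1 n170827 = n157861 := d15_1 D170827 (iv7 F268410) (iv2 D170828)
theorem F268413 : act 1 n157860 = n170828 := d15_1 D157860 F268410 (iv2 D157861)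
def n170829 : Q := act 6 n81897
theorem D170829 : act 6 n81897 = n170829 := rfl
theorem F268414 : act 3 n170829 = n81898 := d7_1 D170829 (iv6 D81898) D81897
def n170830 : Q := act 0 n81898
theorem D170830 : act 0 n81898 = n170830 := rfl
theorem F268416 : act 6 n170830 = n161429 := d21_5 (iv5 F112779) (iv1 F112787) F112785 D81898 D170830 (iv5 F255323) (iv1 D124456) (iv5 D58039) F44608 D39968
theorem F268417 : act 2 n86167 = n170830 := d3_3 F268416 F255319 F257552
theorem F268418 : act 7 n86168 = n170830 := d14_0 F268416 F255320 (iv6 F131995) (iv7 F201488) (iv6 F254736)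
def n170831 : Q := act 1 n81898
theorem D170831 : act 1 n81898 = n170831 := rfl
theorem F268420 : act 1 n170831 = n84808 := d15_1 D170831 F130014 (iv2 F126231)
theorem F268421 : act 7 n170831 = n86167 := d15_2 (iv0 D170830) D170831 F268417
theorem F268422 : act 2 n86168 = n170831 := d4_3 F268421 F268417 (iv7 F268418)
theorem F268423 : act 4 n162164 = n170831 := d11_3 F268421 F257551 (iv7 F256269)
theorem F268424 : act 6 n86053 = n170831 := d14_5 F268421 (iv6 F257552) (iv7 F255933) F255932 (iv7 F201486)
def n170833 : Q := act 7 n81898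
theorem D170833 : act 7 n81898 = n170833 := rfl
theorem F268427 : act 4 n170833 = n81900 := d11_1 D170833 (iv7 D81900) (iv4 F126232)
theorem F268429 : act 1 n86168 = n170833 := d15_1 D86168 (iv7 D170833) F126231
theorem F268430 : act 1 n170833 = n86167 := d15_1 F268429 (iv7 F268421) (iv2 F268422)
def n170834 : Q := act 4 n81899
theorem D170834 : act 4 n81899 = n170834 := rfl
theorem F268431 : act 2 n170834 = n86173 := d1_1 D170834 (iv4 D86173) F126238
theorem F268433 : act 7 n170834 = n86171 := d11_2 (iv7 F126234) D170834 (iv4 D86171)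
theorem F268434 : act 0 n170834 = n157870 := d20_1 D170834 F248791 F116155 F119072 F56372 (iv4 F56403) F60239 F60237 (iv3 F60166) (iv1 F126233)
def n170835 : Q := act 0 n81901
theorem D170835 : act 0 n81901 = n170835 := rfl
def n170836 : Q := act 1 n81901
theorem D170836 : act 1 n81901 = n170836 := rfl
def n170837 : Q := act 2 n81901
theorem D170837 : act 2 n81901 = n170837 := rfl
theorem F268435 : act 3 n170837 = n86195 := d0_2 D81901 D170837 (iv2 D86195) (iv3 D39894) (iv2 F58384)
def n170838 : Q := act 5 n81901
theorem D170838 : act 5 n81901 = n170838 := rfl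
theorem F268436 : act 3 n170838 = n81902 := d6_1 D170838 (iv5 D81902) D81901
def n170839 : Q := act 6 n81901
theorem D170839 : act 6 n81901 = n170839 := rfl
theorem F268437 : act 3 n170839 = n81903 := d7_1 D170839 (iv6 D81903) D81901
def n170840 : Q := act 6 n81902
theorem D170840 : act 6 n81902 = n170840 := rfl
theorem F268438 : act 2 n170840 = n86199 := d3_1 D170840 (iv6 D86199) (iv2 F126243)
theorem F268439 : act 4 n170840 = n86349 := d10_1 D170840 (iv6 D86349) (iv4 F126244)
def n170841 : Q := act 1 n81903
theorem D170841 : act 1 n81903 = n170841 := rfl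
theorem F268440 : act 1 n170841 = n86203 := d15_1 D170841 (iv7 D86203) (iv2 F126245)
theorem F268441 : act 7 n170841 = n86200 := d15_2 (iv0 F256703) D170841 (iv2 F256704)
theorem F268442 : act 4 n170841 = n166852 := d18_7 (iv1 F256268) F268423 (iv1 D170831) F126232 (iv5 F58387) (iv4 F126246) D170841 F262604 F254740
theorem F268443 : act 2 n86201 = n170841 := d1_3 F268442 F262607 F256710
def n170842 : Q := act 5 n81903
theorem D170842 : act 5 n81903 = n170842 := rfl
theorem F268444 : act 2 n170842 = n86202 := d2_1 D170842 (iv5 D86202) (iv2 F126245)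
def n170843 : Q := act 7 n81903
theorem D170843 : act 7 n81903 = n170843 := rfl
theorem F268445 : act 2 n170843 = n86203 := d4_1 D170843 (iv7 D86203) (iv2 F126245)
theorem F268447 : act 6 n170843 = n124335 := d14_1 D170843 (iv7 D124335) F91710 F60813 D81903
def n170844 : Q := act 2 n81904
theorem D170844 : act 2 n81904 = n170844 := rfl
theorem F268450 : act 7 n81905 = n170844 := d15_2 (iv0 D81904) D81905 (iv2 D170844)
def n170845 : Q := act 4 n81904
theorem D170845 : act 4 n81904 = n170845 := rfl
def n170846 : Q := act 5 n81904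
theorem D170846 : act 5 n81904 = n170846 := rfl
theorem F268452 : act 6 n170846 = n125316 := d12_2 F132169 D170846 (iv5 F201562) (iv6 D86213) D86212
theorem F268453 : act 0 n170846 = n159249 := d21_1 D170846 F250738 (iv6 D92215) (iv1 F124425) F58519 (iv5 D18056) (iv1 F28302) F29164 D37506 D81904
def n170847 : Q := act 7 n81904
theorem D170847 : act 7 n81904 = n170847 := rfl
theorem F268455 : act 2 n170847 = n81905 := d4_1 D170847 F268450 (iv2 D170844)
def n170848 : Q := act 4 n81905
theorem D170848 : act 4 n81905 = n170848 := rfl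
theorem F268456 : act 0 n170848 = n81912 := d18_2 (iv1 F126247) D170848 F126258 F116157 (iv4 F248791) (iv0 F268434) (iv4 D170834) F126233 (iv5 F60711)
def n170849 : Q := act 0 n81907
theorem D170849 : act 0 n81907 = n170849 := rfl
theorem F268457 : act 3 n170849 = n86220 := d20_5 F60706 F44035 (iv4 F58388) D81907 D170849 (iv4 D86220) (iv1 D39901) (iv4 F60708) (iv3 D39894) D39893
def n170850 : Q := act 1 n81907
theorem D170850 : act 1 n81907 = n170850 := rfl
def n170851 : Q := act 2 n81907
theorem D170851 : act 2 n81907 = n170851 := rfl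
theorem F268458 : act 4 n170851 = n84301 := d1_2 (iv4 F126254) D170851 (iv2 D84301)
def n170852 : Q := act 5 n81907
theorem D170852 : act 5 n81907 = n170852 := rfl
theorem F268459 : act 3 n170852 = n81908 := d6_1 D170852 (iv5 D81908) D81907
def n170853 : Q := act 6 n81907
theorem D170853 : act 6 n81907 = n170853 := rfl
theorem F268460 : act 3 n170853 = n81909 := d7_1 D170853 (iv6 D81909) D81907
theorem F268461 : act 4 n170853 = n84303 := d10_1 D170853 (iv6 D84303) (iv4 F126254)
def n170854 : Q := act 6 n81908
theorem D170854 : act 6 n81908 = n170854 := rfl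
def n170855 : Q := act 5 n81909
theorem D170855 : act 5 n81909 = n170855 := rfl
theorem F268462 : act 0 n170855 = n124410 := d17_2 F126256 D170855 (iv5 D124410) (iv4 D58007) (iv5 D27668) (iv0 D13209) D13211 D27676 D58034
theorem F268463 : act 1 n170855 = n124432 := d17_6 F135906 (iv5 D88643) (iv1 D41377) D41378 (iv4 F126255) D170855 (iv5 D124432) F198958 F198957
def n170856 : Q := act 7 n81909
theorem D170856 : act 7 n81909 = n170856 := rfl
theorem F268466 : act 1 n82116 = n170856 := d15_1 (iv0 F195599) (iv7 D170856) (iv2 F195597)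
theorem F268467 : act 1 n170856 = n84771 := d15_1 F268466 (iv7 F129971) (iv2 F126535)
def n170857 : Q := act 0 n81910
theorem D170857 : act 0 n81910 = n170857 := rfl
def n170858 : Q := act 1 n81910
theorem D170858 : act 1 n81910 = n170858 := rfl
def n170859 : Q := act 2 n81910
theorem D170859 : act 2 n81910 = n170859 := rfl
theorem F268468 : act 4 n170859 = n163412 := d1_2 (iv4 F126257) D170859 (iv2 D163412)
def n170860 : Q := act 5 n81910
theorem D170860 : act 5 n81910 = n170860 := rfl
theorem F268469 : act 3 n170860 = n81911 := d6_1 D170860 (iv5 D81911) D81910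
def n170861 : Q := act 6 n81910
theorem D170861 : act 6 n81910 = n170861 := rfl
theorem F268470 : act 3 n170861 = n81912 := d7_1 D170861 (iv6 D81912) D81910
def n170862 : Q := act 6 n81911
theorem D170862 : act 6 n81911 = n170862 := rfl
def n170863 : Q := act 5 n81912
theorem D170863 : act 5 n81912 = n170863 := rfl
def n170864 : Q := act 7 n81912
theorem D170864 : act 7 n81912 = n170864 := rfl
theorem F268472 : act 4 n170864 = n161134 := d11_1 D170864 (iv7 D161134) (iv4 F126258)
theorem F268473 : act 6 n170864 = n124436 := d14_1 D170864 F199032 (iv6 D122321) (iv7 F89577) D81912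
def n170865 : Q := act 3 n81913
theorem D170865 : act 3 n81913 = n170865 := rfl
def n170866 : Q := act 4 n81913
theorem D170866 : act 4 n81913 = n170866 := rfl
theorem F268476 : act 2 n170866 = n166704 := d1_1 D170866 F262393 F262396
def n170867 : Q := act 5 n81913
theorem D170867 : act 5 n81913 = n170867 := rfl
def n170868 : Q := act 6 n81913
theorem D170868 : act 6 n81913 = n170868 := rfl
def n170869 : Q := act 3 n81914
theorem D170869 : act 3 n81914 = n170869 := rfl
theorem F268477 : act 4 n170869 = n125446 := d5_2 F254054 D170869 (iv3 F254339) F254340 D160894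
theorem F268478 : act 2 n125447 = n170869 := d1_3 F268477 (iv2 D125446) D125447
theorem F268479 : act 1 n86215 = n170869 := d18_6 (iv1 F254408) F254261 (iv1 D157824) (iv4 D75190) F248725 D86215 F268477 F254405 F254361
theorem F268480 : act 0 n86220 = n170869 := d20_1 D86220 F268477 (iv3 F254339) (iv1 F254416) F254417 F201653 (iv1 F201652) F112727 (iv3 F60824) (iv1 F60828)
def n170870 : Q := act 5 n81914
theorem D170870 : act 5 n81914 = n170870 := rfl
def n170871 : Q := act 6 n81914
theorem D170871 : act 6 n81914 = n170871 := rfl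
def n170872 : Q := act 5 n81915
theorem D170872 : act 5 n81915 = n170872 := rfl
theorem F268481 : act 2 n170872 = n81916 := d2_1 D170872 (iv5 D81916) D81915
def n170873 : Q := act 0 n81916
theorem D170873 : act 0 n81916 = n170873 := rfl
def n170874 : Q := act 1 n81916
theorem D170874 : act 1 n81916 = n170874 := rfl
def n170875 : Q := act 4 n81916
theorem D170875 : act 4 n81916 = n170875 := rfl
def n170877 : Q := act 3 n81917
theorem D170877 : act 3 n81917 = n170877 := rfl
theorem F268483 : act 5 n170877 = n102780 := d6_2 (iv5 F126260) D170877 (iv3 D102780)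
def n170878 : Q := act 6 n81917
theorem D170878 : act 6 n81917 = n170878 := rfl
def n170879 : Q := act 3 n81918
theorem D170879 : act 3 n81918 = n170879 := rfl
theorem F268484 : act 5 n170879 = n157869 := d6_2 (iv5 F126263) D170879 (iv3 D157869)
def n170880 : Q := act 6 n81918
theorem D170880 : act 6 n81918 = n170880 := rfl
def n170884 : Q := act 6 n81920
theorem D170884 : act 6 n81920 = n170884 := rfl
theorem F268485 : act 4 n170884 = n81921 := d10_1 D170884 (iv6 D81921) D81920
def n170885 : Q := act 0 n81921
theorem D170885 : act 0 n81921 = n170885 := rfl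
def n170886 : Q := act 1 n81921
theorem D170886 : act 1 n81921 = n170886 := rfl
def n170887 : Q := act 5 n81921
theorem D170887 : act 5 n81921 = n170887 := rfl
theorem F268486 : act 6 n170887 = n99521 := d12_2 D81921 D170887 (iv5 D99521) (iv6 D46524) (iv5 F72916)
def n170888 : Q := act 7 n81921
theorem D170888 : act 7 n81921 = n170888 := rfl
def n170889 : Q := act 6 n81922
theorem D170889 : act 6 n81922 = n170889 := rfl
theorem F268487 : act 4 n170889 = n81923 := d10_1 D170889 (iv6 D81923) D81922
def n170890 : Q := act 0 n81923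
theorem D170890 : act 0 n81923 = n170890 := rfl
def n170891 : Q := act 1 n81923
theorem D170891 : act 1 n81923 = n170891 := rfl
def n170892 : Q := act 5 n81923
theorem D170892 : act 5 n81923 = n170892 := rfl
theorem F268488 : act 6 n170892 = n99549 := d12_2 D81923 D170892 (iv5 D99549) (iv6 D46534) (iv5 F75468)
def n170893 : Q := act 7 n81923
theorem D170893 : act 7 n81923 = n170893 := rfl
def n170894 : Q := act 0 n81924
theorem D170894 : act 0 n81924 = n170894 := rfl
def n170895 : Q := act 1 n81924
theorem D170895 : act 1 n81924 = n170895 := rfl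
def n170896 : Q := act 5 n81924
theorem D170896 : act 5 n81924 = n170896 := rfl
theorem F268490 : act 6 n170896 = n81927 := d12_2 D81924 D170896 (iv5 D81927) (iv6 D37514) D37513
def n170897 : Q := act 7 n81924
theorem D170897 : act 7 n81924 = n170897 := rfl
theorem F268491 : act 3 n170897 = n81932 := d8_1 D170897 (iv7 D81932) (iv3 F126266)
theorem F268492 : act 6 n170897 = n98382 := d14_1 D170897 (iv7 D98382) (iv6 D46026) (iv7 F58393) D81924
def n170912 : Q := act 2 n81929
theorem D170912 : act 2 n81929 = n170912 := rfl
theorem F268499 : act 7 n81930 = n170912 := d15_2 (iv0 D81929) D81930 (iv2 D170912)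
def n170915 : Q := act 5 n81929
theorem D170915 : act 5 n81929 = n170915 := rfl
def n170916 : Q := act 6 n81929
theorem D170916 : act 6 n81929 = n170916 := rfl
theorem F268500 : act 5 n170916 = n84689 := d21_6 F29814 (iv1 F21779) D18006 D37515 D81929 D170916 (iv1 D84689) (iv5 D39117) (iv6 D18571) D18570
def n170917 : Q := act 7 n81929
theorem D170917 : act 7 n81929 = n170917 := rfl
theorem F268501 : act 2 n170917 = n81930 := d4_1 D170917 F268499 (iv2 D170912)
def n170918 : Q := act 3 n81930
theorem D170918 : act 3 n81930 = n170918 := rfl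
def n170919 : Q := act 4 n81930
theorem D170919 : act 4 n81930 = n170919 := rfl
def n170920 : Q := act 5 n81930
theorem D170920 : act 5 n81930 = n170920 := rfl
def n170921 : Q := act 6 n81930
theorem D170921 : act 6 n81930 = n170921 := rfl
theorem F268502 : act 5 n100005 = n170921 := d21_2 D46703 D100005 (iv6 D170921) (iv1 D81930) (iv6 D37515) (iv5 D18006) (iv1 F17200) (iv5 D10655) D10656 D22396
theorem F268503 : act 5 n100023 = n98393 := d21_0 (iv1 F195859) F195856 F89710 (iv1 F126269) D170921 (iv5 F268502) (iv1 F153956) (iv5 D46708) D46709 D100023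
def n170922 : Q := act 0 n81931
theorem D170922 : act 0 n81931 = n170922 := rfl
def n170923 : Q := act 1 n81931
theorem D170923 : act 1 n81931 = n170923 := rfl
theorem F268504 : act 1 n170923 = n82044 := d15_1 D170923 (iv7 D82044) (iv2 F126270)
theorem F268505 : act 5 n124349 = n170923 := d21_6 F22003 (iv1 D13206) D13207 D27660 D57973 D124349 (iv1 D170923) (iv5 D81931) (iv6 D37515) F29169
def n170925 : Q := act 7 n81931
theorem D170925 : act 7 n81931 = n170925 := rfl
theorem F268508 : act 2 n170925 = n82044 := d4_1 D170925 (iv7 D82044) (iv2 F126270)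
theorem F268509 : act 5 n170925 = n81932 := d13_1 D170925 (iv7 D81932) D81931
theorem F268510 : act 1 n82044 = n170922 := d15_0 (iv0 D170922) D170925 F268508
theorem F268511 : act 1 n82042 = n170925 := d15_1 D82042 (iv7 D170925) F126270
theorem F268512 : act 1 n170925 = n82041 := d15_0 (iv0 D82041) D82044 (iv2 F268508)
def n170927 : Q := act 1 n81933
theorem D170927 : act 1 n81933 = n170927 := rfl
def n170928 : Q := act 2 n81933
theorem D170928 : act 2 n81933 = n170928 := rfl
theorem F268514 : act 3 n170928 = n82047 := d0_2 D81933 D170928 (iv2 D82047) (iv3 D37598) (iv2 F91563)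
theorem F268515 : act 4 n170928 = n122052 := d1_2 (iv4 F126278) D170928 (iv2 D122052)
theorem F268516 : act 7 n170928 = n82062 := d4_2 (iv7 F126279) D170928 (iv2 D82062)
theorem F268517 : act 1 n170928 = n82060 := d15_0 (iv0 D82060) (iv7 F126279) D170928
theorem F268518 : act 1 n170927 = n82062 := d15_1 D170927 (iv7 F268516) (iv2 D170928)
theorem F268519 : act 1 n82061 = n170928 := d15_1 D82061 F268516 (iv2 D82062)
def n170929 : Q := act 5 n81933
theorem D170929 : act 5 n81933 = n170929 := rfl
theorem F268521 : act 7 n170929 = n82064 := d13_2 (iv7 F126279) D170929 (iv5 D82064)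
def n170932 : Q := act 6 n81934
theorem D170932 : act 6 n81934 = n170932 := rfl
theorem F268529 : act 5 n170932 = n124383 := d12_1 D170932 (iv6 D124383) (iv5 F114080) F114078 D81934
def n170934 : Q := act 1 n81935
theorem D170934 : act 1 n81935 = n170934 := rfl
def n170935 : Q := act 2 n81935
theorem D170935 : act 2 n81935 = n170935 := rfl
theorem F268531 : act 3 n170935 = n82062 := d0_2 D81935 D170935 (iv2 D82062) (iv3 D37603) (iv2 F91565)
theorem F268532 : act 7 n170935 = n82047 := d4_2 (iv7 F126282) D170935 (iv2 D82047)
theorem F268534 : act 1 n170934 = n82047 := d15_1 D170934 (iv7 F268532) (iv2 D170935)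
theorem F268535 : act 1 n82046 = n170935 := d15_1 D82046 F268532 (iv2 D82047)
def n170938 : Q := act 6 n81936
theorem D170938 : act 6 n81936 = n170938 := rfl
theorem F268541 : act 5 n170938 = n125127 := d12_1 D170938 (iv6 D125127) (iv5 F117525) F117527 D81936
def n170940 : Q := act 4 n81937
theorem D170940 : act 4 n81937 = n170940 := rfl
theorem F268543 : act 2 n170940 = n82072 := d1_1 D170940 (iv4 D82072) (iv2 F126497)
theorem F268544 : act 7 n170940 = n82077 := d11_2 (iv7 F126498) D170940 (iv4 D82077)
def n170942 : Q := act 3 n81938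
theorem D170942 : act 3 n81938 = n170942 := rfl
theorem F268546 : act 5 n170942 = n84696 := d6_2 F126286 D170942 F129923
theorem F268547 : act 7 n170942 = n82071 := d8_2 (iv7 F126495) D170942 (iv3 D82071)
def n170944 : Q := act 6 n81938
theorem D170944 : act 6 n81938 = n170944 := rfl
theorem F268550 : act 2 n170944 = n82079 := d3_1 D170944 (iv6 D82079) (iv2 F126494)
theorem F268551 : act 5 n170944 = n84703 := d12_1 D170944 (iv6 D84703) (iv5 D39122) D39123 F126286
def n170952 : Q := act 0 n81942
theorem D170952 : act 0 n81942 = n170952 := rfl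
theorem F268567 : act 2 n82126 = n170952 := d15_3 (iv0 D170952) (iv0 F191104) (iv7 F236127)
theorem F268568 : act 1 n82127 = n170952 := d15_0 (iv0 D170952) F126298 D82127
theorem F268569 : act 7 n170952 = n82001 := d4_2 (iv7 F236127) F268567 (iv2 F134964)
theorem F268570 : act 1 n87973 = n82127 := d15_0 F268568 F268569 (iv2 F134964)
def n170953 : Q := act 2 n81942
theorem D170953 : act 2 n81942 = n170953 := rfl
theorem F268571 : act 3 n170953 = n82097 := d0_2 D81942 D170953 (iv2 D82097) (iv3 D37625) (iv2 F117467)
theorem F268573 : act 1 n170953 = n82001 := d15_0 F236128 (iv7 F126298) D170953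
theorem F268574 : act 1 n82126 = n170953 := d15_0 F268573 (iv7 F268569) (iv2 F268567)
theorem E24323 : n168392 = n150164 := ((c20_11 (iv4 D168392) (iv1 F264677) F264675 (iv3 F268571) (iv1 F268574) (iv3 F236125) F236120 (iv1 F190945) (iv4 D70674) D70673 D150164)).symm
theorem F268575 : act 4 n150164 = n80797 := (sb E24323 (iv4 D168392))
def n170959 : Q := act 4 n81944
theorem D170959 : act 4 n81944 = n170959 := rfl
theorem F268593 : act 0 n82157 = n170959 := d20_1 (iv4 F151451) (iv4 D170959) (iv3 F148639) (iv1 D96509) F121031 D87509 (iv1 F195294) (iv4 D122204) (iv3 F194880) (iv1 F194879)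
def n170977 : Q := act 5 n81953
theorem D170977 : act 5 n81953 = n170977 := rfl
theorem F268636 : act 2 n170977 = n82161 := d2_1 D170977 (iv5 D82161) (iv2 F126574)
theorem F268637 : act 7 n170977 = n82156 := d13_2 (iv7 F126575) D170977 (iv5 D82156)
def n171011 : Q := act 3 n81967
theorem D171011 : act 3 n81967 = n171011 := rfl
theorem F268705 : act 4 n171011 = n81993 := d5_2 D81967 D171011 (iv3 D81993) (iv4 D37558) (iv3 F58426)
theorem F268706 : act 6 n171011 = n120738 := d7_2 (iv6 F126370) D171011 (iv3 D120738)
def n171013 : Q := act 6 n81969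
theorem D171013 : act 6 n81969 = n171013 := rfl
theorem F268710 : act 3 n171013 = n97944 := d7_1 D171013 (iv6 D97944) (iv3 F126379)
def n171014 : Q := act 6 n81970
theorem D171014 : act 6 n81970 = n171014 := rfl
theorem F268711 : act 2 n171014 = n99514 := d3_1 D171014 (iv6 D99514) F126385
theorem F268712 : act 3 n171014 = n153530 := d7_1 D171014 (iv6 D153530) F126383
def n171015 : Q := act 6 n81971
theorem D171015 : act 6 n81971 = n171015 := rfl
theorem F268713 : act 2 n171015 = n81972 := d3_1 D171015 (iv6 D81972) D81971
theorem F268714 : act 3 n171015 = n98158 := d7_1 D171015 (iv6 D98158) (iv3 F126386)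
theorem F268715 : act 4 n171015 = n98051 := d10_1 D171015 (iv6 D98051) (iv4 F126387)
def n171019 : Q := act 0 n81973
theorem D171019 : act 0 n81973 = n171019 := rfl
theorem F268717 : act 5 n171019 = n85841 := d17_3 (iv1 F118990) D81973 D171019 (iv4 D85841) F117167 (iv0 D27242) F21761 D27243 D56676
def n171020 : Q := act 4 n81973
theorem D171020 : act 4 n81973 = n171020 := rfl
theorem F268721 : act 2 n171020 = n98167 := d1_1 D171020 (iv4 D98167) (iv2 F126392)
theorem F268722 : act 0 n171020 = n122427 := d18_2 F198951 D171020 (iv4 D122427) F123428 (iv4 F123427) (iv0 F123455) (iv4 F132954) (iv0 F132956) D124404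
theorem F268723 : act 1 n171020 = n122430 := d18_6 (iv1 F89634) (iv4 F57339) F119022 (iv4 F58436) D81973 D171020 (iv4 D122430) F195668 F195667
def n171024 : Q := act 0 n81975
theorem D171024 : act 0 n81975 = n171024 := rfl
theorem F268738 : act 3 n171024 = n100916 := d20_5 F34951 D35305 (iv4 F117323) D81975 D171024 F267741 (iv1 D170225) (iv4 F153919) (iv3 D99984) (iv1 D46697)
theorem F268739 : act 1 n100825 = n171024 := d15_0 (iv0 D171024) (iv7 F195796) F195794
def n171025 : Q := act 1 n81975
theorem D171025 : act 1 n81975 = n171025 := rfl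
def n171026 : Q := act 2 n81975
theorem D171026 : act 2 n81975 = n171026 := rfl
theorem F268740 : act 3 n171026 = n100774 := d0_2 D81975 D171026 F155520 (iv3 F155500) (iv2 F117588)
theorem F268741 : act 7 n171026 = n100825 := d4_2 F195796 D171026 (iv2 F195794)
theorem F268742 : act 1 n171025 = n100825 := d15_1 D171025 (iv7 F268741) (iv2 D171026)
def n171027 : Q := act 5 n81975
theorem D171027 : act 5 n81975 = n171027 := rfl
theorem F268743 : act 3 n171027 = n81976 := d6_1 D171027 (iv5 D81976) D81975
def n171028 : Q := act 6 n81975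
theorem D171028 : act 6 n81975 = n171028 := rfl
theorem F268744 : act 3 n171028 = n81977 := d7_1 D171028 (iv6 D81977) D81975
def n171029 : Q := act 1 n81976
theorem D171029 : act 1 n81976 = n171029 := rfl
theorem F268746 : act 1 n171029 = n81979 := d15_1 D171029 (iv7 F195782) F195780
theorem F268747 : act 5 n171029 = n85913 := d17_7 (iv1 D167447) (iv5 F254129) (iv1 F254136) (iv5 D77336) (iv4 F117323) D81976 D171029 (iv0 F199013) (iv4 F263604)
def n171030 : Q := act 4 n81976
theorem D171030 : act 4 n81976 = n171030 := rfl
def n171031 : Q := act 6 n81976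
theorem D171031 : act 6 n81976 = n171031 := rfl
def n171032 : Q := act 5 n81978
theorem D171032 : act 5 n81978 = n171032 := rfl
theorem F268748 : act 2 n171032 = n100827 := d2_1 D171032 (iv5 D100827) (iv2 F155509)
theorem F268749 : act 3 n171032 = n81979 := d6_1 D171032 (iv5 D81979) D81978
theorem F268750 : act 7 n171032 = n100822 := d13_2 (iv7 F155510) D171032 (iv5 D100822)
def n171033 : Q := act 6 n81978
theorem D171033 : act 6 n81978 = n171033 := rfl
theorem F268751 : act 2 n171033 = n100828 := d3_1 D171033 (iv6 D100828) (iv2 F155509)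
theorem F268752 : act 3 n171033 = n81980 := d7_1 D171033 (iv6 D81980) D81978
def n171034 : Q := act 4 n81979
theorem D171034 : act 4 n81979 = n171034 := rfl
def n171035 : Q := act 6 n81979
theorem D171035 : act 6 n81979 = n171035 := rfl
def n171036 : Q := act 5 n81980
theorem D171036 : act 5 n81980 = n171036 := rfl
theorem F268753 : act 2 n171036 = n84741 := d2_1 D171036 (iv5 F195801) F195799
theorem F268754 : act 7 n171036 = n84742 := d13_2 F195900 D171036 (iv5 F195902)
theorem F268756 : act 1 n171036 = n84647 := d17_6 (iv1 F118418) D84698 F254717 (iv5 D161123) (iv4 F126394) D171036 (iv5 D84647) F118548 F60986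
def n171039 : Q := act 5 n81981
theorem D171039 : act 5 n81981 = n171039 := rfl
theorem F268762 : act 6 n171039 = n166107 := d21_3 D37544 D81981 D171039 F261529 F126561 D84647 (iv1 F268756) (iv5 D171036) (iv6 D81980) (iv1 D37543)
def n171041 : Q := act 3 n81982
theorem D171041 : act 3 n81982 = n171041 := rfl
theorem F268764 : act 5 n171041 = n101475 := d6_2 F126395 D171041 F184770
theorem F268765 : act 0 n171041 = n100776 := d21_7 F72415 (iv1 D37851) F29317 D22714 D47218 D101475 (iv5 F268764) (iv5 D100776) (iv6 D46990) (iv1 F72417)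
theorem F268766 : act 1 n171041 = n100832 := d15_1 (iv0 F268765) (iv7 D100832) (iv2 F154865)
def n171042 : Q := act 4 n81982
theorem D171042 : act 4 n81982 = n171042 := rfl
theorem F268767 : act 0 n171042 = n99989 := d18_2 (iv1 F195810) D171042 (iv4 D99989) (iv5 D46698) F34951 D35306 (iv4 F117322) F89683 (iv5 F195808)
def n171043 : Q := act 6 n81982
theorem D171043 : act 6 n81982 = n171043 := rfl
theorem F268768 : act 5 n171043 = n170780 := d12_1 D171043 (iv6 D170780) (iv5 D81876) D81877 F126395
def n171044 : Q := act 0 n81983
theorem D171044 : act 0 n81983 = n171044 := rfl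
def n171046 : Q := act 3 n81983
theorem D171046 : act 3 n81983 = n171046 := rfl
def n171050 : Q := act 0 n81985
theorem D171050 : act 0 n81985 = n171050 := rfl
theorem F268771 : act 1 n149021 = n171050 := d15_0 (iv0 D171050) (iv7 F153920) (iv2 F234299)
def n171051 : Q := act 1 n81985
theorem D171051 : act 1 n81985 = n171051 := rfl
theorem F268772 : act 1 n171051 = n149021 := d15_1 D171051 (iv7 F236198) F236196
def n171052 : Q := act 5 n81985
theorem D171052 : act 5 n81985 = n171052 := rfl
theorem F268773 : act 3 n171052 = n81986 := d6_1 D171052 (iv5 D81986) D81985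
def n171053 : Q := act 4 n81986
theorem D171053 : act 4 n81986 = n171053 := rfl
def n171054 : Q := act 6 n81986
theorem D171054 : act 6 n81986 = n171054 := rfl
theorem F268775 : act 2 n171054 = n160472 := d3_1 D171054 (iv6 D160472) (iv2 F126397)
def n171055 : Q := act 3 n81987
theorem D171055 : act 3 n81987 = n171055 := rfl
def n171056 : Q := act 5 n81987
theorem D171056 : act 5 n81987 = n171056 := rfl
def n171058 : Q := act 5 n81988
theorem D171058 : act 5 n81988 = n171058 := rfl
def n171059 : Q := act 6 n81988
theorem D171059 : act 6 n81988 = n171059 := rfl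
theorem F268779 : act 4 n171059 = n81990 := d10_1 D171059 (iv6 D81990) D81988
def n171060 : Q := act 4 n81989
theorem D171060 : act 4 n81989 = n171060 := rfl
theorem F268781 : act 6 n171060 = n170805 := d10_2 (iv6 F126404) D171060 F268390
theorem F268782 : act 7 n171060 = n122309 := d11_2 (iv7 F126402) D171060 F195548
theorem F268783 : act 5 n171060 = n82022 := d17_5 F117286 D18019 D37556 D81989 D171060 (iv0 D82022) (iv5 D37586) (iv0 F91497) (iv4 D34794)
theorem F268784 : act 0 n171060 = n124377 := d17_0 F253480 (iv1 D160470) (iv5 D76925) (iv4 D35147) D35148 (iv0 F117352) F91794 (iv0 F126403) D171060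
theorem F268785 : act 4 n82022 = n171044 := d18_5 (iv1 F199020) F198839 F126405 D171060 F268783 (iv0 D171044) (iv4 D81983) D81982 (iv5 F126395)
theorem F268786 : act 1 n171060 = n124321 := d18_6 F126135 (iv4 F132336) (iv1 F132338) (iv4 D81988) D81989 D171060 F198807 F135910 F126134
def n171062 : Q := act 5 n81991
theorem D171062 : act 5 n81991 = n171062 := rfl
def n171063 : Q := act 6 n81991
theorem D171063 : act 6 n81991 = n171063 := rfl
theorem F268787 : act 4 n171063 = n161125 := d10_1 D171063 (iv6 D161125) (iv4 F151414)
theorem F268788 : act 0 n84754 = n171063 := d18_2 F126326 (iv4 F129961) F268787 F254723 (iv4 F126663) F126662 F126621 F125226 D81417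
def n171064 : Q := act 3 n81992
theorem D171064 : act 3 n81992 = n171064 := rfl
def n171065 : Q := act 5 n81992
theorem D171065 : act 5 n81992 = n171065 := rfl
def n171067 : Q := act 0 n81993
theorem D171067 : act 0 n81993 = n171067 := rfl
def n171068 : Q := act 1 n81993
theorem D171068 : act 1 n81993 = n171068 := rfl
def n171069 : Q := act 2 n81993
theorem D171069 : act 2 n81993 = n171069 := rfl
theorem F268790 : act 6 n171069 = n157866 := d3_2 (iv6 F126411) D171069 (iv2 D157866)
def n171070 : Q := act 5 n81993
theorem D171070 : act 5 n81993 = n171070 := rfl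
theorem F268791 : act 3 n171070 = n81994 := d6_1 D171070 (iv5 D81994) D81993
def n171071 : Q := act 7 n81993
theorem D171071 : act 7 n81993 = n171071 := rfl
theorem F268792 : act 3 n171071 = n81995 := d8_1 D171071 (iv7 D81995) D81993
def n171072 : Q := act 0 n81994
theorem D171072 : act 0 n81994 = n171072 := rfl
theorem F268793 : act 5 n171072 = n161120 := d17_3 (iv1 D81992) D81994 D171072 (iv4 D161120) (iv5 D77336) (iv0 D35305) D35307 D77341 (iv4 F151405)
def n171073 : Q := act 1 n81994
theorem D171073 : act 1 n81994 = n171073 := rfl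
theorem F268794 : act 5 n171073 = n161121 := d17_7 F117356 (iv5 D34795) F117286 D18019 D37558 D81994 D171073 F254705 (iv4 D124435)
def n171076 : Q := act 7 n81994
theorem D171076 : act 7 n81994 = n171076 := rfl
theorem F268796 : act 5 n171076 = n81995 := d13_1 D171076 (iv7 D81995) D81994
def n171077 : Q := act 6 n81996
theorem D171077 : act 6 n81996 = n171077 := rfl
theorem F268797 : act 2 n171077 = n98302 := d3_1 D171077 (iv6 D98302) F126415
theorem F268798 : act 4 n171077 = n98296 := d10_1 D171077 (iv6 D98296) (iv4 F126414)
def n171078 : Q := act 0 n81997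
theorem D171078 : act 0 n81997 = n171078 := rfl
def n171079 : Q := act 5 n81997
theorem D171079 : act 5 n81997 = n171079 := rfl
def n171080 : Q := act 0 n81998
theorem D171080 : act 0 n81998 = n171080 := rfl
def n171081 : Q := act 1 n81998
theorem D171081 : act 1 n81998 = n171081 := rfl
def n171082 : Q := act 5 n81998
theorem D171082 : act 5 n81998 = n171082 := rfl
def n171083 : Q := act 7 n81998
theorem D171083 : act 7 n81998 = n171083 := rfl
def n171089 : Q := act 1 n82002
theorem D171089 : act 1 n82002 = n171089 := rfl
def n171090 : Q := act 5 n82002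
theorem D171090 : act 5 n82002 = n171090 := rfl
theorem F268812 : act 3 n171090 = n101067 := d6_1 D171090 (iv5 D101067) (iv3 F126424)
def n171091 : Q := act 3 n82003
theorem D171091 : act 3 n82003 = n171091 := rfl
theorem F268813 : act 2 n171091 = n101070 := d0_1 D171091 (iv3 D101070) (iv2 F192083) F233067 F233092
theorem F268814 : act 4 n100417 = n171091 := d20_2 (iv4 F74082) D100417 (iv3 D171091) (iv1 F134994) F134991 (iv4 F132730) (iv1 F132732) (iv4 F265225) (iv3 F265226) (iv1 D46868)
def n171092 : Q := act 4 n82003
theorem D171092 : act 4 n82003 = n171092 := rfl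
theorem F268815 : act 2 n171092 = n148844 := d1_1 D171092 F233861 F233092
def n171093 : Q := act 5 n82003
theorem D171093 : act 5 n82003 = n171093 := rfl
def n171094 : Q := act 6 n82003
theorem D171094 : act 6 n82003 = n171094 := rfl
def n171095 : Q := act 4 n82004
theorem D171095 : act 4 n82004 = n171095 := rfl
theorem F268816 : act 3 n171095 = n148832 := d5_1 D171095 F233705 (iv3 F233083) F233084 (iv3 F233089)
theorem F268817 : act 7 n171095 = n148844 := d11_2 (iv7 F233090) D171095 F233861
def n171096 : Q := act 5 n82004
theorem D171096 : act 5 n82004 = n171096 := rfl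
theorem F268818 : act 3 n171096 = n101077 := d6_1 D171096 (iv5 D101077) (iv3 F233089)
def n171097 : Q := act 6 n82004
theorem D171097 : act 6 n82004 = n171097 := rfl
theorem F268819 : act 3 n171097 = n101078 := d7_1 D171097 (iv6 D101078) (iv3 F233089)
def n171098 : Q := act 0 n82005
theorem D171098 : act 0 n82005 = n171098 := rfl
def n171099 : Q := act 1 n82005
theorem D171099 : act 1 n82005 = n171099 := rfl
def n171100 : Q := act 4 n82005
theorem D171100 : act 4 n82005 = n171100 := rfl
def n171101 : Q := act 5 n82006
theorem D171101 : act 5 n82006 = n171101 := rfl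
theorem F268820 : act 2 n171101 = n99871 := d2_1 D171101 (iv5 D99871) (iv2 F154982)
theorem F268821 : act 3 n171101 = n99481 := d6_1 D171101 (iv5 D99481) F126436
theorem F268822 : act 7 n171101 = n99874 := d13_2 (iv7 F154983) D171101 (iv5 D99874)
def n171102 : Q := act 6 n82006
theorem D171102 : act 6 n82006 = n171102 := rfl
theorem F268823 : act 2 n171102 = n99872 := d3_1 D171102 (iv6 D99872) (iv2 F154982)
theorem F268824 : act 3 n171102 = n99482 := d7_1 D171102 (iv6 D99482) F126436
theorem F268825 : act 4 n171102 = n100841 := d10_1 D171102 (iv6 D100841) F126433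
theorem F268826 : act 5 n171102 = n98084 := d21_6 F34384 (iv1 F29185) D18024 D37569 D82006 D171102 (iv1 D98084) (iv5 D45803) (iv6 D21900) D21897
def n171103 : Q := act 3 n82007
theorem D171103 : act 3 n82007 = n171103 := rfl
theorem F268827 : act 2 n171103 = n99484 := d0_1 D171103 (iv3 D99484) (iv2 F154990) (iv3 F153233) (iv2 F154986)
theorem F268828 : act 4 n171103 = n96206 := d5_2 (iv4 F135037) D171103 (iv3 F158455) (iv4 F157789) F157788
theorem F268829 : act 7 n171103 = n99870 := d8_2 (iv7 F154987) D171103 (iv3 D99870)
theorem F268830 : act 0 n171103 = n97942 := d20_10 F150958 (iv1 F177392) (iv4 F62959) (iv3 D22523) (iv1 F34746) (iv3 F73359) F73360 (iv1 F135036) (iv4 F135037) D171103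
theorem F268831 : act 0 n103770 = n171103 := d20_4 (iv4 D42424) D42421 D90608 (iv3 F159200) (iv3 D171103) F135037 (iv1 D88035) F62335 F60129 F73966
def n171104 : Q := act 5 n82007
theorem D171104 : act 5 n82007 = n171104 := rfl
theorem F268832 : act 2 n171104 = n99874 := d2_1 D171104 (iv5 D99874) (iv2 F154986)
theorem F268833 : act 7 n171104 = n99871 := d13_2 (iv7 F154987) D171104 (iv5 D99871)
def n171105 : Q := act 6 n82007
theorem D171105 : act 6 n82007 = n171105 := rfl
theorem F268834 : act 2 n171105 = n99875 := d3_1 D171105 (iv6 D99875) (iv2 F154986)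
def n171106 : Q := act 0 n82008
theorem D171106 : act 0 n82008 = n171106 := rfl
def n171107 : Q := act 1 n82008
theorem D171107 : act 1 n82008 = n171107 := rfl
theorem F268835 : act 1 n171107 = n91358 := d15_1 D171107 F140477 (iv2 F126427)
def n171108 : Q := act 4 n82008
theorem D171108 : act 4 n82008 = n171108 := rfl
theorem F268836 : act 2 n171108 = n99878 := d1_1 D171108 (iv4 D99878) (iv2 F126427)
theorem F268837 : act 6 n171108 = n82017 := d10_2 (iv6 F126428) D171108 (iv4 D82017)
def n171109 : Q := act 7 n82008
theorem D171109 : act 7 n82008 = n171109 := rfl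
theorem F268838 : act 2 n171109 = n91358 := d4_1 D171109 F140477 (iv2 F126427)
theorem F268839 : act 5 n171109 = n82009 := d13_1 D171109 (iv7 D82009) D82008
theorem F268840 : act 1 n91358 = n171106 := d15_0 (iv0 D171106) D171109 F268838
theorem F268841 : act 1 n99877 = n171109 := d15_1 D99877 (iv7 D171109) F126427
theorem F268842 : act 1 n171109 = n99876 := d15_0 (iv0 D99876) (iv7 F140477) (iv2 F268838)
def n171110 : Q := act 4 n82010
theorem D171110 : act 4 n82010 = n171110 := rfl
theorem F268844 : act 1 n171110 = n159149 := d18_6 (iv1 F91392) (iv4 F54633) D75198 F117617 D82010 D171110 (iv4 D159149) (iv0 D76087) (iv5 D34765)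
def n171112 : Q := act 0 n82012
theorem D171112 : act 0 n82012 = n171112 := rfl
theorem F268845 : act 3 n171112 = n101133 := d20_5 F91395 (iv1 F114049) (iv4 F117261) D82012 D171112 F250416 (iv1 D159067) (iv4 F192221) (iv3 D120622) (iv1 F87866)
def n171114 : Q := act 2 n82012
theorem D171114 : act 2 n82012 = n171114 := rfl
theorem F268846 : act 3 n171114 = n99476 := d0_2 D82012 D171114 (iv2 F236244) (iv3 D122358) (iv2 F117260)
theorem F268847 : act 4 n171114 = n161101 := d1_2 (iv4 F126438) D171114 (iv2 D161101)
theorem F268848 : act 0 n161101 = n86400 := d20_7 (iv4 D69863) (iv1 F51883) (iv4 F107116) (iv3 F236250) (iv1 F236252) (iv3 F268846) F268847 (iv4 F153876) F153875 (iv1 F232453)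
def n171115 : Q := act 5 n82012
theorem D171115 : act 5 n82012 = n171115 := rfl
def n171117 : Q := act 4 n82013
theorem D171117 : act 4 n82013 = n171117 := rfl
theorem F268852 : act 0 n171117 = n159149 := d18_2 (iv1 F195703) D171117 (iv4 D159149) F131795 D125142 F201061 F132598 (iv0 D85886) D85889
def n171119 : Q := act 3 n82015
theorem D171119 : act 3 n82015 = n171119 := rfl
def n171120 : Q := act 4 n82015
theorem D171120 : act 4 n82015 = n171120 := rfl
theorem F268854 : act 0 n171120 = n159142 := d18_2 D82015 D171120 (iv4 D159142) (iv5 D76081) F91395 (iv0 F112738) F117617 (iv0 D37570) D37572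
theorem F268855 : act 1 n171120 = n122396 := d18_6 D39733 D85896 (iv1 F132600) (iv4 F129966) (iv5 F129968) D171120 (iv4 D122396) (iv0 F91431) (iv5 D39736)
theorem F268856 : act 0 n99477 = n171119 := d20_4 D100509 (iv1 F205700) (iv4 D99504) (iv3 F153245) (iv3 D171119) D171120 F268854 (iv4 D159142) (iv3 F153022) (iv1 F153025)
def n171123 : Q := act 4 n82016
theorem D171123 : act 4 n82016 = n171123 := rfl
theorem F268858 : act 0 n171123 = n122396 := d18_2 F192219 D171123 (iv4 D122396) (iv5 D56719) (iv4 F54633) (iv0 F114048) (iv4 F117261) F117259 D120621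
theorem F268859 : act 1 n171123 = n159142 := d18_6 (iv1 F92423) D85899 F131787 (iv4 F125790) (iv5 F126441) D171123 (iv4 D159142) F195842 F195840
def n171125 : Q := act 3 n82017
theorem D171125 : act 3 n82017 = n171125 := rfl
def n171126 : Q := act 2 n82018
theorem D171126 : act 2 n82018 = n171126 := rfl
theorem F268861 : act 7 n82019 = n171126 := d15_2 (iv0 D82018) D82019 (iv2 D171126)
def n171127 : Q := act 4 n82018
theorem D171127 : act 4 n82018 = n171127 := rfl
def n171128 : Q := act 5 n82018
theorem D171128 : act 5 n82018 = n171128 := rfl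
theorem F268862 : act 3 n171128 = n87893 := d6_1 D171128 (iv5 D87893) (iv3 F264017)
def n171129 : Q := act 6 n82018
theorem D171129 : act 6 n82018 = n171129 := rfl
theorem F268863 : act 3 n171129 = n87894 := d7_1 D171129 (iv6 D87894) (iv3 F264017)
theorem F268864 : act 5 n171129 = n98900 := d21_6 F34602 (iv1 F34695) (iv5 F34697) D37583 D82018 D171129 (iv1 D98900) (iv5 D46281) (iv6 D22134) D22131
theorem F268865 : act 3 n98900 = n87404 := d6_1 F268864 (iv5 F134899) (iv3 F268863)
def n171130 : Q := act 7 n82018
theorem D171130 : act 7 n82018 = n171130 := rfl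
theorem F268866 : act 2 n171130 = n82019 := d4_1 D171130 F268861 (iv2 D171126)
theorem F268867 : act 3 n171130 = n87895 := d8_1 D171130 (iv7 D87895) (iv3 F264017)
def n171131 : Q := act 3 n82019
theorem D171131 : act 3 n82019 = n171131 := rfl
theorem F268868 : act 2 n171131 = n87896 := d0_1 D171131 (iv3 D87896) (iv2 F134900) (iv3 F268867) F268866
theorem F268869 : act 4 n171131 = n100816 := d20_6 F155084 (iv1 F127875) F127871 (iv3 F152882) (iv1 F152885) D171131 (iv1 D100816) F74251 F35142 D22614
def n171132 : Q := act 4 n82019
theorem D171132 : act 4 n82019 = n171132 := rfl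
theorem F268870 : act 3 n153279 = n171132 := d20_5 (iv4 D35123) (iv1 F55813) (iv4 F115328) (iv3 F253121) (iv1 F253125) (iv4 D171132) (iv1 D82019) (iv4 F90056) F90055 (iv1 F115381)
def n171133 : Q := act 5 n82019
theorem D171133 : act 5 n82019 = n171133 := rfl
def n171134 : Q := act 6 n82019
theorem D171134 : act 6 n82019 = n171134 := rfl
def n171135 : Q := act 0 n82020
theorem D171135 : act 0 n82020 = n171135 := rfl
def n171138 : Q := act 7 n82020
theorem D171138 : act 7 n82020 = n171138 := rfl
theorem F268872 : act 5 n171138 = n82021 := d13_1 D171138 (iv7 D82021) D82020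
def n171141 : Q := act 6 n82023
theorem D171141 : act 6 n82023 = n171141 := rfl
theorem F268873 : act 5 n171141 = n125279 := d12_1 D171141 (iv6 D125279) (iv5 D58642) D58643 F126444
def n171142 : Q := act 0 n82024
theorem D171142 : act 0 n82024 = n171142 := rfl
def n171143 : Q := act 1 n82024
theorem D171143 : act 1 n82024 = n171143 := rfl
theorem F268878 : act 4 n171143 = n122384 := d18_7 (iv1 F89677) F117583 F114029 F34427 D37586 D82024 D171143 F195803 F126396
def n171150 : Q := act 0 n82027
theorem D171150 : act 0 n82027 = n171150 := rfl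
theorem F268886 : act 5 n171150 = n170716 := d17_1 D171150 F268237 (iv5 F250582) (iv4 D159149) F131795 (iv0 D58521) D58524 F92450 D82027
theorem F268887 : act 4 n171150 = n122361 := d18_1 D171150 (iv1 F195710) D159130 F250546 (iv4 D81845) D81844 D170723 F268247 F201009
theorem F268888 : act 2 n171120 = n171150 := d1_3 F268887 (iv2 F195711) D171120
def n171151 : Q := act 1 n82027
theorem D171151 : act 1 n82027 = n171151 := rfl
def n171152 : Q := act 3 n82027
theorem D171152 : act 3 n82027 = n171152 := rfl
def n171153 : Q := act 0 n82029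
theorem D171153 : act 0 n82029 = n171153 := rfl
def n171154 : Q := act 1 n82029
theorem D171154 : act 1 n82029 = n171154 := rfl
theorem F268894 : act 1 n171154 = n88935 := d15_1 D171154 (iv7 D88935) (iv2 F126448)
theorem F268895 : act 5 n99351 = n171154 := d21_6 (iv5 F21756) F21757 F17132 D22261 D46458 D99351 (iv1 D171154) (iv5 D82029) (iv6 D37592) (iv1 F29201)
theorem F268896 : act 2 n171154 = n88933 := d2_1 F268895 (iv5 F153950) (iv2 F154198)
def n171155 : Q := act 4 n82029
theorem D171155 : act 4 n82029 = n171155 := rfl
theorem F268897 : act 2 n171155 = n88934 := d1_1 D171155 (iv4 D88934) (iv2 F126448)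
theorem F268898 : act 6 n171155 = n84670 := d10_2 (iv6 F126450) D171155 (iv4 D84670)
def n171156 : Q := act 7 n82029
theorem D171156 : act 7 n82029 = n171156 := rfl
theorem F268899 : act 2 n171156 = n88935 := d4_1 D171156 (iv7 D88935) (iv2 F126448)
theorem F268901 : act 5 n171156 = n82030 := d13_1 D171156 (iv7 D82030) D82029
theorem F268902 : act 1 n88935 = n171153 := d15_0 (iv0 D171153) D171156 F268899
theorem F268903 : act 1 n88933 = n171156 := d15_1 D88933 (iv7 D171156) F126448
theorem F268904 : act 7 n171153 = n88933 := d15_2 F268894 F268902 (iv2 F268896)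
theorem F268905 : act 2 n171153 = n88932 := d15_3 (iv0 D88932) D88933 (iv7 F268904)
theorem F268906 : act 7 n88932 = n171154 := d4_2 (iv7 F268904) F268905 F268896
theorem F268907 : act 1 n171156 = n88932 := d15_1 F268903 F268906 F268896
def n171158 : Q := act 1 n82031
theorem D171158 : act 1 n82031 = n171158 := rfl
theorem F268909 : act 1 n171158 = n82036 := d15_1 D171158 (iv7 D82036) D82031
def n171160 : Q := act 4 n82031
theorem D171160 : act 4 n82031 = n171160 := rfl
theorem F268911 : act 2 n171160 = n82033 := d1_1 D171160 (iv4 D82033) D82031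
theorem F268912 : act 7 n171160 = n82038 := d11_2 F126458 D171160 (iv4 D82038)
def n171161 : Q := act 5 n82031
theorem D171161 : act 5 n82031 = n171161 := rfl
theorem F268913 : act 2 n171161 = n82034 := d2_1 D171161 (iv5 D82034) D82031
theorem F268914 : act 7 n171161 = n82039 := d13_2 F126458 D171161 (iv5 D82039)
def n171162 : Q := act 6 n82031
theorem D171162 : act 6 n82031 = n171162 := rfl
theorem F268915 : act 2 n171162 = n82035 := d3_1 D171162 (iv6 D82035) D82031
def n171163 : Q := act 0 n82032
theorem D171163 : act 0 n82032 = n171163 := rfl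
def n171164 : Q := act 1 n82032
theorem D171164 : act 1 n82032 = n171164 := rfl
def n171165 : Q := act 2 n82032
theorem D171165 : act 2 n82032 = n171165 := rfl
def n171166 : Q := act 4 n82032
theorem D171166 : act 4 n82032 = n171166 := rfl
def n171167 : Q := act 5 n82032
theorem D171167 : act 5 n82032 = n171167 := rfl
theorem F268916 : act 3 n171167 = n82034 := d6_1 D171167 (iv5 D82034) D82032
def n171168 : Q := act 6 n82032
theorem D171168 : act 6 n82032 = n171168 := rfl
theorem F268917 : act 3 n171168 = n82035 := d7_1 D171168 (iv6 D82035) D82032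
def n171169 : Q := act 7 n82032
theorem D171169 : act 7 n82032 = n171169 := rfl
theorem F268918 : act 3 n171169 = n82036 := d8_1 D171169 (iv7 D82036) D82032
def n171170 : Q := act 0 n82033
theorem D171170 : act 0 n82033 = n171170 := rfl
def n171171 : Q := act 1 n82033
theorem D171171 : act 1 n82033 = n171171 := rfl
theorem F268919 : act 1 n171171 = n82038 := d15_1 D171171 (iv7 F268912) F268911
def n171172 : Q := act 3 n82033
theorem D171172 : act 3 n82033 = n171172 := rfl
def n171173 : Q := act 5 n82033
theorem D171173 : act 5 n82033 = n171173 := rfl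
def n171174 : Q := act 6 n82033
theorem D171174 : act 6 n82033 = n171174 := rfl
theorem F268920 : act 4 n171174 = n82035 := d10_1 D171174 (iv6 D82035) D82033
def n171175 : Q := act 7 n82033
theorem D171175 : act 7 n82033 = n171175 := rfl
theorem F268921 : act 2 n171175 = n82038 := d4_1 D171175 (iv7 F268912) F268911
theorem F268922 : act 4 n171175 = n82036 := d11_1 D171175 (iv7 D82036) D82033
theorem F268923 : act 1 n82038 = n171170 := d15_0 (iv0 D171170) D171175 F268921
def n171176 : Q := act 0 n82034
theorem D171176 : act 0 n82034 = n171176 := rfl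
theorem F268924 : act 5 n171176 = n99355 := d21_2 D82034 D171176 (iv6 D99355) (iv1 D46459) (iv6 D22261) (iv5 F17132) (iv1 D8508) D8509 D18033 D37593
def n171177 : Q := act 1 n82034
theorem D171177 : act 1 n82034 = n171177 := rfl
theorem F268925 : act 1 n171177 = n82039 := d15_1 D171177 (iv7 F268914) F268913
def n171178 : Q := act 4 n82034
theorem D171178 : act 4 n82034 = n171178 := rfl
def n171179 : Q := act 6 n82034
theorem D171179 : act 6 n82034 = n171179 := rfl
def n171180 : Q := act 7 n82034
theorem D171180 : act 7 n82034 = n171180 := rfl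
theorem F268926 : act 2 n171180 = n82039 := d4_1 D171180 (iv7 F268914) F268913
theorem F268927 : act 5 n171180 = n82036 := d13_1 D171180 (iv7 D82036) D82034
theorem F268928 : act 1 n82039 = n171176 := d15_0 (iv0 D171176) D171180 F268926
theorem F268929 : act 0 n82040 = n100029 := d21_10 (iv5 D100029) (iv1 F153918) F153912 (iv6 F129914) (iv1 F129916) D99355 (iv5 F268924) (iv1 F268928) (iv5 D82039) D82040
def n171181 : Q := act 0 n82035
theorem D171181 : act 0 n82035 = n171181 := rfl
def n171182 : Q := act 1 n82035
theorem D171182 : act 1 n82035 = n171182 := rfl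
def n171183 : Q := act 5 n82035
theorem D171183 : act 5 n82035 = n171183 := rfl
theorem F268930 : act 0 n171183 = n84634 := d21_7 (iv5 F17132) (iv1 D8508) D8509 D18033 D37593 D82035 D171183 (iv5 D84634) (iv6 D39086) (iv1 F29799)
theorem F268931 : act 0 n84691 = n171183 := d21_7 (iv5 F268509) (iv1 F268511) (iv5 F153897) (iv6 D99964) (iv1 F91739) F91736 (iv5 F129921) (iv5 D171183) (iv6 D82035) (iv1 F126277)
def n171184 : Q := act 7 n82035
theorem D171184 : act 7 n82035 = n171184 := rfl
def n171185 : Q := act 6 n82036
theorem D171185 : act 6 n82036 = n171185 := rfl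
theorem F268932 : act 2 n171185 = n82040 := d3_1 D171185 (iv6 D82040) (iv2 F126459)
def n171190 : Q := act 5 n82037
theorem D171190 : act 5 n82037 = n171190 := rfl
theorem F268933 : act 3 n171190 = n82039 := d6_1 D171190 (iv5 D82039) D82037
def n171195 : Q := act 4 n82039
theorem D171195 : act 4 n82039 = n171195 := rfl
def n171196 : Q := act 6 n82039
theorem D171196 : act 6 n82039 = n171196 := rfl
def n171197 : Q := act 1 n82040
theorem D171197 : act 1 n82040 = n171197 := rfl
def n171198 : Q := act 5 n82040
theorem D171198 : act 5 n82040 = n171198 := rfl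
theorem F268936 : act 0 n99976 = n171198 := d21_1 D99976 (iv5 D171198) (iv6 D82040) (iv1 D37594) (iv6 D18033) (iv5 D8509) D8507 F17204 D22394 D46692
theorem F268937 : act 1 n99978 = n171198 := d15_0 (iv0 F268936) F154172 (iv2 F154183)
def n171199 : Q := act 7 n82040
theorem D171199 : act 7 n82040 = n171199 := rfl
def n171201 : Q := act 3 n82041
theorem D171201 : act 3 n82041 = n171201 := rfl
def n171202 : Q := act 4 n82041
theorem D171202 : act 4 n82041 = n171202 := rfl
def n171203 : Q := act 5 n82041
theorem D171203 : act 5 n82041 = n171203 := rfl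
theorem F268939 : act 1 n171203 = n100020 := d17_8 D100023 F268503 (iv1 F195859) F195856 (iv4 F126273) (iv5 F268509) F268512 D171203 F153966
def n171204 : Q := act 6 n82041
theorem D171204 : act 6 n82041 = n171204 := rfl
def n171218 : Q := act 6 n82045
theorem D171218 : act 6 n82045 = n171218 := rfl
def n171220 : Q := act 3 n82046
theorem D171220 : act 3 n82046 = n171220 := rfl
def n171221 : Q := act 4 n82046
theorem D171221 : act 4 n82046 = n171221 := rfl
theorem F268946 : act 3 n122911 = n171221 := d20_5 F87663 (iv1 F43010) D27395 D57171 D122911 (iv4 D171221) (iv1 D82046) (iv4 F120966) (iv3 D57124) (iv1 F87667)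
def n171232 : Q := act 5 n82049
theorem D171232 : act 5 n82049 = n171232 := rfl
theorem F268951 : act 7 n171232 = n124378 := d13_2 F250597 D171232 (iv5 F250596)
def n171245 : Q := act 0 n82055
theorem D171245 : act 0 n82055 = n171245 := rfl
def n171249 : Q := act 4 n82058
theorem D171249 : act 4 n82058 = n171249 := rfl
theorem F268975 : act 7 n171249 = n124379 := d11_2 F198818 D171249 (iv4 D124379)
def n171252 : Q := act 4 n82060
theorem D171252 : act 4 n82060 = n171252 := rfl
theorem F268977 : act 0 n118498 = n171252 := d20_10 (iv4 D171252) (iv1 F268517) F268515 (iv3 F259312) (iv1 F259314) (iv3 F259302) F259298 (iv1 F205744) F107079 D118498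
def n171256 : Q := act 3 n82061
theorem D171256 : act 3 n82061 = n171256 := rfl
def n171257 : Q := act 4 n82061
theorem D171257 : act 4 n82061 = n171257 := rfl
theorem F268979 : act 0 n171257 = n118498 := d20_1 D171257 (iv4 F236145) (iv3 D150072) F191036 (iv3 F155729) F155730 (iv1 F196868) F196867 (iv3 F268514) (iv1 F268519)
theorem E24324 : n171256 = n150150 := ((c20_5 F74338 (iv1 F190940) (iv4 D70669) D70668 D150150 (iv3 D171256) D171257 F268979 (iv4 F236145) (iv3 D150072) F191036)).symm
theorem F268980 : act 3 n150150 = n82061 := (sb E24324 (iv3 D171256))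
theorem F268981 : act 3 n122013 = n171257 := d20_5 F29355 D18187 (iv4 F118222) D56444 D122013 (iv4 D171257) (iv1 D82061) D82063 F126475 (iv1 D37977)
def n171260 : Q := act 4 n82062
theorem D171260 : act 4 n82062 = n171260 := rfl
theorem F268982 : act 2 n171260 = n82063 := d1_1 D171260 (iv4 D82063) D82062
theorem F268983 : act 7 n171260 = n122052 := d11_2 F268516 D171260 (iv4 F268515)
def n171261 : Q := act 5 n82062
theorem D171261 : act 5 n82062 = n171261 := rfl
theorem F268987 : act 2 n171261 = n82064 := d2_1 D171261 (iv5 D82064) D82062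
def n171262 : Q := act 6 n82062
theorem D171262 : act 6 n82062 = n171262 := rfl
theorem F268988 : act 2 n171262 = n82065 := d3_1 D171262 (iv6 D82065) D82062
def n171264 : Q := act 1 n82063
theorem D171264 : act 1 n82063 = n171264 := rfl
theorem F268991 : act 1 n171264 = n122052 := d15_1 D171264 (iv7 F268983) F268982
theorem F268992 : act 4 n150201 = n171264 := d20_0 (iv1 D171264) (iv4 D82063) (iv3 D37603) (iv1 D18035) (iv3 F25170) F25171 D15690 D32779 D70696 D150201
theorem F268993 : act 3 n82095 = n150201 := d20_5 F13280 D8511 D18040 D37625 D82095 F268992 (iv1 D171264) (iv4 D82063) (iv3 D37603) (iv1 D18035)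
def n171266 : Q := act 6 n82063
theorem D171266 : act 6 n82063 = n171266 := rfl
theorem F268996 : act 3 n171266 = n82653 := d7_1 D171266 (iv6 D82653) (iv3 F126475)
theorem F268997 : act 4 n171266 = n82065 := d10_1 D171266 (iv6 D82065) D82063
def n171267 : Q := act 0 n82064
theorem D171267 : act 0 n82064 = n171267 := rfl
def n171268 : Q := act 1 n82064
theorem D171268 : act 1 n82064 = n171268 := rfl
def n171270 : Q := act 6 n82064
theorem D171270 : act 6 n82064 = n171270 := rfl
def n171271 : Q := act 0 n82065
theorem D171271 : act 0 n82065 = n171271 := rfl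
def n171272 : Q := act 1 n82065
theorem D171272 : act 1 n82065 = n171272 := rfl
def n171277 : Q := act 1 n82069
theorem D171277 : act 1 n82069 = n171277 := rfl
def n171278 : Q := act 7 n82069
theorem D171278 : act 7 n82069 = n171278 := rfl
def n171283 : Q := act 5 n82071
theorem D171283 : act 5 n82071 = n171283 := rfl
theorem F269001 : act 3 n171283 = n82073 := d6_1 D171283 (iv5 D82073) D82071
theorem F269002 : act 7 n171283 = n84696 := d13_2 F268547 D171283 (iv5 F268546)
theorem F269003 : act 6 n125141 = n171283 := d14_5 F269002 (iv6 D84696) (iv7 F129818) F131784 (iv7 F201054)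
def n171286 : Q := act 1 n82072
theorem D171286 : act 1 n82072 = n171286 := rfl
theorem F269008 : act 1 n171286 = n82077 := d15_1 D171286 (iv7 F268544) F268543
theorem F269010 : act 4 n86396 = n171286 := d18_5 (iv1 F58403) D37604 F118209 (iv4 F60872) D86396 F269008 (iv4 D82077) F126291 F126289
def n171288 : Q := act 5 n82072
theorem D171288 : act 5 n82072 = n171288 := rfl
theorem F269011 : act 4 n171288 = n82161 := d16_2 D82072 D171288 (iv5 D82161) D82160 (iv5 F126570) F126492 (iv5 D82078) (iv7 F126498) F126497
def n171290 : Q := act 4 n82073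
theorem D171290 : act 4 n82073 = n171290 := rfl
theorem F269014 : act 6 n171290 = n125142 := d10_2 (iv6 F126488) D171290 (iv4 D125142)
theorem F269016 : act 5 n171290 = n82155 := d16_5 (iv4 F269011) (iv5 D171288) (iv4 D82072) D82073 D171290 (iv4 D82155) D82156 (iv7 F268637) F268636
theorem F269018 : act 1 n171290 = n86712 := d18_6 F132448 F269010 (iv1 D171286) (iv4 D82072) D82073 D171290 F132983 F126515 D84746
def n171298 : Q := act 5 n82076
theorem D171298 : act 5 n82076 = n171298 := rfl
theorem F269019 : act 3 n171298 = n82078 := d6_1 D171298 (iv5 D82078) D82076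
theorem F269021 : act 6 n84636 = n171298 := d7_0 F269019 F126490 D84636
def n171305 : Q := act 5 n82079
theorem D171305 : act 5 n82079 = n171305 := rfl
theorem F269025 : act 2 n171305 = n84703 := d2_1 D171305 (iv5 F268551) F268550
def n171324 : Q := act 6 n82086
theorem D171324 : act 6 n82086 = n171324 := rfl
theorem F269041 : act 5 n171324 = n124196 := d12_1 D171324 (iv6 D124196) (iv5 D57899) D57900 (iv5 F126500)
def n171326 : Q := act 5 n82089
theorem D171326 : act 5 n82089 = n171326 := rfl
theorem F269047 : act 6 n171326 = n82092 := d12_2 D82089 D171326 (iv5 D82092) (iv6 D37621) D37620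
theorem F269049 : act 0 n161143 = n171326 := d21_1 (iv5 F254784) (iv5 D171326) (iv6 D82089) D82086 D171324 F269041 F254785 (iv5 F194990) F194991 (iv1 F194992)
theorem F269050 : act 4 n120921 = n171326 := d10_3 F269047 F126510 D120921
def n171334 : Q := act 4 n82095
theorem D171334 : act 4 n82095 = n171334 := rfl
theorem F269064 : act 0 n171334 = n150167 := d20_1 D171334 (iv4 D150167) (iv3 D70673) (iv1 D32774) F25170 F13280 D8511 D18040 D37625 D82095
def n171339 : Q := act 4 n82096
theorem D171339 : act 4 n82096 = n171339 := rfl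
theorem F269066 : act 3 n171339 = n168011 := d20_9 (iv4 F265382) (iv1 F265387) (iv4 F265389) F265388 (iv1 F264706) F264704 D168398 (iv1 F265327) D171339 (iv1 F264798)
def n171342 : Q := act 5 n82097
theorem D171342 : act 5 n82097 = n171342 := rfl
theorem F269069 : act 2 n171342 = n82098 := d2_1 D171342 (iv5 D82098) D82097
def n171343 : Q := act 6 n82097
theorem D171343 : act 6 n82097 = n171343 := rfl
theorem F269070 : act 2 n171343 = n82099 := d3_1 D171343 (iv6 D82099) D82097
def n171344 : Q := act 0 n82098
theorem D171344 : act 0 n82098 = n171344 := rfl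
def n171348 : Q := act 0 n82099
theorem D171348 : act 0 n82099 = n171348 := rfl
def n171349 : Q := act 1 n82099
theorem D171349 : act 1 n82099 = n171349 := rfl
def n171350 : Q := act 5 n82099
theorem D171350 : act 5 n82099 = n171350 := rfl
theorem F269072 : act 3 n171350 = n82105 := d6_1 D171350 (iv5 D82105) (iv3 F126512)
def n171363 : Q := act 3 n82104
theorem D171363 : act 3 n82104 = n171363 := rfl
def n171364 : Q := act 1 n82105
theorem D171364 : act 1 n82105 = n171364 := rfl
theorem F269086 : act 7 n171364 = n88641 := d15_2 (iv0 F126517) D171364 F135894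
theorem F269087 : act 5 n171364 = n88642 := d17_7 (iv1 F44586) (iv5 F44610) F58492 (iv5 D37636) (iv4 F58481) D82105 D171364 F135902 (iv4 D57959)
def n171365 : Q := act 4 n82105
theorem D171365 : act 4 n82105 = n171365 := rfl
theorem F269089 : act 2 n171365 = n124385 := d1_1 D171365 F250662 F250659
theorem F269091 : act 0 n171365 = n124323 := d18_2 (iv1 D171364) D171365 (iv4 D124323) (iv5 D57955) F44577 D27654 D57962 F135901 (iv5 F269087)
theorem F269092 : act 1 n171365 = n124388 := d18_6 (iv1 F250562) F114081 (iv1 F117359) (iv4 F58481) D82105 D171365 F198920 F198814 (iv5 F250557)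
def n171391 : Q := act 0 n82117
theorem D171391 : act 0 n82117 = n171391 := rfl
def n171392 : Q := act 1 n82117
theorem D171392 : act 1 n82117 = n171392 := rfl
def n171401 : Q := act 5 n82120
theorem D171401 : act 5 n82120 = n171401 := rfl
theorem F269146 : act 4 n171401 = n169006 := d17_4 F118232 D37643 D82120 D171401 (iv5 D169006) (iv0 D81068) (iv5 D37044) D37042 F117980
theorem F269147 : act 1 n171401 = n84053 := d17_6 F118560 D122214 F266221 (iv5 D169033) F194925 D171401 F129013 (iv0 D75395) D75397
theorem F269148 : act 6 n171401 = n124419 := d21_3 D37643 D82120 D171401 (iv1 F198998) F128146 (iv5 D82430) (iv1 F58665) F29307 (iv6 F54741) F118232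
theorem F269149 : act 0 n171401 = n123363 := d21_4 D56697 D122371 (iv5 F198996) (iv6 F269148) (iv6 D123363) D123362 F197688 F195755 (iv6 D122370) (iv1 D56696)
def n171414 : Q := act 5 n82129
theorem D171414 : act 5 n82129 = n171414 := rfl
def n171419 : Q := act 5 n82131
theorem D171419 : act 5 n82131 = n171419 := rfl
theorem F269163 : act 6 n171419 = n82134 := d12_2 D82131 D171419 (iv5 D82134) (iv6 D37647) D37646
def n171421 : Q := act 3 n82132
theorem D171421 : act 3 n82132 = n171421 := rfl
def n171449 : Q := act 3 n82151
theorem D171449 : act 3 n82151 = n171449 := rfl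
theorem F269202 : act 6 n171449 = n84646 := d7_2 (iv6 F126561) D171449 (iv3 D84646)
def n171456 : Q := act 0 n82156
theorem D171456 : act 0 n82156 = n171456 := rfl
theorem F269208 : act 5 n171456 = n170959 := d17_3 D37661 D82156 D171456 (iv4 D170959) (iv5 F126303) F125907 (iv5 D37655) (iv0 D18048) D18050
theorem F269209 : act 1 n82161 = n171456 := d15_0 (iv0 D171456) (iv7 F268637) F268636
def n171457 : Q := act 1 n82156
theorem D171457 : act 1 n82156 = n171457 := rfl
theorem F269214 : act 5 n171457 = n86057 := d17_7 D122044 F194877 (iv1 F269018) F269016 (iv4 D82155) D82156 D171457 (iv0 F194891) (iv4 D122046)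
theorem F269215 : act 0 n82162 = n164050 := d21_4 (iv5 F269208) (iv1 F269209) (iv5 D82161) D82162 F258519 (iv5 F269214) (iv1 D171457) (iv5 D82156) D82157 F268593
def n171465 : Q := act 6 n82160
theorem D171465 : act 6 n82160 = n171465 := rfl
theorem F269223 : act 4 n171465 = n82162 := d10_1 D171465 (iv6 D82162) D82160
theorem F269224 : act 5 n171465 = n121503 := d12_1 D171465 (iv6 D121503) (iv5 D56101) D56102 F126570
theorem F269227 : act 0 n162169 = n171465 := d18_0 F269223 F269215 (iv4 D164050) (iv5 D78812) D78811 (iv0 F126197) F112776 D77911 D162169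
def n171496 : Q := act 5 n82173
theorem D171496 : act 5 n82173 = n171496 := rfl
theorem F269252 : act 1 n171496 = n171326 := d17_6 (iv1 D168540) D168541 F265646 (iv5 D168663) (iv4 F149470) D171496 (iv5 D171326) (iv0 F256320) F265518
def n171497 : Q := act 5 n82176
theorem D171497 : act 5 n82176 = n171497 := rfl
theorem F269254 : act 2 n171497 = n166102 := d2_1 D171497 F261515 (iv2 F149479)
theorem F269255 : act 3 n171497 = n98825 := d6_1 D171497 (iv5 D98825) F127579
def n171498 : Q := act 0 n82179
theorem D171498 : act 0 n82179 = n171498 := rfl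
def n171499 : Q := act 1 n82179
theorem D171499 : act 1 n82179 = n171499 := rfl
def n171500 : Q := act 2 n82179
theorem D171500 : act 2 n82179 = n171500 := rfl
theorem F269257 : act 4 n171500 = n86438 := d1_2 (iv4 F126594) D171500 (iv2 D86438)
theorem F269258 : act 7 n171500 = n171500 := d4_2 F126595 D171500 (iv2 D171500)
theorem F269259 : act 1 n171500 = n171498 := d15_0 (iv0 D171498) F126595 D171500
theorem F269260 : act 1 n171499 = n171500 := d15_1 D171499 F269258 (iv2 D171500)
def n171501 : Q := act 5 n82179
theorem D171501 : act 5 n82179 = n171501 := rfl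
def n171506 : Q := act 2 n82182
theorem D171506 : act 2 n82182 = n171506 := rfl
theorem F269275 : act 4 n171506 = n98282 := d1_2 (iv4 F126606) D171506 (iv2 D98282)
theorem F269277 : act 1 n171506 = n82375 := d15_0 (iv0 F126879) F126607 D171506
def n171539 : Q := act 6 n82195
theorem D171539 : act 6 n82195 = n171539 := rfl
theorem F269321 : act 5 n171539 = n84783 := d12_1 D171539 F129994 (iv5 F126526) (iv6 F126530) D82195
theorem F269323 : act 0 n171539 = n86212 := d21_4 (iv5 D37675) D37673 D82195 D171539 F132169 D170846 F268453 F250738 (iv6 D92215) (iv1 F124425)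
theorem F269324 : act 0 n86207 = n171539 := d21_1 D86207 F269321 F129994 (iv1 D75221) (iv6 D34443) (iv5 F27392) F21532 (iv5 F13740) D18874 D39897
def n171541 : Q := act 6 n82197
theorem D171541 : act 6 n82197 = n171541 := rfl
theorem F269326 : act 2 n171541 = n157893 := d3_1 D171541 (iv6 D157893) (iv2 F126630)
def n171552 : Q := act 6 n82205
theorem D171552 : act 6 n82205 = n171552 := rfl
theorem F269357 : act 5 n171552 = n91699 := d21_6 (iv5 D21939) (iv1 F17625) D18059 D37681 D82205 D171552 (iv1 F255481) F119129 (iv6 D37667) (iv1 F34446)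
def n171553 : Q := act 5 n82206
theorem D171553 : act 5 n82206 = n171553 := rfl
theorem F269359 : act 2 n171553 = n161125 := d2_1 D171553 F254723 (iv2 F149464)
theorem F269361 : act 6 n171553 = n98156 := d12_2 F194889 D171553 (iv5 F263600) (iv6 F263602) F194887
theorem F269362 : act 7 n171553 = n171497 := d13_2 (iv7 F149465) D171553 (iv5 D171497)
theorem F269363 : act 0 n171553 = n161444 := d18_0 F255366 F267184 (iv4 D169786) (iv5 D81417) D81416 (iv0 F126191) F58559 D82206 D171553
theorem F269364 : act 1 n166102 = n161444 := d15_0 (iv0 F269363) F269362 F269254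
def n171647 : Q := act 5 n82243
theorem D171647 : act 5 n82243 = n171647 := rfl
theorem F269527 : act 3 n171647 = n82244 := d6_1 D171647 (iv5 D82244) D82243
theorem F269529 : act 4 n94641 = n171647 := d19_2 D44226 D94641 F269527 F195439 (iv5 D37697) F29246 (iv3 D8542) (iv1 F13216) F13214 (iv4 D8414) (iv3 F13199) F17598 (iv5 D10533) (iv4 F16194) F16193 (iv1 F17385) D9998 F16888 D21026
def n171676 : Q := act 6 n82254
theorem D171676 : act 6 n82254 = n171676 := rfl
def n171681 : Q := act 1 n82256
theorem D171681 : act 1 n82256 = n171681 := rfl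
theorem F269620 : act 4 n171681 = n82769 := d18_7 (iv1 D18207) F13499 F117914 D18075 D37714 D82256 D171681 F127517 (iv5 D38045)
def n171683 : Q := act 5 n82256
theorem D171683 : act 5 n82256 = n171683 := rfl
theorem F269621 : act 4 n171683 = n82804 := d16_2 D82256 D171683 (iv5 D82804) (iv4 D38088) (iv5 D18218) D18217 D38086 (iv7 F113186) (iv2 F117931)
theorem F269622 : act 0 n171683 = n82822 := d17_2 (iv1 D171681) D171683 (iv5 F249352) F249351 F113168 F54752 D38040 D82769 (iv4 F269620)
def n171684 : Q := act 6 n82256
theorem D171684 : act 6 n82256 = n171684 := rfl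
theorem F269624 : act 4 n171684 = n82257 := d10_1 D171684 (iv6 D82257) D82256
def n171685 : Q := act 0 n82257
theorem D171685 : act 0 n82257 = n171685 := rfl
def n171686 : Q := act 1 n82257
theorem D171686 : act 1 n82257 = n171686 := rfl
def n171687 : Q := act 7 n82257
theorem D171687 : act 7 n82257 = n171687 := rfl
def n171689 : Q := act 5 n82259
theorem D171689 : act 5 n82259 = n171689 := rfl
theorem F269627 : act 1 n171689 = n98814 := d17_6 F118020 F118007 (iv1 F59536) (iv5 F117949) D82259 D171689 (iv5 D98814) F118474 F58903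
def n171690 : Q := act 6 n82259
theorem D171690 : act 6 n82259 = n171690 := rfl
theorem F269628 : act 4 n171690 = n82260 := d10_1 D171690 (iv6 D82260) D82259
theorem F269630 : act 0 n171690 = n98798 := d21_4 D98814 (iv1 F269627) (iv5 D171689) D171690 (iv6 D98798) D98797 F152306 F127559 F58904 (iv1 F118474)
def n171705 : Q := act 4 n82266
theorem D171705 : act 4 n82266 = n171705 := rfl
theorem F269660 : act 5 n171705 = n82800 := d9_2 D82266 D171705 (iv4 D82800) (iv5 D38086) (iv4 D18217) D18218 D38088 D82804 (iv4 F269621) (iv5 D171683) (iv4 D82256) (iv5 D37714) (iv4 D18075) D18076 D37718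
theorem F269662 : act 1 n171705 = n82822 := d18_6 (iv1 F129122) (iv4 D82262) (iv1 D37717) D37718 D82266 D171705 (iv4 D82822) D82821 F127557
def n171707 : Q := act 1 n82267
theorem D171707 : act 1 n82267 = n171707 := rfl
theorem F269664 : act 4 n98800 = n171707 := d20_6 D78825 (iv1 F119985) F58613 (iv3 F89505) F124755 (iv3 F152318) (iv1 D171707) F126739 F58575 F56537
def n171743 : Q := act 5 n82280
theorem D171743 : act 5 n82280 = n171743 := rfl
theorem F269719 : act 6 n171743 = n123316 := d21_3 D37744 D82280 D171743 (iv1 F197617) (iv6 D122759) (iv5 F196444) (iv1 F196446) F191847 (iv6 F120763) (iv1 D37743)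
theorem F269720 : act 0 n171743 = n122924 := d21_4 D35119 D76841 F197619 (iv6 F269719) F196923 D123035 F197165 (iv5 F191600) (iv6 D76840) (iv1 D35118)
def n171744 : Q := act 6 n82280
theorem D171744 : act 6 n82280 = n171744 := rfl
theorem F269721 : act 5 n171744 = n160329 := d12_1 D171744 (iv6 D160329) F197619 (iv6 F269719) (iv5 D171743)
def n171747 : Q := act 6 n82281
theorem D171747 : act 6 n82281 = n171747 := rfl
theorem F269725 : act 5 n171747 = n124043 := d12_1 D171747 (iv6 D124043) (iv5 D57787) D57788 F126758
def n171757 : Q := act 4 n82284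
theorem D171757 : act 4 n82284 = n171757 := rfl
theorem F269731 : act 7 n171757 = n123940 := d11_2 (iv7 F126760) D171757 (iv4 D123940)
theorem F269732 : act 0 n171757 = n123175 := d18_2 (iv1 F126761) D171757 (iv4 D123175) (iv5 D57321) (iv4 D27445) F21911 (iv4 F21964) F44357 D57299
theorem F269733 : act 1 n171757 = n123167 := d18_6 (iv1 F192000) (iv4 D55510) F120577 (iv4 F58600) D82284 D171757 (iv4 D123167) D123166 F197391
def n171760 : Q := act 4 n82287
theorem D171760 : act 4 n82287 = n171760 := rfl
theorem F269738 : act 6 n171760 = n123283 := d10_2 (iv6 F126766) D171760 F253190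
theorem F269740 : act 0 n171760 = n122903 := d17_0 (iv5 D122903) (iv1 D57134) (iv5 D27386) F21887 D13121 D27399 D57184 F126769 D171760
def n171791 : Q := act 4 n82299
theorem D171791 : act 4 n82299 = n171791 := rfl
theorem F269776 : act 6 n171791 = n83236 := d10_2 (iv6 F126784) D171791 F151537
def n171792 : Q := act 0 n82300
theorem D171792 : act 0 n82300 = n171792 := rfl
theorem F269781 : act 5 n171792 = n122496 := d17_1 D171792 (iv1 F196004) (iv5 D75430) (iv4 D34518) D34519 (iv0 F117959) (iv5 F126783) (iv0 D82299) D82300
theorem F269782 : act 4 n171792 = n98127 := d18_1 D171792 (iv1 F151320) F118453 F113165 (iv4 F152263) F249575 F249573 F113397 (iv5 F126790)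
theorem F269783 : act 0 n83405 = n119597 := d20_4 F269782 (iv1 F151320) F118453 (iv3 F128512) F188632 F87028 D55032 (iv4 F191072) F191071 D171792
theorem F269784 : act 6 n171792 = n83269 := d21_5 D34598 (iv1 F113510) (iv5 F113511) (iv6 F126788) D171792 (iv5 F135946) (iv1 F248890) F248888 F112804 (iv1 F54725)
def n171919 : Q := act 3 n82334
theorem D171919 : act 3 n82334 = n171919 := rfl
theorem F269927 : act 4 n171919 = n82340 := d5_2 D82334 D171919 (iv3 D82340) (iv4 D37774) (iv3 F58616)
theorem F269928 : act 7 n133893 = n171919 := d11_0 F269927 F126852 D133893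
def n171978 : Q := act 3 n82372
theorem D171978 : act 3 n82372 = n171978 := rfl
theorem F270015 : act 4 n171978 = n82375 := d5_2 D82372 D171978 (iv3 D82375) (iv4 D37783) D37782
theorem F270017 : act 0 n98836 = n169311 := d20_1 D98836 (iv4 F266898) (iv3 D169559) F126876 D171978 F270015 (iv1 F269277) F269275 F151689 (iv1 F72907)
theorem F270018 : act 0 n168684 = n98835 := d20_4 (iv4 D82372) D82369 F126875 (iv3 F265674) (iv3 D98835) D98836 F270017 (iv4 F266898) (iv3 D169559) F126876
theorem F270019 : act 1 n168680 = n98835 := d15_0 (iv0 F270018) F266492 F266503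
def n172006 : Q := act 6 n82384
theorem D172006 : act 6 n82384 = n172006 := rfl
theorem F270054 : act 3 n172006 = n82386 := d7_1 D172006 (iv6 D82386) D82384
theorem F270055 : act 4 n172006 = n96183 := d10_1 D172006 (iv6 D96183) (iv4 F126882)
def n172007 : Q := act 6 n82385
theorem D172007 : act 6 n82385 = n172007 := rfl
theorem F270056 : act 2 n172007 = n82986 := d3_1 D172007 (iv6 D82986) (iv2 F126887)
theorem F270057 : act 4 n172007 = n82386 := d10_1 D172007 (iv6 D82386) D82385
def n172008 : Q := act 0 n82386
theorem D172008 : act 0 n82386 = n172008 := rfl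
def n172009 : Q := act 1 n82386
theorem D172009 : act 1 n82386 = n172009 := rfl
theorem F270058 : act 1 n172009 = n82991 := d15_1 D172009 (iv7 D82991) (iv2 F126891)
def n172010 : Q := act 5 n82386
theorem D172010 : act 5 n82386 = n172010 := rfl
theorem F270059 : act 2 n172010 = n82990 := d2_1 D172010 (iv5 D82990) (iv2 F126891)
def n172011 : Q := act 7 n82386
theorem D172011 : act 7 n82386 = n172011 := rfl
theorem F270060 : act 2 n172011 = n82991 := d4_1 D172011 (iv7 D82991) (iv2 F126891)
theorem F270061 : act 6 n172011 = n82981 := d14_1 D172011 (iv7 D82981) (iv6 D38192) (iv7 F122976) D82386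
theorem F270062 : act 1 n82991 = n172008 := d15_0 (iv0 D172008) D172011 F270060
theorem F270063 : act 1 n82989 = n172011 := d15_1 D82989 (iv7 D172011) F126891
theorem F270064 : act 1 n172011 = n82988 := d15_0 (iv0 D82988) D82991 (iv2 F270060)
def n172012 : Q := act 6 n82387
theorem D172012 : act 6 n82387 = n172012 := rfl
theorem F270065 : act 3 n172012 = n82389 := d7_1 D172012 (iv6 D82389) D82387
theorem F270066 : act 4 n172012 = n155078 := d10_1 D172012 (iv6 D155078) (iv4 F126894)
def n172013 : Q := act 6 n82388
theorem D172013 : act 6 n82388 = n172013 := rfl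
theorem F270067 : act 2 n172013 = n82976 := d3_1 D172013 (iv6 D82976) (iv2 F126896)
theorem F270068 : act 3 n172013 = n161569 := d7_1 D172013 (iv6 D161569) (iv3 F126897)
theorem F270069 : act 4 n172013 = n82389 := d10_1 D172013 (iv6 D82389) D82388
def n172014 : Q := act 0 n82389
theorem D172014 : act 0 n82389 = n172014 := rfl
def n172015 : Q := act 1 n82389
theorem D172015 : act 1 n82389 = n172015 := rfl
def n172016 : Q := act 5 n82389
theorem D172016 : act 5 n82389 = n172016 := rfl
theorem F270071 : act 2 n172016 = n82980 := d2_1 D172016 (iv5 D82980) (iv2 F126900)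
def n172017 : Q := act 7 n82389
theorem D172017 : act 7 n82389 = n172017 := rfl
theorem F270072 : act 2 n172017 = n82981 := d4_1 D172017 (iv7 D82981) (iv2 F126900)
theorem F270073 : act 6 n172017 = n82991 := d14_1 D172017 (iv7 D82991) (iv6 D38197) (iv7 F122973) D82389
theorem F270074 : act 1 n82981 = n172014 := d15_0 (iv0 D172014) D172017 F270072
theorem F270076 : act 1 n172017 = n82978 := d15_0 (iv0 D82978) D82981 (iv2 F270072)
def n172018 : Q := act 2 n82390
theorem D172018 : act 2 n82390 = n172018 := rfl
theorem F270077 : act 7 n82391 = n172018 := d15_2 (iv0 D82390) D82391 (iv2 D172018)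
def n172019 : Q := act 3 n82390
theorem D172019 : act 3 n82390 = n172019 := rfl
def n172020 : Q := act 4 n82390
theorem D172020 : act 4 n82390 = n172020 := rfl
def n172021 : Q := act 5 n82390
theorem D172021 : act 5 n82390 = n172021 := rfl
def n172022 : Q := act 6 n82390
theorem D172022 : act 6 n82390 = n172022 := rfl
def n172023 : Q := act 7 n82390
theorem D172023 : act 7 n82390 = n172023 := rfl
theorem F270078 : act 2 n172023 = n82391 := d4_1 D172023 F270077 (iv2 D172018)
def n172024 : Q := act 3 n82391
theorem D172024 : act 3 n82391 = n172024 := rfl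
theorem F270079 : act 4 n172024 = n155080 := d20_6 (iv4 D26595) (iv1 F42528) (iv4 F86842) (iv3 F187746) (iv1 F187750) D172024 (iv1 D155080) F110304 (iv3 F86868) F184587
def n172025 : Q := act 4 n82391
theorem D172025 : act 4 n82391 = n172025 := rfl
def n172026 : Q := act 5 n82391
theorem D172026 : act 5 n82391 = n172026 := rfl
def n172027 : Q := act 6 n82391
theorem D172027 : act 6 n82391 = n172027 := rfl
def n172028 : Q := act 0 n82392
theorem D172028 : act 0 n82392 = n172028 := rfl
def n172029 : Q := act 1 n82392
theorem D172029 : act 1 n82392 = n172029 := rfl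
def n172030 : Q := act 4 n82392
theorem D172030 : act 4 n82392 = n172030 := rfl
theorem F270080 : act 6 n172030 = n101622 := d10_2 (iv6 F126902) D172030 (iv4 D101622)
def n172031 : Q := act 7 n82392
theorem D172031 : act 7 n82392 = n172031 := rfl
theorem F270081 : act 3 n172031 = n82402 := d8_1 D172031 (iv7 D82402) (iv3 F126901)
theorem F270082 : act 5 n172031 = n82393 := d13_1 D172031 (iv7 D82393) D82392
def n172033 : Q := act 1 n82394
theorem D172033 : act 1 n82394 = n172033 := rfl
def n172034 : Q := act 2 n82394
theorem D172034 : act 2 n82394 = n172034 := rfl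
theorem F270084 : act 3 n172034 = n84009 := d0_2 D82394 D172034 (iv2 D84009) (iv3 D38692) (iv2 F124462)
theorem F270085 : act 7 n172034 = n84019 := d4_2 (iv7 F126905) D172034 (iv2 D84019)
theorem F270086 : act 1 n172034 = n84017 := d15_0 (iv0 D84017) (iv7 F126905) D172034
theorem F270087 : act 1 n172033 = n84019 := d15_1 D172033 (iv7 F270085) (iv2 D172034)
def n172035 : Q := act 5 n82394
theorem D172035 : act 5 n82394 = n172035 := rfl
theorem F270090 : act 7 n172035 = n84021 := d13_2 (iv7 F126905) D172035 (iv5 D84021)
def n172037 : Q := act 1 n82395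
theorem D172037 : act 1 n82395 = n172037 := rfl
theorem F270094 : act 7 n172037 = n84012 := d15_2 (iv0 F126908) D172037 (iv2 F128976)
theorem F270095 : act 5 n172037 = n158187 := d17_7 (iv1 F151181) F151301 (iv1 D98122) (iv5 D45829) F121789 D82395 D172037 F249147 (iv4 F121905)
theorem F270096 : act 2 n84013 = n172037 := d2_3 F270095 F249151 F128979
def n172038 : Q := act 4 n82395
theorem D172038 : act 4 n82395 = n172038 := rfl
theorem F270097 : act 2 n172038 = n84014 := d1_1 D172038 (iv4 D84014) (iv2 F126906)
theorem F270098 : act 7 n172038 = n84023 := d11_2 (iv7 F126907) D172038 (iv4 D84023)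
def n172039 : Q := act 6 n82395
theorem D172039 : act 6 n82395 = n172039 := rfl
theorem F270099 : act 2 n172039 = n84015 := d3_1 D172039 (iv6 D84015) (iv2 F126906)
theorem F270100 : act 5 n172039 = n158692 := d12_1 D172039 (iv6 D158692) (iv5 F126911) (iv6 D82396) D82395
def n172040 : Q := act 0 n82397
theorem D172040 : act 0 n82397 = n172040 := rfl
theorem F270101 : act 1 n84009 = n172040 := d15_0 (iv0 D172040) F126913 D84009
def n172041 : Q := act 1 n82397
theorem D172041 : act 1 n82397 = n172041 := rfl
theorem F270102 : act 1 n172041 = n84009 := d15_1 D172041 F184754 F184752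
def n172042 : Q := act 5 n82397
theorem D172042 : act 5 n82397 = n172042 := rfl
theorem F270104 : act 7 n172042 = n84010 := d13_2 (iv7 F126913) D172042 (iv5 D84010)
def n172044 : Q := act 4 n82398
theorem D172044 : act 4 n82398 = n172044 := rfl
theorem F270107 : act 2 n172044 = n84023 := d1_1 D172044 (iv4 D84023) (iv2 F126914)
theorem F270108 : act 7 n172044 = n84014 := d11_2 (iv7 F126915) D172044 (iv4 D84014)
def n172045 : Q := act 6 n82398
theorem D172045 : act 6 n82398 = n172045 := rfl
theorem F270109 : act 2 n172045 = n84024 := d3_1 D172045 (iv6 D84024) (iv2 F126914)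
theorem F270110 : act 5 n172045 = n171676 := d12_1 D172045 (iv6 D171676) F126919 (iv6 D82399) D82398
def n172046 : Q := act 3 n82400
theorem D172046 : act 3 n82400 = n172046 := rfl
theorem F270111 : act 7 n172046 = n84030 := d8_2 (iv7 F126922) D172046 (iv3 D84030)
def n172047 : Q := act 4 n82400
theorem D172047 : act 4 n82400 = n172047 := rfl
theorem F270112 : act 2 n172047 = n84028 := d1_1 D172047 (iv4 D84028) F126921
theorem F270113 : act 7 n172047 = n84031 := d11_2 (iv7 F126922) D172047 (iv4 D84031)
theorem F270114 : act 1 n172047 = n98120 := d18_6 F127204 F118985 (iv1 F123899) (iv4 F249154) F249155 D172047 (iv4 D98120) D98119 (iv5 F151291)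
def n172048 : Q := act 6 n82400
theorem D172048 : act 6 n82400 = n172048 := rfl
theorem F270115 : act 2 n172048 = n84029 := d3_1 D172048 (iv6 D84029) F126921
def n172049 : Q := act 0 n82401
theorem D172049 : act 0 n82401 = n172049 := rfl
theorem F270116 : act 4 n172049 = n83155 := d18_3 F113516 D82401 D172049 (iv5 F151663) F151664 F113079 (iv4 F113345) F113520 D75655
theorem F270117 : act 2 n84033 = n172049 := d15_3 (iv0 D172049) (iv0 F249938) F249937
theorem F270118 : act 7 n172049 = n84034 := d4_2 F249937 F270117 (iv2 F249936)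
theorem F270119 : act 1 n84006 = n172049 := d15_1 F249939 F270118 (iv2 F249936)
def n172050 : Q := act 3 n82401
theorem D172050 : act 3 n82401 = n172050 := rfl
theorem F270120 : act 6 n172050 = n101679 := d7_2 (iv6 F126925) D172050 (iv3 D101679)
def n172051 : Q := act 5 n82401
theorem D172051 : act 5 n82401 = n172051 := rfl
theorem F270121 : act 2 n172051 = n84036 := d2_1 D172051 (iv5 D84036) (iv2 F126924)
theorem F270122 : act 4 n172051 = n84175 := d16_2 D82401 D172051 (iv5 D84175) (iv4 D38801) (iv5 D18448) (iv4 F29568) D38690 F59489 (iv2 F58637)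
theorem F270123 : act 7 n84245 = n172051 := d11_0 F270122 F129213 D84245
def n172052 : Q := act 7 n82401
theorem D172052 : act 7 n82401 = n172052 := rfl
theorem F270124 : act 2 n172052 = n84006 := d4_1 D172052 F128969 (iv2 F126924)
theorem F270125 : act 4 n172052 = n82402 := d11_1 D172052 (iv7 D82402) D82401
theorem F270126 : act 5 n172052 = n84245 := d13_1 D172052 F270123 (iv5 D172051)
theorem F270127 : act 1 n84034 = n172052 := d15_1 D84034 (iv7 D172052) F126924
theorem F270128 : act 1 n172052 = n84033 := d15_1 F270127 (iv7 F249937) F249936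
def n172053 : Q := act 6 n82402
theorem D172053 : act 6 n82402 = n172053 := rfl
theorem F270129 : act 2 n172053 = n84005 := d3_1 D172053 F128968 (iv2 F126926)
theorem F270130 : act 5 n172053 = n83060 := d12_1 D172053 (iv6 D83060) F59083 (iv6 F58641) (iv5 F126927)
theorem F270131 : act 7 n172053 = n101682 := d14_2 D82402 D172053 (iv6 D101682) (iv7 D47283) (iv6 F58638)
def n172054 : Q := act 0 n82403
theorem D172054 : act 0 n82403 = n172054 := rfl
theorem F270132 : act 3 n172054 = n101470 := d20_5 F29288 D18124 D37795 D82403 D172054 F156294 (iv1 F156277) (iv4 F184666) (iv3 D82397) (iv1 D37790)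
theorem F270133 : act 4 n172054 = n82734 := d20_8 (iv4 D46071) (iv1 D22005) (iv4 F29557) F29556 D35404 D77548 (iv4 F126932) D172054 F127503 (iv1 F184671)
theorem F270134 : act 2 n83360 = n172054 := d15_3 (iv0 D172054) F184739 D83360
theorem F270135 : act 1 n84211 = n172054 := d15_0 (iv0 D172054) F126933 D84211
theorem F270136 : act 6 n172054 = n83067 := d3_2 (iv6 F155179) F270134 F131880
theorem F270137 : act 7 n172054 = n82730 := d4_2 D83360 F270134 F127498
theorem E24335 : n84211 = n83358 := ((c15_1 D83358 F270135 F270137 F127498)).symm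
theorem F270138 : act 1 n83358 = n172054 := (sb E24335 F270135)
theorem F270139 : act 2 n83358 = n38834 := (sb E24335 (iv2 D84211))
def n172055 : Q := act 2 n82403
theorem D172055 : act 2 n82403 = n172055 := rfl
theorem F270140 : act 3 n172055 = n84185 := d0_2 D82403 D172055 (iv2 D84185) (iv3 D38817) (iv2 F125823)
theorem F270141 : act 4 n172055 = n161515 := d1_2 (iv4 F126932) D172055 (iv2 D161515)
theorem F270142 : act 7 n172055 = n83358 := d4_2 (iv7 F126933) D172055 F270139
theorem F270143 : act 1 n172055 = n82730 := d15_0 F184758 (iv7 F126933) D172055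
theorem F270144 : act 1 n83360 = n172055 := d15_0 F270143 (iv7 F270137) (iv2 F270134)
def n172056 : Q := act 5 n82403
theorem D172056 : act 5 n82403 = n172056 := rfl
theorem F270145 : act 3 n172056 = n82404 := d6_1 D172056 (iv5 D82404) D82403
theorem F270146 : act 7 n172056 = n84212 := d13_2 (iv7 F126933) D172056 (iv5 D84212)
def n172057 : Q := act 6 n82403
theorem D172057 : act 6 n82403 = n172057 := rfl
theorem F270147 : act 3 n172057 = n82405 := d7_1 D172057 (iv6 D82405) D82403
def n172058 : Q := act 1 n82404
theorem D172058 : act 1 n82404 = n172058 := rfl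
theorem F270149 : act 1 n172058 = n82411 := d15_1 D172058 F126956 (iv2 F126934)
theorem F270150 : act 7 n172058 = n84188 := d15_2 (iv0 F127202) D172058 (iv2 F129236)
theorem F270151 : act 5 n172058 = n98273 := d17_7 (iv1 F113071) F126940 (iv1 D82406) (iv5 D37796) D37795 D82404 D172058 F151673 F113583
theorem F270152 : act 2 n84189 = n172058 := d2_3 F270151 F151669 F129239
def n172059 : Q := act 4 n82404
theorem D172059 : act 4 n82404 = n172059 := rfl
theorem F270154 : act 7 n172059 = n84214 := d11_2 (iv7 F126935) D172059 (iv4 D84214)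
theorem F270155 : act 0 n172059 = n170688 := d18_2 (iv1 D172058) D172059 (iv4 D170688) (iv5 D81823) F58343 (iv0 F117793) (iv4 F112987) F151672 (iv5 F270151)
def n172060 : Q := act 6 n82404
theorem D172060 : act 6 n82404 = n172060 := rfl
theorem F270156 : act 2 n172060 = n84191 := d3_1 D172060 (iv6 D84191) (iv2 F126934)
def n172062 : Q := act 7 n82405
theorem D172062 : act 7 n82405 = n172062 := rfl
theorem F270164 : act 5 n172062 = n98203 := d13_1 D172062 F151530 (iv5 F127167)
theorem F270165 : act 6 n172062 = n83411 := d14_1 D172062 F128520 (iv6 D38836) (iv7 F125824) D82405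
def n172063 : Q := act 4 n82406
theorem D172063 : act 4 n82406 = n172063 := rfl
theorem F270169 : act 6 n172063 = n84276 := d10_2 (iv6 F126942) D172063 (iv4 D84276)
theorem F270171 : act 0 n172063 = n98123 := d18_2 (iv1 F126938) D172063 (iv4 D98123) (iv5 D45829) F121789 (iv0 D37789) F29288 D18125 D37801
theorem F270172 : act 1 n172063 = n98125 := d18_6 D45969 F121905 (iv1 F249147) F249149 F126940 D172063 (iv4 D98125) F124498 (iv5 D45971)
def n172064 : Q := act 0 n82407
theorem D172064 : act 0 n82407 = n172064 := rfl
theorem F270173 : act 4 n172064 = n88651 := d18_3 (iv1 D82406) D82407 D172064 F135938 (iv4 F118985) (iv0 F127204) F112987 D75360 F126940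
theorem F270174 : act 1 n82413 = n172064 := d15_0 (iv0 D172064) F126944 (iv2 F126959)
theorem F270176 : act 6 n88650 = n172064 := d10_0 F270173 (iv6 D88651) D88650

end Cfsg.Agent.Helper17.ONTC
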