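import Cfsg.Agent.Helper17.ONTC.Facts32

set_option autoImplicit false
set_option linter.all false

noncomputable section

namespace Cfsg.Agent.Helper17.ONTC

theorem F270177 : act 7 n84195 = n172064 := d11_0 F270173 (iv7 F151300) (iv4 F151304)
def n172065 : Q := act 1 n82407
theorem D172065 : act 1 n82407 = n172065 := rfl
theorem F270178 : act 1 n172065 = n82413 := d15_1 D172065 F126960 (iv2 F126943)
theorem F270180 : act 4 n172065 = n98275 := d18_7 (iv1 D36112) (iv4 F29479) (iv1 F121894) (iv4 D37795) D37796 D82407 D172065 F151679 (iv5 D79319)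
theorem F270181 : act 2 n84195 = n172065 := d1_3 F270180 F151674 (iv4 F151304)
def n172069 : Q := act 0 n82410
theorem D172069 : act 0 n82410 = n172069 := rfl
theorem F270190 : act 4 n172069 = n128284 := d20_0 (iv1 D128284) (iv4 F187762) (iv3 D119289) (iv1 F86844) F42589 F29568 (iv1 F29289) D37800 D82410 D172069
theorem F270191 : act 1 n84185 = n172069 := d15_0 (iv0 D172069) F126954 D84185
def n172070 : Q := act 1 n82410
theorem D172070 : act 1 n82410 = n172070 := rfl
theorem F270192 : act 4 n128283 = n172070 := d20_0 (iv1 D172070) F126953 (iv3 D78081) (iv1 D35611) F28201 F22811 D13658 D28649 D60308 D128283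
def n172071 : Q := act 2 n82410
theorem D172071 : act 2 n82410 = n172071 := rfl
def n172072 : Q := act 5 n82410
theorem D172072 : act 5 n82410 = n172072 := rfl
theorem F270199 : act 3 n172072 = n82411 := d6_1 D172072 (iv5 D82411) D82410
theorem F270200 : act 7 n172072 = n84186 := d13_2 (iv7 F126954) D172072 (iv5 D84186)
def n172073 : Q := act 6 n82410
theorem D172073 : act 6 n82410 = n172073 := rfl
theorem F270201 : act 3 n172073 = n82412 := d7_1 D172073 (iv6 D82412) D82410
def n172074 : Q := act 4 n82411
theorem D172074 : act 4 n82411 = n172074 := rfl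
theorem F270204 : act 7 n172074 = n84190 := d11_2 (iv7 F126956) D172074 (iv4 D84190)
theorem F270205 : act 1 n172074 = n170688 := d18_6 (iv1 F58642) F29568 (iv1 F29289) D37800 D82411 D172074 (iv4 D170688) (iv0 F126908) (iv5 D82395)
def n172075 : Q := act 6 n82411
theorem D172075 : act 6 n82411 = n172075 := rfl
def n172076 : Q := act 3 n82413
theorem D172076 : act 3 n82413 = n172076 := rfl
theorem F270207 : act 7 n172076 = n84196 := d8_2 (iv7 F126960) D172076 (iv3 D84196)
def n172077 : Q := act 5 n82413
theorem D172077 : act 5 n82413 = n172077 := rfl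
theorem F270208 : act 2 n172077 = n84218 := d2_1 D172077 (iv5 D84218) (iv2 F126959)
theorem F270209 : act 7 n172077 = n84197 := d13_2 (iv7 F126960) D172077 (iv5 D84197)
theorem F270210 : act 0 n172077 = n165096 := d17_2 (iv1 F270174) D172077 (iv5 D165096) (iv4 D79323) (iv5 D36113) D36112 D79319 (iv0 F135939) (iv4 F270173)
def n172078 : Q := act 3 n82414
theorem D172078 : act 3 n82414 = n172078 := rfl
theorem F270211 : act 4 n172078 = n161554 := d5_2 D82414 D172078 (iv3 D161554) F123963 F123965
theorem F270212 : act 7 n172078 = n84231 := d8_2 (iv7 F126962) D172078 (iv3 D84231)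
def n172079 : Q := act 5 n82414
theorem D172079 : act 5 n82414 = n172079 := rfl
def n172080 : Q := act 3 n82415
theorem D172080 : act 3 n82415 = n172080 := rfl
theorem F270215 : act 4 n172080 = n163632 := d5_2 (iv4 F126973) D172080 (iv3 D163632) (iv4 D78619) (iv3 F121900)
theorem F270216 : act 7 n172080 = n84236 := d8_2 (iv7 F126974) D172080 (iv3 D84236)
def n172081 : Q := act 5 n82415
theorem D172081 : act 5 n82415 = n172081 := rfl
theorem F270217 : act 2 n172081 = n84234 := d2_1 D172081 (iv5 D84234) F126972
theorem F270218 : act 7 n172081 = n84237 := d13_2 (iv7 F126974) D172081 (iv5 D84237)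
def n172082 : Q := act 6 n82415
theorem D172082 : act 6 n82415 = n172082 := rfl
theorem F270219 : act 2 n172082 = n84235 := d3_1 D172082 (iv6 D84235) F126972
theorem F270220 : act 4 n172082 = n98128 := d10_1 D172082 (iv6 D98128) (iv4 F126973)
theorem F270221 : act 5 n172082 = n164112 := d21_6 (iv5 F63900) F63901 (iv5 D37807) (iv6 F58650) D82415 D172082 (iv1 D164112) (iv5 D78840) (iv6 D35890) D35887
def n172083 : Q := act 3 n82416
theorem D172083 : act 3 n82416 = n172083 := rfl
theorem F270222 : act 7 n172083 = n84233 := d8_2 F126969 D172083 (iv3 D84233)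
def n172084 : Q := act 5 n82416
theorem D172084 : act 5 n82416 = n172084 := rfl
theorem F270223 : act 2 n172084 = n84237 := d2_1 D172084 (iv5 D84237) F126968
theorem F270224 : act 7 n172084 = n84234 := d13_2 F126969 D172084 (iv5 D84234)
def n172085 : Q := act 0 n82417
theorem D172085 : act 0 n82417 = n172085 := rfl
def n172086 : Q := act 1 n82417
theorem D172086 : act 1 n82417 = n172086 := rfl
def n172087 : Q := act 2 n82417
theorem D172087 : act 2 n82417 = n172087 := rfl
theorem F270225 : act 3 n172087 = n84241 := d0_2 D82417 D172087 (iv2 D84241) (iv3 D38851) (iv2 F58649)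
theorem F270226 : act 6 n172087 = n82422 := d3_2 (iv6 F126976) D172087 (iv2 D82422)
def n172088 : Q := act 5 n82417
theorem D172088 : act 5 n82417 = n172088 := rfl
theorem F270227 : act 3 n172088 = n82418 := d6_1 D172088 (iv5 D82418) D82417
def n172089 : Q := act 7 n82417
theorem D172089 : act 7 n82417 = n172089 := rfl
theorem F270228 : act 3 n172089 = n82419 := d8_1 D172089 (iv7 D82419) D82417
def n172090 : Q := act 0 n82418
theorem D172090 : act 0 n82418 = n172090 := rfl
theorem F270229 : act 5 n172090 = n98123 := d17_3 (iv1 D82416) D82418 D172090 (iv4 D98123) (iv5 D45829) (iv0 D21920) D21922 D45837 (iv4 F126967)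
theorem F270230 : act 2 n84243 = n172090 := d2_3 F270229 (iv2 F260346) F260348
theorem F270231 : act 7 n84244 = n172090 := d13_0 F270229 (iv7 F260356) (iv5 F260359)
theorem F270232 : act 1 n84175 = n172090 := d17_6 (iv1 D82406) (iv5 D37796) (iv1 F29294) D18448 D38801 D84175 F270229 (iv0 F270171) (iv4 D172063)
def n172091 : Q := act 1 n82418
theorem D172091 : act 1 n82418 = n172091 := rfl
theorem F270233 : act 1 n172091 = n84175 := d15_1 D172091 F129213 (iv2 F126977)
theorem F270234 : act 7 n172091 = n84243 := d15_2 (iv0 D172090) D172091 F270230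
theorem F270235 : act 5 n172091 = n98125 := d17_7 F117723 (iv5 D37801) (iv1 D18125) D18126 D37804 D82418 D172091 F151308 (iv4 D81825)
theorem F270236 : act 2 n84244 = n172091 := d2_3 F270235 (iv2 F260354) (iv5 F260359)
def n172092 : Q := act 4 n82418
theorem D172092 : act 4 n82418 = n172092 := rfl
theorem F270237 : act 2 n172092 = n84245 := d1_1 D172092 (iv4 D84245) (iv2 F126977)
theorem F270238 : act 5 n172092 = n84006 := d9_2 D82418 D172092 (iv4 D84006) (iv5 D38690) F29568 D18448 D38801 D84175 (iv4 F270122) (iv5 D172051) (iv4 D82401) (iv5 D37791) F29288 D18126 D37804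
theorem F270239 : act 7 n84036 = n172092 := d13_0 F270238 F128969 D84036
def n172093 : Q := act 6 n82418
theorem D172093 : act 6 n82418 = n172093 := rfl
theorem F270240 : act 2 n172093 = n84246 := d3_1 D172093 (iv6 D84246) (iv2 F126977)
theorem F270241 : act 5 n172093 = n82424 := d12_1 D172093 (iv6 D82424) (iv5 D37807) (iv6 F58650) D82418
def n172094 : Q := act 7 n82418
theorem D172094 : act 7 n82418 = n172094 := rfl
theorem F270242 : act 2 n172094 = n84175 := d4_1 D172094 F129213 (iv2 F126977)
theorem F270243 : act 4 n172094 = n84036 := d11_1 D172094 F270239 (iv4 D172092)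
theorem F270244 : act 5 n172094 = n82419 := d13_1 D172094 (iv7 D82419) D82418
theorem F270245 : act 1 n84244 = n172094 := d15_1 D84244 (iv7 D172094) F126977
theorem F270246 : act 1 n172094 = n84243 := d15_1 F270245 (iv7 F270234) (iv2 F270236)
def n172095 : Q := act 2 n82420
theorem D172095 : act 2 n82420 = n172095 := rfl
theorem F270247 : act 7 n82421 = n172095 := d15_2 (iv0 D82420) D82421 (iv2 D172095)
def n172096 : Q := act 3 n82420
theorem D172096 : act 3 n82420 = n172096 := rfl
theorem F270248 : act 4 n172096 = n157786 := d20_6 F54697 (iv1 F27444) D18128 D37806 D82420 D172096 (iv1 D157786) (iv4 F135891) (iv3 D88640) F63806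
def n172097 : Q := act 4 n82420
theorem D172097 : act 4 n82420 = n172097 := rfl
def n172098 : Q := act 5 n82420
theorem D172098 : act 5 n82420 = n172098 := rfl
def n172099 : Q := act 6 n82420
theorem D172099 : act 6 n82420 = n172099 := rfl
def n172100 : Q := act 7 n82420
theorem D172100 : act 7 n82420 = n172100 := rfl
theorem F270249 : act 2 n172100 = n82421 := d4_1 D172100 F270247 (iv2 D172095)
def n172101 : Q := act 3 n82421
theorem D172101 : act 3 n82421 = n172101 := rfl
def n172102 : Q := act 4 n82421
theorem D172102 : act 4 n82421 = n172102 := rfl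
def n172103 : Q := act 5 n82421
theorem D172103 : act 5 n82421 = n172103 := rfl
def n172104 : Q := act 6 n82421
theorem D172104 : act 6 n82421 = n172104 := rfl
def n172105 : Q := act 5 n82422
theorem D172105 : act 5 n82422 = n172105 := rfl
theorem F270250 : act 2 n172105 = n82423 := d2_1 D172105 (iv5 D82423) D82422
theorem F270251 : act 3 n172105 = n84326 := d6_1 D172105 (iv5 D84326) (iv3 F126983)
theorem F270252 : act 7 n172105 = n103001 := d13_2 F248918 D172105 (iv5 F248917)
theorem F270253 : act 1 n103000 = n172105 := d15_1 D103000 F270252 (iv2 D103001)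
theorem F270254 : act 1 n172105 = n102999 := d15_0 (iv0 D102999) (iv7 F126985) (iv2 F270250)
def n172106 : Q := act 0 n82423
theorem D172106 : act 0 n82423 = n172106 := rfl
theorem F270255 : act 1 n103001 = n172106 := d15_0 (iv0 D172106) F126985 D103001
def n172107 : Q := act 1 n82423
theorem D172107 : act 1 n82423 = n172107 := rfl
theorem F270256 : act 1 n172107 = n103001 := d15_1 D172107 (iv7 F270252) F270250
def n172108 : Q := act 4 n82423
theorem D172108 : act 4 n82423 = n172108 := rfl
theorem F270257 : act 3 n172108 = n89683 := d5_1 D172108 (iv4 D89683) F64578 (iv4 F58657) (iv3 F126984)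
theorem F270258 : act 7 n172108 = n102976 := d11_2 (iv7 F126985) D172108 F158255
def n172109 : Q := act 6 n82423
theorem D172109 : act 6 n82423 = n172109 := rfl
theorem F270259 : act 3 n172109 = n82424 := d7_1 D172109 (iv6 D82424) (iv3 F126984)
def n172110 : Q := act 0 n82424
theorem D172110 : act 0 n82424 = n172110 := rfl
def n172111 : Q := act 1 n82424
theorem D172111 : act 1 n82424 = n172111 := rfl
theorem F270260 : act 1 n172111 = n84339 := d15_1 D172111 (iv7 D84339) (iv2 F126986)
def n172112 : Q := act 7 n82424
theorem D172112 : act 7 n82424 = n172112 := rfl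
theorem F270261 : act 2 n172112 = n84339 := d4_1 D172112 (iv7 D84339) (iv2 F126986)
theorem F270262 : act 4 n172112 = n89691 := d11_1 D172112 (iv7 D89691) (iv4 F126987)
theorem F270263 : act 6 n172112 = n103006 := d14_1 D172112 (iv7 D103006) (iv6 D47758) (iv7 F58658) D82424
theorem F270264 : act 1 n84339 = n172110 := d15_0 (iv0 D172110) D172112 F270261
theorem F270265 : act 1 n84338 = n172112 := d15_1 D84338 (iv7 D172112) F126986
theorem F270266 : act 1 n172112 = n84337 := d15_0 (iv0 D84337) D84339 (iv2 F270261)
def n172113 : Q := act 0 n82425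
theorem D172113 : act 0 n82425 = n172113 := rfl
def n172114 : Q := act 1 n82425
theorem D172114 : act 1 n82425 = n172114 := rfl
def n172115 : Q := act 5 n82425
theorem D172115 : act 5 n82425 = n172115 := rfl
def n172116 : Q := act 7 n82425
theorem D172116 : act 7 n82425 = n172116 := rfl
def n172129 : Q := act 5 n82436
theorem D172129 : act 5 n82436 = n172129 := rfl
theorem F270294 : act 0 n172129 = n82921 := d17_2 (iv1 F195756) D172129 (iv5 D82921) F120851 D160602 F253974 (iv5 D160809) (iv0 F151620) F127041
theorem F270295 : act 4 n172129 = n121669 := d17_4 (iv1 F127777) (iv5 F118660) (iv1 F195756) D172129 (iv5 F261960) (iv0 D166369) (iv5 D79884) D79882 (iv4 F127775)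
def n172130 : Q := act 6 n82438
theorem D172130 : act 6 n82438 = n172130 := rfl
theorem F270298 : act 5 n172130 = n170739 := d12_1 D172130 (iv6 D170739) (iv5 D81854) D81855 F127014
def n172131 : Q := act 3 n82439
theorem D172131 : act 3 n82439 = n172131 := rfl
theorem F270300 : act 6 n172131 = n120973 := d7_2 (iv6 F127015) D172131 F192936
def n172134 : Q := act 6 n82441
theorem D172134 : act 6 n82441 = n172134 := rfl
theorem F270307 : act 3 n172134 = n82442 := d7_1 D172134 (iv6 D82442) D82441
def n172135 : Q := act 0 n82442
theorem D172135 : act 0 n82442 = n172135 := rfl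
def n172136 : Q := act 1 n82442
theorem D172136 : act 1 n82442 = n172136 := rfl
def n172137 : Q := act 5 n82442
theorem D172137 : act 5 n82442 = n172137 := rfl
def n172138 : Q := act 7 n82442
theorem D172138 : act 7 n82442 = n172138 := rfl
def n172139 : Q := act 0 n82443
theorem D172139 : act 0 n82443 = n172139 := rfl
def n172140 : Q := act 1 n82443
theorem D172140 : act 1 n82443 = n172140 := rfl
def n172141 : Q := act 5 n82443
theorem D172141 : act 5 n82443 = n172141 := rfl
def n172142 : Q := act 7 n82443
theorem D172142 : act 7 n82443 = n172142 := rfl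
def n172143 : Q := act 0 n82444
theorem D172143 : act 0 n82444 = n172143 := rfl
theorem F270309 : act 4 n172143 = n98234 := d20_2 (iv4 F127021) D172143 (iv3 D98234) (iv1 F151589) F151586 (iv4 F192682) (iv1 F192685) (iv4 F193784) (iv3 F193785) (iv1 D82531)
theorem E24336 : n152243 = n98234 := ((c20_1 F270309 (iv1 F240156) (iv4 F264235) (iv3 D167807) (iv1 F188366) D127999 F205989 (iv1 F239934) (iv4 F253859) F253858 D172143)).symm
theorem F270311 : act 1 n98234 = n71816 := (sb E24336 (iv0 D152243))
theorem F270312 : act 0 n172143 = n82448 := d20_1 (iv4 F270309) F127024 F58750 F118906 D45965 F118908 (iv1 F252218) (iv4 F239303) F239302 (iv1 F270311)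
def n172144 : Q := act 1 n82444
theorem D172144 : act 1 n82444 = n172144 := rfl
theorem F270313 : act 1 n172144 = n82448 := d15_1 D172144 (iv7 D82448) (iv2 F127020)
theorem F270314 : act 4 n152244 = n172144 := d20_0 (iv1 D172144) F127021 (iv3 F113289) F249406 (iv3 D119227) D119228 F187618 F123800 D152922 (iv1 F240155)
def n172145 : Q := act 5 n82444
theorem D172145 : act 5 n82444 = n172145 := rfl
def n172146 : Q := act 7 n82444
theorem D172146 : act 7 n82444 = n172146 := rfl
theorem F270316 : act 2 n172146 = n82448 := d4_1 D172146 (iv7 D82448) (iv2 F127020)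
theorem F270318 : act 4 n172146 = n82533 := d11_1 D172146 (iv7 D82533) (iv4 F127021)
theorem F270319 : act 6 n172146 = n168996 := d14_1 D172146 F266163 (iv6 D152378) F108382 D82444
theorem F270320 : act 1 n82446 = n172146 := d15_1 D82446 (iv7 D172146) F127020
theorem F270321 : act 1 n172146 = n82445 := d15_0 (iv0 D82445) D82448 (iv2 F270316)
theorem F270322 : act 4 n158441 = n82445 := d20_0 (iv1 F270321) F270318 (iv3 F249440) (iv1 F249442) (iv3 F234199) (iv4 F190307) (iv1 D114614) F83596 (iv3 F113444) D158441
def n172147 : Q := act 2 n82445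
theorem D172147 : act 2 n82445 = n172147 := rfl
def n172148 : Q := act 3 n82445
theorem D172148 : act 3 n82445 = n172148 := rfl
theorem F270324 : act 4 n172148 = n170554 := d20_6 (iv4 D37838) (iv1 D18138) (iv4 F29305) (iv3 F58675) D82445 D172148 (iv1 D170554) (iv4 F194703) (iv3 D121946) F118639
def n172149 : Q := act 5 n82445
theorem D172149 : act 5 n82445 = n172149 := rfl
def n172150 : Q := act 6 n82445
theorem D172150 : act 6 n82445 = n172150 := rfl
def n172151 : Q := act 7 n82445
theorem D172151 : act 7 n82445 = n172151 := rfl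
def n172152 : Q := act 3 n82446
theorem D172152 : act 3 n82446 = n172152 := rfl
def n172153 : Q := act 4 n82446
theorem D172153 : act 4 n82446 = n172153 := rfl
theorem F270326 : act 3 n172153 = n98230 := d20_3 (iv4 F270318) (iv1 F270320) D172153 (iv1 D98230) F72504 (iv4 F88132) D120802 (iv4 F192686) F192687 (iv1 F127180)
def n172154 : Q := act 5 n82446
theorem D172154 : act 5 n82446 = n172154 := rfl
def n172155 : Q := act 6 n82446
theorem D172155 : act 6 n82446 = n172155 := rfl
def n172156 : Q := act 0 n82447
theorem D172156 : act 0 n82447 = n172156 := rfl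
def n172160 : Q := act 2 n82449
theorem D172160 : act 2 n82449 = n172160 := rfl
theorem F270329 : act 7 n82450 = n172160 := d15_2 (iv0 D82449) D82450 (iv2 D172160)
def n172161 : Q := act 3 n82449
theorem D172161 : act 3 n82449 = n172161 := rfl
def n172162 : Q := act 4 n82449
theorem D172162 : act 4 n82449 = n172162 := rfl
def n172163 : Q := act 5 n82449
theorem D172163 : act 5 n82449 = n172163 := rfl
def n172164 : Q := act 6 n82449
theorem D172164 : act 6 n82449 = n172164 := rfl
def n172165 : Q := act 7 n82449
theorem D172165 : act 7 n82449 = n172165 := rfl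
theorem F270330 : act 2 n172165 = n82450 := d4_1 D172165 F270329 (iv2 D172160)
def n172166 : Q := act 3 n82450
theorem D172166 : act 3 n82450 = n172166 := rfl
def n172167 : Q := act 4 n82450
theorem D172167 : act 4 n82450 = n172167 := rfl
def n172168 : Q := act 5 n82450
theorem D172168 : act 5 n82450 = n172168 := rfl
def n172169 : Q := act 6 n82450
theorem D172169 : act 6 n82450 = n172169 := rfl
def n172170 : Q := act 0 n82451
theorem D172170 : act 0 n82451 = n172170 := rfl
def n172171 : Q := act 1 n82451
theorem D172171 : act 1 n82451 = n172171 := rfl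
def n172172 : Q := act 4 n82451
theorem D172172 : act 4 n82451 = n172172 := rfl
theorem F270331 : act 6 n172172 = n82457 := d10_2 (iv6 F127026) D172172 (iv4 D82457)
def n172173 : Q := act 7 n82451
theorem D172173 : act 7 n82451 = n172173 := rfl
theorem F270332 : act 5 n172173 = n82452 := d13_1 D172173 (iv7 D82452) D82451
def n172181 : Q := act 6 n82456
theorem D172181 : act 6 n82456 = n172181 := rfl
theorem F270347 : act 5 n172181 = n162710 := d12_1 D172181 (iv6 D162710) (iv5 D78187) D78188 F127036
def n172182 : Q := act 0 n82457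
theorem D172182 : act 0 n82457 = n172182 := rfl
theorem F270348 : act 4 n172182 = n160688 := d18_3 (iv1 D82456) D82457 D172182 F253825 (iv4 D82463) (iv0 F117625) F123774 F123773 F127036
theorem F270349 : act 1 n167756 = n172182 := d18_6 (iv1 F121340) (iv4 D37833) (iv1 F58667) (iv4 F117818) D80501 D167756 F270348 (iv0 D160688) (iv5 D77072)
def n172183 : Q := act 1 n82457
theorem D172183 : act 1 n82457 = n172183 := rfl
theorem F270350 : act 1 n172183 = n167756 := d15_1 D172183 F264098 F253878
def n172184 : Q := act 3 n82457
theorem D172184 : act 3 n82457 = n172184 := rfl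
def n172185 : Q := act 7 n82457
theorem D172185 : act 7 n82457 = n172185 := rfl
theorem F270354 : act 5 n172185 = n160722 := d13_1 D172185 (iv7 F264098) F264099
def n172191 : Q := act 6 n82459
theorem D172191 : act 6 n82459 = n172191 := rfl
theorem F270359 : act 3 n172191 = n82461 := d7_1 D172191 (iv6 D82461) D82459
def n172197 : Q := act 5 n82468
theorem D172197 : act 5 n82468 = n172197 := rfl
theorem F270374 : act 6 n172197 = n120838 := d12_2 D82468 D172197 (iv5 D120838) F127061 (iv5 D82467)
theorem F270376 : act 0 n172197 = n121963 := d17_2 F198560 D172197 (iv5 D121963) F124448 D120757 F194615 (iv5 D121926) (iv0 F249152) F120415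
def n172206 : Q := act 4 n82475
theorem D172206 : act 4 n82475 = n172206 := rfl
theorem F270397 : act 6 n172206 = n162744 := d10_2 F128090 D172206 (iv4 F256970)
theorem F270399 : act 0 n172206 = n162550 := d18_2 F127070 D172206 (iv4 D162550) (iv5 D78057) D78056 F253680 F253678 F122917 D81854
def n172207 : Q := act 6 n82482
theorem D172207 : act 6 n82482 = n172207 := rfl
theorem F270401 : act 2 n172207 = n89092 := d3_1 D172207 (iv6 D89092) (iv2 F127106)
theorem F270402 : act 3 n172207 = n89085 := d7_1 D172207 (iv6 D89085) (iv3 F127107)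
theorem F270403 : act 4 n172207 = n82483 := d10_1 D172207 (iv6 D82483) D82482
def n172208 : Q := act 0 n82483
theorem D172208 : act 0 n82483 = n172208 := rfl
def n172209 : Q := act 1 n82483
theorem D172209 : act 1 n82483 = n172209 := rfl
def n172210 : Q := act 5 n82483
theorem D172210 : act 5 n82483 = n172210 := rfl
theorem F270405 : act 2 n172210 = n89095 := d2_1 D172210 (iv5 D89095) (iv2 F127111)
theorem F270407 : act 6 n172210 = n158365 := d12_2 D82483 D172210 (iv5 D158365) (iv6 D75529) (iv5 F58703)
def n172211 : Q := act 7 n82483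
theorem D172211 : act 7 n82483 = n172211 := rfl
theorem F270408 : act 2 n172211 = n89096 := d4_1 D172211 (iv7 D89096) (iv2 F127111)
theorem F270409 : act 3 n172211 = n98074 := d8_1 D172211 (iv7 D98074) (iv3 F127112)
theorem F270410 : act 6 n172211 = n89089 := d14_1 D172211 (iv7 D89089) (iv6 D41625) F58706 D82483
theorem F270411 : act 1 n89096 = n172208 := d15_0 (iv0 D172208) D172211 F270408
theorem F270413 : act 1 n172211 = n89093 := d15_0 (iv0 D89093) D89096 (iv2 F270408)
def n172212 : Q := act 6 n82484
theorem D172212 : act 6 n82484 = n172212 := rfl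
theorem F270414 : act 2 n172212 = n98066 := d3_1 D172212 (iv6 D98066) (iv2 F127113)
theorem F270415 : act 3 n172212 = n82485 := d7_1 D172212 (iv6 D82485) D82484
theorem F270416 : act 4 n172212 = n96946 := d10_1 D172212 (iv6 D96946) (iv4 F127114)
def n172213 : Q := act 0 n82485
theorem D172213 : act 0 n82485 = n172213 := rfl
def n172214 : Q := act 1 n82485
theorem D172214 : act 1 n82485 = n172214 := rfl
theorem F270417 : act 1 n172214 = n89089 := d15_1 D172214 (iv7 D89089) (iv2 F127119)
def n172215 : Q := act 5 n82485
theorem D172215 : act 5 n82485 = n172215 := rfl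
theorem F270418 : act 2 n172215 = n89088 := d2_1 D172215 (iv5 D89088) (iv2 F127119)
def n172216 : Q := act 7 n82485
theorem D172216 : act 7 n82485 = n172216 := rfl
theorem F270419 : act 2 n172216 = n89089 := d4_1 D172216 (iv7 D89089) (iv2 F127119)
theorem F270420 : act 6 n172216 = n89096 := d14_1 D172216 (iv7 D89096) (iv6 D41628) F58714 D82485
theorem F270421 : act 1 n89089 = n172213 := d15_0 (iv0 D172213) D172216 F270419
theorem F270423 : act 1 n172216 = n89086 := d15_0 (iv0 D89086) D89089 (iv2 F270419)
def n172217 : Q := act 5 n82486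
theorem D172217 : act 5 n82486 = n172217 := rfl
theorem F270424 : act 2 n172217 = n82489 := d2_1 D172217 (iv5 D82489) (iv2 F127120)
theorem F270425 : act 3 n172217 = n89158 := d6_1 D172217 (iv5 D89158) (iv3 F127121)
theorem F270426 : act 6 n172217 = n101461 := d12_2 D82486 D172217 (iv5 D101461) (iv6 D47213) (iv5 F58709)
theorem F270427 : act 0 n100855 = n172217 := d21_7 F58716 (iv1 D22601) (iv5 D10714) D10715 D22604 D47015 D100855 (iv5 D172217) (iv6 D82486) (iv1 F58717)
def n172218 : Q := act 2 n82487
theorem D172218 : act 2 n82487 = n172218 := rfl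
theorem F270428 : act 7 n82488 = n172218 := d15_2 (iv0 D82487) D82488 (iv2 D172218)
def n172219 : Q := act 4 n82487
theorem D172219 : act 4 n82487 = n172219 := rfl
theorem F270429 : act 3 n172219 = n89113 := d5_1 D172219 (iv4 D89113) D89112 F136829 (iv3 F136831)
theorem F270430 : act 0 n95730 = n172219 := d20_10 (iv4 D172219) (iv1 F147790) (iv4 F148773) F148772 (iv1 F149510) (iv3 F268363) (iv4 F268360) F268361 F147425 (iv3 F147422)
def n172220 : Q := act 5 n82487
theorem D172220 : act 5 n82487 = n172220 := rfl
theorem F270431 : act 3 n172220 = n170767 := d6_1 D172220 (iv5 D170767) (iv3 F136831)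
def n172221 : Q := act 6 n82487
theorem D172221 : act 6 n82487 = n172221 := rfl
theorem F270432 : act 3 n172221 = n170768 := d7_1 D172221 (iv6 D170768) (iv3 F136831)
def n172222 : Q := act 7 n82487
theorem D172222 : act 7 n82487 = n172222 := rfl
theorem F270433 : act 2 n172222 = n82488 := d4_1 D172222 F270428 (iv2 D172218)
theorem F270434 : act 3 n172222 = n170769 := d8_1 D172222 (iv7 D170769) (iv3 F136831)
def n172223 : Q := act 3 n82488
theorem D172223 : act 3 n82488 = n172223 := rfl
theorem F270435 : act 2 n172223 = n170770 := d0_1 D172223 (iv3 D170770) (iv2 F268359) (iv3 F270434) F270433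
theorem F270436 : act 4 n172223 = n97408 := d5_2 F148707 D172223 F150141 (iv4 D96542) D96541
theorem F270437 : act 2 n97408 = n87467 := d1_1 F270436 (iv4 F268360) (iv2 F270435)
theorem F270438 : act 0 n98639 = n172223 := d20_1 (iv4 F152031) F270436 F150141 (iv1 F205508) F149541 F71420 (iv1 F205495) (iv4 F144793) F144792 (iv1 F147157)
theorem F270439 : act 0 n172223 = n97083 := d20_1 (iv4 F270436) F149771 F71567 (iv1 F157606) (iv3 D44107) (iv4 D20960) (iv1 F62699) (iv4 F62597) D45490 D97408
theorem F270440 : act 7 n87466 = n97408 := d15_2 F150149 F150147 F270437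
theorem F270441 : act 7 n97409 = n87467 := d15_2 (iv0 D97408) D97409 (iv2 F270437)
theorem F270442 : act 2 n87466 = n97409 := d4_3 F270441 (iv2 F270437) (iv7 F270440)
theorem F270443 : act 7 n96950 = n96052 := d8_2 F270441 F268363 F157299
theorem F270444 : act 2 n96052 = n96949 := d15_3 (iv0 D96949) D96950 F270443
theorem F270445 : act 2 n96950 = n96051 := d15_3 (iv0 D96051) D96052 (iv7 F270443)
theorem F270446 : act 2 n95508 = n96542 := d0_3 F268363 F270445 F147665 (iv3 F150141) F270437
theorem F270447 : act 7 n96051 = n96949 := d4_2 (iv7 F270443) F270445 (iv2 F270444)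
theorem F270448 : act 7 n96537 = n95508 := d8_2 F270447 F149508 (iv3 F147665)
theorem E24337 : n95502 = n45078 := (c11_3 F270448 (iv4 D95508) F147134 D96537)
theorem E24338 : n96535 = n44614 := ((D96535).symm.trans (sb E24337 (iv2 D95502)))
theorem E24339 : n96540 = n44615 := ((D96540).symm.trans (sb E24337 (iv7 F147134)))
theorem F270449 : act 2 n44614 = n45078 := (sb E24338 (iv2 D96535))
theorem E24340 : n95507 = n45079 := ((D95507).symm.trans (sb E24338 (iv7 F148703)))
theorem F270450 : act 7 n44615 = n45078 := (sb E24339 (iv7 D96540))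
theorem F270451 : act 2 n45079 = n44615 := (sb E24340 F147136)
theorem F270452 : act 7 n45079 = n44614 := (sb E24340 (iv7 D95507))
theorem F270453 : act 2 n96537 = n95504 := d15_3 (iv0 F205497) F205498 (iv7 F270448)
theorem F270454 : act 7 n95504 = n96542 := d4_2 (iv7 F270448) F270453 (iv2 F270446)
theorem F270455 : act 7 n95503 = n96541 := d8_2 F270452 D95503 (iv3 D96541)
theorem F270456 : act 7 n95505 = n96543 := d13_2 F270452 D95505 (iv5 D96543)
theorem E24341 : n172218 = n96135 := (c11_3 F270455 F148707 F270428 (iv4 F147785))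
theorem F270457 : act 2 n96135 = n82487 := (sb E24341 (iv2 D172218))
theorem F270458 : act 7 n96135 = n82488 := (sb E24341 (iv7 F270428))
theorem E24342 : n172222 = n96134 := (c15_4 (iv0 D96134) D96135 F270458 (iv2 F270433))
theorem F270459 : act 2 n96134 = n82488 := (sb E24342 F270433)
theorem E24343 : n170769 = n88899 := (((F147783).symm.trans (sb E24342 F270434))).symm
theorem F270460 : act 7 n96134 = n82487 := (sb E24342 (iv7 D172222))
theorem F270461 : act 2 n88899 = n81872 := (sb E24343 F268359)
theorem F270462 : act 7 n88899 = n81871 := (sb E24343 (iv7 D170769))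
theorem E24344 : n98076 = n89112 := ((c11_2 F270462 (iv4 F136829) (iv7 F151225) F145033)).symm
theorem F270463 : act 2 n89112 = n45801 := (sb E24344 (iv2 D98076))
theorem F270464 : act 7 n89112 = n45802 := (sb E24344 (iv7 F151225))
theorem E24345 : n170766 = n88898 := (c15_4 (iv0 D88898) D88899 F270462 D170766)
theorem F270465 : act 2 n88898 = n81871 := (sb E24345 (iv2 D170766))
theorem F270466 : act 7 n88898 = n81872 := (sb E24345 (iv7 F268357))
theorem E24346 : n98080 = n94104 := ((c11_2 F270466 (iv4 F145025) (iv7 D98080) F136392)).symm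
theorem F270467 : act 2 n94104 = n45802 := (sb E24346 F151227)
theorem F270468 : act 7 n94104 = n45801 := (sb E24346 (iv7 D98080))
theorem E24347 : n89116 = n89099 := ((c8_2 F270464 (iv3 F145034) (iv7 D89116) D89112)).symm
theorem F270469 : act 2 n89099 = n41636 := (sb E24347 F136832)
theorem F270470 : act 7 n89099 = n41635 := (sb E24347 (iv7 D89116))
theorem E24348 : n89111 = n89098 := (c15_4 (iv0 D89098) D89099 F270470 D89111)
theorem F270471 : act 2 n89098 = n41635 := (sb E24348 (iv2 D89111))
theorem F270472 : act 7 n89098 = n41636 := (sb E24348 (iv7 F136828))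
theorem F270473 : act 7 n89118 = n96536 := d11_2 F270472 D89118 F148704
theorem F270474 : act 2 n89113 = n96536 := d1_3 F148704 F270471 D89113
theorem F270475 : act 2 n89115 = n100880 := d3_3 (iv6 F155007) F270471 D89115
theorem E24349 : n100877 = n100788 := (c2_4 (iv5 F154882) F270475 (iv5 D100880) (iv2 F155006))
theorem F270476 : act 2 n100788 = n47022 := (sb E24349 F155006)
theorem F270477 : act 7 n100788 = n47021 := (sb E24349 (iv7 D100877))
theorem F270478 : act 7 n100875 = n89115 := d13_2 F270477 D100875 F154882
theorem E24350 : n100872 = n100787 := (c15_4 (iv0 D100787) D100788 F270477 D100872)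
theorem F270479 : act 2 n100787 = n47021 := (sb E24350 (iv2 D100872))
theorem F270480 : act 7 n100787 = n47022 := (sb E24350 (iv7 F155005))
theorem F270481 : act 2 n95503 = n172219 := d0_5 F270429 F270474 (iv3 D96536) (iv2 F270449) D95503
theorem F270482 : act 1 n97090 = n89118 := d15_1 (iv0 F157254) F270473 (iv2 F270474)
theorem F270483 : act 1 n95730 = n96541 := d15_1 (iv0 F270430) (iv7 F270455) F270481
theorem F270484 : act 2 n95509 = n96543 := d2_3 (iv5 D96543) F270451 D95509
theorem F270485 : act 2 n95510 = n96544 := d3_3 (iv6 D96544) F270451 D95510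
theorem F270486 : act 7 n96538 = n95509 := d13_2 F270450 D96538 (iv5 D95509)
theorem F270487 : act 2 n95505 = n96538 := d4_3 F270486 F270484 (iv7 F270456)
theorem F270488 : act 2 n96539 = n95506 := d3_3 (iv6 D95506) F270449 D96539
theorem F270489 : act 2 n103029 = n103596 := d2_3 (iv5 F158943) F270488 F158272
theorem F270490 : act 7 n103595 = n103029 := d15_2 F158942 F158948 F270489
theorem F270491 : act 7 n103028 = n103596 := d15_2 F158949 F158950 (iv2 F270489)
theorem F270492 : act 2 n103595 = n103028 := d4_3 F270491 (iv2 F270489) (iv7 F270490)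
def n172224 : Q := act 5 n82488
theorem D172224 : act 5 n82488 = n172224 := rfl
def n172225 : Q := act 6 n82488
theorem D172225 : act 6 n82488 = n172225 := rfl
def n172226 : Q := act 0 n82489
theorem D172226 : act 0 n82489 = n172226 := rfl
def n172227 : Q := act 1 n82489
theorem D172227 : act 1 n82489 = n172227 := rfl
theorem F270493 : act 5 n100782 = n172227 := d21_6 F58703 F54816 (iv5 D22597) D22598 D46991 D100782 (iv1 D172227) (iv5 D82489) (iv6 D37853) D37850
theorem F270494 : act 2 n172227 = n100855 := d2_1 F270493 (iv5 D100855) (iv2 F154971)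
def n172228 : Q := act 4 n82489
theorem D172228 : act 4 n82489 = n172228 := rfl
theorem F270495 : act 6 n172228 = n101483 := d10_2 (iv6 F127124) D172228 (iv4 D101483)
def n172229 : Q := act 3 n82490
theorem D172229 : act 3 n82490 = n172229 := rfl
theorem F270496 : act 6 n172229 = n101535 := d7_2 (iv6 F127126) D172229 (iv3 D101535)
def n172235 : Q := act 6 n82496
theorem D172235 : act 6 n82496 = n172235 := rfl
theorem F270500 : act 3 n172235 = n154169 := d7_1 D172235 (iv6 D154169) (iv3 F127144)
theorem F270501 : act 4 n172235 = n162557 := d10_1 D172235 (iv6 D162557) F127146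
def n172240 : Q := act 5 n82498
theorem D172240 : act 5 n82498 = n172240 := rfl
def n172241 : Q := act 6 n82499
theorem D172241 : act 6 n82499 = n172241 := rfl
def n172242 : Q := act 6 n82500
theorem D172242 : act 6 n82500 = n172242 := rfl
theorem F270504 : act 3 n172242 = n100041 := d7_1 D172242 (iv6 D100041) (iv3 F127150)
theorem F270505 : act 4 n172242 = n82501 := d10_1 D172242 (iv6 D82501) D82500
def n172243 : Q := act 0 n82501
theorem D172243 : act 0 n82501 = n172243 := rfl
def n172244 : Q := act 1 n82501
theorem D172244 : act 1 n82501 = n172244 := rfl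
def n172245 : Q := act 5 n82501
theorem D172245 : act 5 n82501 = n172245 := rfl
theorem F270506 : act 3 n172245 = n82507 := d6_1 D172245 (iv5 D82507) (iv3 F127153)
theorem F270507 : act 6 n172245 = n82504 := d12_2 D82501 D172245 (iv5 D82504) (iv6 D37876) D37875
def n172246 : Q := act 7 n82501
theorem D172246 : act 7 n82501 = n172246 := rfl
theorem F270508 : act 3 n172246 = n82508 := d8_1 D172246 (iv7 D82508) (iv3 F127153)
def n172247 : Q := act 2 n82502
theorem D172247 : act 2 n82502 = n172247 := rfl
theorem F270509 : act 7 n82503 = n172247 := d15_2 (iv0 D82502) D82503 (iv2 D172247)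
def n172249 : Q := act 4 n82502
theorem D172249 : act 4 n82502 = n172249 := rfl
def n172250 : Q := act 5 n82502
theorem D172250 : act 5 n82502 = n172250 := rfl
def n172253 : Q := act 3 n82503
theorem D172253 : act 3 n82503 = n172253 := rfl
def n172254 : Q := act 4 n82503
theorem D172254 : act 4 n82503 = n172254 := rfl
theorem F270511 : act 3 n172254 = n86522 := d20_9 F60999 D41083 (iv4 F233121) F233120 (iv1 F259647) (iv3 F265064) F265065 (iv1 F249899) D172254 (iv1 D86522)
theorem F270512 : act 4 n172253 = n104181 := d5_2 (iv4 D172254) D172253 (iv3 D104181) (iv4 F233072) (iv3 F270511)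
theorem F270513 : act 0 n158567 = n104181 := d20_1 D158567 (iv4 F270512) (iv3 D172253) (iv1 D82503) F58742 F29329 (iv1 F59747) (iv4 D34592) D34591 D75638
theorem F270514 : act 0 n172253 = n150101 := d20_7 F233063 (iv1 F114780) F114776 F107128 (iv1 F75765) D104181 (iv4 F270512) F236227 F107111 D70639
def n172255 : Q := act 5 n82503
theorem D172255 : act 5 n82503 = n172255 := rfl
def n172256 : Q := act 6 n82503
theorem D172256 : act 6 n82503 = n172256 := rfl
def n172257 : Q := act 0 n82504
theorem D172257 : act 0 n82504 = n172257 := rfl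
def n172258 : Q := act 1 n82504
theorem D172258 : act 1 n82504 = n172258 := rfl
def n172259 : Q := act 4 n82504
theorem D172259 : act 4 n82504 = n172259 := rfl
def n172260 : Q := act 2 n82505
theorem D172260 : act 2 n82505 = n172260 := rfl
theorem F270515 : act 7 n82506 = n172260 := d15_2 (iv0 D82505) D82506 (iv2 D172260)
def n172261 : Q := act 3 n82505
theorem D172261 : act 3 n82505 = n172261 := rfl
def n172262 : Q := act 4 n82505
theorem D172262 : act 4 n82505 = n172262 := rfl
def n172263 : Q := act 5 n82505
theorem D172263 : act 5 n82505 = n172263 := rfl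
def n172264 : Q := act 6 n82505
theorem D172264 : act 6 n82505 = n172264 := rfl
def n172265 : Q := act 7 n82505
theorem D172265 : act 7 n82505 = n172265 := rfl
theorem F270516 : act 2 n172265 = n82506 := d4_1 D172265 F270515 (iv2 D172260)
def n172267 : Q := act 4 n82506
theorem D172267 : act 4 n82506 = n172267 := rfl
def n172268 : Q := act 5 n82506
theorem D172268 : act 5 n82506 = n172268 := rfl
def n172269 : Q := act 6 n82506
theorem D172269 : act 6 n82506 = n172269 := rfl
def n172270 : Q := act 0 n82507
theorem D172270 : act 0 n82507 = n172270 := rfl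
def n172271 : Q := act 1 n82507
theorem D172271 : act 1 n82507 = n172271 := rfl
def n172272 : Q := act 4 n82507
theorem D172272 : act 4 n82507 = n172272 := rfl
theorem F270517 : act 6 n172272 = n82510 := d10_2 (iv6 F127155) D172272 (iv4 D82510)
theorem F270518 : act 1 n172272 = n158544 := d18_6 (iv1 F112950) F249129 (iv1 D46718) (iv4 F58744) D82507 D172272 (iv4 D158544) F249124 F249122
def n172273 : Q := act 7 n82507
theorem D172273 : act 7 n82507 = n172273 := rfl
theorem F270519 : act 5 n172273 = n82508 := d13_1 D172273 (iv7 D82508) D82507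
theorem F270520 : act 1 n101766 = n172273 := d15_1 (iv0 F156787) (iv7 D172273) (iv2 F128279)
theorem E24351 : n100899 = n83199 := ((c17_9 (iv1 F74287) D89337 F137024 (iv5 D47310) (iv4 F74532) D101766 F270520 F270519 F128284 (iv4 D100899))).symm
theorem F270521 : act 4 n83199 = n47032 := (sb E24351 (iv4 D100899))
def n172274 : Q := act 3 n82509
theorem D172274 : act 3 n82509 = n172274 := rfl
theorem F270522 : act 5 n172274 = n83075 := d6_2 (iv5 F127157) D172274 (iv3 D83075)
def n172275 : Q := act 6 n82509
theorem D172275 : act 6 n82509 = n172275 := rfl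
def n172276 : Q := act 3 n82510
theorem D172276 : act 3 n82510 = n172276 := rfl
def n172277 : Q := act 0 n82511
theorem D172277 : act 0 n82511 = n172277 := rfl
theorem F270525 : act 2 n82512 = n172277 := d15_3 (iv0 D172277) F191428 F191426
theorem F270526 : act 4 n172277 = n170174 := d1_2 F235599 F270525 F267705
def n172278 : Q := act 5 n82511
theorem D172278 : act 5 n82511 = n172278 := rfl
theorem F270530 : act 2 n172278 = n82514 := d2_1 D172278 (iv5 D82514) (iv2 F127162)
def n172279 : Q := act 7 n82511
theorem D172279 : act 7 n82511 = n172279 := rfl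
theorem F270531 : act 2 n172279 = n82515 := d4_1 D172279 (iv7 D82515) (iv2 F127162)
def n172281 : Q := act 6 n82512
theorem D172281 : act 6 n82512 = n172281 := rfl
theorem F270534 : act 3 n172281 = n85182 := d7_1 D172281 (iv6 F187397) (iv3 F187399)
def n172289 : Q := act 7 n82514
theorem D172289 : act 7 n82514 = n172289 := rfl
theorem F270538 : act 3 n172289 = n82523 := d8_1 D172289 (iv7 D82523) (iv3 F127163)
theorem F270539 : act 5 n172289 = n82515 := d13_1 D172289 (iv7 D82515) D82514
def n172290 : Q := act 2 n82516
theorem D172290 : act 2 n82516 = n172290 := rfl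
theorem F270540 : act 7 n82517 = n172290 := d15_2 (iv0 D82516) D82517 (iv2 D172290)
def n172292 : Q := act 4 n82516
theorem D172292 : act 4 n82516 = n172292 := rfl
def n172293 : Q := act 5 n82516
theorem D172293 : act 5 n82516 = n172293 := rfl
def n172294 : Q := act 6 n82516
theorem D172294 : act 6 n82516 = n172294 := rfl
def n172295 : Q := act 7 n82516
theorem D172295 : act 7 n82516 = n172295 := rfl
def n172297 : Q := act 4 n82517
theorem D172297 : act 4 n82517 = n172297 := rfl
def n172298 : Q := act 5 n82517
theorem D172298 : act 5 n82517 = n172298 := rfl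
def n172299 : Q := act 6 n82517
theorem D172299 : act 6 n82517 = n172299 := rfl
def n172301 : Q := act 1 n82518
theorem D172301 : act 1 n82518 = n172301 := rfl
def n172302 : Q := act 4 n82518
theorem D172302 : act 4 n82518 = n172302 := rfl
theorem F270542 : act 6 n172302 = n82522 := d10_2 (iv6 F127165) D172302 (iv4 D82522)
def n172303 : Q := act 7 n82518
theorem D172303 : act 7 n82518 = n172303 := rfl
theorem F270543 : act 5 n172303 = n82519 := d13_1 D172303 (iv7 D82519) D82518
def n172307 : Q := act 6 n82521
theorem D172307 : act 6 n82521 = n172307 := rfl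
theorem F270546 : act 5 n172307 = n172060 := d12_1 D172307 (iv6 D172060) (iv5 D82404) D82405 F127167
def n172308 : Q := act 0 n82522
theorem D172308 : act 0 n82522 = n172308 := rfl
def n172309 : Q := act 1 n82522
theorem D172309 : act 1 n82522 = n172309 := rfl
def n172311 : Q := act 5 n82522
theorem D172311 : act 5 n82522 = n172311 := rfl
def n172312 : Q := act 7 n82522
theorem D172312 : act 7 n82522 = n172312 := rfl
theorem F270553 : act 4 n172312 = n82523 := d11_1 D172312 (iv7 D82523) D82522
def n172313 : Q := act 6 n82523
theorem D172313 : act 6 n82523 = n172313 := rfl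
def n172314 : Q := act 6 n82524
theorem D172314 : act 6 n82524 = n172314 := rfl
theorem F270556 : act 2 n172314 = n122665 := d3_1 D172314 (iv6 D122665) (iv2 F127169)
theorem F270557 : act 3 n172314 = n153322 := d7_1 D172314 (iv6 D153322) (iv3 F127170)
theorem F270558 : act 4 n172314 = n82525 := d10_1 D172314 (iv6 D82525) D82524
def n172315 : Q := act 0 n82525
theorem D172315 : act 0 n82525 = n172315 := rfl
def n172316 : Q := act 1 n82525
theorem D172316 : act 1 n82525 = n172316 := rfl
def n172317 : Q := act 5 n82525
theorem D172317 : act 5 n82525 = n172317 := rfl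
theorem F270559 : act 3 n172317 = n82528 := d6_1 D172317 (iv5 D82528) (iv3 F127174)
def n172318 : Q := act 7 n82525
theorem D172318 : act 7 n82525 = n172318 := rfl
def n172330 : Q := act 1 n82528
theorem D172330 : act 1 n82528 = n172330 := rfl
theorem F270563 : act 5 n155102 = n172330 := d21_6 (iv5 F25861) (iv1 D16356) D16357 D33834 D73621 D155102 (iv1 D172330) (iv5 D82528) (iv6 D37890) (iv1 D18158)
def n172335 : Q := act 4 n82530
theorem D172335 : act 4 n82530 = n172335 := rfl
theorem F270566 : act 0 n127898 = n172335 := d20_10 (iv4 D172335) (iv1 F127178) (iv4 F127024) F127023 (iv1 F117807) (iv3 F52079) (iv4 D32896) F188308 (iv4 F94643) (iv3 F205812)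
theorem F270567 : act 3 n160681 = n172335 := d20_5 (iv4 D27151) (iv1 F121314) (iv4 F55946) (iv3 F115804) D160681 (iv4 D172335) (iv1 F127178) (iv4 F127024) F127023 (iv1 F117807)
def n172337 : Q := act 6 n82530
theorem D172337 : act 6 n82530 = n172337 := rfl
def n172343 : Q := act 1 n82532
theorem D172343 : act 1 n82532 = n172343 := rfl
theorem F270570 : act 1 n172343 = n82547 := d15_1 D172343 (iv7 D82547) (iv2 F127176)
theorem F270571 : act 5 n83180 = n172343 := d21_6 (iv5 D33206) (iv1 F29482) (iv5 D18286) D18287 D38291 D83180 (iv1 D172343) (iv5 D82532) (iv6 D37891) (iv1 F52431)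
def n172345 : Q := act 7 n82532
theorem D172345 : act 7 n82532 = n172345 := rfl
theorem F270574 : act 5 n172345 = n82533 := d13_1 D172345 (iv7 D82533) D82532
theorem F270576 : act 1 n82545 = n172345 := d15_1 D82545 (iv7 D172345) F127176
def n172347 : Q := act 1 n82534
theorem D172347 : act 1 n82534 = n172347 := rfl
theorem F270579 : act 1 n172347 = n82539 := d15_1 D172347 (iv7 D82539) D82534
def n172348 : Q := act 3 n82534
theorem D172348 : act 3 n82534 = n172348 := rfl
theorem F270580 : act 7 n172348 = n82540 := d8_2 F127181 D172348 (iv3 D82540)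
def n172349 : Q := act 4 n82534
theorem D172349 : act 4 n82534 = n172349 := rfl
theorem F270581 : act 2 n172349 = n82536 := d1_1 D172349 (iv4 D82536) D82534
theorem F270582 : act 7 n172349 = n82541 := d11_2 F127181 D172349 (iv4 D82541)
def n172350 : Q := act 5 n82534
theorem D172350 : act 5 n82534 = n172350 := rfl
theorem F270583 : act 2 n172350 = n82537 := d2_1 D172350 (iv5 D82537) D82534
theorem F270584 : act 7 n172350 = n82542 := d13_2 F127181 D172350 (iv5 D82542)
def n172351 : Q := act 6 n82534
theorem D172351 : act 6 n82534 = n172351 := rfl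
theorem F270585 : act 2 n172351 = n82538 := d3_1 D172351 (iv6 D82538) D82534
def n172352 : Q := act 3 n82536
theorem D172352 : act 3 n82536 = n172352 := rfl
def n172353 : Q := act 5 n82536
theorem D172353 : act 5 n82536 = n172353 := rfl
def n172354 : Q := act 6 n82536
theorem D172354 : act 6 n82536 = n172354 := rfl
theorem F270586 : act 4 n172354 = n82538 := d10_1 D172354 (iv6 D82538) D82536
def n172355 : Q := act 7 n82536
theorem D172355 : act 7 n82536 = n172355 := rfl
theorem F270587 : act 2 n172355 = n82541 := d4_1 D172355 (iv7 F270582) F270581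
theorem F270588 : act 4 n172355 = n82539 := d11_1 D172355 (iv7 D82539) D82536
def n172356 : Q := act 0 n82537
theorem D172356 : act 0 n82537 = n172356 := rfl
def n172357 : Q := act 1 n82537
theorem D172357 : act 1 n82537 = n172357 := rfl
theorem F270589 : act 1 n172357 = n82542 := d15_1 D172357 (iv7 F270584) F270583
def n172360 : Q := act 7 n82537
theorem D172360 : act 7 n82537 = n172360 := rfl
theorem F270590 : act 2 n172360 = n82542 := d4_1 D172360 (iv7 F270584) F270583
theorem F270591 : act 5 n172360 = n82539 := d13_1 D172360 (iv7 D82539) D82537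
theorem F270592 : act 1 n82542 = n172356 := d15_0 (iv0 D172356) D172360 F270590
def n172361 : Q := act 0 n82538
theorem D172361 : act 0 n82538 = n172361 := rfl
def n172362 : Q := act 1 n82538
theorem D172362 : act 1 n82538 = n172362 := rfl
def n172363 : Q := act 5 n82538
theorem D172363 : act 5 n82538 = n172363 := rfl
theorem F270593 : act 3 n172363 = n161735 := d6_1 D172363 (iv5 F255741) F255704
theorem F270594 : act 0 n172363 = n155090 := d21_7 (iv5 F52453) F42609 F25861 D18160 D37892 D82538 D172363 (iv5 D155090) (iv6 D73617) (iv1 F53187)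
def n172364 : Q := act 7 n82538
theorem D172364 : act 7 n82538 = n172364 := rfl
def n172365 : Q := act 6 n82539
theorem D172365 : act 6 n82539 = n172365 := rfl
theorem F270595 : act 2 n172365 = n82543 := d3_1 D172365 (iv6 D82543) (iv2 F127182)
def n172366 : Q := act 0 n82540
theorem D172366 : act 0 n82540 = n172366 := rfl
def n172367 : Q := act 1 n82540
theorem D172367 : act 1 n82540 = n172367 := rfl
def n172368 : Q := act 4 n82540
theorem D172368 : act 4 n82540 = n172368 := rfl
theorem F270596 : act 2 n172368 = n122684 := d1_1 D172368 (iv4 F255708) F255707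
theorem F270597 : act 3 n172368 = n153361 := d5_1 D172368 (iv4 F264051) F264050 (iv4 D82541) D82540
def n172369 : Q := act 5 n82540
theorem D172369 : act 5 n82540 = n172369 := rfl
theorem F270598 : act 3 n172369 = n82542 := d6_1 D172369 (iv5 D82542) D82540
def n172370 : Q := act 6 n82540
theorem D172370 : act 6 n82540 = n172370 := rfl
theorem F270599 : act 3 n172370 = n82543 := d7_1 D172370 (iv6 D82543) D82540
def n172371 : Q := act 5 n82541
theorem D172371 : act 5 n82541 = n172371 := rfl
def n172372 : Q := act 6 n82541
theorem D172372 : act 6 n82541 = n172372 := rfl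
theorem F270600 : act 4 n172372 = n82543 := d10_1 D172372 (iv6 D82543) D82541
def n172373 : Q := act 4 n82542
theorem D172373 : act 4 n82542 = n172373 := rfl
def n172374 : Q := act 6 n82542
theorem D172374 : act 6 n82542 = n172374 := rfl
def n172375 : Q := act 0 n82543
theorem D172375 : act 0 n82543 = n172375 := rfl
def n172376 : Q := act 1 n82543
theorem D172376 : act 1 n82543 = n172376 := rfl
def n172377 : Q := act 5 n82543
theorem D172377 : act 5 n82543 = n172377 := rfl
theorem F270601 : act 0 n155101 = n172377 := d21_1 D155101 (iv5 D172377) (iv6 D82543) (iv1 D37893) (iv6 D18160) (iv5 F25861) (iv1 D16356) D16357 D33834 D73621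
def n172378 : Q := act 7 n82543
theorem D172378 : act 7 n82543 = n172378 := rfl
def n172387 : Q := act 5 n82545
theorem D172387 : act 5 n82545 = n172387 := rfl
theorem F270604 : act 6 n83169 = n172387 := d21_5 (iv5 D16062) D16060 F29486 D38289 D83169 (iv5 D172387) (iv1 D82545) (iv5 D37894) (iv6 D18160) F25588
def n172389 : Q := act 0 n82546
theorem D172389 : act 0 n82546 = n172389 := rfl
def n172390 : Q := act 1 n82546
theorem D172390 : act 1 n82546 = n172390 := rfl
def n172391 : Q := act 3 n82546
theorem D172391 : act 3 n82546 = n172391 := rfl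
theorem F270605 : act 4 n172391 = n82602 := d5_2 D82546 D172391 (iv3 D82602) (iv4 D37915) (iv3 F58749)
def n172392 : Q := act 5 n82546
theorem D172392 : act 5 n82546 = n172392 := rfl
def n172395 : Q := act 6 n82548
theorem D172395 : act 6 n82548 = n172395 := rfl
theorem F270608 : act 3 n172395 = n170727 := d7_1 D172395 (iv6 D170727) (iv3 F127185)
theorem F270609 : act 4 n172395 = n82549 := d10_1 D172395 (iv6 D82549) D82548
def n172396 : Q := act 0 n82549
theorem D172396 : act 0 n82549 = n172396 := rfl
def n172397 : Q := act 1 n82549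
theorem D172397 : act 1 n82549 = n172397 := rfl
def n172398 : Q := act 5 n82549
theorem D172398 : act 5 n82549 = n172398 := rfl
theorem F270610 : act 3 n172398 = n82552 := d6_1 D172398 (iv5 D82552) (iv3 F127187)
theorem F270611 : act 6 n172398 = n83153 := d12_2 D82549 D172398 (iv5 D83153) (iv6 D38276) (iv5 F58751)
def n172399 : Q := act 7 n82549
theorem D172399 : act 7 n82549 = n172399 := rfl
theorem F270612 : act 3 n172399 = n82553 := d8_1 D172399 (iv7 D82553) (iv3 F127187)
def n172400 : Q := act 0 n82552
theorem D172400 : act 0 n82552 = n172400 := rfl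
theorem F270613 : act 5 n172400 = n101849 := d17_3 F156780 D82552 D172400 (iv4 D101849) (iv5 D47331) (iv0 D22744) (iv5 D10755) D10754 D22741
def n172401 : Q := act 1 n82552
theorem D172401 : act 1 n82552 = n172401 := rfl
theorem F270614 : act 1 n172401 = n101746 := d15_1 D172401 (iv7 F156786) F151276
theorem F270615 : act 5 n172294 = n172401 := d21_6 (iv5 D8587) (iv1 F13406) D18156 D37884 D82516 D172294 (iv1 D172401) (iv5 D82552) (iv6 D37897) (iv1 F29333)
theorem E24352 : n172294 = n101862 := ((c17_5 (iv1 F34822) (iv5 F73573) (iv1 F73575) D47336 D101862 F270615 F270614 (iv5 D101746) (iv0 D47297) (iv4 D22736))).symm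
theorem F270616 : act 5 n101862 = n172401 := (sb E24352 F270615)
theorem E24353 : n88836 = n82516 := ((F156818).symm.trans (sb E24352 (iv6 D172294)))
theorem E24354 : n172290 = n41712 := ((D172290).symm.trans (sb E24353 F156381))
theorem E24355 : n172292 = n41473 := ((D172292).symm.trans (sb E24353 (iv4 D88836)))
theorem F270617 : act 6 n82516 = n101862 := (sb E24353 (iv6 F156818))
theorem E24356 : n172295 = n41717 := ((D172295).symm.trans (sb E24353 F156382))
theorem F270618 : act 2 n41712 = n82516 := (sb E24354 (iv2 D172290))
theorem E24357 : n88840 = n82517 := (((iv7 F156374)).symm.trans (sb E24354 (iv7 F270540)))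
theorem F270619 : act 4 n41473 = n82516 := (sb E24355 (iv4 D172292))
theorem F270620 : act 7 n41717 = n82516 := (sb E24356 (iv7 D172295))
theorem F270621 : act 2 n82517 = n41717 := (sb E24357 F156373)
theorem E24358 : n172297 = n41474 := ((D172297).symm.trans (sb E24357 (iv4 D88840)))
theorem F270622 : act 7 n82517 = n41712 := (sb E24357 F156374)
theorem F270623 : act 4 n41474 = n82517 := (sb E24358 (iv4 D172297))
theorem F270624 : act 4 n172299 = n88842 := d10_3 (iv6 D88842) F270623 D172299
theorem F270625 : act 3 n100063 = n161040 := d20_5 F270623 (iv1 D82517) F58747 (iv3 F73843) D100063 (iv4 D161040) (iv1 F136943) F136939 F64340 (iv1 F63919)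
theorem F270626 : act 2 n89315 = n172299 := d1_3 F270624 F156370 (iv4 F137014)
theorem F270628 : act 7 n89295 = n172298 := d13_2 F270622 D89295 (iv5 D172298)
theorem F270631 : act 7 n172293 = n89314 := d13_2 F270620 D172293 (iv5 D89314)
theorem F270633 : act 4 n101678 = n172401 := d18_7 (iv1 F74535) (iv4 D22741) (iv1 D10754) (iv4 F17285) D22732 D47282 D101678 F270614 (iv5 D101746)
def n172402 : Q := act 4 n82552
theorem D172402 : act 4 n82552 = n172402 := rfl
theorem F270634 : act 6 n172402 = n83156 := d10_2 (iv6 F127188) D172402 (iv4 D83156)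
def n172403 : Q := act 7 n82552
theorem D172403 : act 7 n82552 = n172403 := rfl
theorem F270635 : act 2 n172403 = n101746 := d4_1 D172403 (iv7 F156786) F151276
theorem F270636 : act 5 n172403 = n82553 := d13_1 D172403 (iv7 D82553) D82552
theorem F270637 : act 1 n101746 = n172400 := d15_0 (iv0 D172400) D172403 F270635
def n172404 : Q := act 2 n82554
theorem D172404 : act 2 n82554 = n172404 := rfl
theorem F270638 : act 7 n82555 = n172404 := d15_2 (iv0 D82554) D82555 (iv2 D172404)
def n172405 : Q := act 3 n82554
theorem D172405 : act 3 n82554 = n172405 := rfl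
def n172406 : Q := act 4 n82554
theorem D172406 : act 4 n82554 = n172406 := rfl
def n172407 : Q := act 5 n82554
theorem D172407 : act 5 n82554 = n172407 := rfl
def n172408 : Q := act 6 n82554
theorem D172408 : act 6 n82554 = n172408 := rfl
def n172409 : Q := act 7 n82554
theorem D172409 : act 7 n82554 = n172409 := rfl
theorem F270639 : act 2 n172409 = n82555 := d4_1 D172409 F270638 (iv2 D172404)
def n172410 : Q := act 3 n82555
theorem D172410 : act 3 n82555 = n172410 := rfl
def n172411 : Q := act 4 n82555
theorem D172411 : act 4 n82555 = n172411 := rfl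
def n172412 : Q := act 5 n82555
theorem D172412 : act 5 n82555 = n172412 := rfl
def n172413 : Q := act 6 n82555
theorem D172413 : act 6 n82555 = n172413 := rfl
def n172414 : Q := act 0 n82556
theorem D172414 : act 0 n82556 = n172414 := rfl
def n172415 : Q := act 1 n82556
theorem D172415 : act 1 n82556 = n172415 := rfl
theorem F270640 : act 5 n172264 = n172415 := d21_6 (iv5 D8565) D8562 D18153 D37877 D82505 D172264 (iv1 D172415) (iv5 D82556) (iv6 D37898) (iv1 D18162)
def n172416 : Q := act 4 n82556
theorem D172416 : act 4 n82556 = n172416 := rfl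
theorem F270641 : act 6 n172416 = n83162 := d10_2 (iv6 F127189) D172416 (iv4 D83162)
def n172417 : Q := act 7 n82556
theorem D172417 : act 7 n82556 = n172417 := rfl
theorem F270642 : act 5 n172417 = n82557 := d13_1 D172417 (iv7 D82557) D82556
def n172418 : Q := act 0 n82558
theorem D172418 : act 0 n82558 = n172418 := rfl
theorem F270643 : act 1 n82563 = n172418 := d15_0 (iv0 D172418) (iv7 F127190) (iv2 F127191)
def n172420 : Q := act 3 n82558
theorem D172420 : act 3 n82558 = n172420 := rfl
theorem F270645 : act 7 n172420 = n82564 := d8_2 F127190 D172420 (iv3 D82564)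
def n172421 : Q := act 5 n82558
theorem D172421 : act 5 n82558 = n172421 := rfl
theorem F270646 : act 2 n172421 = n82561 := d2_1 D172421 (iv5 D82561) D82558
theorem F270647 : act 7 n172421 = n82566 := d13_2 F127190 D172421 (iv5 D82566)
def n172422 : Q := act 6 n82558
theorem D172422 : act 6 n82558 = n172422 := rfl
theorem F270648 : act 2 n172422 = n82562 := d3_1 D172422 (iv6 D82562) D82558
def n172425 : Q := act 2 n82559
theorem D172425 : act 2 n82559 = n172425 := rfl
def n172426 : Q := act 4 n82559
theorem D172426 : act 4 n82559 = n172426 := rfl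
def n172427 : Q := act 5 n82559
theorem D172427 : act 5 n82559 = n172427 := rfl
theorem F270649 : act 3 n172427 = n82561 := d6_1 D172427 (iv5 D82561) D82559
def n172429 : Q := act 7 n82559
theorem D172429 : act 7 n82559 = n172429 := rfl
theorem F270651 : act 3 n172429 = n82563 := d8_1 D172429 (iv7 D82563) D82559
def n172430 : Q := act 0 n82561
theorem D172430 : act 0 n82561 = n172430 := rfl
theorem F270652 : act 5 n172430 = n172299 := d17_3 D37899 D82561 D172430 F270624 (iv5 F156361) (iv0 D101559) (iv5 D47244) (iv0 D22722) (iv4 F29336)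
def n172431 : Q := act 1 n82561
theorem D172431 : act 1 n82561 = n172431 := rfl
theorem F270653 : act 1 n172431 = n82566 := d15_1 D172431 (iv7 F270647) F270646
def n172432 : Q := act 4 n82561
theorem D172432 : act 4 n82561 = n172432 := rfl
def n172433 : Q := act 6 n82561
theorem D172433 : act 6 n82561 = n172433 := rfl
def n172434 : Q := act 7 n82561
theorem D172434 : act 7 n82561 = n172434 := rfl
theorem F270654 : act 2 n172434 = n82566 := d4_1 D172434 (iv7 F270647) F270646
theorem F270655 : act 5 n172434 = n82563 := d13_1 D172434 (iv7 D82563) D82561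
theorem F270656 : act 1 n82566 = n172430 := d15_0 (iv0 D172430) D172434 F270654
def n172435 : Q := act 0 n82562
theorem D172435 : act 0 n82562 = n172435 := rfl
def n172436 : Q := act 1 n82562
theorem D172436 : act 1 n82562 = n172436 := rfl
def n172437 : Q := act 5 n82562
theorem D172437 : act 5 n82562 = n172437 := rfl
theorem F270657 : act 1 n172437 = n83216 := d17_6 (iv1 F73371) (iv5 F153023) (iv1 F153025) (iv5 F136527) (iv4 F155437) D172437 F128291 F205696 (iv4 D46882)
theorem F270658 : act 0 n172437 = n82894 := d21_7 (iv5 D18156) (iv1 D8563) D8565 D18163 D37899 D82562 D172437 (iv5 D82894) (iv6 D38133) F29404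
theorem F270659 : act 4 n172436 = n101564 := d17_9 (iv1 D101564) F153259 (iv1 D99503) (iv5 D46514) (iv4 F58973) D82894 (iv0 F270658) (iv5 D172437) D172436
def n172438 : Q := act 7 n82562
theorem D172438 : act 7 n82562 = n172438 := rfl
def n172439 : Q := act 6 n82563
theorem D172439 : act 6 n82563 = n172439 := rfl
theorem F270660 : act 2 n172439 = n82567 := d3_1 D172439 (iv6 D82567) (iv2 F127191)
def n172440 : Q := act 2 n82564
theorem D172440 : act 2 n82564 = n172440 := rfl
def n172441 : Q := act 4 n82564
theorem D172441 : act 4 n82564 = n172441 := rfl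
def n172442 : Q := act 5 n82564
theorem D172442 : act 5 n82564 = n172442 := rfl
theorem F270661 : act 3 n172442 = n82566 := d6_1 D172442 (iv5 D82566) D82564
def n172443 : Q := act 6 n82564
theorem D172443 : act 6 n82564 = n172443 := rfl
theorem F270662 : act 3 n172443 = n82567 := d7_1 D172443 (iv6 D82567) D82564
def n172444 : Q := act 4 n82566
theorem D172444 : act 4 n82566 = n172444 := rfl
def n172445 : Q := act 6 n82566
theorem D172445 : act 6 n82566 = n172445 := rfl
def n172446 : Q := act 0 n82567
theorem D172446 : act 0 n82567 = n172446 := rfl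
def n172447 : Q := act 1 n82567
theorem D172447 : act 1 n82567 = n172447 := rfl
def n172448 : Q := act 5 n82567
theorem D172448 : act 5 n82567 = n172448 := rfl
theorem F270663 : act 0 n172263 = n172448 := d21_1 D172263 (iv5 D172448) (iv6 D82567) (iv1 D37900) (iv6 D18163) (iv5 D8565) D8562 D18153 D37877 D82505
def n172449 : Q := act 7 n82567
theorem D172449 : act 7 n82567 = n172449 := rfl
def n172450 : Q := act 2 n82568
theorem D172450 : act 2 n82568 = n172450 := rfl
theorem F270664 : act 7 n82569 = n172450 := d15_2 (iv0 D82568) D82569 (iv2 D172450)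
def n172451 : Q := act 3 n82568
theorem D172451 : act 3 n82568 = n172451 := rfl
def n172452 : Q := act 4 n82568
theorem D172452 : act 4 n82568 = n172452 := rfl
def n172453 : Q := act 5 n82568
theorem D172453 : act 5 n82568 = n172453 := rfl
theorem F270665 : act 1 n172453 = n89315 := d17_8 D89318 F137015 (iv1 F136846) F136843 (iv4 F113299) (iv5 F249459) F249462 D172453 F137014
def n172454 : Q := act 6 n82568
theorem D172454 : act 6 n82568 = n172454 := rfl
theorem F270666 : act 5 n172454 = n84163 := d21_6 (iv5 D37911) (iv1 D18165) D18166 (iv6 F58752) D82568 D172454 (iv1 D84163) D84164 F129199 (iv1 F118632)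
def n172455 : Q := act 7 n82568
theorem D172455 : act 7 n82568 = n172455 := rfl
theorem F270667 : act 2 n172455 = n82569 := d4_1 D172455 F270664 (iv2 D172450)
def n172456 : Q := act 3 n82569
theorem D172456 : act 3 n82569 = n172456 := rfl
def n172457 : Q := act 4 n82569
theorem D172457 : act 4 n82569 = n172457 := rfl
theorem F270668 : act 0 n172457 = n158425 := d18_2 (iv1 F249461) D172457 (iv4 D158425) (iv5 D75561) F54838 D41533 F155439 F113302 (iv5 F249459)
def n172458 : Q := act 6 n82569
theorem D172458 : act 6 n82569 = n172458 := rfl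
def n172459 : Q := act 0 n82570
theorem D172459 : act 0 n82570 = n172459 := rfl
def n172460 : Q := act 1 n82570
theorem D172460 : act 1 n82570 = n172460 := rfl
theorem F270669 : act 4 n172460 = n83775 := d18_7 (iv1 F113416) F155153 (iv1 D22723) (iv4 F29336) D37901 D82570 D172460 F249617 F249615
def n172461 : Q := act 3 n82570
theorem D172461 : act 3 n82570 = n172461 := rfl
theorem F270670 : act 6 n172461 = n82602 := d7_2 (iv6 F127192) D172461 (iv3 D82602)
def n172462 : Q := act 5 n82570
theorem D172462 : act 5 n82570 = n172462 := rfl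
def n172463 : Q := act 7 n82570
theorem D172463 : act 7 n82570 = n172463 := rfl
theorem F270671 : act 4 n172463 = n82571 := d11_1 D172463 (iv7 D82571) D82570
def n172464 : Q := act 6 n82571
theorem D172464 : act 6 n82571 = n172464 := rfl
theorem F270672 : act 7 n172464 = n82605 := d14_2 D82571 D172464 (iv6 D82605) (iv7 D37916) (iv6 F58752)
def n172481 : Q := act 6 n82576
theorem D172481 : act 6 n82576 = n172481 := rfl
theorem F270680 : act 3 n172481 = n82580 := d7_1 D172481 (iv6 D82580) (iv3 F127196)
def n172484 : Q := act 7 n82577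
theorem D172484 : act 7 n82577 = n172484 := rfl
theorem F270681 : act 3 n172484 = n82582 := d8_1 D172484 (iv7 D82582) (iv3 F127197)
def n172485 : Q := act 3 n82578
theorem D172485 : act 3 n82578 = n172485 := rfl
theorem F270682 : act 5 n172485 = n84118 := d6_2 (iv5 F127199) D172485 F129138
def n172486 : Q := act 6 n82578
theorem D172486 : act 6 n82578 = n172486 := rfl
theorem F270683 : act 5 n172486 = n84119 := d12_1 D172486 (iv6 D84119) (iv5 D38759) D38760 (iv5 F127199)
def n172487 : Q := act 0 n82579
theorem D172487 : act 0 n82579 = n172487 := rfl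
theorem F270684 : act 5 n172487 = n83962 := d17_1 D172487 (iv1 F151661) F151659 F151596 F113316 (iv0 D38793) D38795 F59685 D82579
theorem F270685 : act 4 n172487 = n83049 := d18_1 D172487 F127990 D158347 F249487 F249470 (iv0 D75573) D75575 (iv0 F127218) F127217
theorem F270686 : act 1 n82587 = n172487 := d15_0 (iv0 D172487) (iv7 F151660) F151658
theorem F270687 : act 2 n83962 = n172487 := d1_3 F270685 F127989 D83962
theorem F270688 : act 7 n170680 = n172487 := d11_0 F270685 (iv7 F127992) D170680
def n172488 : Q := act 1 n82579
theorem D172488 : act 1 n82579 = n172488 := rfl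
theorem F270689 : act 1 n172488 = n82587 := d15_1 D172488 (iv7 F151638) F151637
theorem F270690 : act 7 n172488 = n83962 := d15_2 (iv0 D172487) D172488 F270687
theorem F270691 : act 5 n172488 = n170680 := d17_7 (iv1 F129205) F129203 (iv1 F127222) (iv5 D82598) D82597 F127217 D172488 F268188 (iv4 D98270)
theorem F270692 : act 4 n172488 = n83963 := d17_9 (iv1 F128948) (iv5 D56791) (iv1 F118890) (iv5 F72511) (iv4 F151607) F151608 (iv0 F127218) F127217 D172488
theorem F270693 : act 2 n170680 = n172488 := d1_3 F270692 F128946 D170680
def n172489 : Q := act 3 n82579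
theorem D172489 : act 3 n82579 = n172489 := rfl
def n172490 : Q := act 6 n82579
theorem D172490 : act 6 n82579 = n172490 := rfl
theorem F270694 : act 4 n172490 = n82580 := d10_1 D172490 (iv6 D82580) D82579
def n172491 : Q := act 0 n82580
theorem D172491 : act 0 n82580 = n172491 := rfl
def n172492 : Q := act 1 n82580
theorem D172492 : act 1 n82580 = n172492 := rfl
def n172493 : Q := act 7 n82580
theorem D172493 : act 7 n82580 = n172493 := rfl
def n172494 : Q := act 4 n82583
theorem D172494 : act 4 n82583 = n172494 := rfl
theorem F270695 : act 2 n172494 = n150515 := d1_1 D172494 F236996 F151624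
def n172495 : Q := act 5 n82583
theorem D172495 : act 5 n82583 = n172495 := rfl
def n172496 : Q := act 5 n82584
theorem D172496 : act 5 n82584 = n172496 := rfl
theorem F270698 : act 2 n172496 = n82585 := d2_1 D172496 (iv5 D82585) D82584
def n172497 : Q := act 6 n82584
theorem D172497 : act 6 n82584 = n172497 := rfl
theorem F270699 : act 2 n172497 = n82586 := d3_1 D172497 (iv6 D82586) D82584
def n172501 : Q := act 6 n82585
theorem D172501 : act 6 n82585 = n172501 := rfl
theorem F270700 : act 3 n172501 = n82588 := d7_1 D172501 (iv6 D82588) (iv3 F127200)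
def n172502 : Q := act 0 n82586
theorem D172502 : act 0 n82586 = n172502 := rfl
def n172503 : Q := act 1 n82586
theorem D172503 : act 1 n82586 = n172503 := rfl
def n172504 : Q := act 5 n82586
theorem D172504 : act 5 n82586 = n172504 := rfl
theorem F270701 : act 3 n172504 = n82590 := d6_1 D172504 (iv5 D82590) (iv3 F127201)
def n172505 : Q := act 3 n82587
theorem D172505 : act 3 n82587 = n172505 := rfl
def n172506 : Q := act 6 n82587
theorem D172506 : act 6 n82587 = n172506 := rfl
theorem F270702 : act 4 n172506 = n82588 := d10_1 D172506 (iv6 D82588) D82587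
def n172507 : Q := act 0 n82588
theorem D172507 : act 0 n82588 = n172507 := rfl
def n172508 : Q := act 1 n82588
theorem D172508 : act 1 n82588 = n172508 := rfl
def n172509 : Q := act 5 n82588
theorem D172509 : act 5 n82588 = n172509 := rfl
theorem F270703 : act 6 n172509 = n82590 := d12_2 D82588 D172509 (iv5 D82590) (iv6 D37912) D37911
def n172510 : Q := act 7 n82588
theorem D172510 : act 7 n82588 = n172510 := rfl
def n172511 : Q := act 4 n82590
theorem D172511 : act 4 n82590 = n172511 := rfl
theorem F270704 : act 0 n172511 = n84023 := d18_2 F127202 D172511 (iv4 D84023) (iv5 D38699) F121715 F56855 (iv4 F72378) (iv0 F121893) D82404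
theorem F270705 : act 1 n172511 = n84014 := d18_6 (iv1 D75654) (iv4 F113490) F122150 (iv4 F118985) D82590 D172511 (iv4 D84014) D84013 (iv5 F128979)
def n172512 : Q := act 0 n82592
theorem D172512 : act 0 n82592 = n172512 := rfl
def n172513 : Q := act 1 n82592
theorem D172513 : act 1 n82592 = n172513 := rfl
def n172514 : Q := act 2 n82592
theorem D172514 : act 2 n82592 = n172514 := rfl
def n172515 : Q := act 4 n82592
theorem D172515 : act 4 n82592 = n172515 := rfl
def n172516 : Q := act 5 n82592
theorem D172516 : act 5 n82592 = n172516 := rfl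
theorem F270706 : act 3 n172516 = n82594 := d6_1 D172516 (iv5 D82594) D82592
def n172517 : Q := act 6 n82592
theorem D172517 : act 6 n82592 = n172517 := rfl
theorem F270708 : act 3 n172517 = n82595 := d7_1 D172517 (iv6 D82595) D82592
def n172518 : Q := act 3 n82593
theorem D172518 : act 3 n82593 = n172518 := rfl
theorem F270709 : act 5 n172518 = n172505 := d6_2 (iv5 F127209) D172518 (iv3 D172505)
def n172519 : Q := act 6 n82593
theorem D172519 : act 6 n82593 = n172519 := rfl
theorem F270710 : act 4 n172519 = n82595 := d10_1 D172519 (iv6 D82595) D82593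
def n172520 : Q := act 0 n82595
theorem D172520 : act 0 n82595 = n172520 := rfl
def n172521 : Q := act 1 n82595
theorem D172521 : act 1 n82595 = n172521 := rfl
def n172522 : Q := act 5 n82595
theorem D172522 : act 5 n82595 = n172522 := rfl
def n172523 : Q := act 7 n82595
theorem D172523 : act 7 n82595 = n172523 := rfl
def n172524 : Q := act 0 n82596
theorem D172524 : act 0 n82596 = n172524 := rfl
def n172525 : Q := act 1 n82596
theorem D172525 : act 1 n82596 = n172525 := rfl
def n172528 : Q := act 5 n82596
theorem D172528 : act 5 n82596 = n172528 := rfl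
theorem F270711 : act 3 n172528 = n82598 := d6_1 D172528 (iv5 D82598) D82596
theorem F270712 : act 7 n172528 = n84166 := d13_2 F249464 D172528 (iv5 F249463)
theorem F270713 : act 4 n84431 = n172528 := d11_3 F270712 (iv4 F201395) F201397
theorem F270714 : act 6 n172528 = n82896 := d10_2 D84431 F270713 F127690
theorem E24359 : n172524 = n119221 := (c21_8 F72449 (iv1 D36563) D36566 D80261 F129629 (iv6 F270714) (iv5 D172528) D172524 (iv5 D119221) (iv6 D54864) (iv1 F72451))
theorem F270715 : act 1 n119221 = n82596 := (sb E24359 (iv0 D172524))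
theorem F270716 : act 0 n172528 = n85130 := d20_4 (iv4 F128902) F128905 (iv4 F127220) (iv3 F270711) F130466 F60323 D39368 (iv4 F201139) F201138 (iv1 F127997)
def n172530 : Q := act 3 n82597
theorem D172530 : act 3 n82597 = n172530 := rfl
theorem F270718 : act 5 n172530 = n172489 := d6_2 (iv5 F127217) D172530 (iv3 D172489)
def n172531 : Q := act 6 n82597
theorem D172531 : act 6 n82597 = n172531 := rfl
def n172534 : Q := act 5 n82599
theorem D172534 : act 5 n82599 = n172534 := rfl
theorem F270721 : act 6 n172534 = n82897 := d12_2 D82599 D172534 (iv5 D82897) F127223 (iv5 D82598)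
def n172536 : Q := act 3 n82600
theorem D172536 : act 3 n82600 = n172536 := rfl
theorem F270722 : act 5 n172536 = n170682 := d6_2 F127226 D172536 (iv3 D170682)
def n172537 : Q := act 6 n82600
theorem D172537 : act 6 n82600 = n172537 := rfl
theorem F270723 : act 4 n172537 = n98248 := d10_1 D172537 (iv6 D98248) (iv4 F127225)
def n172538 : Q := act 3 n82601
theorem D172538 : act 3 n82601 = n172538 := rfl
def n172539 : Q := act 6 n82601
theorem D172539 : act 6 n82601 = n172539 := rfl
theorem F270724 : act 4 n172539 = n98250 := d10_1 D172539 (iv6 D98250) (iv4 F127227)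
def n172540 : Q := act 0 n82602
theorem D172540 : act 0 n82602 = n172540 := rfl
def n172541 : Q := act 1 n82602
theorem D172541 : act 1 n82602 = n172541 := rfl
def n172542 : Q := act 2 n82602
theorem D172542 : act 2 n82602 = n172542 := rfl
def n172543 : Q := act 5 n82602
theorem D172543 : act 5 n82602 = n172543 := rfl
theorem F270725 : act 3 n172543 = n82603 := d6_1 D172543 (iv5 D82603) D82602
theorem F270726 : act 7 n158341 = n172543 := d8_0 F270725 F127229 D158341
def n172544 : Q := act 7 n82602
theorem D172544 : act 7 n82602 = n172544 := rfl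
theorem F270727 : act 3 n172544 = n82604 := d8_1 D172544 (iv7 D82604) D82602
theorem F270728 : act 5 n172544 = n158341 := d13_1 D172544 F270726 (iv5 D172543)
def n172545 : Q := act 6 n82603
theorem D172545 : act 6 n82603 = n172545 := rfl
theorem F270729 : act 4 n172545 = n158342 := d10_1 D172545 (iv6 D158342) (iv4 F127228)
def n172546 : Q := act 6 n82604
theorem D172546 : act 6 n82604 = n172546 := rfl
theorem F270730 : act 2 n172546 = n172545 := d3_1 D172546 (iv6 D172545) (iv2 F127232)
theorem F270731 : act 4 n172546 = n82605 := d10_1 D172546 (iv6 D82605) (iv4 F127233)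
def n172549 : Q := act 2 n82606
theorem D172549 : act 2 n82606 = n172549 := rfl
theorem F270732 : act 7 n82607 = n172549 := d15_2 (iv0 D82606) D82607 (iv2 D172549)
def n172550 : Q := act 3 n82606
theorem D172550 : act 3 n82606 = n172550 := rfl
theorem F270733 : act 4 n172550 = n170043 := d20_6 F13407 D8567 D18170 D37932 D82606 D172550 (iv1 D170043) F125432 (iv3 D37909) (iv1 D18165)
def n172551 : Q := act 4 n82606
theorem D172551 : act 4 n82606 = n172551 := rfl
theorem F270734 : act 0 n172551 = n172368 := d20_1 D172551 (iv4 D172368) (iv3 D82540) (iv1 D37893) F29331 F13407 D8567 D18170 D37932 D82606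
def n172552 : Q := act 5 n82606
theorem D172552 : act 5 n82606 = n172552 := rfl
def n172553 : Q := act 6 n82606
theorem D172553 : act 6 n82606 = n172553 := rfl
def n172554 : Q := act 7 n82606
theorem D172554 : act 7 n82606 = n172554 := rfl
theorem F270735 : act 2 n172554 = n82607 := d4_1 D172554 F270732 (iv2 D172549)
def n172555 : Q := act 3 n82607
theorem D172555 : act 3 n82607 = n172555 := rfl
theorem F270736 : act 4 n172555 = n152661 := d20_6 (iv4 D118908) (iv1 F113936) D54877 D119238 (iv1 F187673) D172555 (iv1 D152661) (iv4 F187617) (iv3 D119227) (iv1 F186961)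
theorem F270737 : act 0 n161596 = n172555 := d20_10 F270736 (iv1 D152661) (iv4 F187617) (iv3 D119227) (iv1 F186961) (iv3 F186960) (iv4 F192531) (iv1 F192534) (iv4 F151627) D161596
def n172556 : Q := act 4 n82607
theorem D172556 : act 4 n82607 = n172556 := rfl
theorem F270738 : act 3 n172556 = n167503 := d20_9 (iv4 F262878) (iv1 F262881) (iv4 F240109) (iv3 D152893) F190089 D72705 F191142 (iv1 F187673) D172556 (iv1 F263699)
theorem F270739 : act 0 n172368 = n172556 := d20_10 (iv4 D172556) (iv1 D82607) (iv4 F121522) (iv3 D57026) (iv1 F121342) (iv3 F191831) F191832 D167735 F264051 (iv3 F270597)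
def n172559 : Q := act 5 n82608
theorem D172559 : act 5 n82608 = n172559 := rfl
theorem F270740 : act 2 n172559 = n82609 := d2_1 D172559 (iv5 D82609) D82608
def n172560 : Q := act 6 n82608
theorem D172560 : act 6 n82608 = n172560 := rfl
theorem F270741 : act 2 n172560 = n82610 := d3_1 D172560 (iv6 D82610) D82608
def n172561 : Q := act 0 n82609
theorem D172561 : act 0 n82609 = n172561 := rfl
def n172562 : Q := act 1 n82609
theorem D172562 : act 1 n82609 = n172562 := rfl
def n172563 : Q := act 4 n82609
theorem D172563 : act 4 n82609 = n172563 := rfl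
def n172564 : Q := act 6 n82609
theorem D172564 : act 6 n82609 = n172564 := rfl
theorem F270742 : act 3 n172564 = n82612 := d7_1 D172564 (iv6 D82612) (iv3 F127235)
def n172565 : Q := act 0 n82610
theorem D172565 : act 0 n82610 = n172565 := rfl
def n172566 : Q := act 1 n82610
theorem D172566 : act 1 n82610 = n172566 := rfl
def n172567 : Q := act 7 n82610
theorem D172567 : act 7 n82610 = n172567 := rfl
theorem F270743 : act 3 n172567 = n82615 := d8_1 D172567 (iv7 D82615) (iv3 F127236)
def n172568 : Q := act 3 n82611
theorem D172568 : act 3 n82611 = n172568 := rfl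
theorem F270744 : act 5 n172568 = n172538 := d6_2 (iv5 F127237) D172568 (iv3 D172538)
def n172569 : Q := act 6 n82611
theorem D172569 : act 6 n82611 = n172569 := rfl
theorem F270745 : act 4 n172569 = n82612 := d10_1 D172569 (iv6 D82612) D82611
def n172570 : Q := act 0 n82612
theorem D172570 : act 0 n82612 = n172570 := rfl
def n172571 : Q := act 1 n82612
theorem D172571 : act 1 n82612 = n172571 := rfl
def n172572 : Q := act 7 n82612
theorem D172572 : act 7 n82612 = n172572 := rfl
def n172574 : Q := act 0 n82616
theorem D172574 : act 0 n82616 = n172574 := rfl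
def n172575 : Q := act 1 n82616
theorem D172575 : act 1 n82616 = n172575 := rfl
def n172576 : Q := act 2 n82616
theorem D172576 : act 2 n82616 = n172576 := rfl
def n172578 : Q := act 5 n82617
theorem D172578 : act 5 n82617 = n172578 := rfl
theorem F270750 : act 0 n172578 = n157990 := d17_2 (iv1 F128342) D172578 (iv5 D157990) (iv4 F112798) D80475 (iv0 F136138) F136137 F135945 (iv4 F135944)
def n172579 : Q := act 2 n82618
theorem D172579 : act 2 n82618 = n172579 := rfl
theorem F270752 : act 7 n82619 = n172579 := d15_2 (iv0 D82618) D82619 (iv2 D172579)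
def n172580 : Q := act 3 n82618
theorem D172580 : act 3 n82618 = n172580 := rfl
theorem F270753 : act 4 n172580 = n98746 := d20_6 (iv4 D17872) F17441 D18178 D37956 D82618 D172580 (iv1 D98746) F72847 (iv3 D22123) (iv1 F29043)
def n172582 : Q := act 5 n82618
theorem D172582 : act 5 n82618 = n172582 := rfl
theorem F270756 : act 4 n172582 = n87534 := d19_2 D82618 D172582 F134432 F61851 (iv5 D37092) (iv4 D17849) F13199 F5761 (iv5 D2607) F2280 F1395 D881 F1642 D1649 D3772 (iv1 F17439) D8570 D18178 D37956
theorem F270757 : act 7 n172582 = n172582 := d11_0 F270756 F134433 (iv4 F270756)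
theorem F270758 : act 7 n82618 = n82618 := d13_2 F270757 (iv5 D172582) D172582
theorem E24360 : n172579 = n82619 := ((c4_3 F270758 D172579 (iv7 F270752) (iv2 D172579))).symm
theorem F270759 : act 2 n82619 = n82618 := (sb E24360 (iv2 D172579))
theorem F270761 : act 7 n172580 = n172580 := d8_2 F270758 D172580 (iv3 D172580)
theorem F270763 : act 7 n98746 = n98746 := d11_2 F270761 F270753 (iv4 F270753)
theorem F270764 : act 2 n98746 = n98745 := d15_3 (iv0 D98745) D98746 F270763
theorem F270765 : act 7 n98745 = n98745 := d4_2 F270763 F270764 (iv2 F270764)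
def n172586 : Q := act 5 n82619
theorem D172586 : act 5 n82619 = n172586 := rfl
theorem F270774 : act 2 n172586 = n172582 := d2_1 D172586 (iv5 D172582) (iv2 F270759)
def n172601 : Q := act 2 n82627
theorem D172601 : act 2 n82627 = n172601 := rfl
theorem F270805 : act 3 n172601 = n82680 := d0_2 D82627 D172601 (iv2 D82680) (iv3 D37994) (iv2 F58792)
theorem F270808 : act 1 n172601 = n122287 := d15_0 (iv0 F195493) F127268 D172601
def n172604 : Q := act 6 n82631
theorem D172604 : act 6 n82631 = n172604 := rfl
theorem F270819 : act 5 n172604 = n123367 := d12_1 D172604 (iv6 D123367) (iv5 D57459) D57460 F127292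
theorem F270822 : act 0 n162181 = n172604 := d21_4 D171326 (iv1 F269252) (iv5 D171496) F256323 (iv6 D172604) (iv5 F127292) (iv1 F196672) (iv5 F196670) (iv6 F256319) F256320
theorem F270823 : act 0 n84774 = n162182 := d21_4 F197695 (iv1 F195941) (iv5 D84773) D84774 (iv6 D162182) D162181 F270822 F270819 (iv6 D123367) D123364
def n172606 : Q := act 6 n82634
theorem D172606 : act 6 n82634 = n172606 := rfl
theorem F270831 : act 4 n172606 = n82635 := d10_1 D172606 (iv6 D82635) D82634
def n172607 : Q := act 0 n82635
theorem D172607 : act 0 n82635 = n172607 := rfl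
def n172608 : Q := act 1 n82635
theorem D172608 : act 1 n82635 = n172608 := rfl
def n172609 : Q := act 5 n82635
theorem D172609 : act 5 n82635 = n172609 := rfl
def n172610 : Q := act 7 n82635
theorem D172610 : act 7 n82635 = n172610 := rfl
def n172612 : Q := act 6 n82637
theorem D172612 : act 6 n82637 = n172612 := rfl
theorem F270834 : act 2 n172612 = n172012 := d3_1 D172612 (iv6 D172012) (iv2 F127309)
theorem F270835 : act 4 n172612 = n82729 := d10_1 D172612 (iv6 D82729) (iv4 F127310)
def n172620 : Q := act 7 n82639
theorem D172620 : act 7 n82639 = n172620 := rfl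
theorem F270841 : act 2 n172620 = n82645 := d4_1 D172620 (iv7 D82645) (iv2 F127312)
theorem F270843 : act 6 n172620 = n167450 := d14_1 D172620 F263609 (iv6 D158300) F113251 D82639
theorem F270845 : act 1 n172620 = n82642 := d15_0 (iv0 D82642) D82645 (iv2 F270841)
def n172621 : Q := act 6 n82640
theorem D172621 : act 6 n82640 = n172621 := rfl
theorem F270846 : act 3 n172621 = n170253 := d7_1 D172621 (iv6 D170253) F127316
def n172651 : Q := act 1 n82648
theorem D172651 : act 1 n82648 = n172651 := rfl
def n172671 : Q := act 6 n82658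
theorem D172671 : act 6 n82658 = n172671 := rfl
theorem F270893 : act 7 n172671 = n87521 := d14_2 (iv7 F127334) D172671 (iv6 D87521) F127355 F127351
theorem F270894 : act 0 n172671 = n169774 := d21_10 F267160 (iv1 F258407) F132073 (iv6 D40740) F30872 (iv6 F61712) (iv5 D40589) F120719 D82658 D172671
theorem F270895 : act 1 n96867 = n169774 := d15_0 (iv0 F270894) F270893 (iv2 F149357)
def n172708 : Q := act 0 n82683
theorem D172708 : act 0 n82683 = n172708 := rfl
def n172709 : Q := act 1 n82683
theorem D172709 : act 1 n82683 = n172709 := rfl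
theorem F270951 : act 1 n172709 = n89150 := d15_1 D172709 (iv7 D89150) (iv2 F127380)
def n172710 : Q := act 5 n82683
theorem D172710 : act 5 n82683 = n172710 := rfl
theorem F270953 : act 6 n172710 = n150082 := d12_2 D82683 D172710 (iv5 D150082) (iv6 D70618) (iv5 F58824)
def n172711 : Q := act 7 n82683
theorem D172711 : act 7 n82683 = n172711 := rfl
theorem F270954 : act 2 n172711 = n89150 := d4_1 D172711 (iv7 D89150) (iv2 F127380)
theorem F270955 : act 4 n172711 = n89155 := d11_1 D172711 (iv7 D89155) (iv4 F127381)
theorem F270959 : act 1 n172711 = n89147 := d15_0 (iv0 D89147) D89150 (iv2 F270954)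
def n172712 : Q := act 5 n82684
theorem D172712 : act 5 n82684 = n172712 := rfl
theorem F270961 : act 3 n172712 = n89100 := d6_1 D172712 (iv5 D89100) (iv3 F127383)
theorem F270962 : act 6 n172712 = n101540 := d12_2 D82684 D172712 (iv5 D101540) (iv6 D47236) (iv5 F58829)
def n172713 : Q := act 2 n82685
theorem D172713 : act 2 n82685 = n172713 := rfl
theorem F270964 : act 4 n172713 = n89164 := d1_2 (iv4 F136863) D172713 (iv2 D89164)
def n172714 : Q := act 3 n82685
theorem D172714 : act 3 n82685 = n172714 := rfl
theorem F270966 : act 4 n172714 = n94387 := d5_2 (iv4 F136863) D172714 (iv3 F157631) (iv4 F144819) (iv3 D89165)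
theorem F270967 : act 0 n172714 = n99066 := d20_4 (iv4 F31386) D41653 (iv4 F136863) D172714 (iv3 D99066) D99067 F152591 F136493 (iv3 D87376) (iv1 D40610)
theorem F270968 : act 0 n94218 = n172714 := d20_4 (iv4 F70991) F157285 (iv4 F147420) F147419 (iv3 D172714) F136863 (iv1 F136862) F136859 F136550 (iv1 D88969)
def n172716 : Q := act 6 n82685
theorem D172716 : act 6 n82685 = n172716 := rfl
theorem F270969 : act 4 n172716 = n89167 := d10_1 D172716 (iv6 D89167) (iv4 F136863)
def n172717 : Q := act 7 n82685
theorem D172717 : act 7 n82685 = n172717 := rfl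
theorem F270971 : act 4 n172717 = n89168 := d11_1 D172717 (iv7 D89168) (iv4 F136863)
def n172719 : Q := act 6 n82686
theorem D172719 : act 6 n82686 = n172719 := rfl
theorem F270972 : act 4 n172719 = n89172 := d10_1 D172719 (iv6 D89172) (iv4 F148779)
def n172721 : Q := act 1 n82687
theorem D172721 : act 1 n82687 = n172721 := rfl
theorem F270973 : act 5 n101039 = n172721 := d21_6 (iv5 D33508) (iv1 F27271) (iv5 F27270) D22640 D47073 D101039 (iv1 D172721) (iv5 D82687) (iv6 D37998) (iv1 F52830)
theorem F270974 : act 2 n172721 = n101092 := d2_1 F270973 (iv5 D101092) F155698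
def n172722 : Q := act 4 n82687
theorem D172722 : act 4 n82687 = n172722 := rfl
theorem F270975 : act 6 n172722 = n101552 := d10_2 (iv6 F127385) D172722 (iv4 D101552)
def n172723 : Q := act 6 n82688
theorem D172723 : act 6 n82688 = n172723 := rfl
theorem F270979 : act 5 n172723 = n89379 := d12_1 D172723 (iv6 D89379) (iv5 F64377) (iv6 F69158) (iv5 F127386)
def n172724 : Q := act 3 n82689
theorem D172724 : act 3 n82689 = n172724 := rfl
theorem F270980 : act 2 n172724 = n98102 := d0_1 D172724 (iv3 D98102) F72321 F66931 (iv2 F127395)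
theorem F270981 : act 5 n172724 = n99094 := d6_2 F127394 D172724 (iv3 D99094)
theorem F270982 : act 7 n172724 = n89139 := d8_2 (iv7 F127393) D172724 (iv3 D89139)
theorem F270983 : act 0 n99068 = n172724 := d21_1 D99068 F270981 F152623 (iv1 F140445) F177423 (iv5 F153291) F157306 F135058 (iv6 D87432) (iv1 F72991)
theorem F270984 : act 0 n172724 = n88801 := d21_7 D40315 (iv1 F72921) (iv5 D22307) D22308 (iv1 F177416) (iv6 F152623) (iv5 F270981) (iv5 D88801) (iv6 D41458) (iv1 F31253)
def n172748 : Q := act 4 n82709
theorem D172748 : act 4 n82709 = n172748 := rfl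
theorem F271019 : act 5 n98745 = n172748 := d19_1 D98745 (iv4 D172748) F127475 F58852 (iv5 D21146) (iv4 D10077) F6653 F3210 (iv5 D998) F1190 (iv3 F1705) D1712 F2923 (iv4 F3095) D3767 F17405 D10533 D22099 D46181
def n172753 : Q := act 6 n82711
theorem D172753 : act 6 n82711 = n172753 := rfl
def n172761 : Q := act 7 n82715
theorem D172761 : act 7 n82715 = n172761 := rfl
theorem F271027 : act 5 n172761 = n82716 := d13_1 D172761 (iv7 D82716) D82715
def n172762 : Q := act 6 n82717
theorem D172762 : act 6 n82717 = n172762 := rfl
theorem F271028 : act 2 n172762 = n158137 := d3_1 D172762 (iv6 D158137) (iv2 F127483)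
theorem F271029 : act 4 n172762 = n82718 := d10_1 D172762 (iv6 D82718) D82717
def n172763 : Q := act 0 n82718
theorem D172763 : act 0 n82718 = n172763 := rfl
def n172764 : Q := act 1 n82718
theorem D172764 : act 1 n82718 = n172764 := rfl
def n172765 : Q := act 5 n82718
theorem D172765 : act 5 n82718 = n172765 := rfl
theorem F271030 : act 6 n172765 = n82721 := d12_2 D82718 D172765 (iv5 D82721) (iv6 D38023) D38022
def n172766 : Q := act 7 n82718
theorem D172766 : act 7 n82718 = n172766 := rfl
def n172770 : Q := act 5 n82723
theorem D172770 : act 5 n82723 = n172770 := rfl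
theorem F271034 : act 7 n172770 = n82743 := d13_2 (iv7 F186409) D172770 (iv5 D82743)
def n172771 : Q := act 6 n82723
theorem D172771 : act 6 n82723 = n172771 := rfl
theorem F271035 : act 2 n172771 = n82739 := d3_1 D172771 (iv6 D82739) (iv2 F186408)
def n172772 : Q := act 3 n82724
theorem D172772 : act 3 n82724 = n172772 := rfl
theorem F271036 : act 2 n172772 = n150220 := d0_1 D172772 (iv3 D150220) F186532 F191013 (iv2 F186411)
theorem F271037 : act 7 n172772 = n82736 := d8_2 (iv7 F186412) D172772 (iv3 D82736)
def n172773 : Q := act 4 n82724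
theorem D172773 : act 4 n82724 = n172773 := rfl
theorem F271039 : act 2 n172773 = n82742 := d1_1 D172773 (iv4 D82742) (iv2 F186411)
theorem F271040 : act 7 n172773 = n82737 := d11_2 (iv7 F186412) D172773 (iv4 D82737)
def n172775 : Q := act 6 n82724
theorem D172775 : act 6 n82724 = n172775 := rfl
theorem F271043 : act 2 n172775 = n82744 := d3_1 D172775 (iv6 D82744) (iv2 F186411)
def n172776 : Q := act 0 n82725
theorem D172776 : act 0 n82725 = n172776 := rfl
def n172777 : Q := act 1 n82725
theorem D172777 : act 1 n82725 = n172777 := rfl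
theorem F271044 : act 1 n172777 = n82748 := d15_1 D172777 (iv7 D82748) (iv2 F127488)
theorem F271045 : act 5 n83377 = n172777 := d21_6 F59270 (iv1 D38408) (iv5 D18321) D18322 D38410 D83377 (iv1 D172777) (iv5 D82725) (iv6 D38024) (iv1 F54786)
def n172778 : Q := act 4 n82725
theorem D172778 : act 4 n82725 = n172778 := rfl
theorem F271046 : act 2 n172778 = n82747 := d1_1 D172778 (iv4 D82747) (iv2 F127488)
def n172779 : Q := act 7 n82725
theorem D172779 : act 7 n82725 = n172779 := rfl
theorem F271047 : act 2 n172779 = n82748 := d4_1 D172779 (iv7 D82748) (iv2 F127488)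
theorem F271049 : act 1 n82748 = n172776 := d15_0 (iv0 D172776) D172779 F271047
theorem F271051 : act 1 n172779 = n82745 := d15_0 (iv0 D82745) D82748 (iv2 F271047)
def n172780 : Q := act 6 n82727
theorem D172780 : act 6 n82727 = n172780 := rfl
def n172781 : Q := act 0 n82728
theorem D172781 : act 0 n82728 = n172781 := rfl
def n172782 : Q := act 1 n82728
theorem D172782 : act 1 n82728 = n172782 := rfl
def n172783 : Q := act 5 n82728
theorem D172783 : act 5 n82728 = n172783 := rfl
theorem F271054 : act 6 n172783 = n83355 := d12_2 D82728 D172783 (iv5 D83355) (iv6 D38402) (iv5 F58857)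
def n172784 : Q := act 7 n82728
theorem D172784 : act 7 n82728 = n172784 := rfl
def n172785 : Q := act 0 n82729
theorem D172785 : act 0 n82729 = n172785 := rfl
def n172786 : Q := act 1 n82729
theorem D172786 : act 1 n82729 = n172786 := rfl
def n172787 : Q := act 5 n82729
theorem D172787 : act 5 n82729 = n172787 := rfl
theorem F271055 : act 6 n172787 = n83359 := d12_2 D82729 D172787 (iv5 D83359) (iv6 D38404) (iv5 F87067)
def n172788 : Q := act 7 n82729
theorem D172788 : act 7 n82729 = n172788 := rfl
def n172789 : Q := act 5 n82730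
theorem D172789 : act 5 n82730 = n172789 := rfl
theorem F271056 : act 2 n172789 = n83359 := d2_1 D172789 (iv5 D83359) (iv2 F127498)
theorem F271057 : act 3 n172789 = n101469 := d6_1 D172789 (iv5 D101469) (iv3 F127499)
def n172790 : Q := act 2 n82731
theorem D172790 : act 2 n82731 = n172790 := rfl
theorem F271058 : act 7 n82732 = n172790 := d15_2 (iv0 D82731) D82732 (iv2 D172790)
def n172791 : Q := act 3 n82731
theorem D172791 : act 3 n82731 = n172791 := rfl
theorem F271059 : act 4 n123201 = n172791 := d20_2 (iv4 F90533) D123201 (iv3 D172791) (iv1 F189172) (iv3 D119847) D119848 (iv1 F189178) (iv4 F162879) F193725 (iv1 D121424)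
def n172792 : Q := act 4 n82731
theorem D172792 : act 4 n82731 = n172792 := rfl
theorem F271061 : act 3 n172792 = n119281 := d20_3 F127500 D82731 D172792 (iv1 F187749) F126903 F58640 (iv1 F29295) D18456 D38834 (iv1 F184758)
def n172793 : Q := act 5 n82731
theorem D172793 : act 5 n82731 = n172793 := rfl
def n172794 : Q := act 6 n82731
theorem D172794 : act 6 n82731 = n172794 := rfl
def n172795 : Q := act 7 n82731
theorem D172795 : act 7 n82731 = n172795 := rfl
theorem F271062 : act 2 n172795 = n82732 := d4_1 D172795 F271058 (iv2 D172790)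
def n172796 : Q := act 3 n82732
theorem D172796 : act 3 n82732 = n172796 := rfl
def n172797 : Q := act 4 n82732
theorem D172797 : act 4 n82732 = n172797 := rfl
def n172798 : Q := act 5 n82732
theorem D172798 : act 5 n82732 = n172798 := rfl
def n172799 : Q := act 6 n82732
theorem D172799 : act 6 n82732 = n172799 := rfl
def n172802 : Q := act 4 n82733
theorem D172802 : act 4 n82733 = n172802 := rfl
theorem F271063 : act 6 n172802 = n82747 := d10_2 (iv6 F127502) D172802 (iv4 D82747)
def n172803 : Q := act 7 n82733
theorem D172803 : act 7 n82733 = n172803 := rfl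
theorem F271064 : act 3 n172803 = n82762 := d8_1 D172803 (iv7 D82762) (iv3 F127501)
theorem F271065 : act 5 n172803 = n82734 := d13_1 D172803 (iv7 D82734) D82733
def n172804 : Q := act 0 n82736
theorem D172804 : act 0 n82736 = n172804 := rfl
theorem F271066 : act 1 n150220 = n172804 := d15_0 (iv0 D172804) (iv7 F271037) F271036
def n172805 : Q := act 1 n82736
theorem D172805 : act 1 n82736 = n172805 := rfl
theorem F271067 : act 1 n172805 = n150220 := d15_1 D172805 F236411 F191012
theorem F271068 : act 4 n172805 = n171220 := d20_2 (iv4 F236410) (iv1 F271067) (iv3 D171220) (iv1 D82046) (iv3 D37598) D37599 F118212 (iv4 F126293) F236425 (iv1 D150229)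
theorem F271069 : act 0 n171220 = n158371 := d20_1 F271068 (iv4 D158371) D158370 F266160 F239286 (iv4 F190656) F190986 D70712 D150220 (iv1 F271067)
def n172807 : Q := act 6 n82736
theorem D172807 : act 6 n82736 = n172807 := rfl
theorem F271071 : act 3 n172807 = n82739 := d7_1 D172807 (iv6 D82739) D82736
def n172808 : Q := act 0 n82737
theorem D172808 : act 0 n82737 = n172808 := rfl
theorem F271072 : act 1 n82742 = n172808 := d15_0 (iv0 D172808) (iv7 F271040) F271039
def n172810 : Q := act 3 n82737
theorem D172810 : act 3 n82737 = n172810 := rfl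
theorem F271075 : act 4 n172810 = n150203 := d5_2 D82737 D172810 F236386 F236324 (iv3 D82736)
theorem F271076 : act 0 n172810 = n171257 := d20_10 (iv4 D171257) (iv1 D82061) D82063 F126475 (iv1 D37977) (iv3 F58811) F58812 D38029 D82737 D172810
theorem F271077 : act 0 n171252 = n172810 := d20_1 D171252 F271075 F236386 F236428 (iv3 F236425) F126293 (iv1 F118210) (iv4 D37604) D37603 D82060
def n172812 : Q := act 6 n82737
theorem D172812 : act 6 n82737 = n172812 := rfl
theorem F271078 : act 4 n172812 = n82739 := d10_1 D172812 (iv6 D82739) D82737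
def n172813 : Q := act 0 n82738
theorem D172813 : act 0 n82738 = n172813 := rfl
def n172814 : Q := act 1 n82738
theorem D172814 : act 1 n82738 = n172814 := rfl
def n172817 : Q := act 0 n82739
theorem D172817 : act 0 n82739 = n172817 := rfl
def n172818 : Q := act 1 n82739
theorem D172818 : act 1 n82739 = n172818 := rfl
def n172819 : Q := act 5 n82739
theorem D172819 : act 5 n82739 = n172819 := rfl
def n172820 : Q := act 7 n82739
theorem D172820 : act 7 n82739 = n172820 := rfl
def n172822 : Q := act 6 n82742
theorem D172822 : act 6 n82742 = n172822 := rfl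
theorem F271082 : act 4 n172822 = n82744 := d10_1 D172822 (iv6 D82744) D82742
def n172823 : Q := act 4 n82743
theorem D172823 : act 4 n82743 = n172823 := rfl
def n172824 : Q := act 6 n82743
theorem D172824 : act 6 n82743 = n172824 := rfl
def n172825 : Q := act 1 n82744
theorem D172825 : act 1 n82744 = n172825 := rfl
def n172826 : Q := act 5 n82744
theorem D172826 : act 5 n82744 = n172826 := rfl
def n172827 : Q := act 7 n82744
theorem D172827 : act 7 n82744 = n172827 := rfl
def n172828 : Q := act 2 n82745
theorem D172828 : act 2 n82745 = n172828 := rfl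
theorem F271083 : act 7 n82746 = n172828 := d15_2 (iv0 D82745) D82746 (iv2 D172828)
def n172829 : Q := act 3 n82745
theorem D172829 : act 3 n82745 = n172829 := rfl
def n172830 : Q := act 4 n82745
theorem D172830 : act 4 n82745 = n172830 := rfl
def n172831 : Q := act 5 n82745
theorem D172831 : act 5 n82745 = n172831 := rfl
def n172832 : Q := act 6 n82745
theorem D172832 : act 6 n82745 = n172832 := rfl
def n172833 : Q := act 7 n82745
theorem D172833 : act 7 n82745 = n172833 := rfl
theorem F271084 : act 2 n172833 = n82746 := d4_1 D172833 F271083 (iv2 D172828)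
def n172834 : Q := act 3 n82746
theorem D172834 : act 3 n82746 = n172834 := rfl
def n172836 : Q := act 5 n82746
theorem D172836 : act 5 n82746 = n172836 := rfl
theorem F271085 : act 6 n83362 = n172836 := d21_5 D38019 (iv1 F59261) (iv5 D38405) D38406 D83362 (iv5 D172836) (iv1 D82746) (iv5 D38031) (iv6 D18204) D18200
theorem F271086 : act 2 n172836 = n83377 := d3_1 F271085 (iv6 D83377) (iv2 F188759)
theorem F271087 : act 3 n172836 = n84947 := d7_1 F271085 (iv6 D84947) (iv3 F187965)
theorem E24361 : n172834 = n119141 := ((c6_3 D172836 F271087 F187460 (iv3 D172834))).symm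
theorem F271088 : act 3 n119141 = n82746 := (sb E24361 (iv3 D172834))
theorem E24362 : n172833 = n172777 := ((c2_3 D172836 F271086 F271045 F271084)).symm
theorem F271090 : act 7 n172777 = n82745 := (sb E24362 (iv7 D172833))
theorem F271091 : act 7 n172831 = n83377 := d13_2 F271090 D172831 F271045
theorem E24363 : n172828 = n172776 := (c15_4 (iv0 D172776) D172777 F271090 D172828)
theorem F271092 : act 2 n172776 = n82745 := (sb E24363 (iv2 D172828))
def n172838 : Q := act 0 n82747
theorem D172838 : act 0 n82747 = n172838 := rfl
def n172839 : Q := act 1 n82747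
theorem D172839 : act 1 n82747 = n172839 := rfl
def n172841 : Q := act 5 n82747
theorem D172841 : act 5 n82747 = n172841 := rfl
def n172842 : Q := act 7 n82747
theorem D172842 : act 7 n82747 = n172842 := rfl
theorem F271095 : act 4 n172842 = n82748 := d11_1 D172842 (iv7 D82748) D82747
def n172843 : Q := act 6 n82748
theorem D172843 : act 6 n82748 = n172843 := rfl
def n172844 : Q := act 0 n82752
theorem D172844 : act 0 n82752 = n172844 := rfl
theorem F271097 : act 5 n172844 = n172269 := d21_2 D82752 D172844 (iv6 D172269) (iv1 D82506) (iv6 D37877) (iv5 D18153) (iv1 F13405) D8587 D18205 D38033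
theorem F271098 : act 1 n82757 = n172844 := d15_0 (iv0 D172844) (iv7 F268292) F268298
theorem F271099 : act 4 n89347 = n172269 := d17_4 D22715 D47225 D101504 F156315 (iv5 F271097) (iv0 D172844) (iv5 D82752) (iv0 D38033) F29375
theorem E24364 : n172267 = n41726 := (c10_4 D89347 F271099 (iv6 D172269) D172267)
theorem E24365 : n89345 = n82506 := ((D89345).symm.trans (sb E24364 (iv4 D172267)))
theorem F271100 : act 4 n82506 = n41726 := (sb E24365 (iv4 D89345))
theorem F271101 : act 4 n89343 = n172265 := d1_2 F271100 (iv2 F137027) F270516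
theorem F271102 : act 4 n89338 = n172260 := d11_3 (iv7 F270515) F271100 F137025
theorem F271103 : act 5 n101767 = n172270 := d17_5 (iv1 D41726) D41727 D89348 F156664 (iv4 F156637) (iv0 D172270) (iv5 D82507) D82506 F271100
theorem F271104 : act 7 n172270 = n101766 := d13_2 D101767 F271103 (iv5 D101766)
theorem E24366 : n172262 = n41725 := (c1_3 F271102 (iv2 D172260) D172262 D89338)
theorem E24367 : n89340 = n82505 := ((D89340).symm.trans (sb E24366 (iv4 D172262)))
theorem F271105 : act 4 n82505 = n41725 := (sb E24367 (iv4 D89340))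
theorem F271106 : act 4 n89342 = n172264 := d10_3 (iv6 D172264) F271105 D89342
def n172845 : Q := act 1 n82752
theorem D172845 : act 1 n82752 = n172845 := rfl
theorem F271107 : act 1 n172845 = n82757 := d15_1 D172845 F268297 F268293
def n172846 : Q := act 4 n82752
theorem D172846 : act 4 n82752 = n172846 := rfl
def n172847 : Q := act 6 n82752
theorem D172847 : act 6 n82752 = n172847 := rfl
def n172848 : Q := act 0 n82753
theorem D172848 : act 0 n82753 = n172848 := rfl
def n172849 : Q := act 1 n82753
theorem D172849 : act 1 n82753 = n172849 := rfl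
theorem F271108 : act 1 n172849 = n101824 := d15_1 D172849 (iv7 F268291) F268278
theorem F271109 : act 4 n172849 = n99723 := d18_7 (iv1 F153181) (iv4 F155577) (iv1 F155578) (iv4 D100131) (iv5 F136722) F184763 D172849 F156728 F153183
theorem F271110 : act 6 n101767 = n172849 := d21_3 D82507 D172270 (iv5 F271103) (iv1 D172849) (iv6 D82753) D82752 D172844 F271097 (iv6 D172269) (iv1 D82506)
theorem F271111 : act 7 n172849 = n99717 := d14_2 D101767 F271110 (iv6 D99717) F156704 D47301
theorem F271112 : act 2 n101827 = n172849 := d4_3 F271111 F156719 D101827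
theorem E24368 : n101825 = n82753 := (c15_1 D101825 D172849 F271111 F156719)
theorem E24369 : n172848 = n47321 := ((D172848).symm.trans (sb E24368 (iv1 D101825)))
theorem F271113 : act 1 n47321 = n82753 := (sb E24369 (iv0 D172848))
def n172850 : Q := act 5 n82753
theorem D172850 : act 5 n82753 = n172850 := rfl
theorem F271114 : act 2 n172850 = n83398 := d2_1 D172850 (iv5 F184678) F268278
theorem F271115 : act 0 n172850 = n82932 := d17_2 (iv1 D172849) D172850 (iv5 D82932) F59012 D46494 D99448 (iv5 F153176) (iv0 F156733) (iv4 F271109)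
theorem F271116 : act 1 n172850 = n83400 := d17_6 (iv1 F73295) (iv5 F152915) (iv1 F152917) (iv5 F136722) F184763 D172850 F128510 (iv0 F155450) (iv4 D46729)
def n172851 : Q := act 7 n82753
theorem D172851 : act 7 n82753 = n172851 := rfl
theorem F271117 : act 2 n172851 = n101824 := d4_1 D172851 (iv7 F268291) F268278
theorem F271118 : act 1 n101827 = n172851 := d15_1 (iv0 F184679) (iv7 D172851) (iv2 F268278)
theorem F271119 : act 1 n172851 = n99717 := d15_1 F271118 (iv7 F271111) (iv2 F271112)
def n172852 : Q := act 0 n82755
theorem D172852 : act 0 n82755 = n172852 := rfl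
theorem F271120 : act 4 n172852 = n162589 := d20_0 (iv1 D162589) (iv4 F193734) (iv3 D121427) (iv1 F88718) (iv3 F59421) F59422 (iv1 F64184) (iv4 F184766) D82755 D172852
def n172853 : Q := act 1 n82755
theorem D172853 : act 1 n82755 = n172853 := rfl
theorem F271121 : act 3 n154414 = n172853 := d20_3 (iv4 D73147) D73144 D154414 (iv1 D172853) (iv3 D82755) F184766 (iv1 D41589) (iv4 F54822) (iv3 F113375) F186298
theorem F271122 : act 4 n172853 = n162588 := d5_2 D154414 F271121 F256826 (iv4 F242573) F242572
def n172854 : Q := act 4 n82755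
theorem D172854 : act 4 n82755 = n172854 := rfl
theorem F271124 : act 0 n172854 = n153243 := d20_1 D172854 F240698 F186289 D118466 (iv3 F186297) (iv4 D73147) D73144 D154414 F271121 (iv1 D172853)
def n172855 : Q := act 5 n82755
theorem D172855 : act 5 n82755 = n172855 := rfl
theorem F271125 : act 3 n172855 = n82757 := d6_1 D172855 (iv5 D82757) D82755
def n172856 : Q := act 6 n82755
theorem D172856 : act 6 n82755 = n172856 := rfl
theorem F271126 : act 3 n172856 = n82758 := d7_1 D172856 (iv6 D82758) D82755
def n172857 : Q := act 4 n82757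
theorem D172857 : act 4 n82757 = n172857 := rfl
def n172858 : Q := act 6 n82757
theorem D172858 : act 6 n82757 = n172858 := rfl
def n172861 : Q := act 5 n82758
theorem D172861 : act 5 n82758 = n172861 := rfl
theorem F271127 : act 0 n172293 = n172861 := d21_1 D172293 (iv5 D172861) (iv6 D82758) (iv1 D38034) (iv6 D18205) (iv5 D8587) (iv1 F13406) D18156 D37884 D82516
def n172862 : Q := act 7 n82758
theorem D172862 : act 7 n82758 = n172862 := rfl
theorem F271130 : act 6 n172862 = n101824 := d14_1 D172862 (iv7 F268291) (iv6 D98522) F268266 D82758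
def n172863 : Q := act 2 n82759
theorem D172863 : act 2 n82759 = n172863 := rfl
theorem F271131 : act 7 n82760 = n172863 := d15_2 (iv0 D82759) D82760 (iv2 D172863)
def n172864 : Q := act 3 n82759
theorem D172864 : act 3 n82759 = n172864 := rfl
def n172865 : Q := act 4 n82759
theorem D172865 : act 4 n82759 = n172865 := rfl
def n172866 : Q := act 5 n82759
theorem D172866 : act 5 n82759 = n172866 := rfl
def n172867 : Q := act 6 n82759
theorem D172867 : act 6 n82759 = n172867 := rfl
def n172868 : Q := act 7 n82759
theorem D172868 : act 7 n82759 = n172868 := rfl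
theorem F271132 : act 2 n172868 = n82760 := d4_1 D172868 F271131 (iv2 D172863)
def n172869 : Q := act 3 n82760
theorem D172869 : act 3 n82760 = n172869 := rfl
def n172870 : Q := act 4 n82760
theorem D172870 : act 4 n82760 = n172870 := rfl
theorem F271133 : act 0 n172870 = n158390 := d18_2 F244452 D172870 (iv4 D158390) (iv5 D75537) F54822 D41589 (iv4 F184766) (iv0 F184600) D155458
def n172871 : Q := act 6 n82760
theorem D172871 : act 6 n82760 = n172871 := rfl
def n172872 : Q := act 0 n82761
theorem D172872 : act 0 n82761 = n172872 := rfl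
def n172873 : Q := act 1 n82761
theorem D172873 : act 1 n82761 = n172873 := rfl
theorem F271134 : act 4 n172873 = n83789 := d18_7 (iv1 F113386) (iv4 F184686) (iv1 D22716) (iv4 F29375) D38035 D82761 D172873 F249563 F249561
def n172875 : Q := act 5 n82761
theorem D172875 : act 5 n82761 = n172875 := rfl
def n172876 : Q := act 7 n82761
theorem D172876 : act 7 n82761 = n172876 := rfl
theorem F271136 : act 4 n172876 = n82762 := d11_1 D172876 (iv7 D82762) D82761
def n172877 : Q := act 6 n82762
theorem D172877 : act 6 n82762 = n172877 := rfl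
theorem F271137 : act 7 n172877 = n82794 := d14_2 D82762 D172877 (iv6 D82794) (iv7 D38050) (iv6 F58866)
def n172878 : Q := act 4 n82763
theorem D172878 : act 4 n82763 = n172878 := rfl
theorem F271139 : act 6 n172878 = n150515 := d10_2 F186526 D172878 F236996
def n172881 : Q := act 6 n82765
theorem D172881 : act 6 n82765 = n172881 := rfl
theorem F271142 : act 2 n172881 = n82767 := d3_1 D172881 (iv6 D82767) D82765
def n172885 : Q := act 6 n82766
theorem D172885 : act 6 n82766 = n172885 := rfl
def n172888 : Q := act 6 n82768
theorem D172888 : act 6 n82768 = n172888 := rfl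
theorem F271147 : act 5 n172888 = n172075 := d12_1 D172888 (iv6 D172075) (iv5 D82411) D82412 (iv5 F127514)
def n172889 : Q := act 3 n82769
theorem D172889 : act 3 n82769 = n172889 := rfl
def n172898 : Q := act 7 n82771
theorem D172898 : act 7 n82771 = n172898 := rfl
def n172899 : Q := act 2 n82773
theorem D172899 : act 2 n82773 = n172899 := rfl
theorem F271159 : act 7 n82774 = n172899 := d15_2 (iv0 D82773) D82774 (iv2 D172899)
def n172903 : Q := act 6 n82773
theorem D172903 : act 6 n82773 = n172903 := rfl
def n172905 : Q := act 3 n82774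
theorem D172905 : act 3 n82774 = n172905 := rfl
def n172906 : Q := act 4 n82774
theorem D172906 : act 4 n82774 = n172906 := rfl
theorem F271162 : act 3 n172906 = n167968 := d20_9 D168398 (iv1 F265327) D171339 F269066 (iv1 F264798) (iv3 F264740) F264741 (iv1 F152273) D172906 (iv1 F264673)
def n172927 : Q := act 5 n82781
theorem D172927 : act 5 n82781 = n172927 := rfl
theorem F271170 : act 3 n172927 = n82783 := d6_1 D172927 (iv5 D82783) D82781
theorem F271171 : act 7 n172927 = n83405 := d13_2 F249336 D172927 (iv5 F249335)
theorem F271172 : act 6 n84101 = n172927 := d14_5 F271171 (iv6 D83405) (iv7 F127798) (iv6 F129125) F129126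
def n172930 : Q := act 5 n82782
theorem D172930 : act 5 n82782 = n172930 := rfl
theorem F271174 : act 4 n172930 = n82813 := d16_2 D82782 D172930 (iv5 D82813) F118470 F118465 (iv4 F127532) (iv5 D82787) (iv7 F127529) F127528
def n172939 : Q := act 5 n82785
theorem D172939 : act 5 n82785 = n172939 := rfl
theorem F271176 : act 3 n172939 = n82787 := d6_1 D172939 (iv5 D82787) D82785
theorem F271178 : act 6 n82934 = n172939 := d7_0 F271176 (iv6 F127533) D82934
def n172942 : Q := act 5 n82786
theorem D172942 : act 5 n82786 = n172942 := rfl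
theorem F271180 : act 4 n172942 = n82811 := d9_1 D172942 (iv5 D82811) F118476 (iv5 F151309) F151313 (iv5 D82783) D82782 D172930 F271174 (iv5 D82813) F118470 F118465 (iv4 F127532) (iv5 D82787) D82786
def n172946 : Q := act 5 n82788
theorem D172946 : act 5 n82788 = n172946 := rfl
theorem F271182 : act 2 n172946 = n83410 := d2_1 D172946 (iv5 F249338) F249337
def n172953 : Q := act 0 n82791
theorem D172953 : act 0 n82791 = n172953 := rfl
def n172956 : Q := act 5 n82791
theorem D172956 : act 5 n82791 = n172956 := rfl
theorem F271187 : act 3 n172956 = n82792 := d6_1 D172956 (iv5 D82792) D82791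
def n172960 : Q := act 0 n82794
theorem D172960 : act 0 n82794 = n172960 := rfl
def n172961 : Q := act 1 n82794
theorem D172961 : act 1 n82794 = n172961 := rfl
def n172968 : Q := act 3 n82796
theorem D172968 : act 3 n82796 = n172968 := rfl
theorem F271193 : act 4 n172968 = n172808 := d20_6 F42462 D26523 D54827 D119147 (iv1 F187470) D172968 (iv1 F271072) (iv4 D82742) (iv3 F191013) (iv1 D54823)
theorem F271194 : act 0 n98761 = n172968 := d20_10 F271193 (iv1 F271072) (iv4 D82742) (iv3 F191013) (iv1 D54823) (iv3 F86747) F86748 D79294 F192628 D98761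
def n172973 : Q := act 6 n82797
theorem D172973 : act 6 n82797 = n172973 := rfl
theorem F271196 : act 2 n172973 = n82799 := d3_1 D172973 (iv6 D82799) D82797
def n172977 : Q := act 6 n82798
theorem D172977 : act 6 n82798 = n172977 := rfl
def n172983 : Q := act 1 n82801
theorem D172983 : act 1 n82801 = n172983 := rfl
theorem F271199 : act 5 n83861 = n172983 := d21_6 (iv5 D18397) (iv1 D8661) D8662 (iv6 F29562) D38623 D83861 (iv1 D172983) (iv5 F128912) (iv6 D83915) (iv1 F59474)
def n172984 : Q := act 7 n82801
theorem D172984 : act 7 n82801 = n172984 := rfl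
def n172985 : Q := act 3 n82802
theorem D172985 : act 3 n82802 = n172985 := rfl
theorem F271201 : act 5 n172985 = n83051 := d6_2 (iv5 F127538) D172985 (iv3 D83051)
def n172998 : Q := act 3 n82808
theorem D172998 : act 3 n82808 = n172998 := rfl
theorem F271209 : act 6 n172998 = n82942 := d7_2 (iv6 F127545) D172998 (iv3 D82942)
def n172999 : Q := act 4 n82809
theorem D172999 : act 4 n82809 = n172999 := rfl
theorem F271210 : act 2 n172999 = n83445 := d1_1 D172999 F128549 (iv2 F127547)
theorem F271211 : act 6 n172999 = n82944 := d10_2 (iv6 F127548) D172999 (iv4 D82944)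
def n173006 : Q := act 6 n82811
theorem D173006 : act 6 n82811 = n173006 := rfl
def n173023 : Q := act 5 n82816
theorem D173023 : act 5 n82816 = n173023 := rfl
def n173069 : Q := act 6 n82831
theorem D173069 : act 6 n82831 = n173069 := rfl
theorem F271275 : act 4 n173069 = n98828 := d10_1 D173069 (iv6 D98828) F149458
theorem F271277 : act 5 n173069 = n169739 := d21_6 (iv5 F34676) (iv1 F58910) (iv5 D38106) D38107 D82831 D173069 (iv1 D169739) (iv5 D81382) (iv6 D37162) (iv1 F34475)
theorem F271278 : act 0 n158286 = n173069 := d17_0 F271277 (iv1 D169739) (iv5 D81382) F58107 (iv5 F32270) D43104 (iv5 F127589) (iv0 F127590) (iv4 F249372)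
theorem F271279 : act 1 n122510 = n173069 := d15_0 (iv0 F271278) F249373 (iv2 F196049)
def n173079 : Q := act 4 n82837
theorem D173079 : act 4 n82837 = n173079 := rfl
theorem F271306 : act 7 n173079 = n169751 := d11_2 (iv7 F127585) D173079 (iv4 D169751)
def n173083 : Q := act 5 n82841
theorem D173083 : act 5 n82841 = n173083 := rfl
theorem F271313 : act 3 n173083 = n169567 := d6_1 D173083 (iv5 D169567) (iv3 F127598)
def n173084 : Q := act 6 n82841
theorem D173084 : act 6 n82841 = n173084 := rfl
theorem F271315 : act 3 n173084 = n169568 := d7_1 D173084 (iv6 D169568) (iv3 F127598)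
def n173088 : Q := act 6 n82842
theorem D173088 : act 6 n82842 = n173088 := rfl
theorem F271324 : act 2 n173088 = n173084 := d3_1 D173088 (iv6 D173084) F266888
def n173197 : Q := act 6 n82879
theorem D173197 : act 6 n82879 = n173197 := rfl
theorem F271467 : act 2 n173197 = n83312 := d3_1 D173197 (iv6 D83312) (iv2 F127649)
theorem F271468 : act 3 n173197 = n82999 := d7_1 D173197 (iv6 D82999) (iv3 F127646)
def n173198 : Q := act 6 n82880
theorem D173198 : act 6 n82880 = n173198 := rfl
theorem F271469 : act 2 n173198 = n83310 := d3_1 D173198 (iv6 D83310) F127653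
theorem F271470 : act 4 n173198 = n83314 := d10_1 D173198 (iv6 D83314) (iv4 F127651)
def n173199 : Q := act 6 n82881
theorem D173199 : act 6 n82881 = n173199 := rfl
theorem F271471 : act 2 n173199 = n82882 := d3_1 D173199 (iv6 D82882) D82881
theorem F271472 : act 3 n173199 = n152239 := d7_1 D173199 (iv6 D152239) (iv3 F127655)
theorem F271473 : act 4 n173199 = n82886 := d10_1 D173199 (iv6 D82886) (iv4 F127656)
theorem F271474 : act 0 n82886 = n119378 := d20_7 F110274 (iv1 F53178) D33846 D73655 (iv1 F243986) (iv3 F271472) F271473 F188055 (iv3 D73626) (iv1 F110276)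
theorem F271475 : act 0 n173199 = n161964 := d20_7 (iv4 F124247) (iv1 F124250) (iv4 F123350) (iv3 F128230) (iv1 D83170) (iv3 F127673) (iv4 F271473) (iv4 F263014) (iv3 D167017) (iv1 F123130)
theorem F271476 : act 7 n173199 = n161965 := d15_2 D161964 (iv0 F271475) (iv2 D161965)
theorem F271477 : act 5 n84157 = n158328 := d21_6 (iv5 F59263) (iv1 F59264) F58960 D82886 F271474 (iv6 F243934) (iv1 D158328) (iv5 D75484) (iv6 D34541) D34537
theorem F271478 : act 1 n173199 = n161963 := d15_0 (iv0 D161963) F127662 (iv2 F271471)
def n173200 : Q := act 0 n82882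
theorem D173200 : act 0 n82882 = n173200 := rfl
theorem F271479 : act 1 n161965 = n173200 := d15_0 (iv0 D173200) (iv7 F127662) D161965
def n173201 : Q := act 1 n82882
theorem D173201 : act 1 n82882 = n173201 := rfl
theorem F271480 : act 1 n173201 = n161965 := d15_1 D173201 (iv7 F271476) F271471
theorem F271481 : act 4 n161304 = n173201 := d20_6 F119075 (iv1 F60958) F60954 (iv3 F123127) (iv1 F123131) D161304 (iv1 D173201) F127661 F58971 D38134
def n173202 : Q := act 5 n82882
theorem D173202 : act 5 n82882 = n173202 := rfl
def n173204 : Q := act 5 n82885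
theorem D173204 : act 5 n82885 = n173204 := rfl
theorem F271489 : act 2 n173204 = n83355 := d2_1 D173204 (iv5 D83355) (iv2 F127670)
theorem F271490 : act 3 n173204 = n84903 := d6_1 D173204 (iv5 D84903) (iv3 F127671)
theorem F271491 : act 7 n173204 = n84148 := d13_2 (iv7 F155158) D173204 (iv5 D84148)
theorem F271492 : act 1 n158805 = n84148 := d15_1 (iv0 F250010) (iv7 F271491) F271489
def n173205 : Q := act 1 n82886
theorem D173205 : act 1 n82886 = n173205 := rfl
theorem F271493 : act 1 n173205 = n82891 := d15_1 D173205 (iv7 D82891) (iv2 F127672)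
theorem F271494 : act 7 n173205 = n82888 := d15_2 (iv0 F271474) D173205 (iv2 F191349)
theorem F271495 : act 2 n82889 = n173205 := d4_3 F271494 (iv2 F191349) (iv7 F191348)
def n173206 : Q := act 5 n82886
theorem D173206 : act 5 n82886 = n173206 := rfl
theorem F271496 : act 2 n173206 = n82890 := d2_1 D173206 (iv5 D82890) (iv2 F127672)
theorem F271497 : act 3 n173206 = n83171 := d6_1 D173206 (iv5 D83171) (iv3 F127673)
theorem F271498 : act 6 n173206 = n152626 := d12_2 D82886 D173206 (iv5 D152626) (iv6 D72000) F58960
theorem F271499 : act 0 n172819 = n173206 := d21_7 (iv5 F87067) (iv1 D38026) (iv5 D18203) D18204 D38029 D82739 D172819 (iv5 D173206) (iv6 D82886) (iv1 F58959)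
def n173207 : Q := act 7 n82886
theorem D173207 : act 7 n82886 = n173207 := rfl
theorem F271500 : act 2 n173207 = n82891 := d4_1 D173207 (iv7 D82891) (iv2 F127672)
theorem F271501 : act 3 n173207 = n83172 := d8_1 D173207 (iv7 D83172) (iv3 F127673)
theorem F271502 : act 4 n173207 = n161965 := d11_1 D173207 (iv7 F271476) F271473
theorem F271503 : act 6 n173207 = n83365 := d14_1 D173207 (iv7 D83365) (iv6 D38406) (iv7 F58957) D82886
theorem F271504 : act 1 n82889 = n173207 := d15_1 D82889 (iv7 D173207) F127672
theorem F271505 : act 1 n173207 = n82888 := d15_1 F271504 (iv7 F271494) (iv2 F271495)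
def n173208 : Q := act 0 n82887
theorem D173208 : act 0 n82887 = n173208 := rfl
def n173209 : Q := act 1 n82887
theorem D173209 : act 1 n82887 = n173209 := rfl
theorem F271506 : act 1 n173209 = n152627 := d15_1 D173209 (iv7 D152627) (iv2 F127674)
def n173210 : Q := act 5 n82887
theorem D173210 : act 5 n82887 = n173210 := rfl
theorem F271507 : act 2 n173210 = n152626 := d2_1 D173210 (iv5 D152626) (iv2 F127674)
theorem F271508 : act 3 n173210 = n82894 := d6_1 D173210 (iv5 D82894) (iv3 F127675)
theorem F271509 : act 6 n173210 = n82890 := d12_2 D82887 D173210 (iv5 D82890) (iv6 D38132) D38131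
def n173211 : Q := act 7 n82887
theorem D173211 : act 7 n82887 = n173211 := rfl
theorem F271510 : act 2 n173211 = n152627 := d4_1 D173211 (iv7 D152627) (iv2 F127674)
theorem F271511 : act 3 n173211 = n82895 := d8_1 D173211 (iv7 D82895) (iv3 F127675)
theorem F271512 : act 4 n173211 = n158206 := d11_1 D173211 F249214 (iv4 F127676)
theorem F271513 : act 6 n173211 = n83372 := d14_1 D173211 (iv7 D83372) (iv6 D38409) (iv7 F58963) D82887
theorem F271514 : act 1 n152627 = n173208 := d15_0 (iv0 D173208) D173211 F271510
theorem F271515 : act 1 n152625 = n173211 := d15_1 D152625 (iv7 D173211) F127674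
def n173212 : Q := act 3 n82888
theorem D173212 : act 3 n82888 = n173212 := rfl
theorem F271518 : act 4 n173212 = n100755 := d20_6 (iv4 D38144) (iv1 D18236) (iv4 F29407) (iv3 F58971) D82888 D173212 (iv1 F154854) F128606 F59351 (iv1 F118803)
def n173213 : Q := act 5 n82888
theorem D173213 : act 5 n82888 = n173213 := rfl
def n173214 : Q := act 6 n82888
theorem D173214 : act 6 n82888 = n173214 := rfl
theorem F271519 : act 2 n173214 = n84157 := d3_1 D173214 F243934 F191349
def n173215 : Q := act 5 n82889
theorem D173215 : act 5 n82889 = n173215 := rfl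
theorem F271520 : act 3 n173215 = n84920 := d6_1 D173215 (iv5 D84920) (iv3 F191347)
def n173216 : Q := act 6 n82889
theorem D173216 : act 6 n82889 = n173216 := rfl
theorem F271521 : act 3 n173216 = n84921 := d7_1 D173216 (iv6 D84921) (iv3 F191347)
def n173217 : Q := act 0 n82890
theorem D173217 : act 0 n82890 = n173217 := rfl
def n173218 : Q := act 1 n82890
theorem D173218 : act 1 n82890 = n173218 := rfl
theorem F271522 : act 5 n172771 = n173218 := d21_6 F110300 (iv1 D73606) F53182 D38024 D82723 D172771 (iv1 D173218) (iv5 D82890) (iv6 D38132) F58861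
theorem F271523 : act 2 n173218 = n172819 := d2_1 F271522 (iv5 D172819) (iv2 F271035)
def n173219 : Q := act 4 n82890
theorem D173219 : act 4 n82890 = n173219 := rfl
def n173220 : Q := act 7 n82890
theorem D173220 : act 7 n82890 = n173220 := rfl
theorem F271524 : act 3 n173220 = n82904 := d8_1 D173220 (iv7 D82904) (iv3 F127677)
theorem F271525 : act 5 n173220 = n82891 := d13_1 D173220 (iv7 D82891) D82890
theorem F271526 : act 1 n172819 = n173220 := d15_1 (iv0 F271499) (iv7 D173220) (iv2 F271496)
def n173221 : Q := act 0 n82894
theorem D173221 : act 0 n82894 = n173221 := rfl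
def n173222 : Q := act 4 n82894
theorem D173222 : act 4 n82894 = n173222 := rfl
theorem F271527 : act 2 n173222 = n83215 := d1_1 D173222 (iv4 D83215) (iv2 F127682)
theorem F271528 : act 6 n173222 = n82903 := d10_2 (iv6 F127683) D173222 (iv4 D82903)
def n173223 : Q := act 7 n82894
theorem D173223 : act 7 n82894 = n173223 := rfl
theorem F271529 : act 2 n173223 = n83216 := d4_1 D173223 (iv7 D83216) (iv2 F127682)
theorem F271530 : act 5 n173223 = n82895 := d13_1 D173223 (iv7 D82895) D82894
theorem F271531 : act 1 n83216 = n173221 := d15_0 (iv0 D173221) D173223 F271529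
theorem F271532 : act 1 n83214 = n173223 := d15_1 D83214 (iv7 D173223) F127682
theorem F271533 : act 1 n173223 = n83213 := d15_0 (iv0 D83213) D83216 (iv2 F271529)
def n173224 : Q := act 5 n82896
theorem D173224 : act 5 n82896 = n173224 := rfl
theorem F271534 : act 3 n173224 = n82897 := d6_1 D173224 (iv5 D82897) D82896
theorem F271535 : act 7 n173224 = n83230 := d13_2 (iv7 F127691) D173224 (iv5 D83230)
def n173225 : Q := act 4 n82897
theorem D173225 : act 4 n82897 = n173225 := rfl
theorem F271536 : act 2 n173225 = n83225 := d1_1 D173225 (iv4 D83225) (iv2 F127692)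
theorem F271537 : act 7 n173225 = n83234 := d11_2 (iv7 F127693) D173225 (iv4 D83234)
theorem F271538 : act 0 n173225 = n158632 := d18_2 (iv1 F250006) D173225 (iv4 D158632) (iv5 D75670) (iv4 F113527) (iv0 F128368) (iv4 F118486) F113620 (iv5 F250005)
def n173226 : Q := act 0 n82898
theorem D173226 : act 0 n82898 = n173226 := rfl
theorem F271539 : act 1 n83219 = n173226 := d15_0 (iv0 D173226) F127695 D83219
def n173228 : Q := act 2 n82898
theorem D173228 : act 2 n82898 = n173228 := rfl
theorem F271540 : act 3 n173228 = n83228 := d0_2 D82898 D173228 (iv2 D83228) (iv3 D38309) (iv2 F118624)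
theorem F271541 : act 4 n173228 = n120895 := d1_2 (iv4 F127694) D173228 (iv2 D120895)
theorem E24370 : n165099 = n120895 := ((c20_7 (iv4 F189972) (iv1 F42567) (iv4 F86894) (iv3 F188036) (iv1 F188039) (iv3 F271540) F271541 (iv1 D165099) F121917 F59373 D38553)).symm
theorem F271546 : act 0 n120895 = n79327 := (sb E24370 (iv1 D165099))
def n173229 : Q := act 5 n82898
theorem D173229 : act 5 n82898 = n173229 := rfl
theorem F271547 : act 3 n173229 = n82899 := d6_1 D173229 (iv5 D82899) D82898
theorem F271548 : act 7 n173229 = n83221 := d13_2 (iv7 F127695) D173229 (iv5 D83221)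
def n173231 : Q := act 4 n82899
theorem D173231 : act 4 n82899 = n173231 := rfl
theorem F271551 : act 2 n173231 = n83234 := d1_1 D173231 (iv4 D83234) (iv2 F127696)
theorem F271552 : act 7 n173231 = n83225 := d11_2 (iv7 F127697) D173231 (iv4 D83225)
theorem F271553 : act 1 n173231 = n158632 := d18_6 (iv1 F118799) (iv4 F60954) (iv1 F60957) (iv4 F118782) D82899 D173231 (iv4 D158632) (iv0 F118804) (iv5 D38333)
def n173232 : Q := act 6 n82899
theorem D173232 : act 6 n82899 = n173232 := rfl
theorem F271554 : act 2 n173232 = n83235 := d3_1 D173232 (iv6 D83235) (iv2 F127696)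
def n173233 : Q := act 3 n82901
theorem D173233 : act 3 n82901 = n173233 := rfl
theorem F271555 : act 5 n173233 = n158799 := d6_2 (iv5 F127711) D173233 (iv3 D158799)
theorem F271556 : act 7 n173233 = n83244 := d8_2 (iv7 F127710) D173233 (iv3 D83244)
def n173234 : Q := act 6 n82901
theorem D173234 : act 6 n82901 = n173234 := rfl
theorem F271557 : act 2 n173234 = n83243 := d3_1 D173234 (iv6 D83243) (iv2 F127713)
theorem F271558 : act 5 n173234 = n84094 := d12_1 D173234 (iv6 D84094) D84093 (iv6 F129080) (iv5 F127711)
def n173235 : Q := act 3 n82902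
theorem D173235 : act 3 n82902 = n173235 := rfl
theorem F271559 : act 5 n173235 = n98788 := d6_2 F127703 D173235 F152276
theorem F271560 : act 7 n173235 = n83240 := d8_2 F127714 D173235 (iv3 D83240)
def n173236 : Q := act 6 n82902
theorem D173236 : act 6 n82902 = n173236 := rfl
theorem F271562 : act 5 n173236 = n98791 := d12_1 D173236 (iv6 D98791) (iv5 D46210) D46211 F127703
def n173237 : Q := act 0 n82903
theorem D173237 : act 0 n82903 = n173237 := rfl
theorem F271563 : act 4 n173237 = n82952 := d18_3 (iv1 D82902) D82903 D173237 F127840 F122408 (iv0 D34647) (iv4 F54895) (iv0 F128324) F127703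
theorem F271564 : act 2 n83247 = n173237 := d1_3 F271563 F127843 F128359
theorem F271565 : act 7 n83248 = n173237 := d11_0 F271563 (iv7 F127841) (iv4 F128328)
theorem F271566 : act 1 n83251 = n173237 := d18_6 (iv1 F118801) (iv4 D27682) (iv1 F117668) (iv4 F29499) (iv5 F59173) (iv4 F128329) F271563 (iv0 D82952) (iv5 D38178)
def n173238 : Q := act 1 n82903
theorem D173238 : act 1 n82903 = n173238 := rfl
theorem F271567 : act 1 n173238 = n83251 := d15_1 D173238 (iv7 D83251) (iv2 F127705)
theorem F271568 : act 7 n173238 = n83247 := d15_2 (iv0 D173237) D173238 F271564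
theorem F271569 : act 4 n173238 = n82953 := d18_7 (iv1 F118803) (iv4 D38144) (iv1 D18236) (iv4 F29407) D38136 D82903 D173238 F127844 F59356
theorem F271570 : act 2 n83248 = n173238 := d1_3 F271569 F127847 (iv4 F128328)
def n173239 : Q := act 3 n82903
theorem D173239 : act 3 n82903 = n173239 := rfl
def n173240 : Q := act 5 n82903
theorem D173240 : act 5 n82903 = n173240 := rfl
theorem F271571 : act 2 n173240 = n83250 := d2_1 D173240 (iv5 D83250) (iv2 F127705)
theorem F271572 : act 4 n173240 = n83299 := d16_2 D82903 D173240 F128373 F59229 F29505 (iv4 F29499) (iv5 F59173) (iv7 D38316) (iv2 F58975)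
theorem F271573 : act 7 n83297 = n173240 := d11_0 F271572 (iv7 D83299) D83297
def n173241 : Q := act 7 n82903
theorem D173241 : act 7 n82903 = n173241 := rfl
theorem F271574 : act 2 n173241 = n83251 := d4_1 D173241 (iv7 D83251) (iv2 F127705)
theorem F271575 : act 4 n173241 = n82904 := d11_1 D173241 (iv7 D82904) D82903
theorem F271576 : act 5 n173241 = n83297 := d13_1 D173241 F271573 (iv5 D173240)
theorem F271577 : act 1 n83248 = n173241 := d15_1 D83248 (iv7 D173241) F127705
theorem F271578 : act 1 n173241 = n83247 := d15_1 F271577 (iv7 F271568) (iv2 F271570)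
def n173242 : Q := act 6 n82904
theorem D173242 : act 6 n82904 = n173242 := rfl
theorem F271579 : act 2 n173242 = n83252 := d3_1 D173242 (iv6 D83252) (iv2 F127706)
theorem F271580 : act 5 n173242 = n83431 := d12_1 D173242 (iv6 D83431) F59280 (iv6 F58978) (iv5 F127707)
def n173243 : Q := act 0 n82905
theorem D173243 : act 0 n82905 = n173243 := rfl
theorem F271581 : act 1 n83255 = n173243 := d15_0 (iv0 D173243) F127716 D83255
def n173244 : Q := act 1 n82905
theorem D173244 : act 1 n82905 = n173244 := rfl
theorem F271582 : act 1 n173244 = n83255 := d15_1 D173244 (iv7 F188117) F188116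
def n173245 : Q := act 5 n82905
theorem D173245 : act 5 n82905 = n173245 := rfl
theorem F271583 : act 3 n173245 = n82906 := d6_1 D173245 (iv5 D82906) D82905
theorem F271584 : act 7 n173245 = n83256 := d13_2 (iv7 F127716) D173245 (iv5 D83256)
def n173246 : Q := act 6 n82905
theorem D173246 : act 6 n82905 = n173246 := rfl
theorem F271585 : act 3 n173246 = n82907 := d7_1 D173246 (iv6 D82907) D82905
def n173247 : Q := act 4 n82906
theorem D173247 : act 4 n82906 = n173247 := rfl
theorem F271587 : act 2 n173247 = n83267 := d1_1 D173247 (iv4 D83267) (iv2 F127717)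
theorem F271588 : act 7 n173247 = n83259 := d11_2 (iv7 F127718) D173247 (iv4 D83259)
def n173248 : Q := act 6 n82906
theorem D173248 : act 6 n82906 = n173248 := rfl
theorem F271589 : act 2 n173248 = n83268 := d3_1 D173248 (iv6 D83268) (iv2 F127717)
def n173249 : Q := act 3 n82908
theorem D173249 : act 3 n82908 = n173249 := rfl
theorem F271590 : act 7 n173249 = n83264 := d8_2 (iv7 F127725) D173249 (iv3 D83264)
def n173250 : Q := act 5 n82908
theorem D173250 : act 5 n82908 = n173250 := rfl
theorem F271591 : act 2 n173250 = n83273 := d2_1 D173250 (iv5 D83273) (iv2 F127724)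
theorem F271592 : act 7 n173250 = n83265 := d13_2 (iv7 F127725) D173250 (iv5 D83265)
theorem F271593 : act 0 n173250 = n158892 := d17_2 (iv1 F199081) D173250 (iv5 D158892) F113708 (iv5 D40061) (iv0 F119010) D83232 (iv0 F151486) (iv4 F199080)
def n173251 : Q := act 3 n82909
theorem D173251 : act 3 n82909 = n173251 := rfl
theorem F271594 : act 7 n173251 = n83279 := d8_2 (iv7 F127727) D173251 (iv3 D83279)
def n173252 : Q := act 5 n82909
theorem D173252 : act 5 n82909 = n173252 := rfl
theorem F271595 : act 2 n173252 = n83282 := d2_1 D173252 (iv5 D83282) (iv2 F127726)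
theorem F271596 : act 7 n173252 = n83280 := d13_2 (iv7 F127727) D173252 (iv5 D83280)
def n173253 : Q := act 6 n82909
theorem D173253 : act 6 n82909 = n173253 := rfl
theorem F271599 : act 7 n173253 = n172999 := d14_2 (iv7 F127727) D173253 F271211 F127818 F59307
def n173254 : Q := act 3 n82911
theorem D173254 : act 3 n82911 = n173254 := rfl
theorem F271601 : act 4 n173254 = n84531 := d5_2 (iv4 F127738) D173254 (iv3 D84531) D84532 (iv3 F129708)
theorem F271602 : act 7 n173254 = n83286 := d8_2 F127739 D173254 (iv3 D83286)
def n173255 : Q := act 5 n82911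
theorem D173255 : act 5 n82911 = n173255 := rfl
theorem F271603 : act 2 n173255 = n83285 := d2_1 D173255 (iv5 D83285) F127737
theorem F271604 : act 7 n173255 = n83288 := d13_2 F127739 D173255 (iv5 D83288)
theorem F271605 : act 1 n173255 = n158810 := d17_6 F151487 (iv5 D98187) (iv1 F135969) (iv5 D88656) (iv4 F127738) D173255 (iv5 D158810) D158808 F250032
def n173256 : Q := act 3 n82912
theorem D173256 : act 3 n82912 = n173256 := rfl
theorem F271607 : act 7 n173256 = n83284 := d8_2 (iv7 F127736) D173256 (iv3 D83284)
def n173257 : Q := act 5 n82912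
theorem D173257 : act 5 n82912 = n173257 := rfl
theorem F271608 : act 2 n173257 = n83288 := d2_1 D173257 (iv5 D83288) (iv2 F127740)
theorem F271609 : act 7 n173257 = n83285 := d13_2 (iv7 F127736) D173257 (iv5 D83285)
theorem F271610 : act 0 n173257 = n158810 := d17_2 (iv1 F127734) D173257 (iv5 D158810) (iv4 D75768) (iv5 D34649) (iv0 F59605) F58991 F58990 (iv4 F59229)
def n173258 : Q := act 6 n82912
theorem D173258 : act 6 n82912 = n173258 := rfl
theorem F271611 : act 2 n173258 = n83289 := d3_1 D173258 (iv6 D83289) (iv2 F127740)
theorem F271612 : act 4 n173258 = n88657 := d10_1 D173258 (iv6 D88657) F127735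
theorem F271613 : act 0 n158846 = n173258 := d18_2 F113663 (iv4 F250102) F271612 F135972 (iv4 F152308) (iv0 F269630) F269628 (iv0 F126730) F117970
def n173261 : Q := act 2 n82913
theorem D173261 : act 2 n82913 = n173261 := rfl
theorem F271615 : act 3 n173261 = n83292 := d0_2 D82913 D173261 (iv2 D83292) (iv3 D38367) (iv2 F58992)
def n173262 : Q := act 5 n82913
theorem D173262 : act 5 n82913 = n173262 := rfl
theorem F271617 : act 3 n173262 = n82914 := d6_1 D173262 (iv5 D82914) D82913
def n173264 : Q := act 0 n82914
theorem D173264 : act 0 n82914 = n173264 := rfl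
theorem F271620 : act 5 n173264 = n88650 := d17_3 (iv1 D82912) D82914 D173264 (iv4 D88650) (iv5 D41384) (iv0 D19493) D19495 D41392 F127735
theorem F271621 : act 2 n83295 = n173264 := d2_3 F271620 F250033 (iv5 F250035)
theorem F271622 : act 7 n83296 = n173264 := d13_0 F271620 F250016 F250012
theorem F271623 : act 1 n83299 = n173264 := d17_6 (iv1 D58057) (iv5 D27683) (iv1 F117668) (iv5 F29505) (iv4 F59229) (iv5 F128373) F271620 (iv0 F199078) (iv4 D124466)
def n173265 : Q := act 1 n82914
theorem D173265 : act 1 n82914 = n173265 := rfl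
theorem F271624 : act 1 n173265 = n83299 := d15_1 D173265 (iv7 D83299) (iv2 F127743)
theorem F271625 : act 7 n173265 = n83295 := d15_2 (iv0 D173264) D173265 F271621
theorem F271626 : act 5 n173265 = n88652 := d17_7 F117713 (iv5 D38145) (iv1 D18236) D18237 D38149 D82914 D173265 (iv0 F199062) (iv4 D124464)
theorem F271627 : act 2 n83296 = n173265 := d2_3 F271626 F250015 F250012
def n173266 : Q := act 4 n82914
theorem D173266 : act 4 n82914 = n173266 := rfl
theorem F271628 : act 2 n173266 = n83297 := d1_1 D173266 (iv4 D83297) (iv2 F127743)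
theorem F271629 : act 5 n173266 = n83251 := d9_2 D82914 D173266 F128329 F59173 F29499 (iv5 F29505) (iv4 F59229) (iv5 F128373) (iv4 F271572) (iv5 D173240) (iv4 D82903) (iv5 D38136) F29407 D18237 D38149
theorem F271630 : act 7 n83250 = n173266 := d13_0 F271629 (iv7 D83251) D83250
def n173267 : Q := act 6 n82914
theorem D173267 : act 6 n82914 = n173267 := rfl
theorem F271631 : act 2 n173267 = n83298 := d3_1 D173267 (iv6 D83298) (iv2 F127743)
theorem F271632 : act 5 n173267 = n158010 := d12_1 D173267 (iv6 D158010) (iv5 D75267) (iv6 F58993) D82914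
def n173268 : Q := act 7 n82914
theorem D173268 : act 7 n82914 = n173268 := rfl
theorem F271633 : act 2 n173268 = n83299 := d4_1 D173268 (iv7 D83299) (iv2 F127743)
theorem F271634 : act 4 n173268 = n83250 := d11_1 D173268 F271630 (iv4 D173266)
theorem F271635 : act 5 n173268 = n82915 := d13_1 D173268 (iv7 D82915) D82914
theorem F271636 : act 1 n83296 = n173268 := d15_1 D83296 (iv7 D173268) F127743
theorem F271637 : act 1 n173268 = n83295 := d15_1 F271636 (iv7 F271625) (iv2 F271627)
def n173269 : Q := act 6 n82916
theorem D173269 : act 6 n82916 = n173269 := rfl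
theorem F271638 : act 2 n173269 = n83099 := d3_1 D173269 (iv6 D83099) F127752
theorem F271639 : act 4 n173269 = n83624 := d10_1 D173269 (iv6 D83624) (iv4 F127749)
def n173270 : Q := act 6 n82917
theorem D173270 : act 6 n82917 = n173270 := rfl
theorem F271640 : act 2 n173270 = n83098 := d3_1 D173270 (iv6 D83098) F127758
theorem F271641 : act 4 n173270 = n83481 := d10_1 D173270 (iv6 D83481) (iv4 F127757)
def n173271 : Q := act 0 n82918
theorem D173271 : act 0 n82918 = n173271 := rfl
theorem F271642 : act 1 n166212 = n173271 := d15_0 (iv0 D173271) (iv7 F127761) D166212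
theorem F271643 : act 4 n83625 = n173271 := d20_0 (iv1 F271642) F261701 F243913 (iv1 F128484) (iv3 F188763) (iv4 F188765) (iv1 D60193) F46182 (iv3 F59385) D83625
def n173273 : Q := act 5 n82918
theorem D173273 : act 5 n82918 = n173273 := rfl
theorem F271646 : act 6 n173273 = n152411 := d12_2 D82918 D173273 (iv5 D152411) (iv6 D71901) (iv5 F59001)
def n173276 : Q := act 3 n82924
theorem D173276 : act 3 n82924 = n173276 := rfl
theorem F271653 : act 4 n173276 = n82949 := d5_2 D82924 D173276 (iv3 D82949) (iv4 D38174) (iv3 F59005)
theorem F271654 : act 6 n173276 = n84248 := d7_2 (iv6 F127770) D173276 (iv3 D84248)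
def n173277 : Q := act 5 n82924
theorem D173277 : act 5 n82924 = n173277 := rfl
theorem F271657 : act 7 n173277 = n166260 := d13_2 F127773 D173277 F261759
theorem F271659 : act 1 n173277 = n166208 := d17_6 F270294 (iv5 D82921) (iv1 D38154) D38155 D82924 D173277 (iv5 D166208) F194164 (iv4 F270295)
def n173278 : Q := act 2 n82926
theorem D173278 : act 2 n82926 = n173278 := rfl
theorem F271660 : act 7 n82927 = n173278 := d15_2 (iv0 D82926) D82927 (iv2 D173278)
def n173279 : Q := act 4 n82926
theorem D173279 : act 4 n82926 = n173279 := rfl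
theorem F271661 : act 0 n173279 = n128101 := d20_1 D173279 F206178 F128693 (iv1 F188399) F131604 (iv4 D27741) (iv1 F117932) (iv4 F29431) (iv3 F59009) D82926
theorem F271662 : act 0 n128097 = n173279 := d20_7 (iv4 F124189) (iv1 F124192) F259679 D83560 (iv1 F259681) F188146 (iv4 F206175) (iv4 D173279) F131632 (iv1 F123374)
def n173280 : Q := act 5 n82926
theorem D173280 : act 5 n82926 = n173280 := rfl
theorem F271663 : act 3 n173280 = n167238 := d6_1 D173280 (iv5 D167238) (iv3 F131632)
def n173281 : Q := act 6 n82926
theorem D173281 : act 6 n82926 = n173281 := rfl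
theorem F271664 : act 3 n173281 = n167239 := d7_1 D173281 (iv6 D167239) (iv3 F131632)
def n173282 : Q := act 7 n82926
theorem D173282 : act 7 n82926 = n173282 := rfl
theorem F271665 : act 2 n173282 = n82927 := d4_1 D173282 F271660 (iv2 D173278)
theorem F271666 : act 3 n173282 = n167240 := d8_1 D173282 (iv7 D167240) (iv3 F131632)
def n173283 : Q := act 3 n82927
theorem D173283 : act 3 n82927 = n173283 := rfl
theorem F271667 : act 2 n173283 = n167241 := d0_1 D173283 (iv3 D167241) (iv2 F263400) (iv3 F271666) F271665
def n173284 : Q := act 4 n82927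
theorem D173284 : act 4 n82927 = n173284 := rfl
theorem F271668 : act 0 n128101 = n173284 := d20_10 (iv4 D173284) (iv1 D82927) (iv4 F127760) F127759 F117998 (iv3 F51596) (iv4 D32521) F188406 (iv4 F94776) (iv3 F206177)
theorem F271669 : act 3 n153966 = n173284 := d20_5 (iv4 D27080) D27077 D56182 D121648 F241984 (iv4 D173284) (iv1 D82927) (iv4 F127760) F127759 F117998
theorem F271670 : act 4 n173283 = n153965 := d5_4 D153966 F271669 (iv4 D173284) D173283 (iv3 D153965)
theorem F271671 : act 1 n128097 = n173284 := d15_0 (iv0 F271668) (iv7 D128101) (iv2 F206174)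
def n173285 : Q := act 5 n82927
theorem D173285 : act 5 n82927 = n173285 := rfl
def n173286 : Q := act 6 n82927
theorem D173286 : act 6 n82927 = n173286 := rfl
def n173287 : Q := act 0 n82928
theorem D173287 : act 0 n82928 = n173287 := rfl
def n173288 : Q := act 1 n82928
theorem D173288 : act 1 n82928 = n173288 := rfl
theorem F271672 : act 5 n172337 = n173288 := d21_6 (iv5 D26612) D26610 F42622 D37891 D82530 D172337 (iv1 D173288) (iv5 D82928) (iv6 D38157) (iv1 F42625)
def n173289 : Q := act 4 n82928
theorem D173289 : act 4 n82928 = n173289 := rfl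
theorem F271673 : act 6 n173289 = n152633 := d10_2 (iv6 F127779) D173289 (iv4 D152633)
def n173290 : Q := act 7 n82928
theorem D173290 : act 7 n82928 = n173290 := rfl
theorem F271674 : act 3 n173290 = n82941 := d8_1 D173290 (iv7 D82941) (iv3 F127778)
theorem F271675 : act 5 n173290 = n82929 := d13_1 D173290 (iv7 D82929) D82928
theorem F271676 : act 1 n172363 = n173290 := d15_1 (iv0 F270594) (iv7 D173290) (iv2 F243909)
def n173291 : Q := act 0 n82932
theorem D173291 : act 0 n82932 = n173291 := rfl
theorem F271677 : act 5 n173291 = n101824 := d17_3 (iv1 F155452) D82932 D173291 F268290 F268282 (iv0 D46737) (iv5 D22406) D22405 D46734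
theorem F271678 : act 7 n83398 = n173291 := d13_0 F271677 (iv7 F268291) F184678
theorem F271679 : act 1 n83400 = n173291 := d17_6 D47324 F153183 (iv1 F153181) F74293 (iv4 F59276) (iv5 F128510) F271677 (iv0 D101824) F74545
theorem F271680 : act 2 n173291 = n83397 := d15_3 (iv0 D83397) D83398 F271678
theorem F271681 : act 7 n172850 = n83397 := d4_2 (iv7 F271678) (iv2 F271114) (iv2 F271680)
theorem F271682 : act 5 n83397 = n172851 := d13_1 F271681 (iv7 D172851) D172850
def n173292 : Q := act 4 n82932
theorem D173292 : act 4 n82932 = n173292 := rfl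
theorem F271683 : act 2 n173292 = n83399 := d1_1 D173292 (iv4 D83399) (iv2 F127784)
theorem F271684 : act 6 n173292 = n82940 := d10_2 (iv6 F127786) D173292 (iv4 D82940)
def n173293 : Q := act 7 n82932
theorem D173293 : act 7 n82932 = n173293 := rfl
theorem F271685 : act 2 n173293 = n83400 := d4_1 D173293 (iv7 D83400) (iv2 F127784)
theorem F271686 : act 3 n173293 = n152634 := d8_1 D173293 (iv7 D152634) (iv3 F127785)
theorem F271687 : act 5 n173293 = n82933 := d13_1 D173293 (iv7 D82933) D82932
theorem F271688 : act 1 n83398 = n173293 := d15_1 D83398 (iv7 D173293) F127784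
theorem F271689 : act 1 n173293 = n83397 := d15_1 F271688 (iv7 F271681) F271114
def n173296 : Q := act 2 n82934
theorem D173296 : act 2 n82934 = n173296 := rfl
theorem F271694 : act 4 n173296 = n164920 := d1_2 (iv4 F127794) D173296 (iv2 D164920)
theorem F271695 : act 7 n173296 = n83414 := d4_2 (iv7 F127795) D173296 (iv2 D83414)
theorem F271697 : act 1 n83413 = n173296 := d15_1 D83413 F271695 (iv2 D83414)
def n173297 : Q := act 5 n82934
theorem D173297 : act 5 n82934 = n173297 := rfl
theorem F271699 : act 7 n173297 = n83415 := d13_2 (iv7 F127795) D173297 (iv5 D83415)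
def n173298 : Q := act 4 n82935
theorem D173298 : act 4 n82935 = n173298 := rfl
theorem F271700 : act 2 n173298 = n83409 := d1_1 D173298 (iv4 D83409) (iv2 F127796)
theorem F271701 : act 7 n173298 = n83417 := d11_2 (iv7 F127797) D173298 (iv4 D83417)
def n173299 : Q := act 5 n82936
theorem D173299 : act 5 n82936 = n173299 := rfl
theorem F271702 : act 3 n173299 = n82937 := d6_1 D173299 (iv5 D82937) D82936
theorem F271703 : act 7 n173299 = n83404 := d13_2 (iv7 F127798) D173299 (iv5 D83404)
def n173300 : Q := act 4 n82937
theorem D173300 : act 4 n82937 = n173300 := rfl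
theorem F271704 : act 2 n173300 = n83417 := d1_1 D173300 (iv4 D83417) (iv2 F127799)
theorem F271705 : act 7 n173300 = n83409 := d11_2 (iv7 F127800) D173300 (iv4 D83409)
def n173301 : Q := act 6 n82937
theorem D173301 : act 6 n82937 = n173301 := rfl
theorem F271706 : act 2 n173301 = n83418 := d3_1 D173301 (iv6 D83418) (iv2 F127799)
def n173302 : Q := act 3 n82938
theorem D173302 : act 3 n82938 = n173302 := rfl
theorem F271708 : act 7 n173302 = n83423 := d8_2 (iv7 F127809) D173302 (iv3 D83423)
def n173303 : Q := act 6 n82938
theorem D173303 : act 6 n82938 = n173303 := rfl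
theorem F271709 : act 2 n173303 = n83422 := d3_1 D173303 (iv6 D83422) (iv2 F127811)
def n173304 : Q := act 3 n82939
theorem D173304 : act 3 n82939 = n173304 := rfl
theorem F271710 : act 5 n173304 = n98261 := d6_2 F127802 D173304 F151635
theorem F271711 : act 7 n173304 = n83419 := d8_2 F127812 D173304 (iv3 D83419)
theorem F271712 : act 0 n173304 = n84936 := d21_7 F88732 (iv1 D56063) (iv5 F72445) D98180 (iv1 F151626) D98261 (iv5 F271710) (iv5 D84936) (iv6 D39293) (iv1 F59149)
def n173305 : Q := act 6 n82939
theorem D173305 : act 6 n82939 = n173305 := rfl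
theorem F271713 : act 2 n173305 = n83425 := d3_1 D173305 (iv6 D83425) (iv2 F127803)
theorem F271714 : act 5 n173305 = n98263 := d12_1 D173305 (iv6 D98263) (iv5 D45947) D45948 F127802
def n173306 : Q := act 0 n82940
theorem D173306 : act 0 n82940 = n173306 := rfl
theorem F271715 : act 4 n173306 = n82968 := d18_3 (iv1 D82939) D82940 D173306 F127876 F127240 (iv0 F117776) (iv4 F151524) F151528 F127802
theorem F271716 : act 2 n83426 = n173306 := d1_3 F271715 F127878 F128564
theorem F271717 : act 7 n83427 = n173306 := d11_0 F271715 (iv7 F127877) (iv4 F128537)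
theorem F271718 : act 1 n83430 = n173306 := d18_6 F118119 (iv4 D38165) (iv1 F29437) (iv4 F29522) (iv5 F59280) (iv4 F128538) F271715 (iv0 D82968) (iv5 D38186)
def n173307 : Q := act 1 n82940
theorem D173307 : act 1 n82940 = n173307 := rfl
theorem F271719 : act 1 n173307 = n83430 := d15_1 D173307 (iv7 D83430) (iv2 F127804)
theorem F271720 : act 7 n173307 = n83426 := d15_2 (iv0 D173306) D173307 F271716
theorem F271721 : act 4 n173307 = n82969 := d18_7 (iv1 F118117) (iv4 D27741) (iv1 F117932) (iv4 F29431) D38161 D82940 D173307 F127879 F59368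
theorem F271722 : act 2 n83427 = n173307 := d1_3 F271721 F127882 (iv4 F128537)
def n173308 : Q := act 3 n82940
theorem D173308 : act 3 n82940 = n173308 := rfl
def n173309 : Q := act 5 n82940
theorem D173309 : act 5 n82940 = n173309 := rfl
theorem F271723 : act 2 n173309 = n83429 := d2_1 D173309 (iv5 D83429) (iv2 F127804)
theorem F271724 : act 4 n173309 = n83479 := d16_2 D82940 D173309 F128580 F59323 F29528 (iv4 F29522) (iv5 F59280) (iv7 D38431) (iv2 F59014)
theorem F271725 : act 7 n83477 = n173309 := d11_0 F271724 (iv7 D83479) D83477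
def n173310 : Q := act 7 n82940
theorem D173310 : act 7 n82940 = n173310 := rfl
theorem F271726 : act 2 n173310 = n83430 := d4_1 D173310 (iv7 D83430) (iv2 F127804)
theorem F271727 : act 4 n173310 = n82941 := d11_1 D173310 (iv7 D82941) D82940
theorem F271728 : act 5 n173310 = n83477 := d13_1 D173310 F271725 (iv5 D173309)
theorem F271729 : act 1 n83427 = n173310 := d15_1 D83427 (iv7 D173310) F127804
theorem F271730 : act 1 n173310 = n83426 := d15_1 F271729 (iv7 F271720) (iv2 F271722)
def n173311 : Q := act 6 n82941
theorem D173311 : act 6 n82941 = n173311 := rfl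
theorem F271731 : act 2 n173311 = n83431 := d3_1 D173311 (iv6 D83431) (iv2 F127805)
theorem F271732 : act 5 n173311 = n83252 := d12_1 D173311 (iv6 D83252) F59173 (iv6 F59017) (iv5 F127806)
def n173313 : Q := act 1 n82942
theorem D173313 : act 1 n82942 = n173313 := rfl
theorem F271734 : act 1 n173313 = n83449 := d15_1 D173313 (iv7 F187973) F187972
def n173314 : Q := act 5 n82942
theorem D173314 : act 5 n82942 = n173314 := rfl
theorem F271736 : act 7 n173314 = n83450 := d13_2 (iv7 F127814) D173314 (iv5 D83450)
def n173315 : Q := act 4 n82943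
theorem D173315 : act 4 n82943 = n173315 := rfl
theorem F271737 : act 2 n173315 = n83434 := d1_1 D173315 (iv4 D83434) (iv2 F127815)
theorem F271738 : act 7 n173315 = n83452 := d11_2 (iv7 F127816) D173315 (iv4 D83452)
def n173316 : Q := act 6 n82943
theorem D173316 : act 6 n82943 = n173316 := rfl
theorem F271739 : act 2 n173316 = n83435 := d3_1 D173316 (iv6 D83435) (iv2 F127815)
theorem F271740 : act 5 n173316 = n98777 := d12_1 D173316 (iv6 D98777) (iv5 F127546) F127545 D82943
def n173317 : Q := act 3 n82944
theorem D173317 : act 3 n82944 = n173317 := rfl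
theorem F271741 : act 7 n173317 = n83454 := d8_2 (iv7 F127818) D173317 (iv3 D83454)
def n173318 : Q := act 5 n82944
theorem D173318 : act 5 n82944 = n173318 := rfl
theorem F271742 : act 2 n173318 = n83444 := d2_1 D173318 (iv5 D83444) (iv2 F127817)
theorem F271743 : act 7 n173318 = n83455 := d13_2 (iv7 F127818) D173318 (iv5 D83455)
theorem F271744 : act 1 n173318 = n102787 := d17_6 (iv1 F117739) (iv5 D18246) D18244 D38166 D82944 D173318 (iv5 D102787) (iv0 F118514) (iv4 D58246)
def n173319 : Q := act 3 n82945
theorem D173319 : act 3 n82945 = n173319 := rfl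
theorem F271745 : act 7 n173319 = n83461 := d8_2 (iv7 F127820) D173319 (iv3 D83461)
def n173320 : Q := act 5 n82945
theorem D173320 : act 5 n82945 = n173320 := rfl
theorem F271746 : act 2 n173320 = n83457 := d2_1 D173320 (iv5 D83457) (iv2 F127819)
theorem F271747 : act 7 n173320 = n83462 := d13_2 (iv7 F127820) D173320 (iv5 D83462)
def n173321 : Q := act 6 n82945
theorem D173321 : act 6 n82945 = n173321 := rfl
theorem F271749 : act 4 n173321 = n82946 := d10_1 D173321 (iv6 D82946) D82945
def n173322 : Q := act 3 n82947
theorem D173322 : act 3 n82947 = n173322 := rfl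
theorem F271750 : act 4 n173322 = n164952 := d5_2 (iv4 F127825) D173322 (iv3 D164952) (iv4 D79257) F118953
theorem F271751 : act 7 n173322 = n83467 := d8_2 F127826 D173322 (iv3 D83467)
def n173323 : Q := act 5 n82947
theorem D173323 : act 5 n82947 = n173323 := rfl
theorem F271752 : act 2 n173323 = n83465 := d2_1 D173323 (iv5 D83465) (iv2 F127828)
theorem F271753 : act 7 n173323 = n83468 := d13_2 F127826 D173323 (iv5 D83468)
def n173324 : Q := act 6 n82947
theorem D173324 : act 6 n82947 = n173324 := rfl
theorem F271755 : act 4 n173324 = n88748 := d10_1 D173324 (iv6 D88748) (iv4 F127825)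
theorem F271756 : act 0 n84198 = n173324 := d18_2 (iv1 F128350) (iv4 F129248) F271755 (iv5 F136124) F250026 F250142 F250140 F113692 D83275
def n173325 : Q := act 3 n82948
theorem D173325 : act 3 n82948 = n173325 := rfl
theorem F271757 : act 7 n173325 = n83464 := d8_2 (iv7 F127831) D173325 (iv3 D83464)
def n173326 : Q := act 5 n82948
theorem D173326 : act 5 n82948 = n173326 := rfl
theorem F271758 : act 2 n173326 = n83468 := d2_1 D173326 (iv5 D83468) F127833
theorem F271759 : act 7 n173326 = n83465 := d13_2 (iv7 F127831) D173326 (iv5 D83465)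
def n173327 : Q := act 0 n82949
theorem D173327 : act 0 n82949 = n173327 := rfl
def n173328 : Q := act 1 n82949
theorem D173328 : act 1 n82949 = n173328 := rfl
def n173329 : Q := act 2 n82949
theorem D173329 : act 2 n82949 = n173329 := rfl
theorem F271760 : act 3 n173329 = n83472 := d0_2 D82949 D173329 (iv2 D83472) (iv3 D38482) (iv2 F59026)
theorem F271761 : act 6 n173329 = n84258 := d3_2 (iv6 F127834) D173329 (iv2 D84258)
def n173330 : Q := act 5 n82949
theorem D173330 : act 5 n82949 = n173330 := rfl
theorem F271762 : act 3 n173330 = n82950 := d6_1 D173330 (iv5 D82950) D82949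
def n173331 : Q := act 7 n82949
theorem D173331 : act 7 n82949 = n173331 := rfl
theorem F271763 : act 3 n173331 = n82951 := d8_1 D173331 (iv7 D82951) D82949
def n173332 : Q := act 0 n82950
theorem D173332 : act 0 n82950 = n173332 := rfl
theorem F271765 : act 5 n173332 = n88742 := d17_3 (iv1 D82948) D82950 D173332 (iv4 D88742) (iv5 D41429) (iv0 D19512) D19514 D41437 (iv4 F127832)
theorem F271766 : act 7 n83476 = n173332 := d13_0 F271765 F136097 (iv5 F128578)
theorem F271767 : act 1 n83479 = n173332 := d17_6 (iv1 F117927) (iv5 D38166) (iv1 F29437) (iv5 F29528) (iv4 F59323) (iv5 F128580) F271765 (iv0 F199362) (iv4 D124636)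
theorem F271768 : act 2 n173332 = n83475 := d15_3 (iv0 D83475) D83476 F271766
def n173333 : Q := act 1 n82950
theorem D173333 : act 1 n82950 = n173333 := rfl
theorem F271769 : act 1 n173333 = n83479 := d15_1 D173333 (iv7 D83479) (iv2 F127835)
theorem F271770 : act 7 n173333 = n83475 := d15_2 (iv0 D173332) D173333 (iv2 F271768)
theorem F271771 : act 5 n173333 = n88746 := d17_7 (iv1 D58235) (iv5 D27742) (iv1 F117932) D18246 D38174 D82950 D173333 (iv0 F199366) (iv4 D124637)
theorem F271772 : act 2 n83476 = n173333 := d2_3 F271771 F136114 (iv5 F128578)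
def n173334 : Q := act 4 n82950
theorem D173334 : act 4 n82950 = n173334 := rfl
theorem F271773 : act 2 n173334 = n83477 := d1_1 D173334 (iv4 D83477) (iv2 F127835)
theorem F271774 : act 5 n173334 = n83430 := d9_2 D82950 D173334 F128538 F59280 F29522 (iv5 F29528) (iv4 F59323) (iv5 F128580) (iv4 F271724) (iv5 D173309) (iv4 D82940) (iv5 D38161) F29431 D18246 D38174
theorem F271775 : act 7 n83429 = n173334 := d13_0 F271774 (iv7 D83430) D83429
def n173335 : Q := act 6 n82950
theorem D173335 : act 6 n82950 = n173335 := rfl
theorem F271776 : act 2 n173335 = n83478 := d3_1 D173335 (iv6 D83478) (iv2 F127835)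
theorem F271777 : act 5 n173335 = n84260 := d12_1 D173335 (iv6 D84260) (iv5 D38859) (iv6 F59027) D82950
def n173336 : Q := act 7 n82950
theorem D173336 : act 7 n82950 = n173336 := rfl
theorem F271778 : act 2 n173336 = n83479 := d4_1 D173336 (iv7 D83479) (iv2 F127835)
theorem F271779 : act 4 n173336 = n83429 := d11_1 D173336 F271775 (iv4 D173334)
theorem F271780 : act 5 n173336 = n82951 := d13_1 D173336 (iv7 D82951) D82950
theorem F271781 : act 1 n83476 = n173336 := d15_1 D83476 (iv7 D173336) F127835
theorem F271782 : act 1 n173336 = n83475 := d15_1 F271781 (iv7 F271770) (iv2 F271772)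
def n173337 : Q := act 6 n82952
theorem D173337 : act 6 n82952 = n173337 := rfl
theorem F271784 : act 5 n173337 = n83919 := d12_1 D173337 (iv6 D83919) D83918 (iv6 F128919) (iv5 F127840)
def n173338 : Q := act 3 n82953
theorem D173338 : act 3 n82953 = n173338 := rfl
theorem F271785 : act 5 n173338 = n158281 := d6_2 F127846 D173338 F249362
theorem F271786 : act 7 n173338 = n83538 := d8_2 (iv7 F127845) D173338 (iv3 D83538)
def n173339 : Q := act 6 n82953
theorem D173339 : act 6 n82953 = n173339 := rfl
theorem F271787 : act 2 n173339 = n83541 := d3_1 D173339 (iv6 D83541) (iv2 F127847)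
theorem F271788 : act 5 n173339 = n158283 := d12_1 D173339 (iv6 D158283) (iv5 D75430) D75431 F127846
def n173340 : Q := act 3 n82954
theorem D173340 : act 3 n82954 = n173340 := rfl
def n173341 : Q := act 5 n82954
theorem D173341 : act 5 n82954 = n173341 := rfl
theorem F271789 : act 2 n173341 = n83545 := d2_1 D173341 (iv5 D83545) (iv2 F127848)
def n173342 : Q := act 7 n82954
theorem D173342 : act 7 n82954 = n173342 := rfl
theorem F271790 : act 2 n173342 = n83546 := d4_1 D173342 (iv7 D83546) (iv2 F127848)
theorem F271791 : act 4 n173342 = n82955 := d11_1 D173342 (iv7 D82955) D82954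
theorem F271792 : act 1 n83543 = n173342 := d15_1 D83543 (iv7 D173342) F127848
theorem F271793 : act 1 n173342 = n83542 := d15_1 F271792 F128639 F128635
def n173343 : Q := act 6 n82955
theorem D173343 : act 6 n82955 = n173343 := rfl
theorem F271795 : act 5 n173343 = n83591 := d12_1 D173343 (iv6 D83591) F59368 (iv6 F59036) (iv5 F127850)
def n173344 : Q := act 6 n82956
theorem D173344 : act 6 n82956 = n173344 := rfl
theorem F271796 : act 2 n173344 = n83490 := d3_1 D173344 (iv6 D83490) (iv2 F127853)
theorem F271797 : act 4 n173344 = n82957 := d10_1 D173344 (iv6 D82957) D82956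
def n173345 : Q := act 0 n82957
theorem D173345 : act 0 n82957 = n173345 := rfl
def n173346 : Q := act 1 n82957
theorem D173346 : act 1 n82957 = n173346 := rfl
theorem F271798 : act 1 n173346 = n83495 := d15_1 D173346 (iv7 D83495) (iv2 F127857)
def n173347 : Q := act 5 n82957
theorem D173347 : act 5 n82957 = n173347 := rfl
theorem F271799 : act 2 n173347 = n83494 := d2_1 D173347 (iv5 D83494) (iv2 F127857)
theorem F271800 : act 6 n173347 = n154187 := d12_2 D82957 D173347 (iv5 D154187) (iv6 D73047) (iv5 F59040)
def n173348 : Q := act 7 n82957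
theorem D173348 : act 7 n82957 = n173348 := rfl
theorem F271801 : act 2 n173348 = n83495 := d4_1 D173348 (iv7 D83495) (iv2 F127857)
theorem F271802 : act 6 n173348 = n83487 := d14_1 D173348 (iv7 D83487) (iv6 D38490) F59329 D82957
theorem F271803 : act 1 n83495 = n173345 := d15_0 (iv0 D173345) D173348 F271801
def n173349 : Q := act 6 n82958
theorem D173349 : act 6 n82958 = n173349 := rfl
theorem F271806 : act 2 n173349 = n83482 := d3_1 D173349 (iv6 D83482) (iv2 F127858)
theorem F271807 : act 3 n173349 = n124314 := d7_1 D173349 (iv6 D124314) (iv3 F127859)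
theorem F271808 : act 4 n173349 = n82959 := d10_1 D173349 (iv6 D82959) D82958
def n173350 : Q := act 0 n82959
theorem D173350 : act 0 n82959 = n173350 := rfl
def n173351 : Q := act 1 n82959
theorem D173351 : act 1 n82959 = n173351 := rfl
theorem F271809 : act 1 n173351 = n83487 := d15_1 D173351 (iv7 D83487) (iv2 F127863)
def n173352 : Q := act 5 n82959
theorem D173352 : act 5 n82959 = n173352 := rfl
theorem F271810 : act 2 n173352 = n83486 := d2_1 D173352 (iv5 D83486) (iv2 F127863)
theorem F271811 : act 6 n173352 = n161581 := d12_2 D82959 D173352 (iv5 D161581) (iv6 D77609) (iv5 F59334)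
def n173353 : Q := act 7 n82959
theorem D173353 : act 7 n82959 = n173353 := rfl
theorem F271812 : act 2 n173353 = n83487 := d4_1 D173353 (iv7 D83487) (iv2 F127863)
theorem F271813 : act 6 n173353 = n83495 := d14_1 D173353 (iv7 D83495) (iv6 D38494) (iv7 F59335) D82959
theorem F271814 : act 1 n83487 = n173350 := d15_0 (iv0 D173350) D173353 F271812
theorem F271816 : act 1 n173353 = n83484 := d15_0 (iv0 D83484) D83487 (iv2 F271812)
def n173354 : Q := act 2 n82960
theorem D173354 : act 2 n82960 = n173354 := rfl
theorem F271817 : act 7 n82961 = n173354 := d15_2 (iv0 D82960) D82961 (iv2 D173354)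
def n173355 : Q := act 4 n82960
theorem D173355 : act 4 n82960 = n173355 := rfl
def n173356 : Q := act 5 n82960
theorem D173356 : act 5 n82960 = n173356 := rfl
def n173357 : Q := act 6 n82960
theorem D173357 : act 6 n82960 = n173357 := rfl
def n173358 : Q := act 7 n82960
theorem D173358 : act 7 n82960 = n173358 := rfl
theorem F271818 : act 2 n173358 = n82961 := d4_1 D173358 F271817 (iv2 D173354)
def n173359 : Q := act 3 n82961
theorem D173359 : act 3 n82961 = n173359 := rfl
def n173360 : Q := act 4 n82961
theorem D173360 : act 4 n82961 = n173360 := rfl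
def n173361 : Q := act 5 n82961
theorem D173361 : act 5 n82961 = n173361 := rfl
def n173362 : Q := act 6 n82961
theorem D173362 : act 6 n82961 = n173362 := rfl
def n173363 : Q := act 0 n82962
theorem D173363 : act 0 n82962 = n173363 := rfl
def n173364 : Q := act 1 n82962
theorem D173364 : act 1 n82962 = n173364 := rfl
def n173365 : Q := act 4 n82962
theorem D173365 : act 4 n82962 = n173365 := rfl
def n173366 : Q := act 7 n82962
theorem D173366 : act 7 n82962 = n173366 := rfl
theorem F271821 : act 5 n173366 = n82963 := d13_1 D173366 (iv7 D82963) D82962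
def n173367 : Q := act 3 n82964
theorem D173367 : act 3 n82964 = n173367 := rfl
def n173368 : Q := act 5 n82964
theorem D173368 : act 5 n82964 = n173368 := rfl
theorem F271823 : act 2 n173368 = n83571 := d2_1 D173368 (iv5 D83571) (iv2 F156867)
theorem F271824 : act 7 n173368 = n83576 := d13_2 (iv7 F156868) D173368 (iv5 D83576)
def n173369 : Q := act 6 n82964
theorem D173369 : act 6 n82964 = n173369 := rfl
theorem F271825 : act 2 n173369 = n83572 := d3_1 D173369 (iv6 D83572) (iv2 F156867)
theorem F271826 : act 4 n173369 = n99441 := d10_1 D173369 (iv6 D99441) F155501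
theorem F271827 : act 5 n173369 = n158424 := d21_6 F13575 (iv1 F13521) D18250 D38183 D82964 D173369 (iv1 D158424) (iv5 D75561) (iv6 D34568) F27530
theorem F271828 : act 2 n158424 = n83775 := d2_1 F271827 (iv5 F128813) (iv2 F271825)
theorem F271829 : act 7 n83774 = n158424 := d15_2 F249617 F249618 F271828
theorem F271830 : act 7 n158423 = n83775 := d15_2 F249610 F249616 (iv2 F271828)
theorem F271831 : act 2 n83774 = n158423 := d4_3 F271830 (iv2 F271828) (iv7 F271829)
def n173370 : Q := act 5 n82965
theorem D173370 : act 5 n82965 = n173370 := rfl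
theorem F271832 : act 2 n173370 = n83576 := d2_1 D173370 (iv5 D83576) (iv2 F156859)
theorem F271833 : act 7 n173370 = n83571 := d13_2 (iv7 F156860) D173370 (iv5 D83571)
theorem F271834 : act 1 n83576 = n101665 := d15_0 (iv0 F156568) (iv7 F271833) F271832
theorem E24371 : n101664 = n83782 := (c17_9 (iv1 F156732) D47326 (iv1 F155072) (iv5 D47044) F155082 D83576 F271834 (iv5 D101665) D101664 F184684)
theorem F271835 : act 0 n83782 = n47279 := (sb E24371 (iv1 D101664))
def n173371 : Q := act 6 n82965
theorem D173371 : act 6 n82965 = n173371 := rfl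
theorem F271836 : act 2 n173371 = n83577 := d3_1 D173371 (iv6 D83577) (iv2 F156859)
theorem F271837 : act 4 n173371 = n99446 := d10_1 D173371 (iv6 D99446) (iv4 F155525)
def n173372 : Q := act 0 n82966
theorem D173372 : act 0 n82966 = n173372 := rfl
theorem F271838 : act 5 n173372 = n101835 := d17_3 (iv1 D82965) D82966 D173372 (iv4 D101835) F153183 (iv0 D99447) (iv5 D46494) D46493 (iv4 F155525)
theorem F271839 : act 7 n83579 = n173372 := d13_0 F271838 F249552 F249551
theorem F271840 : act 2 n173372 = n83578 := d15_3 (iv0 D83578) D83579 F271839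
def n173373 : Q := act 1 n82966
theorem D173373 : act 1 n82966 = n173373 := rfl
theorem F271841 : act 1 n173373 = n83581 := d15_1 D173373 (iv7 D83581) (iv2 F127868)
theorem F271842 : act 7 n173373 = n83578 := d15_2 (iv0 D173372) D173373 (iv2 F271840)
theorem F271843 : act 5 n83782 = n173373 := d21_6 (iv5 D16732) F12360 (iv5 F13561) D18381 D38602 D83782 (iv1 D173373) (iv5 D82966) (iv6 D38183) F29445
theorem F271844 : act 2 n173373 = n83579 := d2_1 F271843 (iv5 F249551) F249549
theorem F271845 : act 1 n83581 = n173372 := d15_1 F271841 (iv7 F271839) (iv2 F271844)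
theorem E24372 : n101835 = n101663 := ((c21_11 (iv5 F271838) (iv1 F271845) F128657 (iv6 F123111) (iv1 F123113) D83533 (iv5 F156558) (iv1 F156562) (iv5 D47278) D47279 D101663)).symm
theorem F271847 : act 5 n101663 = n173372 := (sb E24372 (iv5 F271838))
theorem F271848 : act 7 n101663 = n158385 := (sb E24372 F249552)
def n173374 : Q := act 4 n82966
theorem D173374 : act 4 n82966 = n173374 := rfl
theorem F271849 : act 2 n173374 = n83580 := d1_1 D173374 (iv4 D83580) (iv2 F127868)
theorem F271850 : act 6 n173374 = n82970 := d10_2 (iv6 F127869) D173374 (iv4 D82970)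
def n173375 : Q := act 7 n82966
theorem D173375 : act 7 n82966 = n173375 := rfl
theorem F271851 : act 2 n173375 = n83581 := d4_1 D173375 (iv7 D83581) (iv2 F127868)
theorem F271852 : act 5 n173375 = n82967 := d13_1 D173375 (iv7 D82967) D82966
theorem F271853 : act 1 n83579 = n173375 := d15_1 D83579 (iv7 D173375) F127868
theorem F271854 : act 1 n173375 = n83578 := d15_1 F271853 (iv7 F271842) F271844
def n173376 : Q := act 3 n82968
theorem D173376 : act 3 n82968 = n173376 := rfl
theorem F271855 : act 5 n173376 = n172567 := d6_2 (iv5 F127876) D173376 F270743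
theorem F271856 : act 7 n173376 = n83584 := d8_2 F127877 D173376 (iv3 D83584)
def n173377 : Q := act 6 n82968
theorem D173377 : act 6 n82968 = n173377 := rfl
theorem F271857 : act 2 n173377 = n83583 := d3_1 D173377 (iv6 D83583) (iv2 F127878)
def n173378 : Q := act 6 n82969
theorem D173378 : act 6 n82969 = n173378 := rfl
theorem F271858 : act 2 n173378 = n83585 := d3_1 D173378 (iv6 D83585) (iv2 F127882)
theorem F271859 : act 5 n173378 = n122468 := d12_1 D173378 (iv6 D122468) (iv5 D56791) D56792 F127881
def n173379 : Q := act 3 n82970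
theorem D173379 : act 3 n82970 = n173379 := rfl
def n173380 : Q := act 5 n82970
theorem D173380 : act 5 n82970 = n173380 := rfl
theorem F271860 : act 2 n173380 = n83589 := d2_1 D173380 (iv5 D83589) (iv2 F127884)
def n173381 : Q := act 7 n82970
theorem D173381 : act 7 n82970 = n173381 := rfl
theorem F271861 : act 2 n173381 = n83590 := d4_1 D173381 (iv7 D83590) (iv2 F127884)
theorem F271862 : act 4 n173381 = n82971 := d11_1 D173381 (iv7 D82971) D82970
theorem F271863 : act 1 n83587 = n173381 := d15_1 D83587 (iv7 D173381) F127884
theorem F271864 : act 1 n173381 = n83586 := d15_1 F271863 F128665 F128661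
def n173382 : Q := act 6 n82971
theorem D173382 : act 6 n82971 = n173382 := rfl
theorem F271865 : act 2 n173382 = n83591 := d3_1 D173382 (iv6 D83591) (iv2 F127885)
theorem F271866 : act 5 n173382 = n83547 := d12_1 D173382 (iv6 D83547) F59356 (iv6 F59049) (iv5 F127886)
def n173383 : Q := act 6 n82972
theorem D173383 : act 6 n82972 = n173383 := rfl
theorem F271867 : act 2 n173383 = n82974 := d3_1 D173383 (iv6 D82974) D82972
theorem F271868 : act 3 n173383 = n172612 := d7_1 D173383 (iv6 D172612) (iv3 F127889)
theorem F271869 : act 4 n173383 = n96181 := d10_1 D173383 (iv6 D96181) (iv4 F127890)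
def n173385 : Q := act 0 n82974
theorem D173385 : act 0 n82974 = n173385 := rfl
def n173386 : Q := act 1 n82974
theorem D173386 : act 1 n82974 = n173386 := rfl
def n173387 : Q := act 5 n82974
theorem D173387 : act 5 n82974 = n173387 := rfl
theorem F271872 : act 3 n173387 = n82980 := d6_1 D173387 (iv5 D82980) (iv3 F127897)
def n173388 : Q := act 7 n82974
theorem D173388 : act 7 n82974 = n173388 := rfl
theorem F271873 : act 3 n173388 = n82981 := d8_1 D173388 (iv7 D82981) (iv3 F127897)
def n173389 : Q := act 6 n82975
theorem D173389 : act 6 n82975 = n173389 := rfl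
def n173390 : Q := act 0 n82976
theorem D173390 : act 0 n82976 = n173390 := rfl
def n173391 : Q := act 1 n82976
theorem D173391 : act 1 n82976 = n173391 := rfl
def n173392 : Q := act 5 n82976
theorem D173392 : act 5 n82976 = n173392 := rfl
def n173393 : Q := act 7 n82976
theorem D173393 : act 7 n82976 = n173393 := rfl
theorem F271874 : act 4 n173393 = n82981 := d11_1 D173393 (iv7 D82981) (iv4 F127898)
def n173396 : Q := act 5 n82977
theorem D173396 : act 5 n82977 = n173396 := rfl
theorem F271875 : act 6 n173396 = n82980 := d12_2 D82977 D173396 (iv5 D82980) (iv6 D38192) D38191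
def n173398 : Q := act 2 n82978
theorem D173398 : act 2 n82978 = n173398 := rfl
def n173399 : Q := act 3 n82978
theorem D173399 : act 3 n82978 = n173399 := rfl
def n173400 : Q := act 4 n82978
theorem D173400 : act 4 n82978 = n173400 := rfl
def n173401 : Q := act 5 n82978
theorem D173401 : act 5 n82978 = n173401 := rfl
def n173402 : Q := act 6 n82978
theorem D173402 : act 6 n82978 = n173402 := rfl
def n173403 : Q := act 7 n82978
theorem D173403 : act 7 n82978 = n173403 := rfl
def n173408 : Q := act 0 n82980
theorem D173408 : act 0 n82980 = n173408 := rfl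
def n173409 : Q := act 1 n82980
theorem D173409 : act 1 n82980 = n173409 := rfl
def n173410 : Q := act 4 n82980
theorem D173410 : act 4 n82980 = n173410 := rfl
def n173411 : Q := act 7 n82980
theorem D173411 : act 7 n82980 = n173411 := rfl
theorem F271878 : act 5 n173411 = n82981 := d13_1 D173411 (iv7 D82981) D82980
def n173412 : Q := act 6 n82982
theorem D173412 : act 6 n82982 = n173412 := rfl
theorem F271879 : act 2 n173412 = n83314 := d3_1 D173412 (iv6 D83314) F127901
theorem F271880 : act 3 n173412 = n83593 := d7_1 D173412 (iv6 D83593) (iv3 F127903)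
theorem F271881 : act 4 n173412 = n83310 := d10_1 D173412 (iv6 D83310) (iv4 F127900)
def n173413 : Q := act 6 n82983
theorem D173413 : act 6 n82983 = n173413 := rfl
theorem F271882 : act 2 n173413 = n82984 := d3_1 D173413 (iv6 D82984) D82983
theorem F271883 : act 4 n173413 = n155077 := d10_1 D173413 (iv6 D155077) (iv4 F127904)
def n173414 : Q := act 0 n82984
theorem D173414 : act 0 n82984 = n173414 := rfl
def n173415 : Q := act 1 n82984
theorem D173415 : act 1 n82984 = n173415 := rfl
def n173416 : Q := act 5 n82984
theorem D173416 : act 5 n82984 = n173416 := rfl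
theorem F271884 : act 3 n173416 = n82990 := d6_1 D173416 (iv5 D82990) (iv3 F127908)
theorem F271885 : act 6 n173416 = n172609 := d12_2 D82984 D173416 (iv5 D172609) (iv6 D82635) (iv5 F113261)
def n173417 : Q := act 7 n82984
theorem D173417 : act 7 n82984 = n173417 := rfl
theorem F271886 : act 3 n173417 = n82991 := d8_1 D173417 (iv7 D82991) (iv3 F127908)
theorem F271887 : act 4 n173417 = n172784 := d11_1 D173417 (iv7 D172784) (iv4 F127909)
def n173418 : Q := act 6 n82985
theorem D173418 : act 6 n82985 = n173418 := rfl
def n173419 : Q := act 0 n82986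
theorem D173419 : act 0 n82986 = n173419 := rfl
def n173420 : Q := act 1 n82986
theorem D173420 : act 1 n82986 = n173420 := rfl
def n173421 : Q := act 5 n82986
theorem D173421 : act 5 n82986 = n173421 := rfl
def n173422 : Q := act 7 n82986
theorem D173422 : act 7 n82986 = n173422 := rfl
def n173423 : Q := act 0 n82987
theorem D173423 : act 0 n82987 = n173423 := rfl
def n173424 : Q := act 1 n82987
theorem D173424 : act 1 n82987 = n173424 := rfl
def n173425 : Q := act 5 n82987
theorem D173425 : act 5 n82987 = n173425 := rfl
theorem F271889 : act 3 n173425 = n172609 := d6_1 D173425 (iv5 D172609) (iv3 F127911)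
theorem F271890 : act 6 n173425 = n82990 := d12_2 D82987 D173425 (iv5 D82990) (iv6 D38197) D38196
def n173426 : Q := act 7 n82987
theorem D173426 : act 7 n82987 = n173426 := rfl
theorem F271891 : act 3 n173426 = n172610 := d8_1 D173426 (iv7 D172610) (iv3 F127911)
def n173427 : Q := act 2 n82988
theorem D173427 : act 2 n82988 = n173427 := rfl
theorem F271892 : act 7 n82989 = n173427 := d15_2 (iv0 D82988) D82989 (iv2 D173427)
def n173432 : Q := act 7 n82988
theorem D173432 : act 7 n82988 = n173432 := rfl
theorem F271893 : act 2 n173432 = n82989 := d4_1 D173432 F271892 (iv2 D173427)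
def n173433 : Q := act 3 n82989
theorem D173433 : act 3 n82989 = n173433 := rfl
def n173434 : Q := act 4 n82989
theorem D173434 : act 4 n82989 = n173434 := rfl
def n173435 : Q := act 5 n82989
theorem D173435 : act 5 n82989 = n173435 := rfl
def n173436 : Q := act 6 n82989
theorem D173436 : act 6 n82989 = n173436 := rfl
def n173437 : Q := act 0 n82990
theorem D173437 : act 0 n82990 = n173437 := rfl
def n173438 : Q := act 1 n82990
theorem D173438 : act 1 n82990 = n173438 := rfl
def n173439 : Q := act 4 n82990
theorem D173439 : act 4 n82990 = n173439 := rfl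
def n173440 : Q := act 7 n82990
theorem D173440 : act 7 n82990 = n173440 := rfl
theorem F271894 : act 5 n173440 = n82991 := d13_1 D173440 (iv7 D82991) D82990
def n173441 : Q := act 0 n82992
theorem D173441 : act 0 n82992 = n173441 := rfl
def n173442 : Q := act 1 n82992
theorem D173442 : act 1 n82992 = n173442 := rfl
def n173443 : Q := act 5 n82992
theorem D173443 : act 5 n82992 = n173443 := rfl
theorem F271896 : act 2 n173443 = n83002 := d2_1 D173443 (iv5 D83002) (iv2 F127912)
theorem F271897 : act 3 n173443 = n83649 := d6_1 D173443 (iv5 D83649) (iv3 F127913)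
theorem F271898 : act 6 n173443 = n82995 := d12_2 D82992 D173443 (iv5 D82995) (iv6 D38199) D38198
def n173444 : Q := act 7 n82992
theorem D173444 : act 7 n82992 = n173444 := rfl
theorem F271900 : act 3 n173444 = n83650 := d8_1 D173444 (iv7 D83650) (iv3 F127913)
theorem F271901 : act 6 n173444 = n101609 := d14_1 D173444 (iv7 D101609) (iv6 D47265) (iv7 F59058) D82992
def n173445 : Q := act 2 n82993
theorem D173445 : act 2 n82993 = n173445 := rfl
def n173446 : Q := act 3 n82993
theorem D173446 : act 3 n82993 = n173446 := rfl
theorem F271906 : act 4 n173446 = n158318 := d20_6 (iv4 D39321) (iv1 D18650) (iv4 F29547) (iv3 F59062) D82993 D173446 (iv1 F249451) (iv4 D84147) D84146 F131854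
def n173447 : Q := act 4 n82993
theorem D173447 : act 4 n82993 = n173447 := rfl
theorem F271907 : act 3 n173447 = n161572 := d20_9 F198466 (iv1 F128806) (iv4 F198134) (iv3 D123688) (iv1 D57661) (iv3 F90367) F90368 D82993 D173447 (iv1 F255568)
def n173448 : Q := act 5 n82993
theorem D173448 : act 5 n82993 = n173448 := rfl
def n173449 : Q := act 6 n82993
theorem D173449 : act 6 n82993 = n173449 := rfl
def n173450 : Q := act 7 n82993
theorem D173450 : act 7 n82993 = n173450 := rfl
def n173451 : Q := act 3 n82994
theorem D173451 : act 3 n82994 = n173451 := rfl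
theorem F271910 : act 4 n173451 = n96191 := d20_6 (iv4 D8667) (iv1 F13531) (iv4 F29457) (iv3 F59067) (iv1 F127914) D173451 (iv1 D96191) F70570 F59151 (iv1 F59686)
def n173452 : Q := act 4 n82994
theorem D173452 : act 4 n82994 = n173452 := rfl
def n173453 : Q := act 5 n82994
theorem D173453 : act 5 n82994 = n173453 := rfl
def n173454 : Q := act 6 n82994
theorem D173454 : act 6 n82994 = n173454 := rfl
def n173455 : Q := act 0 n82995
theorem D173455 : act 0 n82995 = n173455 := rfl
def n173456 : Q := act 1 n82995
theorem D173456 : act 1 n82995 = n173456 := rfl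
theorem F271911 : act 1 n173456 = n83017 := d15_1 D173456 (iv7 D83017) (iv2 F127915)
def n173457 : Q := act 4 n82995
theorem D173457 : act 4 n82995 = n173457 := rfl
theorem F271912 : act 2 n173457 = n83016 := d1_1 D173457 (iv4 D83016) (iv2 F127915)
def n173458 : Q := act 7 n82995
theorem D173458 : act 7 n82995 = n173458 := rfl
theorem F271913 : act 2 n173458 = n83017 := d4_1 D173458 (iv7 D83017) (iv2 F127915)
theorem F271914 : act 3 n173458 = n83663 := d8_1 D173458 (iv7 D83663) (iv3 F127916)
theorem F271915 : act 5 n173458 = n82996 := d13_1 D173458 (iv7 D82996) D82995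
theorem F271916 : act 1 n83017 = n173455 := d15_0 (iv0 D173455) D173458 F271913
theorem F271918 : act 1 n173458 = n83014 := d15_0 (iv0 D83014) D83017 (iv2 F271913)
def n173459 : Q := act 6 n82997
theorem D173459 : act 6 n82997 = n173459 := rfl
theorem F271919 : act 3 n173459 = n82998 := d7_1 D173459 (iv6 D82998) D82997
def n173460 : Q := act 0 n82998
theorem D173460 : act 0 n82998 = n173460 := rfl
def n173461 : Q := act 1 n82998
theorem D173461 : act 1 n82998 = n173461 := rfl
theorem F271920 : act 1 n173461 = n101605 := d15_1 D173461 (iv7 D101605) (iv2 F127926)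
def n173462 : Q := act 5 n82998
theorem D173462 : act 5 n82998 = n173462 := rfl
theorem F271921 : act 2 n173462 = n101604 := d2_1 D173462 (iv5 D101604) (iv2 F127926)
def n173463 : Q := act 7 n82998
theorem D173463 : act 7 n82998 = n173463 := rfl
theorem F271922 : act 2 n173463 = n101605 := d4_1 D173463 (iv7 D101605) (iv2 F127926)
theorem F271925 : act 1 n101605 = n173460 := d15_0 (iv0 D173460) D173463 F271922
def n173464 : Q := act 0 n82999
theorem D173464 : act 0 n82999 = n173464 := rfl
def n173465 : Q := act 1 n82999
theorem D173465 : act 1 n82999 = n173465 := rfl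
def n173466 : Q := act 5 n82999
theorem D173466 : act 5 n82999 = n173466 := rfl
theorem F271929 : act 2 n173466 = n101598 := d2_1 D173466 (iv5 D101598) (iv2 F127928)
def n173467 : Q := act 7 n82999
theorem D173467 : act 7 n82999 = n173467 := rfl
theorem F271930 : act 2 n173467 = n101599 := d4_1 D173467 (iv7 D101599) (iv2 F127928)
theorem F271933 : act 1 n101599 = n173464 := d15_0 (iv0 D173464) D173467 F271930
def n173478 : Q := act 0 n83002
theorem D173478 : act 0 n83002 = n173478 := rfl
def n173479 : Q := act 1 n83002
theorem D173479 : act 1 n83002 = n173479 := rfl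
def n173480 : Q := act 4 n83002
theorem D173480 : act 4 n83002 = n173480 := rfl
theorem F271938 : act 6 n173480 = n83016 := d10_2 (iv6 F127931) D173480 (iv4 D83016)
def n173481 : Q := act 7 n83002
theorem D173481 : act 7 n83002 = n173481 := rfl
theorem F271939 : act 3 n173481 = n83031 := d8_1 D173481 (iv7 D83031) (iv3 F127930)
theorem F271940 : act 5 n173481 = n83003 := d13_1 D173481 (iv7 D83003) D83002
def n173482 : Q := act 0 n83004
theorem D173482 : act 0 n83004 = n173482 := rfl
theorem F271941 : act 1 n83009 = n173482 := d15_0 (iv0 D173482) (iv7 F127934) (iv2 F127935)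
def n173484 : Q := act 3 n83004
theorem D173484 : act 3 n83004 = n173484 := rfl
theorem F271943 : act 7 n173484 = n83010 := d8_2 F127934 D173484 (iv3 D83010)
def n173485 : Q := act 4 n83004
theorem D173485 : act 4 n83004 = n173485 := rfl
theorem F271944 : act 2 n173485 = n83006 := d1_1 D173485 (iv4 D83006) D83004
theorem F271945 : act 7 n173485 = n83011 := d11_2 F127934 D173485 (iv4 D83011)
theorem F271946 : act 1 n124077 = n83011 := d15_1 (iv0 F198481) (iv7 F271945) F271944
def n173486 : Q := act 5 n83004
theorem D173486 : act 5 n83004 = n173486 := rfl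
theorem F271947 : act 2 n173486 = n83007 := d2_1 D173486 (iv5 D83007) D83004
theorem F271948 : act 7 n173486 = n83012 := d13_2 F127934 D173486 (iv5 D83012)
def n173487 : Q := act 6 n83004
theorem D173487 : act 6 n83004 = n173487 := rfl
theorem F271949 : act 2 n173487 = n83008 := d3_1 D173487 (iv6 D83008) D83004
def n173488 : Q := act 0 n83005
theorem D173488 : act 0 n83005 = n173488 := rfl
def n173489 : Q := act 1 n83005
theorem D173489 : act 1 n83005 = n173489 := rfl
def n173491 : Q := act 5 n83005
theorem D173491 : act 5 n83005 = n173491 := rfl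
theorem F271950 : act 3 n173491 = n83007 := d6_1 D173491 (iv5 D83007) D83005
def n173492 : Q := act 6 n83005
theorem D173492 : act 6 n83005 = n173492 := rfl
theorem F271951 : act 3 n173492 = n83008 := d7_1 D173492 (iv6 D83008) D83005
def n173493 : Q := act 7 n83005
theorem D173493 : act 7 n83005 = n173493 := rfl
theorem F271952 : act 3 n173493 = n83009 := d8_1 D173493 (iv7 D83009) D83005
def n173494 : Q := act 0 n83006
theorem D173494 : act 0 n83006 = n173494 := rfl
def n173495 : Q := act 5 n83006
theorem D173495 : act 5 n83006 = n173495 := rfl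
def n173496 : Q := act 6 n83006
theorem D173496 : act 6 n83006 = n173496 := rfl
theorem F271953 : act 4 n173496 = n83008 := d10_1 D173496 (iv6 D83008) D83006
def n173497 : Q := act 7 n83006
theorem D173497 : act 7 n83006 = n173497 := rfl
theorem F271954 : act 2 n173497 = n83011 := d4_1 D173497 (iv7 F271945) F271944
theorem F271955 : act 4 n173497 = n83009 := d11_1 D173497 (iv7 D83009) D83006
theorem F271956 : act 1 n83011 = n173494 := d15_0 (iv0 D173494) D173497 F271954
def n173498 : Q := act 0 n83007
theorem D173498 : act 0 n83007 = n173498 := rfl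
def n173499 : Q := act 1 n83007
theorem D173499 : act 1 n83007 = n173499 := rfl
theorem F271957 : act 1 n173499 = n83012 := d15_1 D173499 (iv7 F271948) F271947
def n173500 : Q := act 4 n83007
theorem D173500 : act 4 n83007 = n173500 := rfl
def n173501 : Q := act 6 n83007
theorem D173501 : act 6 n83007 = n173501 := rfl
def n173502 : Q := act 7 n83007
theorem D173502 : act 7 n83007 = n173502 := rfl
theorem F271958 : act 2 n173502 = n83012 := d4_1 D173502 (iv7 F271948) F271947
theorem F271959 : act 5 n173502 = n83009 := d13_1 D173502 (iv7 D83009) D83007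
theorem F271960 : act 1 n83012 = n173498 := d15_0 (iv0 D173498) D173502 F271958
def n173503 : Q := act 0 n83008
theorem D173503 : act 0 n83008 = n173503 := rfl
def n173504 : Q := act 1 n83008
theorem D173504 : act 1 n83008 = n173504 := rfl
def n173506 : Q := act 7 n83008
theorem D173506 : act 7 n83008 = n173506 := rfl
def n173507 : Q := act 6 n83009
theorem D173507 : act 6 n83009 = n173507 := rfl
theorem F271963 : act 2 n173507 = n83013 := d3_1 D173507 (iv6 D83013) (iv2 F127935)
def n173508 : Q := act 0 n83010
theorem D173508 : act 0 n83010 = n173508 := rfl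
def n173509 : Q := act 1 n83010
theorem D173509 : act 1 n83010 = n173509 := rfl
def n173510 : Q := act 2 n83010
theorem D173510 : act 2 n83010 = n173510 := rfl
def n173511 : Q := act 4 n83010
theorem D173511 : act 4 n83010 = n173511 := rfl
theorem F271964 : act 0 n173511 = n119654 := d20_7 (iv4 D18655) (iv1 F29923) (iv4 F59391) (iv3 F127918) (iv1 F127920) D83010 D173511 F188733 F127671 (iv1 F155154)
theorem F271965 : act 0 n158321 = n173511 := d20_1 (iv4 F249449) (iv4 D173511) (iv3 D83010) (iv1 D38204) F29451 F13526 D8614 D18264 D38231 D83067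
def n173512 : Q := act 5 n83010
theorem D173512 : act 5 n83010 = n173512 := rfl
theorem F271966 : act 3 n173512 = n83012 := d6_1 D173512 (iv5 D83012) D83010
def n173513 : Q := act 6 n83010
theorem D173513 : act 6 n83010 = n173513 := rfl
theorem F271967 : act 3 n173513 = n83013 := d7_1 D173513 (iv6 D83013) D83010
def n173514 : Q := act 5 n83011
theorem D173514 : act 5 n83011 = n173514 := rfl
def n173515 : Q := act 6 n83011
theorem D173515 : act 6 n83011 = n173515 := rfl
theorem F271968 : act 4 n173515 = n83013 := d10_1 D173515 (iv6 D83013) D83011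
def n173516 : Q := act 4 n83012
theorem D173516 : act 4 n83012 = n173516 := rfl
def n173517 : Q := act 6 n83012
theorem D173517 : act 6 n83012 = n173517 := rfl
def n173518 : Q := act 0 n83013
theorem D173518 : act 0 n83013 = n173518 := rfl
def n173519 : Q := act 1 n83013
theorem D173519 : act 1 n83013 = n173519 := rfl
def n173520 : Q := act 5 n83013
theorem D173520 : act 5 n83013 = n173520 := rfl
def n173521 : Q := act 7 n83013
theorem D173521 : act 7 n83013 = n173521 := rfl
def n173522 : Q := act 2 n83014
theorem D173522 : act 2 n83014 = n173522 := rfl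
def n173523 : Q := act 3 n83014
theorem D173523 : act 3 n83014 = n173523 := rfl
def n173524 : Q := act 4 n83014
theorem D173524 : act 4 n83014 = n173524 := rfl
def n173525 : Q := act 5 n83014
theorem D173525 : act 5 n83014 = n173525 := rfl
def n173526 : Q := act 6 n83014
theorem D173526 : act 6 n83014 = n173526 := rfl
def n173527 : Q := act 7 n83014
theorem D173527 : act 7 n83014 = n173527 := rfl
def n173534 : Q := act 3 n83016
theorem D173534 : act 3 n83016 = n173534 := rfl
theorem F271971 : act 4 n173534 = n83059 := d5_2 D83016 D173534 (iv3 D83059) (iv4 D38222) (iv3 F59066)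
def n173536 : Q := act 7 n83016
theorem D173536 : act 7 n83016 = n173536 := rfl
theorem F271972 : act 4 n173536 = n83017 := d11_1 D173536 (iv7 D83017) D83016
def n173537 : Q := act 6 n83017
theorem D173537 : act 6 n83017 = n173537 := rfl
theorem F271973 : act 3 n173537 = n83060 := d7_1 D173537 (iv6 D83060) (iv3 F127936)
def n173541 : Q := act 4 n83018
theorem D173541 : act 4 n83018 = n173541 := rfl
theorem F271977 : act 2 n173541 = n83020 := d1_1 D173541 (iv4 D83020) D83018
theorem F271978 : act 7 n173541 = n83025 := d11_2 F127938 D173541 (iv4 D83025)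
def n173542 : Q := act 5 n83018
theorem D173542 : act 5 n83018 = n173542 := rfl
theorem F271979 : act 2 n173542 = n83021 := d2_1 D173542 (iv5 D83021) D83018
theorem F271980 : act 7 n173542 = n83026 := d13_2 F127938 D173542 (iv5 D83026)
def n173543 : Q := act 6 n83018
theorem D173543 : act 6 n83018 = n173543 := rfl
theorem F271981 : act 2 n173543 = n83022 := d3_1 D173543 (iv6 D83022) D83018
def n173548 : Q := act 5 n83019
theorem D173548 : act 5 n83019 = n173548 := rfl
theorem F271982 : act 3 n173548 = n83021 := d6_1 D173548 (iv5 D83021) D83019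
def n173549 : Q := act 6 n83019
theorem D173549 : act 6 n83019 = n173549 := rfl
theorem F271983 : act 3 n173549 = n83022 := d7_1 D173549 (iv6 D83022) D83019
def n173550 : Q := act 7 n83019
theorem D173550 : act 7 n83019 = n173550 := rfl
def n173551 : Q := act 0 n83020
theorem D173551 : act 0 n83020 = n173551 := rfl
def n173554 : Q := act 5 n83020
theorem D173554 : act 5 n83020 = n173554 := rfl
def n173555 : Q := act 6 n83020
theorem D173555 : act 6 n83020 = n173555 := rfl
theorem F271986 : act 4 n173555 = n83022 := d10_1 D173555 (iv6 D83022) D83020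
def n173556 : Q := act 7 n83020
theorem D173556 : act 7 n83020 = n173556 := rfl
theorem F271987 : act 2 n173556 = n83025 := d4_1 D173556 (iv7 F271978) F271977
theorem F271989 : act 1 n83025 = n173551 := d15_0 (iv0 D173551) D173556 F271987
def n173557 : Q := act 0 n83021
theorem D173557 : act 0 n83021 = n173557 := rfl
theorem F271990 : act 5 n173557 = n173371 := d17_3 D38207 D83021 D173557 F271837 (iv5 F156850) (iv0 D101908) (iv5 D47348) (iv0 D22749) (iv4 F29453)
theorem F271991 : act 2 n83832 = n173557 := d2_3 F271990 F271836 (iv5 F128861)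
theorem F271992 : act 7 n83833 = n173557 := d15_2 (iv0 D83832) D83833 (iv2 F271991)
def n173558 : Q := act 1 n83021
theorem D173558 : act 1 n83021 = n173558 := rfl
theorem F271993 : act 1 n173558 = n83026 := d15_1 D173558 (iv7 F271980) F271979
theorem F271994 : act 7 n173558 = n83832 := d15_2 (iv0 D173557) D173558 F271991
theorem F271995 : act 2 n83833 = n173558 := d4_3 F271994 F271991 (iv7 F271992)
theorem F271996 : act 1 n83026 = n173557 := d15_1 F271993 (iv7 F271992) F271995
def n173559 : Q := act 4 n83021
theorem D173559 : act 4 n83021 = n173559 := rfl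
def n173560 : Q := act 6 n83021
theorem D173560 : act 6 n83021 = n173560 := rfl
def n173561 : Q := act 7 n83021
theorem D173561 : act 7 n83021 = n173561 := rfl
def n173562 : Q := act 0 n83022
theorem D173562 : act 0 n83022 = n173562 := rfl
def n173563 : Q := act 1 n83022
theorem D173563 : act 1 n83022 = n173563 := rfl
theorem F272000 : act 6 n101663 = n173563 := d21_3 D82966 D173372 (iv5 F271847) (iv1 D173563) (iv6 D83022) D83021 D173557 F271990 (iv6 D173371) (iv1 D82965)
theorem F272001 : act 7 n173563 = n83787 := d14_2 (iv7 F271848) F272000 (iv6 D83787) (iv7 F184699) D158385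
theorem E24373 : n173562 = n158387 := ((c15_4 (iv0 D173562) D173563 F272001 (iv2 F249555))).symm
theorem F272002 : act 1 n158387 = n83022 := (sb E24373 (iv0 D173562))
def n173564 : Q := act 7 n83022
theorem D173564 : act 7 n83022 = n173564 := rfl
def n173570 : Q := act 5 n83024
theorem D173570 : act 5 n83024 = n173570 := rfl
theorem F272004 : act 3 n173570 = n83026 := d6_1 D173570 (iv5 D83026) D83024
def n173571 : Q := act 6 n83024
theorem D173571 : act 6 n83024 = n173571 := rfl
theorem F272005 : act 3 n173571 = n83027 := d7_1 D173571 (iv6 D83027) D83024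
def n173572 : Q := act 3 n83025
theorem D173572 : act 3 n83025 = n173572 := rfl
def n173573 : Q := act 5 n83025
theorem D173573 : act 5 n83025 = n173573 := rfl
def n173574 : Q := act 6 n83025
theorem D173574 : act 6 n83025 = n173574 := rfl
theorem F272006 : act 4 n173574 = n83027 := d10_1 D173574 (iv6 D83027) D83025
def n173575 : Q := act 4 n83026
theorem D173575 : act 4 n83026 = n173575 := rfl
def n173576 : Q := act 6 n83026
theorem D173576 : act 6 n83026 = n173576 := rfl
theorem F272007 : act 0 n83919 = n173576 := d21_4 (iv5 F127538) (iv1 F128918) (iv5 D83918) D83919 (iv6 D173576) (iv5 D83026) (iv1 D38208) D38209 F59070 D38220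
def n173577 : Q := act 0 n83027
theorem D173577 : act 0 n83027 = n173577 := rfl
theorem F272008 : act 5 n173577 = n83534 := d21_0 (iv1 F262993) F262985 F123111 (iv1 F127867) D173371 (iv5 F271990) (iv1 F271996) (iv5 D83026) D83027 D173577
theorem F272009 : act 0 n173574 = n100505 := d17_0 (iv5 D100505) (iv1 F153026) F153023 (iv4 F123110) (iv5 F262985) F262993 (iv5 F272008) (iv0 D173577) (iv4 F272006)
theorem F272010 : act 2 n83853 = n173577 := d2_3 F272008 (iv2 F262991) (iv5 F262989)
theorem F272011 : act 7 n83768 = n173577 := d13_0 F272008 F262992 (iv5 F262979)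
theorem F272012 : act 4 n101144 = n173577 := d17_4 (iv1 D22656) D22657 D47112 D101144 F272008 (iv0 D83534) (iv5 D38505) D38504 F155362
theorem F272013 : act 6 n173577 = n101649 := d21_3 D38505 D83534 (iv5 F272008) (iv1 D101649) (iv6 D47274) D47273 D101643 F156558 (iv6 D83533) (iv1 D38504)
theorem F272014 : act 1 n83027 = n158419 := d15_1 (iv0 D173577) F262990 F272010
def n173578 : Q := act 5 n83027
theorem D173578 : act 5 n83027 = n173578 := rfl
theorem F272015 : act 0 n173578 = n167001 := d21_7 (iv5 D101670) (iv1 F128881) (iv5 D83873) (iv6 D38627) (iv1 F59068) D83027 D173578 (iv5 D167001) D167002 (iv1 F262977)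
theorem E24374 : n101926 = n89129 := ((c17_10 (iv1 D101926) D101927 F156914 (iv5 D99500) F155408 D167001 (iv0 F272015) (iv5 D173578) F272014 F249601)).symm
theorem F272016 : act 0 n89129 = n47354 := (sb E24374 (iv1 D101926))
theorem F272017 : act 0 n166998 = n173578 := d21_1 D166998 (iv5 D173578) (iv6 D83027) (iv1 D38208) (iv6 D18257) (iv5 D8612) D8609 F28669 D36514 D80167
def n173579 : Q := act 7 n83027
theorem D173579 : act 7 n83027 = n173579 := rfl
def n173580 : Q := act 2 n83028
theorem D173580 : act 2 n83028 = n173580 := rfl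
theorem F272018 : act 7 n83029 = n173580 := d15_2 (iv0 D83028) D83029 (iv2 D173580)
theorem F272019 : act 5 n173580 = n158523 := d13_1 F272018 (iv7 D158523) F127941
def n173581 : Q := act 3 n83028
theorem D173581 : act 3 n83028 = n173581 := rfl
def n173582 : Q := act 4 n83028
theorem D173582 : act 4 n83028 = n173582 := rfl
def n173583 : Q := act 5 n83028
theorem D173583 : act 5 n83028 = n173583 := rfl
theorem F272020 : act 2 n173583 = n158523 := d2_1 D173583 (iv5 F272019) (iv2 D173580)
theorem F272021 : act 1 n173583 = n83577 := d17_8 D100948 F155078 (iv1 F128844) F128841 F59430 (iv5 F59438) F127946 D173583 F155080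
theorem E24375 : n158521 = n83577 := ((c15_1 F272021 (iv0 D158521) D158523 (iv2 F272020))).symm
theorem F272022 : act 1 n83577 = n75618 := (sb E24375 (iv0 D158521))
theorem F272023 : act 7 n158522 = n173371 := d15_2 F272022 D158522 F271836
theorem F272024 : act 5 n83833 = n158522 := d13_3 F272023 (iv5 F271990) (iv7 F271992)
theorem F272025 : act 7 n158508 = n173583 := d4_0 F272020 (iv7 D158523) (iv2 F249699)
theorem F272026 : act 6 n173583 = n158536 := d14_1 F272025 (iv7 D158536) (iv6 D75623) F113463 D158508
theorem F272027 : act 1 n158522 = n173583 := d15_1 D158522 (iv7 F272025) F249699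
theorem F272028 : act 0 n158536 = n166999 := d21_4 D38209 D83028 D173583 F272026 (iv6 D166999) D166998 F272017 (iv5 D173578) (iv6 D83027) (iv1 D38208)
theorem F272029 : act 1 n158524 = n166999 := d15_0 (iv0 F272028) (iv7 D158536) (iv2 F249708)
def n173584 : Q := act 6 n83028
theorem D173584 : act 6 n83028 = n173584 := rfl
def n173585 : Q := act 7 n83028
theorem D173585 : act 7 n83028 = n173585 := rfl
theorem F272030 : act 2 n173585 = n83029 := d4_1 D173585 F272018 (iv2 D173580)
theorem F272031 : act 5 n173585 = n158508 := d13_1 D173585 F272025 (iv5 D173583)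
def n173586 : Q := act 3 n83029
theorem D173586 : act 3 n83029 = n173586 := rfl
theorem F272032 : act 5 n173586 = n158514 := d6_2 F127941 D173586 F249701
def n173587 : Q := act 4 n83029
theorem D173587 : act 4 n83029 = n173587 := rfl
def n173588 : Q := act 6 n83029
theorem D173588 : act 6 n83029 = n173588 := rfl
theorem F272033 : act 5 n173588 = n158519 := d12_1 D173588 (iv6 D158519) (iv5 D75617) D75618 F127941
def n173589 : Q := act 0 n83030
theorem D173589 : act 0 n83030 = n173589 := rfl
def n173590 : Q := act 1 n83030
theorem D173590 : act 1 n83030 = n173590 := rfl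
theorem F272034 : act 1 n173590 = n83871 := d15_1 D173590 (iv7 D83871) (iv2 F127942)
def n173591 : Q := act 3 n83030
theorem D173591 : act 3 n83030 = n173591 := rfl
theorem F272035 : act 6 n173591 = n83059 := d7_2 (iv6 F127943) D173591 (iv3 D83059)
def n173592 : Q := act 5 n83030
theorem D173592 : act 5 n83030 = n173592 := rfl
theorem F272036 : act 2 n173592 = n83870 := d2_1 D173592 (iv5 D83870) (iv2 F127942)
def n173593 : Q := act 7 n83030
theorem D173593 : act 7 n83030 = n173593 := rfl
theorem F272037 : act 2 n173593 = n83871 := d4_1 D173593 (iv7 D83871) (iv2 F127942)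
theorem F272038 : act 4 n173593 = n83031 := d11_1 D173593 (iv7 D83031) D83030
theorem F272039 : act 1 n83871 = n173589 := d15_0 (iv0 D173589) D173593 F272037
theorem F272040 : act 1 n83868 = n173593 := d15_1 D83868 (iv7 D173593) F127942
theorem F272041 : act 1 n173593 = n83867 := d15_0 (iv0 D83867) D83871 (iv2 F272037)
def n173594 : Q := act 6 n83031
theorem D173594 : act 6 n83031 = n173594 := rfl
theorem F272042 : act 2 n173594 = n83872 := d3_1 D173594 (iv6 D83872) (iv2 F127944)
theorem F272043 : act 5 n173594 = n101682 := d12_1 D173594 (iv6 D101682) F74519 (iv6 F59073) (iv5 F127945)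
theorem F272044 : act 7 n173594 = n83060 := d14_2 D83031 D173594 (iv6 D83060) (iv7 D38223) (iv6 F59070)
theorem F272045 : act 1 n84004 = n173594 := d15_1 D84004 F272044 F128008
theorem F272046 : act 1 n173594 = n84003 := d15_0 (iv0 D84003) (iv7 F128877) (iv2 F272042)
def n173595 : Q := act 2 n83032
theorem D173595 : act 2 n83032 = n173595 := rfl
theorem F272047 : act 7 n83033 = n173595 := d15_2 (iv0 D83032) D83033 (iv2 D173595)
def n173596 : Q := act 3 n83032
theorem D173596 : act 3 n83032 = n173596 := rfl
theorem F272048 : act 4 n173596 = n84125 := d20_6 (iv4 F32909) F59750 F30441 D38212 D83032 D173596 (iv1 D84125) F59676 (iv3 D18441) F59687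
def n173597 : Q := act 4 n83032
theorem D173597 : act 4 n83032 = n173597 := rfl
def n173598 : Q := act 5 n83032
theorem D173598 : act 5 n83032 = n173598 := rfl
def n173600 : Q := act 7 n83032
theorem D173600 : act 7 n83032 = n173600 := rfl
def n173601 : Q := act 3 n83033
theorem D173601 : act 3 n83033 = n173601 := rfl
def n173602 : Q := act 4 n83033
theorem D173602 : act 4 n83033 = n173602 := rfl
theorem F272050 : act 0 n173602 = n85060 := d20_1 D173602 F130414 (iv3 D39343) D39341 D85072 F130423 (iv1 F155176) F155178 F127978 (iv1 F127953)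
theorem F272051 : act 0 n83656 = n173601 := d20_4 F60598 F131875 (iv4 D83657) D83656 (iv3 D173601) D173602 F272050 F130414 (iv3 D39343) D39341
theorem F272052 : act 1 n83708 = n173601 := d15_0 (iv0 F272051) F201104 D83708
def n173603 : Q := act 5 n83033
theorem D173603 : act 5 n83033 = n173603 := rfl
def n173605 : Q := act 5 n83034
theorem D173605 : act 5 n83034 = n173605 := rfl
theorem F272053 : act 2 n173605 = n83035 := d2_1 D173605 (iv5 D83035) D83034
theorem F272055 : act 7 n173605 = n83941 := d13_2 (iv7 F127951) D173605 (iv5 D83941)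
def n173607 : Q := act 0 n83035
theorem D173607 : act 0 n83035 = n173607 := rfl
theorem F272061 : act 1 n83941 = n173607 := d15_0 (iv0 D173607) F127956 (iv2 F128935)
def n173608 : Q := act 1 n83035
theorem D173608 : act 1 n83035 = n173608 := rfl
theorem F272062 : act 1 n173608 = n83941 := d15_1 D173608 (iv7 F272055) F272053
def n173609 : Q := act 4 n83035
theorem D173609 : act 4 n83035 = n173609 := rfl
theorem F272063 : act 7 n173609 = n83949 := d11_2 (iv7 F127956) D173609 (iv4 D83949)
def n173613 : Q := act 7 n83036
theorem D173613 : act 7 n83036 = n173613 := rfl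
theorem F272066 : act 3 n173613 = n83041 := d8_1 D173613 (iv7 D83041) (iv3 F127957)
theorem F272067 : act 4 n173613 = n86689 := d11_1 D173613 F132942 F132925
theorem F272069 : act 6 n173613 = n83954 := d14_1 D173613 (iv7 D83954) (iv6 D38665) (iv7 F61152) D83036
def n173614 : Q := act 3 n83037
theorem D173614 : act 3 n83037 = n173614 := rfl
theorem F272070 : act 5 n173614 = n118606 := d6_2 (iv5 F127959) D173614 F186551
theorem F272071 : act 7 n173614 = n83720 := d8_2 F127962 D173614 F243982
theorem F272072 : act 2 n173614 = n83719 := d15_3 (iv0 D83719) D83720 (iv7 F272071)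
theorem F272073 : act 0 n83653 = n173614 := d17_2 D38566 D83653 F272070 F186552 (iv5 F92252) (iv0 F92254) (iv5 D39317) (iv0 D18649) (iv4 F29547)
theorem F272074 : act 1 n83658 = n173614 := d15_0 (iv0 F272073) F201099 (iv2 F201107)
def n173615 : Q := act 4 n83037
theorem D173615 : act 4 n83037 = n173615 := rfl
theorem F272077 : act 5 n173615 = n158588 := d16_1 D173615 (iv4 D158588) F113494 F59306 (iv5 F54884) D75729 (iv5 F127965) F127964 F127961
theorem F272078 : act 0 n173615 = n83084 := d17_0 (iv5 F249185) (iv1 F249188) F113545 (iv4 D38222) (iv5 D18260) D18259 D38218 F127960 D173615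
theorem F272079 : act 1 n173615 = n83073 := d18_6 (iv1 F113589) (iv4 D34646) F117908 (iv4 F89880) (iv5 F127959) D173615 (iv4 D83073) D83072 F128041
def n173616 : Q := act 6 n83037
theorem D173616 : act 6 n83037 = n173616 := rfl
theorem F272080 : act 2 n173616 = n83915 := d3_1 D173616 (iv6 D83915) F127961
theorem F272081 : act 5 n173616 = n122498 := d12_1 D173616 (iv6 D122498) (iv5 D56852) D56853 (iv5 F127959)
def n173617 : Q := act 3 n83038
theorem D173617 : act 3 n83038 = n173617 := rfl
theorem F272082 : act 5 n173617 = n158756 := d6_2 (iv5 F127965) D173617 (iv3 D158756)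
theorem F272083 : act 7 n173617 = n83913 := d8_2 (iv7 F127964) D173617 (iv3 D83913)
def n173618 : Q := act 4 n83038
theorem D173618 : act 4 n83038 = n173618 := rfl
theorem F272085 : act 5 n173618 = n158590 := d9_2 (iv5 F127965) D173618 (iv4 D158590) (iv5 F113511) F59476 F117906 (iv4 F89880) (iv5 F127959) D173615 F272077 (iv4 D158588) F113494 F59306 (iv5 F54884) D75729
theorem F272086 : act 7 n173618 = n83914 := d11_2 (iv7 F127964) D173618 (iv4 D83914)
theorem F272087 : act 0 n173618 = n83073 := d17_0 (iv5 F129089) F129090 F112963 F59488 F29567 F29458 D38213 D83038 D173618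
theorem F272088 : act 1 n173618 = n83084 := d18_6 (iv1 F113069) (iv4 D34629) D34627 D75729 (iv5 F127965) D173618 (iv4 D83084) F128036 F128035
def n173619 : Q := act 6 n83038
theorem D173619 : act 6 n83038 = n173619 := rfl
theorem F272089 : act 2 n173619 = n83919 := d3_1 D173619 (iv6 D83919) F127966
theorem F272090 : act 5 n173619 = n83539 := d12_1 D173619 (iv6 D83539) (iv5 F128358) F128356 (iv5 F127965)
theorem F272091 : act 0 n173619 = n83852 := d21_4 D38677 F113624 (iv5 F127965) D173619 (iv6 D83852) (iv5 D38621) (iv1 D18385) D18386 F29562 D18399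
def n173620 : Q := act 3 n83039
theorem D173620 : act 3 n83039 = n173620 := rfl
theorem F272092 : act 7 n173620 = n83955 := d8_2 (iv7 F127968) D173620 (iv3 D83955)
def n173622 : Q := act 0 n83040
theorem D173622 : act 0 n83040 = n173622 := rfl
def n173623 : Q := act 1 n83040
theorem D173623 : act 1 n83040 = n173623 := rfl
theorem F272095 : act 1 n173623 = n83927 := d15_1 D173623 (iv7 D83927) (iv2 F127969)
def n173624 : Q := act 7 n83040
theorem D173624 : act 7 n83040 = n173624 := rfl
theorem F272096 : act 2 n173624 = n83927 := d4_1 D173624 (iv7 D83927) (iv2 F127969)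
theorem F272097 : act 5 n173624 = n158654 := d13_1 D173624 (iv7 D158654) (iv5 F127970)
theorem F272098 : act 6 n173624 = n83960 := d14_1 D173624 (iv7 D83960) (iv6 D38669) (iv7 F61154) D83040
theorem F272099 : act 1 n83927 = n173622 := d15_0 (iv0 D173622) D173624 F272096
theorem F272100 : act 1 n83925 = n173624 := d15_1 D83925 (iv7 D173624) F127969
theorem F272101 : act 1 n173624 = n83924 := d15_0 (iv0 D83924) D83927 (iv2 F272096)
def n173625 : Q := act 2 n83042
theorem D173625 : act 2 n83042 = n173625 := rfl
theorem F272102 : act 7 n83043 = n173625 := d15_2 (iv0 D83042) D83043 (iv2 D173625)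
def n173626 : Q := act 3 n83042
theorem D173626 : act 3 n83042 = n173626 := rfl
theorem F272103 : act 4 n173626 = n84044 := d20_6 (iv4 F59690) (iv1 F59774) (iv4 D38217) D38216 D83042 D173626 (iv1 D84044) F59504 (iv3 D18422) D18420
def n173627 : Q := act 4 n83042
theorem D173627 : act 4 n83042 = n173627 := rfl
def n173628 : Q := act 5 n83042
theorem D173628 : act 5 n83042 = n173628 := rfl
def n173630 : Q := act 7 n83042
theorem D173630 : act 7 n83042 = n173630 := rfl
theorem F272104 : act 2 n173630 = n83043 := d4_1 D173630 F272102 (iv2 D173625)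
def n173631 : Q := act 3 n83043
theorem D173631 : act 3 n83043 = n173631 := rfl
def n173632 : Q := act 4 n83043
theorem D173632 : act 4 n83043 = n173632 := rfl
theorem F272105 : act 3 n173632 = n125104 := d20_3 (iv4 D83897) (iv1 F127981) D173632 (iv1 F200985) F131687 F60583 F155112 (iv4 F74499) (iv3 F136810) (iv1 F155433)
theorem F272106 : act 0 n87394 = n173632 := d20_10 (iv4 D173632) (iv1 D83043) (iv4 F125793) (iv3 D81840) (iv1 D37459) (iv3 F34398) (iv4 F72308) (iv1 F233172) (iv4 D87395) D87394
def n173633 : Q := act 5 n83043
theorem D173633 : act 5 n83043 = n173633 := rfl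
def n173634 : Q := act 6 n83043
theorem D173634 : act 6 n83043 = n173634 := rfl
def n173635 : Q := act 5 n83044
theorem D173635 : act 5 n83044 = n173635 := rfl
theorem F272107 : act 2 n173635 = n83045 := d2_1 D173635 (iv5 D83045) D83044
theorem F272108 : act 3 n173635 = n83941 := d6_1 D173635 (iv5 D83941) (iv3 F127978)
theorem F272109 : act 7 n173635 = n83898 := d13_2 (iv7 F127979) D173635 (iv5 D83898)
theorem F272110 : act 1 n83905 = n173635 := d15_1 D83905 F272109 F128891
theorem F272111 : act 1 n173635 = n83904 := d15_0 (iv0 D83904) (iv7 F127984) (iv2 F272107)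
def n173636 : Q := act 6 n83044
theorem D173636 : act 6 n83044 = n173636 := rfl
theorem F272112 : act 2 n173636 = n83046 := d3_1 D173636 (iv6 D83046) D83044
def n173637 : Q := act 0 n83045
theorem D173637 : act 0 n83045 = n173637 := rfl
theorem F272114 : act 1 n83898 = n173637 := d15_0 (iv0 D173637) F127984 (iv2 F128891)
def n173638 : Q := act 1 n83045
theorem D173638 : act 1 n83045 = n173638 := rfl
theorem F272115 : act 1 n173638 = n83898 := d15_1 D173638 (iv7 F272109) F272107
def n173639 : Q := act 4 n83045
theorem D173639 : act 4 n83045 = n173639 := rfl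
theorem F272116 : act 7 n173639 = n83906 := d11_2 (iv7 F127984) D173639 (iv4 D83906)
def n173640 : Q := act 6 n83045
theorem D173640 : act 6 n83045 = n173640 := rfl
theorem F272117 : act 3 n173640 = n83048 := d7_1 D173640 (iv6 D83048) (iv3 F127983)
def n173641 : Q := act 0 n83046
theorem D173641 : act 0 n83046 = n173641 := rfl
def n173642 : Q := act 1 n83046
theorem D173642 : act 1 n83046 = n173642 := rfl
def n173643 : Q := act 5 n83046
theorem D173643 : act 5 n83046 = n173643 := rfl
theorem F272118 : act 3 n173643 = n83049 := d6_1 D173643 (iv5 D83049) (iv3 F127985)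
theorem F272119 : act 7 n170679 = n173643 := d8_0 F272118 (iv7 F127992) D170679
def n173644 : Q := act 7 n83046
theorem D173644 : act 7 n83046 = n173644 := rfl
theorem F272121 : act 5 n173644 = n170679 := d13_1 D173644 F272119 (iv5 D173643)
theorem F272122 : act 6 n173644 = n83911 := d14_1 D173644 (iv7 D83911) (iv6 D38642) (iv7 F61158) D83046
def n173646 : Q := act 6 n83047
theorem D173646 : act 6 n83047 = n173646 := rfl
theorem F272124 : act 2 n173646 = n83956 := d3_1 D173646 (iv6 D83956) (iv2 F127986)
theorem F272125 : act 4 n173646 = n83048 := d10_1 D173646 (iv6 D83048) D83047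
def n173647 : Q := act 0 n83048
theorem D173647 : act 0 n83048 = n173647 := rfl
def n173648 : Q := act 1 n83048
theorem D173648 : act 1 n83048 = n173648 := rfl
theorem F272126 : act 1 n173648 = n83960 := d15_1 D173648 (iv7 D83960) (iv2 F127988)
theorem F272127 : act 6 n83833 = n173648 := d21_3 D173583 (iv1 F272027) (iv5 F272024) (iv1 D173648) (iv6 D83048) (iv5 D38218) (iv1 D18259) D18260 (iv6 F59070) D83028
def n173649 : Q := act 5 n83048
theorem D173649 : act 5 n83048 = n173649 := rfl
theorem F272128 : act 2 n173649 = n83959 := d2_1 D173649 (iv5 D83959) (iv2 F127988)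
theorem F272129 : act 6 n173649 = n83049 := d12_2 D83048 D173649 (iv5 D83049) (iv6 D38219) D38218
def n173650 : Q := act 7 n83048
theorem D173650 : act 7 n83048 = n173650 := rfl
theorem F272130 : act 2 n173650 = n83960 := d4_1 D173650 (iv7 D83960) (iv2 F127988)
theorem F272131 : act 6 n173650 = n83927 := d14_1 D173650 (iv7 D83927) (iv6 D38653) (iv7 F61160) D83048
theorem F272132 : act 1 n83960 = n173647 := d15_0 (iv0 D173647) D173650 F272130
theorem F272133 : act 1 n83958 = n173650 := d15_1 D83958 (iv7 D173650) F127988
theorem F272134 : act 1 n173650 = n83957 := d15_0 (iv0 D83957) D83960 (iv2 F272130)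
def n173651 : Q := act 0 n83051
theorem D173651 : act 0 n83051 = n173651 := rfl
theorem F272135 : act 1 n83980 = n173651 := d15_0 (iv0 D173651) F127998 D83980
def n173652 : Q := act 1 n83051
theorem D173652 : act 1 n83051 = n173652 := rfl
def n173653 : Q := act 2 n83051
theorem D173653 : act 2 n83051 = n173653 := rfl
theorem F272136 : act 3 n173653 = n83966 := d0_2 D83051 D173653 (iv2 D83966) (iv3 D38675) (iv2 F114045)
theorem F272137 : act 7 n173653 = n83980 := d4_2 (iv7 F127998) D173653 (iv2 D83980)
theorem F272138 : act 1 n173653 = n83978 := d15_0 (iv0 D83978) (iv7 F127998) D173653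
theorem F272139 : act 1 n173652 = n83980 := d15_1 D173652 (iv7 F272137) (iv2 D173653)
def n173654 : Q := act 4 n83051
theorem D173654 : act 4 n83051 = n173654 := rfl
theorem F272141 : act 7 n173654 = n83981 := d11_2 (iv7 F127998) D173654 (iv4 D83981)
def n173655 : Q := act 6 n83051
theorem D173655 : act 6 n83051 = n173655 := rfl
theorem F272142 : act 3 n173655 = n83053 := d7_1 D173655 (iv6 D83053) D83051
def n173656 : Q := act 3 n83052
theorem D173656 : act 3 n83052 = n173656 := rfl
theorem F272143 : act 7 n173656 = n83984 := d8_2 (iv7 F128000) D173656 (iv3 D83984)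
def n173657 : Q := act 6 n83052
theorem D173657 : act 6 n83052 = n173657 := rfl
theorem F272144 : act 2 n173657 = n83973 := d3_1 D173657 (iv6 D83973) (iv2 F127999)
theorem F272145 : act 4 n173657 = n83053 := d10_1 D173657 (iv6 D83053) D83052
def n173658 : Q := act 0 n83053
theorem D173658 : act 0 n83053 = n173658 := rfl
def n173659 : Q := act 1 n83053
theorem D173659 : act 1 n83053 = n173659 := rfl
theorem F272146 : act 1 n173659 = n83977 := d15_1 D173659 (iv7 D83977) (iv2 F128001)
def n173660 : Q := act 5 n83053
theorem D173660 : act 5 n83053 = n173660 := rfl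
theorem F272147 : act 2 n173660 = n83976 := d2_1 D173660 (iv5 D83976) (iv2 F128001)
theorem F272148 : act 6 n173660 = n83433 := d12_2 D83053 D173660 (iv5 F195952) (iv6 F195950) F127538
def n173661 : Q := act 7 n83053
theorem D173661 : act 7 n83053 = n173661 := rfl
theorem F272149 : act 2 n173661 = n83977 := d4_1 D173661 (iv7 D83977) (iv2 F128001)
theorem F272150 : act 6 n173661 = n83989 := d14_1 D173661 (iv7 D83989) (iv6 D38683) (iv7 F114046) D83053
theorem F272151 : act 1 n83977 = n173658 := d15_0 (iv0 D173658) D173661 F272149
theorem F272152 : act 1 n83975 = n173661 := d15_1 D83975 (iv7 D173661) F128001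
theorem F272153 : act 1 n173661 = n83974 := d15_0 (iv0 D83974) D83977 (iv2 F272149)
def n173662 : Q := act 0 n83054
theorem D173662 : act 0 n83054 = n173662 := rfl
theorem F272154 : act 1 n83966 = n173662 := d15_0 (iv0 D173662) F128002 D83966
def n173663 : Q := act 1 n83054
theorem D173663 : act 1 n83054 = n173663 := rfl
def n173664 : Q := act 2 n83054
theorem D173664 : act 2 n83054 = n173664 := rfl
theorem F272155 : act 3 n173664 = n83980 := d0_2 D83054 D173664 (iv2 D83980) (iv3 D38680) (iv2 F114043)
theorem F272156 : act 7 n173664 = n83966 := d4_2 (iv7 F128002) D173664 (iv2 D83966)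
theorem F272157 : act 1 n173664 = n83964 := d15_0 (iv0 D83964) (iv7 F128002) D173664
theorem F272158 : act 1 n173663 = n83966 := d15_1 D173663 (iv7 F272156) (iv2 D173664)
def n173665 : Q := act 4 n83054
theorem D173665 : act 4 n83054 = n173665 := rfl
theorem F272160 : act 7 n173665 = n83967 := d11_2 (iv7 F128002) D173665 (iv4 D83967)
def n173666 : Q := act 6 n83054
theorem D173666 : act 6 n83054 = n173666 := rfl
def n173668 : Q := act 6 n83055
theorem D173668 : act 6 n83055 = n173668 := rfl
theorem F272164 : act 4 n173668 = n83056 := d10_1 D173668 (iv6 D83056) D83055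
def n173671 : Q := act 7 n83056
theorem D173671 : act 7 n83056 = n173671 := rfl
theorem F272167 : act 6 n173671 = n83977 := d14_1 D173671 (iv7 D83977) (iv6 D38678) (iv7 F114044) D83056
def n173672 : Q := act 3 n83057
theorem D173672 : act 3 n83057 = n173672 := rfl
theorem F272171 : act 7 n173672 = n83994 := d8_2 (iv7 F151390) D173672 (iv3 D83994)
def n173673 : Q := act 6 n83057
theorem D173673 : act 6 n83057 = n173673 := rfl
theorem F272172 : act 2 n173673 = n83992 := d3_1 D173673 (iv6 D83992) (iv2 F151389)
def n173674 : Q := act 3 n83058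
theorem D173674 : act 3 n83058 = n173674 := rfl
theorem F272173 : act 7 n173674 = n83991 := d8_2 (iv7 F151392) D173674 (iv3 D83991)
def n173675 : Q := act 6 n83058
theorem D173675 : act 6 n83058 = n173675 := rfl
def n173679 : Q := act 0 n83060
theorem D173679 : act 0 n83060 = n173679 := rfl
theorem F272176 : act 1 n83872 = n173679 := d15_0 (iv0 D173679) (iv7 F272044) F272042
def n173680 : Q := act 1 n83060
theorem D173680 : act 1 n83060 = n173680 := rfl
theorem F272177 : act 1 n173680 = n83872 := d15_1 D173680 F128877 (iv2 F128008)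
def n173681 : Q := act 0 n83061
theorem D173681 : act 0 n83061 = n173681 := rfl
theorem F272178 : act 1 n84126 = n173681 := d15_0 (iv0 D173681) F128010 D84126
def n173682 : Q := act 1 n83061
theorem D173682 : act 1 n83061 = n173682 := rfl
theorem F272179 : act 4 n83931 = n173682 := d20_6 F59754 (iv1 F59463) (iv4 D18396) D18395 D38660 D83931 (iv1 D173682) F128009 (iv3 D38231) D38229
theorem F272180 : act 0 n84126 = n173682 := d20_7 (iv4 F132917) (iv1 F132921) (iv4 F129057) (iv3 D84070) (iv1 F128058) F128056 (iv4 F129154) (iv4 F272179) (iv3 D83931) (iv1 F127952)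
def n173683 : Q := act 2 n83061
theorem D173683 : act 2 n83061 = n173683 := rfl
theorem F272181 : act 3 n173683 = n152241 := d0_2 D83061 D173683 (iv2 F239304) (iv3 D77618) (iv2 F91568)
theorem F272182 : act 4 n173683 = n83069 := d1_2 (iv4 F128009) D173683 (iv2 D83069)
theorem F272183 : act 7 n173683 = n84126 := d4_2 (iv7 F128010) D173683 (iv2 D84126)
theorem F272184 : act 1 n173683 = n84124 := d15_0 (iv0 D84124) (iv7 F128010) D173683
theorem F272185 : act 1 n84125 = n173683 := d15_1 D84125 F272183 (iv2 D84126)
def n173684 : Q := act 5 n83061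
theorem D173684 : act 5 n83061 = n173684 := rfl
def n173688 : Q := act 3 n83064
theorem D173688 : act 3 n83064 = n173688 := rfl
theorem F272197 : act 4 n173688 = n83075 := d5_2 D83064 D173688 (iv3 D83075) (iv4 D38233) (iv3 F59094)
theorem F272198 : act 5 n173688 = n167043 := d6_2 (iv5 F128021) D173688 (iv3 D167043)
theorem F272199 : act 6 n173688 = n167490 := d7_2 (iv6 F128019) D173688 (iv3 D167490)
def n173689 : Q := act 1 n83065
theorem D173689 : act 1 n83065 = n173689 := rfl
theorem F272201 : act 7 n173689 = n85128 := d15_2 (iv0 F128024) D173689 (iv2 D85128)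
theorem F272202 : act 4 n169968 = n173689 := d20_6 (iv4 D27868) F116722 (iv4 F29072) (iv3 F58188) D81529 D169968 (iv1 D173689) F128022 (iv3 D39543) (iv1 F44994)
theorem F272203 : act 2 n173689 = n83159 := d1_1 F272202 (iv4 F259469) (iv2 F267417)
theorem F272204 : act 0 n83158 = n173689 := d20_1 F147896 (iv4 F272202) (iv3 D169968) (iv1 F201309) F201307 (iv4 F187601) (iv1 F187603) D161697 (iv3 F255699) (iv1 F147899)
theorem F272205 : act 3 n85081 = n173689 := d0_0 F272203 F128219 F130147 D39343 D85081
theorem E24376 : n85128 = n83160 := ((c15_2 (iv0 D83159) D83160 (iv7 F272201) F272203)).symm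
theorem F272206 : act 2 n83160 = n39363 := (sb E24376 (iv2 D85128))
theorem F272207 : act 7 n83160 = n173689 := (sb E24376 (iv7 F272201))
def n173690 : Q := act 2 n83065
theorem D173690 : act 2 n83065 = n173690 := rfl
theorem F272208 : act 3 n173690 = n84064 := d0_2 D83065 D173690 (iv2 D84064) (iv3 D38728) (iv2 F59723)
theorem F272210 : act 7 n173690 = n83158 := d4_2 (iv7 F128023) D173690 F128217
theorem F272211 : act 1 n173690 = n83159 := d15_0 (iv0 D83159) (iv7 F128023) D173690
theorem F272212 : act 1 n83160 = n173690 := d15_0 F272211 (iv7 F130175) (iv2 F272206)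
def n173691 : Q := act 5 n83065
theorem D173691 : act 5 n83065 = n173691 := rfl
theorem F272213 : act 3 n173691 = n83066 := d6_1 D173691 (iv5 D83066) D83065
theorem F272214 : act 7 n173691 = n83161 := d13_2 (iv7 F128023) D173691 (iv5 D83161)
def n173692 : Q := act 6 n83066
theorem D173692 : act 6 n83066 = n173692 := rfl
theorem F272215 : act 2 n173692 = n84068 := d3_1 D173692 (iv6 D84068) (iv2 F128025)
def n173693 : Q := act 3 n83067
theorem D173693 : act 3 n83067 = n173693 := rfl
theorem F272216 : act 2 n173693 = n85072 := d0_1 D173693 (iv3 D85072) (iv2 F131829) (iv3 D84146) (iv2 F131880)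
theorem F272217 : act 4 n173693 = n89110 := d5_2 F249449 D173693 F136826 (iv4 F113299) (iv3 F249448)
theorem F272218 : act 6 n173693 = n101470 := d7_2 F270136 D173693 (iv3 F270132)
theorem F272219 : act 7 n173693 = n83352 := d8_2 (iv7 F155163) D173693 F128475
def n173694 : Q := act 5 n83067
theorem D173694 : act 5 n83067 = n173694 := rfl
theorem F272220 : act 2 n173694 = n84148 := d2_1 D173694 (iv5 D84148) (iv2 F131880)
theorem F272221 : act 7 n173694 = n83355 := d13_2 (iv7 F155163) D173694 (iv5 D83355)
def n173695 : Q := act 5 n83069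
theorem D173695 : act 5 n83069 = n173695 := rfl
theorem F272222 : act 2 n173695 = n83070 := d2_1 D173695 (iv5 D83070) D83069
theorem F272223 : act 3 n173695 = n84079 := d6_1 D173695 (iv5 D84079) (iv3 F128028)
theorem F272224 : act 7 n173695 = n84150 := d13_2 (iv7 F128029) D173695 (iv5 D84150)
theorem F272225 : act 0 n173695 = n172826 := d21_1 D173695 (iv5 D172826) (iv6 D82744) (iv1 D38030) (iv6 D18204) D18203 D38025 F58857 D38402 (iv1 F155161)
theorem E24377 : n172826 = n84153 := ((c15_1 D84153 (iv0 F272225) F272224 F129192)).symm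
theorem F272226 : act 1 n84153 = n173695 := (sb E24377 (iv0 F272225))
theorem F272227 : act 5 n84153 = n82744 := (sb E24377 (iv5 D172826))
theorem F272228 : act 1 n173695 = n84152 := d15_0 (iv0 D84152) (iv7 F128034) (iv2 F272222)
def n173696 : Q := act 0 n83070
theorem D173696 : act 0 n83070 = n173696 := rfl
theorem F272229 : act 5 n173696 = n172775 := d21_2 D83070 D173696 (iv6 D172775) (iv1 D82724) (iv6 D38024) (iv5 F53182) D73605 F110292 D82885 F155156
theorem F272230 : act 1 n84150 = n173696 := d15_0 (iv0 D173696) F128034 (iv2 F129192)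
theorem F272231 : act 2 n84153 = n173696 := d2_3 F272229 F271043 (iv5 F272227)
theorem F272232 : act 7 n84152 = n173696 := d15_2 F272226 F272228 (iv2 F272231)
def n173697 : Q := act 1 n83070
theorem D173697 : act 1 n83070 = n173697 := rfl
theorem F272233 : act 1 n173697 = n84150 := d15_1 D173697 (iv7 F272224) F272222
theorem F272234 : act 7 n173697 = n84153 := d15_2 (iv0 D173696) D173697 F272231
theorem F272235 : act 2 n84152 = n173697 := d4_3 F272234 F272231 (iv7 F272232)
theorem F272236 : act 5 n172827 = n173697 := d13_3 F272234 F272227 D172827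
def n173698 : Q := act 4 n83070
theorem D173698 : act 4 n83070 = n173698 := rfl
theorem F272237 : act 7 n173698 = n84154 := d11_2 (iv7 F128034) D173698 (iv4 D84154)
def n173699 : Q := act 6 n83070
theorem D173699 : act 6 n83070 = n173699 := rfl
theorem F272238 : act 3 n173699 = n83074 := d7_1 D173699 (iv6 D83074) (iv3 F128033)
def n173700 : Q := act 3 n83071
theorem D173700 : act 3 n83071 = n173700 := rfl
theorem F272239 : act 5 n173700 = n98805 := d6_2 (iv5 F128035) D173700 F152335
theorem F272240 : act 7 n173700 = n84091 := d8_2 F128038 D173700 (iv3 D84091)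
def n173701 : Q := act 6 n83071
theorem D173701 : act 6 n83071 = n173701 := rfl
theorem F272242 : act 5 n173701 = n98807 := d12_1 D173701 (iv6 D98807) (iv5 D46229) D46230 (iv5 F128035)
def n173703 : Q := act 6 n83072
theorem D173703 : act 6 n83072 = n173703 := rfl
theorem F272245 : act 2 n173703 = n84094 := d3_1 D173703 (iv6 D84094) F128042
theorem F272246 : act 5 n173703 = n83243 := d12_1 D173703 (iv6 D83243) D83242 F128322 (iv5 F128041)
def n173704 : Q := act 3 n83073
theorem D173704 : act 3 n83073 = n173704 := rfl
theorem F272247 : act 7 n173704 = n84160 := d8_2 (iv7 F128044) D173704 (iv3 D84160)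
def n173705 : Q := act 6 n83073
theorem D173705 : act 6 n83073 = n173705 := rfl
def n173706 : Q := act 0 n83074
theorem D173706 : act 0 n83074 = n173706 := rfl
def n173707 : Q := act 1 n83074
theorem D173707 : act 1 n83074 = n173707 := rfl
def n173708 : Q := act 7 n83074
theorem D173708 : act 7 n83074 = n173708 := rfl
def n173709 : Q := act 0 n83075
theorem D173709 : act 0 n83075 = n173709 := rfl
theorem F272256 : act 1 n84171 = n173709 := d15_0 (iv0 D173709) F128046 D84171
theorem F272257 : act 6 n172831 = n173709 := d21_3 D38031 D82745 D172831 (iv1 F272256) F129207 D173695 (iv1 F272226) F272227 (iv6 D82744) (iv1 D38030)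
def n173710 : Q := act 1 n83075
theorem D173710 : act 1 n83075 = n173710 := rfl
def n173711 : Q := act 2 n83075
theorem D173711 : act 2 n83075 = n173711 := rfl
theorem F272259 : act 7 n173711 = n84171 := d4_2 (iv7 F128046) D173711 (iv2 D84171)
theorem F272260 : act 1 n173711 = n84169 := d15_0 (iv0 D84169) (iv7 F128046) D173711
theorem F272261 : act 1 n173710 = n84171 := d15_1 D173710 (iv7 F272259) (iv2 D173711)
theorem F272262 : act 1 n84170 = n173711 := d15_1 D84170 F272259 (iv2 D84171)
def n173712 : Q := act 3 n83076
theorem D173712 : act 3 n83076 = n173712 := rfl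
theorem F272265 : act 7 n173712 = n83095 := d8_2 (iv7 F128048) D173712 F128104
def n173714 : Q := act 0 n83077
theorem D173714 : act 0 n83077 = n173714 := rfl
theorem F272271 : act 1 n84045 = n173714 := d15_0 (iv0 D173714) F128053 D84045
theorem F272272 : act 4 n83729 = n173714 := d20_0 (iv1 F272271) F129002 (iv3 F128028) (iv1 F128032) D84146 (iv4 F129190) (iv1 F128779) (iv4 D38589) D38588 D83729
theorem F272273 : act 3 n83729 = n173489 := d20_9 F131225 (iv1 D85577) (iv4 F128022) (iv3 D83065) (iv1 F59096) D38239 (iv4 F128052) D173714 (iv4 F272272) (iv1 D173489)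
def n173715 : Q := act 1 n83077
theorem D173715 : act 1 n83077 = n173715 := rfl
theorem F272274 : act 4 n83888 = n173715 := d20_6 F34425 F59748 (iv4 D18391) D18390 D38637 D83888 (iv1 D173715) F128052 (iv3 D38239) (iv1 F59722)
def n173716 : Q := act 2 n83077
theorem D173716 : act 2 n83077 = n173716 := rfl
theorem F272276 : act 4 n173716 = n83081 := d1_2 (iv4 F128052) D173716 (iv2 D83081)
theorem F272278 : act 1 n173716 = n84043 := d15_0 (iv0 D84043) (iv7 F128053) D173716
def n173720 : Q := act 2 n83079
theorem D173720 : act 2 n83079 = n173720 := rfl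
theorem F272284 : act 7 n83080 = n173720 := d15_2 (iv0 D83079) D83080 (iv2 D173720)
def n173721 : Q := act 3 n83079
theorem D173721 : act 3 n83079 = n173721 := rfl
theorem F272285 : act 4 n173721 = n86677 := d20_6 F13576 (iv1 F13527) D18268 D38239 D83079 D173721 (iv1 D86677) F61080 (iv3 D38212) (iv1 F29458)
theorem F272286 : act 0 n85030 = n173721 := d20_10 F272285 (iv1 D86677) F61080 (iv3 D38212) (iv1 F29458) (iv3 F29551) F29552 (iv1 F29918) D39321 D85030
theorem F272287 : act 1 n85081 = n173721 := d15_0 (iv0 F272286) F130389 D85081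
def n173722 : Q := act 4 n83079
theorem D173722 : act 4 n83079 = n173722 := rfl
theorem F272288 : act 0 n173722 = n128338 := d20_1 D173722 F206461 (iv3 D83652) (iv1 F59392) F29551 F13576 (iv1 F13527) D18268 D38239 D83079
def n173723 : Q := act 5 n83079
theorem D173723 : act 5 n83079 = n173723 := rfl
def n173725 : Q := act 7 n83079
theorem D173725 : act 7 n83079 = n173725 := rfl
theorem F272289 : act 2 n173725 = n83080 := d4_1 D173725 F272284 (iv2 D173720)
def n173726 : Q := act 3 n83080
theorem D173726 : act 3 n83080 = n173726 := rfl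
theorem F272290 : act 4 n173494 = n173726 := d20_2 D83006 D173494 (iv3 D173726) (iv1 D83080) (iv3 D38239) (iv4 D18268) (iv1 D8615) (iv4 F13526) (iv3 F29451) D38203
theorem F272291 : act 4 n173508 = n84124 := d20_0 (iv1 F272184) F272182 F128028 (iv1 F128059) D173726 (iv4 F272290) (iv1 F271956) (iv4 D83011) D83010 D173508
theorem F272292 : act 3 n173508 = n83707 := d20_3 (iv4 F59676) D84124 (iv4 F272291) (iv1 D83707) (iv3 D38583) D38584 D83713 F129190 (iv3 D84146) (iv1 D38787)
def n173727 : Q := act 4 n83080
theorem D173727 : act 4 n83080 = n173727 := rfl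
def n173728 : Q := act 5 n83080
theorem D173728 : act 5 n83080 = n173728 := rfl
def n173729 : Q := act 6 n83080
theorem D173729 : act 6 n83080 = n173729 := rfl
def n173730 : Q := act 5 n83081
theorem D173730 : act 5 n83081 = n173730 := rfl
theorem F272294 : act 2 n173730 = n83082 := d2_1 D173730 (iv5 D83082) D83081
theorem F272295 : act 3 n173730 = n84150 := d6_1 D173730 (iv5 D84150) (iv3 F128056)
theorem F272296 : act 7 n173730 = n84079 := d13_2 (iv7 F128057) D173730 (iv5 D84079)
theorem F272297 : act 1 n84082 = n173730 := d15_1 D84082 F272296 F129061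
theorem F272298 : act 1 n173730 = n84081 := d15_0 (iv0 D84081) (iv7 F128062) (iv2 F272294)
def n173731 : Q := act 6 n83081
theorem D173731 : act 6 n83081 = n173731 := rfl
theorem F272299 : act 2 n173731 = n83083 := d3_1 D173731 (iv6 D83083) D83081
theorem F272300 : act 3 n173731 = n84151 := d7_1 D173731 (iv6 D84151) (iv3 F128056)
def n173732 : Q := act 0 n83082
theorem D173732 : act 0 n83082 = n173732 := rfl
theorem F272301 : act 1 n84079 = n173732 := d15_0 (iv0 D173732) F128062 (iv2 F129061)
def n173733 : Q := act 1 n83082
theorem D173733 : act 1 n83082 = n173733 := rfl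
theorem F272302 : act 1 n173733 = n84079 := d15_1 D173733 (iv7 F272296) F272294
def n173734 : Q := act 4 n83082
theorem D173734 : act 4 n83082 = n173734 := rfl
theorem F272303 : act 7 n173734 = n84083 := d11_2 (iv7 F128062) D173734 (iv4 D84083)
def n173735 : Q := act 6 n83082
theorem D173735 : act 6 n83082 = n173735 := rfl
theorem F272304 : act 3 n173735 = n83085 := d7_1 D173735 (iv6 D83085) (iv3 F128061)
def n173736 : Q := act 0 n83083
theorem D173736 : act 0 n83083 = n173736 := rfl
def n173737 : Q := act 1 n83083
theorem D173737 : act 1 n83083 = n173737 := rfl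
def n173738 : Q := act 5 n83083
theorem D173738 : act 5 n83083 = n173738 := rfl
theorem F272305 : act 3 n173738 = n83086 := d6_1 D173738 (iv5 D83086) (iv3 F128063)
theorem F272306 : act 7 n173738 = n172485 := d13_2 F129139 D173738 F270682
def n173739 : Q := act 3 n83084
theorem D173739 : act 3 n83084 = n173739 := rfl
theorem F272307 : act 7 n173739 = n84095 := d8_2 (iv7 F128065) D173739 (iv3 D84095)
def n173740 : Q := act 6 n83084
theorem D173740 : act 6 n83084 = n173740 := rfl
theorem F272308 : act 2 n173740 = n84161 := d3_1 D173740 (iv6 D84161) (iv2 F128064)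
theorem F272309 : act 4 n173740 = n83085 := d10_1 D173740 (iv6 D83085) D83084
def n173741 : Q := act 0 n83085
theorem D173741 : act 0 n83085 = n173741 := rfl
def n173743 : Q := act 5 n83085
theorem D173743 : act 5 n83085 = n173743 := rfl
theorem F272311 : act 2 n173743 = n84164 := d2_1 D173743 (iv5 D84164) (iv2 F128066)
def n173744 : Q := act 7 n83085
theorem D173744 : act 7 n83085 = n173744 := rfl
theorem F272313 : act 2 n173744 = n84165 := d4_1 D173744 (iv7 D84165) (iv2 F128066)
theorem F272314 : act 6 n173744 = n84100 := d14_1 D173744 (iv7 D84100) (iv6 D38745) (iv7 F59114) D83085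
theorem F272315 : act 1 n84165 = n173741 := d15_0 (iv0 D173741) D173744 F272313
theorem F272316 : act 1 n84163 = n173744 := d15_1 D84163 (iv7 D173744) F128066
def n173745 : Q := act 4 n83086
theorem D173745 : act 4 n83086 = n173745 := rfl
theorem F272318 : act 2 n173745 = n84167 := d1_1 D173745 (iv4 D84167) (iv2 F128067)
theorem F272319 : act 7 n173745 = n170681 := d11_2 (iv7 F128068) D173745 F268189
theorem F272320 : act 5 n173745 = n84167 := d16_1 D173745 (iv4 D84167) (iv5 D38795) F29606 D18447 (iv4 F59818) (iv5 F129203) (iv7 D84168) (iv2 F128067)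
theorem F272321 : act 0 n173745 = n158347 := d17_0 F249487 (iv1 F249471) F127234 (iv4 D75502) (iv5 D34545) F118905 D45966 (iv0 F128069) D173745
theorem F272322 : act 1 n173745 = n122467 := d18_6 (iv1 F118937) (iv4 D37446) (iv1 F117732) (iv4 F59116) D83086 D173745 (iv4 D122467) F128948 F128947
def n173746 : Q := act 6 n83087
theorem D173746 : act 6 n83087 = n173746 := rfl
def n173747 : Q := act 6 n83088
theorem D173747 : act 6 n83088 = n173747 := rfl
theorem F272325 : act 2 n173747 = n162557 := d3_1 D173747 (iv6 D162557) F128080
def n173748 : Q := act 6 n83089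
theorem D173748 : act 6 n83089 = n173748 := rfl
theorem F272326 : act 2 n173748 = n83090 := d3_1 D173748 (iv6 D83090) D83089
theorem F272327 : act 3 n173748 = n83100 := d7_1 D173748 (iv6 D83100) (iv3 F128074)
theorem F272328 : act 4 n173748 = n152239 := d10_1 D173748 (iv6 D152239) (iv4 F128075)
theorem F272329 : act 0 n173748 = n162714 := d20_1 (iv4 F272328) (iv4 F256945) (iv3 D161356) (iv1 F243841) F243838 F110274 (iv1 F53178) D33846 D73655 (iv1 F243986)
theorem F272330 : act 7 n173748 = n162715 := d15_2 D162714 (iv0 F272329) (iv2 D162715)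
theorem F272331 : act 1 n173748 = n162713 := d15_0 (iv0 D162713) F128086 (iv2 F272326)
def n173749 : Q := act 0 n83090
theorem D173749 : act 0 n83090 = n173749 := rfl
theorem F272332 : act 1 n162715 = n173749 := d15_0 (iv0 D173749) (iv7 F128086) D162715
def n173750 : Q := act 1 n83090
theorem D173750 : act 1 n83090 = n173750 := rfl
theorem F272333 : act 1 n173750 = n162715 := d15_1 D173750 (iv7 F272330) F272326
def n173751 : Q := act 5 n83090
theorem D173751 : act 5 n83090 = n173751 := rfl
theorem F272334 : act 3 n173751 = n83091 := d6_1 D173751 (iv5 D83091) (iv3 F128084)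
theorem F272335 : act 7 n173751 = n162716 := d13_2 F128086 D173751 (iv5 D162716)
def n173752 : Q := act 0 n83091
theorem D173752 : act 0 n83091 = n173752 := rfl
theorem F272338 : act 1 n83115 = n173752 := d15_0 (iv0 D173752) F128088 (iv2 F128125)
theorem F272339 : act 7 n173752 = n83113 := d15_2 F195227 F272338 (iv2 F195225)
def n173753 : Q := act 4 n83091
theorem D173753 : act 4 n83091 = n173753 := rfl
theorem F272340 : act 2 n173753 = n83114 := d1_1 D173753 (iv4 D83114) (iv2 F128087)
theorem F272341 : act 7 n173753 = n162717 := d11_2 (iv7 F128088) D173753 (iv4 D162717)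
def n173754 : Q := act 5 n83093
theorem D173754 : act 5 n83093 = n173754 := rfl
theorem F272346 : act 0 n173754 = n158213 := d17_2 D83093 D173754 F249232 (iv4 F128135) D162754 F257348 (iv5 D162979) F122810 F122808
theorem F272347 : act 4 n173754 = n167632 := d17_4 (iv1 F117851) D38246 D83093 D173754 F263899 (iv0 D160634) (iv5 D77026) (iv0 F121311) (iv4 D58016)
def n173759 : Q := act 6 n83097
theorem D173759 : act 6 n83097 = n173759 := rfl
def n173764 : Q := act 0 n83099
theorem D173764 : act 0 n83099 = n173764 := rfl
def n173766 : Q := act 5 n83099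
theorem D173766 : act 5 n83099 = n173766 := rfl
def n173767 : Q := act 7 n83099
theorem D173767 : act 7 n83099 = n173767 := rfl
def n173768 : Q := act 0 n83100
theorem D173768 : act 0 n83100 = n173768 := rfl
theorem F272355 : act 4 n173768 = n83511 := d20_2 (iv4 F128109) D173768 (iv3 D83511) (iv1 F128605) F128602 (iv4 F124247) (iv1 F124250) (iv4 F123350) (iv3 F128230) (iv1 D83170)
theorem E24378 : n164552 = n83511 := ((c20_1 F272355 (iv1 F259377) (iv4 F256999) (iv3 D162770) (iv1 F189936) D128150 F206280 (iv1 F243986) (iv4 F272328) F272327 D173768)).symm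
theorem F272356 : act 0 n83511 = n119443 := (sb E24378 (iv1 F259377))
theorem F272357 : act 1 n83511 = n79032 := (sb E24378 (iv0 D164552))
theorem F272358 : act 0 n173768 = n83104 := d20_1 (iv4 F272355) F128112 F59157 (iv1 F58974) D82898 F127694 (iv1 F192805) F192608 F128674 (iv1 F272357)
theorem F272359 : act 3 n154160 = n173768 := d20_5 F190644 (iv1 D33649) D33650 D73036 D154160 F272355 F272356 (iv4 F256999) (iv3 D162770) (iv1 F189936)
def n173769 : Q := act 1 n83100
theorem D173769 : act 1 n83100 = n173769 := rfl
theorem F272360 : act 1 n173769 = n83104 := d15_1 D173769 (iv7 D83104) (iv2 F128108)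
theorem F272361 : act 4 n164553 = n173769 := d20_0 (iv1 D173769) F128109 (iv3 F127673) F271474 (iv3 D119378) (iv4 F189962) F189959 (iv4 F189964) (iv3 F188208) (iv1 F259370)
theorem F272362 : act 0 n128137 = n120835 := d20_4 (iv4 F272361) (iv1 D164553) (iv4 F243921) F243920 F192726 F121309 (iv1 F59126) (iv4 F59138) (iv3 F128111) (iv1 F272360)
def n173770 : Q := act 5 n83100
theorem D173770 : act 5 n83100 = n173770 := rfl
theorem F272363 : act 2 n173770 = n83103 := d2_1 D173770 (iv5 D83103) (iv2 F128108)
theorem F272364 : act 6 n173770 = n152437 := d12_2 D83100 D173770 (iv5 D152437) (iv6 D71909) (iv5 F59135)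
def n173771 : Q := act 7 n83100
theorem D173771 : act 7 n83100 = n173771 := rfl
theorem F272365 : act 2 n173771 = n83104 := d4_1 D173771 (iv7 D83104) (iv2 F128108)
theorem F272366 : act 3 n173771 = n162715 := d8_1 D173771 (iv7 F272330) F272327
theorem F272367 : act 4 n173771 = n83172 := d11_1 D173771 (iv7 D83172) (iv4 F128109)
theorem F272369 : act 1 n83102 = n173771 := d15_1 D83102 (iv7 D173771) F128108
theorem F272370 : act 1 n173771 = n83101 := d15_0 (iv0 D83101) D83104 (iv2 F272365)
theorem F272371 : act 4 n119440 = n83101 := d20_0 (iv1 F272370) F272367 (iv3 F271501) (iv1 F271504) F191347 D84919 F190052 F86972 (iv3 F86969) D119440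
def n173772 : Q := act 2 n83101
theorem D173772 : act 2 n83101 = n173772 := rfl
theorem F272372 : act 7 n83102 = n173772 := d15_2 (iv0 D83101) D83102 (iv2 D173772)
def n173773 : Q := act 3 n83101
theorem D173773 : act 3 n83101 = n173773 := rfl
def n173774 : Q := act 5 n83101
theorem D173774 : act 5 n83101 = n173774 := rfl
def n173775 : Q := act 6 n83101
theorem D173775 : act 6 n83101 = n173775 := rfl
def n173776 : Q := act 7 n83101
theorem D173776 : act 7 n83101 = n173776 := rfl
theorem F272373 : act 2 n173776 = n83102 := d4_1 D173776 F272372 (iv2 D173772)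
def n173777 : Q := act 3 n83102
theorem D173777 : act 3 n83102 = n173777 := rfl
def n173778 : Q := act 4 n83102
theorem D173778 : act 4 n83102 = n173778 := rfl
theorem F272374 : act 3 n173778 = n83497 := d20_3 (iv4 F272367) (iv1 F272369) D173778 (iv1 D83497) F59344 (iv4 F57814) D80747 (iv4 F124251) (iv3 F124252) (iv1 F128236)
def n173779 : Q := act 5 n83102
theorem D173779 : act 5 n83102 = n173779 := rfl
def n173780 : Q := act 6 n83102
theorem D173780 : act 6 n83102 = n173780 := rfl
def n173782 : Q := act 1 n83103
theorem D173782 : act 1 n83103 = n173782 := rfl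
def n173784 : Q := act 7 n83103
theorem D173784 : act 7 n83103 = n173784 := rfl
theorem F272375 : act 3 n173784 = n83115 := d8_1 D173784 (iv7 D83115) (iv3 F128110)
theorem F272376 : act 5 n173784 = n83104 := d13_1 D173784 (iv7 D83104) D83103
def n173785 : Q := act 2 n83105
theorem D173785 : act 2 n83105 = n173785 := rfl
theorem F272377 : act 7 n83106 = n173785 := d15_2 (iv0 D83105) D83106 (iv2 D173785)
def n173786 : Q := act 3 n83105
theorem D173786 : act 3 n83105 = n173786 := rfl
def n173787 : Q := act 4 n83105
theorem D173787 : act 4 n83105 = n173787 := rfl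
def n173788 : Q := act 5 n83105
theorem D173788 : act 5 n83105 = n173788 := rfl
def n173789 : Q := act 6 n83105
theorem D173789 : act 6 n83105 = n173789 := rfl
def n173790 : Q := act 7 n83105
theorem D173790 : act 7 n83105 = n173790 := rfl
def n173791 : Q := act 3 n83106
theorem D173791 : act 3 n83106 = n173791 := rfl
def n173792 : Q := act 4 n83106
theorem D173792 : act 4 n83106 = n173792 := rfl
def n173793 : Q := act 5 n83106
theorem D173793 : act 5 n83106 = n173793 := rfl
def n173794 : Q := act 6 n83106
theorem D173794 : act 6 n83106 = n173794 := rfl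
def n173795 : Q := act 0 n83107
theorem D173795 : act 0 n83107 = n173795 := rfl
def n173796 : Q := act 1 n83107
theorem D173796 : act 1 n83107 = n173796 := rfl
def n173797 : Q := act 4 n83107
theorem D173797 : act 4 n83107 = n173797 := rfl
theorem F272379 : act 6 n173797 = n83114 := d10_2 (iv6 F128114) D173797 (iv4 D83114)
def n173798 : Q := act 7 n83107
theorem D173798 : act 7 n83107 = n173798 := rfl
theorem F272380 : act 5 n173798 = n83108 := d13_1 D173798 (iv7 D83108) D83107
def n173799 : Q := act 0 n83109
theorem D173799 : act 0 n83109 = n173799 := rfl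
theorem F272381 : act 1 n154157 = n173799 := d15_0 (iv0 D173799) F128116 (iv2 F242261)
def n173800 : Q := act 1 n83109
theorem D173800 : act 1 n83109 = n173800 := rfl
theorem F272382 : act 1 n173800 = n154157 := d15_1 D173800 F242263 F206286
def n173801 : Q := act 5 n83109
theorem D173801 : act 5 n83109 = n173801 := rfl
theorem F272383 : act 3 n173801 = n83110 := d6_1 D173801 (iv5 D83110) D83109
theorem F272384 : act 7 n173801 = n162707 := d13_2 (iv7 F128116) D173801 (iv5 D162707)
def n173802 : Q := act 6 n83109
theorem D173802 : act 6 n83109 = n173802 := rfl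
theorem F272385 : act 3 n173802 = n83111 := d7_1 D173802 (iv6 D83111) D83109
def n173803 : Q := act 4 n83110
theorem D173803 : act 4 n83110 = n173803 := rfl
theorem F272387 : act 2 n173803 = n121044 := d1_1 D173803 (iv4 D121044) (iv2 F128117)
theorem F272388 : act 7 n173803 = n162709 := d11_2 (iv7 F128118) D173803 (iv4 D162709)
theorem F272389 : act 5 n173803 = n162762 := d16_1 D173803 (iv4 D162762) (iv5 D78218) (iv4 D35654) (iv5 D17278) D17277 D35650 (iv7 F88335) (iv2 F128117)
theorem F272390 : act 1 n162733 = n173803 := d15_1 D162733 F272388 F256942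
theorem F272391 : act 1 n173803 = n162732 := d15_0 (iv0 D162732) (iv7 F193030) (iv2 F272387)
def n173804 : Q := act 6 n83110
theorem D173804 : act 6 n83110 = n173804 := rfl
theorem F272392 : act 2 n173804 = n121045 := d3_1 D173804 (iv6 D121045) (iv2 F128117)
def n173805 : Q := act 4 n83112
theorem D173805 : act 4 n83112 = n173805 := rfl
def n173806 : Q := act 6 n83112
theorem D173806 : act 6 n83112 = n173806 := rfl
def n173808 : Q := act 4 n83113
theorem D173808 : act 4 n83113 = n173808 := rfl
theorem F272395 : act 5 n173808 = n162988 := d16_1 D173808 (iv4 D162988) (iv5 D78377) (iv4 D35721) D35722 D78380 (iv5 F128123) (iv7 F195226) F195225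
theorem F272396 : act 0 n173808 = n160636 := d18_2 (iv1 F128124) D173808 (iv4 D160636) (iv5 D77026) F55930 F121251 (iv4 F117745) F117743 D78192
theorem F272397 : act 1 n173808 = n162701 := d18_6 (iv1 F263900) (iv4 D162990) (iv1 F119585) (iv4 F195187) F195188 D173808 (iv4 D162701) F253742 (iv5 F263899)
def n173810 : Q := act 0 n83114
theorem D173810 : act 0 n83114 = n173810 := rfl
def n173811 : Q := act 1 n83114
theorem D173811 : act 1 n83114 = n173811 := rfl
theorem F272398 : act 1 n173811 = n162717 := d15_1 D173811 (iv7 F272341) F272340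
def n173812 : Q := act 3 n83114
theorem D173812 : act 3 n83114 = n173812 := rfl
def n173813 : Q := act 5 n83114
theorem D173813 : act 5 n83114 = n173813 := rfl
theorem F272399 : act 4 n173813 = n162761 := d16_2 D83114 D173813 F256989 F128102 F128099 (iv4 F118590) D78192 (iv7 F128088) F128087
def n173814 : Q := act 7 n83114
theorem D173814 : act 7 n83114 = n173814 := rfl
theorem F272400 : act 2 n173814 = n162717 := d4_1 D173814 (iv7 F272341) F272340
theorem F272401 : act 4 n173814 = n83115 := d11_1 D173814 (iv7 D83115) D83114
theorem F272402 : act 1 n162717 = n173810 := d15_0 (iv0 D173810) D173814 F272400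
def n173815 : Q := act 6 n83115
theorem D173815 : act 6 n83115 = n173815 := rfl
theorem F272403 : act 2 n173815 = n162718 := d3_1 D173815 (iv6 D162718) (iv2 F128125)
def n173816 : Q := act 0 n83116
theorem D173816 : act 0 n83116 = n173816 := rfl
def n173817 : Q := act 1 n83116
theorem D173817 : act 1 n83116 = n173817 := rfl
def n173818 : Q := act 2 n83116
theorem D173818 : act 2 n83116 = n173818 := rfl
theorem F272405 : act 3 n173818 = n128140 := d0_2 D83116 D173818 (iv2 F206270) F192726 F121308
def n173819 : Q := act 5 n83116
theorem D173819 : act 5 n83116 = n173819 := rfl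
theorem F272406 : act 3 n173819 = n83117 := d6_1 D173819 (iv5 D83117) D83116
def n173820 : Q := act 6 n83116
theorem D173820 : act 6 n83116 = n173820 := rfl
theorem F272407 : act 3 n173820 = n83118 := d7_1 D173820 (iv6 D83118) D83116
def n173821 : Q := act 1 n83117
theorem D173821 : act 1 n83117 = n173821 := rfl
theorem F272410 : act 1 n173821 = n83126 := d15_1 D173821 (iv7 F253741) F253740
theorem F272411 : act 5 n173821 = n162990 := d17_7 F272346 F249232 (iv1 D83120) (iv5 D38262) D38261 D83117 D173821 F263900 (iv4 F272347)
def n173822 : Q := act 4 n83117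
theorem D173822 : act 4 n83117 = n173822 := rfl
theorem F272413 : act 1 n173822 = n162730 := d18_6 (iv1 D38256) F29474 D18276 D38261 D83117 D173822 (iv4 D162730) F128119 (iv5 D83110)
def n173823 : Q := act 6 n83117
theorem D173823 : act 6 n83117 = n173823 := rfl
def n173824 : Q := act 3 n83121
theorem D173824 : act 3 n83121 = n173824 := rfl
def n173825 : Q := act 5 n83121
theorem D173825 : act 5 n83121 = n173825 := rfl
theorem F272414 : act 1 n173825 = n166677 := d17_6 (iv1 D38270) (iv5 D18278) D18276 D38262 D83121 D173825 (iv5 D166677) (iv0 F128161) (iv4 D83136)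
def n173826 : Q := act 1 n83125
theorem D173826 : act 1 n83125 = n173826 := rfl
theorem F272415 : act 7 n173826 = n128137 := d15_2 (iv0 F191393) D173826 F206261
theorem F272416 : act 2 n128142 = n173826 := d4_3 F272415 F206261 D128142
theorem F272417 : act 1 n173826 = n128140 := d15_0 (iv0 D128140) D128142 F272416
def n173827 : Q := act 2 n83125
theorem D173827 : act 2 n83125 = n173827 := rfl
theorem F272418 : act 7 n173827 = n128140 := d4_2 F192727 D173827 (iv2 F206270)
theorem F272419 : act 1 n173827 = n128142 := d15_0 (iv0 F206274) F192727 D173827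
theorem F272420 : act 1 n128137 = n173827 := d15_0 F272419 (iv7 D128142) (iv2 F206261)
def n173828 : Q := act 5 n83125
theorem D173828 : act 5 n83125 = n173828 := rfl
theorem F272421 : act 3 n173828 = n83126 := d6_1 D173828 (iv5 D83126) D83125
def n173830 : Q := act 4 n83126
theorem D173830 : act 4 n83126 = n173830 := rfl
theorem F272423 : act 0 n173830 = n162730 := d18_2 F263903 D173830 (iv4 D162730) F195224 (iv4 F249231) (iv0 F272346) F272347 (iv0 D167632) D167633
def n173831 : Q := act 6 n83126
theorem D173831 : act 6 n83126 = n173831 := rfl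
def n173833 : Q := act 3 n83128
theorem D173833 : act 3 n83128 = n173833 := rfl
def n173834 : Q := act 5 n83128
theorem D173834 : act 5 n83128 = n173834 := rfl
theorem F272429 : act 0 n173834 = n166677 := d17_2 F193046 D173834 (iv5 D166677) F122786 F57223 (iv0 F121249) D26942 D55850 D121051
def n173837 : Q := act 3 n83133
theorem D173837 : act 3 n83133 = n173837 := rfl
def n173838 : Q := act 5 n83133
theorem D173838 : act 5 n83133 = n173838 := rfl
theorem F272436 : act 0 n173838 = n162749 := d17_2 F128153 D173838 (iv5 D162749) (iv4 D78212) (iv5 F121374) F119582 (iv5 D78374) (iv0 F120872) (iv4 F122786)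
theorem F272437 : act 1 n173838 = n162746 := d17_6 (iv1 F198974) F198978 (iv1 F128157) (iv5 D83134) D83133 D173838 (iv5 D162746) D162744 (iv4 F256970)
def n173839 : Q := act 0 n83134
theorem D173839 : act 0 n83134 = n173839 := rfl
theorem F272438 : act 5 n173839 = n124415 := d17_3 D38269 D83134 D173839 F198971 (iv5 F257346) (iv0 D162986) (iv5 D78377) (iv0 F118572) (iv4 D38271)
theorem F272439 : act 4 n173839 = n162991 := d18_1 D173839 (iv1 F257356) F195187 (iv5 F89426) (iv4 F128168) F128166 F128102 F128101 D83134
theorem F272441 : act 6 n173839 = n122456 := d21_5 F29582 D38725 (iv5 F118440) (iv6 F128155) D173839 F195915 (iv1 F248968) F248965 F122914 F117227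
theorem F272443 : act 1 n83137 = n173839 := d15_0 (iv0 D173839) F128156 (iv2 F128162)
def n173841 : Q := act 6 n83135
theorem D173841 : act 6 n83135 = n173841 := rfl
theorem F272454 : act 7 n173841 = n123367 := d14_2 F192832 D173841 (iv6 D123367) (iv7 F197658) (iv6 F197661)
def n173843 : Q := act 5 n83136
theorem D173843 : act 5 n83136 = n173843 := rfl
theorem F272456 : act 0 n173843 = n162746 := d17_2 F193021 D173843 (iv5 D162746) (iv4 D78207) (iv5 F121312) (iv0 D56555) (iv5 F43975) (iv0 F121270) D121040
def n173845 : Q := act 1 n83138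
theorem D173845 : act 1 n83138 = n173845 := rfl
theorem F272461 : act 6 n122371 = n173845 := d21_3 (iv5 D124420) D124419 F198996 (iv1 D173845) (iv6 D83138) D83137 F128164 (iv5 F198978) (iv6 F198975) F199006
theorem F272464 : act 4 n173845 = n160827 := d10_1 F272461 (iv6 D160827) F195761
theorem F272465 : act 5 n173845 = n168677 := d12_1 F272461 F265668 D171401 F269148 F198996
def n173848 : Q := act 3 n83139
theorem D173848 : act 3 n83139 = n173848 := rfl
theorem F272481 : act 7 n173848 = n162978 := d8_2 (iv7 F128167) D173848 (iv3 D162978)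
def n173849 : Q := act 5 n83139
theorem D173849 : act 5 n83139 = n173849 := rfl
theorem F272482 : act 2 n173849 = n121070 := d2_1 D173849 (iv5 D121070) F128169
theorem F272483 : act 7 n173849 = n162979 := d13_2 (iv7 F128167) D173849 (iv5 D162979)
theorem F272484 : act 0 n173849 = n162987 := d17_2 (iv1 F128166) D173849 F257342 F198979 F198978 (iv0 F128164) (iv5 D83137) F128100 (iv4 F128102)
theorem F272485 : act 1 n173849 = n162986 := d17_6 D55849 F121388 (iv1 F119585) (iv5 F89426) (iv4 F128168) D173849 F257346 (iv0 D121052) (iv4 D55851)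
def n173850 : Q := act 6 n83139
theorem D173850 : act 6 n83139 = n173850 := rfl
theorem F272487 : act 4 n173850 = n121069 := d10_1 D173850 (iv6 D121069) (iv4 F128168)
def n173851 : Q := act 0 n83140
theorem D173851 : act 0 n83140 = n173851 := rfl
def n173852 : Q := act 1 n83140
theorem D173852 : act 1 n83140 = n173852 := rfl
def n173853 : Q := act 2 n83140
theorem D173853 : act 2 n83140 = n173853 := rfl
theorem F272489 : act 4 n173853 = n83292 := d1_2 (iv4 F128170) D173853 (iv2 D83292)
theorem F272490 : act 6 n173853 = n158026 := d3_2 (iv6 F128171) D173853 (iv2 D158026)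
def n173854 : Q := act 5 n83140
theorem D173854 : act 5 n83140 = n173854 := rfl
theorem F272491 : act 3 n173854 = n83141 := d6_1 D173854 (iv5 D83141) D83140
def n173855 : Q := act 7 n83140
theorem D173855 : act 7 n83140 = n173855 := rfl
theorem F272492 : act 3 n173855 = n83142 := d8_1 D173855 (iv7 D83142) D83140
theorem F272493 : act 4 n173855 = n83294 := d11_1 D173855 (iv7 D83294) (iv4 F128170)
def n173856 : Q := act 1 n83141
theorem D173856 : act 1 n83141 = n173856 := rfl
theorem F272494 : act 1 n173856 = n162761 := d15_1 D173856 (iv7 F262370) F262369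
theorem F272495 : act 7 n173856 = n162712 := d15_2 (iv0 F128172) D173856 F256944
theorem F272496 : act 5 n173856 = n121041 := d17_7 (iv1 F128133) (iv5 D38267) (iv1 D18277) D18278 D38271 D83141 D173856 F193025 F193026
theorem F272497 : act 2 n121055 = n173856 := d2_3 F272496 F193022 D121055
theorem F272498 : act 4 n162735 = n173856 := d9_15 F272496 (iv4 D121041) (iv5 D55843) (iv4 F117745) D83110 D173803 F272389 (iv4 D162762) (iv5 D78218) (iv4 D35654) (iv5 D17278) D17277 D35650 D78200 D162735
def n173857 : Q := act 4 n83141
theorem D173857 : act 4 n83141 = n173857 := rfl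
theorem F272499 : act 5 n173857 = n162717 := d9_2 D83141 D173857 (iv4 D162717) (iv5 D78192) F118590 (iv5 F128099) (iv4 F128102) (iv5 F256989) (iv4 F272399) (iv5 D173813) (iv4 D83114) (iv5 D38257) F29474 D18278 D38271
def n173858 : Q := act 6 n83141
theorem D173858 : act 6 n83141 = n173858 := rfl
theorem F272500 : act 5 n173858 = n158028 := d12_1 D173858 (iv6 D158028) (iv5 D75278) (iv6 F59142) D83141
def n173859 : Q := act 7 n83141
theorem D173859 : act 7 n83141 = n173859 := rfl
theorem F272502 : act 5 n173859 = n83142 := d13_1 D173859 (iv7 D83142) D83141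
theorem F272503 : act 1 n121055 = n173859 := d15_1 F262372 (iv7 D173859) (iv2 F262369)
theorem F272504 : act 1 n173859 = n162712 := d15_1 F272503 (iv7 F272495) (iv2 F272497)
def n173860 : Q := act 6 n83144
theorem D173860 : act 6 n83144 = n173860 := rfl
def n173861 : Q := act 6 n83145
theorem D173861 : act 6 n83145 = n173861 := rfl
theorem F272508 : act 2 n173861 = n172241 := d3_1 D173861 (iv6 D172241) (iv2 F128182)
theorem F272509 : act 3 n173861 = n121965 := d7_1 D173861 (iv6 D121965) (iv3 F128183)
theorem F272510 : act 4 n173861 = n160710 := d10_1 D173861 (iv6 D160710) (iv4 F128185)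
def n173866 : Q := act 6 n83147
theorem D173866 : act 6 n83147 = n173866 := rfl
theorem F272511 : act 2 n173866 = n101464 := d3_1 D173866 (iv6 D101464) (iv2 F128200)
theorem F272512 : act 3 n173866 = n83149 := d7_1 D173866 (iv6 D83149) D83147
theorem F272513 : act 4 n173866 = n87384 := d10_1 D173866 (iv6 D87384) (iv4 F128201)
def n173867 : Q := act 6 n83148
theorem D173867 : act 6 n83148 = n173867 := rfl
theorem F272514 : act 2 n173867 = n166899 := d3_1 D173867 (iv6 D166899) (iv2 F128205)
theorem F272515 : act 4 n173867 = n160709 := d10_1 D173867 (iv6 D160709) F128208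
def n173868 : Q := act 0 n83149
theorem D173868 : act 0 n83149 = n173868 := rfl
def n173869 : Q := act 1 n83149
theorem D173869 : act 1 n83149 = n173869 := rfl
def n173870 : Q := act 5 n83149
theorem D173870 : act 5 n83149 = n173870 := rfl
def n173871 : Q := act 7 n83149
theorem D173871 : act 7 n83149 = n173871 := rfl
def n173872 : Q := act 0 n83150
theorem D173872 : act 0 n83150 = n173872 := rfl
def n173875 : Q := act 7 n83150
theorem D173875 : act 7 n83150 = n173875 := rfl
theorem F272518 : act 2 n173875 = n83154 := d4_1 D173875 (iv7 D83154) (iv2 F128210)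
theorem F272520 : act 6 n173875 = n84064 := d14_1 D173875 F151352 (iv6 D98141) F72394 D83150
theorem F272521 : act 1 n83154 = n173872 := d15_0 (iv0 D173872) D173875 F272518
theorem F272523 : act 4 n165250 = n173872 := d20_6 (iv4 F124448) (iv1 D56409) F43910 (iv3 F56888) D79389 D165250 (iv1 F272521) F128214 F121930 (iv1 F88076)
def n173881 : Q := act 3 n83152
theorem D173881 : act 3 n83152 = n173881 := rfl
def n173882 : Q := act 4 n83152
theorem D173882 : act 4 n83152 = n173882 := rfl
theorem F272528 : act 3 n87563 = n173882 := d20_5 F124365 (iv1 F89271) F89267 (iv3 F121984) (iv1 F233191) (iv4 D173882) (iv1 D83152) F59147 F56867 D36121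
theorem F272529 : act 4 n173881 = n87562 := d5_4 D87563 F272528 (iv4 D173882) D173881 (iv3 D87562)
theorem F272530 : act 0 n101470 = n173881 := d20_7 (iv4 F61051) D86602 F232373 F184701 (iv1 F64288) (iv3 F74493) (iv4 F156294) F272529 (iv3 D87562) (iv1 D40756)
theorem F272531 : act 0 n173881 = n84895 := d20_7 (iv4 F232289) F232286 (iv4 F110024) (iv3 F232351) (iv1 F133383) D87562 (iv4 F272529) F130108 F74487 D69948
def n173891 : Q := act 3 n83156
theorem D173891 : act 3 n83156 = n173891 := rfl
def n173892 : Q := act 5 n83156
theorem D173892 : act 5 n83156 = n173892 := rfl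
def n173893 : Q := act 7 n83156
theorem D173893 : act 7 n83156 = n173893 := rfl
theorem F272534 : act 4 n173893 = n83157 := d11_1 D173893 (iv7 D83157) D83156
theorem F272535 : act 1 n158600 = n173893 := d15_1 (iv0 F249786) (iv7 D173893) (iv2 F151294)
def n173894 : Q := act 6 n83157
theorem D173894 : act 6 n83157 = n173894 := rfl
theorem F272537 : act 5 n173894 = n84068 := d12_1 D173894 (iv6 D84068) (iv5 D38730) (iv6 F59706) (iv5 F128216)
def n173895 : Q := act 5 n83158
theorem D173895 : act 5 n83158 = n173895 := rfl
theorem F272538 : act 2 n173895 = n83161 := d2_1 D173895 (iv5 D83161) (iv2 F128217)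
def n173896 : Q := act 5 n83159
theorem D173896 : act 5 n83159 = n173896 := rfl
theorem F272539 : act 3 n173896 = n85021 := d6_1 D173896 (iv5 D85021) (iv3 F128219)
theorem F272540 : act 7 n173896 = n85129 := d13_2 F130175 D173896 (iv5 D85129)
def n173898 : Q := act 3 n83160
theorem D173898 : act 3 n83160 = n173898 := rfl
theorem F272543 : act 2 n173898 = n85030 := d0_1 D173898 (iv3 D85030) F130155 D39363 (iv2 F272206)
def n173899 : Q := act 4 n83160
theorem D173899 : act 4 n83160 = n173899 := rfl
theorem F272549 : act 3 n125204 = n173899 := d20_5 (iv4 D18726) (iv1 F22090) D27865 D58567 D125204 (iv4 D173899) (iv1 D83160) (iv4 F70570) F70569 F59766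
def n173900 : Q := act 5 n83160
theorem D173900 : act 5 n83160 = n173900 := rfl
theorem F272550 : act 2 n173900 = n85129 := d2_1 D173900 (iv5 D85129) (iv2 F272206)
def n173901 : Q := act 6 n83160
theorem D173901 : act 6 n83160 = n173901 := rfl
def n173902 : Q := act 0 n83161
theorem D173902 : act 0 n83161 = n173902 := rfl
def n173903 : Q := act 1 n83161
theorem D173903 : act 1 n83161 = n173903 := rfl
def n173904 : Q := act 4 n83161
theorem D173904 : act 4 n83161 = n173904 := rfl
def n173905 : Q := act 3 n83162
theorem D173905 : act 3 n83162 = n173905 := rfl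
def n173906 : Q := act 6 n83163
theorem D173906 : act 6 n83163 = n173906 := rfl
theorem F272552 : act 2 n173906 = n123218 := d3_1 D173906 (iv6 D123218) (iv2 F128223)
theorem F272553 : act 3 n173906 = n124678 := d7_1 D173906 (iv6 D124678) (iv3 F128224)
theorem F272554 : act 4 n173906 = n83164 := d10_1 D173906 (iv6 D83164) D83163
def n173907 : Q := act 0 n83164
theorem D173907 : act 0 n83164 = n173907 := rfl
def n173908 : Q := act 1 n83164
theorem D173908 : act 1 n83164 = n173908 := rfl
def n173909 : Q := act 5 n83164
theorem D173909 : act 5 n83164 = n173909 := rfl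
theorem F272555 : act 3 n173909 = n83167 := d6_1 D173909 (iv5 D83167) (iv3 F128228)
def n173910 : Q := act 7 n83164
theorem D173910 : act 7 n83164 = n173910 := rfl
theorem F272556 : act 3 n173910 = n83168 := d8_1 D173910 (iv7 D83168) (iv3 F128228)
def n173915 : Q := act 6 n83165
theorem D173915 : act 6 n83165 = n173915 := rfl
theorem F272558 : act 5 n173915 = n152657 := d21_6 F52496 (iv1 F42610) F52453 D38288 D83165 D173915 (iv1 D152657) (iv5 D72014) (iv6 D33265) D33263
def n173920 : Q := act 6 n83166
theorem D173920 : act 6 n83166 = n173920 := rfl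
theorem F272560 : act 5 n172356 = n173920 := d21_2 D82537 D172356 (iv6 D173920) (iv1 D83166) (iv6 D38288) (iv5 F52453) F42609 F25861 D18160 D37892
def n173921 : Q := act 0 n83167
theorem D173921 : act 0 n83167 = n173921 := rfl
def n173922 : Q := act 1 n83167
theorem D173922 : act 1 n83167 = n173922 := rfl
def n173923 : Q := act 4 n83167
theorem D173923 : act 4 n83167 = n173923 := rfl
def n173925 : Q := act 2 n83169
theorem D173925 : act 2 n83169 = n173925 := rfl
theorem F272562 : act 7 n83170 = n173925 := d15_2 (iv0 D83169) D83170 (iv2 D173925)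
theorem F272563 : act 3 n173925 = n167198 := d8_1 F272562 (iv7 F263373) (iv3 F128230)
def n173926 : Q := act 3 n83169
theorem D173926 : act 3 n83169 = n173926 := rfl
theorem F272564 : act 2 n173926 = n167199 := d0_1 D173926 (iv3 D167199) D167198 (iv3 F272563) (iv2 D173925)
def n173927 : Q := act 4 n83169
theorem D173927 : act 4 n83169 = n173927 := rfl
theorem F272565 : act 0 n119439 = n173927 := d20_10 (iv4 D173927) (iv1 F128234) (iv4 F128112) F128111 F117749 (iv3 F51780) (iv4 D32714) (iv1 F190014) (iv4 F94726) (iv3 F188204)
def n173928 : Q := act 5 n83169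
theorem D173928 : act 5 n83169 = n173928 := rfl
def n173929 : Q := act 7 n83169
theorem D173929 : act 7 n83169 = n173929 := rfl
theorem F272566 : act 2 n173929 = n83170 := d4_1 D173929 F272562 (iv2 D173925)
def n173930 : Q := act 4 n83170
theorem D173930 : act 4 n83170 = n173930 := rfl
theorem F272567 : act 0 n173930 = n119439 := d20_1 D173930 F188205 F86969 (iv1 F190062) F86900 (iv4 D27682) (iv1 F117668) (iv4 F29499) (iv3 F59157) (iv1 F128229)
def n173931 : Q := act 5 n83170
theorem D173931 : act 5 n83170 = n173931 := rfl
def n173932 : Q := act 6 n83170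
theorem D173932 : act 6 n83170 = n173932 := rfl
theorem F272569 : act 3 n173932 = n167204 := d7_1 D173932 (iv6 D167204) (iv3 F128230)
def n173933 : Q := act 0 n83171
theorem D173933 : act 0 n83171 = n173933 := rfl
def n173934 : Q := act 1 n83171
theorem D173934 : act 1 n83171 = n173934 := rfl
theorem F272570 : act 1 n173934 = n83189 := d15_1 D173934 (iv7 D83189) (iv2 F128231)
theorem F272571 : act 5 n158255 = n173934 := d21_6 (iv5 D33824) (iv1 F42614) (iv5 F42618) D34510 D75399 D158255 (iv1 D173934) (iv5 D83171) (iv6 D38289) (iv1 F53167)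
def n173935 : Q := act 4 n83171
theorem D173935 : act 4 n83171 = n173935 := rfl
theorem F272572 : act 2 n173935 = n83188 := d1_1 D173935 (iv4 D83188) (iv2 F128231)
theorem F272573 : act 6 n173935 = n152629 := d10_2 (iv6 F128232) D173935 (iv4 D152629)
def n173936 : Q := act 7 n83171
theorem D173936 : act 7 n83171 = n173936 := rfl
theorem F272574 : act 2 n173936 = n83189 := d4_1 D173936 (iv7 D83189) (iv2 F128231)
theorem F272575 : act 5 n173936 = n83172 := d13_1 D173936 (iv7 D83172) D83171
theorem F272576 : act 1 n83189 = n173933 := d15_0 (iv0 D173933) D173936 F272574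
theorem F272577 : act 1 n83187 = n173936 := d15_1 D83187 (iv7 D173936) F128231
theorem F272578 : act 1 n173936 = n83186 := d15_0 (iv0 D83186) D83189 (iv2 F272574)
def n173937 : Q := act 0 n83175
theorem D173937 : act 0 n83175 = n173937 := rfl
theorem F272579 : act 5 n173937 = n85268 := d17_3 F155359 D83175 D173937 F130574 F60339 F199951 (iv5 D35974) D35973 D79042
theorem F272581 : act 7 n85267 = n173937 := d13_0 F272579 (iv7 D85268) D85267
theorem F272582 : act 2 n173937 = n152628 := d15_3 (iv0 D152628) (iv0 F155417) F272581
def n173938 : Q := act 1 n83175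
theorem D173938 : act 1 n83175 = n173938 := rfl
theorem F272583 : act 1 n173938 = n152630 := d15_1 D173938 (iv7 D152630) (iv2 F128238)
theorem F272584 : act 7 n173938 = n152628 := d15_2 (iv0 D173937) D173938 (iv2 F272582)
theorem F272585 : act 5 n85246 = n173938 := d21_0 (iv1 D173938) (iv5 D83175) (iv6 D38290) F29484 D26390 D54572 D118501 (iv5 F244475) D155483 F244482
theorem F272586 : act 2 n173938 = n85267 := d2_1 F272585 (iv5 D85267) (iv2 F130554)
theorem F272587 : act 1 n152630 = n173937 := d15_1 F272583 (iv7 F272581) (iv2 F272586)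
def n173939 : Q := act 4 n83175
theorem D173939 : act 4 n83175 = n173939 := rfl
theorem F272588 : act 2 n173939 = n152629 := d1_1 D173939 (iv4 D152629) (iv2 F128238)
theorem F272589 : act 6 n173939 = n83188 := d10_2 (iv6 F128240) D173939 (iv4 D83188)
def n173940 : Q := act 7 n83175
theorem D173940 : act 7 n83175 = n173940 := rfl
theorem F272590 : act 2 n173940 = n152630 := d4_1 D173940 (iv7 D152630) (iv2 F128238)
theorem F272591 : act 3 n173940 = n83216 := d8_1 D173940 (iv7 D83216) (iv3 F128239)
theorem F272592 : act 5 n173940 = n83176 := d13_1 D173940 (iv7 D83176) D83175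
theorem F272593 : act 1 n85267 = n173940 := d15_1 (iv0 F155417) (iv7 D173940) F128238
theorem F272594 : act 1 n173940 = n152628 := d15_1 F272593 (iv7 F272584) F272586
def n173943 : Q := act 3 n83177
theorem D173943 : act 3 n83177 = n173943 := rfl
theorem F272597 : act 7 n173943 = n83182 := d8_2 F128248 D173943 (iv3 D83182)
def n173944 : Q := act 4 n83177
theorem D173944 : act 4 n83177 = n173944 := rfl
theorem F272598 : act 2 n173944 = n83178 := d1_1 D173944 (iv4 D83178) D83177
theorem F272599 : act 7 n173944 = n83183 := d11_2 F128248 D173944 (iv4 D83183)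
def n173945 : Q := act 5 n83177
theorem D173945 : act 5 n83177 = n173945 := rfl
theorem F272600 : act 2 n173945 = n83179 := d2_1 D173945 (iv5 D83179) D83177
theorem F272601 : act 7 n173945 = n83184 := d13_2 F128248 D173945 (iv5 D83184)
def n173947 : Q := act 3 n83178
theorem D173947 : act 3 n83178 = n173947 := rfl
theorem F272603 : act 4 n173947 = n168239 := d5_2 D83178 D173947 (iv3 D168239) (iv4 F124251) (iv3 F124252)
def n173948 : Q := act 5 n83178
theorem D173948 : act 5 n83178 = n173948 := rfl
def n173949 : Q := act 6 n83178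
theorem D173949 : act 6 n83178 = n173949 := rfl
def n173950 : Q := act 7 n83178
theorem D173950 : act 7 n83178 = n173950 := rfl
theorem F272605 : act 2 n173950 = n83183 := d4_1 D173950 (iv7 F272599) F272598
theorem F272606 : act 4 n173950 = n83181 := d11_1 D173950 (iv7 D83181) D83178
def n173951 : Q := act 0 n83179
theorem D173951 : act 0 n83179 = n173951 := rfl
def n173952 : Q := act 1 n83179
theorem D173952 : act 1 n83179 = n173952 := rfl
theorem F272607 : act 1 n173952 = n83184 := d15_1 D173952 (iv7 F272601) F272600
def n173955 : Q := act 7 n83179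
theorem D173955 : act 7 n83179 = n173955 := rfl
theorem F272608 : act 2 n173955 = n83184 := d4_1 D173955 (iv7 F272601) F272600
theorem F272609 : act 5 n173955 = n83181 := d13_1 D173955 (iv7 D83181) D83179
theorem F272610 : act 1 n83184 = n173951 := d15_0 (iv0 D173951) D173955 F272608
def n173959 : Q := act 6 n83181
theorem D173959 : act 6 n83181 = n173959 := rfl
theorem F272611 : act 2 n173959 = n83185 := d3_1 D173959 (iv6 D83185) (iv2 F128249)
def n173960 : Q := act 0 n83182
theorem D173960 : act 0 n83182 = n173960 := rfl
def n173961 : Q := act 1 n83182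
theorem D173961 : act 1 n83182 = n173961 := rfl
def n173962 : Q := act 4 n83182
theorem D173962 : act 4 n83182 = n173962 := rfl
theorem F272612 : act 2 n173962 = n123237 := d1_1 D173962 (iv4 F255750) F255749
theorem F272613 : act 3 n173962 = n124681 := d5_1 D173962 (iv4 F256935) F256934 (iv4 D83183) D83182
def n173963 : Q := act 5 n83182
theorem D173963 : act 5 n83182 = n173963 := rfl
theorem F272614 : act 3 n173963 = n83184 := d6_1 D173963 (iv5 D83184) D83182
def n173964 : Q := act 6 n83182
theorem D173964 : act 6 n83182 = n173964 := rfl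
theorem F272615 : act 3 n173964 = n83185 := d7_1 D173964 (iv6 D83185) D83182
def n173965 : Q := act 5 n83183
theorem D173965 : act 5 n83183 = n173965 := rfl
def n173966 : Q := act 6 n83183
theorem D173966 : act 6 n83183 = n173966 := rfl
theorem F272616 : act 4 n173966 = n83185 := d10_1 D173966 (iv6 D83185) D83183
def n173967 : Q := act 4 n83184
theorem D173967 : act 4 n83184 = n173967 := rfl
def n173968 : Q := act 6 n83184
theorem D173968 : act 6 n83184 = n173968 := rfl
def n173973 : Q := act 2 n83186
theorem D173973 : act 2 n83186 = n173973 := rfl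
theorem F272617 : act 7 n83187 = n173973 := d15_2 (iv0 D83186) D83187 (iv2 D173973)
def n173976 : Q := act 5 n83186
theorem D173976 : act 5 n83186 = n173976 := rfl
def n173978 : Q := act 7 n83186
theorem D173978 : act 7 n83186 = n173978 := rfl
theorem F272618 : act 2 n173978 = n83187 := d4_1 D173978 F272617 (iv2 D173973)
def n173979 : Q := act 3 n83187
theorem D173979 : act 3 n83187 = n173979 := rfl
def n173980 : Q := act 4 n83187
theorem D173980 : act 4 n83187 = n173980 := rfl
def n173981 : Q := act 5 n83187
theorem D173981 : act 5 n83187 = n173981 := rfl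
theorem F272619 : act 6 n173981 = n152635 := d21_3 (iv5 F272575) (iv1 F272577) D173981 (iv1 F239856) F113152 (iv5 F127184) (iv1 F270570) (iv5 F270571) (iv6 D83180) (iv1 F128236)
def n173982 : Q := act 6 n83187
theorem D173982 : act 6 n83187 = n173982 := rfl
def n173983 : Q := act 0 n83188
theorem D173983 : act 0 n83188 = n173983 := rfl
def n173984 : Q := act 1 n83188
theorem D173984 : act 1 n83188 = n173984 := rfl
def n173985 : Q := act 3 n83188
theorem D173985 : act 3 n83188 = n173985 := rfl
theorem F272620 : act 4 n173985 = n83249 := d5_2 D83188 D173985 (iv3 D83249) (iv4 D38315) (iv3 F59156)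
def n173986 : Q := act 5 n83188
theorem D173986 : act 5 n83188 = n173986 := rfl
def n173987 : Q := act 7 n83188
theorem D173987 : act 7 n83188 = n173987 := rfl
theorem F272621 : act 4 n173987 = n83189 := d11_1 D173987 (iv7 D83189) D83188
def n173988 : Q := act 6 n83189
theorem D173988 : act 6 n83189 = n173988 := rfl
theorem F272622 : act 3 n173988 = n83252 := d7_1 D173988 (iv6 D83252) (iv3 F128250)
def n173989 : Q := act 6 n83190
theorem D173989 : act 6 n83190 = n173989 := rfl
theorem F272624 : act 3 n173989 = n121988 := d7_1 D173989 (iv6 D121988) (iv3 F128252)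
def n173990 : Q := act 6 n83191
theorem D173990 : act 6 n83191 = n173990 := rfl
theorem F272625 : act 3 n173990 = n98302 := d7_1 D173990 (iv6 D98302) (iv3 F128257)
def n173993 : Q := act 5 n83192
theorem D173993 : act 5 n83192 = n173993 := rfl
theorem F272628 : act 6 n173993 = n98196 := d12_2 D83192 D173993 (iv5 D98196) (iv6 D45890) (iv5 F59158)
def n173994 : Q := act 7 n83192
theorem D173994 : act 7 n83192 = n173994 := rfl
theorem F272629 : act 3 n173994 = n83196 := d8_1 D173994 (iv7 D83196) (iv3 F128261)
theorem F272630 : act 6 n173994 = n172246 := d14_1 D173994 (iv7 D172246) (iv6 D82501) (iv7 F59159) D83192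
def n173997 : Q := act 4 n83193
theorem D173997 : act 4 n83193 = n173997 := rfl
def n174006 : Q := act 1 n83195
theorem D174006 : act 1 n83195 = n174006 := rfl
theorem F272633 : act 1 n174006 = n172303 := d15_1 D174006 (iv7 D172303) (iv2 F128263)
theorem F272634 : act 5 n172408 = n174006 := d21_6 (iv5 D8636) (iv1 F13538) (iv5 F29335) D37898 D82554 D172408 (iv1 D174006) (iv5 D83195) (iv6 D38296) (iv1 F29490)
def n174007 : Q := act 4 n83195
theorem D174007 : act 4 n83195 = n174007 := rfl
theorem F272636 : act 6 n174007 = n98204 := d10_2 (iv6 F128264) D174007 (iv4 D98204)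
def n174008 : Q := act 7 n83195
theorem D174008 : act 7 n83195 = n174008 := rfl
theorem F272638 : act 5 n174008 = n83196 := d13_1 D174008 (iv7 D83196) D83195
theorem F272640 : act 1 n172301 = n174008 := d15_1 D172301 (iv7 D174008) F128263
theorem F272641 : act 5 n101906 = n172301 := d17_5 (iv1 F63923) (iv5 F64357) (iv1 F136211) (iv5 F136212) (iv4 F156846) F272640 F272638 F128270 (iv4 F270619)
theorem E24379 : n101902 = n82557 := (c21_5 (iv5 F272638) (iv1 F272640) (iv5 F272641) (iv6 D101906) D101902 F156784 D101746 (iv1 F270614) (iv5 F270616) (iv6 F270617) (iv1 F128270))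
theorem E24380 : n98150 = n47352 := (((iv1 F151375)).symm.trans (sb E24379 (iv1 F156849)))
theorem E24381 : n98149 = n47347 := ((F151381).symm.trans (sb E24379 (iv0 D101902)))
theorem E24382 : n101903 = n45847 := (((iv1 F156845)).symm.trans (sb E24380 (iv1 D98150)))
theorem F272642 : act 1 n47352 = n82557 := (sb E24380 F151375)
theorem F272643 : act 0 n47347 = n82557 := (sb E24381 (iv1 F151381))
theorem F272644 : act 0 n45847 = n47347 := (sb E24382 (iv1 D101903))
theorem F272645 : act 1 n45847 = n47352 := (sb E24382 F156845)
theorem F272646 : act 0 n101935 = n98479 := d18_2 (iv1 F128843) D101935 (iv4 D98479) (iv5 D46055) (iv4 F72403) F272645 (iv4 D47352) F59433 (iv5 F128841)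
theorem F272647 : act 0 n172862 = n101906 := d21_10 F272641 (iv1 D172301) (iv5 D82518) (iv6 D37884) (iv1 F29427) D38158 D82932 D173291 F271677 (iv6 F271130)
theorem F272648 : act 1 n98542 = n101906 := d15_0 (iv0 F272647) (iv7 D172862) F268299
def n174010 : Q := act 0 n83198
theorem D174010 : act 0 n83198 = n174010 := rfl
def n174011 : Q := act 1 n83198
theorem D174011 : act 1 n83198 = n174011 := rfl
theorem F272654 : act 1 n174011 = n167173 := d15_1 D174011 (iv7 D167173) (iv2 F128276)
def n174012 : Q := act 5 n83198
theorem D174012 : act 5 n83198 = n174012 := rfl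
theorem F272655 : act 2 n174012 = n167172 := d2_1 D174012 (iv5 D167172) (iv2 F128276)
theorem F272657 : act 6 n174012 = n98184 := d12_2 D83198 D174012 (iv5 D98184) (iv6 D45877) (iv5 F59162)
def n174013 : Q := act 7 n83198
theorem D174013 : act 7 n83198 = n174013 := rfl
theorem F272658 : act 2 n174013 = n167173 := d4_1 D174013 (iv7 D167173) (iv2 F128276)
theorem F272660 : act 6 n174013 = n167167 := d14_1 D174013 (iv7 D167167) (iv6 D80252) (iv7 F59163) D83198
theorem F272661 : act 1 n167173 = n174010 := d15_0 (iv0 D174010) D174013 F272658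
theorem F272662 : act 1 n167171 = n174013 := d15_1 D167171 (iv7 D174013) F128276
theorem F272663 : act 1 n174013 = n167170 := d15_0 (iv0 D167170) D167173 (iv2 F272658)
def n174014 : Q := act 2 n83199
theorem D174014 : act 2 n83199 = n174014 := rfl
theorem F272664 : act 4 n174014 = n100897 := d1_2 (iv4 F270521) D174014 (iv2 D100897)
theorem F272665 : act 7 n83200 = n174014 := d15_2 (iv0 D83199) D83200 (iv2 D174014)
theorem E24383 : n100904 = n83200 := (c11_4 F272665 F272664 (iv7 F155043) D100904)
theorem F272666 : act 4 n83200 = n47033 := (sb E24383 (iv4 D100904))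
theorem F272667 : act 4 n158547 = n101766 := d18_7 (iv1 F128278) F272666 (iv1 D47033) F35156 D34587 D75626 D158547 F270520 F270519
theorem F272668 : act 0 n101786 = n98365 := d18_2 F137024 D101786 (iv4 D98365) (iv5 D46018) (iv4 F59167) D83200 F272666 F74281 D89337
theorem F272669 : act 3 n98342 = n167655 := d20_5 (iv4 F272666) (iv1 D83200) F59167 (iv3 F72590) D98342 (iv4 D167655) (iv1 F133487) F133484 (iv3 F64358) (iv1 F74281)
def n174015 : Q := act 3 n83199
theorem D174015 : act 3 n83199 = n174015 := rfl
def n174016 : Q := act 5 n83199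
theorem D174016 : act 5 n83199 = n174016 := rfl
def n174017 : Q := act 6 n83199
theorem D174017 : act 6 n83199 = n174017 := rfl
theorem F272670 : act 4 n174017 = n100901 := d10_1 D174017 (iv6 D100901) (iv4 F270521)
def n174018 : Q := act 7 n83199
theorem D174018 : act 7 n83199 = n174018 := rfl
theorem F272671 : act 2 n174018 = n83200 := d4_1 D174018 F272665 (iv2 D174014)
theorem F272672 : act 4 n174018 = n100902 := d11_1 D174018 (iv7 D100902) (iv4 F270521)
def n174019 : Q := act 3 n83200
theorem D174019 : act 3 n83200 = n174019 := rfl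
def n174020 : Q := act 5 n83200
theorem D174020 : act 5 n83200 = n174020 := rfl
def n174021 : Q := act 6 n83200
theorem D174021 : act 6 n83200 = n174021 := rfl
theorem F272673 : act 4 n174021 = n100906 := d10_1 D174021 (iv6 D100906) (iv4 F272666)
def n174022 : Q := act 0 n83201
theorem D174022 : act 0 n83201 = n174022 := rfl
theorem F272674 : act 2 n172270 = n174022 := d15_3 (iv0 D174022) (iv0 F156787) (iv7 F271104)
theorem F272675 : act 7 n172271 = n174022 := d15_2 (iv0 D172270) D172271 (iv2 F272674)
theorem F272676 : act 2 n101766 = n172271 := d4_3 F272675 (iv2 F272674) F271104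
theorem F272677 : act 1 n172273 = n174022 := d15_1 F270520 (iv7 F272675) (iv2 F272676)
theorem F272678 : act 5 n172446 = n174022 := d21_0 (iv1 F272677) F270519 (iv6 F128267) (iv1 F128269) D172299 (iv5 F270652) (iv1 F270656) (iv5 D82566) D82567 D172446
theorem F272679 : act 2 n101767 = n172446 := d2_3 F272678 (iv2 F272674) (iv5 F271103)
theorem F272680 : act 4 n99707 = n172446 := d17_4 (iv1 D47033) D47034 D100907 (iv5 F156677) F272678 (iv0 D174022) (iv5 D83201) D83200 F272666
theorem F272681 : act 4 n174022 = n158546 := d18_5 (iv1 F249609) (iv4 F155181) (iv1 F156675) F272680 F272678 (iv0 D158546) (iv4 D75626) D75625 (iv5 F113465)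
theorem F272682 : act 6 n172446 = n101827 := d21_9 F184678 (iv1 D83398) (iv5 D38416) (iv6 D18323) (iv1 F29493) D38298 D83201 D174022 (iv5 F272678) F184679
theorem F272683 : act 7 n99698 = n172446 := d14_0 F272682 (iv7 D101827) (iv6 D47321) F156697 D99698
theorem F272684 : act 5 n172271 = n99698 := d13_3 F272683 F272678 (iv7 F272675)
theorem F272685 : act 1 n101765 = n172446 := d15_1 D101765 (iv7 F272683) F156673
theorem F272686 : act 2 n172449 = n101765 := d15_3 F272685 (iv0 D172446) D172449
theorem F272687 : act 7 n101765 = n172439 := d4_2 D172449 F272686 F270660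
theorem F272688 : act 6 n172438 = n101765 := d14_5 F272687 (iv6 D172439) (iv7 D82563) D82562 D172438
theorem E24384 : n172447 = n47301 := (c15_1 D172447 D101765 F272687 F270660)
theorem E24385 : n101764 = n82567 := ((D101764).symm.trans (sb E24384 (iv1 D172447)))
theorem F272689 : act 1 n82567 = n47301 := (sb E24385 (iv0 D101764))
theorem F272690 : act 5 n83213 = n172438 := d21_2 D38301 D83213 F272688 (iv1 D101765) (iv6 D47301) D47300 D101759 F156788 (iv6 D83212) (iv1 D38300)
theorem F272691 : act 7 n172437 = n83213 := d13_0 F272690 (iv7 D172438) D172437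
theorem F272692 : act 1 n172438 = n101923 := d17_8 F156909 (iv5 D101144) (iv1 F153266) F153263 (iv4 F127685) (iv5 F271530) F271533 F272690 F156913
theorem F272693 : act 2 n83213 = n173221 := d15_3 (iv0 D173221) (iv0 F270658) F272691
theorem F272694 : act 2 n172437 = n83214 := d15_3 F271532 F271533 (iv7 F272691)
theorem E24386 : n172422 = n98946 := ((c2_3 D172437 F272694 (iv5 F155172) F270648)).symm
theorem F272695 : act 2 n98946 = n82562 := (sb E24386 F270648)
theorem E24387 : n82558 = n46294 := ((((iv6 D98946)).symm.trans (sb E24386 (iv6 D172422)))).symm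
theorem E24388 : n172418 = n37902 := ((((iv1 F155168)).symm.trans (sb E24387 D172418))).symm
theorem E24390 : n98932 = n37899 := (((iv2 F152476)).symm.trans (sb E24387 (iv2 D82558)))
theorem E24391 : n172420 = n98944 := (((D98944).symm.trans (sb E24387 D172420))).symm
theorem E24392 : n88948 = n22139 := ((((iv4 D46294)).symm.trans (sb E24387 F155436))).symm
theorem E24393 : n172421 = n98945 := (((D98945).symm.trans (sb E24387 D172421))).symm
theorem E24394 : n98947 = n37900 := ((D98947).symm.trans (sb E24387 (iv7 F127190)))
theorem E24395 : n82563 = n46299 := (((F155167).symm.trans (sb E24388 (iv1 F270643)))).symm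
theorem F272696 : act 2 n37899 = n46294 := (sb E24390 F152476)
theorem E24396 : n46292 = n41532 := ((((iv4 F155435)).symm.trans (sb E24390 (iv4 D98932)))).symm
theorem F272697 : act 7 n98944 = n82564 := (sb E24391 F270645)
theorem E24397 : n46297 = n41533 := ((D46297).symm.trans (sb E24392 (iv7 F136526)))
theorem F272698 : act 2 n98945 = n82561 := (sb E24393 F270646)
theorem F272699 : act 7 n98945 = n82566 := (sb E24393 F270647)
theorem F272700 : act 7 n37900 = n46294 := (sb E24394 (iv7 D98947))
theorem F272701 : act 2 n46299 = n37900 := (sb E24395 F127191)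
theorem E24398 : n172429 = n98964 := (((D98964).symm.trans (sb E24395 (iv3 F270651)))).symm
theorem E24399 : n88953 = n22140 := ((((iv4 D46299)).symm.trans (sb E24395 F155438))).symm
theorem E24400 : n172434 = n98965 := (((D98965).symm.trans (sb E24395 (iv5 F270655)))).symm
theorem E24401 : n172439 = n98966 := (((D98966).symm.trans (sb E24395 D172439))).symm
theorem F272702 : act 7 n46299 = n37899 := (sb E24395 (iv7 D82563))
theorem F272703 : act 2 n41532 = n22139 := (sb E24396 (iv2 D46292))
theorem E24404 : n98931 = n88949 := (((D88949).symm.trans (sb E24396 D98931))).symm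
theorem E24405 : n98933 = n88951 := (((D88951).symm.trans (sb E24396 D98933))).symm
theorem E24406 : n98934 = n88952 := (((D88952).symm.trans (sb E24396 D98934))).symm
theorem E24407 : n98941 = n88954 := (((D88954).symm.trans (sb E24397 (iv3 F152483)))).symm
theorem E24408 : n98952 = n88956 := (((D88956).symm.trans (sb E24397 (iv5 F152494)))).symm
theorem E24409 : n98957 = n88957 := (((D88957).symm.trans (sb E24397 D98957))).symm
theorem F272704 : act 7 n41533 = n22139 := (sb E24397 (iv7 D46297))
theorem F272705 : act 7 n98964 = n82559 := (sb E24398 (iv7 D172429))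
theorem F272706 : act 2 n22140 = n41533 := (sb E24399 F136528)
theorem F272707 : act 7 n22140 = n41532 := (sb E24399 (iv7 D88953))
theorem F272708 : act 2 n98965 = n82566 := (sb E24400 F270654)
theorem F272709 : act 7 n98965 = n82561 := (sb E24400 (iv7 D172434))
theorem F272710 : act 2 n98966 = n82567 := (sb E24401 F270660)
theorem F272711 : act 7 n98966 = n101765 := (sb E24401 (iv7 F272687))
theorem F272712 : act 7 n88949 = n46298 := (sb E24404 F152475)
theorem F272713 : act 2 n88951 = n46295 := (sb E24405 F152478)
theorem F272714 : act 7 n88951 = n46300 := (sb E24405 F152479)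
theorem F272715 : act 2 n88952 = n46296 := (sb E24406 F152480)
theorem F272716 : act 2 n88954 = n149089 := (sb E24407 F234475)
theorem F272717 : act 7 n88954 = n46293 := (sb E24407 (iv7 D98941))
theorem F272718 : act 2 n88956 = n46300 := (sb E24408 F152493)
theorem F272719 : act 7 n88956 = n46295 := (sb E24408 (iv7 D98952))
theorem F272720 : act 2 n88957 = n46301 := (sb E24409 F152498)
theorem F272721 : act 7 n83214 = n173221 := d4_2 (iv7 F272691) F272694 (iv2 F272693)
theorem F272722 : act 1 n98937 = n86936 := d15_0 F233106 F272717 D98937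
theorem F272723 : act 1 n125114 = n98937 := d15_0 F272722 F233029 (iv2 F201014)
theorem E24410 : n100507 = n98955 := ((c2_3 (iv5 F136527) F272715 D98955 F154562)).symm
theorem F272724 : act 2 n98955 = n46891 := (sb E24410 F154562)
theorem F272725 : act 7 n98955 = n46890 := (sb E24410 (iv7 D100507))
theorem F272726 : act 7 n100504 = n101150 := d11_2 F272725 D100504 F195698
theorem E24411 : n100505 = n98956 := (c13_2 F272725 D100505 (iv7 D98956) D98955)
theorem F272727 : act 1 n98956 = n173574 := (sb E24411 (iv0 F272009))
theorem F272728 : act 5 n98956 = n46890 := (sb E24411 (iv5 D100505))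
theorem E24412 : n100502 = n99370 := (c15_4 (iv0 D99370) (iv0 F152496) F272725 D100502)
theorem F272729 : act 2 n99370 = n46890 := (sb E24412 (iv2 D100502))
theorem F272730 : act 7 n99370 = n46891 := (sb E24412 (iv7 F154561))
theorem F272731 : act 2 n101150 = n100509 := d15_3 F205701 (iv0 F205702) F272726
theorem F272732 : act 2 n100504 = n101149 := d15_3 (iv0 D101149) D101150 (iv7 F272726)
theorem F272733 : act 4 n101149 = n99370 := d1_2 D100504 F272732 F272729
theorem F272734 : act 7 n101149 = n100509 := d4_2 (iv7 F272726) F272732 (iv2 F272731)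
theorem F272735 : act 1 n100504 = n99504 := d15_0 F205700 (iv7 F272734) (iv2 F272732)
theorem F272736 : act 4 n101765 = n98972 := d11_1 F272711 (iv7 D98972) (iv4 F152501)
theorem E24413 : n98114 = n46580 := (c21_5 (iv5 D18233) (iv1 F16653) D21918 D45821 D98114 D99698 (iv5 F272684) (iv1 D172271) (iv5 D82507) (iv6 D37877) (iv1 F29405))
theorem E24414 : n99694 = n82553 := ((D99694).symm.trans (sb E24413 (iv1 F151281)))
theorem E24415 : n99695 = n45821 := ((D99695).symm.trans (sb E24413 (iv0 D98114)))
theorem E24416 : n98115 = n46585 := (((iv1 F151275)).symm.trans (sb E24414 (iv1 F153505)))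
theorem F272737 : act 1 n82553 = n46580 := (sb E24414 (iv0 D99694))
theorem F272738 : act 0 n45821 = n46580 := (sb E24415 (iv1 D99695))
theorem F272739 : act 0 n46585 = n45821 := (sb E24416 (iv1 D98115))
theorem F272740 : act 1 n46585 = n82553 := (sb E24416 F151275)
theorem F272741 : act 1 n98503 = n99731 := d18_6 (iv1 F34816) D46585 F272739 F72374 D46062 D98503 (iv4 D99731) F73568 F35300
theorem F272742 : act 3 n98487 = n86612 := d20_5 D46585 F272739 F72374 (iv3 F72640) D98487 (iv4 D86612) (iv1 F74461) F74457 F35281 (iv1 F34816)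
theorem F272743 : act 1 n99726 = n98503 := d15_0 F272741 F156403 (iv2 F156404)
def n174024 : Q := act 7 n83201
theorem D174024 : act 7 n83201 = n174024 := rfl
theorem F272746 : act 2 n174024 = n172273 := d4_1 D174024 (iv7 D172273) (iv2 F128279)
theorem F272747 : act 5 n174024 = n83202 := d13_1 D174024 (iv7 D83202) D83201
theorem F272748 : act 1 n172271 = n174024 := d15_1 D172271 (iv7 D174024) F128279
theorem F272749 : act 1 n174024 = n172270 := d15_1 F272748 F271104 F272676
theorem F272750 : act 1 n101767 = n98966 := d17_8 D98969 F153988 (iv1 F153986) F151787 (iv4 F128282) (iv5 F272747) F272749 (iv5 F271103) F152501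
theorem F272751 : act 1 n98966 = n99698 := d15_1 F272750 F272683 (iv2 F272679)
theorem F272752 : act 1 n172449 = n101767 := d15_0 F272750 F272711 (iv2 F272686)
theorem F272753 : act 1 n99698 = n172449 := d15_0 F272752 (iv7 D101767) (iv2 F156673)
theorem F272754 : act 0 n172272 = n158539 := d18_2 (iv1 D172271) D172272 (iv4 D158539) D158540 F249721 (iv0 D98969) (iv4 F152501) F272751 (iv5 F272684)
def n174027 : Q := act 3 n83203
theorem D174027 : act 3 n83203 = n174027 := rfl
theorem F272757 : act 7 n174027 = n83209 := d8_2 F128287 D174027 (iv3 D83209)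
theorem F272758 : act 2 n174027 = n167175 := d15_3 (iv0 D167175) F195700 (iv7 F272757)
def n174028 : Q := act 5 n83203
theorem D174028 : act 5 n83203 = n174028 := rfl
theorem F272759 : act 2 n174028 = n83206 := d2_1 D174028 (iv5 D83206) D83203
theorem F272760 : act 7 n174028 = n83211 := d13_2 F128287 D174028 (iv5 D83211)
def n174029 : Q := act 6 n83203
theorem D174029 : act 6 n83203 = n174029 := rfl
theorem F272761 : act 2 n174029 = n83207 := d3_1 D174029 (iv6 D83207) D83203
theorem F272762 : act 5 n172868 = n174029 := d2_0 F272761 F128288 (iv2 F271132)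
theorem F272763 : act 7 n174029 = n172866 := d13_2 D172868 F272762 (iv5 D172866)
def n174030 : Q := act 0 n83204
theorem D174030 : act 0 n83204 = n174030 := rfl
def n174031 : Q := act 1 n83204
theorem D174031 : act 1 n83204 = n174031 := rfl
def n174032 : Q := act 2 n83204
theorem D174032 : act 2 n83204 = n174032 := rfl
theorem F272764 : act 3 n174032 = n167175 := d0_2 D83204 D174032 (iv2 F272758) (iv3 D174027) (iv2 D83203)
def n174033 : Q := act 4 n83204
theorem D174033 : act 4 n83204 = n174033 := rfl
def n174034 : Q := act 5 n83204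
theorem D174034 : act 5 n83204 = n174034 := rfl
theorem F272765 : act 3 n174034 = n83206 := d6_1 D174034 (iv5 D83206) D83204
def n174035 : Q := act 6 n83204
theorem D174035 : act 6 n83204 = n174035 := rfl
theorem F272766 : act 3 n174035 = n83207 := d7_1 D174035 (iv6 D83207) D83204
theorem F272767 : act 5 n172869 = n174035 := d6_0 F272766 F128288 D172869
def n174036 : Q := act 7 n83204
theorem D174036 : act 7 n83204 = n174036 := rfl
theorem F272768 : act 3 n174036 = n83208 := d8_1 D174036 (iv7 D83208) D83204
def n174037 : Q := act 0 n83206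
theorem D174037 : act 0 n83206 = n174037 := rfl
theorem F272769 : act 5 n174037 = n172413 := d21_2 D83206 D174037 (iv6 D172413) (iv1 D82555) (iv6 D37898) F29335 (iv1 D8623) D8625 D18290 D38299
theorem F272770 : act 4 n83808 = n172413 := d17_4 D22655 D47105 D101124 F155785 (iv5 F272769) (iv0 D174037) (iv5 D83206) (iv0 D38299) F29498
theorem E24417 : n172411 = n38610 := (c10_4 D83808 F272770 (iv6 D172413) D172411)
theorem E24418 : n83806 = n82555 := ((D83806).symm.trans (sb E24417 (iv4 D172411)))
theorem F272771 : act 4 n82555 = n38610 := (sb E24418 (iv4 D83806))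
theorem F272773 : act 4 n83799 = n172404 := d11_3 (iv7 F270638) F272771 F128834
theorem E24419 : n172406 = n38609 := (c1_3 F272773 (iv2 D172404) D172406 D83799)
theorem E24420 : n83801 = n82554 := ((D83801).symm.trans (sb E24419 (iv4 D172406)))
theorem F272774 : act 4 n82554 = n38609 := (sb E24420 (iv4 D83801))
theorem F272775 : act 4 n83803 = n172408 := d10_3 (iv6 D172408) F272774 D83803
theorem F272776 : act 4 n83867 = n172414 := d18_7 D82554 F272774 (iv1 F59432) (iv4 F59072) (iv5 F127945) (iv4 F272038) F272041 (iv0 D172414) (iv5 D82556)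
theorem E24421 : n173997 = n19631 := (c17_10 (iv1 F63925) (iv5 F136216) (iv1 F136218) (iv5 F128835) F272775 F272634 F272633 F270543 F128268 D173997)
theorem E24422 : n83193 = n41712 := (((D41712).symm.trans (sb E24421 (iv4 D173997)))).symm
theorem E24423 : n89292 = n82519 := ((D89292).symm.trans (sb E24422 (iv1 F128268)))
theorem E24424 : n89293 = n38296 := ((D89293).symm.trans (sb E24422 (iv0 D83193)))
theorem E24430 : n83194 = n41717 := (((iv1 F128262)).symm.trans (sb E24423 (iv1 F137005)))
theorem F272777 : act 1 n82519 = n41712 := (sb E24423 (iv0 D89292))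
theorem F272778 : act 0 n38296 = n41712 := (sb E24424 (iv1 D89293))
theorem F272779 : act 0 n41717 = n38296 := (sb E24430 (iv1 D83194))
theorem F272780 : act 1 n41717 = n82519 := (sb E24430 F128262)
def n174038 : Q := act 1 n83206
theorem D174038 : act 1 n83206 = n174038 := rfl
theorem F272783 : act 1 n174038 = n83211 := d15_1 D174038 (iv7 F272760) F272759
def n174039 : Q := act 4 n83206
theorem D174039 : act 4 n83206 = n174039 := rfl
def n174040 : Q := act 6 n83206
theorem D174040 : act 6 n83206 = n174040 := rfl
theorem F272784 : act 5 n174040 = n172871 := d12_1 D174040 (iv6 D172871) (iv5 F128288) (iv6 D83207) D83206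
def n174041 : Q := act 7 n83206
theorem D174041 : act 7 n83206 = n174041 := rfl
theorem F272785 : act 2 n174041 = n83211 := d4_1 D174041 (iv7 F272760) F272759
theorem F272786 : act 5 n174041 = n83208 := d13_1 D174041 (iv7 D83208) D83206
theorem F272787 : act 1 n83211 = n174037 := d15_0 (iv0 D174037) D174041 F272785
def n174042 : Q := act 0 n83207
theorem D174042 : act 0 n83207 = n174042 := rfl
def n174043 : Q := act 1 n83207
theorem D174043 : act 1 n83207 = n174043 := rfl
theorem F272788 : act 1 n174043 = n172866 := d15_1 D174043 (iv7 F272763) F272761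
theorem F272789 : act 4 n174043 = n101130 := d17_9 (iv1 D101130) F74496 (iv1 D47233) (iv5 D22717) (iv4 F29375) D38035 D82760 (iv5 F128288) D174043
def n174044 : Q := act 7 n83207
theorem D174044 : act 7 n83207 = n174044 := rfl
theorem F272790 : act 2 n174044 = n172866 := d4_1 D174044 (iv7 F272763) F272761
theorem F272791 : act 5 n174044 = n172863 := d13_1 D174044 (iv7 F271131) (iv5 F128288)
theorem F272792 : act 1 n172866 = n174042 := d15_0 (iv0 D174042) D174044 F272790
theorem F272793 : act 4 n174042 = n101129 := d17_9 (iv1 F156333) (iv5 D101529) (iv1 F136889) F136886 (iv4 F184603) D155458 F244453 D172866 F272792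
theorem F272794 : act 4 n83788 = n172872 := d18_5 D174042 F272793 (iv1 F156333) F249714 F249711 (iv0 D172872) (iv4 D82761) D82760 (iv5 F128288)
def n174045 : Q := act 6 n83208
theorem D174045 : act 6 n83208 = n174045 := rfl
theorem F272795 : act 2 n174045 = n83212 := d3_1 D174045 (iv6 D83212) (iv2 F128289)
def n174046 : Q := act 2 n83209
theorem D174046 : act 2 n83209 = n174046 := rfl
theorem F272796 : act 7 n174046 = n167175 := d4_2 F272757 D174046 (iv2 F272758)
def n174050 : Q := act 4 n83211
theorem D174050 : act 4 n83211 = n174050 := rfl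
def n174051 : Q := act 6 n83211
theorem D174051 : act 6 n83211 = n174051 := rfl
def n174052 : Q := act 0 n83212
theorem D174052 : act 0 n83212 = n174052 := rfl
theorem F272799 : act 2 n101849 = n174052 := d15_3 (iv0 D174052) F156789 (iv7 F156811)
theorem F272800 : act 4 n174052 = n99727 := d1_2 D101849 F272799 (iv2 F156391)
theorem F272801 : act 7 n174052 = n101862 := d4_2 (iv7 F156811) F272799 F156817
theorem E24435 : n100486 = n99369 := (c18_1 (iv1 F154560) (iv4 F195697) D174052 F272800 (iv5 D99727) D99726 F272743 (iv4 D98503) D98502 (iv5 F151902))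
theorem F272802 : act 1 n99369 = n98321 := (sb E24435 F154560)
theorem F272803 : act 2 n99369 = n46889 := (sb E24435 F154552)
theorem E24436 : n46885 = n46463 := ((((iv6 D99369)).symm.trans (sb E24435 (iv6 D100486)))).symm
theorem E24437 : n100461 = n22262 := ((((iv1 D46463)).symm.trans (sb E24436 (iv1 F154516)))).symm
theorem E24439 : n99365 = n22519 := (((iv2 F153018)).symm.trans (sb E24436 F74094))
theorem E24440 : n100472 = n99366 := (((D99366).symm.trans (sb E24436 (iv3 F154528)))).symm
theorem E24441 : n100477 = n38300 := (((F195696).symm.trans (sb E24436 (iv4 F154532)))).symm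
theorem E24442 : n100482 = n99368 := (((D99368).symm.trans (sb E24436 (iv5 F154546)))).symm
theorem E24443 : n99360 = n22518 := ((F153016).symm.trans (sb E24436 (iv7 D46885)))
theorem E24444 : n46880 = n46462 := (((D46462).symm.trans (sb E24437 (iv1 D100461)))).symm
theorem F272804 : act 2 n22519 = n46463 := (sb E24439 F153018)
theorem E24445 : n83208 = n46887 := (((D46887).symm.trans (sb E24439 (iv4 F195695)))).symm
theorem F272805 : act 7 n99366 = n46881 := (sb E24440 (iv7 D100472))
theorem E24446 : n167189 = n83209 := (((D83209).symm.trans (sb E24441 (iv3 F263368)))).symm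
theorem E24447 : n83203 = n46882 := ((F128287).symm.trans (sb E24441 (iv7 D100477)))
theorem F272806 : act 2 n99368 = n46888 := (sb E24442 F154545)
theorem F272807 : act 7 n99368 = n46883 := (sb E24442 (iv7 D100482))
theorem F272808 : act 7 n22518 = n46463 := (sb E24443 (iv7 F153016))
theorem F272809 : act 2 n46462 = n22518 := (sb E24444 (iv2 D46880))
theorem E24448 : n100462 = n99361 := (((D99361).symm.trans (sb E24444 D100462))).symm
theorem E24449 : n100463 = n38299 := (((F195692).symm.trans (sb E24444 D100463))).symm
theorem E24450 : n100464 = n99363 := (((D99363).symm.trans (sb E24444 D100464))).symm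
theorem E24451 : n100465 = n99364 := (((D99364).symm.trans (sb E24444 D100465))).symm
theorem F272810 : act 7 n46462 = n22519 := (sb E24444 (iv7 F74092))
theorem F272811 : act 2 n46887 = n38300 := (sb E24445 F128289)
theorem E24454 : n174036 = n100493 := (((D100493).symm.trans (sb E24445 (iv3 F272768)))).symm
theorem E24455 : n174041 = n100494 := (((D100494).symm.trans (sb E24445 (iv5 F272786)))).symm
theorem E24456 : n174045 = n100495 := (((D100495).symm.trans (sb E24445 D174045))).symm
theorem E24457 : n174046 = n80263 := ((D174046).symm.trans (sb E24446 F263367))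
theorem E24459 : n174028 = n100475 := (((D100475).symm.trans (sb E24447 D174028))).symm
theorem E24460 : n174029 = n100476 := (((D100476).symm.trans (sb E24447 D174029))).symm
theorem F272812 : act 7 n46882 = n38300 := (sb E24447 (iv7 F128287))
theorem F272813 : act 7 n99361 = n46886 := (sb E24448 F154517)
theorem F272814 : act 2 n38299 = n46882 := (sb E24449 F154518)
theorem F272815 : act 7 n38299 = n46887 := (sb E24449 F154519)
theorem F272816 : act 2 n99363 = n46883 := (sb E24450 F154520)
theorem F272817 : act 7 n99363 = n46888 := (sb E24450 F154521)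
theorem F272818 : act 2 n99364 = n46884 := (sb E24451 F154522)
theorem E24461 : n98554 = n89054 := (((F153017).symm.trans (sb E24451 (iv5 F154523)))).symm
theorem F272819 : act 7 n99364 = n98552 := (sb E24451 F154524)
theorem F272820 : act 7 n100493 = n83204 := (sb E24454 (iv7 D174036))
theorem F272821 : act 2 n100494 = n83211 := (sb E24455 F272785)
theorem F272822 : act 7 n100494 = n83206 := (sb E24455 (iv7 D174041))
theorem F272823 : act 2 n100495 = n83212 := (sb E24456 F272795)
theorem E24462 : n167185 = n167175 := ((F263363).symm.trans (sb E24457 F272796))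
theorem F272826 : act 2 n100475 = n83206 := (sb E24459 F272759)
theorem F272827 : act 7 n100475 = n83211 := (sb E24459 F272760)
theorem F272828 : act 2 n100476 = n83207 := (sb E24460 F272761)
theorem E24463 : n172868 = n158266 := (((F249330).symm.trans (sb E24460 (iv5 F272762)))).symm
theorem F272829 : act 7 n100476 = n172866 := (sb E24460 F272763)
theorem F272830 : act 2 n89054 = n46075 := (sb E24461 F151937)
theorem F272831 : act 7 n89054 = n46074 := (sb E24461 (iv7 D98554))
theorem F272833 : act 7 n167175 = n80263 := (sb E24462 (iv7 F263363))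
theorem F272834 : act 2 n158266 = n82760 := (sb E24463 F271132)
theorem F272835 : act 7 n158266 = n82759 := (sb E24463 (iv7 D172868))
theorem E24464 : n172863 = n158265 := (c15_4 (iv0 D158265) D158266 F272835 D172863)
theorem F272836 : act 2 n158265 = n82759 := (sb E24464 (iv2 D172863))
theorem F272837 : act 5 n158265 = n174044 := (sb E24464 (iv5 F272791))
theorem F272838 : act 7 n158265 = n82760 := (sb E24464 (iv7 F271131))
theorem F272839 : act 4 n174044 = n98552 := d17_4 (iv1 F184674) D75405 D158265 F272837 (iv5 D98552) (iv0 D46074) (iv5 D22006) D22005 D46071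
theorem F272840 : act 4 n100485 = n172866 := d1_2 F272839 (iv2 F154549) (iv2 F272790)
theorem E24465 : n98549 = n89053 := ((c17_3 (iv1 D41589) D41590 D89053 (iv5 F154550) F272840 (iv5 D172866) (iv0 D82759) (iv5 D38035) D38034 F184766)).symm
theorem F272841 : act 2 n89053 = n46074 := (sb E24465 (iv2 D98549))
theorem F272842 : act 5 n89053 = n100485 := (sb E24465 (iv5 F154550))
theorem F272843 : act 7 n89053 = n46075 := (sb E24465 (iv7 F151935))
theorem F272844 : act 4 n101533 = n89053 := d18_3 (iv1 D47233) D47234 D101533 F272842 F272840 F272792 F272793 (iv0 D101129) F74496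
theorem F272845 : act 2 n98551 = n101533 := d1_3 F272844 F272841 D98551
theorem F272846 : act 7 n98556 = n101533 := d11_0 F272844 F272843 D98556
theorem F272847 : act 1 n98551 = n89189 := d15_0 (iv0 F184675) F272846 (iv2 F272845)
theorem F272848 : act 7 n101534 = n98551 := d15_2 (iv0 D101533) D101534 F272845
theorem F272849 : act 2 n101534 = n98556 := d4_3 F272846 (iv2 F272845) (iv7 F272848)
theorem F272850 : act 7 n167190 = n174032 := d8_2 F272833 D167190 F272764
theorem F272851 : act 1 n174031 = n167190 := d15_1 D174031 F272850 (iv2 D174032)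
theorem F272857 : act 1 n167190 = n174030 := d15_0 (iv0 D174030) (iv7 F272820) (iv2 F263369)
theorem E24466 : n104165 = n100468 := ((c15_4 (iv0 D104165) (iv0 F233130) F272805 D100468)).symm
theorem F272858 : act 1 n100468 = n48202 := (sb E24466 (iv0 D104165))
def n174053 : Q := act 7 n83212
theorem D174053 : act 7 n83212 = n174053 := rfl
theorem F272859 : act 6 n174053 = n172866 := d14_1 D174053 (iv7 F272829) (iv6 D100476) F272812 D83212
theorem F272860 : act 0 n174053 = n101862 := d21_4 D38035 D82759 D172866 (iv6 F272859) (iv6 F270617) D172293 F271127 (iv5 D172861) (iv6 D82758) (iv1 D38034)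
theorem F272861 : act 1 n174053 = n101849 := d15_1 (iv0 F272860) F156811 (iv2 F156817)
theorem F272862 : act 1 n100495 = n101862 := d15_0 (iv0 F272860) (iv7 D174053) (iv2 F272823)
theorem F272863 : act 1 n101849 = n100495 := d15_0 F272862 (iv7 F272801) (iv2 F272799)
def n174054 : Q := act 3 n83213
theorem D174054 : act 3 n83213 = n174054 := rfl
def n174055 : Q := act 4 n83213
theorem D174055 : act 4 n83213 = n174055 := rfl
def n174056 : Q := act 6 n83213
theorem D174056 : act 6 n83213 = n174056 := rfl
theorem F272864 : act 5 n174056 = n158796 := d21_6 (iv5 D38311) (iv1 D18292) D18293 (iv6 F59168) D83213 D174056 (iv1 D158796) D158797 F250000 (iv1 F127698)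
def n174057 : Q := act 3 n83214
theorem D174057 : act 3 n83214 = n174057 := rfl
def n174058 : Q := act 4 n83214
theorem D174058 : act 4 n83214 = n174058 := rfl
theorem F272865 : act 0 n174058 = n167005 := d18_2 (iv1 F271532) D174058 (iv4 D167005) (iv5 D80169) F57350 D46463 F195696 F127688 (iv5 F271530)
theorem F272866 : act 0 n167197 = n174057 := d20_4 D167044 F263070 F255719 (iv3 F263370) (iv3 D174057) D174058 F272865 (iv4 D167005) F123106 D80184
theorem F272867 : act 1 n167176 = n174057 := d15_0 (iv0 F272866) (iv7 D167197) (iv2 F263337)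
def n174060 : Q := act 0 n83215
theorem D174060 : act 0 n83215 = n174060 := rfl
def n174061 : Q := act 1 n83215
theorem D174061 : act 1 n83215 = n174061 := rfl
theorem F272868 : act 4 n174061 = n83535 := d18_7 (iv1 F123113) F155362 (iv1 D22656) (iv4 F29498) D38301 D83215 D174061 F262987 F262985
def n174062 : Q := act 3 n83215
theorem D174062 : act 3 n83215 = n174062 := rfl
theorem F272869 : act 6 n174062 = n83249 := d7_2 (iv6 F128290) D174062 (iv3 D83249)
def n174063 : Q := act 5 n83215
theorem D174063 : act 5 n83215 = n174063 := rfl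
def n174064 : Q := act 7 n83215
theorem D174064 : act 7 n83215 = n174064 := rfl
theorem F272870 : act 4 n174064 = n83216 := d11_1 D174064 (iv7 D83216) D83215
def n174065 : Q := act 6 n83216
theorem D174065 : act 6 n83216 = n174065 := rfl
theorem F272871 : act 7 n174065 = n83252 := d14_2 D83216 D174065 (iv6 D83252) (iv7 D38316) (iv6 F59168)
def n174077 : Q := act 5 n83219
theorem D174077 : act 5 n83219 = n174077 := rfl
theorem F272880 : act 2 n174077 = n83221 := d2_1 D174077 (iv5 D83221) D83219
def n174079 : Q := act 0 n83220
theorem D174079 : act 0 n83220 = n174079 := rfl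
theorem F272883 : act 1 n120895 = n174079 := d15_0 (iv0 D174079) F128293 D120895
theorem F272884 : act 7 n174079 = n120776 := d15_2 (iv0 F271546) F272883 F192607
theorem F272885 : act 6 n164919 = n174079 := d14_5 F272884 (iv6 D120776) F88103 D79326 (iv7 F259990)
def n174080 : Q := act 5 n83220
theorem D174080 : act 5 n83220 = n174080 := rfl
theorem F272886 : act 3 n174080 = n120727 := d6_1 D174080 (iv5 D120727) (iv3 F128292)
def n174081 : Q := act 0 n83221
theorem D174081 : act 0 n83221 = n174081 := rfl
def n174082 : Q := act 1 n83221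
theorem D174082 : act 1 n83221 = n174082 := rfl
def n174083 : Q := act 4 n83221
theorem D174083 : act 4 n83221 = n174083 := rfl
def n174084 : Q := act 6 n83221
theorem D174084 : act 6 n83221 = n174084 := rfl
theorem F272888 : act 3 n174084 = n83226 := d7_1 D174084 (iv6 D83226) (iv3 F128294)
def n174088 : Q := act 4 n83224
theorem D174088 : act 4 n83224 = n174088 := rfl
theorem F272889 : act 0 n174088 = n83259 := d18_2 (iv1 F128300) D174088 (iv4 D83259) (iv5 D38333) (iv4 D18297) (iv0 D8627) (iv4 F13540) D18292 D38311
theorem F272890 : act 1 n174088 = n83267 := d18_6 D75668 F122408 (iv1 F113118) (iv4 F152285) F152288 D174088 (iv4 D83267) F127719 (iv5 D75670)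
def n174090 : Q := act 0 n83225
theorem D174090 : act 0 n83225 = n174090 := rfl
theorem F272891 : act 4 n174090 = n124460 := d18_3 (iv1 D83224) D83225 D174090 F199047 F112958 F123904 (iv4 F72871) D98792 F152288
theorem F272892 : act 1 n83234 = n174090 := d15_0 (iv0 D174090) (iv7 F271552) F271551
theorem F272893 : act 2 n158632 = n174090 := d1_3 F272891 (iv2 F199049) D158632
def n174091 : Q := act 1 n83225
theorem D174091 : act 1 n83225 = n174091 := rfl
theorem F272894 : act 1 n174091 = n83234 := d15_1 D174091 (iv7 F271537) F271536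
theorem F272896 : act 4 n174091 = n124461 := d18_7 F118802 (iv4 F30237) (iv1 F118919) (iv4 D38305) D38306 D83225 D174091 F199051 (iv5 D82906)
def n174092 : Q := act 3 n83225
theorem D174092 : act 3 n83225 = n174092 := rfl
def n174093 : Q := act 5 n83225
theorem D174093 : act 5 n83225 = n174093 := rfl
theorem F272897 : act 4 n174093 = n83296 := d16_2 D83225 D174093 (iv5 F250012) F250013 (iv5 D83232) (iv4 D38310) D38311 (iv7 F127693) F127692
theorem F272898 : act 1 n174093 = n173341 := d17_6 (iv1 D38314) (iv5 D18293) D18291 D38306 D83225 D174093 (iv5 D173341) (iv0 F128326) (iv4 D83245)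
def n174094 : Q := act 6 n83225
theorem D174094 : act 6 n83225 = n174094 := rfl
theorem F272899 : act 4 n174094 = n83226 := d10_1 D174094 (iv6 D83226) D83225
def n174095 : Q := act 0 n83226
theorem D174095 : act 0 n83226 = n174095 := rfl
def n174096 : Q := act 1 n83226
theorem D174096 : act 1 n83226 = n174096 := rfl
def n174097 : Q := act 7 n83226
theorem D174097 : act 7 n83226 = n174097 := rfl
def n174098 : Q := act 5 n83227
theorem D174098 : act 5 n83227 = n174098 := rfl
theorem F272901 : act 7 n174098 = n167184 := d13_2 (iv7 F128301) D174098 (iv5 D167184)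
theorem F272902 : act 1 n83244 = n174098 := d15_1 (iv0 F188034) F272901 F263360
def n174099 : Q := act 4 n83228
theorem D174099 : act 4 n83228 = n174099 := rfl
theorem F272903 : act 2 n174099 = n83229 := d1_1 D174099 (iv4 D83229) D83228
theorem F272904 : act 7 n174099 = n84429 := d11_2 F188030 D174099 (iv4 F188029)
theorem F272905 : act 0 n84427 = n174099 := d20_10 (iv4 D174099) (iv1 F188031) F123345 (iv3 F125398) D169957 F267393 (iv4 F255195) (iv1 F255199) D161878 (iv3 F255861)
theorem F272906 : act 1 n84428 = n174099 := d15_1 D84428 F272904 (iv2 D84429)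
theorem F272907 : act 3 n84440 = n174099 := d0_0 F272903 F128304 F89176 D38934 D84440
def n174100 : Q := act 5 n83228
theorem D174100 : act 5 n83228 = n174100 := rfl
theorem F272908 : act 2 n174100 = n83230 := d2_1 D174100 (iv5 D83230) D83228
def n174101 : Q := act 6 n83228
theorem D174101 : act 6 n83228 = n174101 := rfl
theorem F272909 : act 2 n174101 = n83231 := d3_1 D174101 (iv6 D83231) D83228
def n174102 : Q := act 0 n83229
theorem D174102 : act 0 n83229 = n174102 := rfl
theorem F272910 : act 1 n84429 = n174102 := d15_0 (iv0 D174102) F128305 D84429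
def n174103 : Q := act 1 n83229
theorem D174103 : act 1 n83229 = n174103 := rfl
theorem F272911 : act 1 n174103 = n84429 := d15_1 D174103 (iv7 F272904) F272903
def n174104 : Q := act 5 n83229
theorem D174104 : act 5 n83229 = n174104 := rfl
theorem F272912 : act 3 n174104 = n84350 := d6_1 D174104 (iv5 D84350) (iv3 F128304)
theorem F272913 : act 7 n174104 = n84430 := d13_2 (iv7 F128305) D174104 (iv5 D84430)
def n174105 : Q := act 6 n83229
theorem D174105 : act 6 n83229 = n174105 := rfl
theorem F272914 : act 3 n174105 = n84351 := d7_1 D174105 (iv6 D84351) (iv3 F128304)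
def n174107 : Q := act 1 n83230
theorem D174107 : act 1 n83230 = n174107 := rfl
def n174108 : Q := act 4 n83230
theorem D174108 : act 4 n83230 = n174108 := rfl
def n174109 : Q := act 6 n83230
theorem D174109 : act 6 n83230 = n174109 := rfl
theorem F272916 : act 3 n174109 = n83235 := d7_1 D174109 (iv6 D83235) (iv3 F128306)
def n174114 : Q := act 3 n83234
theorem D174114 : act 3 n83234 = n174114 := rfl
def n174115 : Q := act 5 n83234
theorem D174115 : act 5 n83234 = n174115 := rfl
theorem F272920 : act 4 n174115 = n83295 := d9_1 D174115 F250035 F250032 (iv5 D83223) (iv4 D38305) D38306 D83225 D174093 F272897 (iv5 F250012) F250013 (iv5 D83232) (iv4 D38310) D38311 D83234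
theorem F272921 : act 0 n174115 = n173341 := d17_2 (iv1 F272892) D174115 (iv5 D173341) (iv4 D82954) (iv5 D38178) (iv0 F118802) D82906 F199048 (iv4 F272891)
def n174116 : Q := act 6 n83234
theorem D174116 : act 6 n83234 = n174116 := rfl
theorem F272922 : act 4 n174116 = n83235 := d10_1 D174116 (iv6 D83235) D83234
def n174117 : Q := act 0 n83235
theorem D174117 : act 0 n83235 = n174117 := rfl
def n174118 : Q := act 1 n83235
theorem D174118 : act 1 n83235 = n174118 := rfl
def n174119 : Q := act 5 n83235
theorem D174119 : act 5 n83235 = n174119 := rfl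
theorem F272923 : act 6 n174119 = n83238 := d12_2 D83235 D174119 (iv5 D83238) (iv6 D38312) D38311
def n174120 : Q := act 7 n83235
theorem D174120 : act 7 n83235 = n174120 := rfl
def n174121 : Q := act 3 n83236
theorem D174121 : act 3 n83236 = n174121 := rfl
theorem F272925 : act 7 n174121 = n84187 := d8_2 (iv7 F151539) D174121 F129233
def n174122 : Q := act 4 n83238
theorem D174122 : act 4 n83238 = n174122 := rfl
theorem F272926 : act 0 n174122 = n158685 := d18_2 F151517 D174122 (iv4 D158685) (iv5 D75691) (iv4 F71266) F63802 F63799 F72486 D98199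
theorem F272927 : act 1 n174122 = n158677 := d18_6 F128973 F121885 (iv1 F135963) F128311 D83238 D174122 (iv4 D158677) D158676 (iv5 F249839)
def n174123 : Q := act 0 n83240
theorem D174123 : act 0 n83240 = n174123 := rfl
def n174124 : Q := act 1 n83240
theorem D174124 : act 1 n83240 = n174124 := rfl
def n174125 : Q := act 2 n83240
theorem D174125 : act 2 n83240 = n174125 := rfl
def n174126 : Q := act 4 n83240
theorem D174126 : act 4 n83240 = n174126 := rfl
def n174128 : Q := act 6 n83240
theorem D174128 : act 6 n83240 = n174128 := rfl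
theorem F272931 : act 3 n174128 = n83243 := d7_1 D174128 (iv6 D83243) D83240
def n174129 : Q := act 3 n83241
theorem D174129 : act 3 n83241 = n174129 := rfl
def n174130 : Q := act 5 n83241
theorem D174130 : act 5 n83241 = n174130 := rfl
theorem F272932 : act 4 n174130 = n83288 := d16_2 D83241 D174130 (iv5 D83288) D83287 F128365 (iv4 F118486) F59172 (iv7 F127710) F127713
def n174131 : Q := act 6 n83241
theorem D174131 : act 6 n83241 = n174131 := rfl
theorem F272933 : act 4 n174131 = n83243 := d10_1 D174131 (iv6 D83243) D83241
def n174132 : Q := act 0 n83243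
theorem D174132 : act 0 n83243 = n174132 := rfl
def n174133 : Q := act 1 n83243
theorem D174133 : act 1 n83243 = n174133 := rfl
def n174134 : Q := act 7 n83243
theorem D174134 : act 7 n83243 = n174134 := rfl
def n174135 : Q := act 2 n83244
theorem D174135 : act 2 n83244 = n174135 := rfl
theorem F272934 : act 5 n174135 = n172881 := d2_2 (iv5 F128325) D174135 F271142
theorem F272935 : act 0 n174135 = n167184 := d21_7 D45819 (iv1 F72370) (iv5 F72441) D98179 (iv1 F151466) D172881 (iv5 F272934) (iv5 D167184) (iv6 D80261) (iv1 F57438)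
def n174136 : Q := act 4 n83244
theorem D174136 : act 4 n83244 = n174136 := rfl
def n174137 : Q := act 6 n83244
theorem D174137 : act 6 n83244 = n174137 := rfl
theorem F272936 : act 3 n174137 = n83246 := d7_1 D174137 (iv6 D83246) D83244
theorem F272937 : act 5 n174137 = n172885 := d12_1 D174137 (iv6 D172885) (iv5 D82766) D82767 (iv5 F128325)
def n174138 : Q := act 3 n83245
theorem D174138 : act 3 n83245 = n174138 := rfl
def n174139 : Q := act 5 n83245
theorem D174139 : act 5 n83245 = n174139 := rfl
theorem F272938 : act 4 n174139 = n83285 := d9_1 D174139 (iv5 D83285) F122131 F122133 (iv4 F128319) (iv5 D83242) D83241 D174130 F272932 (iv5 D83288) D83287 F128365 (iv4 F118486) F59172 D83245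
def n174140 : Q := act 6 n83245
theorem D174140 : act 6 n83245 = n174140 := rfl
theorem F272939 : act 4 n174140 = n83246 := d10_1 D174140 (iv6 D83246) D83245
def n174141 : Q := act 0 n83246
theorem D174141 : act 0 n83246 = n174141 := rfl
def n174142 : Q := act 1 n83246
theorem D174142 : act 1 n83246 = n174142 := rfl
def n174143 : Q := act 7 n83246
theorem D174143 : act 7 n83246 = n174143 := rfl
theorem F272940 : act 5 n174143 = n172898 := d13_1 D174143 (iv7 D172898) (iv5 F128327)
def n174144 : Q := act 3 n83247
theorem D174144 : act 3 n83247 = n174144 := rfl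
def n174145 : Q := act 5 n83247
theorem D174145 : act 5 n83247 = n174145 := rfl
theorem F272941 : act 4 n174145 = n83282 := d16_2 F128359 D174145 (iv5 D83282) (iv4 D38363) F117883 (iv4 F58574) F117878 F127841 F127843
def n174146 : Q := act 6 n83247
theorem D174146 : act 6 n83247 = n174146 := rfl
theorem F272942 : act 4 n174146 = n83539 := d10_1 D174146 (iv6 D83539) F128359
def n174147 : Q := act 3 n83248
theorem D174147 : act 3 n83248 = n174147 := rfl
def n174148 : Q := act 5 n83248
theorem D174148 : act 5 n83248 = n174148 := rfl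
theorem F272943 : act 4 n174148 = n83280 := d9_1 D174148 (iv5 D83280) (iv4 D38359) D38360 D83281 F128358 F128359 D174145 F272941 (iv5 D83282) (iv4 D38363) F117883 (iv4 F58574) F117878 (iv4 F128328)
def n174149 : Q := act 6 n83248
theorem D174149 : act 6 n83248 = n174149 := rfl
def n174150 : Q := act 0 n83249
theorem D174150 : act 0 n83249 = n174150 := rfl
def n174151 : Q := act 1 n83249
theorem D174151 : act 1 n83249 = n174151 := rfl
def n174152 : Q := act 2 n83249
theorem D174152 : act 2 n83249 = n174152 := rfl
def n174153 : Q := act 5 n83249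
theorem D174153 : act 5 n83249 = n174153 := rfl
theorem F272945 : act 3 n174153 = n83250 := d6_1 D174153 (iv5 D83250) D83249
def n174154 : Q := act 7 n83249
theorem D174154 : act 7 n83249 = n174154 := rfl
theorem F272946 : act 3 n174154 = n83251 := d8_1 D174154 (iv7 D83251) D83249
def n174155 : Q := act 0 n83250
theorem D174155 : act 0 n83250 = n174155 := rfl
theorem F272947 : act 5 n174155 = n83259 := d17_3 (iv1 D83248) D83250 D174155 (iv4 D83259) (iv5 D38333) F118787 D18351 D38518 (iv4 F128328)
theorem F272948 : act 4 n174155 = n83273 := d18_3 (iv1 F271637) F271634 D174155 (iv5 D83273) (iv4 D38351) F59200 D75768 D158808 (iv5 F250035)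
theorem F272949 : act 1 n83297 = n174155 := d15_0 (iv0 D174155) F271630 F271628
def n174156 : Q := act 1 n83250
theorem D174156 : act 1 n83250 = n174156 := rfl
theorem F272950 : act 1 n174156 = n83297 := d15_1 D174156 F271573 F271571
theorem F272951 : act 5 n174156 = n83267 := d17_7 (iv1 F127698) (iv5 D38311) (iv1 D18292) D18293 D38315 D83250 D174156 (iv0 F250002) (iv4 D158800)
theorem F272952 : act 4 n174156 = n83265 := d18_7 (iv1 F119074) (iv4 D38359) (iv1 F58999) (iv4 F127745) (iv5 F271635) F271634 D174156 (iv0 F129376) (iv5 D84305)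
def n174157 : Q := act 6 n83250
theorem D174157 : act 6 n83250 = n174157 := rfl
def n174158 : Q := act 6 n83251
theorem D174158 : act 6 n83251 = n174158 := rfl
theorem F272953 : act 4 n174158 = n83252 := d10_1 D174158 (iv6 D83252) (iv4 F128329)
def n174159 : Q := act 0 n83252
theorem D174159 : act 0 n83252 = n174159 := rfl
def n174160 : Q := act 1 n83252
theorem D174160 : act 1 n83252 = n174160 := rfl
def n174162 : Q := act 3 n83253
theorem D174162 : act 3 n83253 = n174162 := rfl
theorem F272955 : act 4 n174162 = n174103 := d20_6 F13540 D8627 D18297 D38332 D83253 D174162 (iv1 D174103) (iv4 D83229) (iv3 D38309) (iv1 D18292)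
def n174163 : Q := act 4 n83253
theorem D174163 : act 4 n83253 = n174163 := rfl
theorem F272956 : act 0 n174163 = n173962 := d20_1 D174163 (iv4 D173962) (iv3 D83182) (iv1 D38292) F29487 F13540 D8627 D18297 D38332 D83253
def n174167 : Q := act 3 n83254
theorem D174167 : act 3 n83254 = n174167 := rfl
theorem F272958 : act 4 n174167 = n155113 := d20_6 F60269 (iv1 F42560) D54945 D119397 (iv1 F188118) D174167 (iv1 D155113) (iv4 F188055) (iv3 D119378) (iv1 F86896)
theorem F272959 : act 0 n161304 = n174167 := d20_10 F272958 (iv1 D155113) (iv4 F188055) (iv3 D119378) (iv1 F86896) (iv3 F116574) (iv4 F124130) (iv1 F124133) (iv4 F129631) D161304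
def n174168 : Q := act 4 n83254
theorem D174168 : act 4 n83254 = n174168 := rfl
theorem F272960 : act 3 n174168 = n162022 := d20_9 (iv4 F255280) (iv1 F255283) (iv4 F198058) F198056 F190551 D73018 F191103 (iv1 F188118) D174168 (iv1 F256033)
theorem F272961 : act 0 n173962 = n174168 := d20_10 (iv4 D174168) (iv1 D83254) (iv4 F121563) (iv3 D57403) F121191 (iv3 F197206) F197207 D162697 F256935 (iv3 F272613)
def n174171 : Q := act 5 n83255
theorem D174171 : act 5 n83255 = n174171 := rfl
theorem F272962 : act 2 n174171 = n83256 := d2_1 D174171 (iv5 D83256) D83255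
theorem F272963 : act 3 n174171 = n83613 := d6_1 D174171 (iv5 D83613) (iv3 F189971)
def n174172 : Q := act 6 n83255
theorem D174172 : act 6 n83255 = n174172 := rfl
theorem F272964 : act 2 n174172 = n83257 := d3_1 D174172 (iv6 D83257) D83255
theorem F272965 : act 3 n174172 = n83614 := d7_1 D174172 (iv6 D83614) (iv3 F189971)
theorem F272966 : act 7 n172576 = n174172 := d4_0 F272964 (iv7 F128333) D172576
theorem F272967 : act 1 n174172 = n172574 := d15_0 (iv0 D172574) F128333 (iv2 F272964)
theorem F272968 : act 1 n172575 = n174172 := d15_1 D172575 (iv7 F272966) (iv2 D172576)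
def n174173 : Q := act 0 n83256
theorem D174173 : act 0 n83256 = n174173 := rfl
def n174174 : Q := act 1 n83256
theorem D174174 : act 1 n83256 = n174174 := rfl
def n174175 : Q := act 4 n83256
theorem D174175 : act 4 n83256 = n174175 := rfl
def n174176 : Q := act 6 n83256
theorem D174176 : act 6 n83256 = n174176 := rfl
def n174177 : Q := act 0 n83257
theorem D174177 : act 0 n83257 = n174177 := rfl
theorem F272970 : act 1 n172576 = n174177 := d15_0 (iv0 D174177) (iv7 F128333) D172576
def n174178 : Q := act 1 n83257
theorem D174178 : act 1 n83257 = n174178 := rfl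
theorem F272971 : act 1 n174178 = n172576 := d15_1 D174178 F272966 F272964
def n174179 : Q := act 3 n83258
theorem D174179 : act 3 n83258 = n174179 := rfl
def n174180 : Q := act 4 n83258
theorem D174180 : act 4 n83258 = n174180 := rfl
theorem F272972 : act 2 n174180 = n174091 := d1_1 D174180 F272896 (iv2 F199054)
theorem F272973 : act 7 n174180 = n174090 := d11_2 (iv7 F199050) D174180 F272891
theorem F272974 : act 0 n174180 = n173225 := d18_2 (iv1 F128334) D174180 (iv4 D173225) (iv5 D82897) F119075 (iv0 D19493) F14308 (iv0 F118788) D38349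
theorem F272975 : act 1 n174180 = n173231 := d18_6 (iv1 F128320) F128319 (iv1 F151493) (iv4 F249174) F249175 D174180 (iv4 D173231) (iv0 F249252) (iv5 D158221)
def n174181 : Q := act 6 n83258
theorem D174181 : act 6 n83258 = n174181 := rfl
theorem F272976 : act 5 n174181 = n84029 := d12_1 D174181 (iv6 D84029) (iv5 F121906) (iv6 F249176) F249175
def n174182 : Q := act 3 n83259
theorem D174182 : act 3 n83259 = n174182 := rfl
def n174183 : Q := act 6 n83259
theorem D174183 : act 6 n83259 = n174183 := rfl
def n174187 : Q := act 3 n83261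
theorem D174187 : act 3 n83261 = n174187 := rfl
theorem F272978 : act 4 n174187 = n162753 := d5_2 D83261 D174187 (iv3 D162753) F128135 (iv3 F128136)
def n174188 : Q := act 5 n83261
theorem D174188 : act 5 n83261 = n174188 := rfl
theorem F272979 : act 0 n174188 = n173257 := d17_2 (iv1 F250014) D174188 (iv5 D173257) (iv4 F127735) (iv5 F63823) D46219 (iv5 F123907) F128908 (iv4 F250013)
theorem F272980 : act 1 n174188 = n173255 := d17_6 F117881 F117870 (iv1 F113118) F113115 D83261 D174188 (iv5 D173255) (iv0 D82911) (iv4 D38149)
def n174189 : Q := act 3 n83262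
theorem D174189 : act 3 n83262 = n174189 := rfl
def n174190 : Q := act 5 n83262
theorem D174190 : act 5 n83262 = n174190 := rfl
theorem F272981 : act 0 n174190 = n124479 := d17_2 D83262 D174190 (iv5 D124479) (iv4 D58092) F117870 (iv0 D34647) D34649 (iv0 F54896) D38337
theorem F272982 : act 1 n174190 = n173252 := d17_6 (iv1 F128366) F128365 F128368 (iv5 F135927) F135928 D174190 (iv5 D173252) F129380 F129379
def n174191 : Q := act 3 n83263
theorem D174191 : act 3 n83263 = n174191 := rfl
def n174192 : Q := act 5 n83263
theorem D174192 : act 5 n83263 = n174192 := rfl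
theorem F272983 : act 0 n174192 = n173252 := d17_2 (iv1 F128336) D174192 (iv5 D173252) (iv4 D82909) (iv5 F58991) F113117 F113115 F59193 D38351
theorem F272984 : act 1 n174192 = n124479 := d17_6 F122129 F122133 (iv1 F151493) F151490 (iv4 F135935) D174192 (iv5 D124479) (iv0 F118558) F113708
def n174193 : Q := act 0 n83264
theorem D174193 : act 0 n83264 = n174193 := rfl
def n174194 : Q := act 1 n83264
theorem D174194 : act 1 n83264 = n174194 := rfl
def n174195 : Q := act 2 n83264
theorem D174195 : act 2 n83264 = n174195 := rfl
def n174196 : Q := act 5 n83264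
theorem D174196 : act 5 n83264 = n174196 := rfl
theorem F272985 : act 3 n174196 = n83265 := d6_1 D174196 (iv5 D83265) D83264
def n174197 : Q := act 6 n83264
theorem D174197 : act 6 n83264 = n174197 := rfl
theorem F272986 : act 3 n174197 = n83266 := d7_1 D174197 (iv6 D83266) D83264
def n174198 : Q := act 0 n83265
theorem D174198 : act 0 n83265 = n174198 := rfl
theorem F272987 : act 5 n174198 = n83278 := d17_1 D174198 (iv1 F128353) D83282 (iv4 F272941) (iv5 D174145) (iv0 D83247) D83250 D174156 F272952
theorem F272988 : act 4 n174198 = n83545 := d18_3 (iv1 F272950) F272952 D174198 (iv5 D83545) (iv4 D38519) D38518 (iv4 F128328) F271577 F271576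
theorem F272989 : act 1 n83273 = n174198 := d15_0 (iv0 D174198) (iv7 F271592) F271591
theorem F272990 : act 7 n174198 = n158892 := d15_2 (iv0 F129377) F272989 F250184
def n174200 : Q := act 5 n83266
theorem D174200 : act 5 n83266 = n174200 := rfl
theorem F272992 : act 0 n174200 = n172081 := d17_2 F260349 D174200 (iv5 D172081) F126973 (iv5 F123894) F123899 (iv5 F135938) F135940 D165091
def n174201 : Q := act 3 n83267
theorem D174201 : act 3 n83267 = n174201 := rfl
def n174202 : Q := act 6 n83267
theorem D174202 : act 6 n83267 = n174202 := rfl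
theorem F272994 : act 4 n174202 = n83268 := d10_1 D174202 (iv6 D83268) D83267
def n174203 : Q := act 0 n83268
theorem D174203 : act 0 n83268 = n174203 := rfl
def n174204 : Q := act 1 n83268
theorem D174204 : act 1 n83268 = n174204 := rfl
def n174205 : Q := act 5 n83268
theorem D174205 : act 5 n83268 = n174205 := rfl
theorem F272995 : act 6 n174205 = n83270 := d12_2 D83268 D174205 (iv5 D83270) (iv6 D38350) D38349
def n174206 : Q := act 7 n83268
theorem D174206 : act 7 n83268 = n174206 := rfl
def n174207 : Q := act 3 n83269
theorem D174207 : act 3 n83269 = n174207 := rfl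
theorem F272997 : act 7 n174207 = n84011 := d8_2 (iv7 F128343) D174207 F128971
def n174209 : Q := act 0 n83272
theorem D174209 : act 0 n83272 = n174209 := rfl
def n174210 : Q := act 1 n83272
theorem D174210 : act 1 n83272 = n174210 := rfl
theorem F272998 : act 4 n162812 = n174210 := d20_6 (iv4 D35670) (iv1 D17288) D17289 D35673 D78265 D162812 (iv1 D174210) F128344 (iv3 D39052) (iv1 F56351)
def n174211 : Q := act 2 n83272
theorem D174211 : act 2 n83272 = n174211 := rfl
theorem F272999 : act 4 n174211 = n84572 := d1_2 (iv4 F128344) D174211 (iv2 D84572)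
def n174212 : Q := act 5 n83272
theorem D174212 : act 5 n83272 = n174212 := rfl
theorem F273000 : act 3 n174212 = n83273 := d6_1 D174212 (iv5 D83273) D83272
def n174213 : Q := act 6 n83273
theorem D174213 : act 6 n83273 = n174213 := rfl
def n174215 : Q := act 4 n83275
theorem D174215 : act 4 n83275 = n174215 := rfl
theorem F273001 : act 6 n174215 = n83277 := d10_2 (iv6 F128348) D174215 (iv4 D83277)
theorem F273002 : act 7 n174215 = n83458 := d11_2 (iv7 F128349) D174215 F128559
def n174216 : Q := act 3 n83277
theorem D174216 : act 3 n83277 = n174216 := rfl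
theorem F273003 : act 4 n174216 = n84573 := d5_2 D83277 D174216 (iv3 D84573) (iv4 D39055) (iv3 F117689)
def n174217 : Q := act 5 n83277
theorem D174217 : act 5 n83277 = n174217 := rfl
theorem F273004 : act 0 n174217 = n158853 := d17_2 F263969 D174217 (iv5 D158853) (iv4 F135947) (iv5 F135941) (iv0 D88653) D88654 (iv0 F135950) D167693
theorem F273005 : act 1 n174217 = n158856 := d17_6 (iv1 F112836) (iv5 F58646) F59651 D38355 D83277 D174217 (iv5 D158856) F248913 F248911
def n174218 : Q := act 3 n83278
theorem D174218 : act 3 n83278 = n174218 := rfl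
theorem F273006 : act 7 n174218 = n158890 := d8_2 (iv7 F128354) D174218 F250180
def n174219 : Q := act 0 n83279
theorem D174219 : act 0 n83279 = n174219 := rfl
def n174220 : Q := act 1 n83279
theorem D174220 : act 1 n83279 = n174220 := rfl
def n174221 : Q := act 2 n83279
theorem D174221 : act 2 n83279 = n174221 := rfl
def n174222 : Q := act 5 n83279
theorem D174222 : act 5 n83279 = n174222 := rfl
def n174223 : Q := act 0 n83280
theorem D174223 : act 0 n83280 = n174223 := rfl
theorem F273008 : act 5 n174223 = n124468 := d17_3 (iv1 F119074) D83280 D174223 F199087 F123907 (iv0 F135970) (iv5 D88656) (iv0 D41391) (iv4 F59905)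
theorem F273009 : act 1 n83282 = n174223 := d15_0 (iv0 D174223) (iv7 F271596) F271595
theorem F273010 : act 2 n174192 = n174223 := d2_3 F273008 (iv2 F199088) D174192
theorem F273011 : act 7 n174190 = n174223 := d13_0 F273008 F199086 D174190
def n174224 : Q := act 1 n83280
theorem D174224 : act 1 n83280 = n174224 := rfl
theorem F273012 : act 1 n174224 = n83282 := d15_1 D174224 (iv7 F199112) F199111
theorem F273013 : act 7 n174224 = n174192 := d15_2 (iv0 D174223) D174224 F273010
theorem F273014 : act 5 n174224 = n124467 := d17_7 D58056 F117715 F59601 (iv5 D38360) D38359 D83280 D174224 (iv0 D124467) (iv4 D58058)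
theorem F273015 : act 2 n174190 = n174224 := d2_3 F273014 (iv2 F199082) D174190
def n174225 : Q := act 6 n83280
theorem D174225 : act 6 n83280 = n174225 := rfl
def n174226 : Q := act 3 n83281
theorem D174226 : act 3 n83281 = n174226 := rfl
theorem F273016 : act 5 n174226 = n83538 := d6_2 (iv5 F128358) D174226 (iv3 D83538)
theorem F273018 : act 7 n174226 = n158281 := d8_2 (iv7 F128357) D174226 F249362
def n174227 : Q := act 6 n83282
theorem D174227 : act 6 n83282 = n174227 := rfl
def n174229 : Q := act 1 n83283
theorem D174229 : act 1 n83283 = n174229 := rfl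
theorem F273023 : act 4 n174229 = n98826 := d18_7 (iv1 F152314) F269664 (iv1 D171707) F126739 F117940 (iv4 F128362) D174229 (iv0 F152368) (iv5 D98816)
theorem F273025 : act 6 n157998 = n174229 := d10_0 F273023 F152366 (iv4 F248904)
def n174231 : Q := act 0 n83284
theorem D174231 : act 0 n83284 = n174231 := rfl
def n174232 : Q := act 1 n83284
theorem D174232 : act 1 n83284 = n174232 := rfl
def n174233 : Q := act 2 n83284
theorem D174233 : act 2 n83284 = n174233 := rfl
def n174234 : Q := act 5 n83284
theorem D174234 : act 5 n83284 = n174234 := rfl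
theorem F273026 : act 3 n174234 = n83285 := d6_1 D174234 (iv5 D83285) D83284
def n174235 : Q := act 0 n83285
theorem D174235 : act 0 n83285 = n174235 := rfl
theorem F273027 : act 5 n174235 = n124466 := d17_3 D38365 D83285 D174235 (iv4 D124466) F117710 F113058 (iv5 D38360) (iv0 D18305) D18307
theorem F273028 : act 1 n83288 = n174235 := d15_0 (iv0 D174235) (iv7 F271609) F271608
theorem F273029 : act 2 n174188 = n174235 := d2_3 F273027 F199075 D174188
theorem F273030 : act 7 n158810 = n174235 := d13_0 F273027 F199077 D158810
def n174236 : Q := act 1 n83285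
theorem D174236 : act 1 n83285 = n174236 := rfl
theorem F273031 : act 1 n174236 = n83288 := d15_1 D174236 (iv7 F271604) F271603
theorem F273032 : act 7 n174236 = n174188 := d15_2 (iv0 D174235) D174236 F273029
theorem F273033 : act 5 n174236 = n124464 := d17_7 D88648 F135927 F122140 (iv5 F122133) (iv4 F122131) D83285 D174236 F199063 (iv4 D88650)
theorem F273034 : act 2 n158810 = n174236 := d2_3 F273033 F199059 D158810
def n174237 : Q := act 6 n83285
theorem D174237 : act 6 n83285 = n174237 := rfl
def n174238 : Q := act 0 n83286
theorem D174238 : act 0 n83286 = n174238 := rfl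
def n174239 : Q := act 1 n83286
theorem D174239 : act 1 n83286 = n174239 := rfl
def n174240 : Q := act 2 n83286
theorem D174240 : act 2 n83286 = n174240 := rfl
def n174241 : Q := act 4 n83286
theorem D174241 : act 4 n83286 = n174241 := rfl
theorem F273035 : act 3 n174241 = n84368 := d5_1 D174241 F146919 (iv3 F146916) (iv4 D83287) D83286
theorem F273036 : act 7 n174241 = n84531 := d11_2 F271602 D174241 (iv4 F271601)
def n174242 : Q := act 5 n83286
theorem D174242 : act 5 n83286 = n174242 := rfl
theorem F273037 : act 3 n174242 = n83288 := d6_1 D174242 (iv5 D83288) D83286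
def n174244 : Q := act 6 n83287
theorem D174244 : act 6 n83287 = n174244 := rfl
theorem F273040 : act 4 n174244 = n83289 := d10_1 D174244 (iv6 D83289) D83287
theorem F273041 : act 5 n174244 = n98277 := d12_1 D174244 (iv6 D98277) (iv5 D45977) D45978 (iv5 F128365)
theorem F273042 : act 7 n174244 = n98816 := d14_2 (iv7 F128364) D174244 F152354 F128515 (iv6 F63880)
theorem F273043 : act 0 n174244 = n98827 := d21_10 (iv5 D98827) (iv1 F72902) (iv5 F122351) (iv6 F135995) (iv1 F140010) F140013 (iv5 F151490) (iv1 F151492) (iv5 F128365) D174244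
def n174245 : Q := act 6 n83288
theorem D174245 : act 6 n83288 = n174245 := rfl
def n174247 : Q := act 7 n83289
theorem D174247 : act 7 n83289 = n174247 := rfl
theorem F273047 : act 4 n174247 = n98816 := d11_1 D174247 (iv7 F273042) F273040
theorem F273048 : act 1 n158846 = n174247 := d15_1 (iv0 F271613) (iv7 D174247) (iv2 F271611)
theorem F273049 : act 1 n174247 = n173079 := d15_1 F273048 F271306 F267141
def n174248 : Q := act 0 n83290
theorem D174248 : act 0 n83290 = n174248 := rfl
theorem F273050 : act 2 n83294 = n174248 := d15_3 (iv0 D174248) (iv0 D83290) D83294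
theorem F273051 : act 7 n174248 = n83292 := d4_2 D83294 F273050 (iv2 D83292)
theorem F273052 : act 1 n83291 = n174248 := d15_1 D83291 F273051 (iv2 D83292)
def n174249 : Q := act 2 n83290
theorem D174249 : act 2 n83290 = n174249 := rfl
theorem F273053 : act 7 n83291 = n174249 := d15_2 (iv0 D83290) D83291 (iv2 D174249)
def n174250 : Q := act 3 n83290
theorem D174250 : act 3 n83290 = n174250 := rfl
def n174251 : Q := act 4 n83290
theorem D174251 : act 4 n83290 = n174251 := rfl
def n174252 : Q := act 5 n83290
theorem D174252 : act 5 n83290 = n174252 := rfl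
def n174253 : Q := act 6 n83290
theorem D174253 : act 6 n83290 = n174253 := rfl
def n174254 : Q := act 7 n83290
theorem D174254 : act 7 n83290 = n174254 := rfl
theorem F273054 : act 2 n174254 = n83291 := d4_1 D174254 F273053 (iv2 D174249)
def n174255 : Q := act 3 n83291
theorem D174255 : act 3 n83291 = n174255 := rfl
def n174256 : Q := act 4 n83291
theorem D174256 : act 4 n83291 = n174256 := rfl
def n174257 : Q := act 5 n83291
theorem D174257 : act 5 n83291 = n174257 := rfl
def n174258 : Q := act 6 n83291
theorem D174258 : act 6 n83291 = n174258 := rfl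
def n174259 : Q := act 0 n83292
theorem D174259 : act 0 n83292 = n174259 := rfl
theorem F273055 : act 1 n83294 = n174259 := d15_0 (iv0 D174259) (iv7 F273051) (iv2 F273050)
def n174260 : Q := act 1 n83292
theorem D174260 : act 1 n83292 = n174260 := rfl
theorem F273056 : act 1 n174260 = n83294 := d15_1 D174260 (iv7 D83294) D83292
def n174261 : Q := act 5 n83292
theorem D174261 : act 5 n83292 = n174261 := rfl
theorem F273057 : act 2 n174261 = n83293 := d2_1 D174261 (iv5 D83293) D83292
def n174262 : Q := act 0 n83293
theorem D174262 : act 0 n83293 = n174262 := rfl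
def n174263 : Q := act 1 n83293
theorem D174263 : act 1 n83293 = n174263 := rfl
def n174264 : Q := act 4 n83293
theorem D174264 : act 4 n83293 = n174264 := rfl
def n174265 : Q := act 6 n83293
theorem D174265 : act 6 n83293 = n174265 := rfl
theorem F273058 : act 3 n174265 = n83298 := d7_1 D174265 (iv6 D83298) (iv3 F128370)
theorem F273059 : act 5 n174265 = n158063 := d12_1 D174265 (iv6 D158063) (iv5 D75289) (iv6 F59228) D83293
def n174266 : Q := act 7 n83293
theorem D174266 : act 7 n83293 = n174266 := rfl
theorem F273060 : act 3 n174266 = n83299 := d8_1 D174266 (iv7 D83299) (iv3 F128370)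
theorem F273061 : act 5 n174266 = n83294 := d13_1 D174266 (iv7 D83294) D83293
def n174267 : Q := act 6 n83294
theorem D174267 : act 6 n83294 = n174267 := rfl
theorem F273062 : act 3 n174267 = n83300 := d7_1 D174267 (iv6 D83300) (iv3 F128371)
def n174268 : Q := act 3 n83295
theorem D174268 : act 3 n83295 = n174268 := rfl
def n174269 : Q := act 6 n83295
theorem D174269 : act 6 n83295 = n174269 := rfl
def n174270 : Q := act 3 n83296
theorem D174270 : act 3 n83296 = n174270 := rfl
def n174271 : Q := act 6 n83296
theorem D174271 : act 6 n83296 = n174271 := rfl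
def n174272 : Q := act 3 n83297
theorem D174272 : act 3 n83297 = n174272 := rfl
def n174273 : Q := act 6 n83297
theorem D174273 : act 6 n83297 = n174273 := rfl
theorem F273064 : act 4 n174273 = n83298 := d10_1 D174273 (iv6 D83298) D83297
def n174274 : Q := act 0 n83298
theorem D174274 : act 0 n83298 = n174274 := rfl
def n174275 : Q := act 1 n83298
theorem D174275 : act 1 n83298 = n174275 := rfl
def n174276 : Q := act 7 n83298
theorem D174276 : act 7 n83298 = n174276 := rfl
theorem F273065 : act 5 n174276 = n158072 := d13_1 D174276 (iv7 D158072) (iv5 F128372)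
def n174277 : Q := act 6 n83299
theorem D174277 : act 6 n83299 = n174277 := rfl
def n174279 : Q := act 6 n83301
theorem D174279 : act 6 n83301 = n174279 := rfl
theorem F273067 : act 2 n174279 = n83302 := d3_1 D174279 (iv6 D83302) D83301
theorem F273068 : act 3 n174279 = n83313 := d7_1 D174279 (iv6 D83313) (iv3 F128376)
theorem F273070 : act 0 n119689 = n174279 := d20_4 F188696 (iv1 F87059) D55068 D119689 F273068 F128415 D83362 (iv4 F188757) (iv3 D119663) (iv1 F188699)
def n174280 : Q := act 0 n83302
theorem D174280 : act 0 n83302 = n174280 := rfl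
theorem F273071 : act 3 n174280 = n119647 := d20_5 (iv4 F118379) (iv1 D38374) (iv4 F59235) (iv3 F128382) D174280 (iv4 D119647) (iv1 F87058) (iv4 F87081) F87080 (iv1 F88668)
theorem F273072 : act 4 n174280 = n128110 := d20_8 (iv4 D79840) (iv1 D36368) (iv4 F57099) (iv3 D36357) (iv1 F118386) (iv3 F119261) (iv4 F128383) D174280 (iv3 D128110) (iv1 F188478)
theorem F273073 : act 6 n155522 = n174280 := d7_0 F273071 F188705 D155522
theorem F273074 : act 7 n119689 = n174280 := d8_0 F273071 F188706 D119689
def n174281 : Q := act 1 n83302
theorem D174281 : act 1 n83302 = n174281 := rfl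
def n174282 : Q := act 5 n83302
theorem D174282 : act 5 n83302 = n174282 := rfl
theorem F273075 : act 3 n174282 = n83303 := d6_1 D174282 (iv5 D83303) (iv3 F128382)
def n174283 : Q := act 7 n83302
theorem D174283 : act 7 n83302 = n174283 := rfl
theorem F273076 : act 3 n174283 = n83304 := d8_1 D174283 (iv7 D83304) (iv3 F128382)
theorem F273079 : act 1 n119689 = n174283 := d15_1 (iv0 F273070) (iv7 D174283) (iv2 F273067)
def n174284 : Q := act 4 n83303
theorem D174284 : act 4 n83303 = n174284 := rfl
theorem F273080 : act 2 n174284 = n83330 := d1_1 D174284 (iv4 D83330) (iv2 F128384)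
theorem F273081 : act 1 n174284 = n167368 := d18_6 (iv1 F88668) (iv4 F118379) (iv1 D38374) (iv4 F59235) D83303 D174284 (iv4 D167368) (iv0 F123406) F88757
def n174285 : Q := act 3 n83308
theorem D174285 : act 3 n83308 = n174285 := rfl
theorem F273083 : act 6 n174285 = n121575 := d7_2 (iv6 F128402) D174285 (iv3 D121575)
def n174287 : Q := act 0 n83310
theorem D174287 : act 0 n83310 = n174287 := rfl
def n174288 : Q := act 1 n83310
theorem D174288 : act 1 n83310 = n174288 := rfl
def n174289 : Q := act 5 n83310
theorem D174289 : act 5 n83310 = n174289 := rfl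
theorem F273087 : act 3 n174289 = n101604 := d6_1 D174289 (iv5 D101604) (iv3 F128408)
def n174290 : Q := act 7 n83310
theorem D174290 : act 7 n83310 = n174290 := rfl
theorem F273088 : act 3 n174290 = n101605 := d8_1 D174290 (iv7 D101605) (iv3 F128408)
def n174291 : Q := act 6 n83311
theorem D174291 : act 6 n83311 = n174291 := rfl
def n174292 : Q := act 0 n83312
theorem D174292 : act 0 n83312 = n174292 := rfl
def n174293 : Q := act 1 n83312
theorem D174293 : act 1 n83312 = n174293 := rfl
def n174294 : Q := act 5 n83312
theorem D174294 : act 5 n83312 = n174294 := rfl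
def n174295 : Q := act 7 n83312
theorem D174295 : act 7 n83312 = n174295 := rfl
def n174296 : Q := act 0 n83313
theorem D174296 : act 0 n83313 = n174296 := rfl
theorem F273092 : act 4 n174296 = n83555 := d20_8 F123237 (iv1 F124264) (iv4 F130352) (iv3 F243907) (iv1 D155089) F110315 (iv4 F128415) D174296 (iv3 D83555) (iv1 F123241)
theorem F273093 : act 0 n174296 = n83318 := d20_7 F118373 (iv1 D19513) F14330 (iv3 F29537) D38523 D83555 (iv4 F273092) F128419 F59274 (iv1 F59013)
def n174297 : Q := act 1 n83313
theorem D174297 : act 1 n83313 = n174297 := rfl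
theorem F273094 : act 1 n174297 = n83318 := d15_1 D174297 (iv7 D83318) (iv2 F128414)
def n174298 : Q := act 5 n83313
theorem D174298 : act 5 n83313 = n174298 := rfl
theorem F273096 : act 2 n174298 = n83317 := d2_1 D174298 (iv5 D83317) (iv2 F128414)
def n174299 : Q := act 7 n83313
theorem D174299 : act 7 n83313 = n174299 := rfl
theorem F273097 : act 2 n174299 = n83318 := d4_1 D174299 (iv7 D83318) (iv2 F128414)
theorem F273098 : act 4 n174299 = n83365 := d11_1 D174299 (iv7 D83365) (iv4 F128415)
theorem F273099 : act 6 n174299 = n161965 := d14_1 D174299 (iv7 F271476) (iv6 D173199) F127657 D83313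
theorem F273100 : act 1 n83316 = n174299 := d15_1 D83316 (iv7 D174299) F128414
theorem F273101 : act 1 n174299 = n83315 := d15_0 (iv0 D83315) D83318 (iv2 F273097)
def n174300 : Q := act 0 n83314
theorem D174300 : act 0 n83314 = n174300 := rfl
def n174301 : Q := act 1 n83314
theorem D174301 : act 1 n83314 = n174301 := rfl
def n174302 : Q := act 5 n83314
theorem D174302 : act 5 n83314 = n174302 := rfl
theorem F273102 : act 3 n174302 = n83321 := d6_1 D174302 (iv5 D83321) (iv3 F128416)
theorem F273103 : act 6 n174302 = n83317 := d12_2 D83314 D174302 (iv5 D83317) (iv6 D38381) D38380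
def n174303 : Q := act 7 n83314
theorem D174303 : act 7 n83314 = n174303 := rfl
def n174304 : Q := act 2 n83315
theorem D174304 : act 2 n83315 = n174304 := rfl
theorem F273105 : act 7 n83316 = n174304 := d15_2 (iv0 D83315) D83316 (iv2 D174304)
def n174305 : Q := act 3 n83315
theorem D174305 : act 3 n83315 = n174305 := rfl
def n174306 : Q := act 4 n83315
theorem D174306 : act 4 n83315 = n174306 := rfl
def n174307 : Q := act 5 n83315
theorem D174307 : act 5 n83315 = n174307 := rfl
def n174308 : Q := act 6 n83315
theorem D174308 : act 6 n83315 = n174308 := rfl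
def n174309 : Q := act 7 n83315
theorem D174309 : act 7 n83315 = n174309 := rfl
theorem F273107 : act 2 n174309 = n83316 := d4_1 D174309 F273105 (iv2 D174304)
def n174310 : Q := act 3 n83316
theorem D174310 : act 3 n83316 = n174310 := rfl
theorem F273108 : act 4 n174310 = n168167 := d5_2 F263188 D174310 (iv3 D168167) (iv4 F252831) D167101
def n174311 : Q := act 5 n83316
theorem D174311 : act 5 n83316 = n174311 := rfl
def n174312 : Q := act 6 n83316
theorem D174312 : act 6 n83316 = n174312 := rfl
def n174313 : Q := act 0 n83317
theorem D174313 : act 0 n83317 = n174313 := rfl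
def n174314 : Q := act 1 n83317
theorem D174314 : act 1 n83317 = n174314 := rfl
def n174315 : Q := act 4 n83317
theorem D174315 : act 4 n83317 = n174315 := rfl
def n174316 : Q := act 7 n83317
theorem D174316 : act 7 n83317 = n174316 := rfl
theorem F273110 : act 3 n174316 = n83331 := d8_1 D174316 (iv7 D83331) (iv3 F128417)
theorem F273111 : act 5 n174316 = n83318 := d13_1 D174316 (iv7 D83318) D83317
def n174327 : Q := act 0 n83321
theorem D174327 : act 0 n83321 = n174327 := rfl
def n174328 : Q := act 1 n83321
theorem D174328 : act 1 n83321 = n174328 := rfl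
def n174329 : Q := act 4 n83321
theorem D174329 : act 4 n83321 = n174329 := rfl
theorem F273114 : act 6 n174329 = n83330 := d10_2 (iv6 F128421) D174329 (iv4 D83330)
def n174330 : Q := act 7 n83321
theorem D174330 : act 7 n83321 = n174330 := rfl
def n174331 : Q := act 0 n83323
theorem D174331 : act 0 n83323 = n174331 := rfl
theorem F273116 : act 2 n121531 = n174331 := d15_3 (iv0 D174331) (iv0 F197138) (iv7 F193918)
theorem F273119 : act 6 n174331 = n161416 := d3_2 F198059 F273116 (iv2 F255275)
theorem F273120 : act 7 n174331 = n83491 := d4_2 (iv7 F193918) F273116 F128595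
def n174333 : Q := act 5 n83323
theorem D174333 : act 5 n83323 = n174333 := rfl
theorem F273128 : act 7 n174333 = n121533 := d13_2 (iv7 F128422) D174333 (iv5 D121533)
def n174334 : Q := act 6 n83323
theorem D174334 : act 6 n83323 = n174334 := rfl
theorem F273129 : act 3 n174334 = n83325 := d7_1 D174334 (iv6 D83325) D83323
def n174338 : Q := act 1 n83325
theorem D174338 : act 1 n83325 = n174338 := rfl
theorem F273139 : act 4 n174338 = n83339 := d17_9 (iv1 D83339) F127256 (iv1 D82624) (iv5 D37960) (iv4 F56043) D77367 D161155 (iv5 F254827) D174338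
theorem F273140 : act 6 n161175 = n174338 := d21_3 D35323 D77374 D161175 (iv1 D174338) (iv6 D83325) D83324 (iv1 F254852) (iv5 D161172) (iv6 D77373) (iv1 D35322)
def n174340 : Q := act 1 n83326
theorem D174340 : act 1 n83326 = n174340 := rfl
theorem F273145 : act 4 n149164 = n174340 := d20_0 (iv1 D174340) F128427 (iv3 D39125) (iv1 D18573) (iv3 F24954) F24955 D15381 D32492 D70005 D149164
theorem F273146 : act 3 n84736 = n149164 := d20_5 F13632 D8728 D18578 D39147 D84736 F273145 (iv1 D174340) F128427 (iv3 D39125) (iv1 D18573)
def n174345 : Q := act 6 n83327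
theorem D174345 : act 6 n83327 = n174345 := rfl
def n174351 : Q := act 7 n83330
theorem D174351 : act 7 n83330 = n174351 := rfl
theorem F273164 : act 4 n174351 = n83331 := d11_1 D174351 (iv7 D83331) D83330
theorem F273165 : act 1 n167368 = n174351 := d15_1 F273081 (iv7 D174351) (iv2 F273080)
def n174352 : Q := act 6 n83331
theorem D174352 : act 6 n83331 = n174352 := rfl
def n174353 : Q := act 6 n83332
theorem D174353 : act 6 n83332 = n174353 := rfl
theorem F273167 : act 3 n174353 = n83337 := d7_1 D174353 (iv6 D83337) (iv3 F128435)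
theorem F273170 : act 0 n174353 = n160376 := d21_4 F63580 F120716 D83332 D174353 (iv6 D160376) (iv5 F197470) (iv1 F197472) (iv5 F199300) (iv6 D124605) F121491
def n174356 : Q := act 3 n83336
theorem D174356 : act 3 n83336 = n174356 := rfl
theorem F273179 : act 7 n174356 = n162114 := d8_2 (iv7 F128442) D174356 F256209
def n174357 : Q := act 6 n83336
theorem D174357 : act 6 n83336 = n174357 := rfl
theorem F273181 : act 4 n174357 = n83337 := d10_1 D174357 (iv6 D83337) D83336
def n174359 : Q := act 6 n83341
theorem D174359 : act 6 n83341 = n174359 := rfl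
def n174367 : Q := act 2 n83347
theorem D174367 : act 2 n83347 = n174367 := rfl
theorem F273201 : act 4 n174367 = n83472 := d1_2 (iv4 F128462) D174367 (iv2 D83472)
def n174368 : Q := act 5 n83347
theorem D174368 : act 5 n83347 = n174368 := rfl
theorem F273203 : act 3 n174368 = n83348 := d6_1 D174368 (iv5 D83348) D83347
def n174373 : Q := act 7 n83348
theorem D174373 : act 7 n83348 = n174373 := rfl
theorem F273210 : act 5 n174373 = n83349 := d13_1 D174373 (iv7 D83349) D83348
def n174375 : Q := act 6 n83351
theorem D174375 : act 6 n83351 = n174375 := rfl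
theorem F273218 : act 2 n174375 = n101463 := d3_1 D174375 (iv6 D101463) (iv2 F128473)
theorem F273219 : act 3 n174375 = n166908 := d7_1 D174375 (iv6 D166908) F128472
def n174376 : Q := act 0 n83352
theorem D174376 : act 0 n83352 = n174376 := rfl
theorem F273220 : act 4 n174376 = n87394 := d20_8 (iv4 F156061) (iv1 F156064) F232509 F155420 (iv1 D41640) (iv3 F64257) (iv4 F128476) D174376 (iv3 D87394) (iv1 F133435)
theorem F273221 : act 1 n85072 = n174376 := d15_0 (iv0 D174376) (iv7 F272219) F272216
def n174377 : Q := act 1 n83352
theorem D174377 : act 1 n83352 = n174377 := rfl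
theorem F273222 : act 1 n174377 = n85072 := d15_1 D174377 F187917 F187914
def n174378 : Q := act 5 n83352
theorem D174378 : act 5 n83352 = n174378 := rfl
theorem F273223 : act 3 n174378 = n83355 := d6_1 D174378 (iv5 D83355) (iv3 F128475)
def n174379 : Q := act 0 n83355
theorem D174379 : act 0 n83355 = n174379 := rfl
theorem F273224 : act 1 n84148 = n174379 := d15_0 (iv0 D174379) (iv7 F272221) F272220
def n174380 : Q := act 4 n83355
theorem D174380 : act 4 n83355 = n174380 := rfl
def n174381 : Q := act 4 n83358
theorem D174381 : act 4 n83358 = n174381 := rfl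
theorem F273225 : act 2 n174381 = n84201 := d1_1 D174381 F129254 (iv2 F270139)
theorem F273226 : act 7 n174381 = n161515 := d11_2 F270142 D174381 (iv4 F270141)
theorem F273228 : act 1 n161514 = n174381 := d15_1 D161514 F273226 (iv2 D161515)
def n174382 : Q := act 5 n83358
theorem D174382 : act 5 n83358 = n174382 := rfl
theorem F273230 : act 2 n174382 = n84212 := d2_1 D174382 (iv5 D84212) (iv2 F270139)
def n174383 : Q := act 6 n83358
theorem D174383 : act 6 n83358 = n174383 := rfl
theorem F273231 : act 2 n174383 = n84213 := d3_1 D174383 (iv6 D84213) (iv2 F270139)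
theorem F273232 : act 5 n172813 = n174383 := d21_2 D82738 D172813 (iv6 D174383) (iv1 D83358) (iv6 D38404) (iv5 F87067) (iv1 D38026) (iv5 D18203) D18204 D38029
def n174384 : Q := act 0 n83359
theorem D174384 : act 0 n83359 = n174384 := rfl
def n174385 : Q := act 1 n83359
theorem D174385 : act 1 n83359 = n174385 := rfl
def n174386 : Q := act 4 n83359
theorem D174386 : act 4 n83359 = n174386 := rfl
def n174387 : Q := act 7 n83359
theorem D174387 : act 7 n83359 = n174387 := rfl
theorem F273233 : act 5 n174387 = n83360 := d13_1 D174387 (iv7 D83360) D83359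
def n174388 : Q := act 0 n83361
theorem D174388 : act 0 n83361 = n174388 := rfl
def n174389 : Q := act 1 n83361
theorem D174389 : act 1 n83361 = n174389 := rfl
theorem F273234 : act 1 n174389 = n83372 := d15_1 D174389 (iv7 D83372) (iv2 F128477)
def n174390 : Q := act 5 n83361
theorem D174390 : act 5 n83361 = n174390 := rfl
theorem F273235 : act 2 n174390 = n83371 := d2_1 D174390 (iv5 D83371) (iv2 F128477)
theorem F273236 : act 3 n174390 = n118487 := d6_1 D174390 (iv5 D118487) (iv3 F128478)
theorem F273237 : act 6 n174390 = n83364 := d12_2 D83361 D174390 (iv5 D83364) (iv6 D38406) D38405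
def n174391 : Q := act 7 n83361
theorem D174391 : act 7 n83361 = n174391 := rfl
theorem F273238 : act 2 n174391 = n83372 := d4_1 D174391 (iv7 D83372) (iv2 F128477)
theorem F273239 : act 3 n174391 = n118488 := d8_1 D174391 (iv7 D118488) (iv3 F128478)
theorem F273240 : act 4 n174391 = n158314 := d11_1 D174391 (iv7 D158314) (iv4 F128479)
theorem F273241 : act 6 n174391 = n152627 := d14_1 D174391 (iv7 D152627) (iv6 D72000) (iv7 F59257) D83361
theorem F273242 : act 1 n83372 = n174388 := d15_0 (iv0 D174388) D174391 F273238
theorem F273243 : act 1 n83370 = n174391 := d15_1 D83370 (iv7 D174391) F128477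
theorem F273244 : act 1 n174391 = n83369 := d15_0 (iv0 D83369) D83372 (iv2 F273238)
def n174392 : Q := act 5 n83362
theorem D174392 : act 5 n83362 = n174392 := rfl
theorem F273245 : act 2 n174392 = n83376 := d2_1 D174392 (iv5 D83376) (iv2 F188759)
theorem F273246 : act 3 n174392 = n84946 := d6_1 D174392 (iv5 D84946) (iv3 F187965)
theorem F273247 : act 7 n174392 = n83381 := d13_2 F188760 D174392 (iv5 D83381)
def n174393 : Q := act 3 n83363
theorem D174393 : act 3 n83363 = n174393 := rfl
theorem F273248 : act 2 n174393 = n84949 := d0_1 D174393 (iv3 D84949) (iv2 F155235) F188763 (iv2 F188761)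
theorem F273249 : act 7 n174393 = n83374 := d8_2 (iv7 F188762) D174393 (iv3 D83374)
theorem F273250 : act 4 n174393 = n100728 := d20_6 (iv4 D38165) (iv1 F29437) (iv4 F29522) (iv3 F59274) (iv1 F128480) D174393 (iv1 D100728) F74194 F59043 F118119
theorem E24469 : n149191 = n100728 := ((c1_1 F273250 (iv2 D149191) (iv4 F130286) (iv2 F273248))).symm
theorem F273251 : act 2 n100728 = n70024 := (sb E24469 (iv2 D149191))
def n174394 : Q := act 4 n83363
theorem D174394 : act 4 n83363 = n174394 := rfl
theorem F273252 : act 2 n174394 = n83380 := d1_1 D174394 (iv4 D83380) (iv2 F188761)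
theorem F273253 : act 7 n174394 = n83375 := d11_2 (iv7 F188762) D174394 (iv4 D83375)
def n174395 : Q := act 5 n83363
theorem D174395 : act 5 n83363 = n174395 := rfl
theorem F273254 : act 2 n174395 = n83381 := d2_1 D174395 (iv5 D83381) (iv2 F188761)
theorem F273255 : act 7 n174395 = n83376 := d13_2 (iv7 F188762) D174395 (iv5 D83376)
def n174396 : Q := act 6 n83363
theorem D174396 : act 6 n83363 = n174396 := rfl
theorem F273256 : act 2 n174396 = n83382 := d3_1 D174396 (iv6 D83382) (iv2 F188761)
theorem F273257 : act 7 n174396 = n173709 := d14_2 (iv7 F188762) D174396 (iv6 F272257) F271091 (iv6 D83377)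
theorem E24470 : n173710 = n83382 := ((c15_4 F272261 F272256 (iv7 F273257) F273256)).symm
theorem F273258 : act 0 n83382 = n83075 := (sb E24470 (iv1 D173710))
theorem F273259 : act 1 n83382 = n84171 := (sb E24470 F272261)
theorem F273260 : act 0 n83717 = n128087 := d20_1 (iv4 F128776) F206150 (iv3 F188772) F273258 (iv3 D83075) (iv4 D38233) (iv1 F29598) (iv4 F59476) (iv3 F130280) (iv1 D83725)
theorem F273261 : act 0 n119341 = n85091 := d18_2 F273260 F206150 F130430 F130138 D75872 F229961 F205684 (iv0 F227856) F227855
theorem F273262 : act 1 n83717 = n86008 := d15_1 (iv0 F273260) (iv7 F155273) (iv2 F206149)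
theorem F273263 : act 1 n86008 = n166283 := d15_1 F273262 F261827 F206457
def n174397 : Q := act 0 n83364
theorem D174397 : act 0 n83364 = n174397 := rfl
def n174398 : Q := act 1 n83364
theorem D174398 : act 1 n83364 = n174398 := rfl
theorem F273264 : act 1 n174398 = n83386 := d15_1 D174398 (iv7 D83386) (iv2 F128481)
theorem F273265 : act 5 n158324 = n174398 := d21_6 (iv5 F110292) (iv1 F110294) (iv5 D34540) D34541 D75482 D158324 (iv1 D174398) (iv5 D83364) (iv6 D38406) (iv1 F58955)
def n174399 : Q := act 4 n83364
theorem D174399 : act 4 n83364 = n174399 := rfl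
theorem F273266 : act 2 n174399 = n83385 := d1_1 D174399 (iv4 D83385) (iv2 F128481)
def n174400 : Q := act 7 n83364
theorem D174400 : act 7 n83364 = n174400 := rfl
theorem F273267 : act 2 n174400 = n83386 := d4_1 D174400 (iv7 D83386) (iv2 F128481)
theorem F273268 : act 5 n174400 = n83365 := d13_1 D174400 (iv7 D83365) D83364
theorem F273269 : act 1 n83386 = n174397 := d15_0 (iv0 D174397) D174400 F273267
theorem F273270 : act 1 n83384 = n174400 := d15_1 D83384 (iv7 D174400) F128481
theorem F273271 : act 1 n174400 = n83383 := d15_0 (iv0 D83383) D83386 (iv2 F273267)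
def n174402 : Q := act 0 n83367
theorem D174402 : act 0 n83367 = n174402 := rfl
def n174403 : Q := act 1 n83367
theorem D174403 : act 1 n83367 = n174403 := rfl
theorem F273275 : act 1 n174403 = n172766 := d15_1 D174403 (iv7 D172766) (iv2 F128495)
def n174404 : Q := act 5 n83367
theorem D174404 : act 5 n83367 = n174404 := rfl
theorem F273276 : act 2 n174404 = n172765 := d2_1 D174404 (iv5 D172765) (iv2 F128495)
theorem F273277 : act 6 n174404 = n158311 := d12_2 D83367 D174404 (iv5 D158311) (iv6 D75478) (iv5 F59263)
def n174405 : Q := act 7 n83367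
theorem D174405 : act 7 n83367 = n174405 := rfl
theorem F273278 : act 2 n174405 = n172766 := d4_1 D174405 (iv7 D172766) (iv2 F128495)
theorem F273280 : act 1 n172766 = n174402 := d15_0 (iv0 D174402) D174405 F273278
theorem F273281 : act 1 n172764 = n174405 := d15_1 D172764 (iv7 D174405) F128495
theorem F273282 : act 1 n174405 = n172763 := d15_0 (iv0 D172763) D172766 (iv2 F273278)
def n174410 : Q := act 2 n83369
theorem D174410 : act 2 n83369 = n174410 := rfl
theorem F273293 : act 7 n83370 = n174410 := d15_2 (iv0 D83369) D83370 (iv2 D174410)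
def n174411 : Q := act 3 n83369
theorem D174411 : act 3 n83369 = n174411 := rfl
theorem F273294 : act 4 n167067 = n174411 := d20_2 (iv4 F123204) D167067 (iv3 D174411) (iv1 F273244) F273239 (iv4 F236160) (iv1 F236162) F205749 F236164 (iv1 D80217)
def n174412 : Q := act 4 n83369
theorem D174412 : act 4 n83369 = n174412 := rfl
def n174413 : Q := act 5 n83369
theorem D174413 : act 5 n83369 = n174413 := rfl
def n174414 : Q := act 6 n83369
theorem D174414 : act 6 n83369 = n174414 := rfl
def n174415 : Q := act 7 n83369
theorem D174415 : act 7 n83369 = n174415 := rfl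
theorem F273295 : act 2 n174415 = n83370 := d4_1 D174415 F273293 (iv2 D174410)
def n174416 : Q := act 3 n83370
theorem D174416 : act 3 n83370 = n174416 := rfl
theorem F273296 : act 4 n174416 = n150453 := d20_6 (iv4 F155530) (iv1 F236163) F236160 (iv3 F273239) (iv1 F273243) D174416 (iv1 D150453) F107443 F59386 D79011
def n174417 : Q := act 4 n83370
theorem D174417 : act 4 n83370 = n174417 := rfl
def n174418 : Q := act 5 n83370
theorem D174418 : act 5 n83370 = n174418 := rfl
def n174419 : Q := act 6 n83370
theorem D174419 : act 6 n83370 = n174419 := rfl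
def n174420 : Q := act 0 n83371
theorem D174420 : act 0 n83371 = n174420 := rfl
def n174421 : Q := act 1 n83371
theorem D174421 : act 1 n83371 = n174421 := rfl
def n174422 : Q := act 4 n83371
theorem D174422 : act 4 n83371 = n174422 := rfl
theorem F273297 : act 6 n174422 = n83385 := d10_2 (iv6 F128499) D174422 (iv4 D83385)
def n174423 : Q := act 7 n83371
theorem D174423 : act 7 n83371 = n174423 := rfl
theorem F273298 : act 3 n174423 = n83400 := d8_1 D174423 (iv7 D83400) (iv3 F128498)
theorem F273299 : act 5 n174423 = n83372 := d13_1 D174423 (iv7 D83372) D83371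
def n174424 : Q := act 0 n83374
theorem D174424 : act 0 n83374 = n174424 := rfl
theorem F273300 : act 1 n84949 = n174424 := d15_0 (iv0 D174424) (iv7 F273249) F273248
def n174425 : Q := act 1 n83374
theorem D174425 : act 1 n83374 = n174425 := rfl
theorem F273301 : act 1 n174425 = n84949 := d15_1 D174425 (iv7 F187925) (iv2 F188773)
def n174426 : Q := act 4 n83374
theorem D174426 : act 4 n83374 = n174426 := rfl
theorem F273305 : act 0 n89106 = n174426 := d20_7 (iv4 F273098) (iv1 F273100) (iv4 F263188) (iv3 D167101) (iv1 D80221) (iv3 F123229) (iv4 F136823) (iv4 D174426) (iv3 D83374) (iv1 F128485)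
def n174427 : Q := act 5 n83374
theorem D174427 : act 5 n83374 = n174427 := rfl
theorem F273307 : act 3 n174427 = n83376 := d6_1 D174427 (iv5 D83376) D83374
def n174428 : Q := act 6 n83374
theorem D174428 : act 6 n83374 = n174428 := rfl
theorem F273308 : act 3 n174428 = n83377 := d7_1 D174428 (iv6 D83377) D83374
def n174429 : Q := act 0 n83375
theorem D174429 : act 0 n83375 = n174429 := rfl
theorem F273309 : act 1 n83380 = n174429 := d15_0 (iv0 D174429) (iv7 F273253) F273252
def n174430 : Q := act 1 n83375
theorem D174430 : act 1 n83375 = n174430 := rfl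
theorem F273310 : act 1 n174430 = n83380 := d15_1 D174430 (iv7 F188758) (iv2 F188774)
def n174431 : Q := act 3 n83375
theorem D174431 : act 3 n83375 = n174431 := rfl
theorem F273311 : act 2 n174431 = n149154 := d0_1 D174431 (iv3 D149154) F155233 D119663 (iv2 F188774)
def n174432 : Q := act 5 n83375
theorem D174432 : act 5 n83375 = n174432 := rfl
def n174433 : Q := act 6 n83375
theorem D174433 : act 6 n83375 = n174433 := rfl
theorem F273313 : act 4 n174433 = n83377 := d10_1 D174433 (iv6 D83377) D83375
def n174434 : Q := act 0 n83376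
theorem D174434 : act 0 n83376 = n174434 := rfl
theorem F273314 : act 1 n83381 = n174434 := d15_0 (iv0 D174434) (iv7 F273255) F273254
def n174435 : Q := act 1 n83376
theorem D174435 : act 1 n83376 = n174435 := rfl
theorem F273315 : act 1 n174435 = n83381 := d15_1 D174435 (iv7 F273247) F273245
def n174436 : Q := act 4 n83376
theorem D174436 : act 4 n83376 = n174436 := rfl
def n174437 : Q := act 6 n83376
theorem D174437 : act 6 n83376 = n174437 := rfl
def n174440 : Q := act 5 n83380
theorem D174440 : act 5 n83380 = n174440 := rfl
def n174441 : Q := act 6 n83380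
theorem D174441 : act 6 n83380 = n174441 := rfl
theorem F273316 : act 3 n174441 = n85265 := d7_1 D174441 F201287 F188692
theorem F273317 : act 4 n174441 = n83382 := d10_1 D174441 (iv6 D83382) D83380
def n174442 : Q := act 4 n83381
theorem D174442 : act 4 n83381 = n174442 := rfl
def n174443 : Q := act 6 n83381
theorem D174443 : act 6 n83381 = n174443 := rfl
def n174444 : Q := act 5 n83382
theorem D174444 : act 5 n83382 = n174444 := rfl
def n174445 : Q := act 7 n83382
theorem D174445 : act 7 n83382 = n174445 := rfl
theorem F273318 : act 2 n174445 = n173709 := d4_1 D174445 (iv7 F273257) F273256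
theorem F273319 : act 3 n174445 = n85089 := d8_1 D174445 F187933 (iv3 F188772)
def n174446 : Q := act 2 n83383
theorem D174446 : act 2 n83383 = n174446 := rfl
theorem F273320 : act 7 n83384 = n174446 := d15_2 (iv0 D83383) D83384 (iv2 D174446)
def n174447 : Q := act 3 n83383
theorem D174447 : act 3 n83383 = n174447 := rfl
def n174448 : Q := act 4 n83383
theorem D174448 : act 4 n83383 = n174448 := rfl
def n174449 : Q := act 5 n83383
theorem D174449 : act 5 n83383 = n174449 := rfl
def n174450 : Q := act 6 n83383
theorem D174450 : act 6 n83383 = n174450 := rfl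
def n174451 : Q := act 7 n83383
theorem D174451 : act 7 n83383 = n174451 := rfl
theorem F273321 : act 2 n174451 = n83384 := d4_1 D174451 F273320 (iv2 D174446)
def n174452 : Q := act 3 n83384
theorem D174452 : act 3 n83384 = n174452 := rfl
def n174453 : Q := act 4 n83384
theorem D174453 : act 4 n83384 = n174453 := rfl
def n174454 : Q := act 5 n83384
theorem D174454 : act 5 n83384 = n174454 := rfl
theorem F273322 : act 6 n174454 = n119227 := d21_3 (iv5 F273268) (iv1 F273270) D174454 F187611 F113294 (iv5 F127507) (iv1 F271044) (iv5 F271045) (iv6 D83377) (iv1 F128485)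
theorem F273323 : act 2 n158324 = n174454 := d3_3 F273322 F234201 D158324
theorem F273324 : act 3 n119230 = n174454 := d7_3 F273322 (iv3 D119227) D119230
theorem F273325 : act 4 n152664 = n174454 := d10_3 F273322 F187617 D152664
theorem F273326 : act 0 n174454 = n158835 := d20_7 F262908 (iv1 F123073) (iv4 F123401) F239891 (iv1 D152672) (iv3 F239876) F273325 (iv4 F263216) F263215 (iv1 F262911)
theorem E24471 : n174452 = n119343 := (c6_4 (iv5 F187935) F273324 (iv5 D174454) D174452)
theorem F273327 : act 3 n119343 = n83384 := (sb E24471 (iv3 D174452))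
theorem E24472 : n174451 = n174398 := (c2_4 (iv5 F273265) F273323 (iv5 D174454) (iv2 F273321))
theorem F273328 : act 2 n174398 = n83384 := (sb E24472 F273321)
theorem F273329 : act 7 n174398 = n83383 := (sb E24472 (iv7 D174451))
theorem F273330 : act 7 n174449 = n158324 := d13_2 F273329 D174449 F273265
theorem E24473 : n174446 = n174397 := (c15_4 (iv0 D174397) D174398 F273329 D174446)
theorem F273331 : act 2 n174397 = n83383 := (sb E24473 (iv2 D174446))
theorem F273332 : act 7 n174397 = n83384 := (sb E24473 (iv7 F273320))
def n174455 : Q := act 6 n83384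
theorem D174455 : act 6 n83384 = n174455 := rfl
def n174456 : Q := act 0 n83385
theorem D174456 : act 0 n83385 = n174456 := rfl
def n174457 : Q := act 1 n83385
theorem D174457 : act 1 n83385 = n174457 := rfl
def n174458 : Q := act 3 n83385
theorem D174458 : act 3 n83385 = n174458 := rfl
theorem F273333 : act 4 n174458 = n83428 := d5_2 D83385 D174458 (iv3 D83428) (iv4 D38430) (iv3 F59273)
def n174459 : Q := act 5 n83385
theorem D174459 : act 5 n83385 = n174459 := rfl
def n174460 : Q := act 7 n83385
theorem D174460 : act 7 n83385 = n174460 := rfl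
theorem F273334 : act 4 n174460 = n83386 := d11_1 D174460 (iv7 D83386) D83385
def n174461 : Q := act 6 n83386
theorem D174461 : act 6 n83386 = n174461 := rfl
theorem F273335 : act 3 n174461 = n83431 := d7_1 D174461 (iv6 D83431) (iv3 F128504)
def n174463 : Q := act 1 n83387
theorem D174463 : act 1 n83387 = n174463 := rfl
theorem F273337 : act 1 n174463 = n83392 := d15_1 D174463 (iv7 D83392) D83387
def n174464 : Q := act 3 n83387
theorem D174464 : act 3 n83387 = n174464 := rfl
theorem F273338 : act 7 n174464 = n83393 := d8_2 F128506 D174464 (iv3 D83393)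
def n174465 : Q := act 5 n83387
theorem D174465 : act 5 n83387 = n174465 := rfl
theorem F273339 : act 2 n174465 = n83390 := d2_1 D174465 (iv5 D83390) D83387
theorem F273340 : act 7 n174465 = n83395 := d13_2 F128506 D174465 (iv5 D83395)
def n174466 : Q := act 6 n83387
theorem D174466 : act 6 n83387 = n174466 := rfl
theorem F273341 : act 2 n174466 = n83391 := d3_1 D174466 (iv6 D83391) D83387
theorem F273342 : act 5 n172455 = n174466 := d2_0 F273341 F128507 (iv2 F270667)
theorem F273343 : act 7 n174466 = n172453 := d13_2 D172455 F273342 (iv5 D172453)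
def n174467 : Q := act 0 n83388
theorem D174467 : act 0 n83388 = n174467 := rfl
theorem F273344 : act 2 n121991 = n174467 := d15_3 (iv0 D174467) (iv0 F155518) D121991
theorem F273347 : act 7 n174467 = n84933 := d4_2 D121991 F273344 F130185
theorem F273348 : act 1 n121989 = n174467 := d15_1 D121989 F273347 F130185
def n174468 : Q := act 2 n83388
theorem D174468 : act 2 n83388 = n174468 := rfl
theorem F273349 : act 7 n121989 = n174468 := d15_2 (iv0 F155518) D121989 (iv2 D174468)
def n174469 : Q := act 4 n83388
theorem D174469 : act 4 n83388 = n174469 := rfl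
def n174470 : Q := act 5 n83388
theorem D174470 : act 5 n83388 = n174470 := rfl
theorem F273350 : act 3 n174470 = n83390 := d6_1 D174470 (iv5 D83390) D83388
def n174471 : Q := act 6 n83388
theorem D174471 : act 6 n83388 = n174471 := rfl
theorem F273351 : act 3 n174471 = n83391 := d7_1 D174471 (iv6 D83391) D83388
theorem F273352 : act 5 n172456 = n174471 := d6_0 F273351 F128507 D172456
def n174472 : Q := act 7 n83388
theorem D174472 : act 7 n83388 = n174472 := rfl
theorem F273353 : act 2 n174472 = n121989 := d4_1 D174472 F273349 (iv2 D174468)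
theorem F273354 : act 3 n174472 = n83392 := d8_1 D174472 (iv7 D83392) D83388
def n174473 : Q := act 1 n83390
theorem D174473 : act 1 n83390 = n174473 := rfl
theorem F273355 : act 1 n174473 = n83395 := d15_1 D174473 (iv7 F273340) F273339
theorem F273356 : act 5 n172849 = n174473 := d17_5 (iv1 F73450) D47044 (iv1 F155069) (iv5 F156730) (iv4 F271109) F273355 (iv5 D83395) F127792 F127789
def n174474 : Q := act 4 n83390
theorem D174474 : act 4 n83390 = n174474 := rfl
def n174475 : Q := act 6 n83390
theorem D174475 : act 6 n83390 = n174475 := rfl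
theorem F273357 : act 5 n174475 = n172458 := d12_1 D174475 (iv6 D172458) (iv5 F128507) (iv6 D83391) D83390
def n174476 : Q := act 7 n83390
theorem D174476 : act 7 n83390 = n174476 := rfl
theorem F273358 : act 2 n174476 = n83395 := d4_1 D174476 (iv7 F273340) F273339
theorem F273359 : act 5 n174476 = n83392 := d13_1 D174476 (iv7 D83392) D83390
theorem F273360 : act 1 n83395 = n101826 := d15_0 F156778 D174476 F273358
def n174477 : Q := act 0 n83391
theorem D174477 : act 0 n83391 = n174477 := rfl
def n174478 : Q := act 1 n83391
theorem D174478 : act 1 n83391 = n174478 := rfl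
theorem F273361 : act 1 n174478 = n172453 := d15_1 D174478 (iv7 F273343) F273341
theorem F273362 : act 4 n174478 = n100934 := d17_9 (iv1 D100934) F74505 (iv1 D47252) (iv5 D22724) (iv4 F29336) D37901 D82569 (iv5 F128507) D174478
theorem F273363 : act 6 n101849 = n174478 := d21_3 D82552 D172400 F270613 (iv1 D174478) (iv6 D83391) D83390 (iv1 F156778) (iv5 D101826) (iv6 D47321) F156780
theorem F273364 : act 7 n174478 = n172299 := d14_2 (iv7 F156811) F273363 (iv6 D172299) F270622 D89296
theorem E24474 : n174477 = n89315 := ((c15_4 (iv0 D174477) D174478 F273364 (iv2 F270626))).symm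
theorem F273365 : act 1 n89315 = n83391 := (sb E24474 (iv0 D174477))
def n174479 : Q := act 7 n83391
theorem D174479 : act 7 n83391 = n174479 := rfl
theorem F273366 : act 2 n174479 = n172453 := d4_1 D174479 (iv7 F273343) F273341
theorem F273367 : act 5 n174479 = n172450 := d13_1 D174479 (iv7 F270664) (iv5 F128507)
def n174480 : Q := act 6 n83392
theorem D174480 : act 6 n83392 = n174480 := rfl
theorem F273368 : act 2 n174480 = n83396 := d3_1 D174480 (iv6 D83396) (iv2 F128508)
def n174481 : Q := act 0 n83393
theorem D174481 : act 0 n83393 = n174481 := rfl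
theorem F273369 : act 4 n174481 = n160749 := d20_0 (iv1 D160749) (iv4 F123242) (iv3 D80224) (iv1 F57413) (iv3 F59364) F59365 (iv1 F73288) F155511 D83393 D174481
theorem F273370 : act 3 n167136 = n174481 := d20_5 F56044 (iv1 F28701) D36555 D80236 D167136 F273369 (iv1 D160749) (iv4 F123242) (iv3 D80224) (iv1 F57413)
def n174482 : Q := act 1 n83393
theorem D174482 : act 1 n83393 = n174482 := rfl
def n174483 : Q := act 2 n83393
theorem D174483 : act 2 n83393 = n174483 := rfl
theorem F273371 : act 3 n174483 = n121989 := d0_2 D83393 D174483 (iv2 F273353) F273354 F128508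
def n174484 : Q := act 4 n83393
theorem D174484 : act 4 n83393 = n174484 := rfl
theorem F273372 : act 0 n174484 = n127882 := d20_7 (iv4 F236154) (iv1 F236157) (iv4 F108490) (iv3 F127788) (iv1 F127792) D83393 D174484 F205798 F108472 D71982
def n174485 : Q := act 5 n83393
theorem D174485 : act 5 n83393 = n174485 := rfl
theorem F273373 : act 3 n174485 = n83395 := d6_1 D174485 (iv5 D83395) D83393
def n174486 : Q := act 6 n83393
theorem D174486 : act 6 n83393 = n174486 := rfl
theorem F273374 : act 3 n174486 = n83396 := d7_1 D174486 (iv6 D83396) D83393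
def n174487 : Q := act 4 n83395
theorem D174487 : act 4 n83395 = n174487 := rfl
def n174488 : Q := act 6 n83395
theorem D174488 : act 6 n83395 = n174488 := rfl
def n174489 : Q := act 0 n83396
theorem D174489 : act 0 n83396 = n174489 := rfl
def n174490 : Q := act 1 n83396
theorem D174490 : act 1 n83396 = n174490 := rfl
def n174491 : Q := act 5 n83396
theorem D174491 : act 5 n83396 = n174491 := rfl
theorem F273375 : act 0 n172407 = n174491 := d21_1 D172407 (iv5 D174491) (iv6 D83396) (iv1 D38415) (iv6 D18323) (iv5 D8636) (iv1 F13538) (iv5 F29335) D37898 D82554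
def n174492 : Q := act 7 n83396
theorem D174492 : act 7 n83396 = n174492 := rfl
theorem F273376 : act 6 n174492 = n172453 := d14_1 D174492 (iv7 F273343) (iv6 D174466) (iv7 F128506) D83396
theorem F273377 : act 0 n174492 = n172264 := d21_4 D37901 D82568 D172453 (iv6 F273376) (iv6 D172264) D172263 F270663 (iv5 D172448) (iv6 D82567) (iv1 D37900)
theorem F273378 : act 1 n174480 = n172264 := d15_0 (iv0 F273377) (iv7 D174492) (iv2 F273368)
def n174493 : Q := act 3 n83397
theorem D174493 : act 3 n83397 = n174493 := rfl
def n174494 : Q := act 4 n83397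
theorem D174494 : act 4 n83397 = n174494 := rfl
def n174495 : Q := act 6 n83397
theorem D174495 : act 6 n83397 = n174495 := rfl
def n174496 : Q := act 3 n83398
theorem D174496 : act 3 n83398 = n174496 := rfl
def n174497 : Q := act 4 n83398
theorem D174497 : act 4 n83398 = n174497 := rfl
theorem F273379 : act 0 n174497 = n173374 := d18_2 (iv1 F271688) D174497 (iv4 D173374) (iv5 D82966) F59045 D46434 F155511 F127792 (iv5 F271687)
def n174498 : Q := act 6 n83398
theorem D174498 : act 6 n83398 = n174498 := rfl
def n174499 : Q := act 0 n83399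
theorem D174499 : act 0 n83399 = n174499 := rfl
def n174500 : Q := act 1 n83399
theorem D174500 : act 1 n83399 = n174500 := rfl
theorem F273380 : act 4 n174500 = n83579 := d18_7 (iv1 F127874) (iv4 F155082) (iv1 D22615) (iv4 F29521) D38416 D83399 D174500 F271853 F271852
def n174501 : Q := act 3 n83399
theorem D174501 : act 3 n83399 = n174501 := rfl
theorem F273381 : act 6 n174501 = n83428 := d7_2 (iv6 F128509) D174501 (iv3 D83428)
def n174502 : Q := act 5 n83399
theorem D174502 : act 5 n83399 = n174502 := rfl
def n174503 : Q := act 7 n83399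
theorem D174503 : act 7 n83399 = n174503 := rfl
theorem F273382 : act 4 n174503 = n83400 := d11_1 D174503 (iv7 D83400) D83399
def n174504 : Q := act 6 n83400
theorem D174504 : act 6 n83400 = n174504 := rfl
theorem F273383 : act 7 n174504 = n83431 := d14_2 D83400 D174504 (iv6 D83431) (iv7 D38431) (iv6 F59275)
def n174505 : Q := act 5 n83401
theorem D174505 : act 5 n83401 = n174505 := rfl
theorem F273384 : act 3 n174505 = n84956 := d6_1 D174505 F130201 (iv3 F131629)
theorem F273385 : act 7 n174505 = n84936 := d13_2 (iv7 F131630) D174505 (iv5 D84936)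
def n174506 : Q := act 5 n83403
theorem D174506 : act 5 n83403 = n174506 := rfl
theorem F273386 : act 2 n174506 = n83404 := d2_1 D174506 (iv5 D83404) D83403
def n174507 : Q := act 6 n83403
theorem D174507 : act 6 n83403 = n174507 := rfl
theorem F273387 : act 2 n174507 = n83405 := d3_1 D174507 (iv6 D83405) D83403
def n174508 : Q := act 0 n83404
theorem D174508 : act 0 n83404 = n174508 := rfl
def n174509 : Q := act 1 n83404
theorem D174509 : act 1 n83404 = n174509 := rfl
def n174510 : Q := act 4 n83404
theorem D174510 : act 4 n83404 = n174510 := rfl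
def n174511 : Q := act 6 n83404
theorem D174511 : act 6 n83404 = n174511 := rfl
theorem F273388 : act 3 n174511 = n83410 := d7_1 D174511 (iv6 D83410) (iv3 F128511)
def n174513 : Q := act 4 n83406
theorem D174513 : act 4 n83406 = n174513 := rfl
theorem F273391 : act 7 n174513 = n88746 := d11_2 (iv7 F128515) D174513 (iv4 D88746)
theorem F273392 : act 5 n174513 = n83475 := d17_5 F118978 F36005 (iv1 F118363) D83406 D174513 (iv0 D83475) (iv5 D38483) D38481 (iv4 F118980)
theorem F273393 : act 0 n174513 = n83438 := d18_2 F128517 D174513 (iv4 D83438) (iv5 F117778) (iv4 F151524) F151528 F72524 D45956 (iv5 F122123)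
theorem F273394 : act 1 n174513 = n83440 := d18_6 (iv1 D8639) (iv4 F13546) D18324 D38420 D83406 D174513 (iv4 D83440) F59297 (iv5 D18336)
def n174514 : Q := act 3 n83407
theorem D174514 : act 3 n83407 = n174514 := rfl
def n174515 : Q := act 4 n83407
theorem D174515 : act 4 n83407 = n174515 := rfl
theorem F273395 : act 0 n174515 = n83452 := d18_2 D83407 D174515 (iv4 D83452) (iv5 D38466) (iv4 D18335) F29438 (iv4 F59016) F59020 D38421
theorem F273396 : act 1 n174515 = n83434 := d18_6 (iv1 D122470) F89796 D56793 (iv4 F151524) F151526 D174515 (iv4 D83434) D83433 (iv5 F195952)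
def n174516 : Q := act 6 n83407
theorem D174516 : act 6 n83407 = n174516 := rfl
def n174517 : Q := act 3 n83408
theorem D174517 : act 3 n83408 = n174517 := rfl
def n174518 : Q := act 4 n83408
theorem D174518 : act 4 n83408 = n174518 := rfl
theorem F273397 : act 0 n174518 = n83434 := d18_2 (iv1 F128519) D174518 (iv4 D83434) (iv5 D38448) (iv4 D18330) (iv0 D8638) (iv4 F13546) D18325 D38426
theorem F273398 : act 1 n174518 = n83452 := d18_6 (iv1 F195937) F127240 (iv1 F117781) (iv4 F151644) F151647 D174518 (iv4 D83452) F128539 (iv5 F195935)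
def n174519 : Q := act 6 n83408
theorem D174519 : act 6 n83408 = n174519 := rfl
def n174520 : Q := act 0 n83409
theorem D174520 : act 0 n83409 = n174520 := rfl
theorem F273399 : act 4 n174520 = n124632 := d18_3 (iv1 D83408) D83409 D174520 F199342 F113554 F128566 (iv4 F72524) D98264 F151647
theorem F273400 : act 1 n83417 = n174520 := d15_0 (iv0 D174520) (iv7 F271705) F271704
def n174521 : Q := act 1 n83409
theorem D174521 : act 1 n83409 = n174521 := rfl
theorem F273401 : act 1 n174521 = n83417 := d15_1 D174521 (iv7 F271701) F271700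
theorem F273402 : act 4 n174521 = n124631 := d18_7 (iv1 F118120) (iv4 F31218) (iv1 F118363) (iv4 D38420) D38421 D83409 D174521 (iv0 D124631) (iv5 D58233)
def n174522 : Q := act 3 n83409
theorem D174522 : act 3 n83409 = n174522 := rfl
def n174523 : Q := act 5 n83409
theorem D174523 : act 5 n83409 = n174523 := rfl
theorem F273403 : act 4 n174523 = n83476 := d16_2 D83409 D174523 F128578 (iv4 D79519) (iv5 D36212) F118051 D38426 (iv7 F127797) F127796
theorem F273404 : act 1 n174523 = n173380 := d17_6 (iv1 D38429) (iv5 D18326) D18324 D38421 D83409 D174523 (iv5 D173380) (iv0 F128535) (iv4 D83424)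
def n174524 : Q := act 6 n83409
theorem D174524 : act 6 n83409 = n174524 := rfl
theorem F273405 : act 4 n174524 = n83410 := d10_1 D174524 (iv6 D83410) D83409
def n174525 : Q := act 0 n83410
theorem D174525 : act 0 n83410 = n174525 := rfl
def n174526 : Q := act 1 n83410
theorem D174526 : act 1 n83410 = n174526 := rfl
def n174527 : Q := act 7 n83410
theorem D174527 : act 7 n83410 = n174527 := rfl
def n174528 : Q := act 3 n83411
theorem D174528 : act 3 n83411 = n174528 := rfl
theorem F273406 : act 5 n174528 = n172889 := d6_2 F128522 D174528 (iv3 D172889)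
theorem F273407 : act 7 n174528 = n84213 := d8_2 (iv7 F128520) D174528 F129280
def n174536 : Q := act 4 n83413
theorem D174536 : act 4 n83413 = n174536 := rfl
theorem F273411 : act 3 n164886 = n174536 := d20_5 F56834 F120713 F56807 D79225 D164886 (iv4 D174536) (iv1 D83413) F118559 (iv3 D36214) (iv1 F120731)
def n174544 : Q := act 6 n83415
theorem D174544 : act 6 n83415 = n174544 := rfl
theorem F273415 : act 3 n174544 = n83418 := d7_1 D174544 (iv6 D83418) (iv3 F128524)
def n174547 : Q := act 3 n83417
theorem D174547 : act 3 n83417 = n174547 := rfl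
def n174548 : Q := act 5 n83417
theorem D174548 : act 5 n83417 = n174548 := rfl
theorem F273416 : act 4 n174548 = n83475 := d9_1 D174548 (iv5 F273392) (iv4 D174513) (iv5 D83406) (iv4 D38420) D38421 D83409 D174523 F273403 F128578 (iv4 D79519) (iv5 D36212) F118051 D38426 D83417
theorem F273417 : act 0 n174548 = n173380 := d17_2 (iv1 F273400) D174548 (iv5 D173380) (iv4 D82970) (iv5 D38186) F118120 D58233 D124632 (iv4 F273399)
def n174549 : Q := act 6 n83417
theorem D174549 : act 6 n83417 = n174549 := rfl
theorem F273418 : act 4 n174549 = n83418 := d10_1 D174549 (iv6 D83418) D83417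
def n174550 : Q := act 0 n83418
theorem D174550 : act 0 n83418 = n174550 := rfl
def n174551 : Q := act 1 n83418
theorem D174551 : act 1 n83418 = n174551 := rfl
def n174552 : Q := act 7 n83418
theorem D174552 : act 7 n83418 = n174552 := rfl
def n174553 : Q := act 0 n83419
theorem D174553 : act 0 n83419 = n174553 := rfl
def n174554 : Q := act 1 n83419
theorem D174554 : act 1 n83419 = n174554 := rfl
def n174555 : Q := act 2 n83419
theorem D174555 : act 2 n83419 = n174555 := rfl
theorem F273419 : act 1 n174555 = n84936 := d15_0 (iv0 F271712) F271711 D174555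
def n174556 : Q := act 4 n83419
theorem D174556 : act 4 n83419 = n174556 := rfl
def n174557 : Q := act 5 n83419
theorem D174557 : act 5 n83419 = n174557 := rfl
theorem F273420 : act 3 n174557 = n83421 := d6_1 D174557 (iv5 D83421) D83419
theorem F273421 : act 7 n174557 = n98261 := d13_2 F271711 D174557 (iv5 F271710)
theorem F273422 : act 4 n170469 = n174557 := d11_3 F273421 F151636 D170469
theorem F273423 : act 6 n158754 = n174557 := d14_5 F273421 (iv6 D98261) F118924 D82586 (iv7 F249935)
def n174558 : Q := act 6 n83419
theorem D174558 : act 6 n83419 = n174558 := rfl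
theorem F273424 : act 3 n174558 = n83422 := d7_1 D174558 (iv6 D83422) D83419
def n174559 : Q := act 3 n83420
theorem D174559 : act 3 n83420 = n174559 := rfl
def n174560 : Q := act 5 n83420
theorem D174560 : act 5 n83420 = n174560 := rfl
theorem F273425 : act 4 n174560 = n83468 := d16_2 D83420 D174560 (iv5 D83468) (iv4 F118980) F118981 F118967 F59279 (iv7 F127809) F127811
def n174561 : Q := act 6 n83420
theorem D174561 : act 6 n83420 = n174561 := rfl
theorem F273426 : act 4 n174561 = n83422 := d10_1 D174561 (iv6 D83422) D83420
def n174562 : Q := act 0 n83422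
theorem D174562 : act 0 n83422 = n174562 := rfl
def n174563 : Q := act 1 n83422
theorem D174563 : act 1 n83422 = n174563 := rfl
def n174564 : Q := act 5 n83422
theorem D174564 : act 5 n83422 = n174564 := rfl
theorem F273427 : act 6 n174564 = n84189 := d12_2 D83422 D174564 (iv5 F129239) (iv6 F128531) (iv5 D83421)
theorem F273428 : act 0 n174564 = n101823 := d21_4 (iv5 F151663) (iv1 F151668) F129239 (iv6 F273427) (iv6 D101823) (iv5 D47320) F156780 D82552 F127188 D83155
def n174565 : Q := act 7 n83422
theorem D174565 : act 7 n83422 = n174565 := rfl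
def n174566 : Q := act 0 n83423
theorem D174566 : act 0 n83423 = n174566 := rfl
def n174567 : Q := act 1 n83423
theorem D174567 : act 1 n83423 = n174567 := rfl
def n174568 : Q := act 2 n83423
theorem D174568 : act 2 n83423 = n174568 := rfl
def n174569 : Q := act 4 n83423
theorem D174569 : act 4 n83423 = n174569 := rfl
def n174570 : Q := act 6 n83423
theorem D174570 : act 6 n83423 = n174570 := rfl
theorem F273430 : act 3 n174570 = n83425 := d7_1 D174570 (iv6 D83425) D83423
theorem F273431 : act 5 n174570 = n172481 := d12_1 D174570 (iv6 D172481) (iv5 D82576) D82577 (iv5 F128534)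
def n174571 : Q := act 3 n83424
theorem D174571 : act 3 n83424 = n174571 := rfl
def n174572 : Q := act 5 n83424
theorem D174572 : act 5 n83424 = n174572 := rfl
theorem F273432 : act 4 n174572 = n83465 := d9_1 D174572 (iv5 D83465) F127829 (iv5 F118984) (iv4 F128529) (iv5 D83421) D83420 D174560 F273425 (iv5 D83468) (iv4 F118980) F118981 F118967 F59279 D83424
def n174573 : Q := act 6 n83424
theorem D174573 : act 6 n83424 = n174573 := rfl
theorem F273433 : act 4 n174573 = n83425 := d10_1 D174573 (iv6 D83425) D83424
def n174574 : Q := act 0 n83425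
theorem D174574 : act 0 n83425 = n174574 := rfl
def n174575 : Q := act 1 n83425
theorem D174575 : act 1 n83425 = n174575 := rfl
def n174576 : Q := act 7 n83425
theorem D174576 : act 7 n83425 = n174576 := rfl
theorem F273434 : act 5 n174576 = n172493 := d13_1 D174576 (iv7 D172493) (iv5 F128536)
def n174577 : Q := act 3 n83426
theorem D174577 : act 3 n83426 = n174577 := rfl
def n174578 : Q := act 5 n83426
theorem D174578 : act 5 n83426 = n174578 := rfl
theorem F273435 : act 4 n174578 = n83462 := d16_2 F128564 D174578 (iv5 D83462) (iv4 D38478) (iv5 F29526) (iv4 F58769) F118929 F127877 F127878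
def n174579 : Q := act 6 n83426
theorem D174579 : act 6 n83426 = n174579 := rfl
theorem F273436 : act 4 n174579 = n83583 := d10_1 D174579 (iv6 D83583) F128564
def n174580 : Q := act 3 n83427
theorem D174580 : act 3 n83427 = n174580 := rfl
def n174581 : Q := act 5 n83427
theorem D174581 : act 5 n83427 = n174581 := rfl
theorem F273437 : act 4 n174581 = n83457 := d9_1 D174581 (iv5 D83457) (iv4 D38473) D38474 D83459 F128563 F128564 D174578 F273435 (iv5 D83462) (iv4 D38478) (iv5 F29526) (iv4 F58769) F118929 (iv4 F128537)
def n174582 : Q := act 6 n83427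
theorem D174582 : act 6 n83427 = n174582 := rfl
theorem F273438 : act 4 n174582 = n83585 := d10_1 D174582 (iv6 D83585) (iv4 F128537)
def n174583 : Q := act 0 n83428
theorem D174583 : act 0 n83428 = n174583 := rfl
def n174584 : Q := act 1 n83428
theorem D174584 : act 1 n83428 = n174584 := rfl
def n174585 : Q := act 2 n83428
theorem D174585 : act 2 n83428 = n174585 := rfl
def n174586 : Q := act 5 n83428
theorem D174586 : act 5 n83428 = n174586 := rfl
theorem F273439 : act 3 n174586 = n83429 := d6_1 D174586 (iv5 D83429) D83428
def n174587 : Q := act 7 n83428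
theorem D174587 : act 7 n83428 = n174587 := rfl
theorem F273440 : act 3 n174587 = n83430 := d8_1 D174587 (iv7 D83430) D83428
def n174588 : Q := act 0 n83429
theorem D174588 : act 0 n83429 = n174588 := rfl
theorem F273441 : act 5 n174588 = n83434 := d17_3 (iv1 D83427) D83429 D174588 (iv4 D83434) (iv5 D38448) F113495 D18358 D38542 (iv4 F128537)
theorem F273442 : act 4 n174588 = n83455 := d18_3 (iv1 F271782) F271779 D174588 (iv5 D83455) (iv4 D38468) F59300 D83438 (iv0 F273393) F273392
theorem F273443 : act 1 n83477 = n174588 := d15_0 (iv0 D174588) F271775 F271773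
def n174589 : Q := act 1 n83429
theorem D174589 : act 1 n83429 = n174589 := rfl
theorem F273444 : act 1 n174589 = n83477 := d15_1 D174589 F271725 F271723
theorem F273445 : act 5 n174589 = n83452 := d17_7 (iv1 F128518) (iv5 D38426) (iv1 D18325) D18326 D38430 D83429 D174589 (iv0 F273395) (iv4 D174515)
theorem F273446 : act 4 n174589 = n83444 := d18_7 F119055 (iv4 D38473) (iv1 F59032) (iv4 F127837) (iv5 F271780) F271779 D174589 (iv0 F136141) (iv5 D88752)
def n174590 : Q := act 6 n83429
theorem D174590 : act 6 n83429 = n174590 := rfl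
def n174591 : Q := act 6 n83430
theorem D174591 : act 6 n83430 = n174591 := rfl
theorem F273447 : act 4 n174591 = n83431 := d10_1 D174591 (iv6 D83431) (iv4 F128538)
def n174592 : Q := act 0 n83431
theorem D174592 : act 0 n83431 = n174592 := rfl
def n174593 : Q := act 1 n83431
theorem D174593 : act 1 n83431 = n174593 := rfl
def n174594 : Q := act 3 n83432
theorem D174594 : act 3 n83432 = n174594 := rfl
def n174595 : Q := act 4 n83432
theorem D174595 : act 4 n83432 = n174595 := rfl
theorem F273448 : act 2 n174595 = n174520 := d1_1 D174595 F273399 (iv2 F199343)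
theorem F273449 : act 7 n174595 = n174521 := d11_2 (iv7 F199339) D174595 F273402
theorem F273450 : act 0 n174595 = n173300 := d18_2 D83432 D174595 (iv4 D173300) (iv5 D82937) F118373 F63828 F63826 F113498 D38448
theorem F273451 : act 1 n174595 = n173298 := d18_6 F113594 (iv4 F118967) F136087 (iv4 F195936) F195935 D174595 (iv4 D173298) (iv0 F249947) (iv5 D158764)
def n174596 : Q := act 6 n83432
theorem D174596 : act 6 n83432 = n174596 := rfl
def n174597 : Q := act 3 n83433
theorem D174597 : act 3 n83433 = n174597 := rfl
def n174598 : Q := act 4 n83433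
theorem D174598 : act 4 n83433 = n174598 := rfl
theorem F273452 : act 2 n174598 = n174521 := d1_1 D174598 F273402 (iv2 F199337)
theorem F273453 : act 7 n174598 = n174520 := d11_2 F199341 D174598 F273399
theorem F273454 : act 0 n174598 = n173298 := d18_2 (iv1 F128540) D174598 (iv4 D173298) (iv5 D82935) F118378 (iv0 D19512) F14330 (iv0 F113496) D38466
theorem F273455 : act 1 n174598 = n173300 := d18_6 (iv1 F128530) F128529 (iv1 F151171) (iv4 F195949) F195952 D174598 (iv4 D173300) (iv0 F250089) (iv5 D158838)
def n174599 : Q := act 3 n83434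
theorem D174599 : act 3 n83434 = n174599 := rfl
def n174600 : Q := act 6 n83434
theorem D174600 : act 6 n83434 = n174600 := rfl
theorem F273456 : act 4 n174600 = n83435 := d10_1 D174600 (iv6 D83435) D83434
def n174601 : Q := act 0 n83435
theorem D174601 : act 0 n83435 = n174601 := rfl
def n174602 : Q := act 1 n83435
theorem D174602 : act 1 n83435 = n174602 := rfl
def n174603 : Q := act 7 n83435
theorem D174603 : act 7 n83435 = n174603 := rfl
def n174605 : Q := act 3 n83438
theorem D174605 : act 3 n83438 = n174605 := rfl
theorem F273459 : act 4 n174605 = n166253 := d5_2 D83438 D174605 (iv3 D166253) (iv4 F128542) (iv3 D83437)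
def n174606 : Q := act 5 n83438
theorem D174606 : act 5 n83438 = n174606 := rfl
theorem F273460 : act 0 n174606 = n173323 := d17_2 F273393 D174606 (iv5 D173323) F127825 D88747 F136120 F122125 (iv0 F128516) D174513
theorem F273461 : act 1 n174606 = n173326 := d17_6 (iv1 F117706) F44784 D56793 F117778 D83438 D174606 (iv5 D173326) F127830 F59323
def n174607 : Q := act 3 n83440
theorem D174607 : act 3 n83440 = n174607 := rfl
theorem F273462 : act 6 n174607 = n84231 := d7_2 (iv6 F128545) D174607 (iv3 D84231)
def n174608 : Q := act 5 n83440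
theorem D174608 : act 5 n83440 = n174608 := rfl
theorem F273463 : act 0 n174608 = n173326 := d17_2 (iv1 F151648) D174608 (iv5 D173326) F127832 (iv5 F63881) D45956 (iv5 F122123) (iv0 D79517) D79519
theorem F273464 : act 1 n174608 = n173323 := d17_6 D38172 F59648 (iv1 F117781) F117783 D83440 D174608 (iv5 D173323) (iv0 D82947) (iv4 D38174)
def n174610 : Q := act 5 n83441
theorem D174610 : act 5 n83441 = n174610 := rfl
theorem F273465 : act 0 n174610 = n173320 := d17_2 D83441 D174610 (iv5 D173320) (iv4 D82945) F59648 (iv0 F117776) F117778 (iv0 D38451) D38453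
theorem F273466 : act 1 n174610 = n124646 := d17_6 (iv1 F118979) F118981 F136087 (iv5 F136085) F136084 D174610 (iv5 D124646) F136145 F136144
def n174611 : Q := act 6 n83441
theorem D174611 : act 6 n83441 = n174611 := rfl
theorem F273467 : act 7 n174611 = n84235 := d14_2 (iv7 F199377) D174611 (iv6 D84235) F126969 F199376
theorem F273468 : act 5 n164111 = n174611 := d21_2 D78840 D164111 (iv6 D174611) (iv1 F128546) F59307 D83280 D174223 F273008 (iv6 F199089) (iv1 D78839)
def n174612 : Q := act 3 n83442
theorem D174612 : act 3 n83442 = n174612 := rfl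
theorem F273469 : act 6 n174612 = n84236 := d7_2 (iv6 F136096) D174612 (iv3 D84236)
def n174613 : Q := act 5 n83442
theorem D174613 : act 5 n83442 = n174613 := rfl
theorem F273470 : act 0 n174613 = n124646 := d17_2 (iv1 F128547) D174613 (iv5 D124646) (iv4 D58246) F44784 D56794 F117783 F59297 D38468
theorem F273471 : act 1 n174613 = n173320 := d17_6 D47671 (iv5 F118984) (iv1 F151171) (iv5 F151174) F136095 D174613 (iv5 D173320) (iv0 F127821) F74946
def n174614 : Q := act 0 n83443
theorem D174614 : act 0 n83443 = n174614 := rfl
def n174615 : Q := act 1 n83443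
theorem D174615 : act 1 n83443 = n174615 := rfl
theorem F273472 : act 4 n166294 = n174615 := d20_6 (iv4 D36331) (iv1 F28542) D17561 D36375 D79855 D166294 (iv1 D174615) F128548 (iv3 D39218) (iv1 F57071)
def n174616 : Q := act 2 n83443
theorem D174616 : act 2 n83443 = n174616 := rfl
theorem F273473 : act 4 n174616 = n84814 := d1_2 (iv4 F128548) D174616 (iv2 D84814)
def n174617 : Q := act 5 n83443
theorem D174617 : act 5 n83443 = n174617 := rfl
theorem F273474 : act 3 n174617 = n83444 := d6_1 D174617 (iv5 D83444) D83443
def n174618 : Q := act 6 n83443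
theorem D174618 : act 6 n83443 = n174618 := rfl
theorem F273475 : act 3 n174618 = n83445 := d7_1 D174618 (iv6 D83445) D83443
theorem F273476 : act 4 n174618 = n84815 := d10_1 D174618 (iv6 D84815) (iv4 F128548)
def n174619 : Q := act 0 n83444
theorem D174619 : act 0 n83444 = n174619 := rfl
theorem F273478 : act 5 n174619 = n83456 := d17_1 D174619 (iv1 F128557) D83462 (iv4 F273435) (iv5 D174578) (iv0 D83426) D83429 D174589 F273446
theorem F273479 : act 4 n174619 = n83589 := d18_3 (iv1 F273444) F273446 D174619 (iv5 D83589) (iv4 D38543) D38542 (iv4 F128537) F271729 F271728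
theorem F273480 : act 1 n83455 = n174619 := d15_0 (iv0 D174619) (iv7 F199386) F199385
theorem F273481 : act 7 n174619 = n102787 := d15_2 F136142 F273480 F158043
def n174620 : Q := act 6 n83444
theorem D174620 : act 6 n83444 = n174620 := rfl
def n174621 : Q := act 1 n83445
theorem D174621 : act 1 n83445 = n174621 := rfl
theorem F273482 : act 1 n174621 = n173253 := d15_1 D174621 F271599 F271210
theorem F273484 : act 4 n174621 = n98827 := d18_7 F152377 (iv4 F271275) (iv1 F271279) F196050 F117970 (iv4 F128549) D174621 (iv0 F273043) F273041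
def n174623 : Q := act 2 n83447
theorem D174623 : act 2 n83447 = n174623 := rfl
theorem F273487 : act 7 n83448 = n174623 := d15_2 (iv0 D83447) D83448 (iv2 D174623)
def n174624 : Q := act 3 n83447
theorem D174624 : act 3 n83447 = n174624 := rfl
theorem F273488 : act 4 n174624 = n124537 := d20_6 F59016 (iv1 F29438) D18335 D38465 D83447 D174624 (iv1 D124537) F118459 (iv3 D38419) (iv1 F59020)
def n174629 : Q := act 3 n83448
theorem D174629 : act 3 n83448 = n174629 := rfl
theorem F273490 : act 4 n174629 = n174429 := d20_6 F42545 D26565 D54924 D119351 (iv1 F187974) D174629 (iv1 F273309) (iv4 D83380) (iv3 F188763) (iv1 D54919)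
theorem F273491 : act 0 n83555 = n174629 := d20_10 F273490 (iv1 F273309) (iv4 D83380) (iv3 F188763) (iv1 D54919) (iv3 F57449) F57450 D79128 F255738 D83555
def n174630 : Q := act 4 n83448
theorem D174630 : act 4 n83448 = n174630 := rfl
def n174633 : Q := act 5 n83449
theorem D174633 : act 5 n83449 = n174633 := rfl
theorem F273492 : act 2 n174633 = n83450 := d2_1 D174633 (iv5 D83450) D83449
theorem F273493 : act 3 n174633 = n83641 := d6_1 D174633 (iv5 D83641) (iv3 F188452)
def n174634 : Q := act 6 n83449
theorem D174634 : act 6 n83449 = n174634 := rfl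
theorem F273494 : act 2 n174634 = n83451 := d3_1 D174634 (iv6 D83451) D83449
theorem F273495 : act 3 n174634 = n83642 := d7_1 D174634 (iv6 D83642) (iv3 F188452)
def n174638 : Q := act 6 n83450
theorem D174638 : act 6 n83450 = n174638 := rfl
theorem F273496 : act 3 n174638 = n83453 := d7_1 D174638 (iv6 D83453) (iv3 F128553)
def n174639 : Q := act 0 n83451
theorem D174639 : act 0 n83451 = n174639 := rfl
def n174640 : Q := act 1 n83451
theorem D174640 : act 1 n83451 = n174640 := rfl
def n174642 : Q := act 6 n83452
theorem D174642 : act 6 n83452 = n174642 := rfl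
theorem F273497 : act 4 n174642 = n83453 := d10_1 D174642 (iv6 D83453) D83452
def n174644 : Q := act 1 n83453
theorem D174644 : act 1 n83453 = n174644 := rfl
theorem F273498 : act 5 n158541 = n174644 := d21_6 (iv5 D34598) (iv1 D16770) D16771 (iv6 F54860) D75624 D158541 (iv1 D174644) (iv5 F249770) (iv6 D158589) (iv1 F113515)
def n174646 : Q := act 0 n83454
theorem D174646 : act 0 n83454 = n174646 := rfl
def n174647 : Q := act 1 n83454
theorem D174647 : act 1 n83454 = n174647 := rfl
def n174648 : Q := act 2 n83454
theorem D174648 : act 2 n83454 = n174648 := rfl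
theorem F273499 : act 6 n174648 = n174221 := d3_2 (iv6 F128555) D174648 (iv2 D174221)
def n174649 : Q := act 5 n83454
theorem D174649 : act 5 n83454 = n174649 := rfl
theorem F273500 : act 3 n174649 = n83455 := d6_1 D174649 (iv5 D83455) D83454
def n174650 : Q := act 6 n83455
theorem D174650 : act 6 n83455 = n174650 := rfl
theorem F273501 : act 5 n174650 = n174225 := d12_1 D174650 (iv6 D174225) (iv5 D83280) (iv6 F59307) D83455
def n174651 : Q := act 3 n83456
theorem D174651 : act 3 n83456 = n174651 := rfl
theorem F273502 : act 7 n174651 = n102786 := d8_2 (iv7 F128558) D174651 F158042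
def n174652 : Q := act 0 n83457
theorem D174652 : act 0 n83457 = n174652 := rfl
theorem F273503 : act 5 n174652 = n124639 := d17_3 F119055 D83457 D174652 F199373 F122123 (iv0 F136121) (iv5 D88747) (iv0 D41436) D41438
theorem F273504 : act 1 n83462 = n174652 := d15_0 (iv0 D174652) (iv7 F199396) F199395
theorem F273505 : act 2 n174613 = n174652 := d2_3 F273503 (iv2 F199375) D174613
theorem F273506 : act 7 n174610 = n174652 := d13_0 F273503 (iv7 F199377) D174610
def n174653 : Q := act 1 n83457
theorem D174653 : act 1 n83457 = n174653 := rfl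
theorem F273507 : act 1 n174653 = n83462 := d15_1 D174653 (iv7 F271747) F271746
theorem F273508 : act 7 n174653 = n174613 := d15_2 (iv0 D174652) D174653 F273505
theorem F273509 : act 5 n174653 = n124640 := d17_7 F117926 F117899 F113020 (iv5 D38474) D38473 D83457 D174653 F199378 (iv4 D82944)
theorem F273510 : act 2 n174610 = n174653 := d2_3 F273509 (iv2 F199381) D174610
def n174654 : Q := act 6 n83457
theorem D174654 : act 6 n83457 = n174654 := rfl
def n174655 : Q := act 0 n83458
theorem D174655 : act 0 n83458 = n174655 := rfl
def n174656 : Q := act 1 n83458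
theorem D174656 : act 1 n83458 = n174656 := rfl
theorem F273511 : act 4 n98124 = n174656 := d20_6 (iv4 F119978) (iv1 F119980) (iv4 D78356) (iv3 F119528) F132975 (iv3 F151306) (iv1 D174656) F128559 F117754 F56541
def n174657 : Q := act 5 n83458
theorem D174657 : act 5 n83458 = n174657 := rfl
theorem F273513 : act 0 n174657 = n158884 := d17_2 (iv1 D174656) D174657 (iv5 D158884) F113700 (iv5 F64538) (iv0 F136125) F136124 (iv0 F151307) F273511
def n174660 : Q := act 0 n83461
theorem D174660 : act 0 n83461 = n174660 := rfl
def n174661 : Q := act 1 n83461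
theorem D174661 : act 1 n83461 = n174661 := rfl
def n174662 : Q := act 2 n83461
theorem D174662 : act 2 n83461 = n174662 := rfl
def n174663 : Q := act 5 n83461
theorem D174663 : act 5 n83461 = n174663 := rfl
theorem F273519 : act 3 n174663 = n83462 := d6_1 D174663 (iv5 D83462) D83461
def n174664 : Q := act 6 n83461
theorem D174664 : act 6 n83461 = n174664 := rfl
theorem F273520 : act 3 n174664 = n83463 := d7_1 D174664 (iv6 D83463) D83461
def n174665 : Q := act 6 n83462
theorem D174665 : act 6 n83462 = n174665 := rfl
def n174666 : Q := act 5 n83463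
theorem D174666 : act 5 n83463 = n174666 := rfl
theorem F273521 : act 0 n174666 = n158856 := d17_2 (iv1 F258640) D174666 (iv5 D158856) (iv4 F122689) (iv5 F72492) (iv0 F72538) (iv5 F136137) F136139 (iv4 F258637)
theorem F273522 : act 1 n174666 = n158853 := d17_6 D34661 F59653 (iv1 F59652) (iv5 F59321) (iv4 F128572) D174666 (iv5 D158853) (iv0 D75799) (iv4 D34663)
def n174667 : Q := act 0 n83464
theorem D174667 : act 0 n83464 = n174667 := rfl
def n174668 : Q := act 1 n83464
theorem D174668 : act 1 n83464 = n174668 := rfl
def n174669 : Q := act 2 n83464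
theorem D174669 : act 2 n83464 = n174669 := rfl
def n174670 : Q := act 5 n83464
theorem D174670 : act 5 n83464 = n174670 := rfl
theorem F273523 : act 3 n174670 = n83465 := d6_1 D174670 (iv5 D83465) D83464
def n174671 : Q := act 6 n83464
theorem D174671 : act 6 n83464 = n174671 := rfl
theorem F273524 : act 3 n174671 = n83466 := d7_1 D174671 (iv6 D83466) D83464
def n174672 : Q := act 0 n83465
theorem D174672 : act 0 n83465 = n174672 := rfl
theorem F273525 : act 5 n174672 = n124636 := d17_3 D38480 D83465 D174672 (iv4 D124636) F117895 F59315 (iv5 D38474) (iv0 D18338) D18340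
theorem F273527 : act 2 n174608 = n174672 := d2_3 F273525 F199359 D174608
theorem F273528 : act 7 n174606 = n174672 := d13_0 F273525 F199361 D174606
def n174673 : Q := act 1 n83465
theorem D174673 : act 1 n83465 = n174673 := rfl
theorem F273530 : act 7 n174673 = n174608 := d15_2 (iv0 D174672) D174673 F273527
theorem F273531 : act 5 n174673 = n124637 := d17_7 D88740 F136085 F135952 F118984 (iv4 F127829) D83465 D174673 F199367 (iv4 D88742)
theorem F273532 : act 2 n174606 = n174673 := d2_3 F273531 F199364 D174606
def n174674 : Q := act 6 n83465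
theorem D174674 : act 6 n83465 = n174674 := rfl
def n174678 : Q := act 0 n83467
theorem D174678 : act 0 n83467 = n174678 := rfl
def n174679 : Q := act 1 n83467
theorem D174679 : act 1 n83467 = n174679 := rfl
def n174680 : Q := act 2 n83467
theorem D174680 : act 2 n83467 = n174680 := rfl
theorem F273535 : act 4 n174680 = n165627 := d1_2 (iv4 F128573) D174680 (iv2 D165627)
def n174681 : Q := act 5 n83467
theorem D174681 : act 5 n83467 = n174681 := rfl
theorem F273536 : act 3 n174681 = n83468 := d6_1 D174681 (iv5 D83468) D83467
def n174682 : Q := act 6 n83467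
theorem D174682 : act 6 n83467 = n174682 := rfl
def n174683 : Q := act 6 n83468
theorem D174683 : act 6 n83468 = n174683 := rfl
def n174684 : Q := act 5 n83469
theorem D174684 : act 5 n83469 = n174684 := rfl
theorem F273539 : act 0 n174684 = n158849 := d17_2 F248898 D174684 (iv5 D158849) (iv4 D75797) (iv5 F58646) (iv0 F58773) (iv5 F59321) (iv0 F112821) D157997
theorem F273540 : act 1 n174684 = n158845 := d17_6 (iv1 F135881) F122754 (iv1 F135962) F135957 (iv4 F128574) D174684 (iv5 D158845) F151540 (iv4 D88638)
def n174686 : Q := act 2 n83470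
theorem D174686 : act 2 n83470 = n174686 := rfl
theorem F273544 : act 7 n83471 = n174686 := d15_2 (iv0 D83470) D83471 (iv2 D174686)
def n174691 : Q := act 7 n83470
theorem D174691 : act 7 n83470 = n174691 := rfl
theorem F273545 : act 2 n174691 = n83471 := d4_1 D174691 F273544 (iv2 D174686)
def n174692 : Q := act 3 n83471
theorem D174692 : act 3 n83471 = n174692 := rfl
def n174693 : Q := act 4 n83471
theorem D174693 : act 4 n83471 = n174693 := rfl
def n174694 : Q := act 5 n83471
theorem D174694 : act 5 n83471 = n174694 := rfl
def n174695 : Q := act 6 n83471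
theorem D174695 : act 6 n83471 = n174695 := rfl
def n174698 : Q := act 5 n83472
theorem D174698 : act 5 n83472 = n174698 := rfl
theorem F273548 : act 2 n174698 = n83473 := d2_1 D174698 (iv5 D83473) D83472
def n174699 : Q := act 0 n83473
theorem D174699 : act 0 n83473 = n174699 := rfl
def n174700 : Q := act 1 n83473
theorem D174700 : act 1 n83473 = n174700 := rfl
def n174701 : Q := act 4 n83473
theorem D174701 : act 4 n83473 = n174701 := rfl
def n174702 : Q := act 6 n83473
theorem D174702 : act 6 n83473 = n174702 := rfl
theorem F273549 : act 3 n174702 = n83478 := d7_1 D174702 (iv6 D83478) (iv3 F128576)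
theorem F273550 : act 5 n174702 = n158120 := d12_1 D174702 (iv6 D158120) (iv5 D75308) (iv6 F59322) D83473
def n174705 : Q := act 3 n83475
theorem D174705 : act 3 n83475 = n174705 := rfl
def n174706 : Q := act 6 n83475
theorem D174706 : act 6 n83475 = n174706 := rfl
def n174707 : Q := act 3 n83476
theorem D174707 : act 3 n83476 = n174707 := rfl
theorem F273555 : act 5 n174707 = n165572 := d6_2 (iv5 F128578) D174707 (iv3 D165572)
def n174708 : Q := act 6 n83476
theorem D174708 : act 6 n83476 = n174708 := rfl
theorem F273556 : act 5 n174708 = n174237 := d12_1 D174708 (iv6 D174237) (iv5 D83285) (iv6 F122132) (iv5 F128578)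
def n174709 : Q := act 3 n83477
theorem D174709 : act 3 n83477 = n174709 := rfl
def n174710 : Q := act 6 n83477
theorem D174710 : act 6 n83477 = n174710 := rfl
theorem F273557 : act 4 n174710 = n83478 := d10_1 D174710 (iv6 D83478) D83477
def n174711 : Q := act 0 n83478
theorem D174711 : act 0 n83478 = n174711 := rfl
def n174712 : Q := act 1 n83478
theorem D174712 : act 1 n83478 = n174712 := rfl
def n174713 : Q := act 7 n83478
theorem D174713 : act 7 n83478 = n174713 := rfl
theorem F273558 : act 5 n174713 = n158127 := d13_1 D174713 (iv7 D158127) (iv5 F128579)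
def n174714 : Q := act 6 n83479
theorem D174714 : act 6 n83479 = n174714 := rfl
def n174716 : Q := act 0 n83481
theorem D174716 : act 0 n83481 = n174716 := rfl
def n174717 : Q := act 1 n83481
theorem D174717 : act 1 n83481 = n174717 := rfl
def n174718 : Q := act 5 n83481
theorem D174718 : act 5 n83481 = n174718 := rfl
theorem F273560 : act 3 n174718 = n83486 := d6_1 D174718 (iv5 D83486) (iv3 F128583)
theorem F273561 : act 6 n174718 = n152205 := d12_2 D83481 D174718 (iv5 D152205) (iv6 D71787) (iv5 F71637)
def n174719 : Q := act 7 n83481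
theorem D174719 : act 7 n83481 = n174719 := rfl
theorem F273562 : act 3 n174719 = n83487 := d8_1 D174719 (iv7 D83487) (iv3 F128583)
def n174720 : Q := act 0 n83482
theorem D174720 : act 0 n83482 = n174720 := rfl
def n174721 : Q := act 1 n83482
theorem D174721 : act 1 n83482 = n174721 := rfl
def n174722 : Q := act 5 n83482
theorem D174722 : act 5 n83482 = n174722 := rfl
def n174723 : Q := act 7 n83482
theorem D174723 : act 7 n83482 = n174723 := rfl
theorem F273563 : act 4 n174723 = n83487 := d11_1 D174723 (iv7 D83487) (iv4 F128584)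
def n174724 : Q := act 5 n83483
theorem D174724 : act 5 n83483 = n174724 := rfl
theorem F273565 : act 3 n174724 = n152205 := d6_1 D174724 (iv5 D152205) (iv3 F128586)
theorem F273566 : act 6 n174724 = n83486 := d12_2 D83483 D174724 (iv5 D83486) (iv6 D38490) D38489
def n174725 : Q := act 2 n83484
theorem D174725 : act 2 n83484 = n174725 := rfl
def n174726 : Q := act 3 n83484
theorem D174726 : act 3 n83484 = n174726 := rfl
def n174727 : Q := act 4 n83484
theorem D174727 : act 4 n83484 = n174727 := rfl
def n174728 : Q := act 5 n83484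
theorem D174728 : act 5 n83484 = n174728 := rfl
def n174729 : Q := act 6 n83484
theorem D174729 : act 6 n83484 = n174729 := rfl
def n174730 : Q := act 7 n83484
theorem D174730 : act 7 n83484 = n174730 := rfl
def n174735 : Q := act 0 n83486
theorem D174735 : act 0 n83486 = n174735 := rfl
def n174736 : Q := act 1 n83486
theorem D174736 : act 1 n83486 = n174736 := rfl
def n174737 : Q := act 4 n83486
theorem D174737 : act 4 n83486 = n174737 := rfl
def n174738 : Q := act 7 n83486
theorem D174738 : act 7 n83486 = n174738 := rfl
theorem F273570 : act 5 n174738 = n83487 := d13_1 D174738 (iv7 D83487) D83486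
def n174739 : Q := act 6 n83488
theorem D174739 : act 6 n83488 = n174739 := rfl
theorem F273572 : act 3 n174739 = n83491 := d7_1 D174739 (iv6 D83491) (iv3 F128589)
theorem F273573 : act 4 n174739 = n154828 := d10_1 D174739 (iv6 D154828) (iv4 F128591)
theorem F273574 : act 0 n154828 = n86525 := d20_7 F88671 (iv1 F43675) D27057 D56126 (iv1 F193919) (iv3 F273572) F273573 F132734 (iv3 D56079) (iv1 F88674)
def n174742 : Q := act 5 n83489
theorem D174742 : act 5 n83489 = n174742 := rfl
theorem F273575 : act 3 n174742 = n83494 := d6_1 D174742 (iv5 D83494) (iv3 F128593)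
def n174743 : Q := act 7 n83489
theorem D174743 : act 7 n83489 = n174743 := rfl
theorem F273576 : act 3 n174743 = n83495 := d8_1 D174743 (iv7 D83495) (iv3 F128593)
def n174744 : Q := act 0 n83490
theorem D174744 : act 0 n83490 = n174744 := rfl
def n174745 : Q := act 1 n83490
theorem D174745 : act 1 n83490 = n174745 := rfl
def n174746 : Q := act 5 n83490
theorem D174746 : act 5 n83490 = n174746 := rfl
def n174747 : Q := act 7 n83490
theorem D174747 : act 7 n83490 = n174747 := rfl
def n174748 : Q := act 5 n83491
theorem D174748 : act 5 n83491 = n174748 := rfl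
theorem F273579 : act 6 n174748 = n83494 := d12_2 D83491 D174748 (iv5 D83494) (iv6 D38494) D38493
def n174759 : Q := act 0 n83494
theorem D174759 : act 0 n83494 = n174759 := rfl
def n174761 : Q := act 4 n83494
theorem D174761 : act 4 n83494 = n174761 := rfl
def n174762 : Q := act 7 n83494
theorem D174762 : act 7 n83494 = n174762 := rfl
theorem F273582 : act 5 n174762 = n83495 := d13_1 D174762 (iv7 D83495) D83494
def n174763 : Q := act 2 n83496
theorem D174763 : act 2 n83496 = n174763 := rfl
def n174764 : Q := act 4 n83496
theorem D174764 : act 4 n83496 = n174764 := rfl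
theorem F273584 : act 3 n174764 = n124316 := d5_1 D174764 F244134 (iv3 D155226) D155227 F244135
def n174765 : Q := act 5 n83496
theorem D174765 : act 5 n83496 = n174765 := rfl
def n174766 : Q := act 6 n83496
theorem D174766 : act 6 n83496 = n174766 := rfl
theorem F273585 : act 5 n174766 = n98244 := d21_6 (iv5 F56066) (iv1 D35354) F29530 D38495 D83496 D174766 (iv1 D98244) (iv5 D45915) (iv6 D21954) D21951
def n174767 : Q := act 7 n83496
theorem D174767 : act 7 n83496 = n174767 := rfl
def n174768 : Q := act 4 n83497
theorem D174768 : act 4 n83497 = n174768 := rfl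
def n174769 : Q := act 5 n83497
theorem D174769 : act 5 n83497 = n174769 := rfl
def n174770 : Q := act 6 n83497
theorem D174770 : act 6 n83497 = n174770 := rfl
def n174771 : Q := act 0 n83498
theorem D174771 : act 0 n83498 = n174771 := rfl
def n174772 : Q := act 1 n83498
theorem D174772 : act 1 n83498 = n174772 := rfl
theorem F273587 : act 1 n174772 = n83523 := d15_1 D174772 (iv7 D83523) (iv2 F128598)
theorem F273588 : act 5 n158373 = n174772 := d21_6 F59334 (iv1 F56146) (iv5 D34559) D34560 D75531 D158373 (iv1 D174772) (iv5 D83498) (iv6 D38495) (iv1 F59042)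
def n174773 : Q := act 4 n83498
theorem D174773 : act 4 n83498 = n174773 := rfl
theorem F273589 : act 2 n174773 = n83522 := d1_1 D174773 (iv4 D83522) (iv2 F128598)
theorem F273590 : act 6 n174773 = n161298 := d10_2 (iv6 F128600) D174773 (iv4 D161298)
def n174774 : Q := act 7 n83498
theorem D174774 : act 7 n83498 = n174774 := rfl
theorem F273591 : act 2 n174774 = n83523 := d4_1 D174774 (iv7 D83523) (iv2 F128598)
theorem F273593 : act 5 n174774 = n83499 := d13_1 D174774 (iv7 D83499) D83498
theorem F273594 : act 1 n83523 = n174771 := d15_0 (iv0 D174771) D174774 F273591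
theorem F273595 : act 1 n83521 = n174774 := d15_1 D83521 (iv7 D174774) F128598
theorem F273596 : act 1 n174774 = n83520 := d15_0 (iv0 D83520) D83523 (iv2 F273591)
def n174776 : Q := act 6 n83500
theorem D174776 : act 6 n83500 = n174776 := rfl
theorem F273598 : act 3 n174776 = n85982 := d7_1 D174776 (iv6 F190696) F190694
def n174777 : Q := act 3 n83501
theorem D174777 : act 3 n83501 = n174777 := rfl
theorem F273599 : act 2 n174777 = n154069 := d0_1 D174777 (iv3 D154069) F190690 (iv3 F154849) F185518
def n174778 : Q := act 4 n83501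
theorem D174778 : act 4 n83501 = n174778 := rfl
theorem F273601 : act 2 n174778 = n119382 := d1_1 D174778 F188068 F185518
theorem F273602 : act 7 n174778 = n173212 := d11_2 (iv7 F185519) D174778 F271518
theorem F273603 : act 3 n174778 = n173205 := d20_3 (iv4 F154853) (iv1 F154855) D174778 (iv1 D173205) F127673 (iv4 F128109) D173768 F272355 (iv3 D83511) (iv1 F128605)
def n174781 : Q := act 0 n83502
theorem D174781 : act 0 n83502 = n174781 := rfl
def n174782 : Q := act 1 n83502
theorem D174782 : act 1 n83502 = n174782 := rfl
def n174783 : Q := act 4 n83502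
theorem D174783 : act 4 n83502 = n174783 := rfl
def n174784 : Q := act 7 n83502
theorem D174784 : act 7 n83502 = n174784 := rfl
theorem F273604 : act 3 n174784 = n171364 := d8_1 D174784 F269086 F135895
theorem F273605 : act 5 n174784 = n83503 := d13_1 D174784 (iv7 D83503) D83502
def n174785 : Q := act 6 n83504
theorem D174785 : act 6 n83504 = n174785 := rfl
theorem F273606 : act 2 n174785 = n122636 := d3_1 D174785 (iv6 D122636) (iv2 F128607)
theorem F273607 : act 3 n174785 = n100416 := d7_1 D174785 (iv6 D100416) (iv3 F128608)
def n174786 : Q := act 0 n83505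
theorem D174786 : act 0 n83505 = n174786 := rfl
def n174787 : Q := act 1 n83505
theorem D174787 : act 1 n83505 = n174787 := rfl
theorem F273608 : act 1 n174787 = n120514 := d15_1 D174787 F191979 (iv2 F128610)
theorem F273609 : act 3 n174787 = n158160 := d20_5 (iv4 F87635) F91432 (iv4 F91213) D120514 (iv1 F273608) (iv4 D158160) (iv1 D75325) (iv4 F87626) F87625 D55366
def n174788 : Q := act 5 n83505
theorem D174788 : act 5 n83505 = n174788 := rfl
theorem F273611 : act 3 n174788 = n100419 := d6_1 D174788 (iv5 D100419) (iv3 F128611)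
def n174789 : Q := act 7 n83505
theorem D174789 : act 7 n83505 = n174789 := rfl
theorem F273612 : act 2 n174789 = n120514 := d4_1 D174789 F191979 (iv2 F128610)
theorem F273613 : act 3 n174789 = n100420 := d8_1 D174789 (iv7 D100420) (iv3 F128611)
theorem F273614 : act 4 n174789 = n83509 := d11_1 D174789 (iv7 D83509) (iv4 F128612)
theorem F273615 : act 1 n120514 = n174786 := d15_0 (iv0 D174786) D174789 F273612
theorem F273616 : act 1 n122638 = n174789 := d15_1 D122638 (iv7 D174789) F128610
theorem F273617 : act 1 n174789 = n122637 := d15_0 (iv0 D122637) (iv7 F191979) (iv2 F273612)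
def n174790 : Q := act 5 n83506
theorem D174790 : act 5 n83506 = n174790 := rfl
theorem F273619 : act 3 n174790 = n164556 := d6_1 D174790 (iv5 D164556) (iv3 F234132)
def n174791 : Q := act 6 n83506
theorem D174791 : act 6 n83506 = n174791 := rfl
theorem F273622 : act 3 n174791 = n164557 := d7_1 D174791 (iv6 D164557) (iv3 F234132)
def n174792 : Q := act 3 n83507
theorem D174792 : act 3 n83507 = n174792 := rfl
theorem F273625 : act 4 n174792 = n167181 := d20_6 (iv4 D36524) (iv1 F28681) (iv4 F56070) (iv3 F116247) (iv1 F128613) D174792 (iv1 D167181) F123342 F57440 (iv1 F116614)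
def n174793 : Q := act 4 n83507
theorem D174793 : act 4 n83507 = n174793 := rfl
def n174794 : Q := act 5 n83507
theorem D174794 : act 5 n83507 = n174794 := rfl
def n174796 : Q := act 0 n83508
theorem D174796 : act 0 n83508 = n174796 := rfl
def n174797 : Q := act 1 n83508
theorem D174797 : act 1 n83508 = n174797 := rfl
theorem F273632 : act 1 n174797 = n161299 := d15_1 D174797 (iv7 D161299) (iv2 F128614)
theorem F273633 : act 5 n161584 = n174797 := d21_6 (iv5 F64251) (iv1 F54804) F34459 D35430 D77610 D161584 (iv1 D174797) (iv5 D83508) (iv6 D38498) F57390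
def n174798 : Q := act 4 n83508
theorem D174798 : act 4 n83508 = n174798 := rfl
theorem F273634 : act 2 n174798 = n161298 := d1_1 D174798 (iv4 D161298) (iv2 F128614)
theorem F273635 : act 6 n174798 = n83522 := d10_2 (iv6 F128616) D174798 (iv4 D83522)
def n174799 : Q := act 7 n83508
theorem D174799 : act 7 n83508 = n174799 := rfl
theorem F273636 : act 2 n174799 = n161299 := d4_1 D174799 (iv7 D161299) (iv2 F128614)
theorem F273637 : act 3 n174799 = n83537 := d8_1 D174799 (iv7 D83537) (iv3 F128615)
theorem F273638 : act 5 n174799 = n83509 := d13_1 D174799 (iv7 D83509) D83508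
theorem F273639 : act 1 n161299 = n174796 := d15_0 (iv0 D174796) D174799 F273636
theorem F273640 : act 1 n161297 = n174799 := d15_1 D161297 (iv7 D174799) F128614
theorem F273641 : act 1 n174799 = n161296 := d15_0 (iv0 D161296) D161299 (iv2 F273636)
def n174800 : Q := act 0 n83510
theorem D174800 : act 0 n83510 = n174800 := rfl
theorem F273642 : act 1 n83515 = n174800 := d15_0 (iv0 D174800) (iv7 F128622) (iv2 F128623)
def n174802 : Q := act 3 n83510
theorem D174802 : act 3 n83510 = n174802 := rfl
theorem F273644 : act 7 n174802 = n83516 := d8_2 F128622 D174802 (iv3 D83516)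
def n174803 : Q := act 4 n83510
theorem D174803 : act 4 n83510 = n174803 := rfl
theorem F273645 : act 2 n174803 = n83512 := d1_1 D174803 (iv4 D83512) D83510
theorem F273646 : act 7 n174803 = n83517 := d11_2 F128622 D174803 (iv4 D83517)
def n174804 : Q := act 5 n83510
theorem D174804 : act 5 n83510 = n174804 := rfl
theorem F273647 : act 2 n174804 = n83513 := d2_1 D174804 (iv5 D83513) D83510
theorem F273648 : act 7 n174804 = n83518 := d13_2 F128622 D174804 (iv5 D83518)
def n174805 : Q := act 6 n83510
theorem D174805 : act 6 n83510 = n174805 := rfl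
theorem F273649 : act 2 n174805 = n83514 := d3_1 D174805 (iv6 D83514) D83510
def n174806 : Q := act 2 n83511
theorem D174806 : act 2 n83511 = n174806 := rfl
theorem F273650 : act 7 n164553 = n174806 := d15_2 F272357 D164553 (iv2 D174806)
def n174807 : Q := act 5 n83511
theorem D174807 : act 5 n83511 = n174807 := rfl
theorem F273651 : act 3 n174807 = n83513 := d6_1 D174807 (iv5 D83513) D83511
def n174808 : Q := act 6 n83511
theorem D174808 : act 6 n83511 = n174808 := rfl
theorem F273652 : act 3 n174808 = n83514 := d7_1 D174808 (iv6 D83514) D83511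
def n174809 : Q := act 7 n83511
theorem D174809 : act 7 n83511 = n174809 := rfl
theorem F273653 : act 2 n174809 = n164553 := d4_1 D174809 F273650 (iv2 D174806)
theorem F273654 : act 3 n174809 = n83515 := d8_1 D174809 (iv7 D83515) D83511
theorem F273655 : act 2 n83516 = n155232 := d0_3 F273654 F128623 D83516 (iv3 F259371) (iv2 F273653)
theorem E24475 : n155236 = n155230 := ((c1_4 (iv4 F244139) F273655 (iv4 D155232) (iv2 F244136))).symm
theorem F273656 : act 0 n155230 = n73723 := (sb E24475 (iv1 D155236))
theorem F273657 : act 1 n155230 = n73725 := (sb E24475 F244138)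
theorem F273658 : act 4 n155230 = n83516 := (sb E24475 (iv4 F244139))
theorem E24476 : n174802 = n155227 := (c11_3 D155230 F273658 (iv7 F273644) (iv4 D155227))
theorem E24477 : n83510 = n83496 := (((F244135).symm.trans (sb E24476 (iv3 D174802)))).symm
theorem F273659 : act 7 n155227 = n83516 := (sb E24476 F273644)
theorem E24478 : n174800 = n38502 := ((((iv1 F128603)).symm.trans (sb E24477 D174800))).symm
theorem E24480 : n174763 = n38499 := ((D174763).symm.trans (sb E24477 (iv2 D83510)))
theorem E24481 : n174803 = n174764 := (((D174764).symm.trans (sb E24477 D174803))).symm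
theorem E24482 : n174804 = n174765 := (((D174765).symm.trans (sb E24477 D174804))).symm
theorem E24483 : n174805 = n174766 := (((D174766).symm.trans (sb E24477 D174805))).symm
theorem E24484 : n174767 = n38500 := ((D174767).symm.trans (sb E24477 (iv7 F128622)))
theorem E24485 : n83515 = n83497 := ((((iv1 F128597)).symm.trans (sb E24478 (iv1 F273642)))).symm
theorem F273660 : act 2 n38499 = n83496 := (sb E24480 (iv2 D174763))
theorem F273661 : act 2 n174764 = n83512 := (sb E24481 F273645)
theorem F273662 : act 7 n174764 = n83517 := (sb E24481 F273646)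
theorem F273663 : act 2 n174765 = n83513 := (sb E24482 F273647)
theorem F273664 : act 7 n174765 = n83518 := (sb E24482 F273648)
theorem F273665 : act 2 n174766 = n83514 := (sb E24483 F273649)
theorem F273666 : act 7 n38500 = n83496 := (sb E24484 (iv7 D174767))
theorem F273667 : act 2 n83497 = n38500 := (sb E24485 F128623)
theorem E24486 : n174809 = n173778 := ((((iv3 F272374)).symm.trans (sb E24485 (iv3 F273654)))).symm
theorem F273668 : act 7 n83497 = n38499 := (sb E24485 (iv7 D83515))
theorem F273669 : act 2 n173778 = n164553 := (sb E24486 F273653)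
theorem F273670 : act 7 n173778 = n83511 := (sb E24486 (iv7 D174809))
theorem E24487 : n173772 = n173768 := ((c11_2 F273670 (iv4 F272355) (iv7 F272372) D173778)).symm
theorem F273671 : act 2 n173768 = n83101 := (sb E24487 (iv2 D173772))
theorem F273672 : act 7 n173768 = n83102 := (sb E24487 (iv7 F272372))
theorem F273673 : act 7 n173777 = n154160 := d8_2 F273672 D173777 F272359
theorem E24488 : n173776 = n173769 := (c15_4 F272360 (iv0 F272358) F273672 (iv2 F272373))
theorem F273674 : act 2 n173769 = n83102 := (sb E24488 F272373)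
theorem F273675 : act 7 n173769 = n83101 := (sb E24488 (iv7 D173776))
theorem E24489 : n174806 = n119440 := ((c11_2 F273675 (iv4 F272371) (iv7 F273650) F272361)).symm
theorem F273676 : act 2 n119440 = n83511 := (sb E24489 (iv2 D174806))
theorem F273677 : act 7 n119440 = n164553 := (sb E24489 (iv7 F273650))
theorem E24490 : n173778 = n119441 := (c15_4 F259378 F259379 F273677 (iv2 F273669))
theorem F273678 : act 2 n119441 = n164553 := (sb E24490 F273669)
theorem F273679 : act 3 n119441 = n83497 := (sb E24490 F272374)
theorem F273680 : act 4 n119441 = n83102 := (sb E24490 (iv4 D173778))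
theorem F273681 : act 7 n119441 = n83511 := (sb E24490 F273670)
theorem F273682 : act 0 n154164 = n173777 := d20_4 (iv4 D124667) (iv1 F92095) (iv4 F109555) (iv3 F242276) (iv3 D173777) (iv4 F273680) (iv1 D119441) (iv4 F188205) F188204 F199419
theorem F273683 : act 1 n154162 = n173777 := d15_0 (iv0 F273682) (iv7 D154164) D154162
theorem F273684 : act 7 n83512 = n174768 := d11_2 F273668 D83512 (iv4 D174768)
theorem F273685 : act 7 n83513 = n174769 := d13_2 F273668 D83513 (iv5 D174769)
theorem F273686 : act 2 n174769 = n83518 := d4_1 F273685 (iv7 F273664) F273663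
theorem F273687 : act 2 n174768 = n83517 := d4_1 F273684 (iv7 F273662) F273661
theorem F273688 : act 2 n83519 = n174770 := d3_3 (iv6 D174770) F273667 D83519
theorem E24491 : n155235 = n155225 := (c15_2 F273657 F244137 (iv7 F244133) (iv2 F244136))
theorem F273690 : act 1 n155225 = n73723 := (sb E24491 (iv0 D155235))
def n174810 : Q := act 0 n83512
theorem D174810 : act 0 n83512 = n174810 := rfl
theorem F273691 : act 1 n83517 = n174810 := d15_0 (iv0 D174810) F273684 F273687
def n174811 : Q := act 1 n83512
theorem D174811 : act 1 n83512 = n174811 := rfl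
theorem F273692 : act 1 n174811 = n83517 := d15_1 D174811 (iv7 F273662) F273661
def n174812 : Q := act 3 n83512
theorem D174812 : act 3 n83512 = n174812 := rfl
theorem F273693 : act 4 n174812 = n154160 := d5_2 D83512 D174812 F272359 F272355 (iv3 D83511)
def n174813 : Q := act 5 n83512
theorem D174813 : act 5 n83512 = n174813 := rfl
def n174814 : Q := act 6 n83512
theorem D174814 : act 6 n83512 = n174814 := rfl
theorem F273694 : act 4 n174814 = n83514 := d10_1 D174814 (iv6 D83514) D83512
def n174815 : Q := act 0 n83513
theorem D174815 : act 0 n83513 = n174815 := rfl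
theorem F273695 : act 1 n83518 = n174815 := d15_0 (iv0 D174815) F273685 F273686
def n174816 : Q := act 1 n83513
theorem D174816 : act 1 n83513 = n174816 := rfl
theorem F273696 : act 1 n174816 = n83518 := d15_1 D174816 (iv7 F273664) F273663
def n174817 : Q := act 4 n83513
theorem D174817 : act 4 n83513 = n174817 := rfl
def n174818 : Q := act 6 n83513
theorem D174818 : act 6 n83513 = n174818 := rfl
def n174819 : Q := act 0 n83514
theorem D174819 : act 0 n83514 = n174819 := rfl
def n174820 : Q := act 1 n83514
theorem D174820 : act 1 n83514 = n174820 := rfl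
def n174821 : Q := act 5 n83514
theorem D174821 : act 5 n83514 = n174821 := rfl
theorem F273697 : act 2 n174821 = n98244 := d2_1 D174821 (iv5 F273585) F273665
theorem F273698 : act 0 n174821 = n98231 := d21_7 F64255 (iv1 F57387) (iv5 D18346) D18347 D38499 D83514 D174821 (iv5 D98231) (iv6 D45912) (iv1 F54808)
theorem F273699 : act 1 n174821 = n98246 := d15_1 (iv0 F273698) (iv7 D98246) (iv2 F151582)
def n174822 : Q := act 7 n83514
theorem D174822 : act 7 n83514 = n174822 := rfl
def n174823 : Q := act 0 n83516
theorem D174823 : act 0 n83516 = n174823 := rfl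
def n174824 : Q := act 1 n83516
theorem D174824 : act 1 n83516 = n174824 := rfl
def n174825 : Q := act 5 n83516
theorem D174825 : act 5 n83516 = n174825 := rfl
theorem F273700 : act 3 n174825 = n83518 := d6_1 D174825 (iv5 D83518) D83516
def n174826 : Q := act 6 n83516
theorem D174826 : act 6 n83516 = n174826 := rfl
theorem F273701 : act 3 n174826 = n83519 := d7_1 D174826 (iv6 D83519) D83516
def n174827 : Q := act 3 n83517
theorem D174827 : act 3 n83517 = n174827 := rfl
theorem F273702 : act 7 n174827 = n124316 := d8_2 F273662 D174827 (iv3 F273584)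
theorem F273703 : act 0 n174827 = n118071 := d20_4 F154853 (iv1 F128604) D83517 D174827 F185499 F85866 D54387 (iv4 F190695) F190694 (iv1 F154856)
theorem F273704 : act 0 n124319 = n174827 := d20_4 (iv4 D27667) (iv1 F44588) (iv4 F91695) (iv3 F198800) (iv3 D174827) (iv4 D83517) (iv1 D38500) (iv4 F59345) (iv3 F63809) F118769
def n174828 : Q := act 5 n83517
theorem D174828 : act 5 n83517 = n174828 := rfl
def n174829 : Q := act 6 n83517
theorem D174829 : act 6 n83517 = n174829 := rfl
theorem F273705 : act 4 n174829 = n83519 := d10_1 D174829 (iv6 D83519) D83517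
def n174830 : Q := act 4 n83518
theorem D174830 : act 4 n83518 = n174830 := rfl
def n174831 : Q := act 6 n83518
theorem D174831 : act 6 n83518 = n174831 := rfl
def n174832 : Q := act 0 n83519
theorem D174832 : act 0 n83519 = n174832 := rfl
def n174833 : Q := act 1 n83519
theorem D174833 : act 1 n83519 = n174833 := rfl
def n174834 : Q := act 5 n83519
theorem D174834 : act 5 n83519 = n174834 := rfl
def n174835 : Q := act 7 n83519
theorem D174835 : act 7 n83519 = n174835 := rfl
def n174836 : Q := act 2 n83520
theorem D174836 : act 2 n83520 = n174836 := rfl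
theorem F273706 : act 7 n83521 = n174836 := d15_2 (iv0 D83520) D83521 (iv2 D174836)
def n174837 : Q := act 3 n83520
theorem D174837 : act 3 n83520 = n174837 := rfl
def n174838 : Q := act 4 n83520
theorem D174838 : act 4 n83520 = n174838 := rfl
def n174839 : Q := act 5 n83520
theorem D174839 : act 5 n83520 = n174839 := rfl
def n174840 : Q := act 6 n83520
theorem D174840 : act 6 n83520 = n174840 := rfl
def n174841 : Q := act 7 n83520
theorem D174841 : act 7 n83520 = n174841 := rfl
theorem F273707 : act 2 n174841 = n83521 := d4_1 D174841 F273706 (iv2 D174836)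
def n174842 : Q := act 3 n83521
theorem D174842 : act 3 n83521 = n174842 := rfl
def n174843 : Q := act 4 n83521
theorem D174843 : act 4 n83521 = n174843 := rfl
def n174844 : Q := act 5 n83521
theorem D174844 : act 5 n83521 = n174844 := rfl
theorem F273708 : act 6 n174844 = n158361 := d21_3 (iv5 F273593) (iv1 F273595) D174844 (iv1 F249522) F113378 (iv5 F151593) (iv1 F273699) (iv5 D174821) (iv6 D83514) (iv1 F128605)
def n174845 : Q := act 6 n83521
theorem D174845 : act 6 n83521 = n174845 := rfl
def n174846 : Q := act 0 n83522
theorem D174846 : act 0 n83522 = n174846 := rfl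
def n174847 : Q := act 1 n83522
theorem D174847 : act 1 n83522 = n174847 := rfl
def n174848 : Q := act 3 n83522
theorem D174848 : act 3 n83522 = n174848 := rfl
theorem F273709 : act 4 n174848 = n83544 := d5_2 D83522 D174848 (iv3 D83544) (iv4 D38519) (iv3 F59350)
def n174849 : Q := act 5 n83522
theorem D174849 : act 5 n83522 = n174849 := rfl
def n174850 : Q := act 7 n83522
theorem D174850 : act 7 n83522 = n174850 := rfl
theorem F273710 : act 4 n174850 = n83523 := d11_1 D174850 (iv7 D83523) D83522
def n174851 : Q := act 6 n83523
theorem D174851 : act 6 n83523 = n174851 := rfl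
def n174853 : Q := act 1 n83525
theorem D174853 : act 1 n83525 = n174853 := rfl
def n174854 : Q := act 2 n83525
theorem D174854 : act 2 n83525 = n174854 := rfl
theorem F273713 : act 3 n174854 = n83606 := d0_2 D83525 D174854 (iv2 F188231) F188218 F155802
def n174855 : Q := act 4 n83525
theorem D174855 : act 4 n83525 = n174855 := rfl
theorem F273714 : act 3 n174855 = n99880 := d5_1 D174855 (iv4 D99880) F155367 (iv4 F155368) D83525
theorem F273715 : act 4 n164717 = n174853 := d20_0 (iv1 D174853) D174855 F273714 F233126 F132815 F114819 (iv1 F55443) D71532 D151757 (iv1 F259730)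
theorem F273716 : act 3 n174853 = n158768 := d20_9 F263032 (iv1 F249220) (iv4 F239838) F239837 F155360 (iv3 F255149) F255150 (iv1 F259730) F273715 (iv1 F263034)
def n174856 : Q := act 5 n83525
theorem D174856 : act 5 n83525 = n174856 := rfl
theorem F273717 : act 3 n174856 = n83527 := d6_1 D174856 (iv5 D83527) D83525
def n174857 : Q := act 6 n83525
theorem D174857 : act 6 n83525 = n174857 := rfl
theorem F273718 : act 3 n174857 = n83528 := d7_1 D174857 (iv6 D83528) D83525
def n174858 : Q := act 1 n83527
theorem D174858 : act 1 n83527 = n174858 := rfl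
theorem F273719 : act 1 n174858 = n83532 := d15_1 D174858 (iv7 F262961) F262960
def n174859 : Q := act 4 n83527
theorem D174859 : act 4 n83527 = n174859 := rfl
def n174860 : Q := act 6 n83527
theorem D174860 : act 6 n83527 = n174860 := rfl
def n174861 : Q := act 0 n83528
theorem D174861 : act 0 n83528 = n174861 := rfl
def n174862 : Q := act 1 n83528
theorem D174862 : act 1 n83528 = n174862 := rfl
theorem F273720 : act 1 n174862 = n158533 := d15_1 D174862 (iv7 F262969) F262962
theorem F273721 : act 4 n174862 = n100484 := d17_9 (iv1 D100484) F74093 (iv1 D46075) (iv5 D22006) (iv4 F29557) D38604 D83789 (iv5 F128819) D174862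
theorem F273722 : act 6 n83860 = n174862 := d21_3 D18386 D38623 D83860 (iv1 D174862) (iv6 D83528) D83527 F128871 (iv5 D83855) (iv6 D38622) (iv1 D18385)
theorem F273723 : act 2 n158536 = n174862 := d15_3 F273720 (iv0 D158533) D158536
theorem E24492 : n158523 = n83860 := ((c3_3 F272026 F273723 (iv6 F273722) (iv2 F272020))).symm
theorem F273724 : act 2 n83860 = n173583 := (sb E24492 (iv2 F272020))
theorem E24493 : n173580 = n38623 := ((((iv5 D83860)).symm.trans (sb E24492 (iv5 F272019)))).symm
theorem F273725 : act 7 n83860 = n75618 := (sb E24492 (iv7 D158523))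
theorem E24494 : n83857 = n83028 := ((D83857).symm.trans (sb E24493 (iv2 D173580)))
theorem E24495 : n83862 = n83029 := ((D83862).symm.trans (sb E24493 (iv7 F272018)))
theorem F273726 : act 2 n83028 = n38623 := (sb E24494 (iv2 D83857))
theorem E24496 : n173585 = n38624 := ((D173585).symm.trans (sb E24494 (iv7 F128872)))
theorem F273727 : act 7 n83029 = n38623 := (sb E24495 (iv7 D83862))
theorem F273728 : act 2 n38624 = n83029 := (sb E24496 F272030)
theorem E24497 : n158508 = n83865 := (((D83865).symm.trans (sb E24496 F272031))).symm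
theorem F273729 : act 7 n38624 = n83028 := (sb E24496 (iv7 D173585))
theorem F273730 : act 2 n83865 = n75618 := (sb E24497 F249699)
theorem E24498 : n75614 = n75328 := ((((iv6 F128874)).symm.trans (sb E24497 (iv6 D158508)))).symm
theorem F273731 : act 7 n83865 = n173583 := (sb E24497 F272025)
theorem E24499 : n158504 = n34588 := ((((iv1 F112949)).symm.trans (sb E24498 D158504))).symm
theorem E24501 : n158167 = n34585 := ((D158167).symm.trans (sb E24498 (iv2 D75614)))
theorem E24503 : n158169 = n100046 := ((D158169).symm.trans (sb E24498 (iv4 F249126)))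
theorem E24504 : n158507 = n158170 := (((D158170).symm.trans (sb E24498 D158507))).symm
theorem E24505 : n158171 = n34586 := ((D158171).symm.trans (sb E24498 (iv7 F113463)))
theorem E24506 : n75619 = n75329 := ((((iv1 F112943)).symm.trans (sb E24499 (iv1 F249694)))).symm
theorem F273732 : act 2 n34585 = n75328 := (sb E24501 (iv2 D158167))
theorem F273734 : act 4 n100046 = n75328 := (sb E24503 (iv4 D158169))
theorem F273735 : act 2 n158170 = n75617 := (sb E24504 F249697)
theorem F273736 : act 7 n158170 = n75622 := (sb E24504 F249698)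
theorem F273737 : act 7 n34586 = n75328 := (sb E24505 (iv7 D158171))
theorem F273738 : act 2 n75329 = n34586 := (sb E24506 F113464)
theorem E24508 : n158173 = n100051 := ((D158173).symm.trans (sb E24506 (iv4 F249128)))
theorem E24509 : n158520 = n158174 := (((D158174).symm.trans (sb E24506 (iv5 F249706)))).symm
theorem E24510 : n158524 = n158175 := (((D158175).symm.trans (sb E24506 D158524))).symm
theorem F273739 : act 7 n75329 = n34585 := (sb E24506 (iv7 D75619))
theorem F273741 : act 4 n100051 = n75329 := (sb E24508 (iv4 D158173))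
theorem F273742 : act 2 n158174 = n75622 := (sb E24509 F249705)
theorem F273743 : act 7 n158174 = n75617 := (sb E24509 (iv7 D158520))
theorem F273744 : act 1 n158175 = n166999 := (sb E24510 F272029)
theorem F273745 : act 2 n158175 = n75623 := (sb E24510 F249708)
theorem F273746 : act 7 n174862 = n158175 := d4_2 D158536 F273723 F273745
theorem E24511 : n158534 = n83528 := (c15_1 D158534 D174862 F273746 F273745)
theorem E24512 : n174861 = n75623 := ((D174861).symm.trans (sb E24511 (iv1 D158534)))
theorem F273747 : act 1 n75623 = n83528 := (sb E24512 (iv0 D174861))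
theorem F273748 : act 7 n173581 = n83863 := d8_2 F273729 D173581 (iv3 D83863)
theorem F273749 : act 7 n173582 = n83864 := d11_2 F273729 D173582 (iv4 D83864)
theorem F273750 : act 2 n173587 = n83864 := d1_3 (iv4 D83864) F273728 D173587
theorem F273751 : act 2 n173588 = n83866 := d3_3 (iv6 D83866) F273728 D173588
theorem F273752 : act 7 n83858 = n173586 := d8_2 F273727 D83858 (iv3 D173586)
theorem F273753 : act 7 n83859 = n173587 := d11_2 F273727 D83859 (iv4 D173587)
theorem F273754 : act 2 n173582 = n83859 := d4_3 F273753 F273750 (iv7 F273749)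
theorem F273755 : act 2 n83861 = n173584 := d3_3 (iv6 D173584) F273726 D83861
def n174863 : Q := act 7 n83528
theorem D174863 : act 7 n83528 = n174863 := rfl
theorem F273756 : act 2 n174863 = n158533 := d4_1 D174863 (iv7 F262969) F262962
theorem F273757 : act 4 n174863 = n101131 := d11_1 D174863 (iv7 D101131) F155369
theorem F273758 : act 5 n174863 = n158388 := d13_1 D174863 F262967 (iv5 F128819)
theorem F273759 : act 1 n158536 = n174863 := d15_1 (iv0 F272028) (iv7 D174863) (iv2 F262962)
theorem F273760 : act 1 n174863 = n158175 := d15_1 F273759 (iv7 F273746) (iv2 F273723)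
def n174864 : Q := act 5 n83530
theorem D174864 : act 5 n83530 = n174864 := rfl
theorem F273761 : act 3 n174864 = n83532 := d6_1 D174864 (iv5 D83532) D83530
def n174865 : Q := act 6 n83530
theorem D174865 : act 6 n83530 = n174865 := rfl
theorem F273762 : act 3 n174865 = n83533 := d7_1 D174865 (iv6 D83533) D83530
theorem F273763 : act 4 n174865 = n170093 := d10_1 D174865 (iv6 D170093) (iv4 F128629)
def n174866 : Q := act 4 n83532
theorem D174866 : act 4 n83532 = n174866 := rfl
def n174867 : Q := act 6 n83532
theorem D174867 : act 6 n83532 = n174867 := rfl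
def n174868 : Q := act 0 n83533
theorem D174868 : act 0 n83533 = n174868 := rfl
theorem F273764 : act 5 n174868 = n83884 := d17_1 D174868 (iv1 F128884) F74519 F35296 (iv5 F35300) F73574 D99727 (iv0 F155790) F155364
def n174869 : Q := act 1 n83533
theorem D174869 : act 1 n83533 = n174869 := rfl
def n174870 : Q := act 7 n83533
theorem D174870 : act 7 n83533 = n174870 := rfl
theorem F273765 : act 4 n174870 = n101140 := d11_1 D174870 (iv7 D101140) F155364
theorem F273766 : act 6 n174870 = n158533 := d14_1 D174870 (iv7 F262969) (iv6 D166999) F155803 D83533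
theorem F273767 : act 0 n174870 = n101675 := d21_10 (iv5 D101675) (iv1 D47281) (iv5 D22732) (iv6 D10752) (iv1 F13560) D18381 D38604 D83788 (iv5 F249711) (iv6 F273766)
theorem F273768 : act 1 n167002 = n101675 := d15_0 (iv0 F273767) (iv7 D174870) (iv2 F262975)
theorem F273769 : act 4 n101677 = n172400 := d18_3 (iv1 D47281) D47282 D101677 F270613 (iv4 D101849) F156338 (iv4 F262976) F273768 (iv5 D101675)
def n174871 : Q := act 3 n83534
theorem D174871 : act 3 n83534 = n174871 := rfl
def n174872 : Q := act 4 n83534
theorem D174872 : act 4 n83534 = n174872 := rfl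
def n174873 : Q := act 6 n83534
theorem D174873 : act 6 n83534 = n174873 := rfl
theorem F273770 : act 5 n174873 = n158629 := d21_6 (iv5 D38349) F118788 D18351 (iv6 F59352) D83534 D174873 (iv1 D158629) D158630 F249799 (iv1 F127719)
def n174876 : Q := act 0 n83536
theorem D174876 : act 0 n83536 = n174876 := rfl
def n174877 : Q := act 1 n83536
theorem D174877 : act 1 n83536 = n174877 := rfl
theorem F273771 : act 4 n174877 = n172437 := d18_7 (iv1 F205699) (iv4 D46887) (iv1 D22519) (iv4 F29534) D38505 D83536 D174877 F270657 F128291
theorem F273772 : act 2 n174058 = n174877 := d1_3 F273771 F272694 D174058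
theorem F273773 : act 7 n174055 = n174877 := d11_0 F273771 F272691 D174055
theorem F273774 : act 2 n174055 = n174876 := d15_3 (iv0 D174876) D174877 (iv7 F273773)
theorem F273775 : act 4 n174876 = n173221 := d1_2 D174055 F273774 (iv2 F272693)
theorem F273776 : act 7 n174876 = n174058 := d4_2 (iv7 F273773) F273774 F273772
theorem F273777 : act 1 n174055 = n167005 := d15_0 (iv0 F272865) (iv7 F273776) (iv2 F273774)
def n174878 : Q := act 3 n83536
theorem D174878 : act 3 n83536 = n174878 := rfl
theorem F273778 : act 6 n174878 = n83544 := d7_2 (iv6 F128630) D174878 (iv3 D83544)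
def n174879 : Q := act 5 n83536
theorem D174879 : act 5 n83536 = n174879 := rfl
def n174880 : Q := act 7 n83536
theorem D174880 : act 7 n83536 = n174880 := rfl
theorem F273779 : act 4 n174880 = n83537 := d11_1 D174880 (iv7 D83537) D83536
theorem F273780 : act 1 n174058 = n174880 := d15_1 (iv0 F272865) (iv7 D174880) (iv2 F262981)
theorem F273781 : act 1 n174880 = n174055 := d15_1 F273780 F273773 (iv2 F273772)
def n174881 : Q := act 6 n83537
theorem D174881 : act 6 n83537 = n174881 := rfl
theorem F273782 : act 7 n174881 = n83547 := d14_2 D83537 D174881 (iv6 D83547) (iv7 D38520) (iv6 F59352)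
def n174882 : Q := act 0 n83538
theorem D174882 : act 0 n83538 = n174882 := rfl
def n174883 : Q := act 1 n83538
theorem D174883 : act 1 n83538 = n174883 := rfl
def n174884 : Q := act 2 n83538
theorem D174884 : act 2 n83538 = n174884 := rfl
theorem F273783 : act 3 n174884 = n83620 := d0_2 D83538 D174884 (iv2 F191386) (iv3 F190999) F127843
def n174885 : Q := act 4 n83538
theorem D174885 : act 4 n83538 = n174885 := rfl
def n174886 : Q := act 6 n83538
theorem D174886 : act 6 n83538 = n174886 := rfl
theorem F273784 : act 3 n174886 = n83539 := d7_1 D174886 (iv6 D83539) D83538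
def n174888 : Q := act 1 n83539
theorem D174888 : act 1 n83539 = n174888 := rfl
def n174890 : Q := act 4 n83540
theorem D174890 : act 4 n83540 = n174890 := rfl
theorem F273785 : act 0 n174890 = n84924 := d18_2 (iv1 F191384) D174890 (iv4 D84924) (iv5 D39287) F29915 F53232 D33862 F189967 (iv5 F188240)
def n174895 : Q := act 3 n83542
theorem D174895 : act 3 n83542 = n174895 := rfl
theorem F273789 : act 7 n174895 = n174138 := d8_2 (iv7 F128639) D174895 (iv3 D174138)
def n174896 : Q := act 5 n83542
theorem D174896 : act 5 n83542 = n174896 := rfl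
theorem F273790 : act 2 n174896 = n174130 := d2_1 D174896 (iv5 D174130) F128637
theorem F273791 : act 7 n174896 = n174139 := d13_2 (iv7 F128639) D174896 (iv5 D174139)
theorem F273792 : act 4 n174896 = n173257 := d16_2 (iv4 F128638) D174896 (iv5 D173257) (iv4 F127735) (iv5 F63823) (iv4 F72871) F127703 (iv7 F127714) (iv2 F127713)
def n174897 : Q := act 6 n83542
theorem D174897 : act 6 n83542 = n174897 := rfl
theorem F273793 : act 2 n174897 = n174131 := d3_1 D174897 (iv6 D174131) F128637
theorem F273794 : act 4 n174897 = n173234 := d10_1 D174897 (iv6 D173234) (iv4 F128638)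
def n174898 : Q := act 3 n83543
theorem D174898 : act 3 n83543 = n174898 := rfl
theorem F273795 : act 7 n174898 = n174129 := d8_2 F128636 D174898 (iv3 D174129)
def n174899 : Q := act 5 n83543
theorem D174899 : act 5 n83543 = n174899 := rfl
theorem F273796 : act 2 n174899 = n174139 := d2_1 D174899 (iv5 D174139) F128635
theorem F273797 : act 4 n174899 = n173255 := d9_1 D174899 (iv5 D173255) F127738 D88656 F135968 (iv5 F127711) (iv4 F128638) D174896 F273792 (iv5 D173257) (iv4 F127735) (iv5 F63823) (iv4 F72871) F127703 (iv4 F128634)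
theorem F273798 : act 7 n174899 = n174130 := d13_2 F128636 D174899 (iv5 D174130)
def n174900 : Q := act 6 n83543
theorem D174900 : act 6 n83543 = n174900 := rfl
theorem F273799 : act 2 n174900 = n174140 := d3_1 D174900 (iv6 D174140) F128635
theorem F273800 : act 4 n174900 = n173236 := d10_1 D174900 (iv6 D173236) (iv4 F128634)
def n174901 : Q := act 0 n83544
theorem D174901 : act 0 n83544 = n174901 := rfl
def n174902 : Q := act 1 n83544
theorem D174902 : act 1 n83544 = n174902 := rfl
def n174903 : Q := act 2 n83544
theorem D174903 : act 2 n83544 = n174903 := rfl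
def n174904 : Q := act 5 n83544
theorem D174904 : act 5 n83544 = n174904 := rfl
theorem F273801 : act 3 n174904 = n83545 := d6_1 D174904 (iv5 D83545) D83544
def n174905 : Q := act 7 n83544
theorem D174905 : act 7 n83544 = n174905 := rfl
theorem F273802 : act 3 n174905 = n83546 := d8_1 D174905 (iv7 D83546) D83544
def n174906 : Q := act 0 n83545
theorem D174906 : act 0 n83545 = n174906 := rfl
theorem F273803 : act 5 n174906 = n173225 := d17_3 (iv1 D83543) D83545 D174906 (iv4 D173225) (iv5 D82897) (iv0 D38134) D38136 D82902 (iv4 F128634)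
theorem F273804 : act 4 n174906 = n173265 := d18_1 D174906 (iv1 D173265) D173266 F271629 F128329 F127708 (iv4 F128638) (iv0 D83542) D83545
theorem F273805 : act 2 n174093 = n174906 := d1_3 F273804 (iv2 F271627) (iv4 F272897)
theorem F273806 : act 7 n174115 = n174906 := d11_0 F273804 F271625 (iv4 F272920)
def n174907 : Q := act 1 n83545
theorem D174907 : act 1 n83545 = n174907 := rfl
theorem F273807 : act 7 n174907 = n174093 := d15_2 (iv0 D174906) D174907 F273805
theorem F273808 : act 5 n174907 = n173231 := d17_7 (iv1 F127719) (iv5 D38349) F118788 D18351 D38519 D83545 D174907 F271553 (iv4 D158632)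
theorem F273809 : act 4 n174907 = n173264 := d17_9 (iv1 F271623) F128373 (iv1 F127734) D173257 (iv4 F273792) (iv5 D174896) (iv0 D83542) D83545 D174907
theorem F273810 : act 2 n174115 = n174907 := d1_3 F273809 (iv2 F271621) (iv4 F272920)
def n174908 : Q := act 6 n83545
theorem D174908 : act 6 n83545 = n174908 := rfl
def n174909 : Q := act 7 n83545
theorem D174909 : act 7 n83545 = n174909 := rfl
theorem F273811 : act 4 n174909 = n158892 := d11_1 D174909 (iv7 F272990) F272988
theorem F273812 : act 5 n174909 = n83546 := d13_1 D174909 (iv7 D83546) D83545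
theorem F273813 : act 1 n174115 = n174909 := d15_1 (iv0 F272921) (iv7 D174909) (iv2 F271789)
theorem F273814 : act 1 n174909 = n174093 := d15_1 F273813 (iv7 F273807) (iv2 F273810)
def n174910 : Q := act 6 n83546
theorem D174910 : act 6 n83546 = n174910 := rfl
theorem F273815 : act 4 n174910 = n83547 := d10_1 D174910 (iv6 D83547) (iv4 F128640)
def n174911 : Q := act 0 n83547
theorem D174911 : act 0 n83547 = n174911 := rfl
def n174912 : Q := act 1 n83547
theorem D174912 : act 1 n83547 = n174912 := rfl
def n174913 : Q := act 6 n83548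
theorem D174913 : act 6 n83548 = n174913 := rfl
theorem F273817 : act 4 n174913 = n83549 := d10_1 D174913 (iv6 D83549) D83548
def n174914 : Q := act 0 n83549
theorem D174914 : act 0 n83549 = n174914 := rfl
def n174915 : Q := act 1 n83549
theorem D174915 : act 1 n83549 = n174915 := rfl
def n174916 : Q := act 5 n83549
theorem D174916 : act 5 n83549 = n174916 := rfl
theorem F273818 : act 3 n174916 = n83552 := d6_1 D174916 (iv5 D83552) (iv3 F128645)
theorem F273819 : act 6 n174916 = n161509 := d12_2 D83549 D174916 (iv5 D161509) (iv6 D77542) (iv5 F59357)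
def n174917 : Q := act 7 n83549
theorem D174917 : act 7 n83549 = n174917 := rfl
theorem F273820 : act 3 n174917 = n83553 := d8_1 D174917 (iv7 D83553) (iv3 F128645)
def n174918 : Q := act 2 n83550
theorem D174918 : act 2 n83550 = n174918 := rfl
theorem F273821 : act 7 n83551 = n174918 := d15_2 (iv0 D83550) D83551 (iv2 D174918)
def n174922 : Q := act 6 n83550
theorem D174922 : act 6 n83550 = n174922 := rfl
theorem F273822 : act 5 n174922 = n172651 := d21_6 (iv5 D17185) (iv1 F28135) (iv5 F29536) D38522 D83550 D174922 (iv1 D172651) (iv5 D82648) (iv6 D37975) F29353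
def n174923 : Q := act 7 n83550
theorem D174923 : act 7 n83550 = n174923 := rfl
theorem F273823 : act 2 n174923 = n83551 := d4_1 D174923 F273821 (iv2 D174918)
def n174924 : Q := act 3 n83551
theorem D174924 : act 3 n83551 = n174924 := rfl
def n174926 : Q := act 5 n83551
theorem D174926 : act 5 n83551 = n174926 := rfl
def n174928 : Q := act 0 n83552
theorem D174928 : act 0 n83552 = n174928 := rfl
def n174929 : Q := act 1 n83552
theorem D174929 : act 1 n83552 = n174929 := rfl
def n174930 : Q := act 4 n83552
theorem D174930 : act 4 n83552 = n174930 := rfl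
theorem F273824 : act 6 n174930 = n161512 := d10_2 (iv6 F128646) D174930 (iv4 D161512)
def n174931 : Q := act 7 n83552
theorem D174931 : act 7 n83552 = n174931 := rfl
theorem F273825 : act 5 n174931 = n83553 := d13_1 D174931 (iv7 D83553) D83552
def n174934 : Q := act 3 n83554
theorem D174934 : act 3 n83554 = n174934 := rfl
theorem F273828 : act 7 n174934 = n83560 := d8_2 F128647 D174934 (iv3 D83560)
def n174935 : Q := act 5 n83554
theorem D174935 : act 5 n83554 = n174935 := rfl
theorem F273829 : act 2 n174935 = n83557 := d2_1 D174935 (iv5 D83557) D83554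
theorem F273830 : act 7 n174935 = n83562 := d13_2 F128647 D174935 (iv5 D83562)
def n174937 : Q := act 1 n83555
theorem D174937 : act 1 n83555 = n174937 := rfl
def n174938 : Q := act 2 n83555
theorem D174938 : act 2 n83555 = n174938 := rfl
def n174939 : Q := act 5 n83555
theorem D174939 : act 5 n83555 = n174939 := rfl
theorem F273832 : act 3 n174939 = n83557 := d6_1 D174939 (iv5 D83557) D83555
def n174940 : Q := act 6 n83555
theorem D174940 : act 6 n83555 = n174940 := rfl
theorem F273833 : act 3 n174940 = n83558 := d7_1 D174940 (iv6 D83558) D83555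
def n174941 : Q := act 7 n83555
theorem D174941 : act 7 n83555 = n174941 := rfl
theorem F273834 : act 3 n174941 = n83559 := d8_1 D174941 (iv7 D83559) D83555
def n174942 : Q := act 0 n83557
theorem D174942 : act 0 n83557 = n174942 := rfl
def n174943 : Q := act 1 n83557
theorem D174943 : act 1 n83557 = n174943 := rfl
theorem F273835 : act 1 n174943 = n83562 := d15_1 D174943 (iv7 F273830) F273829
def n174944 : Q := act 4 n83557
theorem D174944 : act 4 n83557 = n174944 := rfl
def n174945 : Q := act 6 n83557
theorem D174945 : act 6 n83557 = n174945 := rfl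
def n174946 : Q := act 7 n83557
theorem D174946 : act 7 n83557 = n174946 := rfl
theorem F273836 : act 2 n174946 = n83562 := d4_1 D174946 (iv7 F273830) F273829
theorem F273837 : act 5 n174946 = n83559 := d13_1 D174946 (iv7 D83559) D83557
theorem F273838 : act 1 n83562 = n174942 := d15_0 (iv0 D174942) D174946 F273836
def n174949 : Q := act 5 n83558
theorem D174949 : act 5 n83558 = n174949 := rfl
theorem F273839 : act 0 n174949 = n98758 := d21_7 F54833 (iv1 D17145) (iv5 F13555) D18354 D38523 D83558 D174949 (iv5 D98758) (iv6 D46185) (iv1 F54831)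
theorem F273840 : act 0 n98773 = n174949 := d21_7 (iv5 F263194) (iv1 F263196) (iv5 F255595) (iv6 D161594) (iv1 F116517) F113406 (iv5 F152258) (iv5 D174949) (iv6 D83558) (iv1 F123241)
def n174952 : Q := act 2 n83560
theorem D174952 : act 2 n83560 = n174952 := rfl
def n174953 : Q := act 4 n83560
theorem D174953 : act 4 n83560 = n174953 := rfl
def n174954 : Q := act 5 n83560
theorem D174954 : act 5 n83560 = n174954 := rfl
theorem F273842 : act 3 n174954 = n83562 := d6_1 D174954 (iv5 D83562) D83560
def n174955 : Q := act 6 n83560
theorem D174955 : act 6 n83560 = n174955 := rfl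
def n174956 : Q := act 4 n83562
theorem D174956 : act 4 n83562 = n174956 := rfl
def n174957 : Q := act 6 n83562
theorem D174957 : act 6 n83562 = n174957 := rfl
def n174962 : Q := act 2 n83564
theorem D174962 : act 2 n83564 = n174962 := rfl
theorem F273844 : act 7 n83565 = n174962 := d15_2 (iv0 D83564) D83565 (iv2 D174962)
def n174966 : Q := act 6 n83564
theorem D174966 : act 6 n83564 = n174966 := rfl
theorem F273845 : act 5 n174966 = n162053 := d21_6 (iv5 D77372) (iv1 D35322) D35323 (iv6 F59360) D83564 D174966 (iv1 D162053) D162054 F256112 (iv1 F123252)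
def n174967 : Q := act 7 n83564
theorem D174967 : act 7 n83564 = n174967 := rfl
theorem F273846 : act 2 n174967 = n83565 := d4_1 D174967 F273844 (iv2 D174962)
def n174968 : Q := act 3 n83565
theorem D174968 : act 3 n83565 = n174968 := rfl
def n174969 : Q := act 4 n83565
theorem D174969 : act 4 n83565 = n174969 := rfl
def n174970 : Q := act 6 n83565
theorem D174970 : act 6 n83565 = n174970 := rfl
def n174972 : Q := act 1 n83566
theorem D174972 : act 1 n83566 = n174972 := rfl
theorem F273848 : act 4 n174972 = n161735 := d18_7 (iv1 F123375) F130352 (iv1 D80763) F57825 D38525 D83566 D174972 F263410 F263408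
def n174973 : Q := act 3 n83566
theorem D174973 : act 3 n83566 = n174973 := rfl
theorem F273849 : act 4 n174973 = n83588 := d5_2 D83566 D174973 (iv3 D83588) (iv4 D38543) (iv3 F59359)
theorem F273850 : act 6 n174973 = n161182 := d7_2 (iv6 F128649) D174973 (iv3 D161182)
def n174975 : Q := act 7 n83566
theorem D174975 : act 7 n83566 = n174975 := rfl
theorem F273851 : act 4 n174975 = n83567 := d11_1 D174975 (iv7 D83567) D83566
def n174976 : Q := act 6 n83567
theorem D174976 : act 6 n83567 = n174976 := rfl
theorem F273853 : act 7 n174976 = n161185 := d14_2 D83567 D174976 (iv6 D161185) (iv7 D77377) (iv6 F59360)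
def n174977 : Q := act 4 n83569
theorem D174977 : act 4 n83569 = n174977 := rfl
theorem F273856 : act 7 n174977 = n96684 := d11_2 (iv7 F188173) D174977 (iv4 F188172)
theorem F273857 : act 0 n174977 = n96686 := d20_1 D174977 F149008 F123365 (iv1 F116637) F55984 (iv4 D34397) F130987 (iv4 F56663) (iv3 F59386) (iv1 F155093)
theorem F273858 : act 0 n84938 = n174977 := d20_7 F127871 (iv1 F73294) D46734 D100115 (iv1 F194826) F130186 (iv4 F130191) (iv4 D174977) (iv3 D83569) (iv1 F127875)
def n174978 : Q := act 5 n83569
theorem D174978 : act 5 n83569 = n174978 := rfl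
theorem F273859 : act 3 n174978 = n83571 := d6_1 D174978 (iv5 D83571) D83569
def n174979 : Q := act 6 n83569
theorem D174979 : act 6 n83569 = n174979 := rfl
theorem F273860 : act 3 n174979 = n83572 := d7_1 D174979 (iv6 D83572) D83569
def n174980 : Q := act 1 n83571
theorem D174980 : act 1 n83571 = n174980 := rfl
theorem F273861 : act 1 n174980 = n83576 := d15_1 D174980 (iv7 F271824) F271823
def n174981 : Q := act 4 n83571
theorem D174981 : act 4 n83571 = n174981 := rfl
def n174982 : Q := act 6 n83571
theorem D174982 : act 6 n83571 = n174982 := rfl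
def n174983 : Q := act 0 n83572
theorem D174983 : act 0 n83572 = n174983 := rfl
def n174984 : Q := act 1 n83572
theorem D174984 : act 1 n83572 = n174984 := rfl
theorem F273862 : act 4 n174984 = n100106 := d17_9 (iv1 D100106) F73853 (iv1 D46303) (iv5 D22141) (iv4 F29555) D38600 D83775 (iv5 F128813) D174984
theorem F273863 : act 6 n101670 = n174984 := d21_3 D22732 D47280 D101670 (iv1 D174984) (iv6 D83572) D83571 F156568 (iv5 D101665) (iv6 D47279) (iv1 D22731)
def n174985 : Q := act 7 n83572
theorem D174985 : act 7 n83572 = n174985 := rfl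
theorem F273864 : act 4 n174985 = n100935 := d11_1 D174985 (iv7 D100935) (iv4 F155085)
theorem F273865 : act 5 n174985 = n158423 := d13_1 D174985 F271830 (iv5 F128813)
theorem F273866 : act 6 n174985 = n158522 := d14_1 D174985 F272023 (iv6 D173371) F156860 D83572
def n174987 : Q := act 1 n83574
theorem D174987 : act 1 n83574 = n174987 := rfl
def n174988 : Q := act 2 n83574
theorem D174988 : act 2 n83574 = n174988 := rfl
theorem F273868 : act 3 n174988 = n83630 := d0_2 D83574 D174988 (iv2 F188176) F188171 F156859
def n174989 : Q := act 4 n83574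
theorem D174989 : act 4 n83574 = n174989 := rfl
theorem F273869 : act 3 n174989 = n100940 := d5_1 D174989 (iv4 D100940) (iv3 D47042) F155082 D83574
theorem F273870 : act 4 n164797 = n174987 := d20_0 (iv1 D174987) D174989 F273869 F232798 F75725 F52303 D33077 D71499 D151721 (iv1 F259845)
theorem F273871 : act 3 n174987 = n161158 := d20_9 F263208 (iv1 D158312) (iv4 F128479) F128478 F155568 (iv3 F254863) F254864 (iv1 F259845) F273870 (iv1 F263210)
theorem F273872 : act 2 n168081 = n174989 := d0_5 F273869 (iv2 F232745) (iv3 F264914) F264919 D168081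
theorem F273873 : act 4 n174988 = n168081 := d1_0 F273872 (iv4 D174989) D174988
def n174990 : Q := act 5 n83574
theorem D174990 : act 5 n83574 = n174990 := rfl
theorem F273874 : act 3 n174990 = n83576 := d6_1 D174990 (iv5 D83576) D83574
def n174991 : Q := act 6 n83574
theorem D174991 : act 6 n83574 = n174991 := rfl
theorem F273875 : act 3 n174991 = n83577 := d7_1 D174991 (iv6 D83577) D83574
def n174992 : Q := act 4 n83576
theorem D174992 : act 4 n83576 = n174992 := rfl
def n174993 : Q := act 6 n83576
theorem D174993 : act 6 n83576 = n174993 := rfl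
theorem F273876 : act 0 n83976 = n174993 := d21_4 (iv5 F128563) (iv1 F128568) (iv5 F199335) (iv6 F199338) (iv6 D174993) (iv5 D83576) (iv1 D38528) D38529 F59363 D38541
def n174994 : Q := act 7 n83577
theorem D174994 : act 7 n83577 = n174994 := rfl
theorem F273877 : act 2 n174994 = n158522 := d4_1 D174994 F272023 F271836
theorem F273878 : act 4 n174994 = n100951 := d11_1 D174994 (iv7 D100951) (iv4 F155080)
theorem F273879 : act 5 n174994 = n173558 := d13_1 D174994 F271994 F128861
theorem F273880 : act 1 n83865 = n174994 := d17_8 F156400 F137026 (iv1 D83810) (iv5 D38611) F29561 D18386 D38624 D83865 F273878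
theorem F273881 : act 1 n174994 = n83860 := d15_1 F273880 F273725 (iv2 F273730)
theorem F273882 : act 1 n173371 = n83865 := d15_0 F273880 (iv7 D174994) (iv2 F271836)
theorem F273883 : act 1 n83860 = n173371 := d15_0 F273882 F273731 (iv2 F273724)
theorem F273884 : act 4 n83868 = n172415 := d18_3 (iv1 F127948) (iv4 F272038) (iv1 F272040) (iv5 F270640) (iv4 F271106) (iv0 F156400) (iv4 F273878) F273881 (iv5 D83860)
theorem F273885 : act 6 n173558 = n83958 := d21_3 D83860 (iv1 F273881) F273879 (iv1 D83958) (iv6 D38669) (iv5 D18397) (iv1 D8661) D8662 (iv6 F29562) D38623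
theorem F273886 : act 2 n83958 = n173648 := d3_1 F273885 (iv6 F272127) F271995
theorem F273887 : act 7 n173647 = n83958 := d15_2 F272126 F272132 F273886
theorem F273888 : act 7 n83957 = n173648 := d15_2 F272133 F272134 (iv2 F273886)
theorem F273889 : act 2 n173647 = n83957 := d4_3 F273888 (iv2 F273886) (iv7 F273887)
def n174995 : Q := act 3 n83578
theorem D174995 : act 3 n83578 = n174995 := rfl
def n174996 : Q := act 4 n83578
theorem D174996 : act 4 n83578 = n174996 := rfl
def n174997 : Q := act 5 n83578
theorem D174997 : act 5 n83578 = n174997 := rfl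
theorem F273890 : act 2 n174997 = n101663 := d2_1 D174997 F271847 F271840
theorem F273891 : act 7 n174997 = n83782 := d13_2 F271842 D174997 F271843
theorem F273892 : act 4 n174997 = n99720 := d17_4 (iv1 D38528) D38529 D83578 D174997 F153516 (iv0 D47046) (iv5 D22616) D22615 F155082
theorem E24513 : n174996 = n174499 := ((c18_3 (iv1 D83398) D83399 D174499 (iv4 D174996) D174997 F273892 (iv0 D99720) (iv4 F153514) F184680 F184678)).symm
theorem F273893 : act 4 n174499 = n83578 := (sb E24513 (iv4 D174996))
theorem F273894 : act 6 n174997 = n83838 := d21_3 D38529 D83578 D174997 (iv1 D83838) (iv6 D38617) D38616 D83832 F128861 (iv6 D83577) (iv1 D38528)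
theorem F273895 : act 2 n83838 = n173563 := d3_1 F273894 (iv6 F272000) (iv2 F273890)
theorem F273896 : act 7 n83838 = n158387 := d14_2 (iv7 F273891) F273894 (iv6 D158387) F184697 D83782
theorem E24514 : n83837 = n83787 := ((c15_4 (iv0 D83837) D83838 F273896 F249555)).symm
theorem F273897 : act 1 n83787 = n38617 := (sb E24514 (iv0 D83837))
theorem F273898 : act 1 n101666 = n174997 := d15_1 (iv0 F249726) F273891 (iv2 F249549)
theorem F273899 : act 1 n174997 = n101651 := d15_0 F249727 (iv7 F271848) (iv2 F273890)
def n174998 : Q := act 6 n83578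
theorem D174998 : act 6 n83578 = n174998 := rfl
def n174999 : Q := act 3 n83579
theorem D174999 : act 3 n83579 = n174999 := rfl
def n175000 : Q := act 6 n83579
theorem D175000 : act 6 n83579 = n175000 := rfl
def n175001 : Q := act 0 n83580
theorem D175001 : act 0 n83580 = n175001 := rfl
def n175002 : Q := act 1 n83580
theorem D175002 : act 1 n83580 = n175002 := rfl
theorem F273900 : act 4 n175002 = n172850 := d18_7 (iv1 F155449) (iv4 D46734) (iv1 D22405) (iv4 F29539) D38529 D83580 D175002 F271116 F128510
theorem F273901 : act 2 n174497 = n175002 := d1_3 F273900 F271114 D174497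
theorem F273902 : act 7 n174494 = n175002 := d11_0 F273900 F271681 D174494
theorem F273903 : act 2 n174494 = n175001 := d15_3 (iv0 D175001) D175002 (iv7 F273902)
theorem F273904 : act 4 n175001 = n173291 := d1_2 D174494 F273903 F271680
theorem F273905 : act 7 n175001 = n174497 := d4_2 (iv7 F273902) F273903 F273901
theorem F273906 : act 1 n174494 = n173374 := d15_0 (iv0 F273379) (iv7 F273905) (iv2 F273903)
def n175003 : Q := act 3 n83580
theorem D175003 : act 3 n83580 = n175003 := rfl
theorem F273907 : act 4 n175003 = n161182 := d5_2 D83580 D175003 (iv3 D161182) (iv4 D77376) (iv3 F59362)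
theorem F273908 : act 6 n175003 = n83588 := d7_2 (iv6 F128655) D175003 (iv3 D83588)
def n175004 : Q := act 5 n83580
theorem D175004 : act 5 n83580 = n175004 := rfl
def n175005 : Q := act 7 n83580
theorem D175005 : act 7 n83580 = n175005 := rfl
theorem F273909 : act 4 n175005 = n83581 := d11_1 D175005 (iv7 D83581) D83580
theorem F273910 : act 1 n174497 = n175005 := d15_1 (iv0 F273379) (iv7 D175005) (iv2 F271849)
theorem F273911 : act 1 n175005 = n174494 := d15_1 F273910 F273902 (iv2 F273901)
theorem F273912 : act 0 n121990 = n174493 := d20_4 D167123 F263231 (iv4 D121994) (iv3 F194822) (iv3 D174493) D174494 (iv1 F273911) F273909 F128656 (iv1 F123256)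
def n175006 : Q := act 6 n83581
theorem D175006 : act 6 n83581 = n175006 := rfl
theorem F273914 : act 7 n175006 = n83591 := d14_2 D83581 D175006 (iv6 D83591) (iv7 D38544) (iv6 F59363)
def n175007 : Q := act 4 n83582
theorem D175007 : act 4 n83582 = n175007 := rfl
theorem F273915 : act 0 n84955 = n175007 := d20_7 (iv4 F271862) (iv1 F271863) F128660 D173304 F271712 F130187 D84955 (iv4 D175007) (iv3 D83582) (iv1 F127888)
def n175008 : Q := act 6 n83582
theorem D175008 : act 6 n83582 = n175008 := rfl
theorem F273916 : act 3 n175008 = n83583 := d7_1 D175008 (iv6 D83583) D83582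
def n175011 : Q := act 5 n83583
theorem D175011 : act 5 n83583 = n175011 := rfl
theorem F273917 : act 6 n175011 = n84013 := d12_2 D83583 D175011 (iv5 F128979) (iv6 F128561) F128563
theorem F273918 : act 0 n175011 = n101662 := d21_4 (iv5 F249155) (iv1 F249157) F128979 (iv6 F273917) (iv6 D101662) (iv5 D47278) (iv1 D22731) D22732 (iv6 F58638) D82400
def n175012 : Q := act 7 n83583
theorem D175012 : act 7 n83583 = n175012 := rfl
def n175013 : Q := act 0 n83584
theorem D175013 : act 0 n83584 = n175013 := rfl
def n175014 : Q := act 1 n83584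
theorem D175014 : act 1 n83584 = n175014 := rfl
def n175015 : Q := act 2 n83584
theorem D175015 : act 2 n83584 = n175015 := rfl
theorem F273919 : act 3 n175015 = n83644 := d0_2 D83584 D175015 (iv2 F243747) F188395 F127882
theorem F273920 : act 5 n175015 = n172560 := d2_2 (iv5 F128658) D175015 F270741
def n175016 : Q := act 4 n83584
theorem D175016 : act 4 n83584 = n175016 := rfl
def n175017 : Q := act 6 n83584
theorem D175017 : act 6 n83584 = n175017 := rfl
theorem F273921 : act 3 n175017 = n83585 := d7_1 D175017 (iv6 D83585) D83584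
theorem F273922 : act 5 n175017 = n172564 := d12_1 D175017 (iv6 D172564) (iv5 D82609) D82610 (iv5 F128658)
def n175018 : Q := act 0 n83585
theorem D175018 : act 0 n83585 = n175018 := rfl
def n175019 : Q := act 1 n83585
theorem D175019 : act 1 n83585 = n175019 := rfl
def n175020 : Q := act 7 n83585
theorem D175020 : act 7 n83585 = n175020 := rfl
theorem F273923 : act 5 n175020 = n172572 := d13_1 D175020 (iv7 D172572) (iv5 F128659)
def n175021 : Q := act 3 n83586
theorem D175021 : act 3 n83586 = n175021 := rfl
theorem F273924 : act 7 n175021 = n174571 := d8_2 (iv7 F128665) D175021 (iv3 D174571)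
def n175022 : Q := act 5 n83586
theorem D175022 : act 5 n83586 = n175022 := rfl
theorem F273925 : act 2 n175022 = n174560 := d2_1 D175022 (iv5 D174560) F128663
theorem F273926 : act 7 n175022 = n174572 := d13_2 (iv7 F128665) D175022 (iv5 D174572)
theorem F273927 : act 4 n175022 = n173326 := d16_2 (iv4 F128664) D175022 (iv5 D173326) F127832 (iv5 F63881) (iv4 F72524) F127802 (iv7 F127812) (iv2 F127811)
def n175023 : Q := act 6 n83586
theorem D175023 : act 6 n83586 = n175023 := rfl
theorem F273928 : act 2 n175023 = n174561 := d3_1 D175023 (iv6 D174561) F128663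
theorem F273929 : act 4 n175023 = n173303 := d10_1 D175023 (iv6 D173303) (iv4 F128664)
def n175024 : Q := act 3 n83587
theorem D175024 : act 3 n83587 = n175024 := rfl
theorem F273930 : act 7 n175024 = n174559 := d8_2 F128662 D175024 (iv3 D174559)
def n175025 : Q := act 5 n83587
theorem D175025 : act 5 n83587 = n175025 := rfl
theorem F273931 : act 2 n175025 = n174572 := d2_1 D175025 (iv5 D174572) F128661
theorem F273932 : act 4 n175025 = n173323 := d9_1 D175025 (iv5 D173323) F127825 D88747 F136119 F127810 (iv4 F128664) D175022 F273927 (iv5 D173326) F127832 (iv5 F63881) (iv4 F72524) F127802 (iv4 F128660)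
theorem F273933 : act 7 n175025 = n174560 := d13_2 F128662 D175025 (iv5 D174560)
def n175026 : Q := act 6 n83587
theorem D175026 : act 6 n83587 = n175026 := rfl
theorem F273934 : act 2 n175026 = n174573 := d3_1 D175026 (iv6 D174573) F128661
theorem F273935 : act 4 n175026 = n173305 := d10_1 D175026 (iv6 D173305) (iv4 F128660)
def n175027 : Q := act 0 n83588
theorem D175027 : act 0 n83588 = n175027 := rfl
def n175028 : Q := act 1 n83588
theorem D175028 : act 1 n83588 = n175028 := rfl
def n175029 : Q := act 2 n83588
theorem D175029 : act 2 n83588 = n175029 := rfl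
def n175030 : Q := act 5 n83588
theorem D175030 : act 5 n83588 = n175030 := rfl
theorem F273936 : act 3 n175030 = n83589 := d6_1 D175030 (iv5 D83589) D83588
def n175031 : Q := act 7 n83588
theorem D175031 : act 7 n83588 = n175031 := rfl
theorem F273937 : act 3 n175031 = n83590 := d8_1 D175031 (iv7 D83590) D83588
def n175032 : Q := act 0 n83589
theorem D175032 : act 0 n83589 = n175032 := rfl
theorem F273938 : act 5 n175032 = n173298 := d17_3 (iv1 D83587) D83589 D175032 (iv4 D173298) (iv5 D82935) (iv0 D38159) D38161 D82939 (iv4 F128660)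
theorem F273939 : act 4 n175032 = n173333 := d18_1 D175032 (iv1 D173333) D173334 F271774 F128538 F127807 (iv4 F128664) (iv0 D83586) D83589
theorem F273940 : act 2 n174523 = n175032 := d1_3 F273939 (iv2 F271772) (iv4 F273403)
theorem F273941 : act 7 n174548 = n175032 := d11_0 F273939 F271770 (iv4 F273416)
def n175033 : Q := act 1 n83589
theorem D175033 : act 1 n83589 = n175033 := rfl
theorem F273942 : act 7 n175033 = n174523 := d15_2 (iv0 D175032) D175033 F273940
theorem F273943 : act 5 n175033 = n173300 := d17_7 (iv1 F128539) (iv5 D38466) F113496 D18358 D38543 D83589 D175033 (iv0 F273450) (iv4 D174595)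
theorem F273944 : act 4 n175033 = n173332 := d17_9 (iv1 F271767) F128580 (iv1 F127830) D173326 (iv4 F273927) (iv5 D175022) (iv0 D83586) D83589 D175033
theorem F273945 : act 2 n174548 = n175033 := d1_3 F273944 F271768 (iv4 F273416)
def n175034 : Q := act 6 n83589
theorem D175034 : act 6 n83589 = n175034 := rfl
def n175035 : Q := act 7 n83589
theorem D175035 : act 7 n83589 = n175035 := rfl
theorem F273946 : act 4 n175035 = n102787 := d11_1 D175035 (iv7 F273481) F273479
theorem F273947 : act 5 n175035 = n83590 := d13_1 D175035 (iv7 D83590) D83589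
theorem F273948 : act 1 n174548 = n175035 := d15_1 (iv0 F273417) (iv7 D175035) (iv2 F271860)
theorem F273949 : act 1 n175035 = n174523 := d15_1 F273948 (iv7 F273942) (iv2 F273945)
def n175036 : Q := act 6 n83590
theorem D175036 : act 6 n83590 = n175036 := rfl
theorem F273950 : act 4 n175036 = n83591 := d10_1 D175036 (iv6 D83591) (iv4 F128667)
def n175037 : Q := act 0 n83591
theorem D175037 : act 0 n83591 = n175037 := rfl
def n175038 : Q := act 1 n83591
theorem D175038 : act 1 n83591 = n175038 := rfl
def n175039 : Q := act 6 n83592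
theorem D175039 : act 6 n83592 = n175039 := rfl
theorem F273952 : act 4 n175039 = n83593 := d10_1 D175039 (iv6 D83593) D83592
def n175040 : Q := act 0 n83593
theorem D175040 : act 0 n83593 = n175040 := rfl
def n175041 : Q := act 1 n83593
theorem D175041 : act 1 n83593 = n175041 := rfl
def n175042 : Q := act 5 n83593
theorem D175042 : act 5 n83593 = n175042 := rfl
def n175043 : Q := act 7 n83593
theorem D175043 : act 7 n83593 = n175043 := rfl
def n175044 : Q := act 0 n83594
theorem D175044 : act 0 n83594 = n175044 := rfl
def n175045 : Q := act 5 n83594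
theorem D175045 : act 5 n83594 = n175045 := rfl
theorem F273953 : act 2 n175045 = n83599 := d2_1 D175045 (iv5 D83599) (iv2 F128673)
theorem F273954 : act 3 n175045 = n164554 := d6_1 D175045 (iv5 D164554) (iv3 F128674)
theorem F273955 : act 6 n175045 = n164551 := d12_2 D83594 D175045 (iv5 D164551) (iv6 D79031) F59370
def n175046 : Q := act 7 n83594
theorem D175046 : act 7 n83594 = n175046 := rfl
theorem F273956 : act 2 n175046 = n83600 := d4_1 D175046 (iv7 D83600) (iv2 F128673)
theorem F273958 : act 4 n175046 = n174079 := d11_1 D175046 F272884 F192608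
theorem F273960 : act 1 n83598 = n175046 := d15_1 D83598 (iv7 D175046) F128673
theorem F273961 : act 0 n83597 = n175046 := d20_10 F273958 (iv1 F272883) (iv4 F271541) F271540 (iv1 F188031) F123344 F57442 D79168 F129630 (iv3 F191387)
def n175047 : Q := act 5 n83595
theorem D175047 : act 5 n83595 = n175047 := rfl
theorem F273962 : act 2 n175047 = n128102 := d2_1 D175047 F206179 (iv2 F128675)
theorem F273963 : act 3 n175047 = n166837 := d6_1 D175047 (iv5 D166837) (iv3 F128676)
theorem F273966 : act 0 n175047 = n117488 := d17_2 (iv1 F205794) D175047 F184019 (iv4 D82548) F58751 D38274 D83148 (iv0 F128209) (iv4 F205792)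
theorem F273967 : act 1 n175047 = n146995 := d17_6 (iv1 F128380) F128378 (iv1 D38545) D38547 D83595 D175047 (iv5 F240688) (iv0 D153241) F108838
def n175048 : Q := act 6 n83595
theorem D175048 : act 6 n83595 = n175048 := rfl
theorem F273968 : act 2 n175048 = n153251 := d3_1 D175048 (iv6 D153251) (iv2 F128675)
theorem F273969 : act 3 n175048 = n166838 := d7_1 D175048 (iv6 D166838) (iv3 F128676)
theorem F273970 : act 4 n175048 = n83596 := d10_1 D175048 (iv6 D83596) D83595
theorem F273971 : act 0 n175048 = n174033 := d20_1 (iv4 F273970) (iv4 D174033) (iv3 D83204) (iv1 F127689) (iv3 F271511) F271512 (iv1 F249213) (iv4 F249958) (iv3 F263054) (iv1 F263057)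
def n175049 : Q := act 5 n83596
theorem D175049 : act 5 n83596 = n175049 := rfl
theorem F273972 : act 2 n175049 = n164551 := d2_1 D175049 (iv5 D164551) (iv2 F128678)
theorem F273973 : act 3 n175049 = n83608 := d6_1 D175049 (iv5 D83608) (iv3 F128679)
theorem F273974 : act 6 n175049 = n83599 := d12_2 D83596 D175049 (iv5 D83599) (iv6 D38548) D38547
def n175050 : Q := act 2 n83597
theorem D175050 : act 2 n83597 = n175050 := rfl
theorem F273975 : act 7 n83598 = n175050 := d15_2 (iv0 D83597) D83598 (iv2 D175050)
def n175054 : Q := act 7 n83597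
theorem D175054 : act 7 n83597 = n175054 := rfl
theorem F273978 : act 2 n175054 = n83598 := d4_1 D175054 F273975 (iv2 D175050)
theorem F273979 : act 3 n175054 = n161303 := d8_1 D175054 (iv7 D161303) (iv3 F191387)
def n175055 : Q := act 3 n83598
theorem D175055 : act 3 n83598 = n175055 := rfl
theorem F273980 : act 2 n175055 = n161304 := d0_1 D175055 (iv3 D161304) (iv2 F255127) (iv3 F273979) F273978
theorem F273981 : act 4 n161963 = n175055 := d20_2 F127679 D161963 (iv3 D175055) (iv1 D83598) F59373 (iv4 F59374) D83601 F189962 D119378 F188059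
theorem F273982 : act 2 n173201 = n161963 := d1_3 F273981 F273980 F271481
theorem F273983 : act 7 n161964 = n173201 := d15_2 (iv0 D161963) D161964 F273982
theorem F273984 : act 7 n173200 = n161963 := d15_2 F271480 F271479 (iv2 F273982)
theorem F273985 : act 2 n161964 = n173200 := d4_3 F273984 (iv2 F273982) (iv7 F273983)
theorem F273986 : act 7 n161304 = n167017 := d11_2 F273983 (iv4 F271481) F263014
theorem E24515 : n167020 = n77439 := (c8_3 F273986 (iv3 D167017) D167020 D161304)
theorem E24516 : n161303 = n80175 := (((iv2 F255127)).symm.trans (sb E24515 F263016))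
theorem E24517 : n168098 = n79169 := (((F129631).symm.trans (sb E24515 (iv4 F264956)))).symm
theorem E24519 : n175054 = n167021 := (((D167021).symm.trans (sb E24516 (iv3 F273979)))).symm
theorem E24520 : n164761 = n80687 := (((F154857).symm.trans (sb E24516 (iv4 F259810)))).symm
theorem E24522 : n164758 = n80686 := ((F259807).symm.trans (sb E24517 (iv7 D168098)))
theorem F273989 : act 2 n167021 = n83598 := (sb E24519 F273978)
theorem F273990 : act 7 n167021 = n83597 := (sb E24519 (iv7 D175054))
theorem E24523 : n168094 = n79168 := ((F264952).symm.trans (sb E24520 (iv7 D164761)))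
theorem F273994 : act 7 n80686 = n79169 := (sb E24522 (iv7 F259807))
theorem F273995 : act 2 n79168 = n80686 := (sb E24523 (iv2 D168094))
theorem F273996 : act 7 n79168 = n80687 := (sb E24523 (iv7 F264952))
theorem F273997 : act 7 n168099 = n86554 := d8_2 F273996 D168099 F132798
theorem F273998 : act 7 n168100 = n164759 := d13_2 F273996 D168100 (iv5 D164759)
theorem F273999 : act 2 n168096 = n164759 := d2_3 (iv5 D164759) F273995 D168096
theorem F274007 : act 7 n164763 = n168096 := d13_2 F273994 D164763 (iv5 D168096)
theorem F274008 : act 2 n168100 = n164763 := d4_3 F274007 F273999 (iv7 F273998)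
theorem E24524 : n175050 = n175044 := (c15_4 (iv0 D175044) (iv0 F263017) F273990 D175050)
theorem F274014 : act 7 n175044 = n83598 := (sb E24524 (iv7 F273975))
def n175056 : Q := act 4 n83598
theorem D175056 : act 4 n83598 = n175056 := rfl
theorem F274017 : act 3 n175056 = n120711 := d20_3 (iv4 F273958) (iv1 F273960) D175056 (iv1 D120711) F88034 F43328 D26873 D55652 (iv3 F128292) D174079
def n175057 : Q := act 5 n83598
theorem D175057 : act 5 n83598 = n175057 := rfl
def n175058 : Q := act 6 n83598
theorem D175058 : act 6 n83598 = n175058 := rfl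
def n175059 : Q := act 0 n83599
theorem D175059 : act 0 n83599 = n175059 := rfl
def n175060 : Q := act 1 n83599
theorem D175060 : act 1 n83599 = n175060 := rfl
def n175061 : Q := act 4 n83599
theorem D175061 : act 4 n83599 = n175061 := rfl
theorem F274018 : act 0 n175061 = n174126 := d20_7 (iv4 F271575) (iv1 F271577) F128328 D83540 F191383 (iv3 F128680) D175061 (iv4 D174126) (iv3 D83240) (iv1 F127715)
def n175062 : Q := act 7 n83599
theorem D175062 : act 7 n83599 = n175062 := rfl
theorem F274019 : act 3 n175062 = n83623 := d8_1 D175062 (iv7 D83623) (iv3 F128680)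
theorem F274020 : act 5 n175062 = n83600 := d13_1 D175062 (iv7 D83600) D83599
def n175063 : Q := act 5 n83601
theorem D175063 : act 5 n83601 = n175063 := rfl
theorem F274021 : act 2 n175063 = n150198 := d2_1 D175063 F236382 (iv2 F189960)
theorem F274022 : act 3 n175063 = n155118 := d6_1 D175063 (iv5 D155118) (iv3 F189961)
theorem F274023 : act 7 n175063 = n150188 := d13_2 (iv7 F189963) D175063 F236365
theorem F274024 : act 0 n175063 = n150197 := d17_2 D83601 D175063 F238785 F236238 (iv5 F244017) F244016 (iv5 D83613) (iv0 D38553) (iv4 F59374)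
theorem F274025 : act 4 n175063 = n155136 := d17_4 F189986 F77329 D83601 D175063 (iv5 D155136) (iv0 D73635) (iv5 D33837) D33836 D73632
theorem F274026 : act 1 n175063 = n150196 := d15_1 (iv0 F274024) (iv7 F266072) F266070
theorem F274027 : act 0 n119793 = n150309 := d20_1 D119793 F236547 (iv3 F238781) (iv1 F274026) F274022 (iv4 F250282) (iv1 F250283) (iv4 D155160) (iv3 F232621) (iv1 F188997)
def n175064 : Q := act 6 n83601
theorem D175064 : act 6 n83601 = n175064 := rfl
theorem F274028 : act 2 n175064 = n85981 := d3_1 D175064 F155289 (iv2 F189960)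
theorem F274029 : act 3 n175064 = n155119 := d7_1 D175064 (iv6 D155119) (iv3 F189961)
theorem F274030 : act 4 n175064 = n119381 := d10_1 D175064 (iv6 D119381) (iv4 F189962)
theorem F274031 : act 0 n175064 = n83736 := d21_4 F257278 (iv1 F274026) (iv5 D175063) D175064 (iv6 D83736) D83735 F239968 (iv5 F236422) F236423 F257281
def n175065 : Q := act 0 n83604
theorem D175065 : act 0 n83604 = n175065 := rfl
def n175066 : Q := act 1 n83604
theorem D175066 : act 1 n83604 = n175066 := rfl
theorem F274032 : act 1 n175066 = n120203 := d15_1 D175066 (iv7 D120203) (iv2 F128683)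
def n175067 : Q := act 5 n83604
theorem D175067 : act 5 n83604 = n175067 := rfl
theorem F274034 : act 6 n175067 = n119112 := d12_2 D83604 D175067 (iv5 D119112) (iv6 D54812) (iv5 F59375)
def n175068 : Q := act 7 n83604
theorem D175068 : act 7 n83604 = n175068 := rfl
theorem F274035 : act 2 n175068 = n120203 := d4_1 D175068 (iv7 D120203) (iv2 F128683)
theorem F274036 : act 4 n175068 = n170087 := d11_1 D175068 (iv7 D170087) (iv4 F128684)
theorem F274037 : act 6 n175068 = n158449 := d14_1 D175068 (iv7 D158449) (iv6 D75590) (iv7 F59378) D83604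
theorem F274038 : act 1 n120203 = n175065 := d15_0 (iv0 D175065) D175068 F274035
theorem F274039 : act 1 n120201 = n175068 := d15_1 D120201 (iv7 D175068) F128683
theorem F274040 : act 1 n175068 = n120200 := d15_0 (iv0 D120200) D120203 (iv2 F274035)
def n175069 : Q := act 1 n83605
theorem D175069 : act 1 n83605 = n175069 := rfl
theorem F274041 : act 1 n175069 = n150016 := d15_1 D175069 (iv7 D150016) (iv2 F128685)
theorem F274042 : act 4 n119375 = n175069 := d20_0 (iv1 D175069) F128686 (iv3 F128679) F263052 (iv3 D77442) (iv4 F116627) F116624 F116619 (iv3 F130123) (iv1 F188041)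
def n175070 : Q := act 5 n83605
theorem D175070 : act 5 n83605 = n175070 := rfl
theorem F274044 : act 2 n175070 = n150015 := d2_1 D175070 (iv5 D150015) (iv2 F128685)
def n175071 : Q := act 7 n83605
theorem D175071 : act 7 n83605 = n175071 := rfl
theorem F274045 : act 2 n175071 = n150016 := d4_1 D175071 (iv7 D150016) (iv2 F128685)
theorem F274046 : act 4 n175071 = n83609 := d11_1 D175071 (iv7 D83609) (iv4 F128686)
theorem F274047 : act 1 n150014 = n175071 := d15_1 D150014 (iv7 D175071) F128685
theorem F274048 : act 1 n175071 = n150013 := d15_0 (iv0 D150013) D150016 (iv2 F274045)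
theorem F274049 : act 4 n84908 = n150013 := d20_0 (iv1 F274048) F274046 F263050 (iv1 D167036) (iv3 D80181) F113048 F116618 (iv4 F43931) (iv3 F60267) D84908
def n175072 : Q := act 5 n83606
theorem D175072 : act 5 n83606 = n175072 := rfl
def n175073 : Q := act 6 n83606
theorem D175073 : act 6 n83606 = n175073 := rfl
theorem F274050 : act 4 n175073 = n170091 := d10_1 D175073 (iv6 D170091) F235996
def n175074 : Q := act 0 n83608
theorem D175074 : act 0 n83608 = n175074 := rfl
def n175075 : Q := act 1 n83608
theorem D175075 : act 1 n83608 = n175075 := rfl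
def n175076 : Q := act 4 n83608
theorem D175076 : act 4 n83608 = n175076 := rfl
theorem F274051 : act 6 n175076 = n83622 := d10_2 (iv6 F128687) D175076 (iv4 D83622)
def n175077 : Q := act 7 n83608
theorem D175077 : act 7 n83608 = n175077 := rfl
theorem F274052 : act 5 n175077 = n83609 := d13_1 D175077 (iv7 D83609) D83608
def n175080 : Q := act 1 n83614
theorem D175080 : act 1 n83614 = n175080 := rfl
theorem F274053 : act 1 n175080 = n83739 := d15_1 D175080 F201141 (iv2 F189976)
theorem F274054 : act 7 n175080 = n83659 := d15_2 (iv0 F189975) D175080 F201109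
theorem F274055 : act 6 n83727 = n175080 := d21_3 D34583 D75610 (iv5 F249670) (iv1 D175080) (iv6 D83614) D83613 (iv1 F244016) F244017 (iv6 D75609) (iv1 D34582)
theorem F274056 : act 2 n83742 = n175080 := d4_3 F274054 F201109 D83742
def n175081 : Q := act 7 n83614
theorem D175081 : act 7 n83614 = n175081 := rfl
theorem F274057 : act 2 n175081 = n83739 := d4_1 D175081 F201141 (iv2 F189976)
theorem F274058 : act 3 n175081 = n172576 := d8_1 D175081 F272966 F272965
theorem F274059 : act 4 n175081 = n84931 := d11_1 D175081 (iv7 D84931) (iv4 F189977)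
theorem F274060 : act 1 n83742 = n175081 := d15_1 (iv0 F264408) (iv7 D175081) F189976
theorem F274061 : act 1 n175081 = n83659 := d15_1 F274060 (iv7 F274054) (iv2 F274056)
def n175082 : Q := act 4 n83620
theorem D175082 : act 4 n83620 = n175082 := rfl
def n175083 : Q := act 6 n83620
theorem D175083 : act 6 n83620 = n175083 := rfl
def n175084 : Q := act 0 n83622
theorem D175084 : act 0 n83622 = n175084 := rfl
theorem F274062 : act 4 n175084 = n119385 := d18_3 F191383 D83622 D175084 (iv5 F250281) F250282 F243944 (iv4 F239089) (iv0 D152078) (iv5 F128632)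
theorem F274063 : act 5 n155130 = n175084 := d16_1 D155130 F274062 (iv5 F250281) F250282 (iv5 D155118) (iv4 D73627) D73628 (iv7 F243862) F243861
def n175085 : Q := act 1 n83622
theorem D175085 : act 1 n83622 = n175085 := rfl
theorem F274064 : act 4 n175085 = n119386 := d18_7 (iv1 F86890) (iv4 F86891) (iv1 F189966) F59374 D38555 D83622 D175085 F188075 F130130
theorem F274065 : act 5 n155122 = n175085 := d9_0 F274064 (iv5 F188076) (iv4 F205707) F205708 (iv4 D73632) D73633 D155130 F274063 F274062 (iv5 F250281) F250282 (iv5 D155118) (iv4 D73627) D73628 D155122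
def n175086 : Q := act 3 n83622
theorem D175086 : act 3 n83622 = n175086 := rfl
def n175087 : Q := act 5 n83622
theorem D175087 : act 5 n83622 = n175087 := rfl
theorem F274066 : act 1 n175087 = n155135 := d17_8 (iv1 F243875) F243869 (iv1 F110275) D73633 D155130 F274063 (iv0 D175084) D175087 (iv4 D155135)
theorem F274067 : act 0 n175087 = n155139 := d18_0 (iv4 D155139) (iv1 D73636) D73637 D155144 F243960 F188080 (iv4 F274062) (iv0 D175084) D175087
def n175088 : Q := act 7 n83622
theorem D175088 : act 7 n83622 = n175088 := rfl
theorem F274068 : act 4 n175088 = n83623 := d11_1 D175088 (iv7 D83623) D83622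
def n175089 : Q := act 6 n83623
theorem D175089 : act 6 n83623 = n175089 := rfl
def n175090 : Q := act 0 n83624
theorem D175090 : act 0 n83624 = n175090 := rfl
def n175091 : Q := act 1 n83624
theorem D175091 : act 1 n83624 = n175091 := rfl
def n175092 : Q := act 5 n83624
theorem D175092 : act 5 n83624 = n175092 := rfl
theorem F274069 : act 6 n175092 = n152204 := d12_2 D83624 D175092 (iv5 D152204) (iv6 D71786) (iv5 F59381)
def n175093 : Q := act 7 n83624
theorem D175093 : act 7 n83624 = n175093 := rfl
def n175094 : Q := act 2 n83625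
theorem D175094 : act 2 n83625 = n175094 := rfl
theorem F274070 : act 7 n83626 = n175094 := d15_2 (iv0 D83625) D83626 (iv2 D175094)
def n175098 : Q := act 7 n83625
theorem D175098 : act 7 n83625 = n175098 := rfl
theorem F274071 : act 2 n175098 = n83626 := d4_1 D175098 F274070 (iv2 D175094)
def n175099 : Q := act 3 n83626
theorem D175099 : act 3 n83626 = n175099 := rfl
def n175100 : Q := act 4 n83626
theorem D175100 : act 4 n83626 = n175100 := rfl
def n175101 : Q := act 5 n83626
theorem D175101 : act 5 n83626 = n175101 := rfl
def n175102 : Q := act 6 n83626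
theorem D175102 : act 6 n83626 = n175102 := rfl
def n175103 : Q := act 0 n83627
theorem D175103 : act 0 n83627 = n175103 := rfl
def n175104 : Q := act 1 n83627
theorem D175104 : act 1 n83627 = n175104 := rfl
def n175105 : Q := act 4 n83627
theorem D175105 : act 4 n83627 = n175105 := rfl
theorem F274072 : act 6 n175105 = n164527 := d10_2 (iv6 F128692) D175105 (iv4 D164527)
def n175106 : Q := act 7 n83627
theorem D175106 : act 7 n83627 = n175106 := rfl
theorem F274073 : act 3 n175106 = n83646 := d8_1 D175106 (iv7 D83646) (iv3 F128691)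
theorem F274074 : act 5 n175106 = n83628 := d13_1 D175106 (iv7 D83628) D83627
def n175107 : Q := act 4 n83630
theorem D175107 : act 4 n83630 = n175107 := rfl
theorem F274075 : act 2 n175107 = n96684 := d1_1 D175107 (iv4 F188172) F188176
theorem F274078 : act 0 n96686 = n175107 := d20_10 (iv4 D175107) (iv1 D83630) (iv4 F107443) F107442 (iv1 F130986) F107201 (iv4 D34788) F116703 (iv4 F71184) (iv3 F149007)
theorem F274079 : act 1 n84938 = n175107 := d15_0 (iv0 F274078) (iv7 D96686) (iv2 F130189)
def n175108 : Q := act 5 n83630
theorem D175108 : act 5 n83630 = n175108 := rfl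
def n175109 : Q := act 6 n83630
theorem D175109 : act 6 n83630 = n175109 := rfl
def n175110 : Q := act 0 n83631
theorem D175110 : act 0 n83631 = n175110 := rfl
def n175111 : Q := act 1 n83631
theorem D175111 : act 1 n83631 = n175111 := rfl
def n175112 : Q := act 4 n83631
theorem D175112 : act 4 n83631 = n175112 := rfl
theorem F274080 : act 6 n175112 = n83645 := d10_2 (iv6 F128695) D175112 (iv4 D83645)
def n175113 : Q := act 7 n83631
theorem D175113 : act 7 n83631 = n175113 := rfl
theorem F274081 : act 3 n175113 = n164528 := d8_1 D175113 (iv7 D164528) (iv3 F128694)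
theorem F274082 : act 5 n175113 = n83632 := d13_1 D175113 (iv7 D83632) D83631
def n175114 : Q := act 4 n83641
theorem D175114 : act 4 n83641 = n175114 := rfl
def n175115 : Q := act 6 n83641
theorem D175115 : act 6 n83641 = n175115 := rfl
def n175116 : Q := act 0 n83642
theorem D175116 : act 0 n83642 = n175116 := rfl
theorem F274084 : act 4 n175116 = n166283 := d18_3 (iv1 F113748) (iv4 F188458) D175116 F261826 F233901 (iv0 D146917) F105059 (iv0 F60318) (iv5 D39354)
theorem F274085 : act 2 n83727 = n175116 := d15_3 (iv0 D175116) F188456 D83727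
theorem F274086 : act 6 n175116 = n83742 := d3_2 (iv6 F274055) F274085 F274056
theorem F274087 : act 7 n175116 = n83654 := d4_2 D83727 F274085 F201100
theorem F274088 : act 1 n83725 = n175116 := d15_1 D83725 F274087 F201100
def n175117 : Q := act 7 n83642
theorem D175117 : act 7 n83642 = n175117 := rfl
theorem F274089 : act 2 n175117 = n83725 := d4_1 D175117 F130281 (iv2 F188457)
theorem F274090 : act 4 n175117 = n84997 := d11_1 D175117 (iv7 D84997) (iv4 F188458)
theorem F274091 : act 1 n83654 = n175117 := d15_1 (iv0 F206460) (iv7 D175117) F188457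
theorem F274092 : act 1 n175117 = n83727 := d15_1 F274091 (iv7 D83727) (iv2 F201100)
theorem F274093 : act 4 n149188 = n83727 := d20_0 (iv1 F274092) F274090 (iv3 F131588) (iv1 F190862) (iv3 F199604) F199605 (iv1 F201291) F106422 (iv3 F106421) D149188
theorem F274094 : act 2 n166283 = n149188 := d1_3 F274093 F274085 F274084
theorem F274095 : act 7 n83717 = n149188 := d11_0 F274093 (iv7 D83727) (iv4 F128776)
theorem F274096 : act 5 n145912 = n149188 := d17_3 (iv1 D70636) (iv5 F104601) D145912 F274093 F249670 (iv0 D75610) (iv5 D34583) D34582 (iv4 F233757)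
theorem F274097 : act 1 n166283 = n128087 := d15_0 (iv0 F273260) F274095 (iv2 F274094)
theorem E24525 : n149189 = n128337 := (c15_2 (iv0 D149188) D149189 (iv7 F261827) F274094)
theorem F274098 : act 0 n128337 = n70023 := (sb E24525 (iv1 D149189))
def n175118 : Q := act 4 n83644
theorem D175118 : act 4 n83644 = n175118 := rfl
theorem F274099 : act 0 n175118 = n84955 := d18_2 (iv1 F188191) D175118 (iv4 D84955) (iv5 D39298) F29917 D18646 F188453 F86952 (iv5 F188189)
def n175119 : Q := act 5 n83644
theorem D175119 : act 5 n83644 = n175119 := rfl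
theorem F274100 : act 2 n175119 = n118914 := d2_1 D175119 F188394 F243747
theorem F274101 : act 3 n175119 = n172560 := d6_1 D175119 (iv5 F273920) F273919
theorem F274102 : act 4 n175119 = n85006 := d17_4 (iv1 F188449) (iv5 F188189) (iv1 F188191) D175119 (iv5 D85006) F86885 F86883 F130257 D33795
theorem F274103 : act 6 n175119 = n118910 := d21_9 D152923 F240158 F151595 F125771 (iv1 F190081) (iv6 F86950) (iv5 F188189) (iv1 F188191) D175119 F186968
def n175120 : Q := act 6 n83644
theorem D175120 : act 6 n83644 = n175120 := rfl
def n175121 : Q := act 0 n83645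
theorem D175121 : act 0 n83645 = n175121 := rfl
def n175122 : Q := act 1 n83645
theorem D175122 : act 1 n83645 = n175122 := rfl
theorem F274104 : act 4 n175122 = n119343 := d18_7 (iv1 F86869) (iv4 F188765) (iv1 D60193) F46182 D38563 D83645 D175122 F187934 F130201
def n175123 : Q := act 3 n83645
theorem D175123 : act 3 n83645 = n175123 := rfl
def n175124 : Q := act 5 n83645
theorem D175124 : act 5 n83645 = n175124 := rfl
def n175125 : Q := act 7 n83645
theorem D175125 : act 7 n83645 = n175125 := rfl
theorem F274105 : act 4 n175125 = n83646 := d11_1 D175125 (iv7 D83646) D83645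
def n175126 : Q := act 6 n83646
theorem D175126 : act 6 n83646 = n175126 := rfl
def n175127 : Q := act 2 n83647
theorem D175127 : act 2 n83647 = n175127 := rfl
def n175128 : Q := act 3 n83647
theorem D175128 : act 3 n83647 = n175128 := rfl
def n175129 : Q := act 4 n83647
theorem D175129 : act 4 n83647 = n175129 := rfl
def n175130 : Q := act 5 n83647
theorem D175130 : act 5 n83647 = n175130 := rfl
def n175131 : Q := act 6 n83647
theorem D175131 : act 6 n83647 = n175131 := rfl
def n175132 : Q := act 7 n83647
theorem D175132 : act 7 n83647 = n175132 := rfl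
def n175133 : Q := act 3 n83648
theorem D175133 : act 3 n83648 = n175133 := rfl
def n175134 : Q := act 4 n83648
theorem D175134 : act 4 n83648 = n175134 := rfl
def n175135 : Q := act 5 n83648
theorem D175135 : act 5 n83648 = n175135 := rfl
def n175136 : Q := act 6 n83648
theorem D175136 : act 6 n83648 = n175136 := rfl
def n175137 : Q := act 0 n83649
theorem D175137 : act 0 n83649 = n175137 := rfl
def n175138 : Q := act 1 n83649
theorem D175138 : act 1 n83649 = n175138 := rfl
theorem F274108 : act 1 n175138 = n83699 := d15_1 D175138 (iv7 D83699) (iv2 F128701)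
theorem F274109 : act 5 n158465 = n175138 := d21_6 F42578 (iv1 D16763) D16765 D34580 D75596 D158465 (iv1 D175138) (iv5 D83649) (iv6 D38565) (iv1 F42577)
def n175139 : Q := act 4 n83649
theorem D175139 : act 4 n83649 = n175139 := rfl
theorem F274110 : act 2 n175139 = n83698 := d1_1 D175139 (iv4 D83698) (iv2 F128701)
theorem F274111 : act 6 n175139 = n83662 := d10_2 (iv6 F128702) D175139 (iv4 D83662)
def n175140 : Q := act 7 n83649
theorem D175140 : act 7 n83649 = n175140 := rfl
theorem F274112 : act 2 n175140 = n83699 := d4_1 D175140 (iv7 D83699) (iv2 F128701)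
theorem F274113 : act 5 n175140 = n83650 := d13_1 D175140 (iv7 D83650) D83649
theorem F274114 : act 1 n83699 = n175137 := d15_0 (iv0 D175137) D175140 F274112
theorem F274115 : act 1 n83697 = n175140 := d15_1 D83697 (iv7 D175140) F128701
theorem F274116 : act 1 n175140 = n83696 := d15_0 (iv0 D83696) D83699 (iv2 F274112)
def n175141 : Q := act 0 n83652
theorem D175141 : act 0 n83652 = n175141 := rfl
theorem F274117 : act 4 n175141 = n84043 := d20_0 (iv1 F272278) F272276 F128056 (iv1 F155157) F127671 (iv4 F130112) F155131 F94871 D83652 D175141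
theorem F274118 : act 1 n83731 = n175141 := d15_0 (iv0 D175141) F201097 D83731
def n175142 : Q := act 1 n83652
theorem D175142 : act 1 n83652 = n175142 := rfl
def n175143 : Q := act 2 n83652
theorem D175143 : act 2 n83652 = n175143 := rfl
theorem F274119 : act 3 n175143 = n83708 := d0_2 D83652 D175143 (iv2 D83708) (iv3 D38583) F201096
theorem F274120 : act 7 n175143 = n83731 := d4_2 (iv7 F201097) D175143 (iv2 D83731)
theorem F274121 : act 1 n175143 = n83729 := d15_0 (iv0 D83729) (iv7 F201097) D175143
theorem F274122 : act 1 n175142 = n83731 := d15_1 D175142 (iv7 F274120) (iv2 D175143)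
theorem F274123 : act 1 n83730 = n175143 := d15_1 D83730 F274120 (iv2 D83731)
theorem E24526 : n83888 = n83730 := ((c20_11 F272274 (iv1 D173715) F128052 (iv3 D38239) (iv1 F59722) (iv3 F72400) (iv4 F88113) D120779 F201115 (iv3 F274119) (iv1 F274123))).symm
theorem F274124 : act 3 n83730 = n38637 := (sb E24526 (iv3 D83888))
theorem F274125 : act 4 n83730 = n173715 := (sb E24526 F272274)
def n175144 : Q := act 5 n83652
theorem D175144 : act 5 n83652 = n175144 := rfl
theorem F274126 : act 3 n175144 = n83653 := d6_1 D175144 (iv5 D83653) D83652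
theorem F274127 : act 7 n175144 = n83733 := d13_2 (iv7 F201097) D175144 (iv5 D83733)
def n175145 : Q := act 6 n83652
theorem D175145 : act 6 n83652 = n175145 := rfl
theorem F274128 : act 3 n175145 = n83654 := d7_1 D175145 (iv6 D83654) D83652
theorem F274129 : act 5 n158495 = n175145 := d6_0 F274128 F128708 D158495
def n175146 : Q := act 1 n83653
theorem D175146 : act 1 n83653 = n175146 := rfl
theorem F274130 : act 1 n175146 = n83658 := d15_1 D175146 F201108 (iv2 F201098)
theorem F274131 : act 7 n175146 = n83719 := d15_2 (iv0 F272073) D175146 (iv2 F272072)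
theorem F274132 : act 2 n83720 = n175146 := d4_3 F274131 (iv2 F272072) F272071
def n175147 : Q := act 4 n83653
theorem D175147 : act 4 n83653 = n175147 := rfl
theorem F274133 : act 2 n175147 = n83721 := d1_1 D175147 (iv4 D83721) (iv2 F201098)
theorem F274134 : act 7 n175147 = n83737 := d11_2 (iv7 F201099) D175147 (iv4 D83737)
def n175148 : Q := act 6 n83653
theorem D175148 : act 6 n83653 = n175148 := rfl
theorem F274135 : act 2 n175148 = n83722 := d3_1 D175148 (iv6 D83722) (iv2 F201098)
theorem F274136 : act 5 n175148 = n158497 := d12_1 D175148 (iv6 D158497) (iv5 F128708) (iv6 D83654) D83653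
def n175149 : Q := act 1 n83656
theorem D175149 : act 1 n83656 = n175149 := rfl
def n175150 : Q := act 2 n83656
theorem D175150 : act 2 n83656 = n175150 := rfl
theorem F274137 : act 3 n175150 = n83731 := d0_2 D83656 D175150 (iv2 D83731) (iv3 D38588) (iv2 F201102)
theorem F274138 : act 7 n175150 = n83708 := d4_2 (iv7 F201104) D175150 (iv2 D83708)
theorem F274139 : act 1 n175150 = n83706 := d15_0 (iv0 D83706) (iv7 F201104) D175150
theorem F274140 : act 1 n175149 = n83708 := d15_1 D175149 (iv7 F274138) (iv2 D175150)
theorem F274141 : act 1 n83707 = n175150 := d15_1 D83707 F274138 (iv2 D83708)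
def n175151 : Q := act 5 n83656
theorem D175151 : act 5 n83656 = n175151 := rfl
theorem F274142 : act 3 n175151 = n83658 := d6_1 D175151 (iv5 D83658) D83656
theorem F274143 : act 7 n175151 = n83710 := d13_2 (iv7 F201104) D175151 (iv5 D83710)
def n175152 : Q := act 6 n83656
theorem D175152 : act 6 n83656 = n175152 := rfl
theorem F274144 : act 3 n175152 = n83659 := d7_1 D175152 (iv6 D83659) D83656
def n175153 : Q := act 5 n83657
theorem D175153 : act 5 n83657 = n175153 := rfl
theorem F274145 : act 2 n175153 = n83735 := d2_1 D175153 (iv5 D83735) (iv2 F201105)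
theorem F274146 : act 7 n175153 = n83716 := d13_2 (iv7 F201106) D175153 (iv5 D83716)
theorem F274147 : act 1 n175153 = n85962 := d15_0 (iv0 F206456) F206455 (iv2 F274145)
theorem E24527 : n150258 = n150227 := ((c17_9 F236463 (iv5 F272070) (iv1 F272074) (iv5 D83658) D83657 D175153 F274147 F155191 D150227 F236461)).symm
theorem F274148 : act 2 n150227 = n149001 := (sb E24527 F236459)
theorem F274149 : act 3 n150227 = n70734 := (sb E24527 F236460)
theorem F274150 : act 4 n150227 = n83751 := (sb E24527 F236461)
theorem F274151 : act 5 n150227 = n85194 := (sb E24527 F236462)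
theorem F274152 : act 6 n150227 = n70731 := (sb E24527 (iv6 D150258))
theorem F274153 : act 7 n150227 = n169048 := (sb E24527 (iv7 F266242))
theorem F274154 : act 2 n169048 = n150226 := d15_3 (iv0 D150226) D150227 F274153
theorem F274155 : act 7 n149001 = n150226 := d4_2 (iv7 F274153) F274148 (iv2 F274154)
theorem F274156 : act 3 n150226 = n149915 := d8_1 F274155 (iv7 F237374) F237373
theorem F274157 : act 4 n150226 = n83746 := d11_1 F274155 F234233 (iv4 F234269)
theorem F274158 : act 5 n150226 = n85189 := d13_1 F274155 (iv7 F237364) (iv5 F237368)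
theorem F274159 : act 1 n169048 = n127848 := d15_0 F239708 F274155 (iv2 F274154)
def n175154 : Q := act 6 n83657
theorem D175154 : act 6 n83657 = n175154 := rfl
theorem F274160 : act 2 n175154 = n83736 := d3_1 D175154 (iv6 D83736) (iv2 F201105)
theorem F274161 : act 4 n175154 = n83659 := d10_1 D175154 (iv6 D83659) D83657
theorem F274162 : act 1 n175154 = n85981 := d15_0 F264409 F264406 (iv2 F274160)
def n175155 : Q := act 4 n83658
theorem D175155 : act 4 n83658 = n175155 := rfl
theorem F274163 : act 2 n175155 = n83737 := d1_1 D175155 (iv4 D83737) (iv2 F201107)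
theorem F274164 : act 7 n175155 = n83721 := d11_2 (iv7 F201108) D175155 (iv4 D83721)
def n175156 : Q := act 6 n83658
theorem D175156 : act 6 n83658 = n175156 := rfl
theorem F274165 : act 2 n175156 = n83738 := d3_1 D175156 (iv6 D83738) (iv2 F201107)
def n175157 : Q := act 5 n83659
theorem D175157 : act 5 n83659 = n175157 := rfl
theorem F274166 : act 2 n175157 = n83741 := d2_1 D175157 (iv5 D83741) (iv2 F201109)
theorem F274167 : act 0 n175157 = n119239 := d17_2 (iv1 F264410) D175157 (iv5 D119239) (iv4 D54877) D54878 F130398 (iv5 D85034) F130237 (iv4 F125770)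
theorem F274168 : act 0 n118913 = n175157 := d21_1 D118913 (iv5 D175157) (iv6 D83659) (iv1 D38567) (iv6 D18370) D18369 (iv1 F42577) F42578 D34576 (iv1 F188305)
def n175158 : Q := act 3 n83660
theorem D175158 : act 3 n83660 = n175158 := rfl
theorem F274169 : act 7 n175158 = n83749 := d8_2 (iv7 F234235) D175158 (iv3 D83749)
def n175159 : Q := act 4 n83660
theorem D175159 : act 4 n83660 = n175159 := rfl
theorem F274170 : act 2 n175159 = n83745 := d1_1 D175159 (iv4 D83745) (iv2 F234234)
theorem F274171 : act 7 n175159 = n83750 := d11_2 (iv7 F234235) D175159 (iv4 D83750)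
def n175160 : Q := act 5 n83660
theorem D175160 : act 5 n83660 = n175160 := rfl
theorem F274172 : act 2 n175160 = n83746 := d2_1 D175160 (iv5 D83746) (iv2 F234234)
theorem F274173 : act 7 n175160 = n83751 := d13_2 (iv7 F234235) D175160 (iv5 D83751)
theorem F274174 : act 4 n175160 = n169048 := d17_4 (iv1 D38567) D38568 D83660 D175160 F266241 F239705 F239703 F155132 (iv4 D83657)
theorem F274175 : act 1 n155162 = n175160 := d17_8 (iv1 F266243) F236422 (iv1 F239969) (iv5 D83716) (iv4 D38584) D38585 D83720 F243981 F274174
def n175161 : Q := act 6 n83660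
theorem D175161 : act 6 n83660 = n175161 := rfl
theorem F274176 : act 2 n175161 = n83747 := d3_1 D175161 (iv6 D83747) (iv2 F234234)
def n175162 : Q := act 3 n83661
theorem D175162 : act 3 n83661 = n175162 := rfl
theorem F274177 : act 7 n175162 = n83744 := d8_2 (iv7 F234232) D175162 (iv3 D83744)
def n175163 : Q := act 4 n83661
theorem D175163 : act 4 n83661 = n175163 := rfl
theorem F274178 : act 2 n175163 = n83750 := d1_1 D175163 (iv4 D83750) (iv2 F234231)
theorem F274179 : act 7 n175163 = n83745 := d11_2 (iv7 F234232) D175163 (iv4 D83745)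
def n175164 : Q := act 6 n83661
theorem D175164 : act 6 n83661 = n175164 := rfl
theorem F274180 : act 2 n175164 = n83752 := d3_1 D175164 (iv6 D83752) (iv2 F234231)
def n175165 : Q := act 0 n83662
theorem D175165 : act 0 n83662 = n175165 := rfl
def n175166 : Q := act 1 n83662
theorem D175166 : act 1 n83662 = n175166 := rfl
theorem F274181 : act 1 n175166 = n83757 := d15_1 D175166 (iv7 D83757) (iv2 F128711)
def n175167 : Q := act 3 n83662
theorem D175167 : act 3 n83662 = n175167 := rfl
def n175168 : Q := act 5 n83662
theorem D175168 : act 5 n83662 = n175168 := rfl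
theorem F274182 : act 2 n175168 = n83756 := d2_1 D175168 (iv5 D83756) (iv2 F128711)
theorem F274183 : act 4 n175168 = n85206 := d16_2 D83662 D175168 F130528 F60327 F29927 (iv4 F29552) (iv5 F59410) (iv7 D38595) (iv2 F59389)
theorem F274184 : act 7 n85204 = n175168 := d11_0 F274183 (iv7 D85206) D85204
def n175169 : Q := act 7 n83662
theorem D175169 : act 7 n83662 = n175169 := rfl
theorem F274185 : act 2 n175169 = n83757 := d4_1 D175169 (iv7 D83757) (iv2 F128711)
theorem F274186 : act 4 n175169 = n83663 := d11_1 D175169 (iv7 D83663) D83662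
theorem F274187 : act 5 n175169 = n85204 := d13_1 D175169 F274184 (iv5 D175168)
theorem F274188 : act 1 n83757 = n175165 := d15_0 (iv0 D175165) D175169 F274185
theorem F274189 : act 1 n83754 = n175169 := d15_1 D83754 (iv7 D175169) F128711
theorem F274190 : act 1 n175169 = n83753 := d15_0 (iv0 D83753) D83757 (iv2 F274185)
def n175170 : Q := act 6 n83663
theorem D175170 : act 6 n83663 = n175170 := rfl
theorem F274191 : act 2 n175170 = n83758 := d3_1 D175170 (iv6 D83758) (iv2 F128712)
def n175171 : Q := act 5 n83664
theorem D175171 : act 5 n83664 = n175171 := rfl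
theorem F274192 : act 2 n175171 = n120683 := d2_1 D175171 F192388 (iv2 F128717)
theorem F274193 : act 3 n175171 = n160693 := d6_1 D175171 F253832 F132290
theorem F274194 : act 7 n175171 = n120684 := d13_2 F188246 D175171 F192390
theorem F274195 : act 4 n175171 = n103690 := d16_2 D83664 D175171 F159135 F148602 F121919 (iv4 F113430) F113431 F86208 (iv2 F59395)
theorem F274196 : act 0 n175171 = n120686 := d17_2 (iv1 F240690) D175171 F192395 (iv4 D82500) (iv5 D37875) D37873 D82496 (iv0 F151349) (iv4 F240687)
theorem F274197 : act 1 n175171 = n120685 := d17_6 (iv1 F116175) (iv5 F189848) (iv1 D120194) F87534 D83664 D175171 (iv5 F240739) (iv0 D153250) F108863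
def n175172 : Q := act 6 n83664
theorem D175172 : act 6 n83664 = n175172 := rfl
theorem F274198 : act 2 n175172 = n128093 := d3_1 D175172 (iv6 D128093) (iv2 F128717)
theorem F274199 : act 4 n175172 = n83665 := d10_1 D175172 (iv6 D83665) D83664
theorem F274200 : act 0 n175172 = n172426 := d20_7 F113299 (iv1 F64266) (iv4 F155153) (iv3 F199928) (iv1 D83671) (iv3 F128720) (iv4 F274199) (iv4 D172426) (iv3 D82559) (iv1 F113303)
def n175173 : Q := act 0 n83665
theorem D175173 : act 0 n83665 = n175173 := rfl
def n175174 : Q := act 1 n83665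
theorem D175174 : act 1 n83665 = n175174 := rfl
theorem F274201 : act 1 n175174 = n124974 := d15_1 D175174 F200729 (iv2 F128719)
theorem F274202 : act 3 n84126 = n175174 := d20_9 (iv4 F274199) F274200 (iv4 D172426) (iv3 D82559) (iv1 F113303) (iv3 F249448) F249449 (iv1 F128027) (iv4 F129154) (iv1 D175174)
theorem F274203 : act 2 n175174 = n84120 := d0_1 F274202 (iv3 D84120) F59670 D38777 D84126
theorem F274204 : act 7 n175174 = n152241 := d8_2 F272183 F274202 (iv3 F272181)
theorem E24528 : n161603 = n83665 := (c15_1 D161603 D175174 F274204 (iv2 F239304))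
theorem E24529 : n175173 = n77618 := ((D175173).symm.trans (sb E24528 (iv1 D161603)))
theorem F274205 : act 1 n77618 = n83665 := (sb E24529 (iv0 D175173))
theorem F274206 : act 0 n167046 = n164551 := d21_7 (iv5 F189848) (iv1 D120194) F87534 D83665 (iv1 F274205) D161605 (iv5 F263073) (iv5 D164551) (iv6 D79031) (iv1 F116175)
def n175175 : Q := act 5 n83665
theorem D175175 : act 5 n83665 = n175175 := rfl
theorem F274207 : act 2 n175175 = n152242 := d2_1 D175175 (iv5 D152242) (iv2 F128719)
theorem F274208 : act 3 n175175 = n83672 := d6_1 D175175 (iv5 D83672) (iv3 F128720)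
def n175176 : Q := act 7 n83665
theorem D175176 : act 7 n83665 = n175176 := rfl
theorem F274209 : act 2 n175176 = n124974 := d4_1 D175176 F200729 (iv2 F128719)
theorem F274210 : act 3 n175176 = n83673 := d8_1 D175176 (iv7 D83673) (iv3 F128720)
theorem F274211 : act 6 n175176 = n155440 := d14_1 D175176 F244412 (iv6 D119466) F86984 D83665
theorem F274212 : act 1 n84120 = n175176 := d15_1 F199926 (iv7 D175176) F128719
theorem F274213 : act 1 n175176 = n152241 := d15_1 F274212 (iv7 F274204) F274203
def n175177 : Q := act 6 n83666
theorem D175177 : act 6 n83666 = n175177 := rfl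
theorem F274214 : act 2 n175177 = n149841 := d3_1 D175177 (iv6 D149841) (iv2 F128726)
theorem F274215 : act 3 n175177 = n96181 := d7_1 D175177 (iv6 D96181) F128724
theorem F274216 : act 4 n175177 = n119129 := d10_1 D175177 (iv6 D119129) (iv4 F128722)
def n175178 : Q := act 6 n83667
theorem D175178 : act 6 n83667 = n175178 := rfl
theorem F274217 : act 2 n175178 = n149842 := d3_1 D175178 (iv6 D149842) F128731
theorem F274218 : act 4 n175178 = n119128 := d10_1 D175178 (iv6 D119128) (iv4 F128730)
def n175179 : Q := act 6 n83668
theorem D175179 : act 6 n83668 = n175179 := rfl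
theorem F274220 : act 3 n175179 = n83669 := d7_1 D175179 (iv6 D83669) D83668
def n175180 : Q := act 0 n83669
theorem D175180 : act 0 n83669 = n175180 := rfl
def n175183 : Q := act 7 n83669
theorem D175183 : act 7 n83669 = n175183 := rfl
theorem F274224 : act 2 n175183 = n125223 := d4_1 D175183 F201348 (iv2 F128737)
theorem F274225 : act 4 n175183 = n83673 := d11_1 D175183 (iv7 D83673) (iv4 F128738)
theorem F274226 : act 1 n125223 = n175180 := d15_0 (iv0 D175180) D175183 F274224
theorem F274227 : act 1 n149844 = n175183 := d15_1 D149844 (iv7 D175183) F128737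
theorem F274228 : act 0 n149843 = n175183 := d20_1 (iv4 F235694) F274225 (iv3 F274210) (iv1 F274212) (iv3 D84120) (iv4 D38772) F116634 F33888 (iv3 F56162) D77665
def n175184 : Q := act 3 n83670
theorem D175184 : act 3 n83670 = n175184 := rfl
theorem F274229 : act 2 n175184 = n83765 := d0_1 D175184 (iv3 D83765) (iv2 F156430) (iv3 F200306) F200311
def n175187 : Q := act 5 n83671
theorem D175187 : act 5 n83671 = n175187 := rfl
theorem F274230 : act 3 n175187 = n83772 := d6_1 D175187 (iv5 D83772) (iv3 F199928)
def n175188 : Q := act 6 n83671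
theorem D175188 : act 6 n83671 = n175188 := rfl
theorem F274231 : act 3 n175188 = n83773 := d7_1 D175188 (iv6 D83773) (iv3 F199928)
def n175189 : Q := act 0 n83672
theorem D175189 : act 0 n83672 = n175189 := rfl
def n175190 : Q := act 1 n83672
theorem D175190 : act 1 n83672 = n175190 := rfl
theorem F274232 : act 5 n174979 = n175190 := d21_6 (iv5 D26555) (iv1 F21092) D18367 D38560 (iv1 F155093) D174979 (iv1 D175190) (iv5 D83672) (iv6 D38572) (iv1 F42519)
def n175191 : Q := act 4 n83672
theorem D175191 : act 4 n83672 = n175191 := rfl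
def n175192 : Q := act 7 n83672
theorem D175192 : act 7 n83672 = n175192 := rfl
theorem F274234 : act 5 n175192 = n83673 := d13_1 D175192 (iv7 D83673) D83672
def n175194 : Q := act 1 n83674
theorem D175194 : act 1 n83674 = n175194 := rfl
theorem F274235 : act 4 n172796 = n175194 := d20_6 (iv4 F162736) F189177 (iv4 D119848) D119847 (iv1 F189171) D172796 (iv1 D175194) F128740 F59400 D71790
def n175195 : Q := act 5 n83674
theorem D175195 : act 5 n83674 = n175195 := rfl
theorem F274236 : act 3 n175195 = n117942 := d6_1 D175195 (iv5 D117942) (iv3 F128739)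
theorem F274237 : act 6 n175195 = n149738 := d12_2 D83674 D175195 (iv5 D149738) (iv6 D70335) (iv5 F59399)
def n175196 : Q := act 7 n83674
theorem D175196 : act 7 n83674 = n175196 := rfl
theorem F274238 : act 3 n175196 = n106090 := d8_1 D175196 F163097 (iv3 F128739)
theorem F274239 : act 4 n175196 = n83678 := d11_1 D175196 (iv7 D83678) (iv4 F128740)
theorem E24530 : n169818 = n149813 := ((c20_5 (iv4 D49033) (iv1 F109832) (iv4 F51758) (iv3 F106874) D149813 (iv3 D169818) F267245 (iv1 F188257) (iv4 F274239) F274238 (iv1 D106090))).symm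
theorem F274241 : act 3 n149813 = n81438 := (sb E24530 (iv3 D169818))
def n175197 : Q := act 5 n83675
theorem D175197 : act 5 n83675 = n175197 := rfl
theorem F274242 : act 3 n175197 = n83781 := d6_1 D175197 (iv5 D83781) (iv3 F184738)
def n175198 : Q := act 6 n83675
theorem D175198 : act 6 n83675 = n175198 := rfl
theorem F274243 : act 3 n175198 = n83782 := d7_1 D175198 (iv6 D83782) (iv3 F184738)
def n175199 : Q := act 3 n83676
theorem D175199 : act 3 n83676 = n175199 := rfl
theorem F274244 : act 2 n175199 = n83784 := d0_1 D175199 (iv3 D83784) (iv2 F184695) (iv3 F188251) F188256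
def n175200 : Q := act 5 n83676
theorem D175200 : act 5 n83676 = n175200 := rfl
def n175201 : Q := act 6 n83676
theorem D175201 : act 6 n83676 = n175201 := rfl
def n175202 : Q := act 0 n83677
theorem D175202 : act 0 n83677 = n175202 := rfl
def n175203 : Q := act 1 n83677
theorem D175203 : act 1 n83677 = n175203 := rfl
theorem F274245 : act 5 n175073 = n175203 := d21_6 (iv5 D8653) D8650 D18363 D38552 D83606 D175073 (iv1 D175203) (iv5 D83677) (iv6 D38574) (iv1 D18372)
def n175204 : Q := act 4 n83677
theorem D175204 : act 4 n83677 = n175204 := rfl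
def n175205 : Q := act 7 n83677
theorem D175205 : act 7 n83677 = n175205 := rfl
theorem F274246 : act 3 n175205 = n119839 := d8_1 D175205 F189138 (iv3 F128741)
theorem F274247 : act 5 n175205 = n83678 := d13_1 D175205 (iv7 D83678) D83677
def n175207 : Q := act 6 n83680
theorem D175207 : act 6 n83680 = n175207 := rfl
theorem F274251 : act 2 n175207 = n99603 := d3_1 D175207 (iv6 D99603) F128754
theorem F274252 : act 4 n175207 = n84626 := d10_1 D175207 (iv6 D84626) (iv4 F128753)
def n175208 : Q := act 0 n83681
theorem D175208 : act 0 n83681 = n175208 := rfl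
def n175209 : Q := act 1 n83681
theorem D175209 : act 1 n83681 = n175209 := rfl
def n175210 : Q := act 5 n83681
theorem D175210 : act 5 n83681 = n175210 := rfl
theorem F274253 : act 3 n175210 = n83684 := d6_1 D175210 (iv5 D83684) (iv3 F128755)
def n175211 : Q := act 7 n83681
theorem D175211 : act 7 n83681 = n175211 := rfl
theorem F274254 : act 3 n175211 = n83685 := d8_1 D175211 (iv7 D83685) (iv3 F128755)
theorem F274255 : act 4 n175211 = n83798 := d11_1 D175211 (iv7 D83798) (iv4 F128756)
theorem F274256 : act 6 n175211 = n99611 := d14_1 D175211 (iv7 D99611) (iv6 D46559) (iv7 F59402) D83681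
def n175212 : Q := act 2 n83682
theorem D175212 : act 2 n83682 = n175212 := rfl
theorem F274257 : act 7 n83683 = n175212 := d15_2 (iv0 D83682) D83683 (iv2 D175212)
def n175217 : Q := act 7 n83682
theorem D175217 : act 7 n83682 = n175217 := rfl
theorem F274258 : act 2 n175217 = n83683 := d4_1 D175217 F274257 (iv2 D175212)
def n175218 : Q := act 3 n83683
theorem D175218 : act 3 n83683 = n175218 := rfl
def n175219 : Q := act 4 n83683
theorem D175219 : act 4 n83683 = n175219 := rfl
def n175220 : Q := act 5 n83683
theorem D175220 : act 5 n83683 = n175220 := rfl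
def n175221 : Q := act 6 n83683
theorem D175221 : act 6 n83683 = n175221 := rfl
def n175222 : Q := act 0 n83684
theorem D175222 : act 0 n83684 = n175222 := rfl
def n175223 : Q := act 1 n83684
theorem D175223 : act 1 n83684 = n175223 := rfl
def n175224 : Q := act 4 n83684
theorem D175224 : act 4 n83684 = n175224 := rfl
def n175225 : Q := act 7 n83684
theorem D175225 : act 7 n83684 = n175225 := rfl
theorem F274259 : act 5 n175225 = n83685 := d13_1 D175225 (iv7 D83685) D83684
def n175226 : Q := act 0 n83686
theorem D175226 : act 0 n83686 = n175226 := rfl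
theorem F274260 : act 1 n83691 = n175226 := d15_0 (iv0 D175226) (iv7 F128758) (iv2 F128759)
def n175228 : Q := act 3 n83686
theorem D175228 : act 3 n83686 = n175228 := rfl
theorem F274262 : act 7 n175228 = n83692 := d8_2 F128758 D175228 (iv3 D83692)
def n175229 : Q := act 4 n83686
theorem D175229 : act 4 n83686 = n175229 := rfl
theorem F274263 : act 2 n175229 = n83688 := d1_1 D175229 (iv4 D83688) D83686
theorem F274264 : act 7 n175229 = n83693 := d11_2 F128758 D175229 (iv4 D83693)
def n175230 : Q := act 5 n83686
theorem D175230 : act 5 n83686 = n175230 := rfl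
theorem F274265 : act 2 n175230 = n83689 := d2_1 D175230 (iv5 D83689) D83686
theorem F274266 : act 7 n175230 = n83694 := d13_2 F128758 D175230 (iv5 D83694)
def n175231 : Q := act 6 n83686
theorem D175231 : act 6 n83686 = n175231 := rfl
theorem F274267 : act 2 n175231 = n83690 := d3_1 D175231 (iv6 D83690) D83686
def n175236 : Q := act 5 n83687
theorem D175236 : act 5 n83687 = n175236 := rfl
theorem F274268 : act 3 n175236 = n83689 := d6_1 D175236 (iv5 D83689) D83687
def n175237 : Q := act 6 n83687
theorem D175237 : act 6 n83687 = n175237 := rfl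
theorem F274269 : act 3 n175237 = n83690 := d7_1 D175237 (iv6 D83690) D83687
def n175238 : Q := act 7 n83687
theorem D175238 : act 7 n83687 = n175238 := rfl
theorem F274270 : act 3 n175238 = n83691 := d8_1 D175238 (iv7 D83691) D83687
def n175239 : Q := act 0 n83688
theorem D175239 : act 0 n83688 = n175239 := rfl
def n175240 : Q := act 1 n83688
theorem D175240 : act 1 n83688 = n175240 := rfl
theorem F274271 : act 1 n175240 = n83693 := d15_1 D175240 (iv7 F274264) F274263
def n175241 : Q := act 3 n83688
theorem D175241 : act 3 n83688 = n175241 := rfl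
def n175242 : Q := act 5 n83688
theorem D175242 : act 5 n83688 = n175242 := rfl
def n175243 : Q := act 6 n83688
theorem D175243 : act 6 n83688 = n175243 := rfl
theorem F274272 : act 4 n175243 = n83690 := d10_1 D175243 (iv6 D83690) D83688
def n175244 : Q := act 7 n83688
theorem D175244 : act 7 n83688 = n175244 := rfl
theorem F274273 : act 2 n175244 = n83693 := d4_1 D175244 (iv7 F274264) F274263
theorem F274274 : act 4 n175244 = n83691 := d11_1 D175244 (iv7 D83691) D83688
theorem F274275 : act 1 n83693 = n175239 := d15_0 (iv0 D175239) D175244 F274273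
def n175245 : Q := act 0 n83689
theorem D175245 : act 0 n83689 = n175245 := rfl
theorem F274276 : act 5 n175245 = n175109 := d21_2 D83689 D175245 (iv6 D175109) (iv1 D83630) (iv6 D38560) (iv5 D18367) (iv1 D8651) D8653 D18374 D38578
def n175246 : Q := act 1 n83689
theorem D175246 : act 1 n83689 = n175246 := rfl
theorem F274277 : act 1 n175246 = n83694 := d15_1 D175246 (iv7 F274266) F274265
def n175247 : Q := act 4 n83689
theorem D175247 : act 4 n83689 = n175247 := rfl
def n175248 : Q := act 6 n83689
theorem D175248 : act 6 n83689 = n175248 := rfl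
def n175249 : Q := act 7 n83689
theorem D175249 : act 7 n83689 = n175249 := rfl
theorem F274278 : act 2 n175249 = n83694 := d4_1 D175249 (iv7 F274266) F274265
theorem F274279 : act 5 n175249 = n83691 := d13_1 D175249 (iv7 D83691) D83689
theorem F274280 : act 1 n83694 = n175245 := d15_0 (iv0 D175245) D175249 F274278
def n175252 : Q := act 5 n83690
theorem D175252 : act 5 n83690 = n175252 := rfl
theorem F274281 : act 0 n175252 = n175067 := d21_7 (iv5 D18367) (iv1 D8651) D8653 D18374 D38578 D83690 D175252 (iv5 D175067) (iv6 D83604) (iv1 F59377)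
def n175254 : Q := act 6 n83691
theorem D175254 : act 6 n83691 = n175254 := rfl
theorem F274282 : act 2 n175254 = n83695 := d3_1 D175254 (iv6 D83695) (iv2 F128759)
def n175255 : Q := act 0 n83692
theorem D175255 : act 0 n83692 = n175255 := rfl
def n175256 : Q := act 1 n83692
theorem D175256 : act 1 n83692 = n175256 := rfl
def n175257 : Q := act 2 n83692
theorem D175257 : act 2 n83692 = n175257 := rfl
def n175258 : Q := act 4 n83692
theorem D175258 : act 4 n83692 = n175258 := rfl
def n175259 : Q := act 5 n83692
theorem D175259 : act 5 n83692 = n175259 := rfl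
theorem F274283 : act 3 n175259 = n83694 := d6_1 D175259 (iv5 D83694) D83692
def n175260 : Q := act 6 n83692
theorem D175260 : act 6 n83692 = n175260 := rfl
theorem F274284 : act 3 n175260 = n83695 := d7_1 D175260 (iv6 D83695) D83692
def n175261 : Q := act 3 n83693
theorem D175261 : act 3 n83693 = n175261 := rfl
def n175262 : Q := act 5 n83693
theorem D175262 : act 5 n83693 = n175262 := rfl
def n175263 : Q := act 6 n83693
theorem D175263 : act 6 n83693 = n175263 := rfl
def n175264 : Q := act 4 n83694
theorem D175264 : act 4 n83694 = n175264 := rfl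
def n175265 : Q := act 6 n83694
theorem D175265 : act 6 n83694 = n175265 := rfl
def n175266 : Q := act 0 n83695
theorem D175266 : act 0 n83695 = n175266 := rfl
def n175267 : Q := act 1 n83695
theorem D175267 : act 1 n83695 = n175267 := rfl
def n175268 : Q := act 5 n83695
theorem D175268 : act 5 n83695 = n175268 := rfl
theorem F274286 : act 0 n175072 = n175268 := d21_1 D175072 (iv5 D175268) (iv6 D83695) (iv1 D38579) (iv6 D18374) (iv5 D8653) D8650 D18363 D38552 D83606
def n175269 : Q := act 7 n83695
theorem D175269 : act 7 n83695 = n175269 := rfl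
def n175270 : Q := act 2 n83696
theorem D175270 : act 2 n83696 = n175270 := rfl
theorem F274287 : act 7 n83697 = n175270 := d15_2 (iv0 D83696) D83697 (iv2 D175270)
def n175271 : Q := act 3 n83696
theorem D175271 : act 3 n83696 = n175271 := rfl
def n175272 : Q := act 4 n83696
theorem D175272 : act 4 n83696 = n175272 := rfl
def n175273 : Q := act 5 n83696
theorem D175273 : act 5 n83696 = n175273 := rfl
def n175274 : Q := act 6 n83696
theorem D175274 : act 6 n83696 = n175274 := rfl
def n175275 : Q := act 7 n83696
theorem D175275 : act 7 n83696 = n175275 := rfl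
theorem F274288 : act 2 n175275 = n83697 := d4_1 D175275 F274287 (iv2 D175270)
def n175276 : Q := act 3 n83697
theorem D175276 : act 3 n83697 = n175276 := rfl
def n175277 : Q := act 4 n83697
theorem D175277 : act 4 n83697 = n175277 := rfl
def n175278 : Q := act 5 n83697
theorem D175278 : act 5 n83697 = n175278 := rfl
theorem F274289 : act 6 n158446 = n175278 := d21_5 (iv5 F42850) (iv1 F42851) D34577 D75590 D158446 (iv5 D175278) (iv1 D83697) (iv5 D38580) (iv6 D18374) D18371
def n175279 : Q := act 6 n83697
theorem D175279 : act 6 n83697 = n175279 := rfl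
def n175280 : Q := act 0 n83698
theorem D175280 : act 0 n83698 = n175280 := rfl
def n175281 : Q := act 1 n83698
theorem D175281 : act 1 n83698 = n175281 := rfl
def n175282 : Q := act 3 n83698
theorem D175282 : act 3 n83698 = n175282 := rfl
theorem F274290 : act 4 n175282 = n83869 := d5_2 D83698 D175282 (iv3 D83869) (iv4 D38625) (iv3 F59404)
theorem F274291 : act 6 n175282 = n83755 := d7_2 (iv6 F128760) D175282 (iv3 D83755)
def n175283 : Q := act 5 n83698
theorem D175283 : act 5 n83698 = n175283 := rfl
def n175284 : Q := act 7 n83698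
theorem D175284 : act 7 n83698 = n175284 := rfl
theorem F274292 : act 4 n175284 = n83699 := d11_1 D175284 (iv7 D83699) D83698
def n175285 : Q := act 6 n83699
theorem D175285 : act 6 n83699 = n175285 := rfl
theorem F274293 : act 3 n175285 = n83872 := d7_1 D175285 (iv6 D83872) (iv3 F128761)
theorem F274294 : act 7 n175285 = n83758 := d14_2 D83699 D175285 (iv6 D83758) (iv7 D38595) (iv6 F59405)
def n175286 : Q := act 2 n83706
theorem D175286 : act 2 n83706 = n175286 := rfl
theorem F274295 : act 7 n83707 = n175286 := d15_2 (iv0 D83706) D83707 (iv2 D175286)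
def n175288 : Q := act 5 n83706
theorem D175288 : act 5 n83706 = n175288 := rfl
theorem F274296 : act 3 n175288 = n83938 := d6_1 D175288 (iv5 D83938) (iv3 F187919)
def n175289 : Q := act 6 n83706
theorem D175289 : act 6 n83706 = n175289 := rfl
def n175290 : Q := act 7 n83706
theorem D175290 : act 7 n83706 = n175290 := rfl
theorem F274298 : act 2 n175290 = n83707 := d4_1 D175290 F274295 (iv2 D175286)
theorem F274299 : act 3 n175290 = n83930 := d8_1 D175290 (iv7 F128932) (iv3 F187919)
theorem F274300 : act 2 n83931 = n173508 := d0_3 F274299 (iv2 D83930) D83931 F272292 (iv2 F274298)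
theorem F274301 : act 2 n84124 = n173682 := d1_3 (iv4 F272179) F274300 F272291
theorem F274302 : act 7 n173509 = n83931 := d15_2 (iv0 D173508) D173509 F274300
theorem F274303 : act 3 n83935 = n173509 := d8_3 F274302 (iv3 D83931) D83935
theorem F274304 : act 7 n173681 = n84124 := d15_2 (iv0 F272180) F272178 F274301
theorem F274305 : act 7 n84125 = n173682 := d15_2 (iv0 D84124) D84125 (iv2 F274301)
theorem F274306 : act 2 n173681 = n84125 := d4_3 F274305 (iv2 F274301) (iv7 F274304)
theorem E24531 : n173596 = n173509 := ((c11_3 F274305 (iv4 F272179) (iv7 F274302) F272048)).symm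
theorem E24532 : n83935 = n83032 := (((iv3 F274303)).symm.trans (sb E24531 (iv3 D173596)))
theorem F274307 : act 4 n173509 = n84125 := (sb E24531 F272048)
theorem E24533 : n173595 = n38661 := ((D173595).symm.trans (sb E24532 F128933))
theorem F274308 : act 3 n83032 = n173509 := (sb E24532 F274303)
theorem E24534 : n173600 = n38660 := ((D173600).symm.trans (sb E24532 (iv7 D83935)))
theorem F274309 : act 2 n38661 = n83032 := (sb E24533 (iv2 D173595))
theorem E24535 : n83930 = n83033 := ((F128932).symm.trans (sb E24533 (iv7 F272047)))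
theorem F274310 : act 7 n38660 = n83032 := (sb E24534 (iv7 D173600))
theorem F274311 : act 2 n83033 = n38660 := (sb E24535 (iv2 D83930))
theorem E24536 : n175290 = n173601 := (((D173601).symm.trans (sb E24535 (iv3 F274299)))).symm
theorem F274312 : act 7 n83033 = n38661 := (sb E24535 (iv7 F128932))
theorem F274314 : act 7 n173601 = n83706 := (sb E24536 (iv7 D175290))
theorem E24537 : n175286 = n175149 := (c15_4 F274140 F272052 F274314 D175286)
theorem F274315 : act 2 n175149 = n83706 := (sb E24537 (iv2 D175286))
theorem F274316 : act 7 n175149 = n83707 := (sb E24537 (iv7 F274295))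
theorem F274317 : act 7 n83937 = n173602 := d11_2 F274312 D83937 (iv4 D173602)
theorem F274318 : act 7 n83938 = n173603 := d13_2 F274312 D83938 (iv5 D173603)
theorem F274319 : act 2 n83932 = n173602 := d1_3 (iv4 D173602) F274311 D83932
theorem F274320 : act 2 n83933 = n173603 := d2_3 (iv5 D173603) F274311 D83933
theorem F274322 : act 1 n83932 = n86594 := d15_0 (iv0 F187918) F274317 (iv2 F274319)
theorem F274323 : act 0 n83931 = n173446 := d20_10 F271906 (iv1 F249451) (iv4 D84147) D84146 F131854 D85030 (iv4 F132840) (iv1 F274322) (iv4 D83932) D83931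
theorem F274324 : act 7 n173597 = n83932 := d11_2 F274310 D173597 (iv4 D83932)
theorem F274325 : act 7 n173598 = n83933 := d13_2 F274310 D173598 (iv5 D83933)
theorem F274326 : act 2 n83938 = n173598 := d4_3 F274325 F274320 (iv7 F274318)
theorem F274327 : act 2 n83937 = n173597 := d4_3 F274324 F274319 (iv7 F274317)
theorem F274328 : act 1 n173597 = n85060 := d15_0 (iv0 F272050) (iv7 F274317) F274327
theorem F274329 : act 0 n86697 = n149088 := d20_4 (iv4 D173597) (iv1 F127949) D83940 (iv3 F132958) F234466 F130089 F232469 D39337 D85060 (iv1 F274328)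
def n175291 : Q := act 4 n83707
theorem D175291 : act 4 n83707 = n175291 := rfl
theorem F274331 : act 3 n165085 = n175291 := d20_5 (iv4 D58386) (iv1 F44874) D39439 D85372 (iv1 F260340) (iv4 D175291) (iv1 D83707) D83709 (iv3 F232384) F232382
def n175292 : Q := act 5 n83707
theorem D175292 : act 5 n83707 = n175292 := rfl
def n175294 : Q := act 5 n83708
theorem D175294 : act 5 n83708 = n175294 := rfl
theorem F274332 : act 2 n175294 = n83710 := d2_1 D175294 (iv5 D83710) D83708
def n175296 : Q := act 5 n83709
theorem D175296 : act 5 n83709 = n175296 := rfl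
theorem F274334 : act 0 n175296 = n168554 := d21_1 D175296 (iv5 D168554) (iv6 D80864) (iv1 F238262) (iv6 D80705) (iv5 F121919) (iv1 F121920) F107241 D120777 F192612
def n175297 : Q := act 0 n83710
theorem D175297 : act 0 n83710 = n175297 := rfl
def n175298 : Q := act 1 n83710
theorem D175298 : act 1 n83710 = n175298 := rfl
def n175299 : Q := act 4 n83710
theorem D175299 : act 4 n83710 = n175299 := rfl
def n175300 : Q := act 6 n83710
theorem D175300 : act 6 n83710 = n175300 := rfl
theorem F274335 : act 3 n175300 = n83722 := d7_1 D175300 (iv6 D83722) (iv3 F128771)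
def n175301 : Q := act 0 n83711
theorem D175301 : act 0 n83711 = n175301 := rfl
def n175304 : Q := act 7 n83711
theorem D175304 : act 7 n83711 = n175304 := rfl
theorem F274338 : act 3 n175304 = n83727 := d8_1 D175304 (iv7 D83727) (iv3 F128772)
def n175305 : Q := act 5 n83713
theorem D175305 : act 5 n83713 = n175305 := rfl
theorem F274342 : act 0 n175305 = n85194 := d17_2 D83713 D175305 (iv5 F274151) F274150 (iv5 D83751) F128715 F128713 F59394 D38584
theorem F274343 : act 0 n85189 = n175305 := d21_1 F274158 (iv5 D175305) F188294 (iv1 F188292) D119518 (iv5 F236420) (iv1 D150224) (iv5 D70713) D70714 D150226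
def n175306 : Q := act 5 n83715
theorem D175306 : act 5 n83715 = n175306 := rfl
theorem F274344 : act 3 n175306 = n83716 := d6_1 D175306 (iv5 D83716) D83715
theorem F274345 : act 6 n175306 = n145188 := d12_2 F227853 D175306 (iv5 F243404) (iv6 D144898) D144897
theorem F274346 : act 0 n175306 = n85722 := d17_2 F199696 D175306 (iv5 F235803) F235802 (iv5 F200624) F200623 (iv5 D124912) F199745 (iv4 F107951)
theorem F274347 : act 0 n146238 = n144898 := d21_1 F229537 F243404 (iv6 F274345) F274346 (iv6 F237246) F237245 D157334 (iv5 F247605) (iv6 F264622) (iv1 F264625)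
def n175307 : Q := act 0 n83716
theorem D175307 : act 0 n83716 = n175307 := rfl
theorem F274348 : act 5 n175307 = n127848 := d21_2 D83716 D175307 (iv6 D127848) (iv1 D60043) (iv6 D28516) (iv5 D13598) (iv1 F25469) (iv5 F41920) D54394 F155113
theorem F274350 : act 1 n83735 = n175307 := d15_0 (iv0 D175307) (iv7 F274146) F274145
def n175308 : Q := act 4 n83716
theorem D175308 : act 4 n83716 = n175308 := rfl
theorem F274351 : act 5 n175308 = n85202 := d17_5 (iv1 F234262) (iv5 D118079) F155113 D83716 D175308 (iv0 D85202) (iv5 D39385) D39383 D85194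
theorem F274352 : act 1 n175308 = n85096 := d18_6 (iv1 D8758) (iv4 F13559) D18375 D38584 D83716 D175308 (iv4 D85096) F60314 (iv5 D18661)
theorem F274353 : act 0 n175308 = n85093 := d20_1 D175308 (iv4 D85093) (iv3 F190536) (iv1 F92210) (iv3 F92214) D124813 (iv1 F201214) (iv4 D125173) D125172 (iv1 F239969)
def n175310 : Q := act 3 n83719
theorem D175310 : act 3 n83719 = n175310 := rfl
theorem F274355 : act 2 n175310 = n83913 := d0_1 D175310 (iv3 D83913) F127961 D173614 F272072
theorem F274356 : act 5 n172973 = n175310 := d2_0 F274355 F128909 (iv2 F271196)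
def n175311 : Q := act 4 n83719
theorem D175311 : act 4 n83719 = n175311 := rfl
theorem F274357 : act 0 n175311 = n85131 := d18_2 D83719 D175311 (iv4 D85131) (iv5 D39364) (iv4 D18660) F29922 (iv4 F59391) F59394 D38585
def n175312 : Q := act 5 n83719
theorem D175312 : act 5 n83719 = n175312 := rfl
theorem F274361 : act 1 n175312 = n120207 := d17_8 (iv1 F239708) (iv5 F274348) (iv1 F274350) (iv5 D83735) (iv4 D38589) D38590 F128783 D175312 (iv4 F234269)
theorem F274362 : act 6 n175312 = n118601 := d21_3 D38585 D83719 D175312 (iv1 F189860) (iv6 D55308) F42856 (iv1 D18372) (iv5 D8653) D8654 D18375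
def n175313 : Q := act 6 n83719
theorem D175313 : act 6 n83719 = n175313 := rfl
def n175314 : Q := act 4 n83720
theorem D175314 : act 4 n83720 = n175314 := rfl
theorem F274364 : act 0 n175314 = n85086 := d18_2 (iv1 F128780) D175314 (iv4 D85086) (iv5 D39344) (iv4 D18655) (iv0 D8757) (iv4 F13559) D18376 D38590
def n175315 : Q := act 6 n83720
theorem D175315 : act 6 n83720 = n175315 := rfl
theorem F274365 : act 3 n175315 = n83919 := d7_1 D175315 (iv6 D83919) (iv3 F243982)
def n175316 : Q := act 0 n83721
theorem D175316 : act 0 n83721 = n175316 := rfl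
theorem F274366 : act 1 n83737 = n175316 := d15_0 (iv0 D175316) (iv7 F274164) F274163
def n175317 : Q := act 1 n83721
theorem D175317 : act 1 n83721 = n175317 := rfl
theorem F274367 : act 1 n175317 = n83737 := d15_1 D175317 (iv7 F274134) F274133
def n175318 : Q := act 3 n83721
theorem D175318 : act 3 n83721 = n175318 := rfl
def n175319 : Q := act 5 n83721
theorem D175319 : act 5 n83721 = n175319 := rfl
def n175320 : Q := act 6 n83721
theorem D175320 : act 6 n83721 = n175320 := rfl
theorem F274368 : act 4 n175320 = n83722 := d10_1 D175320 (iv6 D83722) D83721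
def n175321 : Q := act 0 n83722
theorem D175321 : act 0 n83722 = n175321 := rfl
def n175322 : Q := act 1 n83722
theorem D175322 : act 1 n83722 = n175322 := rfl
def n175323 : Q := act 5 n83722
theorem D175323 : act 5 n83722 = n175323 := rfl
theorem F274369 : act 2 n175323 = n158497 := d2_1 D175323 (iv5 F274136) F274135
theorem F274370 : act 6 n175323 = n83726 := d12_2 D83722 D175323 (iv5 D83726) (iv6 D38586) D38585
def n175324 : Q := act 7 n83722
theorem D175324 : act 7 n83722 = n175324 := rfl
def n175326 : Q := act 2 n83729
theorem D175326 : act 2 n83729 = n175326 := rfl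
theorem F274373 : act 7 n83730 = n175326 := d15_2 (iv0 D83729) D83730 (iv2 D175326)
theorem F274374 : act 3 n175326 = n83892 := d8_1 F274373 (iv7 D83892) (iv3 F274124)
theorem F274375 : act 2 n83893 = n173489 := d0_3 F274374 F128889 D83893 (iv3 F272273) D175326
def n175329 : Q := act 7 n83729
theorem D175329 : act 7 n83729 = n175329 := rfl
theorem F274376 : act 2 n175329 = n83730 := d4_1 D175329 F274373 (iv2 D175326)
def n175330 : Q := act 5 n83730
theorem D175330 : act 5 n83730 = n175330 := rfl
theorem F274377 : act 3 n175330 = n83890 := d6_1 D175330 (iv5 D83890) (iv3 F274124)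
def n175331 : Q := act 6 n83730
theorem D175331 : act 6 n83730 = n175331 := rfl
theorem F274378 : act 3 n175331 = n83891 := d7_1 D175331 (iv6 D83891) (iv3 F274124)
def n175332 : Q := act 4 n83731
theorem D175332 : act 4 n83731 = n175332 := rfl
theorem F274379 : act 2 n175332 = n83732 := d1_1 D175332 (iv4 D83732) D83731
theorem F274380 : act 3 n175332 = n165199 := d20_3 (iv4 F274117) (iv1 F274118) D175332 (iv1 D165199) F121968 F58661 (iv1 F117226) D18416 D38718 D84043
theorem F274381 : act 0 n173727 = n175332 := d20_1 D173727 (iv4 D175332) (iv3 F274137) (iv1 F274141) (iv3 F272292) F272291 (iv1 F272184) F272182 F128028 (iv1 F128059)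
def n175333 : Q := act 5 n83731
theorem D175333 : act 5 n83731 = n175333 := rfl
theorem F274383 : act 2 n175333 = n83733 := d2_1 D175333 (iv5 D83733) D83731
def n175334 : Q := act 6 n83731
theorem D175334 : act 6 n83731 = n175334 := rfl
theorem F274384 : act 2 n175334 = n83734 := d3_1 D175334 (iv6 D83734) D83731
def n175335 : Q := act 5 n83732
theorem D175335 : act 5 n83732 = n175335 := rfl
def n175336 : Q := act 6 n83732
theorem D175336 : act 6 n83732 = n175336 := rfl
theorem F274385 : act 3 n175336 = n162777 := d7_1 D175336 F257045 F201076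
theorem F274386 : act 4 n175336 = n83734 := d10_1 D175336 (iv6 D83734) D83732
def n175337 : Q := act 0 n83733
theorem D175337 : act 0 n83733 = n175337 := rfl
def n175338 : Q := act 1 n83733
theorem D175338 : act 1 n83733 = n175338 := rfl
def n175339 : Q := act 4 n83733
theorem D175339 : act 4 n83733 = n175339 := rfl
def n175340 : Q := act 6 n83733
theorem D175340 : act 6 n83733 = n175340 := rfl
theorem F274387 : act 3 n175340 = n83738 := d7_1 D175340 (iv6 D83738) (iv3 F128788)
def n175341 : Q := act 0 n83734
theorem D175341 : act 0 n83734 = n175341 := rfl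
def n175342 : Q := act 1 n83734
theorem D175342 : act 1 n83734 = n175342 := rfl
def n175343 : Q := act 5 n83734
theorem D175343 : act 5 n83734 = n175343 := rfl
theorem F274388 : act 3 n175343 = n83741 := d6_1 D175343 (iv5 D83741) (iv3 F128789)
def n175344 : Q := act 7 n83734
theorem D175344 : act 7 n83734 = n175344 := rfl
theorem F274389 : act 3 n175344 = n83742 := d8_1 D175344 (iv7 D83742) (iv3 F128789)
def n175345 : Q := act 4 n83735
theorem D175345 : act 4 n83735 = n175345 := rfl
theorem F274390 : act 0 n175345 = n85096 := d18_2 (iv1 F274350) D175345 (iv4 D85096) F110345 (iv4 F243978) F274175 F274174 F274159 (iv5 F274348)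
theorem F274391 : act 1 n175345 = n85093 := d18_6 (iv1 F29923) (iv4 F59391) (iv1 F59393) D38589 D83735 D175345 (iv4 D85093) (iv0 D39347) (iv5 D18656)
theorem F274392 : act 5 n85203 = n175345 := d17_7 (iv1 F60317) (iv5 D18661) (iv1 D8758) D8759 D18665 D39385 D85203 F274391 (iv4 D85093)
theorem F274393 : act 4 n175319 = n85203 := d16_2 D83721 D175319 F274392 (iv4 D175345) (iv5 D83735) (iv4 D38589) D38590 (iv7 F201099) F201098
def n175346 : Q := act 6 n83735
theorem D175346 : act 6 n83735 = n175346 := rfl
theorem F274394 : act 0 n152831 = n175346 := d21_4 (iv5 D107914) D107913 F166757 D152831 (iv6 D175346) (iv5 D83735) (iv1 F155114) D118079 F185525 (iv1 F166766)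
def n175347 : Q := act 0 n83736
theorem D175347 : act 0 n83736 = n175347 := rfl
def n175348 : Q := act 3 n83737
theorem D175348 : act 3 n83737 = n175348 := rfl
def n175349 : Q := act 5 n83737
theorem D175349 : act 5 n83737 = n175349 := rfl
theorem F274395 : act 4 n175349 = n85202 := d9_1 D175349 (iv5 F274351) (iv4 D175308) (iv5 D83716) (iv4 D38584) D38585 D83721 D175319 F274393 F274392 (iv4 D175345) (iv5 D83735) (iv4 D38589) D38590 D83737
def n175350 : Q := act 6 n83737
theorem D175350 : act 6 n83737 = n175350 := rfl
theorem F274396 : act 4 n175350 = n83738 := d10_1 D175350 (iv6 D83738) D83737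
def n175351 : Q := act 0 n83738
theorem D175351 : act 0 n83738 = n175351 := rfl
def n175352 : Q := act 1 n83738
theorem D175352 : act 1 n83738 = n175352 := rfl
def n175353 : Q := act 5 n83738
theorem D175353 : act 5 n83738 = n175353 := rfl
theorem F274397 : act 6 n175353 = n83741 := d12_2 D83738 D175353 (iv5 D83741) (iv6 D38591) D38590
def n175354 : Q := act 7 n83738
theorem D175354 : act 7 n83738 = n175354 := rfl
def n175355 : Q := act 1 n83741
theorem D175355 : act 1 n83741 = n175355 := rfl
theorem F274398 : act 7 n175355 = n119239 := d15_2 (iv0 F188505) D175355 F187675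
theorem F274399 : act 5 n118910 = n175355 := d21_0 (iv1 D175355) (iv5 D83741) (iv6 D38591) (iv1 D18376) (iv6 D8654) D8653 D18371 (iv5 F42850) D55307 F188320
theorem F274400 : act 2 n175355 = n118913 := d2_1 F274399 (iv5 D118913) (iv2 F186966)
theorem F274401 : act 3 n175355 = n172559 := d6_1 F274399 (iv5 D172559) F186969
theorem F274402 : act 1 n175355 = n152924 := d15_0 (iv0 D152924) (iv7 F186975) (iv2 F274400)
theorem F274403 : act 7 n152924 = n175157 := d15_2 D175355 F274402 F274166
theorem F274404 : act 5 n152924 = n175080 := d17_7 F130162 F130478 (iv1 F130476) (iv5 F130470) D118910 F274399 F274402 F274053 F201139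
def n175356 : Q := act 4 n83741
theorem D175356 : act 4 n83741 = n175356 := rfl
def n175357 : Q := act 7 n83741
theorem D175357 : act 7 n83741 = n175357 := rfl
theorem F274405 : act 2 n175357 = n152924 := d4_1 D175357 F274403 F274166
theorem F274406 : act 5 n175357 = n83742 := d13_1 D175357 (iv7 D83742) D83741
theorem F274407 : act 1 n118913 = n175357 := d15_1 (iv0 F274168) (iv7 D175357) (iv2 F274166)
theorem F274408 : act 1 n175357 = n119239 := d15_1 F274407 (iv7 F274398) F274400
def n175358 : Q := act 0 n83744
theorem D175358 : act 0 n83744 = n175358 := rfl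
def n175359 : Q := act 1 n83744
theorem D175359 : act 1 n83744 = n175359 := rfl
def n175360 : Q := act 2 n83744
theorem D175360 : act 2 n83744 = n175360 := rfl
def n175361 : Q := act 4 n83744
theorem D175361 : act 4 n83744 = n175361 := rfl
def n175362 : Q := act 5 n83744
theorem D175362 : act 5 n83744 = n175362 := rfl
theorem F274409 : act 3 n175362 = n83746 := d6_1 D175362 (iv5 D83746) D83744
def n175363 : Q := act 6 n83744
theorem D175363 : act 6 n83744 = n175363 := rfl
theorem F274410 : act 3 n175363 = n83747 := d7_1 D175363 (iv6 D83747) D83744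
def n175364 : Q := act 0 n83745
theorem D175364 : act 0 n83745 = n175364 := rfl
theorem F274411 : act 1 n83750 = n175364 := d15_0 (iv0 D175364) (iv7 F274179) F274178
def n175365 : Q := act 1 n83745
theorem D175365 : act 1 n83745 = n175365 := rfl
theorem F274412 : act 1 n175365 = n83750 := d15_1 D175365 (iv7 F274171) F274170
theorem F274413 : act 4 n119334 = n175365 := d18_5 (iv1 F59393) D38589 (iv1 F155114) (iv4 F86866) D119334 F274412 (iv4 D83750) F128715 F128713
def n175366 : Q := act 3 n83745
theorem D175366 : act 3 n83745 = n175366 := rfl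
def n175367 : Q := act 5 n83745
theorem D175367 : act 5 n83745 = n175367 := rfl
theorem F274414 : act 4 n175367 = n85195 := d16_2 D83745 D175367 (iv5 D85195) D85194 (iv5 F274151) F274150 (iv5 D83751) (iv7 F234235) F234234
def n175368 : Q := act 6 n83745
theorem D175368 : act 6 n83745 = n175368 := rfl
theorem F274415 : act 4 n175368 = n83747 := d10_1 D175368 (iv6 D83747) D83745
def n175369 : Q := act 0 n83746
theorem D175369 : act 0 n83746 = n175369 := rfl
theorem F274416 : act 2 n155162 = n175369 := d15_3 (iv0 D175369) F186553 (iv7 F243979)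
theorem F274417 : act 1 n83751 = n175369 := d15_0 (iv0 D175369) F234233 F234230
theorem F274419 : act 4 n175369 = n85165 := d17_9 F130507 (iv5 D39380) (iv1 D18664) (iv5 D8759) (iv4 F13559) D18377 D38593 D83751 F274417
theorem F274420 : act 6 n155075 = n175369 := d21_9 (iv5 D83751) (iv1 D38593) (iv5 D18377) (iv6 D8654) D8650 D18364 D38555 D83620 (iv5 F243882) (iv1 F274417)
theorem F274421 : act 5 n175146 = n175369 := d17_3 (iv1 F59388) D83658 (iv1 F274130) F274419 F130499 F130168 (iv5 D39322) F29918 (iv4 F29552)
theorem E24538 : n150236 = n150085 := ((c20_7 F274157 D175369 F274419 (iv3 F200521) (iv1 F200518) (iv3 F200536) (iv4 F236181) (iv1 D150236) F107179 (iv3 F107178) D150226)).symm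
theorem F274422 : act 0 n150085 = n70717 := (sb E24538 (iv1 D150236))
def n175370 : Q := act 6 n83746
theorem D175370 : act 6 n83746 = n175370 := rfl
theorem F274423 : act 0 n175370 = n175119 := d21_4 D18377 D38592 D83746 D175370 F274103 F274399 (iv1 D175355) (iv5 D83741) (iv6 D38591) (iv1 D18376)
theorem F274424 : act 0 n155007 = n175370 := d21_4 D54986 (iv1 F188486) (iv5 F233265) (iv6 F243739) (iv6 D175370) (iv5 D83746) (iv1 F128716) F128713 (iv6 F86843) (iv1 F86845)
def n175371 : Q := act 0 n83747
theorem D175371 : act 0 n83747 = n175371 := rfl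
def n175372 : Q := act 1 n83747
theorem D175372 : act 1 n83747 = n175372 := rfl
def n175373 : Q := act 5 n83747
theorem D175373 : act 5 n83747 = n175373 := rfl
def n175374 : Q := act 7 n83747
theorem D175374 : act 7 n83747 = n175374 := rfl
def n175375 : Q := act 0 n83749
theorem D175375 : act 0 n83749 = n175375 := rfl
def n175376 : Q := act 1 n83749
theorem D175376 : act 1 n83749 = n175376 := rfl
def n175377 : Q := act 2 n83749
theorem D175377 : act 2 n83749 = n175377 := rfl
def n175378 : Q := act 4 n83749
theorem D175378 : act 4 n83749 = n175378 := rfl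
def n175379 : Q := act 5 n83749
theorem D175379 : act 5 n83749 = n175379 := rfl
theorem F274425 : act 3 n175379 = n83751 := d6_1 D175379 (iv5 D83751) D83749
def n175380 : Q := act 6 n83749
theorem D175380 : act 6 n83749 = n175380 := rfl
theorem F274426 : act 3 n175380 = n83752 := d7_1 D175380 (iv6 D83752) D83749
def n175381 : Q := act 3 n83750
theorem D175381 : act 3 n83750 = n175381 := rfl
def n175382 : Q := act 5 n83750
theorem D175382 : act 5 n83750 = n175382 := rfl
theorem F274427 : act 4 n175382 = n85190 := d9_1 D175382 (iv5 D85190) D85189 (iv5 F274158) F274157 (iv5 D83746) D83745 D175367 F274414 (iv5 D85195) D85194 (iv5 F274151) F274150 (iv5 D83751) D83750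
def n175383 : Q := act 6 n83750
theorem D175383 : act 6 n83750 = n175383 := rfl
theorem F274428 : act 4 n175383 = n83752 := d10_1 D175383 (iv6 D83752) D83750
def n175384 : Q := act 0 n83752
theorem D175384 : act 0 n83752 = n175384 := rfl
def n175385 : Q := act 1 n83752
theorem D175385 : act 1 n83752 = n175385 := rfl
def n175386 : Q := act 5 n83752
theorem D175386 : act 5 n83752 = n175386 := rfl
def n175387 : Q := act 7 n83752
theorem D175387 : act 7 n83752 = n175387 := rfl
def n175388 : Q := act 2 n83753
theorem D175388 : act 2 n83753 = n175388 := rfl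
theorem F274429 : act 7 n83754 = n175388 := d15_2 (iv0 D83753) D83754 (iv2 D175388)
def n175389 : Q := act 3 n83753
theorem D175389 : act 3 n83753 = n175389 := rfl
def n175390 : Q := act 4 n83753
theorem D175390 : act 4 n83753 = n175390 := rfl
theorem F274430 : act 5 n175390 = n85166 := d18_4 (iv1 D38593) D38594 D83753 D175390 (iv4 D85166) F130509 (iv4 F186552) (iv0 F236463) (iv5 D83751)
theorem F274431 : act 1 n175390 = n84903 := d18_8 (iv1 F155154) (iv4 D18655) (iv1 F29923) (iv4 F59391) (iv5 F128713) (iv4 F274186) F274190 D175390 (iv5 D84903)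
theorem F274432 : act 1 n85073 = n175390 := d17_6 (iv1 F274159) F266241 (iv1 F237367) (iv5 D85940) (iv4 F60598) D85073 F274430 F239709 (iv4 F205718)
def n175391 : Q := act 5 n83753
theorem D175391 : act 5 n83753 = n175391 := rfl
theorem F274433 : act 4 n175391 = n85180 := d16_4 D85166 (iv5 F274430) (iv4 D175390) D175391 (iv5 D85180) (iv4 D39379) D39380 (iv7 F186121) F186120
def n175392 : Q := act 6 n83753
theorem D175392 : act 6 n83753 = n175392 := rfl
def n175393 : Q := act 7 n83753
theorem D175393 : act 7 n83753 = n175393 := rfl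
theorem F274434 : act 2 n175393 = n83754 := d4_1 D175393 F274429 (iv2 D175388)
def n175394 : Q := act 3 n83754
theorem D175394 : act 3 n83754 = n175394 := rfl
def n175395 : Q := act 4 n83754
theorem D175395 : act 4 n83754 = n175395 := rfl
theorem F274435 : act 5 n175395 = n85182 := d16_1 D175395 (iv4 D85182) (iv5 D39380) D39379 D85180 (iv4 F274433) (iv5 D175391) D175393 F274434
theorem F274436 : act 1 n175395 = n85073 := d18_8 (iv1 F60313) (iv4 D18660) (iv1 D8758) (iv4 F13559) D18377 D38594 D83754 D175395 (iv5 D85073)
theorem F274437 : act 1 n84903 = n175395 := d15_0 F274436 (iv7 F187921) F187920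
def n175396 : Q := act 5 n83754
theorem D175396 : act 5 n83754 = n175396 := rfl
theorem F274438 : act 4 n175396 = n85162 := d9_1 D175396 (iv5 D85162) (iv4 D39374) D39375 D85166 (iv5 F274430) (iv4 D175390) D175391 F274433 (iv5 D85180) (iv4 D39379) D39380 D85182 (iv5 F274435) (iv4 D175395)
def n175397 : Q := act 6 n83754
theorem D175397 : act 6 n83754 = n175397 := rfl
def n175398 : Q := act 0 n83755
theorem D175398 : act 0 n83755 = n175398 := rfl
def n175399 : Q := act 1 n83755
theorem D175399 : act 1 n83755 = n175399 := rfl
def n175400 : Q := act 2 n83755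
theorem D175400 : act 2 n83755 = n175400 := rfl
theorem F274439 : act 4 n175400 = n83998 := d1_2 (iv4 F128793) D175400 (iv2 D83998)
def n175401 : Q := act 5 n83755
theorem D175401 : act 5 n83755 = n175401 := rfl
theorem F274440 : act 3 n175401 = n83756 := d6_1 D175401 (iv5 D83756) D83755
def n175402 : Q := act 7 n83755
theorem D175402 : act 7 n83755 = n175402 := rfl
theorem F274441 : act 3 n175402 = n83757 := d8_1 D175402 (iv7 D83757) D83755
theorem F274442 : act 4 n175402 = n84000 := d11_1 D175402 (iv7 D84000) (iv4 F128793)
def n175403 : Q := act 0 n83756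
theorem D175403 : act 0 n83756 = n175403 := rfl
theorem F274443 : act 5 n175403 = n85086 := d17_3 (iv1 D83754) D83756 D175403 (iv4 D85086) (iv5 D39344) F155154 D84903 F274437 (iv4 D175395)
theorem F274444 : act 4 n85138 = n175403 := d16_2 D39366 D85138 F274443 (iv4 D85086) (iv5 D39344) (iv4 D18655) D18656 (iv7 F130158) F130157
theorem F274445 : act 1 n85204 = n175403 := d17_6 (iv1 D83720) (iv5 D38585) (iv1 F59394) (iv5 F128713) (iv4 F274186) F274187 F274443 (iv0 F274364) (iv4 D175314)
theorem F274446 : act 0 n85086 = n175311 := d18_0 (iv4 D175311) (iv1 F128783) D83737 D175349 F274395 (iv0 D85202) D85204 F274445 F274443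
def n175404 : Q := act 1 n83756
theorem D175404 : act 1 n83756 = n175404 := rfl
theorem F274447 : act 1 n175404 = n85204 := d15_1 D175404 F274184 F274182
theorem F274448 : act 5 n175404 = n85131 := d17_7 (iv1 F128783) (iv5 D38590) (iv1 D18376) D18377 D38594 D83756 D175404 (iv0 F274357) (iv4 D175311)
theorem F274449 : act 4 n85100 = n175404 := d9_15 F274448 (iv4 D85131) (iv5 D39364) (iv4 D18660) D18661 D39366 D85138 F274444 F274443 (iv4 D85086) (iv5 D39344) (iv4 D18655) D18656 D39349 D85100
def n175405 : Q := act 4 n83756
theorem D175405 : act 4 n83756 = n175405 := rfl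
theorem F274451 : act 5 n175405 = n85048 := d9_2 D83756 D175405 F130406 F60294 (iv4 F59391) (iv5 F128713) (iv4 F274186) F274187 (iv4 D85204) (iv5 D39385) (iv4 D18665) (iv5 D8759) (iv4 F13559) D18377 D38594
theorem F274452 : act 1 n175405 = n85202 := d18_8 F274353 (iv4 D85093) (iv1 F60317) D39366 D85138 F274444 (iv0 D175403) D175405 (iv5 F274351)
theorem F274453 : act 7 n85047 = n175405 := d13_0 F274451 (iv7 D85048) D85047
theorem F274454 : act 1 n85203 = n175405 := d17_6 F274343 (iv5 D175305) (iv1 F128779) D83735 D175345 (iv5 F274392) F274451 F130409 D85189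
theorem F274455 : act 0 n85131 = n175314 := d18_0 (iv4 D175314) (iv1 D83720) D83721 D175319 F274393 F274454 (iv4 D175405) D175404 F274448
theorem F274456 : act 0 n173700 = n85129 := d20_4 D38652 D83920 F128921 D173700 F130465 D85131 F274455 (iv4 D175314) F243982 (iv1 D38651)
def n175406 : Q := act 6 n83756
theorem D175406 : act 6 n83756 = n175406 := rfl
def n175407 : Q := act 7 n83756
theorem D175407 : act 7 n83756 = n175407 := rfl
theorem F274457 : act 2 n175407 = n85204 := d4_1 D175407 F274184 F274182
theorem F274458 : act 4 n175407 = n85047 := d11_1 D175407 F274453 (iv4 D175405)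
theorem F274459 : act 5 n175407 = n83757 := d13_1 D175407 (iv7 D83757) D83756
def n175408 : Q := act 6 n83757
theorem D175408 : act 6 n83757 = n175408 := rfl
theorem F274460 : act 4 n175408 = n83758 := d10_1 D175408 (iv6 D83758) (iv4 F128794)
def n175409 : Q := act 0 n83758
theorem D175409 : act 0 n83758 = n175409 := rfl
def n175410 : Q := act 1 n83758
theorem D175410 : act 1 n83758 = n175410 := rfl
def n175411 : Q := act 5 n83759
theorem D175411 : act 5 n83759 = n175411 := rfl
theorem F274461 : act 2 n175411 = n161574 := d2_1 D175411 (iv5 D161574) (iv2 F128796)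
theorem F274462 : act 3 n175411 = n98887 := d6_1 D175411 (iv5 D98887) (iv3 F128797)
def n175412 : Q := act 5 n83760
theorem D175412 : act 5 n83760 = n175412 := rfl
theorem F274464 : act 3 n175412 = n152247 := d6_1 D175412 (iv5 D152247) F199895
def n175413 : Q := act 6 n83760
theorem D175413 : act 6 n83760 = n175413 := rfl
theorem F274466 : act 2 n175413 = n161584 := d3_1 D175413 (iv6 D161584) (iv2 F198136)
theorem F274467 : act 3 n175413 = n152248 := d7_1 D175413 (iv6 D152248) F199895
theorem F274468 : act 4 n175413 = n123733 := d10_1 D175413 (iv6 D123733) F128807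
theorem F274469 : act 5 n175413 = n161297 := d21_6 F57399 (iv1 D21952) (iv5 F29554) D38597 D83760 D175413 (iv1 D161297) (iv5 D77436) (iv6 D35355) D35353
theorem F274470 : act 2 n161297 = n174797 := d2_1 F274469 (iv5 F273633) (iv2 F274466)
theorem F274471 : act 3 n161297 = n152588 := d6_1 F274469 (iv5 F239774) (iv3 F274467)
theorem F274472 : act 7 n174796 = n161297 := d15_2 F273632 F273639 F274470
theorem F274473 : act 7 n161296 = n174797 := d15_2 F273640 F273641 (iv2 F274470)
theorem F274474 : act 2 n174796 = n161296 := d4_3 F274473 (iv2 F274470) (iv7 F274472)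
theorem F274475 : act 0 n175413 = n121534 := d20_7 (iv4 D57316) F120567 D39626 D85792 F198230 (iv3 F198212) (iv4 F274468) (iv4 F197820) F197819 F121010
def n175414 : Q := act 3 n83761
theorem D175414 : act 3 n83761 = n175414 := rfl
theorem F274476 : act 2 n175414 = n152249 := d0_1 D175414 (iv3 D152249) F200279 F200281 F198137
theorem F274477 : act 7 n175414 = n161582 := d8_2 (iv7 F198138) D175414 (iv3 D161582)
def n175415 : Q := act 4 n83761
theorem D175415 : act 4 n83761 = n175415 := rfl
theorem F274478 : act 2 n175415 = n123688 := d1_1 D175415 F198134 F198137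
theorem F274479 : act 7 n175415 = n123731 := d11_2 (iv7 F198138) D175415 F198210
theorem F274480 : act 1 n123730 = n175415 := d15_1 D123730 F274479 (iv2 D123731)
theorem F274481 : act 3 n123748 = n175415 := d0_0 F274478 (iv3 D123688) F191228 D57682 D123748
theorem F274482 : act 1 n175415 = n123729 := d15_0 (iv0 D123729) (iv7 F198133) (iv2 F274478)
def n175416 : Q := act 5 n83761
theorem D175416 : act 5 n83761 = n175416 := rfl
def n175417 : Q := act 6 n83761
theorem D175417 : act 6 n83761 = n175417 := rfl
def n175418 : Q := act 0 n83762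
theorem D175418 : act 0 n83762 = n175418 := rfl
def n175419 : Q := act 1 n83762
theorem D175419 : act 1 n83762 = n175419 := rfl
theorem F274486 : act 1 n175419 = n161590 := d15_1 D175419 (iv7 D161590) (iv2 F128800)
theorem F274487 : act 5 n167090 = n175419 := d21_6 (iv5 D38489) (iv1 F57404) (iv5 D36542) D36543 D80216 D167090 (iv1 D175419) (iv5 D83762) (iv6 D38597) (iv1 F59337)
def n175420 : Q := act 4 n83762
theorem D175420 : act 4 n83762 = n175420 := rfl
theorem F274488 : act 2 n175420 = n161589 := d1_1 D175420 (iv4 D161589) (iv2 F128800)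
theorem F274489 : act 6 n175420 = n98245 := d10_2 (iv6 F128802) D175420 (iv4 D98245)
def n175421 : Q := act 7 n83762
theorem D175421 : act 7 n83762 = n175421 := rfl
theorem F274491 : act 3 n175421 = n83777 := d8_1 D175421 (iv7 D83777) (iv3 F128801)
def n175423 : Q := act 1 n83765
theorem D175423 : act 1 n83765 = n175423 := rfl
theorem F274497 : act 3 n84124 = n175423 := d20_3 (iv4 D173511) D173508 F272291 (iv1 D175423) (iv3 D83765) F155152 (iv1 F64267) (iv4 F113299) (iv3 F249448) F271965
theorem F274498 : act 4 n175423 = n165085 := d5_2 F272291 F274497 F274331 (iv4 D175291) (iv3 F272292)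
def n175424 : Q := act 4 n83765
theorem D175424 : act 4 n83765 = n175424 := rfl
theorem F274499 : act 3 n175424 = n98090 := d5_1 D175424 (iv4 D98090) F155151 (iv4 F155152) D83765
def n175425 : Q := act 5 n83765
theorem D175425 : act 5 n83765 = n175425 := rfl
theorem F274500 : act 3 n175425 = n83767 := d6_1 D175425 (iv5 D83767) D83765
def n175426 : Q := act 6 n83765
theorem D175426 : act 6 n83765 = n175426 := rfl
def n175427 : Q := act 0 n83767
theorem D175427 : act 0 n83767 = n175427 := rfl
theorem F274502 : act 5 n175427 = n158561 := d21_2 D83767 D175427 (iv6 D158561) (iv1 D75630) (iv6 D34589) F27540 (iv1 F12384) F13570 D18380 D38598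
theorem F274503 : act 1 n83772 = n175427 := d15_0 (iv0 D175427) (iv7 F249605) F249604
theorem F274504 : act 4 n98326 = n158561 := d17_4 D22139 D46295 D98948 F152491 (iv5 F274502) (iv0 D175427) (iv5 D83767) (iv0 D38598) F29555
theorem E24539 : n158559 = n46003 := (c10_4 D98326 F274504 (iv6 D158561) D158559)
theorem E24540 : n98324 = n75630 := ((D98324).symm.trans (sb E24539 (iv4 D158559)))
theorem F274505 : act 4 n75630 = n46003 := (sb E24540 (iv4 D98324))
theorem F274507 : act 4 n98317 = n158553 := d11_3 (iv7 F249746) F274505 F151735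
theorem E24541 : n158555 = n46002 := (c1_3 F274507 (iv2 D158553) D158555 D98317)
theorem E24542 : n98319 = n75629 := ((D98319).symm.trans (sb E24541 (iv4 D158555)))
theorem F274508 : act 4 n75629 = n46002 := (sb E24542 (iv4 D98319))
theorem F274509 : act 4 n98321 = n101675 := d10_3 (iv6 F156578) F274508 D98321
theorem F274510 : act 5 n98328 = n173555 := d17_3 (iv1 F73851) (iv5 F154012) (iv1 F154014) F271986 F249750 F249749 F136989 F113473 F274508
theorem E24543 : n88944 = n83020 := (c21_5 (iv5 D10603) D10601 (iv5 F31306) D41531 D88944 D173555 (iv5 F274510) (iv1 D98328) (iv5 D46004) (iv6 D21979) (iv1 F17116))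
theorem E24544 : n173551 = n46056 := ((D173551).symm.trans (sb E24543 (iv1 F136523)))
theorem E24546 : n88945 = n83025 := (((iv1 F136517)).symm.trans (sb E24544 (iv1 F271989)))
theorem F274513 : act 0 n83025 = n41531 := (sb E24546 (iv1 D88945))
theorem F274514 : act 1 n83025 = n46056 := (sb E24546 F136517)
theorem F274515 : act 1 n172416 = n173587 := d18_6 (iv1 F59068) D83025 F274513 F64077 D82556 D172416 (iv4 D173587) F127940 F59438
theorem F274516 : act 1 n173582 = n172416 := d15_0 F274515 (iv7 F273753) (iv2 F273754)
theorem E24547 : n101873 = n98502 := (c18_4 (iv1 F73576) (iv4 F153536) (iv1 F153538) D101873 (iv5 F151902) F274509 (iv0 F273767) F273765 (iv0 F156337) (iv5 D47331))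
theorem F274517 : act 4 n98502 = n47339 := (sb E24547 (iv4 D101873))
theorem F274518 : act 1 n158561 = n173369 := d17_8 (iv1 F156369) (iv5 F156361) (iv1 F156417) (iv5 D47249) (iv4 F155153) D83772 F274503 F274502 F271826
def n175428 : Q := act 1 n83767
theorem D175428 : act 1 n83767 = n175428 := rfl
theorem F274519 : act 1 n175428 = n83772 := d15_1 D175428 (iv7 F249599) F249598
def n175429 : Q := act 4 n83767
theorem D175429 : act 4 n83767 = n175429 := rfl
def n175430 : Q := act 6 n83767
theorem D175430 : act 6 n83767 = n175430 := rfl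
def n175431 : Q := act 1 n83768
theorem D175431 : act 1 n83768 = n175431 := rfl
theorem F274520 : act 1 n175431 = n83853 := d15_1 D175431 (iv7 F262990) F249600
theorem F274521 : act 7 n175431 = n83841 := d15_2 (iv0 F262974) D175431 F128867
theorem F274522 : act 4 n175431 = n98954 := d17_9 (iv1 D98954) D98955 F152496 (iv5 D46464) (iv4 F57350) D80169 D167004 (iv5 F262979) D175431
theorem F274523 : act 2 n83856 = n175431 := d4_3 F274521 F128867 D83856
theorem F274524 : act 6 n83840 = n175431 := d14_5 F274521 (iv6 D83841) (iv7 D38618) D38617 D83840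
theorem F274525 : act 5 n158562 = n83840 := d21_2 D75631 D158562 F274524 (iv1 D175431) (iv6 D83768) D83767 D175427 F274502 (iv6 D158561) (iv1 D75630)
theorem F274527 : act 0 n158387 = n83840 := d21_10 (iv5 F274525) (iv1 F249748) F136989 (iv6 F112948) (iv1 F112950) D75623 D158535 (iv1 F249717) (iv5 D158386) D158387
theorem F274528 : act 5 n175431 = n174858 := d21_6 D158535 (iv1 F249717) (iv5 D158386) D158387 F274527 F274524 (iv1 D174858) (iv5 D83527) D83528 (iv1 F273747)
theorem F274529 : act 2 n173564 = n83840 := d15_3 (iv0 F274527) F272002 D173564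
theorem F274530 : act 1 n173563 = n83840 := d15_0 (iv0 F274527) (iv7 F273896) F273895
theorem E24548 : n83818 = n83022 := (c15_4 D173563 F274530 (iv7 D83840) (iv2 F128852))
theorem E24549 : n173543 = n38617 := (((iv2 F271981)).symm.trans (sb E24548 F128852))
theorem E24550 : n38613 = n38207 := ((((iv6 D83022)).symm.trans (sb E24548 (iv6 D83818)))).symm
theorem E24551 : n83018 = n18384 := ((((iv6 D38617)).symm.trans (sb E24549 (iv6 D173543)))).symm
theorem E24554 : n83815 = n83019 := (((D83019).symm.trans (sb E24550 D83815))).symm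
theorem E24555 : n83816 = n83020 := (((D83020).symm.trans (sb E24550 D83816))).symm
theorem E24556 : n83817 = n83021 := (((D83021).symm.trans (sb E24550 D83817))).symm
theorem E24557 : n83023 = n18385 := ((D83023).symm.trans (sb E24550 (iv7 F59435)))
theorem F274532 : act 2 n18384 = n38207 := (sb E24551 (iv2 D83018))
theorem E24561 : n173541 = n38615 := (((D38615).symm.trans (sb E24551 D173541))).symm
theorem E24562 : n173542 = n38616 := (((D38616).symm.trans (sb E24551 D173542))).symm
theorem E24563 : n38618 = n38208 := ((D38618).symm.trans (sb E24551 (iv7 F127938)))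
theorem E24564 : n173550 = n38619 := ((D173550).symm.trans (sb E24554 F128847))
theorem E24565 : n173556 = n38620 := ((D173556).symm.trans (sb E24555 F128849))
theorem E24566 : n173561 = n38621 := ((D173561).symm.trans (sb E24556 F128851))
theorem F274533 : act 7 n18385 = n38207 := (sb E24557 (iv7 D83023))
theorem E24569 : n83831 = n83025 := ((D83831).symm.trans (sb E24561 F271978))
theorem F274535 : act 2 n38616 = n83021 := (sb E24562 F271979)
theorem E24570 : n83836 = n83026 := ((D83836).symm.trans (sb E24562 F271980))
theorem F274536 : act 2 n38208 = n18385 := (sb E24563 F59436)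
theorem E24571 : n83841 = n83027 := (((D83027).symm.trans (sb E24563 D83841))).symm
theorem F274537 : act 7 n38208 = n18384 := (sb E24563 (iv7 D38618))
theorem F274538 : act 7 n38619 = n83019 := (sb E24564 (iv7 D173550))
theorem F274539 : act 7 n38620 = n83020 := (sb E24565 (iv7 D173556))
theorem F274540 : act 7 n38621 = n83021 := (sb E24566 (iv7 D173561))
theorem F274542 : act 2 n83025 = n38620 := (sb E24569 F128858)
theorem F274543 : act 7 n83025 = n38615 := (sb E24569 (iv7 D83831))
theorem F274544 : act 2 n83026 = n38621 := (sb E24570 F128863)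
theorem F274545 : act 7 n83026 = n38616 := (sb E24570 (iv7 D83836))
theorem F274546 : act 2 n83027 = n38622 := (sb E24571 F128867)
theorem E24572 : n175431 = n173579 := (((D173579).symm.trans (sb E24571 (iv7 F274521)))).symm
theorem F274548 : act 1 n173579 = n83853 := (sb E24572 F274520)
theorem F274549 : act 2 n173579 = n83856 := (sb E24572 (iv2 F274523))
theorem F274550 : act 4 n173579 = n98954 := (sb E24572 F274522)
theorem F274551 : act 5 n173579 = n174858 := (sb E24572 F274528)
theorem F274552 : act 6 n173579 = n83840 := (sb E24572 (iv6 F274524))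
theorem F274553 : act 6 n173564 = n83856 := d3_2 F274552 (iv2 F274529) (iv2 F274549)
theorem F274554 : act 7 n174858 = n173578 := d13_2 D173579 F274551 (iv5 D173578)
theorem F274555 : act 5 n100479 = n98954 := d17_3 (iv1 F73370) D46888 (iv1 F154543) (iv4 F274550) F274551 F273719 (iv5 D83532) F123113 F123110
theorem F274556 : act 2 n173578 = n83855 := d15_3 (iv0 F128871) D174858 F274554
theorem F274557 : act 7 n98954 = n173574 := d11_2 D173579 F274550 F272006
theorem F274558 : act 2 n173574 = n98953 := d15_3 (iv0 D98953) D98954 F274557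
theorem E24573 : n98953 = n83850 := (c1_2 (iv4 F272006) F274558 F128870 (iv2 F274546))
theorem F274559 : act 1 n83850 = n46296 := (sb E24573 (iv0 D98953))
theorem F274560 : act 2 n83850 = n173574 := (sb E24573 (iv2 F274558))
theorem F274561 : act 1 n83856 = n173577 := d15_0 (iv0 D173577) D173579 F274549
theorem F274562 : act 1 n158419 = n83856 := d15_0 F274561 (iv7 F272011) (iv2 F249600)
theorem F274563 : act 5 n89276 = n173564 := d21_8 F249602 (iv1 D83535) (iv5 D38505) (iv6 D18348) (iv1 F14427) D19630 D41708 D89276 F274553 (iv1 F274562)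
theorem F274566 : act 4 n173564 = n98545 := d17_4 (iv1 D41707) D41708 D89276 F274563 F154015 (iv0 D100077) (iv5 D46725) D46724 (iv4 F249742)
theorem F274567 : act 1 n173564 = n83787 := d17_8 F156320 (iv5 D89325) (iv1 F136219) F136216 (iv4 F113469) D158552 F249745 F274563 F184687
theorem F274568 : act 1 n83838 = n173564 := d15_0 F274567 (iv7 F272001) (iv2 F273895)
theorem F274569 : act 7 n98545 = n173555 := d11_2 D173564 F274566 F271986
theorem F274570 : act 7 n98328 = n100077 := d13_2 F274569 (iv5 F274510) (iv5 F154015)
theorem F274571 : act 2 n100077 = n98327 := d15_3 (iv0 D98327) D98328 F274570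
theorem F274572 : act 2 n98328 = n100078 := d15_3 F154007 F154013 (iv7 F274570)
theorem F274573 : act 2 n83830 = n173555 := d2_3 (iv5 F274510) F274572 (iv5 F154542)
theorem F274574 : act 7 n100078 = n98327 := d4_2 (iv7 F274570) F274572 (iv2 F274571)
theorem F274577 : act 7 n83834 = n173575 := d11_2 F274545 D83834 (iv4 D173575)
theorem F274578 : act 2 n83851 = n173575 := d1_3 (iv4 D173575) F274544 D83851
theorem F274579 : act 2 n83852 = n173576 := d3_3 (iv6 D173576) F274544 D83852
theorem F274580 : act 7 n83828 = n173572 := d8_2 F274543 D83828 (iv3 D173572)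
theorem F274581 : act 7 n83829 = n173573 := d13_2 F274543 D83829 (iv5 D173573)
theorem F274582 : act 2 n83849 = n173573 := d2_3 (iv5 D173573) F274542 D83849
theorem F274583 : act 1 n83849 = n100122 := d15_0 (iv0 F154541) F274581 (iv2 F274582)
theorem E24574 : n100121 = n100050 := (c17_9 (iv1 F272022) (iv5 F128861) (iv1 F128865) (iv5 D38621) D38620 D83849 F274583 (iv5 D100122) D100121 F249127)
theorem F274584 : act 0 n100050 = n46736 := (sb E24574 (iv1 D100121))
theorem F274591 : act 7 n173548 = n83846 := d8_2 F274540 (iv3 F271982) F128868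
theorem F274592 : act 7 n173559 = n83851 := d11_2 F274540 D173559 (iv4 D83851)
theorem F274593 : act 2 n83834 = n173559 := d4_3 F274592 F274578 (iv7 F274577)
theorem F274595 : act 7 n173554 = n83849 := d13_2 F274539 D173554 (iv5 D83849)
theorem F274596 : act 2 n83829 = n173554 := d4_3 F274595 F274582 (iv7 F274581)
theorem F274605 : act 2 n173560 = n83835 := d3_3 (iv6 D83835) F274535 D173560
def n175432 : Q := act 4 n83772
theorem D175432 : act 4 n83772 = n175432 := rfl
def n175433 : Q := act 6 n83772
theorem D175433 : act 6 n83772 = n175433 := rfl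
def n175434 : Q := act 5 n83773
theorem D175434 : act 5 n83773 = n175434 := rfl
theorem F274606 : act 2 n175434 = n158516 := d2_1 D175434 F249703 F249606
theorem F274607 : act 1 n175434 = n158170 := d17_6 D41725 D89341 F156485 (iv5 D101575) F155181 D175434 (iv5 D158170) (iv0 D75328) F54719
theorem F274608 : act 0 n175434 = n158174 := d21_7 F273758 (iv1 F249562) F128822 (iv6 F113414) (iv1 F113416) D83773 D175434 (iv5 D158174) D158175 (iv1 F273760)
theorem F274609 : act 7 n158517 = n175434 := d15_2 (iv0 D158516) D158517 F274606
def n175435 : Q := act 7 n83773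
theorem D175435 : act 7 n83773 = n175435 := rfl
theorem F274610 : act 2 n175435 = n101649 := d4_1 D175435 F249608 F249606
theorem F274611 : act 4 n175435 = n99706 := d11_1 D175435 F156671 F155181
theorem F274612 : act 5 n175435 = n158517 := d13_1 D175435 F274609 (iv5 D175434)
theorem F274613 : act 6 n175435 = n83853 := d14_1 D175435 (iv7 F262990) (iv6 D158419) F156431 D83773
theorem F274614 : act 0 n175435 = n83878 := d21_10 F249118 (iv1 D158177) (iv5 D75330) (iv6 D34487) (iv1 F28670) D36514 D80169 D167003 (iv5 F262989) (iv6 F274613)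
theorem F274615 : act 1 n158422 = n83878 := d15_0 (iv0 F274614) (iv7 D175435) (iv2 F249606)
def n175436 : Q := act 3 n83774
theorem D175436 : act 3 n83774 = n175436 := rfl
def n175437 : Q := act 4 n83774
theorem D175437 : act 4 n83774 = n175437 := rfl
def n175438 : Q := act 5 n83774
theorem D175438 : act 5 n83774 = n175438 := rfl
theorem F274616 : act 2 n175438 = n174985 := d2_1 D175438 F273865 (iv2 F271831)
theorem F274617 : act 7 n175438 = n173369 := d13_2 (iv7 F271829) D175438 F271827
theorem F274618 : act 4 n175438 = n89318 := d17_4 (iv1 D38599) D38600 D83774 D175438 F137015 (iv0 D47251) (iv5 D22724) D22723 (iv4 F155153)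
theorem E24575 : n175437 = n172459 := ((c18_3 (iv1 D82569) D82570 D172459 (iv4 D175437) D175438 F274618 (iv0 D89318) (iv4 F137014) F273365 F128507)).symm
theorem F274619 : act 4 n172459 = n83774 := (sb E24575 (iv4 D175437))
theorem F274620 : act 6 n175438 = n174994 := d21_3 D38600 D83774 D175438 (iv1 F273880) (iv6 F128874) D158170 (iv1 F274607) (iv5 D175434) (iv6 D83773) (iv1 D38599)
theorem F274621 : act 0 n175438 = n174984 := d21_4 D83026 (iv1 F271993) (iv5 F273879) (iv6 F274620) (iv6 F273863) (iv5 D101670) (iv1 F128881) (iv5 D83873) (iv6 D38627) (iv1 F59068)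
theorem F274622 : act 1 n174985 = n158561 := d15_0 F274518 (iv7 F274617) F274616
theorem F274623 : act 1 n175438 = n174983 := d15_0 (iv0 D174983) D174985 (iv2 F274616)
theorem F274624 : act 4 n174983 = n100105 := d17_9 (iv1 F154045) (iv5 D98976) (iv1 F131708) (iv5 D85842) (iv4 F113413) (iv5 F249615) F249618 D175438 F274623
theorem E24576 : n101579 = n98982 := ((c18_3 (iv1 D46303) D46304 D98982 (iv4 D101579) (iv5 F137015) (iv4 F274618) F274623 F274624 (iv0 D100105) F73853)).symm
theorem F274625 : act 4 n98982 = n47251 := (sb E24576 (iv4 D101579))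
def n175439 : Q := act 6 n83774
theorem D175439 : act 6 n83774 = n175439 := rfl
theorem F274626 : act 5 n175439 = n83958 := d12_1 D175439 (iv6 F273885) (iv5 F273879) (iv6 F274620) (iv5 D175438)
def n175440 : Q := act 6 n83775
theorem D175440 : act 6 n83775 = n175440 := rfl
theorem F274627 : act 5 n175440 = n174982 := d12_1 D175440 (iv6 D174982) (iv5 D83571) D83572 F128813
def n175441 : Q := act 0 n83776
theorem D175441 : act 0 n83776 = n175441 := rfl
def n175442 : Q := act 1 n83776
theorem D175442 : act 1 n83776 = n175442 := rfl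
theorem F274628 : act 4 n175442 = n158332 := d18_7 F155167 (iv4 D46299) (iv1 D22140) (iv4 F29555) D38600 D83776 D175442 F249454 F127193
def n175443 : Q := act 3 n83776
theorem D175443 : act 3 n83776 = n175443 := rfl
theorem F274629 : act 6 n175443 = n98253 := d7_2 (iv6 F128814) D175443 (iv3 D98253)
def n175444 : Q := act 5 n83776
theorem D175444 : act 5 n83776 = n175444 := rfl
def n175445 : Q := act 7 n83776
theorem D175445 : act 7 n83776 = n175445 := rfl
theorem F274630 : act 4 n175445 = n83777 := d11_1 D175445 (iv7 D83777) D83776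
theorem F274631 : act 1 n172457 = n175445 := d15_1 (iv0 F270668) (iv7 D175445) (iv2 F249611)
theorem F274632 : act 0 n172452 = n175445 := d18_2 D82568 D172452 F274630 F128815 F59418 F64083 F155435 (iv0 D37899) D37901
def n175446 : Q := act 6 n83777
theorem D175446 : act 6 n83777 = n175446 := rfl
theorem F274633 : act 7 n175446 = n98256 := d14_2 D83777 D175446 (iv6 D98256) (iv7 D45930) (iv6 F59417)
def n175447 : Q := act 0 n83781
theorem D175447 : act 0 n83781 = n175447 := rfl
theorem F274634 : act 5 n175447 = n158175 := d21_2 D83781 D175447 (iv6 D158175) (iv1 D75329) (iv6 D34487) (iv5 D16732) F12360 (iv5 F13561) D18381 D38602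
theorem F274635 : act 1 n83786 = n175447 := d15_0 (iv0 D175447) (iv7 F249554) F249553
theorem F274636 : act 4 n98362 = n158175 := d17_4 D22004 D46067 D98524 F151921 (iv5 F274634) (iv0 D175447) (iv5 D83781) (iv0 D38602) F29557
theorem F274637 : act 2 n100055 = n98362 := d1_3 F274636 F273745 (iv4 F249130)
theorem E24577 : n100051 = n46017 := (c10_4 D98362 F274636 (iv6 D158175) (iv4 F273741))
theorem E24578 : n98358 = n46718 := (((iv2 F151785)).symm.trans (sb E24577 F153979))
theorem E24579 : n98360 = n75329 := ((D98360).symm.trans (sb E24577 F273741))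
theorem E24580 : n98353 = n46717 := ((F151784).symm.trans (sb E24577 (iv7 D100051)))
theorem F274638 : act 2 n46718 = n46017 := (sb E24578 F151785)
theorem E24581 : n100046 = n46016 := ((F153978).symm.trans (sb E24578 (iv7 D98358)))
theorem F274639 : act 4 n75329 = n46017 := (sb E24579 (iv4 D98360))
theorem F274640 : act 7 n46717 = n46017 := (sb E24580 (iv7 F151784))
theorem F274641 : act 2 n46016 = n46717 := (sb E24581 (iv2 D100046))
theorem E24582 : n98355 = n75328 := ((D98355).symm.trans (sb E24581 F273734))
theorem F274642 : act 7 n46016 = n46718 := (sb E24581 (iv7 F153978))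
theorem F274643 : act 4 n75328 = n46016 := (sb E24582 (iv4 D98355))
theorem F274644 : act 7 n100484 = n98362 := d11_0 F274636 (iv7 F273746) F273721
theorem F274645 : act 1 n100485 = n98362 := d17_8 (iv1 F273760) F273758 (iv1 F249562) F128822 F59422 (iv5 F72645) F136729 F272842 F274636
theorem F274646 : act 0 n158390 = n172865 := d18_2 (iv1 D158389) D158390 (iv4 D172865) D172866 (iv4 F272840) F274645 F274636 F273744 F262964
theorem F274647 : act 1 n98362 = n99364 := d15_1 F274645 F272819 (iv2 F154549)
theorem F274648 : act 0 n98971 = n98361 := d21_7 (iv5 F272842) (iv1 F136729) F72645 (iv6 F91587) F91584 D46301 D98971 (iv5 D98361) D98362 (iv1 F274645)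
theorem E24583 : n98970 = n98495 := ((c17_10 (iv1 D98970) D98971 F274648 (iv5 D98361) (iv4 F274639) D158174 (iv0 F274608) (iv5 D175434) F249609 (iv4 F156574))).symm
theorem F274649 : act 0 n98495 = n46301 := (sb E24583 (iv1 D98970))
theorem F274650 : act 4 n98357 = n83865 := d10_3 (iv6 F128874) F274643 D98357
theorem F274651 : act 2 n100050 = n98357 := d1_3 F274650 F273730 (iv4 F249127)
theorem F274652 : act 7 n100052 = n98354 := d8_2 F274642 D100052 (iv3 D98354)
theorem F274653 : act 7 n100054 = n98356 := d13_2 F274642 D100054 (iv5 D98356)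
theorem F274654 : act 2 n100054 = n98361 := d15_3 (iv0 F274648) (iv0 F152502) (iv7 F274653)
theorem F274655 : act 2 n100049 = n98356 := d2_3 (iv5 D98356) F274641 D100049
theorem F274656 : act 7 n98361 = n100049 := d4_0 F274655 (iv7 F274653) F274654
theorem F274657 : act 7 n98359 = n100047 := d8_2 F274640 D98359 (iv3 D100047)
theorem F274658 : act 0 n99496 = n89347 := d17_0 (iv5 F156315) (iv1 F156319) (iv5 D47230) F184686 D83786 F274635 F274634 F273744 F262963
theorem F274659 : act 0 n172269 = n174044 := d18_2 F274658 F271099 F272839 (iv5 D98552) D98551 F272847 (iv4 D89189) D89188 (iv5 F153256)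
theorem F274660 : act 1 n101131 = n89347 := d15_0 (iv0 F274658) (iv7 F156328) F156327
theorem F274661 : act 0 n101575 = n89346 := d21_1 D101575 (iv5 D89346) D89347 (iv1 F274660) F155794 F155836 (iv1 D47304) (iv5 D22737) D22738 (iv1 F156364)
theorem F274662 : act 1 n172268 = n172448 := d17_6 (iv1 F156364) D101575 F274661 (iv5 D89346) (iv4 F271100) D172268 (iv5 D172448) F272689 F74532
theorem F274663 : act 1 n172269 = n100476 := d15_1 (iv0 F274659) F272829 (iv2 F272790)
theorem F274664 : act 2 n158535 = n175447 := d2_3 F274634 F273745 D158535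
def n175448 : Q := act 1 n83781
theorem D175448 : act 1 n83781 = n175448 := rfl
theorem F274665 : act 1 n175448 = n83786 := d15_1 D175448 (iv7 F249548) F249547
theorem F274666 : act 7 n175448 = n158535 := d15_2 (iv0 D175447) D175448 F274664
theorem F274667 : act 5 n158536 = n175448 := d21_6 D101665 (iv1 F271834) (iv5 D83576) D83577 (iv1 F272021) F272026 (iv1 D175448) (iv5 D83781) D83782 F271835
def n175449 : Q := act 4 n83781
theorem D175449 : act 4 n83781 = n175449 := rfl
def n175450 : Q := act 6 n83781
theorem D175450 : act 6 n83781 = n175450 := rfl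
def n175451 : Q := act 1 n83782
theorem D175451 : act 1 n83782 = n175451 := rfl
theorem F274669 : act 7 n175451 = n101651 := d15_2 (iv0 F271835) D175451 F156564
theorem F274670 : act 4 n175451 = n98530 := d17_9 (iv1 D98530) D98531 F151926 (iv5 D46435) (iv4 F59045) D82966 D173373 (iv5 F271843) D175451
theorem F274672 : act 6 n101650 = n175451 := d14_5 F274669 (iv6 D101651) (iv7 D47275) D47274 D101650
theorem E24584 : n158537 = n158176 := ((c21_2 D75330 D158176 F249719 F274672 (iv1 D175451) (iv6 D83782) D83781 D175447 F274634 (iv6 D158175) (iv1 D75329))).symm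
theorem F274673 : act 2 n158176 = n75624 := (sb E24584 (iv2 D158537))
theorem F274674 : act 5 n158176 = n101650 := (sb E24584 F249719)
theorem F274675 : act 7 n158176 = n75625 := (sb E24584 (iv7 F249718))
theorem E24585 : n158542 = n158177 := (c15_4 F249117 F249123 F274675 (iv2 F249728))
theorem E24586 : n101629 = n83878 := ((((iv5 F249118)).symm.trans (sb E24585 F249729))).symm
theorem F274677 : act 7 n158177 = n75624 := (sb E24585 (iv7 D158542))
theorem F274678 : act 2 n83878 = n47274 := (sb E24586 F156549)
theorem E24587 : n47270 = n38628 := ((((iv6 D83878)).symm.trans (sb E24586 (iv6 D101629)))).symm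
theorem F274679 : act 7 n83878 = n158540 := (sb E24586 F249723)
theorem E24588 : n101624 = n22733 := ((((iv1 F59444)).symm.trans (sb E24587 D101624))).symm
theorem E24590 : n83874 = n22730 := ((D83874).symm.trans (sb E24587 (iv2 D47270)))
theorem E24591 : n101626 = n83875 := (((D83875).symm.trans (sb E24587 D101626))).symm
theorem E24592 : n98491 = n83876 := (((D83876).symm.trans (sb E24587 (iv4 F156572)))).symm
theorem E24593 : n101628 = n83877 := (((D83877).symm.trans (sb E24587 D101628))).symm
theorem E24594 : n83879 = n22731 := ((D83879).symm.trans (sb E24587 (iv7 F74517)))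
theorem E24595 : n47275 = n38629 := ((((iv1 F59445)).symm.trans (sb E24588 (iv1 F156542)))).symm
theorem F274680 : act 2 n22730 = n38628 := (sb E24590 (iv2 D83874))
theorem F274681 : act 7 n83875 = n47276 := (sb E24591 F156544)
theorem F274682 : act 2 n83876 = n46060 := (sb E24592 (iv2 D98491))
theorem F274683 : act 7 n83876 = n46061 := (sb E24592 (iv7 F151900))
theorem F274684 : act 2 n83877 = n47273 := (sb E24593 F156547)
theorem F274685 : act 7 n83877 = n47278 := (sb E24593 F156548)
theorem F274686 : act 7 n22731 = n38628 := (sb E24594 (iv7 D83879))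
theorem F274687 : act 2 n38629 = n22731 := (sb E24595 F74518)
theorem E24596 : n101636 = n83880 := (((D83880).symm.trans (sb E24595 (iv3 F156552)))).symm
theorem E24597 : n98496 = n83881 := (((D83881).symm.trans (sb E24595 (iv4 F156570)))).symm
theorem E24598 : n101647 = n83882 := (((D83882).symm.trans (sb E24595 (iv5 F156561)))).symm
theorem E24599 : n101651 = n83883 := (((D83883).symm.trans (sb E24595 D101651))).symm
theorem F274688 : act 7 n38629 = n22730 := (sb E24595 (iv7 D47275))
theorem F274689 : act 7 n83880 = n47271 := (sb E24596 (iv7 D101636))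
theorem F274690 : act 2 n83881 = n46061 := (sb E24597 F151901)
theorem F274691 : act 7 n83881 = n46060 := (sb E24597 (iv7 D98496))
theorem F274692 : act 2 n83882 = n47278 := (sb E24598 F156560)
theorem F274693 : act 7 n83882 = n47273 := (sb E24598 (iv7 D101647))
theorem F274694 : act 0 n83883 = n174997 := (sb E24599 (iv1 F273899))
theorem F274695 : act 1 n83883 = n158385 := (sb E24599 F249727)
theorem F274696 : act 2 n83883 = n47279 := (sb E24599 F156564)
theorem F274697 : act 7 n83883 = n175451 := (sb E24599 (iv7 F274669))
theorem F274698 : act 1 n101650 = n158422 := d15_0 F274615 F274679 F249720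
theorem F274699 : act 1 n175435 = n101650 := d15_0 F274698 (iv7 F249608) (iv2 F274610)
theorem F274700 : act 5 n174980 = n175451 := d21_2 D83576 (iv1 F273861) (iv6 F274672) (iv1 F274699) F274613 F262989 (iv1 F262986) F128631 (iv6 F127872) (iv1 F127874)
theorem F274701 : act 5 n98530 = n100101 := d17_5 (iv1 F127874) D83576 (iv1 F273861) F274700 F274670 F154037 (iv5 D46735) F73294 (iv4 F127871)
def n175452 : Q := act 0 n83784
theorem D175452 : act 0 n83784 = n175452 := rfl
theorem F274702 : act 4 n175452 = n155253 := d20_0 (iv1 D155253) (iv4 F189140) (iv3 D119840) (iv1 F87245) D73933 F184603 (iv1 F64289) F184686 D83784 D175452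
def n175453 : Q := act 1 n83784
theorem D175453 : act 1 n83784 = n175453 := rfl
def n175454 : Q := act 4 n83784
theorem D175454 : act 4 n83784 = n175454 := rfl
theorem F274703 : act 3 n175454 = n101269 := d5_1 D175454 (iv4 D101269) F184688 F184686 D83784
theorem F274704 : act 4 n155252 = n175453 := d20_0 (iv1 D175453) D175454 F274703 F232439 (iv3 F86374) F86375 F232264 D33889 D73765 D155252
def n175455 : Q := act 5 n83784
theorem D175455 : act 5 n83784 = n175455 := rfl
theorem F274706 : act 3 n175455 = n83786 := d6_1 D175455 (iv5 D83786) D83784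
def n175456 : Q := act 6 n83784
theorem D175456 : act 6 n83784 = n175456 := rfl
theorem F274707 : act 3 n175456 = n83787 := d7_1 D175456 (iv6 D83787) D83784
def n175457 : Q := act 4 n83786
theorem D175457 : act 4 n83786 = n175457 := rfl
def n175458 : Q := act 6 n83786
theorem D175458 : act 6 n83786 = n175458 := rfl
def n175459 : Q := act 5 n83787
theorem D175459 : act 5 n83787 = n175459 := rfl
theorem F274709 : act 0 n175459 = n158560 := d21_1 D175459 (iv5 D158560) D158561 (iv1 F274622) F273866 (iv5 F272024) (iv1 D83833) (iv5 D38616) D38617 (iv1 F273897)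
def n175460 : Q := act 3 n83788
theorem D175460 : act 3 n83788 = n175460 := rfl
def n175461 : Q := act 6 n83788
theorem D175461 : act 6 n83788 = n175461 := rfl
def n175462 : Q := act 3 n83789
theorem D175462 : act 3 n83789 = n175462 := rfl
theorem F274710 : act 5 n175462 = n174857 := d6_2 F128819 D175462 F273718
def n175463 : Q := act 6 n83789
theorem D175463 : act 6 n83789 = n175463 := rfl
theorem F274711 : act 5 n175463 = n174860 := d12_1 D175463 (iv6 D174860) (iv5 D83527) D83528 F128819
def n175464 : Q := act 0 n83790
theorem D175464 : act 0 n83790 = n175464 := rfl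
theorem F274712 : act 4 n175464 = n158265 := d18_3 (iv1 D83789) D83790 D175464 F272837 F272839 (iv0 F249712) F249130 F273747 F128819
theorem F274713 : act 2 n172865 = n175464 := d1_3 F274712 F272836 D172865
def n175465 : Q := act 1 n83790
theorem D175465 : act 1 n83790 = n175465 := rfl
theorem F274715 : act 7 n175465 = n172865 := d15_2 (iv0 D175464) D175465 F274713
theorem F274716 : act 4 n175465 = n158266 := d18_7 (iv1 F184671) (iv4 D46071) (iv1 D22005) (iv4 F29557) D38604 D83790 D175465 F249329 F127511
theorem F274717 : act 2 n172870 = n175465 := d1_3 F274716 F272834 D172870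
def n175466 : Q := act 3 n83790
theorem D175466 : act 3 n83790 = n175466 := rfl
theorem F274718 : act 4 n175466 = n161537 := d5_2 D83790 D175466 (iv3 D161537) (iv4 D77559) (iv3 F59419)
theorem F274719 : act 6 n175466 = n98780 := d7_2 (iv6 F128820) D175466 (iv3 D98780)
def n175468 : Q := act 7 n83790
theorem D175468 : act 7 n83790 = n175468 := rfl
theorem F274720 : act 4 n175468 = n83791 := d11_1 D175468 (iv7 D83791) D83790
theorem F274721 : act 1 n172870 = n175468 := d15_1 (iv0 F271133) (iv7 D175468) (iv2 F249558)
theorem F274722 : act 1 n175468 = n172865 := d15_1 F274721 (iv7 F274715) (iv2 F274717)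
theorem E24600 : n172864 = n161658 := ((c20_5 (iv4 F255682) (iv1 D161677) (iv4 D77660) (iv3 F116548) D161658 (iv3 D172864) D172865 (iv1 F274722) F274720 F128821 (iv1 F193748))).symm
theorem F274723 : act 3 n161658 = n82759 := (sb E24600 (iv3 D172864))
def n175469 : Q := act 6 n83791
theorem D175469 : act 6 n83791 = n175469 := rfl
theorem F274725 : act 7 n175469 = n98783 := d14_2 D83791 D175469 (iv6 D98783) (iv7 D46193) (iv6 F59420)
def n175470 : Q := act 6 n83792
theorem D175470 : act 6 n83792 = n175470 := rfl
theorem F274726 : act 2 n175470 = n170696 := d3_1 D175470 (iv6 D170696) (iv2 F128823)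
def n175471 : Q := act 0 n83793
theorem D175471 : act 0 n83793 = n175471 := rfl
def n175473 : Q := act 5 n83793
theorem D175473 : act 5 n83793 = n175473 := rfl
theorem F274730 : act 6 n175473 = n88801 := d12_2 D83793 D175473 (iv5 D88801) (iv6 D41458) (iv5 F72118)
def n175474 : Q := act 7 n83793
theorem D175474 : act 7 n83793 = n175474 := rfl
theorem F274731 : act 2 n175474 = n99602 := d4_1 D175474 (iv7 D99602) (iv2 F128828)
theorem F274732 : act 6 n175474 = n99596 := d14_1 D175474 (iv7 D99596) (iv6 D46550) (iv7 F74229) D83793
theorem F274733 : act 1 n99602 = n175471 := d15_0 (iv0 D175471) D175474 F274731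
def n175475 : Q := act 0 n83794
theorem D175475 : act 0 n83794 = n175475 := rfl
def n175476 : Q := act 1 n83794
theorem D175476 : act 1 n83794 = n175476 := rfl
def n175477 : Q := act 5 n83794
theorem D175477 : act 5 n83794 = n175477 := rfl
theorem F274737 : act 2 n175477 = n99595 := d2_1 D175477 (iv5 D99595) (iv2 F128829)
theorem F274738 : act 6 n175477 = n88808 := d12_2 D83794 D175477 (iv5 D88808) (iv6 D41463) (iv5 F74232)
def n175478 : Q := act 7 n83794
theorem D175478 : act 7 n83794 = n175478 := rfl
theorem F274739 : act 2 n175478 = n99596 := d4_1 D175478 (iv7 D99596) (iv2 F128829)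
theorem F274740 : act 6 n175478 = n99602 := d14_1 D175478 (iv7 D99602) (iv6 D46555) (iv7 F74233) D83794
theorem F274741 : act 1 n99596 = n175475 := d15_0 (iv0 D175475) D175478 F274739
theorem F274742 : act 1 n99594 = n175478 := d15_1 D99594 (iv7 D175478) F128829
theorem F274743 : act 1 n175478 = n99593 := d15_0 (iv0 D99593) D99596 (iv2 F274739)
def n175479 : Q := act 2 n83795
theorem D175479 : act 2 n83795 = n175479 := rfl
theorem F274744 : act 7 n83796 = n175479 := d15_2 (iv0 D83795) D83796 (iv2 D175479)
def n175480 : Q := act 3 n83795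
theorem D175480 : act 3 n83795 = n175480 := rfl
def n175481 : Q := act 4 n83795
theorem D175481 : act 4 n83795 = n175481 := rfl
def n175482 : Q := act 5 n83795
theorem D175482 : act 5 n83795 = n175482 := rfl
def n175483 : Q := act 6 n83795
theorem D175483 : act 6 n83795 = n175483 := rfl
def n175484 : Q := act 7 n83795
theorem D175484 : act 7 n83795 = n175484 := rfl
def n175485 : Q := act 3 n83796
theorem D175485 : act 3 n83796 = n175485 := rfl
def n175486 : Q := act 4 n83796
theorem D175486 : act 4 n83796 = n175486 := rfl
def n175487 : Q := act 5 n83796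
theorem D175487 : act 5 n83796 = n175487 := rfl
def n175488 : Q := act 6 n83796
theorem D175488 : act 6 n83796 = n175488 := rfl
def n175489 : Q := act 0 n83797
theorem D175489 : act 0 n83797 = n175489 := rfl
def n175490 : Q := act 1 n83797
theorem D175490 : act 1 n83797 = n175490 := rfl
def n175491 : Q := act 4 n83797
theorem D175491 : act 4 n83797 = n175491 := rfl
theorem F274746 : act 6 n175491 = n97966 := d10_2 (iv6 F128831) D175491 (iv4 D97966)
def n175492 : Q := act 7 n83797
theorem D175492 : act 7 n83797 = n175492 := rfl
theorem F274747 : act 3 n175492 = n83812 := d8_1 D175492 (iv7 D83812) (iv3 F128830)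
theorem F274748 : act 5 n175492 = n83798 := d13_1 D175492 (iv7 D83798) D83797
def n175495 : Q := act 3 n83799
theorem D175495 : act 3 n83799 = n175495 := rfl
theorem F274751 : act 7 n175495 = n83805 := d8_2 F128834 D175495 (iv3 D83805)
def n175496 : Q := act 5 n83799
theorem D175496 : act 5 n83799 = n175496 := rfl
theorem F274752 : act 2 n175496 = n83802 := d2_1 D175496 (iv5 D83802) D83799
theorem F274753 : act 7 n175496 = n83807 := d13_2 F128834 D175496 (iv5 D83807)
def n175497 : Q := act 6 n83799
theorem D175497 : act 6 n83799 = n175497 := rfl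
theorem F274754 : act 2 n175497 = n83803 := d3_1 D175497 (iv6 D83803) D83799
theorem F274755 : act 5 n89327 = n175497 := d2_0 F274754 F128835 (iv2 F137018)
theorem F274756 : act 7 n175497 = n89325 := d13_2 D89327 F274755 (iv5 D89325)
def n175498 : Q := act 0 n83800
theorem D175498 : act 0 n83800 = n175498 := rfl
def n175500 : Q := act 2 n83800
theorem D175500 : act 2 n83800 = n175500 := rfl
def n175501 : Q := act 4 n83800
theorem D175501 : act 4 n83800 = n175501 := rfl
def n175502 : Q := act 5 n83800
theorem D175502 : act 5 n83800 = n175502 := rfl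
theorem F274757 : act 3 n175502 = n83802 := d6_1 D175502 (iv5 D83802) D83800
def n175504 : Q := act 7 n83800
theorem D175504 : act 7 n83800 = n175504 := rfl
def n175505 : Q := act 1 n83802
theorem D175505 : act 1 n83802 = n175505 := rfl
theorem F274761 : act 1 n175505 = n83807 := d15_1 D175505 (iv7 F274753) F274752
theorem F274762 : act 7 n175505 = n101908 := d15_2 (iv0 F155079) D175505 (iv2 F156854)
theorem F274763 : act 2 n101909 = n175505 := d4_3 F274762 (iv2 F156854) (iv7 F156853)
theorem F274764 : act 1 n83807 = n100950 := d15_1 F274761 (iv7 F156853) F274763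
def n175506 : Q := act 4 n83802
theorem D175506 : act 4 n83802 = n175506 := rfl
def n175507 : Q := act 6 n83802
theorem D175507 : act 6 n83802 = n175507 := rfl
theorem F274765 : act 5 n175507 = n89330 := d12_1 D175507 (iv6 D89330) (iv5 F128835) (iv6 D83803) D83802
def n175508 : Q := act 7 n83802
theorem D175508 : act 7 n83802 = n175508 := rfl
theorem F274766 : act 2 n175508 = n83807 := d4_1 D175508 (iv7 F274753) F274752
def n175509 : Q := act 0 n83803
theorem D175509 : act 0 n83803 = n175509 := rfl
def n175510 : Q := act 1 n83803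
theorem D175510 : act 1 n83803 = n175510 := rfl
theorem F274768 : act 1 n175510 = n89325 := d15_1 D175510 (iv7 F274756) F274754
theorem F274769 : act 4 n175510 = n83838 := d17_9 (iv1 D83838) D83839 F128866 (iv5 D41708) F31403 D19633 D41721 (iv5 F128835) D175510
theorem F274770 : act 6 n99720 = n175510 := d21_3 D22616 D47046 (iv5 F153516) (iv1 D175510) (iv6 D83803) D83802 F155079 (iv5 D100950) (iv6 D47045) (iv1 D22615)
theorem F274772 : act 7 n175510 = n89186 := d14_2 (iv7 F156763) F274770 (iv6 D89186) (iv7 F156750) D47226
theorem E24601 : n101524 = n83803 := (c15_1 D101524 D175510 F274772 F156743)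
theorem E24602 : n175509 = n47231 := ((D175509).symm.trans (sb E24601 (iv1 D101524)))
theorem F274773 : act 1 n47231 = n83803 := (sb E24602 (iv0 D175509))
theorem F274775 : act 4 n89331 = n100077 := d18_3 (iv1 D41721) D41722 D89331 (iv5 F154015) (iv4 F274566) F274567 F184687 F274773 F128835
def n175511 : Q := act 7 n83803
theorem D175511 : act 7 n83803 = n175511 := rfl
theorem F274777 : act 5 n175511 = n89322 := d13_1 D175511 (iv7 F137017) (iv5 F128835)
def n175512 : Q := act 6 n83804
theorem D175512 : act 6 n83804 = n175512 := rfl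
theorem F274778 : act 2 n175512 = n83808 := d3_1 D175512 (iv6 D83808) (iv2 F128836)
theorem F274779 : act 7 n101564 = n175512 := d15_2 (iv0 F156367) D101564 F274778
theorem F274780 : act 6 n175511 = n101564 := d14_5 F274779 (iv6 D175512) (iv7 D83804) D83803 D175511
theorem E24604 : n89322 = n88843 := ((c21_2 D41475 D88843 (iv5 F274777) F274780 (iv1 D101564) (iv6 D47245) D47244 D101559 F156361 (iv6 D88842) (iv1 D41474))).symm
theorem F274781 : act 2 n88843 = n41720 := (sb E24604 (iv2 D89322))
theorem F274782 : act 5 n88843 = n175511 := (sb E24604 (iv5 F274777))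
theorem F274783 : act 7 n88843 = n41721 := (sb E24604 (iv7 F137017))
theorem E24605 : n89327 = n88844 := (c15_4 F136211 F136217 F274783 (iv2 F137018))
theorem F274784 : act 2 n88844 = n41721 := (sb E24605 F137018)
theorem E24606 : n175497 = n47349 := ((((iv5 F136212)).symm.trans (sb E24605 F274755))).symm
theorem F274785 : act 7 n88844 = n41720 := (sb E24605 (iv7 D89327))
theorem E24607 : n101894 = n83803 := (((iv2 F156841)).symm.trans (sb E24606 F274754))
theorem E24608 : n83799 = n22749 := ((((iv6 D47349)).symm.trans (sb E24606 (iv6 D175497)))).symm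
theorem E24609 : n101913 = n89325 := ((D101913).symm.trans (sb E24606 F274756))
theorem F274786 : act 2 n83803 = n47349 := (sb E24607 F156841)
theorem E24610 : n47345 = n38609 := ((((iv6 D83803)).symm.trans (sb E24607 (iv6 D101894)))).symm
theorem E24613 : n175495 = n47346 := (((D47346).symm.trans (sb E24608 D175495))).symm
theorem E24614 : n172404 = n47347 := (((D47347).symm.trans (sb E24608 F272773))).symm
theorem E24615 : n175496 = n47348 := (((D47348).symm.trans (sb E24608 D175496))).symm
theorem E24616 : n47350 = n38610 := ((D47350).symm.trans (sb E24608 (iv7 F128834)))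
theorem F274787 : act 7 n89325 = n47349 := (sb E24609 (iv7 D101913))
theorem F274788 : act 2 n38609 = n22749 := (sb E24610 (iv2 D47345))
theorem E24619 : n101891 = n83800 := (((D83800).symm.trans (sb E24610 D101891))).symm
theorem E24620 : n101892 = n82554 := ((((iv4 F272774)).symm.trans (sb E24610 D101892))).symm
theorem E24621 : n101893 = n83802 := (((D83802).symm.trans (sb E24610 D101893))).symm
theorem E24622 : n83804 = n22750 := ((D83804).symm.trans (sb E24610 (iv7 F74555)))
theorem E24623 : n101901 = n83805 := ((D101901).symm.trans (sb E24613 F274751))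
theorem E24624 : n101907 = n82555 := ((D101907).symm.trans (sb E24614 (iv7 F270638)))
theorem E24625 : n101912 = n83807 := ((D101912).symm.trans (sb E24615 F274753))
theorem F274789 : act 7 n38610 = n22749 := (sb E24616 (iv7 D47350))
theorem E24627 : n175504 = n47351 := ((D175504).symm.trans (sb E24619 F156836))
theorem F274790 : act 2 n82554 = n47347 := (sb E24620 F156837)
theorem E24628 : n172409 = n47352 := ((D172409).symm.trans (sb E24620 F156838))
theorem F274791 : act 2 n83802 = n47348 := (sb E24621 F156839)
theorem E24629 : n175508 = n47353 := ((D175508).symm.trans (sb E24621 F156840))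
theorem F274792 : act 2 n22750 = n38610 := (sb E24622 F128836)
theorem E24630 : n175512 = n47354 := (((D47354).symm.trans (sb E24622 D175512))).symm
theorem F274793 : act 7 n22750 = n38609 := (sb E24622 (iv7 D83804))
theorem F274794 : act 7 n83805 = n47346 := (sb E24623 (iv7 D101901))
theorem F274795 : act 7 n82555 = n47347 := (sb E24624 (iv7 D101907))
theorem F274796 : act 7 n83807 = n47348 := (sb E24625 (iv7 D101912))
theorem F274797 : act 7 n47351 = n83800 := (sb E24627 (iv7 D175504))
theorem F274798 : act 2 n47352 = n82555 := (sb E24628 F270639)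
theorem F274799 : act 7 n47352 = n82554 := (sb E24628 (iv7 D172409))
theorem F274800 : act 2 n47353 = n83807 := (sb E24629 F274766)
theorem F274801 : act 7 n47353 = n83802 := (sb E24629 (iv7 D175508))
theorem F274802 : act 2 n47354 = n83808 := (sb E24630 F274778)
theorem E24631 : n101928 = n101564 := ((D101928).symm.trans (sb E24630 (iv7 F274779)))
theorem F274803 : act 7 n101564 = n47354 := (sb E24631 (iv7 D101928))
theorem F274804 : act 7 n101923 = n172436 := d11_2 F274803 (iv4 F156913) F270659
theorem F274805 : act 2 n101923 = n172435 := d15_3 (iv0 D172435) D172436 (iv7 F274804)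
theorem E24632 : n172435 = n172413 := (c1_2 (iv4 F156913) F274805 (iv4 F272770) (iv2 F274802))
theorem F274806 : act 1 n172413 = n82562 := (sb E24632 (iv0 D172435))
theorem F274807 : act 2 n172413 = n101923 := (sb E24632 (iv2 F274805))
theorem F274808 : act 2 n101124 = n101927 := d2_3 (iv5 D101927) F274802 (iv5 F155785)
theorem F274809 : act 7 n101125 = n101927 := d15_2 (iv0 D101124) D101125 (iv2 F274808)
theorem F274810 : act 5 n101564 = n101125 := d13_3 F274809 (iv5 D101927) (iv7 F274803)
theorem F274811 : act 5 n174038 = n172436 := d17_3 (iv1 F127688) D83211 (iv1 F272783) F270659 F274810 F155786 (iv5 D47110) F73497 (iv4 F127685)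
theorem F274814 : act 7 n175502 = n101919 := d8_2 F274801 (iv3 F274757) F156911
theorem F274815 : act 7 n175506 = n101924 := d11_2 F274801 D175506 (iv4 D101924)
theorem F274816 : act 7 n172405 = n101921 := d8_2 F274799 D172405 (iv3 D101921)
theorem F274817 : act 7 n172407 = n101922 := d13_2 F274799 D172407 (iv5 D101922)
theorem F274818 : act 2 n172412 = n101922 := d2_3 (iv5 D101922) F274798 D172412
theorem F274819 : act 1 n172412 = n174491 := d15_0 (iv0 F273375) F274817 (iv2 F274818)
theorem F274820 : act 4 n174490 = n100949 := d17_9 (iv1 D100949) D100950 (iv1 F274764) (iv5 D83807) (iv4 F272771) D172412 F274819 (iv5 D174491) D174490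
theorem F274821 : act 7 n175500 = n101917 := d4_2 F274797 D175500 (iv2 D101917)
theorem F274822 : act 7 n175501 = n101918 := d11_2 F274797 D175501 (iv4 D101918)
theorem F274823 : act 1 n175500 = n101915 := d15_0 (iv0 D101915) F274797 D175500
theorem F274824 : act 1 n101917 = n175498 := d15_0 (iv0 D175498) (iv7 F274797) D101917
theorem F274825 : act 1 n101916 = n175500 := d15_1 D101916 F274821 (iv2 D101917)
theorem F274827 : act 7 n101904 = n172410 := d8_2 F274795 D101904 (iv3 D172410)
theorem F274828 : act 7 n101905 = n172412 := d13_2 F274795 D101905 (iv5 D172412)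
theorem F274829 : act 2 n172407 = n101905 := d4_3 F274828 F274818 (iv7 F274817)
theorem F274830 : act 2 n101910 = n175506 := d1_3 (iv4 D175506) F274791 D101910
theorem F274831 : act 2 n101911 = n175507 := d3_3 (iv6 D175507) F274791 D101911
def n175513 : Q := act 0 n83805
theorem D175513 : act 0 n83805 = n175513 := rfl
def n175514 : Q := act 1 n83805
theorem D175514 : act 1 n83805 = n175514 := rfl
def n175515 : Q := act 2 n83805
theorem D175515 : act 2 n83805 = n175515 := rfl
theorem F274841 : act 7 n175515 = n101897 := d4_2 (iv7 F274794) D175515 (iv2 D101897)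
theorem F274843 : act 1 n175514 = n101897 := d15_1 D175514 (iv7 F274841) (iv2 D175515)
def n175516 : Q := act 4 n83805
theorem D175516 : act 4 n83805 = n175516 := rfl
theorem F274845 : act 7 n175516 = n101898 := d11_2 (iv7 F274794) D175516 (iv4 D101898)
def n175517 : Q := act 5 n83805
theorem D175517 : act 5 n83805 = n175517 := rfl
theorem F274846 : act 3 n175517 = n83807 := d6_1 D175517 (iv5 D83807) D83805
theorem F274847 : act 7 n175517 = n101899 := d13_2 (iv7 F274794) D175517 (iv5 D101899)
def n175518 : Q := act 6 n83805
theorem D175518 : act 6 n83805 = n175518 := rfl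
theorem F274848 : act 3 n175518 = n83808 := d7_1 D175518 (iv6 D83808) D83805
def n175519 : Q := act 4 n83807
theorem D175519 : act 4 n83807 = n175519 := rfl
theorem F274849 : act 2 n175519 = n101924 := d1_1 D175519 (iv4 D101924) F274800
theorem F274850 : act 7 n175519 = n101910 := d11_2 (iv7 F274796) D175519 (iv4 D101910)
def n175520 : Q := act 6 n83807
theorem D175520 : act 6 n83807 = n175520 := rfl
theorem F274851 : act 2 n175520 = n101925 := d3_1 D175520 (iv6 D101925) F274800
theorem F274852 : act 0 n101157 = n175520 := d21_4 (iv5 F136244) (iv1 F136246) F74660 (iv6 F155853) (iv6 D175520) (iv5 D83807) (iv1 D38610) D38611 F59428 D45734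
def n175521 : Q := act 0 n83808
theorem D175521 : act 0 n83808 = n175521 := rfl
theorem F274853 : act 5 n175521 = n99502 := d21_0 (iv1 F153264) F74352 (iv6 F73448) (iv1 F73450) D47045 D100950 (iv1 F274764) (iv5 D83807) D83808 D175521
theorem F274854 : act 2 n101144 = n175521 := d15_3 (iv0 D175521) (iv0 F156367) (iv7 F156420)
theorem F274856 : act 6 n175521 = n99706 := d3_2 (iv6 F155847) F274854 F156670
theorem F274857 : act 7 n175521 = n89129 := d4_2 (iv7 F156420) F274854 F156427
theorem F274858 : act 1 n101564 = n175521 := d15_1 D101564 F274857 F156427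
theorem F274859 : act 6 n101125 = n104015 := d21_3 (iv5 F274853) (iv1 F274858) F274810 (iv1 D104015) (iv6 D48150) (iv5 D23291) (iv1 F62610) D22297 (iv6 F73493) D99502
def n175522 : Q := act 7 n83808
theorem D175522 : act 7 n83808 = n175522 := rfl
theorem F274860 : act 2 n175522 = n101564 := d4_1 D175522 F274803 F274802
theorem F274861 : act 6 n175522 = n89325 := d14_1 D175522 F274787 (iv6 D47349) (iv7 F274789) D83808
theorem F274862 : act 1 n89129 = n175522 := d15_1 (iv0 F272016) (iv7 D175522) (iv2 F274802)
theorem F274863 : act 1 n175522 = n101144 := d15_1 F274862 F156420 (iv2 F156427)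
theorem F274864 : act 0 n89346 = n101785 := d21_1 D89346 (iv5 D101785) (iv6 F155847) (iv1 F274863) F274861 (iv5 D89325) (iv1 F136219) F136216 (iv6 F74286) (iv1 F74288)
def n175523 : Q := act 2 n83809
theorem D175523 : act 2 n83809 = n175523 := rfl
theorem F274865 : act 7 n83810 = n175523 := d15_2 (iv0 D83809) D83810 (iv2 D175523)
def n175524 : Q := act 3 n83809
theorem D175524 : act 3 n83809 = n175524 := rfl
def n175525 : Q := act 4 n83809
theorem D175525 : act 4 n83809 = n175525 := rfl
def n175526 : Q := act 5 n83809
theorem D175526 : act 5 n83809 = n175526 := rfl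
theorem F274866 : act 1 n175526 = n99446 := d17_8 (iv1 F273883) (iv5 D83860) (iv1 F127948) F127945 F59072 D47344 F128842 D175526 (iv4 F271837)
theorem F274867 : act 6 n175526 = n101130 := d21_3 D38611 D83809 D175526 (iv1 D101130) (iv6 D47106) D47105 D101124 F155785 (iv6 D83808) (iv1 D38610)
def n175527 : Q := act 6 n83809
theorem D175527 : act 6 n83809 = n175527 := rfl
theorem F274868 : act 5 n175527 = n96165 := d21_6 (iv5 D45732) (iv1 D21859) D21860 (iv6 F59428) D83809 D175527 (iv1 D96165) D96166 F147852 (iv1 F72146)
def n175528 : Q := act 7 n83809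
theorem D175528 : act 7 n83809 = n175528 := rfl
theorem F274869 : act 2 n175528 = n83810 := d4_1 D175528 F274865 (iv2 D175523)
def n175529 : Q := act 3 n83810
theorem D175529 : act 3 n83810 = n175529 := rfl
def n175530 : Q := act 4 n83810
theorem D175530 : act 4 n83810 = n175530 := rfl
def n175531 : Q := act 6 n83810
theorem D175531 : act 6 n83810 = n175531 := rfl
def n175532 : Q := act 0 n83811
theorem D175532 : act 0 n83811 = n175532 := rfl
def n175533 : Q := act 1 n83811
theorem D175533 : act 1 n83811 = n175533 := rfl
theorem F274870 : act 1 n175533 = n101888 := d15_1 D175533 F156833 (iv2 F128838)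
def n175534 : Q := act 3 n83811
theorem D175534 : act 3 n83811 = n175534 := rfl
theorem F274871 : act 6 n175534 = n97987 := d7_2 (iv6 F128839) D175534 (iv3 D97987)
def n175535 : Q := act 5 n83811
theorem D175535 : act 5 n83811 = n175535 := rfl
theorem F274872 : act 2 n175535 = n101940 := d2_1 D175535 (iv5 D101940) (iv2 F128838)
def n175536 : Q := act 7 n83811
theorem D175536 : act 7 n83811 = n175536 := rfl
theorem F274873 : act 2 n175536 = n101888 := d4_1 D175536 F156833 (iv2 F128838)
theorem F274874 : act 4 n175536 = n83812 := d11_1 D175536 (iv7 D83812) D83811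
theorem F274875 : act 1 n101888 = n175532 := d15_0 (iv0 D175532) D175536 F274873
theorem F274876 : act 1 n101938 = n175536 := d15_1 D101938 (iv7 D175536) F128838
theorem F274877 : act 4 n175532 = n98477 := d18_7 (iv1 F154535) (iv4 D38615) (iv1 F59076) F59072 D47344 D101888 F274875 (iv0 D98477) (iv5 D46055)
theorem F274878 : act 1 n175536 = n101937 := d15_0 (iv0 D101937) (iv7 F156833) (iv2 F274873)
def n175537 : Q := act 6 n83812
theorem D175537 : act 6 n83812 = n175537 := rfl
theorem F274879 : act 2 n175537 = n101887 := d3_1 D175537 F156831 (iv2 F128840)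
theorem F274880 : act 5 n175537 = n99738 := d12_1 D175537 (iv6 D99738) F73573 (iv6 F59431) (iv5 F128841)
theorem F274881 : act 7 n175537 = n97990 := d14_2 D83812 D175537 (iv6 D97990) (iv7 D45736) (iv6 F59428)
theorem F274882 : act 1 n102289 = n175537 := d15_1 D102289 F274881 F151049
theorem F274883 : act 1 n175537 = n102288 := d15_0 (iv0 D102288) (iv7 F156832) (iv2 F274879)
def n175564 : Q := act 3 n83826
theorem D175564 : act 3 n83826 = n175564 := rfl
theorem F274894 : act 6 n175564 = n98490 := d7_2 (iv6 F154539) D175564 F151899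
theorem F274895 : act 7 n175564 = n88943 := d8_2 (iv7 F154540) D175564 F136516
def n175565 : Q := act 5 n83826
theorem D175565 : act 5 n83826 = n175565 := rfl
theorem F274896 : act 2 n175565 = n98480 := d2_1 D175565 F151879 (iv2 F154537)
theorem F274897 : act 7 n175565 = n88946 := d13_2 (iv7 F154540) D175565 (iv5 D88946)
theorem F274898 : act 0 n175565 = n98478 := d17_2 D83826 D175565 (iv5 F151877) F274650 (iv5 D83865) F127947 F127945 F59076 D38615
theorem F274899 : act 4 n98478 = n175533 := d18_1 F274898 (iv1 D175533) (iv4 D83811) (iv5 D38611) F29561 D18385 D38620 F128860 D175565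
theorem F274900 : act 0 n175526 = n100951 := d18_0 (iv4 F273878) (iv1 F273880) (iv4 F274650) F151877 F274899 F274870 (iv4 D101888) F128842 D175526
theorem F274901 : act 1 n175565 = n98477 := d15_0 (iv0 D98477) D98480 (iv2 F274896)
def n175568 : Q := act 2 n83828
theorem D175568 : act 2 n83828 = n175568 := rfl
def n175569 : Q := act 5 n83828
theorem D175569 : act 5 n83828 = n175569 := rfl
theorem F274902 : act 3 n175569 = n83829 := d6_1 D175569 (iv5 D83829) D83828
def n175571 : Q := act 1 n83829
theorem D175571 : act 1 n83829 = n175571 := rfl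
theorem F274904 : act 1 n175571 = n83849 := d15_1 D175571 (iv7 F274595) (iv2 F274596)
def n175572 : Q := act 4 n83829
theorem D175572 : act 4 n83829 = n175572 := rfl
def n175573 : Q := act 6 n83829
theorem D175573 : act 6 n83829 = n175573 := rfl
def n175574 : Q := act 0 n83830
theorem D175574 : act 0 n83830 = n175574 := rfl
def n175575 : Q := act 1 n83830
theorem D175575 : act 1 n83830 = n175575 := rfl
theorem F274905 : act 1 n175575 = n98545 := d15_1 D175575 F274569 (iv2 F274573)
theorem F274906 : act 4 n175575 = n172862 := d17_9 F272647 F272641 (iv1 D172301) (iv5 D82518) F58747 D46725 D100078 (iv5 F154542) D175575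
theorem F274907 : act 6 n98532 = n175575 := d21_3 D22406 D46737 (iv5 F268282) (iv1 D175575) (iv6 D83830) D83829 F154541 (iv5 D100122) (iv6 D46736) (iv1 D22405)
theorem F274908 : act 7 n175575 = n89052 := d14_2 D98532 F274907 (iv6 D89052) (iv7 F268262) D46068
theorem F274909 : act 2 n98548 = n175575 := d4_3 F274908 F268261 D98548
theorem E24633 : n98546 = n83830 := (c15_1 D98546 D175575 F274908 F268261)
theorem E24634 : n175574 = n46073 := ((D175574).symm.trans (sb E24633 (iv1 D98546)))
theorem F274910 : act 1 n46073 = n83830 := (sb E24634 (iv0 D175574))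
theorem F274911 : act 1 n98325 = n98547 := d17_6 (iv1 F273897) D175459 F274709 (iv5 D158560) F274505 D98325 (iv5 D98547) F274910 F128857
def n175576 : Q := act 7 n83830
theorem D175576 : act 7 n83830 = n175576 := rfl
theorem F274913 : act 4 n175576 = n83840 := d11_1 D175576 (iv7 D83840) (iv4 F128857)
theorem F274914 : act 5 n175576 = n98327 := d13_1 D175576 (iv7 F274574) (iv5 F154542)
theorem F274915 : act 6 n175576 = n98954 := d14_1 D175576 F274557 (iv6 D173574) F274543 D83830
def n175577 : Q := act 3 n83832
theorem D175577 : act 3 n83832 = n175577 := rfl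
theorem F274921 : act 5 n175577 = n174991 := d6_2 (iv5 F128861) D175577 F273875
def n175578 : Q := act 4 n83832
theorem D175578 : act 4 n83832 = n175578 := rfl
def n175579 : Q := act 6 n83832
theorem D175579 : act 6 n83832 = n175579 := rfl
theorem F274922 : act 5 n175579 = n174993 := d12_1 D175579 (iv6 D174993) (iv5 D83576) D83577 (iv5 F128861)
def n175580 : Q := act 3 n83833
theorem D175580 : act 3 n83833 = n175580 := rfl
def n175581 : Q := act 4 n83833
theorem D175581 : act 4 n83833 = n175581 := rfl
def n175582 : Q := act 0 n83834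
theorem D175582 : act 0 n83834 = n175582 := rfl
theorem F274923 : act 1 n83851 = n175582 := d15_0 (iv0 D175582) F274577 (iv2 F274578)
def n175583 : Q := act 1 n83834
theorem D175583 : act 1 n83834 = n175583 := rfl
theorem F274924 : act 1 n175583 = n83851 := d15_1 D175583 (iv7 F274592) (iv2 F274593)
def n175587 : Q := act 0 n83835
theorem D175587 : act 0 n83835 = n175587 := rfl
def n175589 : Q := act 5 n83835
theorem D175589 : act 5 n83835 = n175589 := rfl
theorem F274926 : act 6 n175589 = n83839 := d12_2 D83835 D175589 (iv5 D83839) (iv6 D38617) D38616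
def n175592 : Q := act 5 n83838
theorem D175592 : act 5 n83838 = n175592 := rfl
theorem F274927 : act 0 n158560 = n175592 := d21_1 D158560 (iv5 D175592) (iv6 F273894) (iv1 F273898) (iv6 F249724) (iv5 D158540) (iv1 F249131) F249122 F112948 (iv1 F113474)
def n175609 : Q := act 3 n83845
theorem D175609 : act 3 n83845 = n175609 := rfl
theorem F274934 : act 4 n175609 = n83848 := d5_2 D83845 D175609 (iv3 D83848) (iv4 D38620) D38619
def n175614 : Q := act 4 n83846
theorem D175614 : act 4 n83846 = n175614 := rfl
def n175615 : Q := act 6 n83846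
theorem D175615 : act 6 n83846 = n175615 := rfl
theorem F274936 : act 3 n175615 = n83852 := d7_1 D175615 (iv6 D83852) (iv3 F128868)
def n175618 : Q := act 5 n83847
theorem D175618 : act 5 n83847 = n175618 := rfl
theorem F274937 : act 3 n175618 = n83855 := d6_1 D175618 (iv5 D83855) (iv3 F128869)
def n175623 : Q := act 5 n83848
theorem D175623 : act 5 n83848 = n175623 := rfl
theorem F274939 : act 3 n175623 = n83849 := d6_1 D175623 (iv5 D83849) D83848
def n175625 : Q := act 4 n83849
theorem D175625 : act 4 n83849 = n175625 := rfl
def n175626 : Q := act 6 n83849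
theorem D175626 : act 6 n83849 = n175626 := rfl
theorem F274941 : act 0 n100570 = n175626 := d21_4 F136337 (iv1 F136335) F74880 (iv6 F154643) (iv6 D175626) (iv5 D83849) F154536 D46055 F72635 D46676
def n175627 : Q := act 0 n83850
theorem D175627 : act 0 n83850 = n175627 := rfl
theorem F274942 : act 5 n175627 = n99370 := d17_1 D175627 (iv1 F153024) F74096 (iv4 F59353) (iv5 F128631) F262986 (iv5 F262989) (iv0 D83853) (iv4 F128870)
theorem F274943 : act 4 n175627 = n172438 := d18_3 F262974 (iv4 F128870) D175627 (iv5 F272690) D174055 F273777 (iv4 D167005) D167004 (iv5 F262979)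
theorem F274944 : act 2 n98956 = n175627 := d15_3 (iv0 D175627) F274559 D98956
theorem F274945 : act 7 n175627 = n88952 := d4_2 D98956 F274944 F272715
theorem F274946 : act 1 n173574 = n88952 := d15_1 F272727 (iv7 F274945) (iv2 F274944)
theorem E24635 : n101143 = n100511 := ((c18_3 (iv1 D46891) D46892 D100511 (iv4 D101143) D101144 F272012 (iv0 D173577) (iv4 F272006) F274946 F136527)).symm
theorem F274947 : act 4 n100511 = n47112 := (sb E24635 (iv4 D101143))
theorem F274948 : act 6 n98972 = n175627 := d14_5 F274945 (iv6 D88952) (iv7 F272707) D46301 D98972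
theorem F274949 : act 1 n98954 = n175627 := d15_1 D98954 F274945 F272715
def n175628 : Q := act 7 n83850
theorem D175628 : act 7 n83850 = n175628 := rfl
theorem F274952 : act 6 n175628 = n98545 := d14_1 D175628 F274569 (iv6 D173555) (iv7 F274539) D83850
theorem F274953 : act 1 n88952 = n175628 := d15_1 F274946 (iv7 D175628) F274560
theorem F274954 : act 1 n175628 = n98956 := d15_1 F274953 (iv7 D98956) (iv2 F272715)
def n175629 : Q := act 3 n83851
theorem D175629 : act 3 n83851 = n175629 := rfl
def n175630 : Q := act 5 n83851
theorem D175630 : act 5 n83851 = n175630 := rfl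
def n175631 : Q := act 6 n83851
theorem D175631 : act 6 n83851 = n175631 := rfl
theorem F274955 : act 4 n175631 = n83852 := d10_1 D175631 (iv6 D83852) D83851
def n175632 : Q := act 0 n83852
theorem D175632 : act 0 n83852 = n175632 := rfl
def n175633 : Q := act 5 n83852
theorem D175633 : act 5 n83852 = n175633 := rfl
theorem F274956 : act 6 n175633 = n83855 := d12_2 D83852 D175633 (iv5 D83855) (iv6 D38622) D38621
def n175634 : Q := act 7 n83852
theorem D175634 : act 7 n83852 = n175634 := rfl
theorem F274957 : act 1 n83919 = n175634 := d15_1 (iv0 F272007) (iv7 D175634) F274579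
def n175636 : Q := act 4 n83855
theorem D175636 : act 4 n83855 = n175636 := rfl
def n175637 : Q := act 7 n83855
theorem D175637 : act 7 n83855 = n175637 := rfl
theorem F274959 : act 5 n175637 = n83856 := d13_1 D175637 (iv7 D83856) D83855
theorem F274960 : act 1 n166998 = n175637 := d15_1 (iv0 F272017) (iv7 D175637) (iv2 F274556)
theorem F274961 : act 1 n175637 = n167001 := d15_1 F274960 F262972 (iv2 F262960)
theorem F274962 : act 0 n175592 = n158556 := d21_1 D175592 (iv5 D158556) F156578 (iv1 F273768) (iv6 D167002) D167001 (iv1 F274961) F274959 (iv6 F274553) (iv1 F274568)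
theorem F274963 : act 6 n175637 = n174204 := d21_3 (iv5 F272008) (iv1 F274561) (iv5 F274959) (iv1 D174204) (iv6 D83268) (iv5 D38349) F118788 D18351 (iv6 F59352) D83534
def n175638 : Q := act 0 n83858
theorem D175638 : act 0 n83858 = n175638 := rfl
def n175639 : Q := act 1 n83858
theorem D175639 : act 1 n83858 = n175639 := rfl
def n175640 : Q := act 2 n83858
theorem D175640 : act 2 n83858 = n175640 := rfl
def n175641 : Q := act 4 n83858
theorem D175641 : act 4 n83858 = n175641 := rfl
def n175642 : Q := act 5 n83858
theorem D175642 : act 5 n83858 = n175642 := rfl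
theorem F274964 : act 3 n175642 = n83860 := d6_1 D175642 (iv5 D83860) D83858
theorem F274965 : act 7 n175642 = n158514 := d13_2 (iv7 F273752) D175642 (iv5 F272032)
def n175643 : Q := act 6 n83858
theorem D175643 : act 6 n83858 = n175643 := rfl
theorem F274966 : act 3 n175643 = n83861 := d7_1 D175643 (iv6 D83861) D83858
def n175644 : Q := act 0 n83859
theorem D175644 : act 0 n83859 = n175644 := rfl
theorem F274967 : act 4 n175644 = n172417 := d18_3 D38623 D83859 D175644 F270642 (iv4 F154538) (iv0 D83826) (iv4 D38615) (iv0 D18384) D18386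
theorem F274968 : act 1 n83864 = n175644 := d15_0 (iv0 D175644) F273753 F273750
theorem F274969 : act 7 n172416 = n175644 := d11_0 F274967 (iv7 D172417) D172416
def n175645 : Q := act 1 n83859
theorem D175645 : act 1 n83859 = n175645 := rfl
theorem F274970 : act 1 n175645 = n83864 := d15_1 D175645 (iv7 F273749) F273754
theorem F274971 : act 2 n172416 = n175645 := d15_3 F274970 F274968 (iv7 F274969)
theorem F274972 : act 4 n98151 = n175645 := d18_5 (iv1 F59075) D38620 F154536 (iv4 F72403) D98151 F274970 (iv4 D83864) F127947 F127945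
theorem F274973 : act 6 n175645 = n83971 := d10_2 (iv6 F151377) F274972 (iv4 F128958)
def n175646 : Q := act 3 n83859
theorem D175646 : act 3 n83859 = n175646 := rfl
def n175647 : Q := act 5 n83859
theorem D175647 : act 5 n83859 = n175647 := rfl
def n175648 : Q := act 6 n83859
theorem D175648 : act 6 n83859 = n175648 := rfl
theorem F274974 : act 4 n175648 = n83861 := d10_1 D175648 (iv6 D83861) D83859
def n175649 : Q := act 4 n83860
theorem D175649 : act 4 n83860 = n175649 := rfl
theorem F274975 : act 6 n175649 = n100484 := d10_2 (iv6 F273722) D175649 (iv4 F273721)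
theorem F274976 : act 7 n175649 = n100050 := d11_2 (iv7 F273725) D175649 F249127
theorem F274977 : act 5 n175649 = n98477 := d17_5 (iv1 D18385) D18386 D38623 D83860 D175649 (iv0 D98477) (iv5 D46055) (iv0 F154536) (iv4 D38620)
theorem F274978 : act 1 n100123 = n175649 := d15_1 (iv0 F154052) F274976 F274651
theorem F274979 : act 2 n175649 = n100120 := d15_3 (iv0 D100120) (iv0 F274584) (iv7 F274976)
theorem F274980 : act 4 n100120 = n173583 := d1_2 D175649 F274979 (iv2 F273724)
theorem F274981 : act 7 n100120 = n98357 := d4_2 (iv7 F274976) F274979 (iv2 F274651)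
theorem F274982 : act 1 n175649 = n100108 := d15_0 F154053 (iv7 F274981) (iv2 F274979)
theorem E24636 : n174480 = n100117 := (c18_1 (iv1 F273378) F154049 D100120 F274980 (iv5 D173583) D173582 F274516 (iv4 D172416) D172415 (iv5 F270640))
theorem F274983 : act 1 n100117 = n172264 := (sb E24636 F273378)
theorem F274984 : act 2 n100117 = n83396 := (sb E24636 F273368)
theorem E24637 : n83392 = n46734 := ((((iv6 D100117)).symm.trans (sb E24636 (iv6 D174480)))).symm
theorem E24638 : n174463 = n38158 := ((((iv1 F155452)).symm.trans (sb E24637 (iv1 F273337)))).symm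
theorem E24640 : n100099 = n38415 := (((iv2 F154033)).symm.trans (sb E24637 F128508))
theorem E24641 : n174472 = n100115 := (((D100115).symm.trans (sb E24637 (iv3 F273354)))).symm
theorem E24642 : n99308 = n22405 := ((((iv4 D46734)).symm.trans (sb E24637 F155512))).symm
theorem E24643 : n174476 = n100116 := (((D100116).symm.trans (sb E24637 (iv5 F273359)))).symm
theorem E24644 : n100084 = n38414 := (((iv7 F154021)).symm.trans (sb E24637 (iv7 D83392)))
theorem E24645 : n83387 = n46729 := (((F155451).symm.trans (sb E24638 (iv1 D174463)))).symm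
theorem F274985 : act 2 n38415 = n46734 := (sb E24640 F154033)
theorem E24646 : n46732 = n46434 := ((((iv4 F155511)).symm.trans (sb E24640 F154034))).symm
theorem F274986 : act 2 n100115 = n121989 := (sb E24641 F273353)
theorem F274987 : act 7 n100115 = n83388 := (sb E24641 (iv7 D174472))
theorem E24647 : n46727 = n46433 := ((F73852).symm.trans (sb E24642 (iv7 D99308)))
theorem F274988 : act 2 n100116 = n83395 := (sb E24643 F273358)
theorem F274989 : act 7 n100116 = n83390 := (sb E24643 (iv7 D174476))
theorem F274990 : act 7 n38414 = n46734 := (sb E24644 F154021)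
theorem F274991 : act 2 n46729 = n38414 := (sb E24645 (iv2 D83387))
theorem E24648 : n174464 = n100096 := (((D100096).symm.trans (sb E24645 D174464))).symm
theorem E24649 : n99303 = n22404 := ((((iv4 D46729)).symm.trans (sb E24645 F155514))).symm
theorem E24650 : n174465 = n100097 := (((D100097).symm.trans (sb E24645 D174465))).symm
theorem E24651 : n174466 = n100098 := (((D100098).symm.trans (sb E24645 D174466))).symm
theorem F274992 : act 7 n46729 = n38415 := (sb E24645 (iv7 F128506))
theorem F274993 : act 2 n46434 = n22405 := (sb E24646 F73854)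
theorem E24654 : n100093 = n99309 := (((D99309).symm.trans (sb E24646 (iv3 F154030)))).symm
theorem E24655 : n100104 = n99311 := (((D99311).symm.trans (sb E24646 (iv5 F154040)))).symm
theorem E24656 : n100108 = n99312 := (((D99312).symm.trans (sb E24646 D100108))).symm
theorem E24657 : n100083 = n99304 := (((D99304).symm.trans (sb E24647 D100083))).symm
theorem E24658 : n100085 = n99306 := (((D99306).symm.trans (sb E24647 D100085))).symm
theorem E24659 : n100086 = n99307 := (((D99307).symm.trans (sb E24647 D100086))).symm
theorem F274994 : act 7 n46433 = n22405 := (sb E24647 (iv7 F73852))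
theorem F274995 : act 7 n100096 = n83393 := (sb E24648 F273338)
theorem F274996 : act 2 n22404 = n46433 := (sb E24649 (iv2 D99303))
theorem F274997 : act 7 n22404 = n46434 := (sb E24649 (iv7 F152909))
theorem F274998 : act 2 n100097 = n83390 := (sb E24650 F273339)
theorem F274999 : act 7 n100097 = n83395 := (sb E24650 F273340)
theorem F275000 : act 2 n100098 = n83391 := (sb E24651 F273341)
theorem E24660 : n172455 = n158332 := (((F249455).symm.trans (sb E24651 (iv5 F273342)))).symm
theorem F275001 : act 7 n100098 = n172453 := (sb E24651 F273343)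
theorem F275002 : act 7 n99309 = n46728 := (sb E24654 (iv7 D100093))
theorem F275003 : act 2 n99311 = n46735 := (sb E24655 F154039)
theorem F275004 : act 7 n99311 = n46730 := (sb E24655 (iv7 D100104))
theorem F275005 : act 0 n99312 = n175649 := (sb E24656 (iv1 F274982))
theorem F275006 : act 1 n99312 = n98357 := (sb E24656 F154053)
theorem F275007 : act 2 n99312 = n46736 := (sb E24656 F154046)
theorem F275008 : act 2 n99304 = n87880 := (sb E24657 F232750)
theorem F275009 : act 7 n99304 = n46733 := (sb E24657 F154019)
theorem F275010 : act 2 n99306 = n46730 := (sb E24658 F154022)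
theorem F275011 : act 7 n99306 = n46735 := (sb E24658 F154023)
theorem F275012 : act 2 n99307 = n46731 := (sb E24659 F154024)
theorem E24661 : n98978 = n88959 := (((F152910).symm.trans (sb E24659 (iv5 F154025)))).symm
theorem F275013 : act 7 n99307 = n98976 := (sb E24659 F154026)
theorem F275014 : act 2 n158332 = n82569 := (sb E24660 F270667)
theorem F275015 : act 7 n158332 = n82568 := (sb E24660 (iv7 D172455))
theorem F275016 : act 2 n88959 = n46303 := (sb E24661 F152504)
theorem F275017 : act 7 n88959 = n46302 := (sb E24661 (iv7 D98978))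
theorem F275018 : act 7 n98975 = n101585 := d11_2 F275017 D98975 F156493
theorem E24662 : n98973 = n88958 := (c15_4 (iv0 D88958) D88959 F275017 D98973)
theorem F275019 : act 2 n88958 = n46302 := (sb E24662 (iv2 D98973))
theorem F275020 : act 5 n88958 = n100107 := (sb E24662 (iv5 F154044))
theorem F275021 : act 7 n88958 = n46303 := (sb E24662 (iv7 F152503))
theorem F275022 : act 4 n100107 = n172453 := d17_4 (iv1 D41533) D41534 D88958 F275020 (iv5 D172453) (iv0 D82568) (iv5 D37901) D37900 (iv4 F155439)
theorem F275023 : act 1 n100107 = n98326 := d17_8 (iv1 F274622) F273865 (iv1 F249616) F128815 F59418 (iv5 F72952) F136529 F275020 F274504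
theorem F275024 : act 4 n101584 = n88958 := d18_3 (iv1 D47252) D47253 D101584 F275020 F275022 F270665 F137014 F156395 F74505
theorem F275025 : act 2 n98975 = n101584 := d1_3 F275024 F275019 D98975
theorem F275026 : act 7 n98980 = n101584 := d11_0 F275024 F275021 D98980
theorem F275027 : act 2 n101585 = n98980 := d4_3 F275026 (iv2 F275025) F275018
theorem F275028 : act 1 n98975 = n89137 := d15_0 F155170 F275026 (iv2 F275025)
theorem F275029 : act 1 n98326 = n99307 := d15_1 F275023 F275013 (iv2 F154043)
theorem F275030 : act 0 n158425 = n172452 := d18_2 (iv1 D158424) D158425 (iv4 D172452) D172453 (iv4 F275022) F275023 F274504 F274518 F271827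
theorem F275031 : act 4 n174479 = n98976 := d1_2 F275022 (iv2 F273366) (iv2 F154043)
theorem E24663 : n172450 = n158331 := ((c17_3 F155166 D75488 D158331 (iv5 F273367) F275031 (iv5 D98976) (iv0 D46302) (iv5 D22141) D22140 D46299)).symm
theorem F275032 : act 2 n158331 = n82568 := (sb E24663 (iv2 D172450))
theorem F275033 : act 5 n158331 = n174479 := (sb E24663 (iv5 F273367))
theorem F275034 : act 7 n158331 = n82569 := (sb E24663 (iv7 F270664))
theorem F275035 : act 0 n172299 = n174479 := d18_2 (iv1 F156369) (iv4 F270624) F275031 (iv5 D98976) D98975 F275028 (iv4 D89137) D89136 (iv5 F153173)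
theorem F275036 : act 4 n175441 = n158331 := d18_3 (iv1 D83775) D83776 D175441 F275033 F275031 F154045 (iv4 F274624) (iv0 D174983) F128813
theorem F275037 : act 2 n172452 = n175441 := d1_3 F275036 F275032 D172452
theorem F275038 : act 7 n172457 = n175441 := d11_0 F275036 F275034 D172457
theorem F275039 : act 7 n175442 = n172452 := d15_2 (iv0 D175441) D175442 F275037
theorem F275040 : act 2 n175442 = n172457 := d4_3 F275038 (iv2 F275037) (iv7 F275039)
theorem F275041 : act 1 n172299 = n100098 := d15_1 (iv0 F275035) F275001 (iv2 F273366)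
theorem E24664 : n150123 = n100111 := ((c15_4 F236289 F232797 F275009 D100111)).symm
theorem F275042 : act 0 n100111 = n70653 := (sb E24664 (iv1 D150123))
theorem F275043 : act 1 n100111 = n87883 := (sb E24664 F236289)
theorem F275044 : act 1 n174468 = n84933 := d15_0 F194826 F274987 D174468
theorem F275045 : act 1 n121991 = n174468 := d15_0 F275044 (iv7 F273347) (iv2 F273344)
def n175650 : Q := act 0 n83861
theorem D175650 : act 0 n83861 = n175650 := rfl
def n175651 : Q := act 1 n83861
theorem D175651 : act 1 n83861 = n175651 := rfl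
def n175652 : Q := act 7 n83861
theorem D175652 : act 7 n83861 = n175652 := rfl
def n175657 : Q := act 5 n83863
theorem D175657 : act 5 n83863 = n175657 := rfl
theorem F275046 : act 3 n175657 = n83865 := d6_1 D175657 (iv5 D83865) D83863
theorem F275047 : act 6 n158168 = n175657 := d7_0 F275046 (iv6 F128874) D158168
def n175658 : Q := act 6 n83863
theorem D175658 : act 6 n83863 = n175658 := rfl
theorem F275048 : act 3 n175658 = n83866 := d7_1 D175658 (iv6 D83866) D83863
def n175659 : Q := act 3 n83864
theorem D175659 : act 3 n83864 = n175659 := rfl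
def n175660 : Q := act 5 n83864
theorem D175660 : act 5 n83864 = n175660 := rfl
def n175661 : Q := act 6 n83864
theorem D175661 : act 6 n83864 = n175661 := rfl
theorem F275049 : act 4 n175661 = n83866 := d10_1 D175661 (iv6 D83866) D83864
def n175662 : Q := act 0 n83866
theorem D175662 : act 0 n83866 = n175662 := rfl
def n175663 : Q := act 1 n83866
theorem D175663 : act 1 n83866 = n175663 := rfl
def n175664 : Q := act 5 n83866
theorem D175664 : act 5 n83866 = n175664 := rfl
theorem F275050 : act 2 n175664 = n158519 := d2_1 D175664 (iv5 F272033) F273751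
theorem F275051 : act 6 n175664 = n158170 := d12_2 D83866 D175664 (iv5 D158170) F128874 (iv5 D83865)
def n175665 : Q := act 7 n83866
theorem D175665 : act 7 n83866 = n175665 := rfl
def n175666 : Q := act 2 n83867
theorem D175666 : act 2 n83867 = n175666 := rfl
theorem F275052 : act 7 n83868 = n175666 := d15_2 (iv0 D83867) D83868 (iv2 D175666)
def n175667 : Q := act 3 n83867
theorem D175667 : act 3 n83867 = n175667 := rfl
def n175668 : Q := act 5 n83867
theorem D175668 : act 5 n83867 = n175668 := rfl
def n175669 : Q := act 6 n83867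
theorem D175669 : act 6 n83867 = n175669 := rfl
def n175670 : Q := act 7 n83867
theorem D175670 : act 7 n83867 = n175670 := rfl
theorem F275053 : act 2 n175670 = n83868 := d4_1 D175670 F275052 (iv2 D175666)
def n175671 : Q := act 3 n83868
theorem D175671 : act 3 n83868 = n175671 := rfl
def n175672 : Q := act 5 n83868
theorem D175672 : act 5 n83868 = n175672 := rfl
def n175673 : Q := act 6 n83868
theorem D175673 : act 6 n83868 = n175673 := rfl
def n175674 : Q := act 0 n83869
theorem D175674 : act 0 n83869 = n175674 := rfl
def n175675 : Q := act 1 n83869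
theorem D175675 : act 1 n83869 = n175675 := rfl
def n175676 : Q := act 2 n83869
theorem D175676 : act 2 n83869 = n175676 := rfl
theorem F275054 : act 6 n175676 = n83998 := d3_2 (iv6 F128875) D175676 (iv2 D83998)
def n175677 : Q := act 5 n83869
theorem D175677 : act 5 n83869 = n175677 := rfl
theorem F275055 : act 3 n175677 = n83870 := d6_1 D175677 (iv5 D83870) D83869
def n175678 : Q := act 7 n83869
theorem D175678 : act 7 n83869 = n175678 := rfl
theorem F275056 : act 3 n175678 = n83871 := d8_1 D175678 (iv7 D83871) D83869
def n175679 : Q := act 0 n83870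
theorem D175679 : act 0 n83870 = n175679 := rfl
def n175680 : Q := act 1 n83870
theorem D175680 : act 1 n83870 = n175680 := rfl
def n175681 : Q := act 4 n83870
theorem D175681 : act 4 n83870 = n175681 := rfl
theorem F275057 : act 5 n175681 = n101888 := d16_3 D38625 D83870 D175681 (iv4 D101888) (iv5 D47344) (iv4 F59072) (iv5 F127945) (iv7 D83031) F59069
theorem F275058 : act 7 n101940 = n175681 := d13_0 F275057 F156833 D101940
def n175682 : Q := act 6 n83870
theorem D175682 : act 6 n83870 = n175682 := rfl
theorem F275059 : act 5 n175682 = n84001 := d12_1 D175682 (iv6 D84001) (iv5 D38687) (iv6 F59437) D83870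
def n175683 : Q := act 7 n83870
theorem D175683 : act 7 n83870 = n175683 := rfl
theorem F275060 : act 4 n175683 = n101940 := d11_1 D175683 F275058 (iv4 D175681)
theorem F275061 : act 5 n175683 = n83871 := d13_1 D175683 (iv7 D83871) D83870
def n175684 : Q := act 6 n83871
theorem D175684 : act 6 n83871 = n175684 := rfl
theorem F275062 : act 4 n175684 = n83872 := d10_1 D175684 (iv6 D83872) (iv4 F128876)
theorem F275063 : act 7 n175684 = n84002 := d14_2 D83871 D175684 (iv6 D84002) (iv7 D38688) (iv6 F59437)
def n175685 : Q := act 5 n83872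
theorem D175685 : act 5 n83872 = n175685 := rfl
theorem F275064 : act 2 n175685 = n101682 := d2_1 D175685 (iv5 F272043) F272042
theorem F275065 : act 6 n175685 = n83873 := d12_2 D83872 D175685 (iv5 D83873) (iv6 D38627) (iv5 F59438)
theorem F275066 : act 7 n175685 = n84005 := d13_2 (iv7 F128877) D175685 (iv5 D84005)
def n175686 : Q := act 4 n83873
theorem D175686 : act 4 n83873 = n175686 := rfl
theorem F275067 : act 2 n175686 = n101681 := d1_1 D175686 F156579 (iv2 F128878)
theorem F275068 : act 7 n175686 = n83886 := d11_2 (iv7 F128879) D175686 (iv4 D83886)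
theorem F275069 : act 5 n175686 = n101883 := d16_1 D175686 (iv4 D101883) (iv5 D47341) (iv4 D22746) (iv5 D10755) (iv4 F17285) D22732 D47283 (iv2 F128878)
theorem F275070 : act 1 n175686 = n101677 := d18_6 (iv1 F156779) (iv4 D22736) (iv1 F34822) (iv4 F59440) D83873 D175686 F273769 (iv0 D172400) (iv5 D82552)
theorem F275071 : act 1 n101678 = n175686 := d15_1 D101678 F275068 F128886
theorem F275072 : act 0 n101670 = n174870 := d18_0 F273765 F156331 D101862 F270616 (iv4 F270633) F275071 (iv4 D175686) F128881 D101670
def n175687 : Q := act 0 n83875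
theorem D175687 : act 0 n83875 = n175687 := rfl
theorem F275073 : act 1 n101654 = n175687 := d15_0 (iv0 D175687) F274681 D101654
def n175688 : Q := act 1 n83875
theorem D175688 : act 1 n83875 = n175688 := rfl
def n175689 : Q := act 2 n83875
theorem D175689 : act 2 n83875 = n175689 := rfl
theorem F275075 : act 7 n175689 = n101654 := d4_2 (iv7 F274681) D175689 (iv2 D101654)
theorem F275076 : act 1 n175689 = n101652 := d15_0 (iv0 D101652) (iv7 F274681) D175689
theorem F275078 : act 1 n101653 = n175689 := d15_1 D101653 F275075 (iv2 D101654)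
def n175690 : Q := act 4 n83875
theorem D175690 : act 4 n83875 = n175690 := rfl
theorem F275079 : act 7 n175690 = n101655 := d11_2 (iv7 F274681) D175690 (iv4 D101655)
def n175691 : Q := act 5 n83875
theorem D175691 : act 5 n83875 = n175691 := rfl
theorem F275080 : act 3 n175691 = n83877 := d6_1 D175691 (iv5 D83877) D83875
theorem F275081 : act 7 n175691 = n101656 := d13_2 (iv7 F274681) D175691 (iv5 D101656)
def n175692 : Q := act 6 n83875
theorem D175692 : act 6 n83875 = n175692 := rfl
theorem F275082 : act 3 n175692 = n83878 := d7_1 D175692 (iv6 D83878) D83875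
def n175693 : Q := act 0 n83876
theorem D175693 : act 0 n83876 = n175693 := rfl
theorem F275083 : act 1 n83881 = n175693 := d15_0 (iv0 D175693) F274683 (iv2 F274690)
def n175694 : Q := act 1 n83876
theorem D175694 : act 1 n83876 = n175694 := rfl
theorem F275084 : act 1 n175694 = n83881 := d15_1 D175694 F274691 (iv2 F274682)
def n175695 : Q := act 3 n83876
theorem D175695 : act 3 n83876 = n175695 := rfl
theorem F275085 : act 7 n175695 = n98497 := d8_2 (iv7 F274683) D175695 (iv3 D98497)
def n175696 : Q := act 5 n83876
theorem D175696 : act 5 n83876 = n175696 := rfl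
theorem F275086 : act 2 n175696 = n98494 := d2_1 D175696 (iv5 D98494) (iv2 F274682)
theorem F275087 : act 7 n175696 = n98499 := d13_2 (iv7 F274683) D175696 (iv5 D98499)
def n175697 : Q := act 6 n83876
theorem D175697 : act 6 n83876 = n175697 := rfl
theorem F275088 : act 2 n175697 = n98495 := d3_1 D175697 (iv6 D98495) (iv2 F274682)
theorem F275089 : act 4 n175697 = n83878 := d10_1 D175697 (iv6 D83878) D83876
theorem F275090 : act 7 n98969 = n175697 := d11_0 F275089 F274679 F249721
theorem F275091 : act 5 n98364 = n175697 := d17_3 (iv1 F73841) (iv5 F153985) (iv1 F153987) F275089 F249118 F249117 F113467 F112949 F274643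
theorem F275092 : act 2 n100057 = n98364 := d2_3 F275091 F275088 F153981
theorem F275093 : act 7 n100056 = n98364 := d13_0 F275091 (iv7 F275090) F153988
theorem F275094 : act 1 n175697 = n98972 := d17_8 (iv1 D101765) D101766 F156787 (iv5 D83201) F59167 D46018 D98364 F275091 (iv4 F272736)
theorem E24665 : n175693 = n46063 := (c21_5 (iv5 F153985) (iv1 F153987) F275091 (iv6 D175697) D175693 (iv6 F154539) D175565 F274898 (iv5 F151877) (iv6 D98357) (iv1 F73841))
theorem E24666 : n88939 = n83881 := (((iv1 F136502)).symm.trans (sb E24665 (iv1 F275083)))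
theorem E24667 : n88938 = n83876 := ((F136508).symm.trans (sb E24665 (iv0 D175693)))
theorem E24668 : n175694 = n41529 := (((iv1 F275084)).symm.trans (sb E24666 (iv1 D88939)))
theorem F275095 : act 1 n83881 = n46063 := (sb E24666 F136502)
theorem F275096 : act 0 n83876 = n46063 := (sb E24667 (iv1 F136508))
theorem F275097 : act 0 n41529 = n83876 := (sb E24668 (iv1 D175694))
theorem F275098 : act 1 n41529 = n83881 := (sb E24668 F275084)
theorem F275099 : act 1 n88957 = n175697 := d15_0 F275094 (iv7 D98972) (iv2 F272720)
theorem F275100 : act 2 n100056 = n98363 := d15_3 (iv0 D98363) D98364 (iv7 F275093)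
theorem F275101 : act 7 n98363 = n100057 := d4_2 (iv7 F275093) F275100 F275092
def n175698 : Q := act 0 n83877
theorem D175698 : act 0 n83877 = n175698 := rfl
theorem F275102 : act 5 n175698 = n167002 := d17_3 D38628 D83877 D175698 F262976 (iv5 F153506) (iv0 D99700) (iv5 D46581) (iv0 D22319) (iv4 F29564)
theorem F275103 : act 1 n83882 = n175698 := d15_0 (iv0 D175698) F274685 (iv2 F274692)
theorem F275104 : act 2 n101643 = n175698 := d2_3 F275102 F262975 (iv5 F156558)
theorem F275105 : act 7 n101644 = n175698 := d15_2 (iv0 D101643) D101644 (iv2 F275104)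
def n175699 : Q := act 1 n83877
theorem D175699 : act 1 n83877 = n175699 := rfl
theorem F275106 : act 1 n175699 = n83882 := d15_1 D175699 F274693 (iv2 F274684)
theorem F275107 : act 7 n175699 = n101643 := d15_2 (iv0 D175698) D175699 F275104
theorem F275108 : act 5 n174870 = n175699 := d21_6 (iv5 F249703) (iv1 F249707) (iv5 D75622) D75623 D158533 (iv6 F273766) (iv1 D175699) (iv5 D83877) D83878 (iv1 F274615)
theorem F275109 : act 2 n101644 = n175699 := d4_3 F275107 F275104 (iv7 F275105)
def n175700 : Q := act 4 n83877
theorem D175700 : act 4 n83877 = n175700 := rfl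
theorem F275110 : act 2 n175700 = n101645 := d1_1 D175700 (iv4 D101645) (iv2 F274684)
theorem F275111 : act 7 n175700 = n101661 := d11_2 (iv7 F274685) D175700 (iv4 D101661)
def n175701 : Q := act 6 n83877
theorem D175701 : act 6 n83877 = n175701 := rfl
theorem F275112 : act 2 n175701 = n101646 := d3_1 D175701 (iv6 D101646) (iv2 F274684)
def n175706 : Q := act 5 n83880
theorem D175706 : act 5 n83880 = n175706 := rfl
theorem F275121 : act 7 n175706 = n101634 := d13_2 (iv7 F274689) D175706 (iv5 D101634)
def n175708 : Q := act 3 n83881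
theorem D175708 : act 3 n83881 = n175708 := rfl
theorem F275123 : act 7 n175708 = n98492 := d8_2 (iv7 F274691) D175708 (iv3 D98492)
def n175709 : Q := act 5 n83881
theorem D175709 : act 5 n83881 = n175709 := rfl
theorem F275124 : act 2 n175709 = n98499 := d2_1 D175709 (iv5 D98499) (iv2 F274690)
theorem F275125 : act 7 n175709 = n98494 := d13_2 (iv7 F274691) D175709 (iv5 D98494)
theorem F275126 : act 0 n175709 = n102628 := d21_1 D175709 F157829 F154558 (iv1 F154548) (iv6 F274975) F274977 (iv1 F274901) (iv5 D175565) F154539 (iv1 F275095)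
theorem F275127 : act 4 n101775 = n102628 := d18_7 (iv1 F275098) F64069 (iv1 F156779) (iv4 D22736) D22737 D47305 D101775 (iv0 F275126) (iv5 D175709)
theorem F275128 : act 6 n102490 = n175709 := d21_5 (iv5 D88884) (iv1 F74742) (iv5 D47542) D47543 D102490 (iv5 D175709) (iv1 F275098) D88940 F136504 (iv1 F136344)
theorem F275129 : act 6 n102627 = n101775 := d10_0 F275127 (iv6 D102628) D102627
theorem F275130 : act 1 n175696 = n102628 := d15_0 (iv0 F275126) F275125 (iv2 F275086)
theorem F275131 : act 1 n98499 = n100500 := d15_0 (iv0 F154557) (iv7 F275125) F275124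
theorem F275132 : act 4 n100499 = n174869 := d17_9 (iv1 D174869) (iv5 F156558) (iv1 F156562) (iv5 D47278) F156571 D98499 F275131 (iv5 D100500) D100499
def n175710 : Q := act 6 n83881
theorem D175710 : act 6 n83881 = n175710 := rfl
theorem F275133 : act 2 n175710 = n98500 := d3_1 D175710 (iv6 D98500) (iv2 F274690)
theorem F275134 : act 4 n175710 = n83883 := d10_1 D175710 (iv6 D83883) D83881
theorem F275135 : act 7 n98530 = n175710 := d11_0 F275134 F274697 F274670
theorem F275136 : act 1 n98532 = n175710 := d17_8 F274694 (iv5 D174997) (iv1 F271854) F271852 F127871 (iv5 F152915) F152918 (iv5 F268282) F275134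
theorem E24669 : n98529 = n98500 := ((c15_4 (iv0 D98529) D98530 F275135 F275133)).symm
theorem F275137 : act 1 n98500 = n46068 := (sb E24669 (iv0 D98529))
def n175711 : Q := act 4 n83882
theorem D175711 : act 4 n83882 = n175711 := rfl
theorem F275138 : act 2 n175711 = n101661 := d1_1 D175711 (iv4 D101661) (iv2 F274692)
theorem F275139 : act 7 n175711 = n101645 := d11_2 (iv7 F274693) D175711 (iv4 D101645)
def n175712 : Q := act 6 n83882
theorem D175712 : act 6 n83882 = n175712 := rfl
theorem F275140 : act 2 n175712 = n101662 := d3_1 D175712 (iv6 D101662) (iv2 F274692)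
def n175713 : Q := act 5 n83883
theorem D175713 : act 5 n83883 = n175713 := rfl
theorem F275141 : act 2 n175713 = n101665 := d2_1 D175713 (iv5 D101665) (iv2 F274696)
theorem F275143 : act 0 n175713 = n173370 := d17_2 (iv1 F274695) D175713 (iv5 D173370) F155525 D99445 F156799 (iv5 D99722) (iv0 F156724) (iv4 F249550)
theorem F275144 : act 0 n173368 = n175713 := d21_1 D173368 (iv5 D175713) (iv6 D83883) (iv1 D38629) (iv6 D18388) F13575 (iv1 F13521) D18250 D38183 D82964
def n175714 : Q := act 2 n83884
theorem D175714 : act 2 n83884 = n175714 := rfl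
theorem F275145 : act 7 n83885 = n175714 := d15_2 (iv0 D83884) D83885 (iv2 D175714)
def n175715 : Q := act 3 n83884
theorem D175715 : act 3 n83884 = n175715 := rfl
def n175716 : Q := act 4 n83884
theorem D175716 : act 4 n83884 = n175716 := rfl
def n175717 : Q := act 6 n83884
theorem D175717 : act 6 n83884 = n175717 := rfl
def n175718 : Q := act 7 n83884
theorem D175718 : act 7 n83884 = n175718 := rfl
theorem F275146 : act 2 n175718 = n83885 := d4_1 D175718 F275145 (iv2 D175714)
def n175719 : Q := act 3 n83885
theorem D175719 : act 3 n83885 = n175719 := rfl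
def n175720 : Q := act 4 n83885
theorem D175720 : act 4 n83885 = n175720 := rfl
theorem F275147 : act 0 n175720 = n172402 := d18_2 (iv1 F128885) D175720 (iv4 D172402) (iv5 D82552) (iv4 F64069) F275098 (iv4 D83881) F59445 (iv5 F74519)
def n175722 : Q := act 0 n83886
theorem D175722 : act 0 n83886 = n175722 := rfl
theorem F275148 : act 1 n101681 = n175722 := d15_0 (iv0 D175722) (iv7 F275068) F275067
def n175723 : Q := act 1 n83886
theorem D175723 : act 1 n83886 = n175723 := rfl
theorem F275149 : act 1 n175723 = n101681 := d15_1 D175723 (iv7 D101681) (iv2 F128886)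
def n175724 : Q := act 3 n83886
theorem D175724 : act 3 n83886 = n175724 := rfl
theorem F275150 : act 6 n175724 = n84035 := d7_2 (iv6 F128887) D175724 (iv3 D84035)
def n175725 : Q := act 5 n83886
theorem D175725 : act 5 n83886 = n175725 := rfl
theorem F275151 : act 2 n175725 = n101680 := d2_1 D175725 (iv5 D101680) (iv2 F128886)
theorem F275152 : act 7 n175725 = n101883 := d13_2 F275068 D175725 (iv5 F275069)
theorem F275153 : act 4 n175725 = n101885 := d16_2 D83886 D175725 F156827 F74551 F35300 (iv4 F35296) (iv5 F74519) (iv7 D47283) (iv2 F59446)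
def n175726 : Q := act 0 n83887
theorem D175726 : act 0 n83887 = n175726 := rfl
theorem F275154 : act 1 n83892 = n175726 := d15_0 (iv0 D175726) (iv7 F128888) (iv2 F128889)
def n175728 : Q := act 3 n83887
theorem D175728 : act 3 n83887 = n175728 := rfl
theorem F275156 : act 7 n175728 = n83893 := d8_2 F128888 D175728 (iv3 D83893)
def n175729 : Q := act 4 n83887
theorem D175729 : act 4 n83887 = n175729 := rfl
theorem F275157 : act 2 n175729 = n83889 := d1_1 D175729 (iv4 D83889) D83887
theorem F275158 : act 7 n175729 = n83894 := d11_2 F128888 D175729 (iv4 D83894)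
def n175730 : Q := act 5 n83887
theorem D175730 : act 5 n83887 = n175730 := rfl
theorem F275159 : act 2 n175730 = n83890 := d2_1 D175730 (iv5 D83890) D83887
theorem F275160 : act 7 n175730 = n83895 := d13_2 F128888 D175730 (iv5 D83895)
def n175732 : Q := act 0 n83889
theorem D175732 : act 0 n83889 = n175732 := rfl
def n175733 : Q := act 1 n83889
theorem D175733 : act 1 n83889 = n175733 := rfl
theorem F275162 : act 1 n175733 = n83894 := d15_1 D175733 (iv7 F275158) F275157
def n175734 : Q := act 5 n83889
theorem D175734 : act 5 n83889 = n175734 := rfl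
def n175735 : Q := act 6 n83889
theorem D175735 : act 6 n83889 = n175735 := rfl
theorem F275163 : act 4 n175735 = n83891 := d10_1 D175735 (iv6 D83891) D83889
def n175736 : Q := act 7 n83889
theorem D175736 : act 7 n83889 = n175736 := rfl
theorem F275164 : act 2 n175736 = n83894 := d4_1 D175736 (iv7 F275158) F275157
theorem F275165 : act 4 n175736 = n83892 := d11_1 D175736 (iv7 D83892) D83889
theorem F275166 : act 1 n83894 = n175732 := d15_0 (iv0 D175732) D175736 F275164
theorem F275167 : act 3 n86939 = n175732 := d20_9 (iv4 D83894) (iv1 D38638) D38640 (iv3 F117195) F117193 (iv3 F117215) (iv4 F133181) (iv1 F133185) (iv4 F233167) (iv1 F275166)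
def n175737 : Q := act 0 n83890
theorem D175737 : act 0 n83890 = n175737 := rfl
def n175738 : Q := act 1 n83890
theorem D175738 : act 1 n83890 = n175738 := rfl
theorem F275168 : act 1 n175738 = n83895 := d15_1 D175738 (iv7 F275160) F275159
def n175739 : Q := act 4 n83890
theorem D175739 : act 4 n83890 = n175739 := rfl
def n175740 : Q := act 6 n83890
theorem D175740 : act 6 n83890 = n175740 := rfl
def n175741 : Q := act 7 n83890
theorem D175741 : act 7 n83890 = n175741 := rfl
theorem F275170 : act 5 n175741 = n83892 := d13_1 D175741 (iv7 D83892) D83890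
def n175752 : Q := act 5 n83894
theorem D175752 : act 5 n83894 = n175752 := rfl
def n175760 : Q := act 5 n83897
theorem D175760 : act 5 n83897 = n175760 := rfl
theorem F275178 : act 2 n175760 = n83902 := d2_1 D175760 (iv5 D83902) (iv2 F128890)
def n175761 : Q := act 6 n83897
theorem D175761 : act 6 n83897 = n175761 := rfl
theorem F275179 : act 2 n175761 = n83903 := d3_1 D175761 (iv6 D83903) (iv2 F128890)
def n175762 : Q := act 4 n83898
theorem D175762 : act 4 n83898 = n175762 := rfl
theorem F275181 : act 2 n175762 = n83906 := d1_1 D175762 (iv4 D83906) (iv2 F128891)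
def n175763 : Q := act 6 n83898
theorem D175763 : act 6 n83898 = n175763 := rfl
theorem F275182 : act 2 n175763 = n83907 := d3_1 D175763 (iv6 D83907) (iv2 F128891)
def n175764 : Q := act 0 n83899
theorem D175764 : act 0 n83899 = n175764 := rfl
def n175765 : Q := act 1 n83899
theorem D175765 : act 1 n83899 = n175765 := rfl
theorem F275183 : act 1 n175765 = n83911 := d15_1 D175765 (iv7 D83911) (iv2 F128892)
def n175767 : Q := act 7 n83899
theorem D175767 : act 7 n83899 = n175767 := rfl
theorem F275189 : act 2 n175767 = n83911 := d4_1 D175767 (iv7 D83911) (iv2 F128892)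
theorem F275191 : act 1 n83911 = n175764 := d15_0 (iv0 D175764) D175767 F275189
theorem F275193 : act 1 n175767 = n83908 := d15_0 (iv0 D83908) D83911 (iv2 F275189)
def n175768 : Q := act 5 n83900
theorem D175768 : act 5 n83900 = n175768 := rfl
theorem F275194 : act 3 n175768 = n85942 := d6_1 D175768 (iv5 D85942) (iv3 F128893)
def n175769 : Q := act 0 n83902
theorem D175769 : act 0 n83902 = n175769 := rfl
theorem F275195 : act 5 n175769 = n150232 := d21_2 D83902 D175769 (iv6 D150232) F236322 (iv6 D47002) (iv5 F58716) (iv1 D19600) D19603 D41634 (iv1 F155164)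
theorem F275196 : act 3 n150237 = n175769 := d6_3 F275195 F236435 D150237
def n175770 : Q := act 1 n83902
theorem D175770 : act 1 n83902 = n175770 := rfl
def n175771 : Q := act 4 n83902
theorem D175771 : act 4 n83902 = n175771 := rfl
def n175772 : Q := act 6 n83902
theorem D175772 : act 6 n83902 = n175772 := rfl
def n175774 : Q := act 5 n83903
theorem D175774 : act 5 n83903 = n175774 := rfl
theorem F275197 : act 3 n175774 = n122362 := d6_1 D175774 F195715 F131747
theorem F275198 : act 0 n175774 = n150108 := d21_7 (iv5 F58716) (iv1 D19600) D19603 D41634 (iv1 F155164) D83903 D175774 (iv5 D150108) (iv6 D70638) (iv1 F51875)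
def n175775 : Q := act 7 n83903
theorem D175775 : act 7 n83903 = n175775 := rfl
theorem F275200 : act 3 n175775 = n84767 := d8_1 D175775 (iv7 F131749) F131747
def n175776 : Q := act 2 n83904
theorem D175776 : act 2 n83904 = n175776 := rfl
theorem F275205 : act 7 n83905 = n175776 := d15_2 (iv0 D83904) D83905 (iv2 D175776)
def n175777 : Q := act 3 n83904
theorem D175777 : act 3 n83904 = n175777 := rfl
def n175778 : Q := act 4 n83904
theorem D175778 : act 4 n83904 = n175778 := rfl
def n175779 : Q := act 5 n83904
theorem D175779 : act 5 n83904 = n175779 := rfl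
def n175780 : Q := act 6 n83904
theorem D175780 : act 6 n83904 = n175780 := rfl
def n175781 : Q := act 7 n83904
theorem D175781 : act 7 n83904 = n175781 := rfl
theorem F275206 : act 2 n175781 = n83905 := d4_1 D175781 F275205 (iv2 D175776)
def n175782 : Q := act 3 n83905
theorem D175782 : act 3 n83905 = n175782 := rfl
def n175783 : Q := act 4 n83905
theorem D175783 : act 4 n83905 = n175783 := rfl
def n175784 : Q := act 5 n83905
theorem D175784 : act 5 n83905 = n175784 := rfl
def n175785 : Q := act 6 n83905
theorem D175785 : act 6 n83905 = n175785 := rfl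
def n175786 : Q := act 0 n83906
theorem D175786 : act 0 n83906 = n175786 := rfl
def n175787 : Q := act 1 n83906
theorem D175787 : act 1 n83906 = n175787 := rfl
def n175788 : Q := act 3 n83906
theorem D175788 : act 3 n83906 = n175788 := rfl
theorem F275207 : act 4 n175788 = n83922 := d5_2 D83906 D175788 (iv3 D83922) (iv4 D38652) (iv3 F59456)
def n175789 : Q := act 5 n83906
theorem D175789 : act 5 n83906 = n175789 := rfl
def n175790 : Q := act 6 n83906
theorem D175790 : act 6 n83906 = n175790 := rfl
theorem F275208 : act 4 n175790 = n83907 := d10_1 D175790 (iv6 D83907) D83906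
def n175791 : Q := act 0 n83907
theorem D175791 : act 0 n83907 = n175791 := rfl
def n175792 : Q := act 1 n83907
theorem D175792 : act 1 n83907 = n175792 := rfl
def n175793 : Q := act 5 n83907
theorem D175793 : act 5 n83907 = n175793 := rfl
theorem F275210 : act 6 n175793 = n83910 := d12_2 D83907 D175793 (iv5 D83910) (iv6 D38642) D38641
def n175794 : Q := act 7 n83907
theorem D175794 : act 7 n83907 = n175794 := rfl
theorem F275211 : act 3 n175794 = n83927 := d8_1 D175794 (iv7 D83927) (iv3 F128895)
def n175796 : Q := act 3 n83908
theorem D175796 : act 3 n83908 = n175796 := rfl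
def n175808 : Q := act 0 n83913
theorem D175808 : act 0 n83913 = n175808 := rfl
def n175809 : Q := act 1 n83913
theorem D175809 : act 1 n83913 = n175809 := rfl
def n175810 : Q := act 4 n83913
theorem D175810 : act 4 n83913 = n175810 := rfl
def n175811 : Q := act 6 n83913
theorem D175811 : act 6 n83913 = n175811 := rfl
theorem F275217 : act 3 n175811 = n83915 := d7_1 D175811 (iv6 D83915) D83913
theorem F275218 : act 5 n175811 = n172977 := d12_1 D175811 (iv6 D172977) (iv5 D82798) D82799 (iv5 F128909)
def n175812 : Q := act 3 n83914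
theorem D175812 : act 3 n83914 = n175812 := rfl
def n175813 : Q := act 5 n83914
theorem D175813 : act 5 n83914 = n175813 := rfl
theorem F275221 : act 4 n175813 = n84108 := d16_2 D83914 D175813 (iv5 D84108) (iv4 D38754) D38755 (iv4 F128917) (iv5 D83918) F127962 (iv2 F127961)
def n175814 : Q := act 6 n83914
theorem D175814 : act 6 n83914 = n175814 := rfl
theorem F275224 : act 4 n175814 = n83915 := d10_1 D175814 (iv6 D83915) D83914
def n175815 : Q := act 0 n83915
theorem D175815 : act 0 n83915 = n175815 := rfl
def n175816 : Q := act 1 n83915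
theorem D175816 : act 1 n83915 = n175816 := rfl
def n175817 : Q := act 7 n83915
theorem D175817 : act 7 n83915 = n175817 := rfl
theorem F275225 : act 5 n175817 = n172984 := d13_1 D175817 (iv7 D172984) (iv5 F128912)
def n175818 : Q := act 3 n83917
theorem D175818 : act 3 n83917 = n175818 := rfl
def n175819 : Q := act 5 n83917
theorem D175819 : act 5 n83917 = n175819 := rfl
theorem F275227 : act 4 n175819 = n84105 := d9_1 D175819 (iv5 D84105) (iv4 D38751) F29589 (iv4 F58897) (iv5 F59464) D83914 D175813 F275221 (iv5 D84108) (iv4 D38754) D38755 (iv4 F128917) (iv5 D83918) D83917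
def n175820 : Q := act 6 n83917
theorem D175820 : act 6 n83917 = n175820 := rfl
theorem F275231 : act 4 n175820 = n83919 := d10_1 D175820 (iv6 D83919) D83917
def n175821 : Q := act 7 n83919
theorem D175821 : act 7 n83919 = n175821 := rfl
def n175822 : Q := act 3 n83920
theorem D175822 : act 3 n83920 = n175822 := rfl
def n175823 : Q := act 6 n83920
theorem D175823 : act 6 n83920 = n175823 := rfl
theorem F275232 : act 4 n175823 = n173701 := d10_1 D175823 (iv6 D173701) (iv4 F128921)
def n175824 : Q := act 3 n83921
theorem D175824 : act 3 n83921 = n175824 := rfl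
def n175825 : Q := act 6 n83921
theorem D175825 : act 6 n83921 = n175825 := rfl
theorem F275233 : act 4 n175825 = n173703 := d10_1 D175825 (iv6 D173703) (iv4 F128924)
def n175829 : Q := act 6 n83922
theorem D175829 : act 6 n83922 = n175829 := rfl
theorem F275234 : act 3 n175829 = n83923 := d7_1 D175829 (iv6 D83923) D83922
def n175833 : Q := act 7 n83923
theorem D175833 : act 7 n83923 = n175833 := rfl
theorem F275235 : act 4 n175833 = n83927 := d11_1 D175833 (iv7 D83927) (iv4 F128925)
def n175837 : Q := act 5 n83924
theorem D175837 : act 5 n83924 = n175837 := rfl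
theorem F275237 : act 0 n175837 = n175664 := d21_1 D175837 (iv5 D175664) (iv6 D83866) (iv1 D38624) F29562 (iv5 D8662) D8660 D18392 D38653 D83924
theorem F275238 : act 6 n175587 = n83924 := d21_5 (iv5 D18386) D18384 D38616 D83835 D175587 D175837 F275237 (iv5 D175664) (iv6 D83866) (iv1 D38624)
def n175839 : Q := act 3 n83925
theorem D175839 : act 3 n83925 = n175839 := rfl
def n175840 : Q := act 4 n83925
theorem D175840 : act 4 n83925 = n175840 := rfl
def n175841 : Q := act 5 n83925
theorem D175841 : act 5 n83925 = n175841 := rfl
def n175842 : Q := act 6 n83925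
theorem D175842 : act 6 n83925 = n175842 := rfl
def n175846 : Q := act 7 n83926
theorem D175846 : act 7 n83926 = n175846 := rfl
theorem F275244 : act 2 n175846 = n158654 := d4_1 D175846 (iv7 D158654) (iv2 F128926)
theorem F275245 : act 5 n175846 = n83927 := d13_1 D175846 (iv7 D83927) D83926
theorem F275249 : act 1 n175846 = n158652 := d15_0 (iv0 D158652) D158654 (iv2 F275244)
theorem F275250 : act 5 n175662 = n158652 := d21_0 (iv1 F275249) F275245 (iv6 F272131) (iv1 F272133) (iv6 F273885) (iv5 F273879) (iv1 F273880) (iv5 D83865) D83866 D175662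
def n175847 : Q := act 3 n83929
theorem D175847 : act 3 n83929 = n175847 := rfl
theorem F275251 : act 5 n175847 = n173620 := d6_2 (iv5 F128931) D175847 (iv3 D173620)
def n175848 : Q := act 1 n83931
theorem D175848 : act 1 n83931 = n175848 := rfl
def n175851 : Q := act 0 n83932
theorem D175851 : act 0 n83932 = n175851 := rfl
theorem F275255 : act 4 n175851 = n85081 := d20_2 D83932 D175851 F272205 (iv1 D173689) (iv3 D83065) F59754 (iv1 F59463) (iv4 D18396) D18395 D38660
theorem F275257 : act 1 n83937 = n175851 := d15_0 (iv0 D175851) (iv7 F274324) (iv2 F274327)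
theorem F275258 : act 0 n175332 = n173722 := d20_7 (iv4 F275255) (iv1 F275257) (iv4 D83937) (iv3 F187919) (iv1 F274139) F274137 D175332 (iv4 D173722) D173721 (iv1 F272287)
def n175852 : Q := act 3 n83932
theorem D175852 : act 3 n83932 = n175852 := rfl
def n175855 : Q := act 0 n83933
theorem D175855 : act 0 n83933 = n175855 := rfl
theorem F275261 : act 1 n83938 = n175855 := d15_0 (iv0 D175855) (iv7 F274325) (iv2 F274326)
def n175856 : Q := act 1 n83933
theorem D175856 : act 1 n83933 = n175856 := rfl
theorem F275262 : act 1 n175856 = n83938 := d15_1 D175856 F274318 (iv2 F274320)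
def n175864 : Q := act 6 n83937
theorem D175864 : act 6 n83937 = n175864 := rfl
theorem F275263 : act 4 n175864 = n83939 := d10_1 D175864 (iv6 D83939) D83937
def n175865 : Q := act 4 n83938
theorem D175865 : act 4 n83938 = n175865 := rfl
def n175866 : Q := act 6 n83938
theorem D175866 : act 6 n83938 = n175866 := rfl
def n175873 : Q := act 4 n83941
theorem D175873 : act 4 n83941 = n175873 := rfl
def n175874 : Q := act 6 n83941
theorem D175874 : act 6 n83941 = n175874 := rfl
theorem F275268 : act 2 n175874 = n83950 := d3_1 D175874 (iv6 D83950) (iv2 F128935)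
def n175878 : Q := act 7 n83942
theorem D175878 : act 7 n83942 = n175878 := rfl
theorem F275271 : act 2 n175878 = n83954 := d4_1 D175878 (iv7 D83954) (iv2 F128936)
theorem F275273 : act 1 n83952 = n175878 := d15_1 D83952 (iv7 D175878) F128936
theorem F275274 : act 1 n175878 = n83951 := d15_0 (iv0 D83951) D83954 (iv2 F275271)
def n175879 : Q := act 2 n83943
theorem D175879 : act 2 n83943 = n175879 := rfl
theorem F275275 : act 7 n83944 = n175879 := d15_2 (iv0 D83943) D83944 (iv2 D175879)
def n175882 : Q := act 7 n83943
theorem D175882 : act 7 n83943 = n175882 := rfl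
theorem F275276 : act 2 n175882 = n83944 := d4_1 D175882 F275275 (iv2 D175879)
def n175883 : Q := act 3 n83944
theorem D175883 : act 3 n83944 = n175883 := rfl
def n175905 : Q := act 1 n83949
theorem D175905 : act 1 n83949 = n175905 := rfl
def n175906 : Q := act 3 n83949
theorem D175906 : act 3 n83949 = n175906 := rfl
theorem F275283 : act 4 n175906 = n83955 := d5_2 D83949 D175906 (iv3 D83955) (iv4 D38668) (iv3 F59480)
def n175908 : Q := act 6 n83949
theorem D175908 : act 6 n83949 = n175908 := rfl
theorem F275284 : act 4 n175908 = n83950 := d10_1 D175908 (iv6 D83950) D83949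
def n175909 : Q := act 0 n83950
theorem D175909 : act 0 n83950 = n175909 := rfl
def n175910 : Q := act 1 n83950
theorem D175910 : act 1 n83950 = n175910 := rfl
def n175911 : Q := act 5 n83950
theorem D175911 : act 5 n83950 = n175911 := rfl
theorem F275286 : act 6 n175911 = n83953 := d12_2 D83950 D175911 (iv5 D83953) (iv6 D38665) D38664
def n175912 : Q := act 7 n83950
theorem D175912 : act 7 n83950 = n175912 := rfl
theorem F275287 : act 3 n175912 = n83960 := d8_1 D175912 (iv7 D83960) (iv3 F128939)
def n175913 : Q := act 2 n83951
theorem D175913 : act 2 n83951 = n175913 := rfl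
theorem F275288 : act 7 n83952 = n175913 := d15_2 (iv0 D83951) D83952 (iv2 D175913)
def n175918 : Q := act 7 n83951
theorem D175918 : act 7 n83951 = n175918 := rfl
theorem F275289 : act 2 n175918 = n83952 := d4_1 D175918 F275288 (iv2 D175913)
def n175920 : Q := act 4 n83952
theorem D175920 : act 4 n83952 = n175920 := rfl
def n175923 : Q := act 0 n83953
theorem D175923 : act 0 n83953 = n175923 := rfl
def n175926 : Q := act 7 n83953
theorem D175926 : act 7 n83953 = n175926 := rfl
theorem F275291 : act 5 n175926 = n83954 := d13_1 D175926 (iv7 D83954) D83953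
def n175927 : Q := act 0 n83955
theorem D175927 : act 0 n83955 = n175927 := rfl
def n175928 : Q := act 1 n83955
theorem D175928 : act 1 n83955 = n175928 := rfl
def n175929 : Q := act 2 n83955
theorem D175929 : act 2 n83955 = n175929 := rfl
def n175930 : Q := act 6 n83955
theorem D175930 : act 6 n83955 = n175930 := rfl
theorem F275292 : act 3 n175930 = n83956 := d7_1 D175930 (iv6 D83956) D83955
def n175931 : Q := act 0 n83956
theorem D175931 : act 0 n83956 = n175931 := rfl
def n175932 : Q := act 1 n83956
theorem D175932 : act 1 n83956 = n175932 := rfl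
def n175933 : Q := act 5 n83956
theorem D175933 : act 5 n83956 = n175933 := rfl
def n175934 : Q := act 7 n83956
theorem D175934 : act 7 n83956 = n175934 := rfl
theorem F275293 : act 4 n175934 = n83960 := d11_1 D175934 (iv7 D83960) (iv4 F128942)
def n175935 : Q := act 3 n83957
theorem D175935 : act 3 n83957 = n175935 := rfl
def n175936 : Q := act 4 n83957
theorem D175936 : act 4 n83957 = n175936 := rfl
def n175937 : Q := act 5 n83957
theorem D175937 : act 5 n83957 = n175937 := rfl
def n175938 : Q := act 6 n83957
theorem D175938 : act 6 n83957 = n175938 := rfl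
def n175939 : Q := act 3 n83958
theorem D175939 : act 3 n83958 = n175939 := rfl
def n175940 : Q := act 4 n83958
theorem D175940 : act 4 n83958 = n175940 := rfl
def n175941 : Q := act 0 n83959
theorem D175941 : act 0 n83959 = n175941 := rfl
def n175942 : Q := act 1 n83959
theorem D175942 : act 1 n83959 = n175942 := rfl
def n175943 : Q := act 4 n83959
theorem D175943 : act 4 n83959 = n175943 := rfl
theorem F275294 : act 6 n175943 = n83962 := d10_2 (iv6 F128943) D175943 (iv4 D83962)
def n175944 : Q := act 7 n83959
theorem D175944 : act 7 n83959 = n175944 := rfl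
theorem F275295 : act 5 n175944 = n83960 := d13_1 D175944 (iv7 D83960) D83959
def n175945 : Q := act 3 n83962
theorem D175945 : act 3 n83962 = n175945 := rfl
def n175946 : Q := act 6 n83963
theorem D175946 : act 6 n83963 = n175946 := rfl
theorem F275297 : act 5 n175946 = n158199 := d12_1 D175946 (iv6 D158199) (iv5 F127973) F127974 (iv5 F128947)
theorem F275298 : act 0 n175946 = n175433 := d21_4 F118944 (iv1 F118932) (iv5 F128947) D175946 (iv6 D175433) (iv5 D83772) (iv1 D38599) D38600 F59417 D45927
def n175957 : Q := act 4 n83966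
theorem D175957 : act 4 n83966 = n175957 := rfl
theorem F275301 : act 2 n175957 = n83967 := d1_1 D175957 (iv4 D83967) D83966
def n175958 : Q := act 5 n83966
theorem D175958 : act 5 n83966 = n175958 := rfl
theorem F275302 : act 2 n175958 = n83968 := d2_1 D175958 (iv5 D83968) D83966
def n175959 : Q := act 6 n83966
theorem D175959 : act 6 n83966 = n175959 := rfl
theorem F275303 : act 2 n175959 = n83969 := d3_1 D175959 (iv6 D83969) D83966
def n175960 : Q := act 0 n83967
theorem D175960 : act 0 n83967 = n175960 := rfl
def n175961 : Q := act 1 n83967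
theorem D175961 : act 1 n83967 = n175961 := rfl
theorem F275304 : act 4 n174378 = n175961 := d20_6 (iv4 F113539) (iv1 F113541) (iv4 F113622) (iv3 F250009) F250010 (iv3 F273223) (iv1 D175961) (iv4 D83967) (iv3 D38675) (iv1 F59086)
def n175962 : Q := act 3 n83967
theorem D175962 : act 3 n83967 = n175962 := rfl
theorem F275305 : act 4 n175962 = n83972 := d5_2 D83967 D175962 (iv3 D83972) (iv4 D38676) D38675
def n175963 : Q := act 5 n83967
theorem D175963 : act 5 n83967 = n175963 := rfl
def n175964 : Q := act 6 n83967
theorem D175964 : act 6 n83967 = n175964 := rfl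
theorem F275306 : act 4 n175964 = n83969 := d10_1 D175964 (iv6 D83969) D83967
def n175967 : Q := act 0 n83969
theorem D175967 : act 0 n83969 = n175967 := rfl
def n175968 : Q := act 1 n83969
theorem D175968 : act 1 n83969 = n175968 := rfl
def n175969 : Q := act 5 n83969
theorem D175969 : act 5 n83969 = n175969 := rfl
theorem F275307 : act 3 n175969 = n83976 := d6_1 D175969 (iv5 D83976) (iv3 F128951)
def n175970 : Q := act 7 n83969
theorem D175970 : act 7 n83969 = n175970 := rfl
def n175971 : Q := act 3 n83970
theorem D175971 : act 3 n83970 = n175971 := rfl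
theorem F275309 : act 5 n175971 = n172276 := d6_2 (iv5 F128952) D175971 (iv3 D172276)
theorem F275310 : act 7 n175971 = n173905 := d8_2 F128955 D175971 (iv3 D173905)
def n175972 : Q := act 6 n83970
theorem D175972 : act 6 n83970 = n175972 := rfl
theorem F275311 : act 4 n175972 = n173692 := d10_1 D175972 (iv6 D173692) (iv4 F128953)
def n175973 : Q := act 3 n83971
theorem D175973 : act 3 n83971 = n175973 := rfl
def n175977 : Q := act 6 n83972
theorem D175977 : act 6 n83972 = n175977 := rfl
theorem F275312 : act 3 n175977 = n83973 := d7_1 D175977 (iv6 D83973) D83972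
def n175978 : Q := act 0 n83973
theorem D175978 : act 0 n83973 = n175978 := rfl
def n175979 : Q := act 1 n83973
theorem D175979 : act 1 n83973 = n175979 := rfl
def n175980 : Q := act 5 n83973
theorem D175980 : act 5 n83973 = n175980 := rfl
def n175981 : Q := act 7 n83973
theorem D175981 : act 7 n83973 = n175981 := rfl
theorem F275313 : act 4 n175981 = n83977 := d11_1 D175981 (iv7 D83977) (iv4 F128959)
def n175982 : Q := act 2 n83974
theorem D175982 : act 2 n83974 = n175982 := rfl
theorem F275314 : act 7 n83975 = n175982 := d15_2 (iv0 D83974) D83975 (iv2 D175982)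
def n175983 : Q := act 3 n83974
theorem D175983 : act 3 n83974 = n175983 := rfl
def n175984 : Q := act 4 n83974
theorem D175984 : act 4 n83974 = n175984 := rfl
def n175985 : Q := act 5 n83974
theorem D175985 : act 5 n83974 = n175985 := rfl
def n175986 : Q := act 6 n83974
theorem D175986 : act 6 n83974 = n175986 := rfl
theorem F275315 : act 5 n175986 = n158653 := d21_6 F127959 F117910 (iv5 D38677) D38678 D83974 D175986 (iv1 D158653) (iv5 F127970) (iv6 D83040) D83037
def n175987 : Q := act 7 n83974
theorem D175987 : act 7 n83974 = n175987 := rfl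
theorem F275316 : act 2 n175987 = n83975 := d4_1 D175987 F275314 (iv2 D175982)
def n175988 : Q := act 3 n83975
theorem D175988 : act 3 n83975 = n175988 := rfl
def n175989 : Q := act 4 n83975
theorem D175989 : act 4 n83975 = n175989 := rfl
def n175990 : Q := act 5 n83975
theorem D175990 : act 5 n83975 = n175990 := rfl
theorem F275317 : act 6 n175037 = n175990 := d21_5 (iv5 D82943) F118118 (iv5 F59368) D83591 D175037 (iv5 D175990) (iv1 D83975) D83976 F199338 (iv1 F199336)
def n175991 : Q := act 6 n83975
theorem D175991 : act 6 n83975 = n175991 := rfl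
def n175992 : Q := act 1 n83976
theorem D175992 : act 1 n83976 = n175992 := rfl
theorem F275318 : act 5 n175938 = n175992 := d21_6 F59083 (iv1 F29459) D18397 D38669 D83957 D175938 (iv1 D175992) (iv5 D83976) (iv6 D38678) (iv1 F59086)
def n175993 : Q := act 4 n83976
theorem D175993 : act 4 n83976 = n175993 := rfl
theorem F275319 : act 6 n175993 = n174521 := d10_2 (iv6 F199338) D175993 F273402
def n175994 : Q := act 7 n83976
theorem D175994 : act 7 n83976 = n175994 := rfl
theorem F275320 : act 5 n175994 = n83977 := d13_1 D175994 (iv7 D83977) D83976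
def n176005 : Q := act 4 n83980
theorem D176005 : act 4 n83980 = n176005 := rfl
theorem F275323 : act 2 n176005 = n83981 := d1_1 D176005 (iv4 D83981) D83980
def n176006 : Q := act 5 n83980
theorem D176006 : act 5 n83980 = n176006 := rfl
theorem F275324 : act 2 n176006 = n83982 := d2_1 D176006 (iv5 D83982) D83980
def n176007 : Q := act 6 n83980
theorem D176007 : act 6 n83980 = n176007 := rfl
theorem F275325 : act 2 n176007 = n83983 := d3_1 D176007 (iv6 D83983) D83980
def n176010 : Q := act 3 n83981
theorem D176010 : act 3 n83981 = n176010 := rfl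
theorem F275326 : act 4 n176010 = n83984 := d5_2 D83981 D176010 (iv3 D83984) (iv4 D38681) D38680
def n176012 : Q := act 6 n83981
theorem D176012 : act 6 n83981 = n176012 := rfl
theorem F275327 : act 4 n176012 = n83983 := d10_1 D176012 (iv6 D83983) D83981
def n176017 : Q := act 5 n83983
theorem D176017 : act 5 n83983 = n176017 := rfl
theorem F275328 : act 3 n176017 = n83988 := d6_1 D176017 (iv5 D83988) (iv3 F128961)
def n176019 : Q := act 0 n83984
theorem D176019 : act 0 n83984 = n176019 := rfl
def n176020 : Q := act 1 n83984
theorem D176020 : act 1 n83984 = n176020 := rfl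
def n176021 : Q := act 2 n83984
theorem D176021 : act 2 n83984 = n176021 := rfl
def n176022 : Q := act 6 n83984
theorem D176022 : act 6 n83984 = n176022 := rfl
theorem F275330 : act 3 n176022 = n83985 := d7_1 D176022 (iv6 D83985) D83984
def n176038 : Q := act 1 n83988
theorem D176038 : act 1 n83988 = n176038 := rfl
theorem F275335 : act 5 n175587 = n176038 := d21_0 (iv1 D176038) (iv5 D83988) (iv6 D38683) (iv1 D18400) (iv6 F29562) (iv5 D18386) D18384 D38616 D83835 D175587
def n176039 : Q := act 4 n83988
theorem D176039 : act 4 n83988 = n176039 := rfl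
def n176040 : Q := act 7 n83988
theorem D176040 : act 7 n83988 = n176040 := rfl
def n176041 : Q := act 0 n83991
theorem D176041 : act 0 n83991 = n176041 := rfl
def n176042 : Q := act 1 n83991
theorem D176042 : act 1 n83991 = n176042 := rfl
def n176043 : Q := act 2 n83991
theorem D176043 : act 2 n83991 = n176043 := rfl
def n176044 : Q := act 4 n83991
theorem D176044 : act 4 n83991 = n176044 := rfl
def n176045 : Q := act 6 n83991
theorem D176045 : act 6 n83991 = n176045 := rfl
theorem F275337 : act 3 n176045 = n83992 := d7_1 D176045 (iv6 D83992) D83991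
def n176046 : Q := act 0 n83992
theorem D176046 : act 0 n83992 = n176046 := rfl
def n176047 : Q := act 1 n83992
theorem D176047 : act 1 n83992 = n176047 := rfl
def n176048 : Q := act 5 n83992
theorem D176048 : act 5 n83992 = n176048 := rfl
def n176049 : Q := act 7 n83992
theorem D176049 : act 7 n83992 = n176049 := rfl
def n176050 : Q := act 0 n83994
theorem D176050 : act 0 n83994 = n176050 := rfl
def n176051 : Q := act 1 n83994
theorem D176051 : act 1 n83994 = n176051 := rfl
def n176052 : Q := act 2 n83994
theorem D176052 : act 2 n83994 = n176052 := rfl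
def n176053 : Q := act 4 n83994
theorem D176053 : act 4 n83994 = n176053 := rfl
def n176054 : Q := act 6 n83994
theorem D176054 : act 6 n83994 = n176054 := rfl
def n176071 : Q := act 1 n83998
theorem D176071 : act 1 n83998 = n176071 := rfl
theorem F275345 : act 1 n176071 = n84000 := d15_1 D176071 (iv7 D84000) D83998
def n176072 : Q := act 5 n83998
theorem D176072 : act 5 n83998 = n176072 := rfl
theorem F275346 : act 2 n176072 = n83999 := d2_1 D176072 (iv5 D83999) D83998
def n176073 : Q := act 0 n83999
theorem D176073 : act 0 n83999 = n176073 := rfl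
def n176074 : Q := act 1 n83999
theorem D176074 : act 1 n83999 = n176074 := rfl
def n176075 : Q := act 4 n83999
theorem D176075 : act 4 n83999 = n176075 := rfl
def n176076 : Q := act 6 n83999
theorem D176076 : act 6 n83999 = n176076 := rfl
theorem F275347 : act 3 n176076 = n84001 := d7_1 D176076 (iv6 D84001) (iv3 F128965)
def n176077 : Q := act 6 n84000
theorem D176077 : act 6 n84000 = n176077 := rfl
theorem F275348 : act 3 n176077 = n84002 := d7_1 D176077 (iv6 D84002) (iv3 F128966)
def n176081 : Q := act 0 n84002
theorem D176081 : act 0 n84002 = n176081 := rfl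
def n176082 : Q := act 1 n84002
theorem D176082 : act 1 n84002 = n176082 := rfl
def n176083 : Q := act 5 n84002
theorem D176083 : act 5 n84002 = n176083 := rfl
def n176084 : Q := act 2 n84003
theorem D176084 : act 2 n84003 = n176084 := rfl
theorem F275349 : act 7 n84004 = n176084 := d15_2 (iv0 D84003) D84004 (iv2 D176084)
def n176085 : Q := act 3 n84003
theorem D176085 : act 3 n84003 = n176085 := rfl
def n176086 : Q := act 4 n84003
theorem D176086 : act 4 n84003 = n176086 := rfl
def n176087 : Q := act 5 n84003
theorem D176087 : act 5 n84003 = n176087 := rfl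
def n176088 : Q := act 6 n84003
theorem D176088 : act 6 n84003 = n176088 := rfl
theorem F275350 : act 5 n176088 = n174888 := d21_6 (iv5 D38213) (iv1 F29458) (iv5 F29567) D38689 D84003 D176088 (iv1 D174888) (iv5 F272090) (iv6 D173619) (iv1 D83038)
def n176089 : Q := act 7 n84003
theorem D176089 : act 7 n84003 = n176089 := rfl
theorem F275351 : act 2 n176089 = n84004 := d4_1 D176089 F275349 (iv2 D176084)
def n176090 : Q := act 3 n84004
theorem D176090 : act 3 n84004 = n176090 := rfl
def n176091 : Q := act 4 n84004
theorem D176091 : act 4 n84004 = n176091 := rfl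
def n176092 : Q := act 5 n84004
theorem D176092 : act 5 n84004 = n176092 := rfl
def n176093 : Q := act 6 n84004
theorem D176093 : act 6 n84004 = n176093 := rfl
def n176094 : Q := act 0 n84005
theorem D176094 : act 0 n84005 = n176094 := rfl
theorem F275352 : act 1 n101682 = n176094 := d15_0 (iv0 D176094) (iv7 F275066) F275064
def n176095 : Q := act 1 n84005
theorem D176095 : act 1 n84005 = n176095 := rfl
theorem F275353 : act 1 n176095 = n101682 := d15_1 D176095 (iv7 F270131) F270129
def n176096 : Q := act 4 n84005
theorem D176096 : act 4 n84005 = n176096 := rfl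
theorem F275354 : act 6 n176096 = n84006 := d10_2 (iv6 F128968) D176096 (iv4 D84006)
def n176097 : Q := act 3 n84006
theorem D176097 : act 3 n84006 = n176097 := rfl
theorem F275355 : act 7 n176097 = n84035 := d8_2 (iv7 F128969) D176097 (iv3 D84035)
def n176099 : Q := act 3 n84007
theorem D176099 : act 3 n84007 = n176099 := rfl
theorem F275357 : act 4 n176099 = n162598 := d20_6 F29479 D36111 F121884 D38692 D84007 D176099 (iv1 D162598) (iv4 F126953) (iv3 D82410) F121886
def n176100 : Q := act 4 n84007
theorem D176100 : act 4 n84007 = n176100 := rfl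
def n176101 : Q := act 5 n84007
theorem D176101 : act 5 n84007 = n176101 := rfl
def n176105 : Q := act 4 n84008
theorem D176105 : act 4 n84008 = n176105 := rfl
theorem F275361 : act 3 n170799 = n176105 := d20_5 F89557 (iv1 F44045) D37496 D81885 D170799 (iv4 D176105) (iv1 D84008) F184748 (iv3 F184747) (iv1 F89561)
def n176108 : Q := act 5 n84009
theorem D176108 : act 5 n84009 = n176108 := rfl
theorem F275362 : act 2 n176108 = n84010 := d2_1 D176108 (iv5 D84010) D84009
def n176109 : Q := act 6 n84009
theorem D176109 : act 6 n84009 = n176109 := rfl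
theorem F275363 : act 2 n176109 = n84011 := d3_1 D176109 (iv6 D84011) D84009
def n176110 : Q := act 0 n84010
theorem D176110 : act 0 n84010 = n176110 := rfl
def n176111 : Q := act 1 n84010
theorem D176111 : act 1 n84010 = n176111 := rfl
def n176112 : Q := act 4 n84010
theorem D176112 : act 4 n84010 = n176112 := rfl
def n176113 : Q := act 6 n84010
theorem D176113 : act 6 n84010 = n176113 := rfl
theorem F275364 : act 3 n176113 = n84015 := d7_1 D176113 (iv6 D84015) (iv3 F128970)
def n176117 : Q := act 3 n84012
theorem D176117 : act 3 n84012 = n176117 := rfl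
theorem F275367 : act 5 n176117 = n158346 := d6_2 (iv5 F128972) D176117 F249485
def n176118 : Q := act 4 n84012
theorem D176118 : act 4 n84012 = n176118 := rfl
theorem F275369 : act 0 n176118 = n84214 := d18_2 D84012 D176118 (iv4 D84214) (iv5 D38835) (iv4 D18456) F29295 (iv4 F58640) F58644 D38694
def n176119 : Q := act 6 n84012
theorem D176119 : act 6 n84012 = n176119 := rfl
theorem F275371 : act 2 n176119 = n170686 := d3_1 D176119 F268192 F128976
theorem F275372 : act 5 n176119 = n158348 := d12_1 D176119 (iv6 D158348) (iv5 D75520) D75521 (iv5 F128972)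
def n176120 : Q := act 4 n84013
theorem D176120 : act 4 n84013 = n176120 := rfl
theorem F275375 : act 1 n176120 = n84214 := d18_6 D98272 F151664 (iv1 F113078) (iv4 F113517) F128979 D176120 (iv4 D84214) F129235 F129234
def n176121 : Q := act 1 n84014
theorem D176121 : act 1 n84014 = n176121 := rfl
theorem F275376 : act 1 n176121 = n84023 := d15_1 D176121 (iv7 F270098) F270097
theorem F275377 : act 4 n176121 = n172058 := d18_7 F121886 F29479 D36111 F121884 D38694 D84014 D176121 F270149 (iv5 D82411)
def n176122 : Q := act 3 n84014
theorem D176122 : act 3 n84014 = n176122 := rfl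
def n176123 : Q := act 5 n84014
theorem D176123 : act 5 n84014 = n176123 := rfl
theorem F275378 : act 4 n176123 = n84244 := d16_2 D84014 D176123 F260359 (iv4 D165093) (iv5 D79319) (iv4 F121715) D38699 (iv7 F126907) F126906
theorem F275379 : act 1 n176123 = n173892 := d17_6 (iv1 D38702) (iv5 D18406) D18404 D38694 D84014 D176123 (iv5 D173892) (iv0 F128992) (iv4 D84031)
def n176124 : Q := act 6 n84014
theorem D176124 : act 6 n84014 = n176124 := rfl
theorem F275380 : act 4 n176124 = n84015 := d10_1 D176124 (iv6 D84015) D84014
def n176125 : Q := act 0 n84015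
theorem D176125 : act 0 n84015 = n176125 := rfl
def n176126 : Q := act 1 n84015
theorem D176126 : act 1 n84015 = n176126 := rfl
def n176127 : Q := act 5 n84015
theorem D176127 : act 5 n84015 = n176127 := rfl
theorem F275381 : act 2 n176127 = n158692 := d2_1 D176127 (iv5 F270100) F270099
theorem F275382 : act 6 n176127 = n84016 := d12_2 D84015 D176127 (iv5 D84016) (iv6 D38695) D38694
def n176128 : Q := act 7 n84015
theorem D176128 : act 7 n84015 = n176128 := rfl
def n176129 : Q := act 2 n84017
theorem D176129 : act 2 n84017 = n176129 := rfl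
theorem F275383 : act 7 n84018 = n176129 := d15_2 (iv0 D84017) D84018 (iv2 D176129)
def n176130 : Q := act 3 n84017
theorem D176130 : act 3 n84017 = n176130 := rfl
theorem F275384 : act 4 n176130 = n161514 := d20_6 F72378 (iv1 F56855) (iv4 F121715) D38697 D84017 D176130 (iv1 D161514) (iv4 F126932) (iv3 D82403) F121893
def n176140 : Q := act 5 n84019
theorem D176140 : act 5 n84019 = n176140 := rfl
theorem F275389 : act 2 n176140 = n84021 := d2_1 D176140 (iv5 D84021) D84019
def n176141 : Q := act 6 n84019
theorem D176141 : act 6 n84019 = n176141 := rfl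
theorem F275390 : act 2 n176141 = n84022 := d3_1 D176141 (iv6 D84022) D84019
def n176142 : Q := act 0 n84020
theorem D176142 : act 0 n84020 = n176142 := rfl
theorem F275391 : act 3 n176142 = n154467 := d20_5 F61058 (iv1 F60845) D86369 F132378 D176142 F242511 (iv1 D124176) (iv4 F198631) (iv3 D124170) F91610
theorem F275392 : act 4 n176142 = n119560 := d20_0 (iv1 D119560) (iv4 F188526) (iv3 D119546) F87009 F77355 F61058 (iv1 F60845) D86369 F132378 D176142
def n176143 : Q := act 1 n84020
theorem D176143 : act 1 n84020 = n176143 := rfl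
theorem F275393 : act 4 n119559 = n176143 := d20_0 (iv1 D176143) (iv4 D84020) (iv3 D38697) (iv1 D18405) (iv3 F21102) F21103 D12710 D26595 D55007 D119559
theorem F275394 : act 3 n84183 = n119559 := d20_5 F13577 D8676 D18451 D38817 D84183 F275393 (iv1 D176143) (iv4 D84020) (iv3 D38697) (iv1 D18405)
def n176148 : Q := act 6 n84021
theorem D176148 : act 6 n84021 = n176148 := rfl
theorem F275395 : act 3 n176148 = n84024 := d7_1 D176148 (iv6 D84024) (iv3 F128983)
def n176152 : Q := act 3 n84023
theorem D176152 : act 3 n84023 = n176152 := rfl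
def n176153 : Q := act 5 n84023
theorem D176153 : act 5 n84023 = n176153 := rfl
theorem F275398 : act 4 n176153 = n84243 := d9_1 D176153 (iv5 F260348) (iv4 D165091) (iv5 D79314) F121884 D38694 D84014 D176123 F275378 F260359 (iv4 D165093) (iv5 D79319) (iv4 F121715) D38699 D84023
theorem F275399 : act 0 n176153 = n173892 := d17_2 F270704 D176153 (iv5 D173892) (iv4 D83156) (iv5 D38279) (iv0 F121886) D82411 F127203 D172511
def n176154 : Q := act 6 n84023
theorem D176154 : act 6 n84023 = n176154 := rfl
theorem F275400 : act 4 n176154 = n84024 := d10_1 D176154 (iv6 D84024) D84023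
def n176155 : Q := act 0 n84024
theorem D176155 : act 0 n84024 = n176155 := rfl
def n176156 : Q := act 1 n84024
theorem D176156 : act 1 n84024 = n176156 := rfl
def n176157 : Q := act 5 n84024
theorem D176157 : act 5 n84024 = n176157 := rfl
theorem F275402 : act 6 n176157 = n84026 := d12_2 D84024 D176157 (iv5 D84026) (iv6 D38700) D38699
def n176158 : Q := act 7 n84024
theorem D176158 : act 7 n84024 = n176158 := rfl
def n176159 : Q := act 0 n84027
theorem D176159 : act 0 n84027 = n176159 := rfl
def n176160 : Q := act 1 n84027
theorem D176160 : act 1 n84027 = n176160 := rfl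
def n176161 : Q := act 2 n84027
theorem D176161 : act 2 n84027 = n176161 := rfl
def n176162 : Q := act 4 n84027
theorem D176162 : act 4 n84027 = n176162 := rfl
def n176163 : Q := act 6 n84027
theorem D176163 : act 6 n84027 = n176163 := rfl
theorem F275403 : act 3 n176163 = n84029 := d7_1 D176163 (iv6 D84029) D84027
def n176164 : Q := act 0 n84028
theorem D176164 : act 0 n84028 = n176164 := rfl
theorem F275404 : act 4 n176164 = n98121 := d18_3 D38701 D84028 D176164 F151296 F72378 F56862 F121884 (iv0 D18404) D18406
theorem F275406 : act 1 n84031 = n176164 := d15_0 (iv0 D176164) (iv7 F249785) F249784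
theorem F275407 : act 7 n176164 = n98120 := d15_2 (iv0 F128992) F275406 F151294
def n176165 : Q := act 3 n84028
theorem D176165 : act 3 n84028 = n176165 := rfl
def n176166 : Q := act 5 n84028
theorem D176166 : act 5 n84028 = n176166 := rfl
theorem F275408 : act 4 n176166 = n84237 := d16_2 D84028 D176166 (iv5 D84237) (iv4 F121713) (iv5 F121709) (iv4 F112954) F112955 (iv7 F126922) (iv2 F126921)
def n176167 : Q := act 6 n84028
theorem D176167 : act 6 n84028 = n176167 := rfl
theorem F275409 : act 4 n176167 = n84029 := d10_1 D176167 (iv6 D84029) D84028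
def n176168 : Q := act 0 n84029
theorem D176168 : act 0 n84029 = n176168 := rfl
def n176169 : Q := act 1 n84029
theorem D176169 : act 1 n84029 = n176169 := rfl
def n176170 : Q := act 7 n84029
theorem D176170 : act 7 n84029 = n176170 := rfl
def n176177 : Q := act 5 n84031
theorem D176177 : act 5 n84031 = n176177 := rfl
theorem F275411 : act 4 n176177 = n84234 := d9_1 D176177 (iv5 D84234) F126931 (iv5 F121903) F121905 F121906 D84028 D176166 F275408 (iv5 D84237) (iv4 F121713) (iv5 F121709) (iv4 F112954) F112955 D84031
def n176183 : Q := act 5 n84033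
theorem D176183 : act 5 n84033 = n176183 := rfl
theorem F275413 : act 4 n176183 = n84232 := d16_2 (iv4 F151287) D176183 (iv5 D84232) (iv4 D38847) (iv5 F54728) (iv4 F112987) F151291 F151290 (iv2 F151288)
def n176186 : Q := act 5 n84034
theorem D176186 : act 5 n84034 = n176186 := rfl
theorem F275414 : act 4 n176186 = n84227 := d9_1 D176186 (iv5 D84227) (iv4 D38843) (iv5 F113011) (iv4 F113583) (iv5 F151284) (iv4 F151287) D176183 F275413 (iv5 D84232) (iv4 D38847) (iv5 F54728) (iv4 F112987) F151291 (iv4 F151293)
def n176188 : Q := act 0 n84035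
theorem D176188 : act 0 n84035 = n176188 := rfl
def n176189 : Q := act 1 n84035
theorem D176189 : act 1 n84035 = n176189 := rfl
def n176190 : Q := act 2 n84035
theorem D176190 : act 2 n84035 = n176190 := rfl
def n176191 : Q := act 5 n84035
theorem D176191 : act 5 n84035 = n176191 := rfl
theorem F275415 : act 3 n176191 = n84036 := d6_1 D176191 (iv5 D84036) D84035
def n176192 : Q := act 0 n84036
theorem D176192 : act 0 n84036 = n176192 := rfl
theorem F275416 : act 5 n176192 = n84190 := d17_3 (iv1 D84034) D84036 D176192 (iv4 D84190) (iv5 D38818) F121802 D45824 D98119 (iv4 F151293)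
theorem F275417 : act 4 n176192 = n84218 := d18_3 (iv1 F270246) F270243 D176192 (iv5 D84218) (iv4 D38837) (iv0 F59195) (iv4 F128338) (iv0 F260349) F260348
theorem F275418 : act 1 n84245 = n176192 := d15_0 (iv0 D176192) F270239 F270237
def n176193 : Q := act 1 n84036
theorem D176193 : act 1 n84036 = n176193 := rfl
theorem F275419 : act 1 n176193 = n84245 := d15_1 D176193 F270123 F270121
theorem F275420 : act 5 n176193 = n84214 := d17_7 (iv1 F128974) (iv5 D38699) (iv1 D18405) D18406 D38703 D84036 D176193 (iv0 F275369) (iv4 D176118)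
theorem F275421 : act 4 n176193 = n84197 := d18_7 (iv1 F126963) (iv4 D38843) (iv1 F58655) (iv4 F126979) (iv5 F270244) F270243 D176193 (iv0 F151326) (iv5 D98130)
def n176194 : Q := act 6 n84036
theorem D176194 : act 6 n84036 = n176194 := rfl
def n176195 : Q := act 0 n84037
theorem D176195 : act 0 n84037 = n176195 := rfl
theorem F275422 : act 4 n176195 = n98960 := d20_2 (iv4 F128993) D176195 (iv3 F234476) (iv1 D149089) F106387 (iv4 F51829) D70585 F232357 F199597 (iv1 D85826)
theorem F275423 : act 1 n88074 = n176195 := d15_0 (iv0 D176195) F195627 F195624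
theorem F275424 : act 2 n98961 = n176195 := d1_3 F275422 (iv2 D98960) D98961
def n176196 : Q := act 1 n84037
theorem D176196 : act 1 n84037 = n176196 := rfl
theorem F275425 : act 7 n176196 = n98961 := d15_2 (iv0 D176195) D176196 F275424
theorem F275426 : act 4 n88949 = n176196 := d20_6 F117234 F91422 (iv4 F44601) F44600 D41532 D88949 (iv1 D176196) F128993 (iv3 D39684) (iv1 F117232)
theorem F275427 : act 3 n176196 = n172426 := d5_1 F275426 (iv4 D172426) (iv3 D82559) (iv4 F155435) D88949
theorem F275428 : act 0 n88074 = n176196 := d20_7 (iv4 F59418) (iv1 F113407) (iv4 F155419) (iv3 F155420) (iv1 D41130) (iv3 F62345) (iv4 F135070) (iv4 F275426) (iv3 D88949) (iv1 F64083)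
def n176197 : Q := act 2 n84037
theorem D176197 : act 2 n84037 = n176197 := rfl
theorem F275429 : act 4 n176197 = n85827 := d1_2 (iv4 F128993) D176197 (iv2 D85827)
theorem F275430 : act 7 n176197 = n88074 := d4_2 (iv7 F195627) D176197 (iv2 F195624)
theorem F275431 : act 1 n98961 = n176197 := d15_1 (iv0 F195628) F275430 (iv2 F195624)
def n176201 : Q := act 0 n84039
theorem D176201 : act 0 n84039 = n176201 := rfl
theorem F275433 : act 3 n176201 = n123958 := d20_5 F89596 (iv1 F117190) D38714 D84039 D176201 (iv4 D123958) (iv1 D57749) D57751 (iv3 F132271) F132274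
def n176210 : Q := act 2 n84043
theorem D176210 : act 2 n84043 = n176210 := rfl
theorem F275447 : act 7 n84044 = n176210 := d15_2 (iv0 D84043) D84044 (iv2 D176210)
def n176211 : Q := act 3 n84043
theorem D176211 : act 3 n84043 = n176211 := rfl
theorem F275448 : act 4 n176211 = n169997 := d20_6 F58661 (iv1 F117226) D18416 D38718 D84043 D176211 (iv1 D169997) (iv4 F132325) (iv3 D86338) (iv1 F117256)
def n176214 : Q := act 7 n84043
theorem D176214 : act 7 n84043 = n176214 := rfl
theorem F275449 : act 2 n176214 = n84044 := d4_1 D176214 F275447 (iv2 D176210)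
def n176219 : Q := act 6 n84045
theorem D176219 : act 6 n84045 = n176219 := rfl
theorem F275451 : act 2 n176219 = n84047 := d3_1 D176219 (iv6 D84047) D84045
def n176228 : Q := act 6 n84048
theorem D176228 : act 6 n84048 = n176228 := rfl
def n176230 : Q := act 1 n84049
theorem D176230 : act 1 n84049 = n176230 := rfl
def n176231 : Q := act 3 n84049
theorem D176231 : act 3 n84049 = n176231 := rfl
def n176237 : Q := act 3 n84051
theorem D176237 : act 3 n84051 = n176237 := rfl
theorem F275459 : act 7 n176237 = n166203 := d8_2 (iv7 F129007) D176237 F261681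
def n176238 : Q := act 6 n84051
theorem D176238 : act 6 n84051 = n176238 := rfl
theorem F275461 : act 4 n176238 = n121656 := d10_1 D176238 F194136 (iv4 F129008)
def n176246 : Q := act 2 n84056
theorem D176246 : act 2 n84056 = n176246 := rfl
theorem F275490 : act 4 n176246 = n84116 := d1_2 (iv4 F129028) D176246 (iv2 D84116)
def n176249 : Q := act 6 n84057
theorem D176249 : act 6 n84057 = n176249 := rfl
theorem F275500 : act 5 n176249 = n167773 := d12_1 D176249 (iv6 D167773) F123760 F119409 D84057
def n176252 : Q := act 2 n84062
theorem D176252 : act 2 n84062 = n176252 := rfl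
theorem F275505 : act 7 n84063 = n176252 := d15_2 (iv0 D84062) D84063 (iv2 D176252)
def n176253 : Q := act 4 n84062
theorem D176253 : act 4 n84062 = n176253 := rfl
theorem F275506 : act 3 n176253 = n154817 := d5_1 D176253 (iv4 F243515) (iv3 D123111) D123112 F197306
def n176254 : Q := act 5 n84062
theorem D176254 : act 5 n84062 = n176254 := rfl
def n176255 : Q := act 6 n84062
theorem D176255 : act 6 n84062 = n176255 := rfl
def n176256 : Q := act 7 n84062
theorem D176256 : act 7 n84062 = n176256 := rfl
theorem F275507 : act 2 n176256 = n84063 := d4_1 D176256 F275505 (iv2 D176252)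
def n176257 : Q := act 3 n84063
theorem D176257 : act 3 n84063 = n176257 := rfl
def n176258 : Q := act 4 n84063
theorem D176258 : act 4 n84063 = n176258 := rfl
theorem F275508 : act 3 n176258 = n87395 := d20_9 F132462 (iv1 F72309) D98095 (iv3 F260235) (iv1 D165023) (iv3 F192610) F192611 (iv1 F151354) D176258 F233171
theorem E24672 : n176257 = n174376 := (c5_2 (iv4 D176258) D176257 F273220 (iv3 D87394) D87395 (iv3 F275508))
theorem F275509 : act 3 n174376 = n84063 := (sb E24672 (iv3 D176257))
theorem F275510 : act 0 n173627 = n87394 := d20_1 D173627 (iv4 F273220) F275509 (iv1 D84063) (iv3 D38728) (iv4 F59690) (iv1 F59774) (iv4 D38217) D38216 D83042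
def n176259 : Q := act 5 n84063
theorem D176259 : act 5 n84063 = n176259 := rfl
theorem F275511 : act 0 n176259 = n84088 := d17_2 (iv1 F151354) D176259 F129065 F127521 D168554 (iv0 F274334) (iv5 D175296) (iv0 F192612) F192611
theorem E24673 : n172903 = n37872 := (c21_6 D176259 F275511 F129065 (iv6 D82777) D82773 D172903 (iv5 F116266) (iv1 F151348) (iv5 D98140) D98141 (iv1 F151354))
theorem E24674 : n82773 = n82495 := (((D82495).symm.trans (sb E24673 (iv6 D172903)))).symm
theorem E24677 : n172899 = n98192 := ((((iv2 F151504)).symm.trans (sb E24674 D172899))).symm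
theorem F275514 : act 7 n98192 = n82774 := (sb E24677 (iv7 F271159))
theorem F275517 : act 7 n172906 = n168256 := d11_2 F275514 D172906 F265218
theorem E24684 : n168260 = n167968 := (c8_3 F275517 F265217 D168260 (iv3 F271162))
theorem F275519 : act 4 n167968 = n87779 := (sb E24684 F265220)
theorem F275521 : act 7 n167968 = n80756 := (sb E24684 (iv7 D168260))
theorem E24685 : n167969 = n86485 := ((c15_4 F264678 F264673 F275521 (iv2 F132653))).symm
theorem F275522 : act 0 n86485 = n80633 := (sb E24685 (iv1 D167969))
theorem F275523 : act 1 n86485 = n80799 := (sb E24685 F264678)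
theorem E24686 : n98862 = n82047 := (c20_5 (iv4 D168398) (iv1 F275523) F132654 (iv3 F72926) D98862 (iv3 F268514) F268515 (iv1 F268991) (iv4 F268992) (iv3 F268993) (iv1 F265329))
theorem E24687 : n170934 = n100408 := (((iv1 F268534)).symm.trans (sb E24686 (iv1 F154461)))
theorem E24689 : n98863 = n81935 := (((iv1 F154460)).symm.trans (sb E24687 (iv1 D170934)))
theorem F275526 : act 0 n81935 = n46267 := (sb E24689 (iv1 D98863))
theorem F275527 : act 1 n81935 = n100408 := (sb E24689 F154460)
theorem F275528 : act 0 n98892 = n125125 := d21_1 D98892 (iv5 F250631) F250632 F275526 (iv6 D46267) (iv5 D22128) (iv1 D10550) D10552 D22134 D46279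
theorem E24690 : n150056 = n87346 := (c20_10 (iv4 F275519) (iv1 F264673) D168398 (iv3 F265328) (iv1 F268570) F134965 F107086 (iv1 F190479) F107073 D150056 (iv1 F134758))
theorem F275530 : act 3 n87346 = n70600 := (sb E24690 (iv3 D150056))
theorem F275531 : act 4 n87346 = n71592 := (sb E24690 F236085)
theorem F275532 : act 7 n87346 = n70673 := (sb E24690 F236086)
theorem E24691 : n150166 = n87347 := (c15_4 F134757 F134758 F275532 D150166)
theorem F275535 : act 2 n87347 = n70673 := (sb E24691 (iv2 D150166))
def n176260 : Q := act 6 n84063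
theorem D176260 : act 6 n84063 = n176260 := rfl
theorem F275540 : act 5 n176260 = n172258 := d21_6 (iv5 F116266) (iv1 F151348) (iv5 D98140) D98141 (iv1 F151354) D176260 (iv1 D172258) (iv5 D82504) (iv6 D37876) D37872
def n176261 : Q := act 4 n84064
theorem D176261 : act 4 n84064 = n176261 := rfl
theorem F275541 : act 2 n176261 = n84065 := d1_1 D176261 (iv4 D84065) D84064
def n176262 : Q := act 5 n84064
theorem D176262 : act 5 n84064 = n176262 := rfl
theorem F275547 : act 2 n176262 = n84066 := d2_1 D176262 (iv5 D84066) D84064
def n176263 : Q := act 0 n84065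
theorem D176263 : act 0 n84065 = n176263 := rfl
theorem F275548 : act 4 n176263 = n175150 := d20_0 (iv1 F274141) D175291 (iv3 F274331) (iv1 D165085) (iv3 D79307) (iv4 D36103) (iv1 F59691) D40271 (iv3 F129047) D176263
theorem E24692 : n175142 = n173626 := (c20_5 D84065 D176263 F275548 F274137 (iv1 F274122) (iv3 D173626) D173627 F275510 (iv4 F273220) F275509 (iv1 D84063))
theorem F275552 : act 0 n173626 = n83652 := (sb E24692 (iv1 D175142))
theorem F275553 : act 1 n173626 = n83731 := (sb E24692 F274122)
def n176265 : Q := act 0 n84066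
theorem D176265 : act 0 n84066 = n176265 := rfl
def n176266 : Q := act 1 n84066
theorem D176266 : act 1 n84066 = n176266 := rfl
def n176267 : Q := act 4 n84066
theorem D176267 : act 4 n84066 = n176267 := rfl
theorem F275556 : act 0 n175361 = n176267 := d20_7 F113622 (iv1 D38685) (iv4 D18401) (iv3 F29550) D38592 D83744 D175361 (iv4 D176267) F129051 (iv1 F113623)
theorem E24693 : n175359 = n175292 := ((c18_10 (iv1 D175359) D175361 F275556 (iv4 D176267) (iv5 D84066) D84065 (iv0 F129050) (iv4 D83709) D83707 D175292)).symm
theorem F275557 : act 0 n175292 = n83744 := (sb E24693 (iv1 D175359))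
def n176268 : Q := act 6 n84066
theorem D176268 : act 6 n84066 = n176268 := rfl
theorem F275558 : act 3 n176268 = n84068 := d7_1 D176268 (iv6 D84068) (iv3 F129051)
def n176269 : Q := act 3 n84067
theorem D176269 : act 3 n84067 = n176269 := rfl
theorem F275559 : act 7 n176269 = n175973 := d8_2 (iv7 F129053) D176269 (iv3 D175973)
def n176270 : Q := act 6 n84067
theorem D176270 : act 6 n84067 = n176270 := rfl
theorem F275560 : act 2 n176270 = n175972 := d3_1 D176270 (iv6 D175972) (iv2 F129052)
theorem F275561 : act 4 n176270 = n84068 := d10_1 D176270 (iv6 D84068) D84067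
def n176271 : Q := act 0 n84068
theorem D176271 : act 0 n84068 = n176271 := rfl
def n176272 : Q := act 1 n84068
theorem D176272 : act 1 n84068 = n176272 := rfl
def n176273 : Q := act 7 n84068
theorem D176273 : act 7 n84068 = n176273 := rfl
def n176274 : Q := act 0 n84069
theorem D176274 : act 0 n84069 = n176274 := rfl
theorem F275562 : act 1 n84074 = n176274 := d15_0 (iv0 D176274) (iv7 F129056) (iv2 F129060)
def n176276 : Q := act 3 n84069
theorem D176276 : act 3 n84069 = n176276 := rfl
theorem F275564 : act 7 n176276 = n84075 := d8_2 F129056 D176276 (iv3 D84075)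
def n176277 : Q := act 4 n84069
theorem D176277 : act 4 n84069 = n176277 := rfl
theorem F275565 : act 2 n176277 = n84071 := d1_1 D176277 (iv4 D84071) D84069
def n176278 : Q := act 5 n84069
theorem D176278 : act 5 n84069 = n176278 := rfl
theorem F275567 : act 2 n176278 = n84072 := d2_1 D176278 (iv5 D84072) D84069
theorem F275568 : act 7 n176278 = n84077 := d13_2 F129056 D176278 (iv5 D84077)
def n176280 : Q := act 2 n84070
theorem D176280 : act 2 n84070 = n176280 := rfl
theorem F275571 : act 7 n85080 = n176280 := d15_2 (iv0 F129058) D85080 (iv2 D176280)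
def n176281 : Q := act 5 n84070
theorem D176281 : act 5 n84070 = n176281 := rfl
theorem F275572 : act 3 n176281 = n84072 := d6_1 D176281 (iv5 D84072) D84070
def n176283 : Q := act 7 n84070
theorem D176283 : act 7 n84070 = n176283 := rfl
theorem F275575 : act 2 n176283 = n85080 := d4_1 D176283 F275571 (iv2 D176280)
theorem F275576 : act 3 n176283 = n84074 := d8_1 D176283 (iv7 D84074) D84070
theorem F275577 : act 4 n176283 = n175879 := d11_1 D176283 (iv7 F275275) (iv4 F129057)
def n176284 : Q := act 1 n84071
theorem D176284 : act 1 n84071 = n176284 := rfl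
theorem F275579 : act 7 n176284 = n175332 := d15_2 (iv0 F129059) D176284 F274379
theorem F275580 : act 2 n128338 = n176284 := d4_3 F275579 F274379 (iv7 F206462)
theorem F275581 : act 4 n175143 = n176284 := d11_3 F275579 (iv4 D175332) (iv7 F274120)
def n176285 : Q := act 3 n84071
theorem D176285 : act 3 n84071 = n176285 := rfl
theorem F275582 : act 4 n176285 = n175883 := d5_2 D84071 D176285 (iv3 D175883) (iv4 F129057) (iv3 D84070)
def n176286 : Q := act 5 n84071
theorem D176286 : act 5 n84071 = n176286 := rfl
def n176287 : Q := act 6 n84071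
theorem D176287 : act 6 n84071 = n176287 := rfl
theorem F275583 : act 4 n176287 = n84073 := d10_1 D176287 (iv6 D84073) D84071
def n176288 : Q := act 7 n84071
theorem D176288 : act 7 n84071 = n176288 := rfl
theorem F275585 : act 4 n176288 = n84074 := d11_1 D176288 (iv7 D84074) D84071
def n176289 : Q := act 0 n84072
theorem D176289 : act 0 n84072 = n176289 := rfl
def n176290 : Q := act 1 n84072
theorem D176290 : act 1 n84072 = n176290 := rfl
theorem F275586 : act 1 n176290 = n84077 := d15_1 D176290 (iv7 F275568) F275567
def n176291 : Q := act 4 n84072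
theorem D176291 : act 4 n84072 = n176291 := rfl
def n176292 : Q := act 6 n84072
theorem D176292 : act 6 n84072 = n176292 := rfl
def n176293 : Q := act 7 n84072
theorem D176293 : act 7 n84072 = n176293 := rfl
theorem F275587 : act 2 n176293 = n84077 := d4_1 D176293 (iv7 F275568) F275567
theorem F275588 : act 5 n176293 = n84074 := d13_1 D176293 (iv7 D84074) D84072
theorem F275589 : act 1 n84077 = n176289 := d15_0 (iv0 D176289) D176293 F275587
def n176299 : Q := act 1 n84075
theorem D176299 : act 1 n84075 = n176299 := rfl
def n176300 : Q := act 2 n84075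
theorem D176300 : act 2 n84075 = n176300 := rfl
theorem F275591 : act 3 n176300 = n85080 := d0_2 D84075 D176300 (iv2 F275575) F275576 F129060
theorem F275592 : act 4 n124077 = n176300 := d5_0 F275591 (iv4 F130425) F198480 (iv4 D124078) D124077
def n176301 : Q := act 4 n84075
theorem D176301 : act 4 n84075 = n176301 := rfl
theorem F275593 : act 2 n176301 = n124077 := d1_1 D176301 F275592 (iv2 D176300)
theorem F275594 : act 3 n176301 = n124778 := d5_1 D176301 (iv4 F200448) F198386 (iv4 D84076) D84075
theorem E24694 : n176299 = n123112 := ((c20_1 D123112 (iv1 D176299) D176301 F275594 (iv1 D124778) (iv3 D58339) (iv4 D27779) (iv1 F44868) (iv4 F90834) (iv3 F197288) (iv1 F197292))).symm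
theorem F275595 : act 0 n123112 = n84075 := (sb E24694 (iv1 D176299))
theorem F275596 : act 0 n173452 = n176301 := d20_1 D173452 (iv4 D176301) (iv3 D84075) (iv1 D38738) (iv3 D18422) (iv4 D8667) (iv1 F13531) (iv4 F29457) (iv3 F59067) (iv1 F127914)
theorem F275597 : act 0 n176301 = n173447 := d20_10 (iv4 D173447) (iv1 F127919) (iv4 F90374) F90373 (iv1 F44358) D27571 D57751 D123964 F200448 (iv3 F275594)
theorem F275598 : act 7 n173494 = n176301 := d15_2 F271946 F271956 F275593
theorem E24695 : n176276 = n173726 := (c11_3 F275598 (iv4 D176301) (iv7 F275564) (iv4 F272290))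
theorem E24696 : n84069 = n83080 := ((((iv3 D173726)).symm.trans (sb E24695 (iv3 D176276)))).symm
theorem E24697 : n176274 = n38239 := ((((iv1 D83080)).symm.trans (sb E24696 D176274))).symm
theorem E24699 : n173725 = n38737 := (((iv2 F272289)).symm.trans (sb E24696 (iv2 D84069)))
theorem E24700 : n176277 = n173727 := (((D173727).symm.trans (sb E24696 D176277))).symm
theorem E24701 : n176278 = n173728 := (((D173728).symm.trans (sb E24696 D176278))).symm
theorem E24703 : n173720 = n38738 := ((F272284).symm.trans (sb E24696 (iv7 F129056)))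
theorem E24704 : n84074 = n83079 := (((D83079).symm.trans (sb E24697 (iv1 F275562)))).symm
theorem F275600 : act 2 n38737 = n83080 := (sb E24699 F272289)
theorem F275601 : act 2 n173727 = n84071 := (sb E24700 F275565)
theorem F275603 : act 2 n173728 = n84072 := (sb E24701 F275567)
theorem F275604 : act 7 n173728 = n84077 := (sb E24701 F275568)
theorem F275606 : act 7 n38738 = n83080 := (sb E24703 (iv7 F272284))
theorem E24705 : n176283 = n173721 := (((D173721).symm.trans (sb E24704 (iv3 F275576)))).symm
theorem E24706 : n176288 = n173722 := (((D173722).symm.trans (sb E24704 (iv4 F275585)))).symm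
theorem E24707 : n176293 = n173723 := (((D173723).symm.trans (sb E24704 (iv5 F275588)))).symm
theorem F275608 : act 7 n83079 = n38737 := (sb E24704 (iv7 D84074))
theorem E24709 : n175879 = n86677 := (((F272285).symm.trans (sb E24705 F275577))).symm
theorem F275612 : act 7 n173722 = n84071 := (sb E24706 (iv7 D176288))
theorem F275614 : act 7 n173723 = n84072 := (sb E24707 (iv7 D176293))
theorem F275617 : act 7 n86677 = n83944 := (sb E24709 (iv7 F275275))
theorem E24710 : n175882 = n86676 := (c15_4 (iv0 D86676) D86677 F275617 (iv2 F275276))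
theorem F275620 : act 7 n86676 = n83943 := (sb E24710 (iv7 D175882))
def n176312 : Q := act 4 n84079
theorem D176312 : act 4 n84079 = n176312 := rfl
theorem F275626 : act 2 n176312 = n84083 := d1_1 D176312 (iv4 D84083) (iv2 F129061)
def n176313 : Q := act 6 n84079
theorem D176313 : act 6 n84079 = n176313 := rfl
theorem F275627 : act 2 n176313 = n84084 := d3_1 D176313 (iv6 D84084) (iv2 F129061)
def n176315 : Q := act 2 n84081
theorem D176315 : act 2 n84081 = n176315 := rfl
theorem F275630 : act 7 n84082 = n176315 := d15_2 (iv0 D84081) D84082 (iv2 D176315)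
def n176316 : Q := act 3 n84081
theorem D176316 : act 3 n84081 = n176316 := rfl
theorem F275631 : act 4 n176316 = n175905 := d20_6 D83917 F128913 (iv4 D38744) (iv3 F59517) D84081 D176316 (iv1 D175905) (iv4 D83949) F59480 (iv1 F59471)
theorem F275632 : act 0 n85082 = n176316 := d18_0 F275631 (iv1 D175905) (iv4 D83949) (iv5 D38664) D38663 D83944 (iv4 F129057) (iv0 F129058) D85082
def n176317 : Q := act 4 n84081
theorem D176317 : act 4 n84081 = n176317 := rfl
theorem F275633 : act 0 n176317 = n175339 := d18_2 D84081 D176317 (iv4 D175339) (iv5 D83733) D83732 (iv0 F129059) (iv4 D84071) (iv0 D38737) D38740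
def n176320 : Q := act 7 n84081
theorem D176320 : act 7 n84081 = n176320 := rfl
theorem F275634 : act 2 n176320 = n84082 := d4_1 D176320 F275630 (iv2 D176315)
def n176321 : Q := act 3 n84082
theorem D176321 : act 3 n84082 = n176321 := rfl
def n176322 : Q := act 4 n84082
theorem D176322 : act 4 n84082 = n176322 := rfl
def n176323 : Q := act 5 n84082
theorem D176323 : act 5 n84082 = n176323 := rfl
def n176324 : Q := act 6 n84082
theorem D176324 : act 6 n84082 = n176324 := rfl
def n176325 : Q := act 0 n84083
theorem D176325 : act 0 n84083 = n176325 := rfl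
def n176326 : Q := act 1 n84083
theorem D176326 : act 1 n84083 = n176326 := rfl
def n176327 : Q := act 3 n84083
theorem D176327 : act 3 n84083 = n176327 := rfl
theorem F275635 : act 4 n176327 = n84095 := d5_2 D84083 D176327 (iv3 D84095) (iv4 D38744) (iv3 F59517)
def n176328 : Q := act 5 n84083
theorem D176328 : act 5 n84083 = n176328 := rfl
def n176329 : Q := act 6 n84083
theorem D176329 : act 6 n84083 = n176329 := rfl
theorem F275636 : act 4 n176329 = n84084 := d10_1 D176329 (iv6 D84084) D84083
def n176330 : Q := act 0 n84084
theorem D176330 : act 0 n84084 = n176330 := rfl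
def n176331 : Q := act 1 n84084
theorem D176331 : act 1 n84084 = n176331 := rfl
def n176333 : Q := act 7 n84084
theorem D176333 : act 7 n84084 = n176333 := rfl
theorem F275639 : act 3 n176333 = n84100 := d8_1 D176333 (iv7 D84100) (iv3 F129063)
def n176334 : Q := act 2 n84085
theorem D176334 : act 2 n84085 = n176334 := rfl
theorem F275640 : act 7 n84086 = n176334 := d15_2 (iv0 D84085) D84086 (iv2 D176334)
def n176335 : Q := act 3 n84085
theorem D176335 : act 3 n84085 = n176335 := rfl
def n176349 : Q := act 4 n84088
theorem D176349 : act 4 n84088 = n176349 := rfl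
theorem F275643 : act 0 n175299 = n176349 := d20_7 D38791 (iv1 F128914) (iv4 D83917) (iv3 F243982) (iv1 D83720) (iv3 F128771) D175299 (iv4 D176349) (iv3 D84088) (iv1 F59519)
def n176351 : Q := act 3 n84089
theorem D176351 : act 3 n84089 = n176351 := rfl
theorem F275646 : act 7 n176351 = n175824 := d8_2 (iv7 F129067) D176351 (iv3 D175824)
def n176352 : Q := act 6 n84089
theorem D176352 : act 6 n84089 = n176352 := rfl
theorem F275647 : act 2 n176352 = n175823 := d3_1 D176352 (iv6 D175823) (iv2 F129066)
theorem F275648 : act 4 n176352 = n84090 := d10_1 D176352 (iv6 D84090) D84089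
def n176356 : Q := act 0 n84091
theorem D176356 : act 0 n84091 = n176356 := rfl
def n176357 : Q := act 1 n84091
theorem D176357 : act 1 n84091 = n176357 := rfl
def n176358 : Q := act 2 n84091
theorem D176358 : act 2 n84091 = n176358 := rfl
theorem F275650 : act 1 n176358 = n85129 := d15_0 (iv0 F274456) F272240 D176358
def n176359 : Q := act 4 n84091
theorem D176359 : act 4 n84091 = n176359 := rfl
def n176360 : Q := act 5 n84091
theorem D176360 : act 5 n84091 = n176360 := rfl
theorem F275652 : act 7 n176360 = n98805 := d13_2 F272240 D176360 (iv5 F272239)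
def n176361 : Q := act 6 n84091
theorem D176361 : act 6 n84091 = n176361 := rfl
theorem F275656 : act 3 n176361 = n84094 := d7_1 D176361 (iv6 D84094) D84091
def n176362 : Q := act 3 n84092
theorem D176362 : act 3 n84092 = n176362 := rfl
theorem F275657 : act 7 n176362 = n175822 := d8_2 (iv7 F129072) D176362 (iv3 D175822)
def n176363 : Q := act 6 n84092
theorem D176363 : act 6 n84092 = n176363 := rfl
theorem F275658 : act 2 n176363 = n175825 := d3_1 D176363 (iv6 D175825) (iv2 F129071)
theorem F275659 : act 4 n176363 = n84094 := d10_1 D176363 (iv6 D84094) D84092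
def n176364 : Q := act 0 n84094
theorem D176364 : act 0 n84094 = n176364 := rfl
theorem F275660 : act 6 n176364 = n101922 := d21_5 F151384 (iv1 F129078) (iv5 D84093) D84094 D176364 (iv5 D101922) (iv1 F272645) D98151 F151377 D98153
def n176365 : Q := act 1 n84094
theorem D176365 : act 1 n84094 = n176365 := rfl
def n176366 : Q := act 7 n84094
theorem D176366 : act 7 n84094 = n176366 := rfl
def n176367 : Q := act 0 n84095
theorem D176367 : act 0 n84095 = n176367 := rfl
def n176368 : Q := act 1 n84095
theorem D176368 : act 1 n84095 = n176368 := rfl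
def n176369 : Q := act 2 n84095
theorem D176369 : act 2 n84095 = n176369 := rfl
def n176370 : Q := act 6 n84095
theorem D176370 : act 6 n84095 = n176370 := rfl
theorem F275661 : act 3 n176370 = n84096 := d7_1 D176370 (iv6 D84096) D84095
def n176375 : Q := act 2 n84097
theorem D176375 : act 2 n84097 = n176375 := rfl
theorem F275663 : act 7 n84098 = n176375 := d15_2 (iv0 D84097) D84098 (iv2 D176375)
def n176380 : Q := act 7 n84097
theorem D176380 : act 7 n84097 = n176380 := rfl
theorem F275664 : act 2 n176380 = n84098 := d4_1 D176380 F275663 (iv2 D176375)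
def n176381 : Q := act 3 n84098
theorem D176381 : act 3 n84098 = n176381 := rfl
def n176382 : Q := act 4 n84098
theorem D176382 : act 4 n84098 = n176382 := rfl
def n176383 : Q := act 5 n84098
theorem D176383 : act 5 n84098 = n176383 := rfl
def n176384 : Q := act 6 n84098
theorem D176384 : act 6 n84098 = n176384 := rfl
def n176390 : Q := act 2 n84101
theorem D176390 : act 2 n84101 = n176390 := rfl
def n176392 : Q := act 6 n84102
theorem D176392 : act 6 n84102 = n176392 := rfl
theorem F275671 : act 5 n176392 = n172313 := d12_1 D176392 (iv6 D172313) F127168 (iv6 F72460) (iv5 F129085)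
def n176393 : Q := act 3 n84103
theorem D176393 : act 3 n84103 = n176393 := rfl
theorem F275672 : act 5 n176393 = n173704 := d6_2 (iv5 F129089) D176393 (iv3 D173704)
def n176394 : Q := act 0 n84104
theorem D176394 : act 0 n84104 = n176394 := rfl
theorem F275674 : act 1 n174634 = n176394 := d15_0 (iv0 D176394) F129092 (iv2 F273494)
def n176395 : Q := act 1 n84104
theorem D176395 : act 1 n84104 = n176395 := rfl
def n176396 : Q := act 2 n84104
theorem D176396 : act 2 n84104 = n176396 := rfl
theorem F275676 : act 7 n176396 = n174634 := d4_2 (iv7 F129092) D176396 F273494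
theorem F275677 : act 1 n176396 = n174639 := d15_0 (iv0 D174639) (iv7 F129092) D176396
theorem F275678 : act 1 n176395 = n174634 := d15_1 D176395 (iv7 F275676) (iv2 D176396)
theorem F275679 : act 1 n174640 = n176396 := d15_1 D174640 F275676 F273494
def n176397 : Q := act 5 n84104
theorem D176397 : act 5 n84104 = n176397 := rfl
def n176398 : Q := act 6 n84104
theorem D176398 : act 6 n84104 = n176398 := rfl
theorem F275682 : act 3 n176398 = n84106 := d7_1 D176398 (iv6 D84106) D84104
def n176399 : Q := act 6 n84105
theorem D176399 : act 6 n84105 = n176399 := rfl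
theorem F275686 : act 5 n176399 = n158393 := d12_1 D176399 (iv6 D158393) (iv5 F129100) (iv6 D84106) D84105
theorem F275687 : act 0 n176399 = n158532 := d21_4 (iv5 F61168) (iv1 F61164) D84105 D176399 (iv6 D158532) (iv5 D75622) (iv1 D34586) D34587 F54860 D34600
def n176401 : Q := act 6 n84108
theorem D176401 : act 6 n84108 = n176401 := rfl
theorem F275694 : act 5 n176401 = n124634 := d12_1 D176401 (iv6 D124634) (iv5 D58233) F117934 D84108
def n176405 : Q := act 5 n84109
theorem D176405 : act 5 n84109 = n176405 := rfl
theorem F275702 : act 7 n176405 = n158742 := d13_2 (iv7 F129111) D176405 F249918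
def n176406 : Q := act 6 n84109
theorem D176406 : act 6 n84109 = n176406 := rfl
theorem F275703 : act 3 n176406 = n84111 := d7_1 D176406 (iv6 D84111) D84109
def n176408 : Q := act 0 n84112
theorem D176408 : act 0 n84112 = n176408 := rfl
theorem F275708 : act 1 n176390 = n176408 := d15_0 (iv0 D176408) F129126 D176390
def n176410 : Q := act 2 n84112
theorem D176410 : act 2 n84112 = n176410 := rfl
theorem F275710 : act 6 n176410 = n161724 := d3_2 (iv6 F129125) D176410 (iv2 F255727)
theorem F275711 : act 7 n176410 = n176390 := d4_2 (iv7 F129126) D176410 (iv2 D176390)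
def n176412 : Q := act 6 n84113
theorem D176412 : act 6 n84113 = n176412 := rfl
theorem F275717 : act 2 n176412 = n158744 := d3_1 D176412 (iv6 D158744) (iv2 F129127)
theorem F275718 : act 5 n176412 = n173301 := d12_1 D176412 (iv6 D173301) (iv5 D82937) F118374 D84113
def n176413 : Q := act 2 n84114
theorem D176413 : act 2 n84114 = n176413 := rfl
theorem F275719 : act 7 n84115 = n176413 := d15_2 (iv0 D84114) D84115 (iv2 D176413)
def n176414 : Q := act 3 n84114
theorem D176414 : act 3 n84114 = n176414 := rfl
def n176415 : Q := act 4 n84114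
theorem D176415 : act 4 n84114 = n176415 := rfl
def n176420 : Q := act 4 n84115
theorem D176420 : act 4 n84115 = n176420 := rfl
def n176424 : Q := act 6 n84116
theorem D176424 : act 6 n84116 = n176424 := rfl
theorem F275725 : act 2 n176424 = n84118 := d3_1 D176424 (iv6 D84118) D84116
theorem F275726 : act 7 n176424 = n173731 := d14_2 (iv7 F129132) D176424 (iv6 D173731) F128057 D84080
theorem F275727 : act 1 n173737 = n176424 := d15_1 D173737 F275726 F272299
theorem F275728 : act 1 n176424 = n173736 := d15_0 (iv0 D173736) (iv7 F129139) (iv2 F275725)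
def n176429 : Q := act 0 n84118
theorem D176429 : act 0 n84118 = n176429 := rfl
theorem F275733 : act 1 n173731 = n176429 := d15_0 (iv0 D176429) F129139 (iv2 F272299)
def n176430 : Q := act 1 n84118
theorem D176430 : act 1 n84118 = n176430 := rfl
theorem F275734 : act 1 n176430 = n173731 := d15_1 D176430 (iv7 F275726) F275725
def n176434 : Q := act 5 n84120
theorem D176434 : act 5 n84120 = n176434 := rfl
def n176436 : Q := act 6 n84121
theorem D176436 : act 6 n84121 = n176436 := rfl
theorem F275741 : act 2 n176436 = n84132 := d3_1 D176436 (iv6 D84132) (iv2 F129141)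
def n176437 : Q := act 6 n84123
theorem D176437 : act 6 n84123 = n176437 := rfl
theorem F275743 : act 5 n176437 = n161540 := d12_1 D176437 (iv6 D161540) F116432 (iv6 F91169) D84123
def n176440 : Q := act 3 n84125
theorem D176440 : act 3 n84125 = n176440 := rfl
def n176441 : Q := act 5 n84125
theorem D176441 : act 5 n84125 = n176441 := rfl
theorem F275744 : act 0 n176441 = n161611 := d17_2 (iv1 F272185) D176441 F255611 F249983 D158805 F271492 (iv5 D84148) F128032 (iv4 F272182)
def n176442 : Q := act 6 n84125
theorem D176442 : act 6 n84125 = n176442 := rfl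
def n176443 : Q := act 5 n84126
theorem D176443 : act 5 n84126 = n176443 := rfl
theorem F275745 : act 2 n176443 = n84127 := d2_1 D176443 (iv5 D84127) D84126
def n176444 : Q := act 6 n84126
theorem D176444 : act 6 n84126 = n176444 := rfl
theorem F275746 : act 2 n176444 = n84128 := d3_1 D176444 (iv6 D84128) D84126
theorem F275747 : act 4 n176444 = n84151 := d10_1 D176444 (iv6 D84151) (iv4 F129154)
def n176448 : Q := act 6 n84127
theorem D176448 : act 6 n84127 = n176448 := rfl
theorem F275748 : act 3 n176448 = n84132 := d7_1 D176448 (iv6 D84132) (iv3 F129155)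
def n176449 : Q := act 0 n84128
theorem D176449 : act 0 n84128 = n176449 := rfl
def n176450 : Q := act 1 n84128
theorem D176450 : act 1 n84128 = n176450 := rfl
def n176465 : Q := act 3 n84135
theorem D176465 : act 3 n84135 = n176465 := rfl
theorem F275760 : act 4 n176465 = n85627 := d5_2 D84135 D176465 (iv3 D85627) (iv4 D39559) (iv3 F123057)
theorem F275761 : act 7 n176465 = n121484 := d8_2 (iv7 F129173) D176465 F193845
def n176466 : Q := act 6 n84135
theorem D176466 : act 6 n84135 = n176466 := rfl
theorem F275763 : act 4 n176466 = n84136 := d10_1 D176466 (iv6 D84136) D84135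
theorem F275765 : act 0 n176466 = n121476 := d21_4 D77450 (iv1 F254683) F254685 D176466 (iv6 F193831) F126167 (iv1 F194839) F194837 F89307 F116611
theorem F275766 : act 5 n176466 = n121974 := d21_6 D80142 (iv1 F262806) F262808 (iv6 F133121) F133124 D176466 (iv1 F194781) F89323 F43933 (iv1 F57320)
theorem F275767 : act 0 n121436 = n176466 := d21_4 D166962 F262839 (iv5 D121435) D121436 (iv6 D176466) (iv5 F254685) (iv1 D161111) (iv5 D77326) D77327 (iv1 F249207)
def n176470 : Q := act 2 n84138
theorem D176470 : act 2 n84138 = n176470 := rfl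
theorem F275770 : act 4 n176470 = n84171 := d1_2 (iv4 F129184) D176470 (iv2 D84171)
theorem F275771 : act 6 n176470 = n173683 := d3_2 (iv6 F129185) D176470 (iv2 D173683)
def n176471 : Q := act 5 n84146
theorem D176471 : act 5 n84146 = n176471 := rfl
theorem F275772 : act 2 n176471 = n85073 := d2_1 D176471 (iv5 D85073) (iv2 F131829)
theorem F275773 : act 3 n176471 = n84148 := d6_1 D176471 (iv5 D84148) D84146
theorem F275774 : act 7 n176471 = n84903 := d13_2 (iv7 F155159) D176471 (iv5 D84903)
theorem F275775 : act 4 n176471 = n175364 := d18_5 D18375 D38584 D83713 F129190 D176471 (iv0 D175364) (iv4 D83745) (iv0 D38592) (iv5 D18377)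
def n176472 : Q := act 5 n84147
theorem D176472 : act 5 n84147 = n176472 := rfl
theorem F275776 : act 3 n176472 = n85255 := d6_1 D176472 (iv5 D85255) F129191
def n176473 : Q := act 4 n84148
theorem D176473 : act 4 n84148 = n176473 := rfl
def n176474 : Q := act 6 n84148
theorem D176474 : act 6 n84148 = n176474 := rfl
def n176475 : Q := act 4 n84150
theorem D176475 : act 4 n84150 = n176475 := rfl
theorem F275777 : act 2 n176475 = n84154 := d1_1 D176475 (iv4 D84154) (iv2 F129192)
def n176476 : Q := act 6 n84150
theorem D176476 : act 6 n84150 = n176476 := rfl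
theorem F275778 : act 2 n176476 = n84155 := d3_1 D176476 (iv6 D84155) (iv2 F129192)
def n176477 : Q := act 0 n84151
theorem D176477 : act 0 n84151 = n176477 := rfl
def n176478 : Q := act 1 n84151
theorem D176478 : act 1 n84151 = n176478 := rfl
theorem F275779 : act 1 n176478 = n84159 := d15_1 D176478 (iv7 D84159) (iv2 F129193)
def n176479 : Q := act 5 n84151
theorem D176479 : act 5 n84151 = n176479 := rfl
theorem F275780 : act 2 n176479 = n84158 := d2_1 D176479 (iv5 D84158) (iv2 F129193)
theorem F275781 : act 0 n158323 = n176479 := d21_1 D158323 (iv5 D176479) (iv6 D84151) (iv1 F155157) (iv6 D82885) (iv5 F110292) (iv1 F110294) (iv5 D34540) D34541 D75482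
def n176480 : Q := act 7 n84151
theorem D176480 : act 7 n84151 = n176480 := rfl
theorem F275782 : act 2 n176480 = n84159 := d4_1 D176480 (iv7 D84159) (iv2 F129193)
theorem F275783 : act 3 n176480 = n176424 := d8_1 D176480 F275726 F272300
theorem F275784 : act 6 n176480 = n173711 := d14_1 D176480 F272259 F129207 F128029 D84151
theorem F275785 : act 1 n84159 = n176477 := d15_0 (iv0 D176477) D176480 F275782
theorem F275786 : act 1 n84157 = n176480 := d15_1 D84157 (iv7 D176480) F129193
theorem F275787 : act 1 n176480 = n84156 := d15_0 (iv0 D84156) D84159 (iv2 F275782)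
theorem F275788 : act 7 n84156 = n173214 := d15_2 F275786 F275787 F271519
def n176481 : Q := act 3 n84152
theorem D176481 : act 3 n84152 = n176481 := rfl
theorem F275789 : act 4 n176481 = n175787 := d20_6 D83914 F128910 (iv4 D38791) (iv3 F59682) D84152 D176481 (iv1 D175787) (iv4 D83906) F59456 D38650
def n176482 : Q := act 4 n84152
theorem D176482 : act 4 n84152 = n176482 := rfl
def n176483 : Q := act 5 n84152
theorem D176483 : act 5 n84152 = n176483 := rfl
theorem F275790 : act 2 n176483 = n172827 := d2_1 D176483 F272236 (iv2 F272235)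
theorem F275791 : act 7 n176483 = n172775 := d13_2 (iv7 F272232) D176483 (iv5 F272229)
theorem F275792 : act 6 n172820 = n176483 := d14_5 F275791 (iv6 D172775) F186412 D82739 D172820
theorem F275793 : act 1 n172825 = n176483 := d15_1 D172825 F275791 F271043
theorem F275794 : act 1 n176483 = n158212 := d15_0 (iv0 F249229) D172827 (iv2 F275790)
theorem E24711 : n172825 = n158804 := ((c15_4 F275793 F275794 F249228 D158804)).symm
theorem F275795 : act 0 n158804 = n82744 := (sb E24711 (iv1 D172825))
theorem F275796 : act 1 n158804 = n176483 := (sb E24711 F275793)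
def n176484 : Q := act 6 n84152
theorem D176484 : act 6 n84152 = n176484 := rfl
def n176485 : Q := act 3 n84153
theorem D176485 : act 3 n84153 = n176485 := rfl
theorem F275797 : act 5 n176485 = n119139 := d6_2 (iv5 F272227) D176485 (iv3 F191015)
theorem F275798 : act 4 n175316 = n176485 := d20_2 D83721 D175316 (iv3 D176485) (iv1 D84153) F59682 D38791 (iv1 F128914) (iv4 D83917) (iv3 F243982) (iv1 D83720)
theorem F275799 : act 1 n176485 = n85021 := d18_8 (iv1 F131855) (iv4 F129190) (iv1 F128779) (iv4 D38589) D38590 D83737 F274366 F275798 (iv5 D85021)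
theorem F275800 : act 1 n85031 = n176485 := d15_0 F275799 F130373 (iv2 F130390)
theorem F275801 : act 1 n119139 = n85182 := d17_8 (iv1 F130508) (iv5 F92252) (iv1 F130169) (iv5 D39322) D39321 D85031 F275800 F275797 (iv4 D85182)
theorem F275802 : act 2 n85084 = n176485 := d2_3 F275797 (iv2 F236415) (iv5 F236417)
theorem F275803 : act 7 n85085 = n176485 := d15_2 (iv0 D85084) D85085 (iv2 F275802)
theorem F275804 : act 3 n173697 = n85085 := d8_3 F275803 (iv3 D176485) (iv7 F272234)
def n176486 : Q := act 4 n84153
theorem D176486 : act 4 n84153 = n176486 := rfl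
def n176487 : Q := act 6 n84153
theorem D176487 : act 6 n84153 = n176487 := rfl
theorem F275805 : act 5 n176487 = n172824 := d12_1 D176487 (iv6 D172824) (iv5 D82743) D82744 (iv5 F272227)
def n176488 : Q := act 0 n84154
theorem D176488 : act 0 n84154 = n176488 := rfl
def n176489 : Q := act 1 n84154
theorem D176489 : act 1 n84154 = n176489 := rfl
def n176490 : Q := act 3 n84154
theorem D176490 : act 3 n84154 = n176490 := rfl
theorem F275806 : act 4 n176490 = n84160 := d5_2 D84154 D176490 (iv3 D84160) (iv4 D38791) (iv3 F59682)
def n176491 : Q := act 5 n84154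
theorem D176491 : act 5 n84154 = n176491 := rfl
def n176492 : Q := act 6 n84154
theorem D176492 : act 6 n84154 = n176492 := rfl
theorem F275807 : act 4 n176492 = n84155 := d10_1 D176492 (iv6 D84155) D84154
def n176493 : Q := act 0 n84155
theorem D176493 : act 0 n84155 = n176493 := rfl
def n176494 : Q := act 1 n84155
theorem D176494 : act 1 n84155 = n176494 := rfl
def n176495 : Q := act 5 n84155
theorem D176495 : act 5 n84155 = n176495 := rfl
theorem F275808 : act 3 n176495 = n84164 := d6_1 D176495 (iv5 D84164) (iv3 F129194)
theorem F275809 : act 6 n176495 = n84158 := d12_2 D84155 D176495 (iv5 D84158) (iv6 D38790) D38789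
def n176496 : Q := act 7 n84155
theorem D176496 : act 7 n84155 = n176496 := rfl
theorem F275810 : act 3 n176496 = n84165 := d8_1 D176496 (iv7 D84165) (iv3 F129194)
def n176497 : Q := act 2 n84156
theorem D176497 : act 2 n84156 = n176497 := rfl
theorem F275811 : act 7 n176497 = n84157 := d4_2 (iv7 F275788) D176497 (iv2 F271519)
def n176498 : Q := act 3 n84156
theorem D176498 : act 3 n84156 = n176498 := rfl
def n176499 : Q := act 4 n84156
theorem D176499 : act 4 n84156 = n176499 := rfl
def n176500 : Q := act 5 n84156
theorem D176500 : act 5 n84156 = n176500 := rfl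
def n176501 : Q := act 6 n84156
theorem D176501 : act 6 n84156 = n176501 := rfl
def n176502 : Q := act 0 n84158
theorem D176502 : act 0 n84158 = n176502 := rfl
def n176503 : Q := act 1 n84158
theorem D176503 : act 1 n84158 = n176503 := rfl
theorem F275812 : act 5 n119227 = n176503 := d21_0 (iv1 D176503) (iv5 D84158) (iv6 D38790) F155162 (iv6 D38402) (iv5 F58857) F87068 F87063 D75480 F249406
theorem F275813 : act 2 n176503 = n158323 := d2_1 F275812 (iv5 D158323) (iv2 F234201)
theorem F275814 : act 3 n176503 = n119229 := d6_1 F275812 (iv5 D119229) D119227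
theorem F275815 : act 7 n176503 = n158325 := d13_2 F234200 F275812 (iv5 D158325)
theorem F275816 : act 2 n158325 = n176502 := d15_3 (iv0 D176502) D176503 F275815
theorem F275817 : act 7 n158323 = n176502 := d4_2 (iv7 F275815) F275813 (iv2 F275816)
theorem F275818 : act 5 n176502 = n158315 := d13_1 F275817 F249435 D158323
theorem F275819 : act 1 n158325 = n176479 := d15_0 (iv0 F275781) F275817 (iv2 F275816)
def n176504 : Q := act 4 n84158
theorem D176504 : act 4 n84158 = n176504 := rfl
def n176505 : Q := act 7 n84158
theorem D176505 : act 7 n84158 = n176505 := rfl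
theorem F275820 : act 3 n176505 = n84168 := d8_1 D176505 (iv7 D84168) (iv3 F129195)
theorem F275821 : act 5 n176505 = n84159 := d13_1 D176505 (iv7 D84159) D84158
theorem F275822 : act 1 n158323 = n176505 := d15_1 (iv0 F275781) (iv7 D176505) (iv2 F275780)
theorem F275823 : act 1 n176505 = n158325 := d15_1 F275822 (iv7 F275815) F275813
def n176506 : Q := act 0 n84160
theorem D176506 : act 0 n84160 = n176506 := rfl
def n176507 : Q := act 1 n84160
theorem D176507 : act 1 n84160 = n176507 := rfl
def n176508 : Q := act 2 n84160
theorem D176508 : act 2 n84160 = n176508 := rfl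
def n176509 : Q := act 6 n84160
theorem D176509 : act 6 n84160 = n176509 := rfl
theorem F275824 : act 3 n176509 = n84161 := d7_1 D176509 (iv6 D84161) D84160
def n176510 : Q := act 0 n84161
theorem D176510 : act 0 n84161 = n176510 := rfl
def n176511 : Q := act 1 n84161
theorem D176511 : act 1 n84161 = n176511 := rfl
def n176512 : Q := act 5 n84161
theorem D176512 : act 5 n84161 = n176512 := rfl
def n176513 : Q := act 7 n84161
theorem D176513 : act 7 n84161 = n176513 := rfl
theorem F275825 : act 4 n176513 = n84165 := d11_1 D176513 (iv7 D84165) (iv4 F129198)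
def n176521 : Q := act 4 n84163
theorem D176521 : act 4 n84163 = n176521 := rfl
def n176522 : Q := act 6 n84163
theorem D176522 : act 6 n84163 = n176522 := rfl
theorem F275828 : act 5 n176522 = n174492 := d12_1 D176522 F273376 (iv5 D172453) D172454 F270666
theorem F275829 : act 7 n174491 = n176522 := d13_0 F275828 (iv7 D174492) D174491
theorem F275830 : act 0 n101922 = n176522 := d21_1 D101922 F275828 F273376 (iv1 F273361) (iv6 F273363) (iv5 F270613) (iv1 F270637) (iv5 D101746) (iv6 F156784) (iv1 F272642)
theorem F275831 : act 4 n176522 = n175583 := d18_1 F275830 (iv1 D175583) (iv4 D83834) (iv5 D38616) D38615 F154535 (iv4 F72403) F272645 D101922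
theorem F275832 : act 1 n101905 = n176522 := d15_0 (iv0 F275830) (iv7 F274817) F274829
theorem F275833 : act 6 n175583 = n176521 := d10_2 D176522 F275831 (iv4 D176521)
def n176523 : Q := act 0 n84164
theorem D176523 : act 0 n84164 = n176523 := rfl
def n176524 : Q := act 1 n84164
theorem D176524 : act 1 n84164 = n176524 := rfl
def n176525 : Q := act 4 n84164
theorem D176525 : act 4 n84164 = n176525 := rfl
theorem F275834 : act 6 n176525 = n84167 := d10_2 (iv6 F129199) D176525 (iv4 D84167)
def n176526 : Q := act 7 n84164
theorem D176526 : act 7 n84164 = n176526 := rfl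
theorem F275835 : act 5 n176526 = n84165 := d13_1 D176526 (iv7 D84165) D84164
def n176527 : Q := act 0 n84166
theorem D176527 : act 0 n84166 = n176527 := rfl
theorem F275836 : act 3 n176527 = n85136 := d20_5 (iv4 F72536) (iv1 D45951) (iv4 F119016) D84166 D176527 F130467 F130234 (iv4 F125770) (iv3 D81824) (iv1 F118938)
theorem F275837 : act 7 n85130 = n176527 := d8_0 F275836 (iv7 D85136) (iv3 F130466)
def n176528 : Q := act 1 n84166
theorem D176528 : act 1 n84166 = n176528 := rfl
def n176529 : Q := act 2 n84166
theorem D176529 : act 2 n84166 = n176529 := rfl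
theorem F275838 : act 1 n176529 = n85130 := d15_0 (iv0 F270716) F270712 D176529
def n176530 : Q := act 3 n84167
theorem D176530 : act 3 n84167 = n176530 := rfl
def n176531 : Q := act 7 n84167
theorem D176531 : act 7 n84167 = n176531 := rfl
theorem F275839 : act 2 n176531 = n170681 := d4_1 D176531 (iv7 F272319) F272318
theorem F275840 : act 4 n176531 = n84168 := d11_1 D176531 (iv7 D84168) D84167
theorem F275841 : act 5 n176531 = n170681 := d13_1 D176531 (iv7 F272319) F272320
theorem F275842 : act 1 n122467 = n176531 := d15_1 F272322 (iv7 D176531) (iv2 F272318)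
theorem F275843 : act 1 n176531 = n158347 := d15_1 F275842 F249488 (iv2 F195932)
def n176532 : Q := act 6 n84168
theorem D176532 : act 6 n84168 = n176532 := rfl
theorem F275844 : act 2 n176532 = n172486 := d3_1 D176532 (iv6 D172486) (iv2 F129202)
theorem F275845 : act 5 n176532 = n172275 := d12_1 D176532 (iv6 D172275) F127157 (iv6 F59819) (iv5 F129203)
theorem F275846 : act 0 n176532 = n172445 := d21_4 D82594 (iv1 F127210) (iv5 F129203) D176532 (iv6 D172445) (iv5 D82566) (iv1 D37900) D37901 F58752 D37913
def n176533 : Q := act 2 n84169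
theorem D176533 : act 2 n84169 = n176533 := rfl
theorem F275847 : act 7 n84170 = n176533 := d15_2 (iv0 D84169) D84170 (iv2 D176533)
def n176534 : Q := act 3 n84169
theorem D176534 : act 3 n84169 = n176534 := rfl
def n176535 : Q := act 4 n84169
theorem D176535 : act 4 n84169 = n176535 := rfl
def n176536 : Q := act 5 n84169
theorem D176536 : act 5 n84169 = n176536 := rfl
def n176537 : Q := act 6 n84169
theorem D176537 : act 6 n84169 = n176537 := rfl
def n176538 : Q := act 7 n84169
theorem D176538 : act 7 n84169 = n176538 := rfl
theorem F275848 : act 2 n176538 = n84170 := d4_1 D176538 F275847 (iv2 D176533)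
def n176539 : Q := act 3 n84170
theorem D176539 : act 3 n84170 = n176539 := rfl
def n176540 : Q := act 4 n84170
theorem D176540 : act 4 n84170 = n176540 := rfl
theorem F275849 : act 3 n155483 = n176540 := d20_5 F88786 F91184 D40267 (iv3 F130573) (iv1 F244483) (iv4 D176540) (iv1 D84170) (iv4 F129184) (iv3 D84138) F122560
theorem F275850 : act 6 n176540 = n155481 := d7_2 D155483 F275849 (iv3 D155481)
theorem F275851 : act 7 n176540 = n174441 := d8_2 (iv7 F244481) F275849 F273316
theorem E24712 : n174445 = n84170 := (c11_3 F275851 F273317 D174445 D176540)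
theorem E24713 : n176538 = n173709 := (((iv2 F275848)).symm.trans (sb E24712 F273318))
theorem E24714 : n176539 = n85089 := ((D176539).symm.trans (sb E24712 F273319))
theorem E24715 : n176533 = n83382 := ((F275847).symm.trans (sb E24712 (iv7 D174445)))
theorem E24716 : n174396 = n84169 := (((iv7 F273257)).symm.trans (sb E24713 (iv7 D176538)))
theorem F275853 : act 3 n85089 = n84170 := (sb E24714 (iv3 D176539))
theorem F275854 : act 7 n83382 = n84170 := (sb E24715 (iv7 F275847))
theorem F275855 : act 2 n84169 = n83382 := (sb E24716 F273256)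
theorem E24717 : n176537 = n83363 := ((D176537).symm.trans (sb E24716 (iv6 D174396)))
theorem F275856 : act 7 n84169 = n173709 := (sb E24716 F273257)
theorem F275857 : act 6 n83363 = n84169 := (sb E24717 (iv6 D176537))
theorem F275858 : act 6 n176534 = n174393 := d7_2 F275857 D176534 (iv3 D174393)
theorem F275859 : act 6 n176535 = n174394 := d10_2 F275857 D176535 (iv4 D174394)
theorem F275860 : act 0 n158208 = n176536 := d21_1 D158208 (iv5 D176536) (iv6 F275857) (iv1 D83363) (iv6 D38406) D38405 F59258 (iv5 D38022) D38023 (iv1 F155406)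
theorem F275862 : act 2 n174441 = n176535 := d3_3 F275859 F273252 D174441
def n176541 : Q := act 5 n84170
theorem D176541 : act 5 n84170 = n176541 := rfl
def n176542 : Q := act 6 n84170
theorem D176542 : act 6 n84170 = n176542 := rfl
theorem F275869 : act 5 n172776 = n176542 := d21_2 D82725 D172776 (iv6 D176542) (iv1 D84170) F59821 D83070 D173696 F272229 (iv6 D172775) (iv1 D82724)
def n176544 : Q := act 6 n84172
theorem D176544 : act 6 n84172 = n176544 := rfl
theorem F275872 : act 3 n176544 = n84173 := d7_1 D176544 (iv6 D84173) (iv3 F129208)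
theorem F275873 : act 5 n176544 = n173699 := d12_1 D176544 (iv6 D173699) (iv5 D83070) (iv6 F59821) D84172
def n176545 : Q := act 0 n84173
theorem D176545 : act 0 n84173 = n176545 := rfl
def n176546 : Q := act 1 n84173
theorem D176546 : act 1 n84173 = n176546 := rfl
def n176547 : Q := act 7 n84173
theorem D176547 : act 7 n84173 = n176547 := rfl
def n176548 : Q := act 0 n84174
theorem D176548 : act 0 n84174 = n176548 := rfl
theorem F275880 : act 1 n84241 = n176548 := d15_0 (iv0 D176548) F129212 D84241
def n176549 : Q := act 1 n84174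
theorem D176549 : act 1 n84174 = n176549 := rfl
theorem F275881 : act 4 n162681 = n176549 := d20_6 F45068 (iv1 D17265) D17266 D35631 D78148 D162681 (iv1 D176549) F129211 (iv3 D39782) (iv1 F45067)
def n176550 : Q := act 2 n84174
theorem D176550 : act 2 n84174 = n176550 := rfl
theorem F275882 : act 4 n176550 = n86021 := d1_2 (iv4 F129211) D176550 (iv2 D86021)
theorem F275883 : act 7 n176550 = n84241 := d4_2 (iv7 F129212) D176550 (iv2 D84241)
theorem F275884 : act 1 n176550 = n84239 := d15_0 (iv0 D84239) (iv7 F129212) D176550
theorem F275885 : act 1 n176549 = n84241 := d15_1 D176549 (iv7 F275883) (iv2 D176550)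
theorem F275886 : act 1 n84240 = n176550 := d15_1 D84240 F275883 (iv2 D84241)
def n176551 : Q := act 5 n84174
theorem D176551 : act 5 n84174 = n176551 := rfl
theorem F275887 : act 3 n176551 = n84175 := d6_1 D176551 (iv5 D84175) D84174
theorem F275888 : act 7 n176551 = n84242 := d13_2 (iv7 F129212) D176551 (iv5 D84242)
def n176552 : Q := act 6 n84175
theorem D176552 : act 6 n84175 = n176552 := rfl
def n176567 : Q := act 4 n84183
theorem D176567 : act 4 n84183 = n176567 := rfl
def n176569 : Q := act 6 n84183
theorem D176569 : act 6 n84183 = n176569 := rfl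
def n176571 : Q := act 3 n84184
theorem D176571 : act 3 n84184 = n176571 := rfl
def n176572 : Q := act 4 n84184
theorem D176572 : act 4 n84184 = n176572 := rfl
theorem F275931 : act 0 n119514 = n176572 := d20_10 (iv4 D176572) (iv1 D84184) (iv4 F129214) (iv3 D84176) F59836 F56296 F46212 (iv1 F46176) D60189 (iv3 F188493)
theorem F275932 : act 3 n154566 = n176572 := d20_5 F56297 (iv1 F56278) D78056 (iv3 F198428) F242637 (iv4 D176572) (iv1 D84184) (iv4 F129214) (iv3 D84176) F59836
theorem F275933 : act 4 n176571 = n154565 := d5_4 D154566 F275932 (iv4 D176572) D176571 (iv3 D154565)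
theorem F275934 : act 1 n128285 = n176572 := d15_0 (iv0 F275931) F188494 D128285
def n176575 : Q := act 5 n84185
theorem D176575 : act 5 n84185 = n176575 := rfl
theorem F275935 : act 2 n176575 = n84186 := d2_1 D176575 (iv5 D84186) D84185
def n176576 : Q := act 6 n84185
theorem D176576 : act 6 n84185 = n176576 := rfl
theorem F275936 : act 2 n176576 = n84187 := d3_1 D176576 (iv6 D84187) D84185
def n176577 : Q := act 0 n84186
theorem D176577 : act 0 n84186 = n176577 := rfl
def n176578 : Q := act 1 n84186
theorem D176578 : act 1 n84186 = n176578 := rfl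
def n176579 : Q := act 4 n84186
theorem D176579 : act 4 n84186 = n176579 := rfl
def n176580 : Q := act 6 n84186
theorem D176580 : act 6 n84186 = n176580 := rfl
theorem F275937 : act 3 n176580 = n84191 := d7_1 D176580 (iv6 D84191) (iv3 F129232)
def n176585 : Q := act 4 n84188
theorem D176585 : act 4 n84188 = n176585 := rfl
theorem F275942 : act 7 n176585 = n176121 := d11_2 F270150 D176585 F275377
def n176586 : Q := act 6 n84188
theorem D176586 : act 6 n84188 = n176586 := rfl
theorem F275945 : act 2 n176586 = n172509 := d3_1 D176586 F270703 F129236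
theorem F275946 : act 5 n176586 = n98271 := d12_1 D176586 (iv6 D98271) (iv5 D45966) D45967 (iv5 F129234)
def n176587 : Q := act 3 n84189
theorem D176587 : act 3 n84189 = n176587 := rfl
theorem F275947 : act 5 n176587 = n158754 := d6_2 F129239 D176587 (iv3 D158754)
theorem F275948 : act 7 n176587 = n172504 := d8_2 (iv7 F129238) D176587 F270701
def n176588 : Q := act 4 n84189
theorem D176588 : act 4 n84189 = n176588 := rfl
theorem F275949 : act 2 n176588 = n176121 := d1_1 D176588 F275377 (iv2 F270152)
theorem F275950 : act 7 n176588 = n172511 := d11_2 (iv7 F129238) D176588 (iv4 D172511)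
theorem F275951 : act 0 n176588 = n172038 := d18_2 (iv1 F129237) D176588 (iv4 D172038) (iv5 D82395) (iv4 F121789) (iv0 D21920) (iv4 F34411) (iv0 F121803) D38835
theorem F275952 : act 1 n176588 = n172044 := d18_6 (iv1 F126930) (iv4 F121905) (iv1 F151181) F151178 F129239 D176588 (iv4 D172044) F126916 (iv5 D81823)
def n176589 : Q := act 3 n84190
theorem D176589 : act 3 n84190 = n176589 := rfl
def n176590 : Q := act 6 n84190
theorem D176590 : act 6 n84190 = n176590 := rfl
theorem F275953 : act 4 n176590 = n84191 := d10_1 D176590 (iv6 D84191) D84190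
def n176591 : Q := act 0 n84191
theorem D176591 : act 0 n84191 = n176591 := rfl
def n176592 : Q := act 1 n84191
theorem D176592 : act 1 n84191 = n176592 := rfl
def n176593 : Q := act 5 n84191
theorem D176593 : act 5 n84191 = n176593 := rfl
theorem F275955 : act 6 n176593 = n84192 := d12_2 D84191 D176593 (iv5 D84192) (iv6 D38819) D38818
def n176594 : Q := act 7 n84191
theorem D176594 : act 7 n84191 = n176594 := rfl
def n176595 : Q := act 4 n84192
theorem D176595 : act 4 n84192 = n176595 := rfl
theorem F275958 : act 0 n176595 = n157994 := d18_2 (iv1 F129243) D176595 (iv4 D157994) (iv5 D75252) F54652 D34454 F72481 F72480 (iv5 F127168)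
theorem F275959 : act 1 n176595 = n158669 := d18_6 F257243 F128340 F59209 (iv4 F59841) D84192 D176595 (iv4 D158669) F248884 (iv5 F257242)
def n176596 : Q := act 3 n84193
theorem D176596 : act 3 n84193 = n176596 := rfl
theorem F275960 : act 4 n176596 = n86034 := d5_2 D84193 D176596 (iv3 D86034) (iv4 D39807) (iv3 F117756)
theorem F275961 : act 7 n176596 = n170689 := d8_2 (iv7 F129244) D176596 (iv3 D170689)
def n176597 : Q := act 5 n84193
theorem D176597 : act 5 n84193 = n176597 := rfl
theorem F275962 : act 7 n176597 = n170690 := d13_2 (iv7 F129244) D176597 (iv5 D170690)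
theorem F275963 : act 0 n176597 = n172084 := d17_2 F260357 D176597 (iv5 D172084) F126967 (iv5 F113491) F122151 (iv5 F151676) F151679 D165093
theorem F275964 : act 1 n176597 = n172081 := d17_6 D37803 (iv5 F113076) (iv1 F113078) F59847 D84193 D176597 (iv5 D172081) (iv0 D82415) (iv4 D37804)
def n176600 : Q := act 3 n84195
theorem D176600 : act 3 n84195 = n176600 := rfl
def n176601 : Q := act 5 n84195
theorem D176601 : act 5 n84195 = n176601 := rfl
theorem F275967 : act 0 n176601 = n158766 := d17_2 (iv1 F129247) D176601 (iv5 D158766) (iv4 D75736) (iv5 D34634) D34633 F59847 F59845 D38837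
theorem F275968 : act 1 n176601 = n172079 := d17_6 D79321 (iv5 F121903) (iv1 F151181) F151301 (iv4 F151304) D176601 (iv5 D172079) F126965 (iv4 D79323)
def n176605 : Q := act 5 n84196
theorem D176605 : act 5 n84196 = n176605 := rfl
theorem F275969 : act 3 n176605 = n84197 := d6_1 D176605 (iv5 D84197) D84196
def n176606 : Q := act 6 n84196
theorem D176606 : act 6 n84196 = n176606 := rfl
theorem F275970 : act 3 n176606 = n84198 := d7_1 D176606 (iv6 D84198) D84196
def n176607 : Q := act 0 n84197
theorem D176607 : act 0 n84197 = n176607 := rfl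
theorem F275972 : act 1 n84218 = n176607 := d15_0 (iv0 D176607) (iv7 F270209) F270208
def n176608 : Q := act 6 n84197
theorem D176608 : act 6 n84197 = n176608 := rfl
def n176611 : Q := act 1 n84200
theorem D176611 : act 1 n84200 = n176611 := rfl
theorem F275978 : act 4 n176611 = n88639 := d18_7 (iv1 F135945) (iv4 F128314) (iv1 F128316) F59841 D38825 D84200 D176611 F135890 (iv5 F135941)
theorem F275980 : act 6 n98131 = n176611 := d10_0 F275978 F135888 (iv4 F151330)
def n176613 : Q := act 5 n84200
theorem D176613 : act 5 n84200 = n176613 := rfl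
theorem F275983 : act 2 n176613 = n158849 := d2_1 D176613 (iv5 D158849) (iv2 F129251)
theorem F275984 : act 7 n176613 = n158845 := d13_2 (iv7 F129252) D176613 (iv5 D158845)
def n176614 : Q := act 0 n84201
theorem D176614 : act 0 n84201 = n176614 := rfl
theorem F275985 : act 1 n161515 = n176614 := d15_0 (iv0 D176614) F129255 D161515
def n176615 : Q := act 1 n84201
theorem D176615 : act 1 n84201 = n176615 := rfl
theorem F275986 : act 1 n176615 = n161515 := d15_1 D176615 (iv7 F273226) F273225
def n176616 : Q := act 5 n84201
theorem D176616 : act 5 n84201 = n176616 := rfl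
theorem F275988 : act 7 n176616 = n161516 := d13_2 (iv7 F129255) D176616 (iv5 D161516)
def n176617 : Q := act 6 n84201
theorem D176617 : act 6 n84201 = n176617 := rfl
theorem F275989 : act 3 n176617 = n84203 := d7_1 D176617 (iv6 D84203) D84201
def n176618 : Q := act 4 n84202
theorem D176618 : act 4 n84202 = n176618 := rfl
theorem F275992 : act 7 n176618 = n161519 := d11_2 (iv7 F129257) D176618 (iv4 D161519)
def n176620 : Q := act 3 n84206
theorem D176620 : act 3 n84206 = n176620 := rfl
theorem F275995 : act 4 n176620 = n84217 := d5_2 D84206 D176620 (iv3 D84217) (iv4 D38837) (iv3 F59853)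
theorem F275996 : act 6 n176620 = n162213 := d7_2 (iv6 F129271) D176620 (iv3 D162213)
def n176621 : Q := act 0 n84212
theorem D176621 : act 0 n84212 = n176621 := rfl
def n176622 : Q := act 1 n84212
theorem D176622 : act 1 n84212 = n176622 := rfl
def n176623 : Q := act 4 n84212
theorem D176623 : act 4 n84212 = n176623 := rfl
def n176624 : Q := act 6 n84212
theorem D176624 : act 6 n84212 = n176624 := rfl
theorem F275997 : act 3 n176624 = n84215 := d7_1 D176624 (iv6 D84215) (iv3 F129279)
def n176627 : Q := act 5 n84213
theorem D176627 : act 5 n84213 = n176627 := rfl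
theorem F275998 : act 2 n176627 = n172813 := d2_1 D176627 F273232 F273231
theorem F276000 : act 7 n176627 = n172889 := d13_2 F273407 D176627 (iv5 F273406)
theorem E24718 : n172889 = n172814 := ((c15_2 (iv0 D172813) D172814 (iv7 F276000) F275998)).symm
theorem F276004 : act 5 n172814 = n174528 := (sb E24718 (iv5 F273406))
def n176629 : Q := act 6 n84214
theorem D176629 : act 6 n84214 = n176629 := rfl
theorem F276006 : act 4 n176629 = n84215 := d10_1 D176629 (iv6 D84215) D84214
def n176630 : Q := act 0 n84215
theorem D176630 : act 0 n84215 = n176630 := rfl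
def n176631 : Q := act 1 n84215
theorem D176631 : act 1 n84215 = n176631 := rfl
def n176632 : Q := act 5 n84215
theorem D176632 : act 5 n84215 = n176632 := rfl
theorem F276008 : act 6 n176632 = n84216 := d12_2 D84215 D176632 (iv5 D84216) (iv6 D38836) D38835
def n176633 : Q := act 7 n84215
theorem D176633 : act 7 n84215 = n176633 := rfl
def n176638 : Q := act 5 n84217
theorem D176638 : act 5 n84217 = n176638 := rfl
theorem F276013 : act 3 n176638 = n84218 := d6_1 D176638 (iv5 D84218) D84217
def n176639 : Q := act 6 n84217
theorem D176639 : act 6 n84217 = n176639 := rfl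
theorem F276014 : act 3 n176639 = n84219 := d7_1 D176639 (iv6 D84219) D84217
def n176640 : Q := act 6 n84218
theorem D176640 : act 6 n84218 = n176640 := rfl
def n176641 : Q := act 0 n84219
theorem D176641 : act 0 n84219 = n176641 := rfl
theorem F276018 : act 1 n158040 = n176641 := d15_0 (iv0 D176641) (iv7 F141794) (iv2 F248992)
theorem F276019 : act 7 n176641 = n84255 := d15_2 (iv0 F248994) F276018 F129330
theorem F276020 : act 6 n158099 = n176641 := d14_5 F276019 (iv6 D84255) F59879 D75302 D158099
def n176646 : Q := act 6 n84223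
theorem D176646 : act 6 n84223 = n176646 := rfl
theorem F276027 : act 2 n176646 = n162661 := d3_1 D176646 (iv6 D162661) (iv2 F129294)
def n176647 : Q := act 0 n84224
theorem D176647 : act 0 n84224 = n176647 := rfl
def n176653 : Q := act 5 n84226
theorem D176653 : act 5 n84226 = n176653 := rfl
theorem F276032 : act 3 n176653 = n84227 := d6_1 D176653 (iv5 D84227) D84226
def n176654 : Q := act 6 n84226
theorem D176654 : act 6 n84226 = n176654 := rfl
theorem F276033 : act 3 n176654 = n84228 := d7_1 D176654 (iv6 D84228) D84226
def n176655 : Q := act 0 n84227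
theorem D176655 : act 0 n84227 = n176655 := rfl
theorem F276034 : act 5 n176655 = n172065 := d17_3 (iv1 F126963) D84227 D176655 F270180 F151676 F123897 F123894 (iv0 D45836) D45838
theorem F276035 : act 1 n84232 = n176655 := d15_0 (iv0 D176655) (iv7 F249951) F249950
theorem F276036 : act 2 n176601 = n176655 := d2_3 F276034 (iv2 F270181) D176601
def n176656 : Q := act 1 n84227
theorem D176656 : act 1 n84227 = n176656 := rfl
theorem F276039 : act 7 n176656 = n176601 := d15_2 (iv0 D176655) D176656 F276036
theorem F276040 : act 5 n176656 = n172064 := d17_7 (iv1 F117724) (iv5 D37449) (iv1 F117792) F113011 D38843 D84227 D176656 (iv0 D172064) (iv4 D82407)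
def n176658 : Q := act 0 n84228
theorem D176658 : act 0 n84228 = n176658 := rfl
def n176659 : Q := act 1 n84228
theorem D176659 : act 1 n84228 = n176659 := rfl
def n176660 : Q := act 5 n84228
theorem D176660 : act 5 n84228 = n176660 := rfl
def n176662 : Q := act 4 n84230
theorem D176662 : act 4 n84230 = n176662 := rfl
theorem F276043 : act 0 n176662 = n84235 := d18_2 F199371 D176662 (iv4 F260361) F260362 F258578 F258576 F120007 (iv0 F113664) (iv5 F199369)
def n176663 : Q := act 0 n84231
theorem D176663 : act 0 n84231 = n176663 := rfl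
def n176664 : Q := act 1 n84231
theorem D176664 : act 1 n84231 = n176664 := rfl
def n176665 : Q := act 2 n84231
theorem D176665 : act 2 n84231 = n176665 := rfl
def n176666 : Q := act 5 n84231
theorem D176666 : act 5 n84231 = n176666 := rfl
theorem F276044 : act 3 n176666 = n84232 := d6_1 D176666 (iv5 D84232) D84231
def n176668 : Q := act 0 n84233
theorem D176668 : act 0 n84233 = n176668 := rfl
def n176669 : Q := act 1 n84233
theorem D176669 : act 1 n84233 = n176669 := rfl
def n176670 : Q := act 2 n84233
theorem D176670 : act 2 n84233 = n176670 := rfl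
def n176671 : Q := act 5 n84233
theorem D176671 : act 5 n84233 = n176671 := rfl
theorem F276045 : act 3 n176671 = n84234 := d6_1 D176671 (iv5 D84234) D84233
def n176672 : Q := act 6 n84233
theorem D176672 : act 6 n84233 = n176672 := rfl
theorem F276046 : act 3 n176672 = n84235 := d7_1 D176672 (iv6 D84235) D84233
def n176673 : Q := act 0 n84234
theorem D176673 : act 0 n84234 = n176673 := rfl
theorem F276047 : act 5 n176673 = n172063 := d17_3 D38849 D84234 D176673 (iv4 D172063) (iv5 F126940) F113071 F113011 (iv0 D18459) D18461
theorem F276048 : act 2 n176597 = n176673 := d15_3 (iv0 D176673) (iv0 F268196) (iv7 F275962)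
theorem F276049 : act 1 n84237 = n176673 := d15_0 (iv0 D176673) (iv7 F270224) F270223
def n176674 : Q := act 6 n84234
theorem D176674 : act 6 n84234 = n176674 := rfl
def n176675 : Q := act 0 n84235
theorem D176675 : act 0 n84235 = n176675 := rfl
def n176676 : Q := act 5 n84235
theorem D176676 : act 5 n84235 = n176676 := rfl
theorem F276051 : act 2 n176676 = n164112 := d2_1 D176676 (iv5 F270221) F270219
theorem F276052 : act 7 n176676 = n164111 := d13_2 F273467 D176676 F273468
theorem F276053 : act 0 n176676 = n164079 := d17_2 F276043 D176676 (iv5 D164079) F119988 F56547 D78828 (iv5 F119992) D84230 D176662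
theorem F276054 : act 1 n176676 = n164114 := d17_6 (iv1 F140014) F135994 (iv1 F140010) (iv5 F260362) F260361 D176676 F258641 (iv0 F257760) (iv4 D163486)
def n176677 : Q := act 0 n84236
theorem D176677 : act 0 n84236 = n176677 := rfl
def n176678 : Q := act 1 n84236
theorem D176678 : act 1 n84236 = n176678 := rfl
def n176679 : Q := act 2 n84236
theorem D176679 : act 2 n84236 = n176679 := rfl
def n176680 : Q := act 4 n84236
theorem D176680 : act 4 n84236 = n176680 := rfl
theorem F276055 : act 3 n176680 = n161099 := d5_1 D176680 (iv4 D161099) (iv3 F121711) F121713 D84236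
theorem F276056 : act 7 n176680 = n163632 := d11_2 F270216 D176680 (iv4 F270215)
def n176681 : Q := act 5 n84236
theorem D176681 : act 5 n84236 = n176681 := rfl
theorem F276057 : act 3 n176681 = n84237 := d6_1 D176681 (iv5 D84237) D84236
def n176682 : Q := act 6 n84237
theorem D176682 : act 6 n84237 = n176682 := rfl
def n176683 : Q := act 2 n84239
theorem D176683 : act 2 n84239 = n176683 := rfl
theorem F276058 : act 7 n84240 = n176683 := d15_2 (iv0 D84239) D84240 (iv2 D176683)
def n176684 : Q := act 3 n84239
theorem D176684 : act 3 n84239 = n176684 := rfl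
def n176685 : Q := act 4 n84239
theorem D176685 : act 4 n84239 = n176685 := rfl
def n176686 : Q := act 5 n84239
theorem D176686 : act 5 n84239 = n176686 := rfl
def n176687 : Q := act 6 n84239
theorem D176687 : act 6 n84239 = n176687 := rfl
def n176688 : Q := act 7 n84239
theorem D176688 : act 7 n84239 = n176688 := rfl
def n176690 : Q := act 4 n84240
theorem D176690 : act 4 n84240 = n176690 := rfl
theorem F276060 : act 3 n162691 = n176690 := d20_5 F41677 (iv1 F28289) (iv4 F56307) (iv3 F119326) (iv1 F256929) (iv4 D176690) (iv1 D84240) F59861 (iv3 D18861) D18859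
def n176691 : Q := act 5 n84240
theorem D176691 : act 5 n84240 = n176691 := rfl
def n176693 : Q := act 5 n84241
theorem D176693 : act 5 n84241 = n176693 := rfl
theorem F276061 : act 2 n176693 = n84242 := d2_1 D176693 (iv5 D84242) D84241
def n176694 : Q := act 0 n84242
theorem D176694 : act 0 n84242 = n176694 := rfl
def n176695 : Q := act 1 n84242
theorem D176695 : act 1 n84242 = n176695 := rfl
def n176696 : Q := act 4 n84242
theorem D176696 : act 4 n84242 = n176696 := rfl
def n176697 : Q := act 6 n84242
theorem D176697 : act 6 n84242 = n176697 := rfl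
theorem F276062 : act 3 n176697 = n84246 := d7_1 D176697 (iv6 D84246) (iv3 F129303)
theorem F276063 : act 5 n176697 = n84330 := d12_1 D176697 (iv6 D84330) (iv5 D38883) (iv6 F59862) D84242
def n176698 : Q := act 3 n84243
theorem D176698 : act 3 n84243 = n176698 := rfl
def n176699 : Q := act 6 n84243
theorem D176699 : act 6 n84243 = n176699 := rfl
def n176700 : Q := act 3 n84244
theorem D176700 : act 3 n84244 = n176700 := rfl
def n176701 : Q := act 6 n84244
theorem D176701 : act 6 n84244 = n176701 := rfl
def n176702 : Q := act 3 n84245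
theorem D176702 : act 3 n84245 = n176702 := rfl
def n176703 : Q := act 6 n84245
theorem D176703 : act 6 n84245 = n176703 := rfl
theorem F276064 : act 4 n176703 = n84246 := d10_1 D176703 (iv6 D84246) D84245
def n176704 : Q := act 0 n84246
theorem D176704 : act 0 n84246 = n176704 := rfl
def n176705 : Q := act 1 n84246
theorem D176705 : act 1 n84246 = n176705 := rfl
def n176706 : Q := act 7 n84246
theorem D176706 : act 7 n84246 = n176706 := rfl
theorem F276065 : act 5 n176706 = n84339 := d13_1 D176706 (iv7 D84339) (iv5 F129304)
def n176707 : Q := act 0 n84248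
theorem D176707 : act 0 n84248 = n176707 := rfl
theorem F276066 : act 1 n163266 = n176707 := d15_0 (iv0 D176707) F129309 D163266
def n176708 : Q := act 1 n84248
theorem D176708 : act 1 n84248 = n176708 := rfl
def n176709 : Q := act 2 n84248
theorem D176709 : act 2 n84248 = n176709 := rfl
theorem F276067 : act 3 n176709 = n163259 := d0_2 D84248 D176709 (iv2 D163259) (iv3 D78465) (iv2 F59868)
theorem F276068 : act 4 n176709 = n84258 := d1_2 (iv4 F129308) D176709 (iv2 D84258)
theorem F276069 : act 7 n176709 = n163266 := d4_2 (iv7 F129309) D176709 (iv2 D163266)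
theorem F276070 : act 1 n176709 = n163264 := d15_0 (iv0 D163264) (iv7 F129309) D176709
theorem F276071 : act 1 n176708 = n163266 := d15_1 D176708 (iv7 F276069) (iv2 D176709)
theorem F276072 : act 1 n163265 = n176709 := d15_1 D163265 F276069 (iv2 D163266)
def n176710 : Q := act 0 n84250
theorem D176710 : act 0 n84250 = n176710 := rfl
theorem F276073 : act 1 n158102 = n176710 := d15_0 (iv0 D176710) F129316 D158102
def n176711 : Q := act 1 n84250
theorem D176711 : act 1 n84250 = n176711 := rfl
theorem F276074 : act 4 n165900 = n176711 := d20_6 F88217 (iv1 F56102) (iv4 F56103) D36280 D79668 D165900 (iv1 D176711) F129315 (iv3 D55788) (iv1 F88215)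
theorem F276075 : act 0 n158102 = n176711 := d20_7 F256391 (iv1 F261276) (iv4 F261278) (iv3 D165799) (iv1 F192861) F192859 (iv4 F249046) (iv4 F276074) (iv3 D165900) (iv1 F256393)
def n176712 : Q := act 2 n84250
theorem D176712 : act 2 n84250 = n176712 := rfl
theorem F276076 : act 3 n176712 = n158094 := d0_2 D84250 D176712 (iv2 D158094) (iv3 D75301) F59876
theorem F276077 : act 4 n176712 = n120959 := d1_2 (iv4 F129315) D176712 (iv2 D120959)
theorem F276078 : act 7 n176712 = n158102 := d4_2 (iv7 F129316) D176712 (iv2 D158102)
theorem F276079 : act 1 n176712 = n158100 := d15_0 (iv0 D158100) (iv7 F129316) D176712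
theorem F276080 : act 1 n158101 = n176712 := d15_1 D158101 F276078 (iv2 D158102)
def n176713 : Q := act 5 n84250
theorem D176713 : act 5 n84250 = n176713 := rfl
theorem F276081 : act 3 n176713 = n84251 := d6_1 D176713 (iv5 D84251) D84250
theorem F276082 : act 7 n176713 = n158066 := d13_2 (iv7 F129316) D176713 F249012
def n176714 : Q := act 6 n84250
theorem D176714 : act 6 n84250 = n176714 := rfl
theorem F276083 : act 3 n176714 = n84252 := d7_1 D176714 (iv6 D84252) D84250
theorem F276084 : act 4 n176714 = n120961 := d10_1 D176714 (iv6 D120961) (iv4 F129315)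
def n176715 : Q := act 6 n84251
theorem D176715 : act 6 n84251 = n176715 := rfl
theorem F276085 : act 2 n176715 = n158069 := d3_1 D176715 (iv6 D158069) (iv2 F129317)
def n176716 : Q := act 5 n84252
theorem D176716 : act 5 n84252 = n176716 := rfl
theorem F276087 : act 2 n176716 = n158098 := d2_1 D176716 (iv5 D158098) (iv2 F129322)
theorem F276088 : act 0 n176660 = n176716 := d21_7 D38864 (iv1 F72391) (iv5 D45841) (iv6 F72385) (iv1 F126963) D84228 D176660 (iv5 D176716) (iv6 D84252) (iv1 F59875)
def n176717 : Q := act 1 n84253
theorem D176717 : act 1 n84253 = n176717 := rfl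
def n176718 : Q := act 2 n84253
theorem D176718 : act 2 n84253 = n176718 := rfl
theorem F276089 : act 3 n176718 = n158102 := d0_2 D84253 D176718 (iv2 D158102) (iv3 D75303) F59881
theorem F276090 : act 7 n176718 = n158094 := d4_2 (iv7 F129324) D176718 (iv2 D158094)
theorem F276091 : act 1 n176718 = n158092 := d15_0 (iv0 D158092) (iv7 F129324) D176718
theorem F276092 : act 1 n176717 = n158094 := d15_1 D176717 (iv7 F276090) (iv2 D176718)
theorem F276093 : act 2 n158092 = n176717 := d15_3 F276092 F258690 F258688
theorem F276094 : act 7 n158093 = n176717 := d15_2 (iv0 D158092) D158093 (iv2 F276093)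
theorem F276095 : act 2 n164139 = n158093 := d4_3 F276094 (iv2 F276093) (iv7 F258688)
theorem F276096 : act 1 n158093 = n176718 := d15_0 F276091 (iv7 F258688) F276095
def n176719 : Q := act 5 n84253
theorem D176719 : act 5 n84253 = n176719 := rfl
theorem F276097 : act 3 n176719 = n84254 := d6_1 D176719 (iv5 D84254) D84253
theorem F276098 : act 7 n176719 = n158068 := d13_2 (iv7 F129324) D176719 F249014
def n176720 : Q := act 6 n84253
theorem D176720 : act 6 n84253 = n176720 := rfl
theorem F276099 : act 3 n176720 = n84255 := d7_1 D176720 (iv6 D84255) D84253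
def n176721 : Q := act 6 n84254
theorem D176721 : act 6 n84254 = n176721 := rfl
theorem F276100 : act 2 n176721 = n158067 := d3_1 D176721 (iv6 D158067) (iv2 F129325)
theorem F276101 : act 4 n176721 = n88717 := d10_1 D176721 (iv6 D88717) (iv4 F129326)
def n176723 : Q := act 2 n84256
theorem D176723 : act 2 n84256 = n176723 := rfl
theorem F276103 : act 7 n84257 = n176723 := d15_2 (iv0 D84256) D84257 (iv2 D176723)
def n176724 : Q := act 3 n84256
theorem D176724 : act 3 n84256 = n176724 := rfl
theorem F276104 : act 4 n176724 = n163431 := d20_6 (iv4 D20335) (iv1 F17609) D18464 D38858 D84256 D176724 (iv1 D163431) F119726 (iv3 D47684) F36013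
def n176725 : Q := act 4 n84256
theorem D176725 : act 4 n84256 = n176725 := rfl
def n176726 : Q := act 5 n84256
theorem D176726 : act 5 n84256 = n176726 := rfl
theorem F276105 : act 4 n176726 = n163472 := d19_2 D84256 D176726 (iv3 D163472) (iv1 D78557) (iv5 D35787) (iv4 D17340) F12886 (iv1 F9593) F9591 F4162 F2265 (iv1 F1635) F856 (iv4 F1663) (iv3 F2865) D3890 D8681 D18464 D38858
def n176727 : Q := act 6 n84256
theorem D176727 : act 6 n84256 = n176727 := rfl
def n176728 : Q := act 7 n84256
theorem D176728 : act 7 n84256 = n176728 := rfl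
theorem F276106 : act 2 n176728 = n84257 := d4_1 D176728 F276103 (iv2 D176723)
def n176729 : Q := act 3 n84257
theorem D176729 : act 3 n84257 = n176729 := rfl
def n176730 : Q := act 4 n84257
theorem D176730 : act 4 n84257 = n176730 := rfl
theorem F276107 : act 3 n160842 = n176730 := d20_5 (iv4 D26963) (iv1 F28266) D35235 D77186 D160842 (iv4 D176730) (iv1 D84257) (iv4 F129308) (iv3 D84248) F59870
def n176731 : Q := act 5 n84257
theorem D176731 : act 5 n84257 = n176731 := rfl
def n176732 : Q := act 6 n84257
theorem D176732 : act 6 n84257 = n176732 := rfl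
def n176733 : Q := act 5 n84258
theorem D176733 : act 5 n84258 = n176733 := rfl
theorem F276108 : act 2 n176733 = n84259 := d2_1 D176733 (iv5 D84259) D84258
theorem F276109 : act 3 n176733 = n158116 := d6_1 D176733 (iv5 D158116) (iv3 F129332)
def n176734 : Q := act 0 n84259
theorem D176734 : act 0 n84259 = n176734 := rfl
def n176735 : Q := act 1 n84259
theorem D176735 : act 1 n84259 = n176735 := rfl
def n176736 : Q := act 4 n84259
theorem D176736 : act 4 n84259 = n176736 := rfl
theorem F276110 : act 3 n176736 = n102993 := d5_1 D176736 (iv4 D102993) (iv3 D47755) (iv4 F59883) (iv3 F129333)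
def n176737 : Q := act 6 n84259
theorem D176737 : act 6 n84259 = n176737 := rfl
theorem F276111 : act 3 n176737 = n84260 := d7_1 D176737 (iv6 D84260) (iv3 F129333)
def n176738 : Q := act 0 n84260
theorem D176738 : act 0 n84260 = n176738 := rfl
def n176739 : Q := act 1 n84260
theorem D176739 : act 1 n84260 = n176739 := rfl
theorem F276112 : act 1 n176739 = n158127 := d15_1 D176739 (iv7 D158127) (iv2 F129334)
def n176740 : Q := act 7 n84260
theorem D176740 : act 7 n84260 = n176740 := rfl
theorem F276113 : act 2 n176740 = n158127 := d4_1 D176740 (iv7 D158127) (iv2 F129334)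
theorem F276114 : act 4 n176740 = n102998 := d11_1 D176740 (iv7 D102998) (iv4 F129335)
theorem F276115 : act 1 n158127 = n176738 := d15_0 (iv0 D176738) D176740 F276113
theorem F276116 : act 1 n158126 = n176740 := d15_1 D158126 (iv7 D176740) F129334
theorem F276117 : act 1 n176740 = n158125 := d15_0 (iv0 D158125) D158127 (iv2 F276113)
def n176742 : Q := act 1 n84261
theorem D176742 : act 1 n84261 = n176742 := rfl
def n176746 : Q := act 3 n84267
theorem D176746 : act 3 n84267 = n176746 := rfl
theorem F276129 : act 7 n176746 = n158107 := d8_2 (iv7 F261361) D176746 (iv3 D158107)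
def n176750 : Q := act 5 n84268
theorem D176750 : act 5 n84268 = n176750 := rfl
def n176751 : Q := act 6 n84268
theorem D176751 : act 6 n84268 = n176751 := rfl
theorem F276137 : act 2 n176751 = n158110 := d3_1 D176751 (iv6 D158110) (iv2 F261357)
def n176752 : Q := act 5 n84269
theorem D176752 : act 5 n84269 = n176752 := rfl
theorem F276138 : act 2 n176752 = n84270 := d2_1 D176752 (iv5 D84270) D84269
theorem F276139 : act 7 n176752 = n158116 := d13_2 (iv7 F129344) D176752 (iv5 D158116)
theorem F276140 : act 1 n158118 = n176752 := d15_1 D158118 F276139 F249055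
theorem F276141 : act 1 n176752 = n158117 := d15_0 (iv0 D158117) (iv7 F129349) (iv2 F276138)
def n176753 : Q := act 6 n84269
theorem D176753 : act 6 n84269 = n176753 := rfl
theorem F276142 : act 2 n176753 = n84271 := d3_1 D176753 (iv6 D84271) D84269
def n176754 : Q := act 0 n84270
theorem D176754 : act 0 n84270 = n176754 := rfl
theorem F276143 : act 1 n158116 = n176754 := d15_0 (iv0 D176754) F129349 (iv2 F249055)
def n176755 : Q := act 1 n84270
theorem D176755 : act 1 n84270 = n176755 := rfl
theorem F276144 : act 1 n176755 = n158116 := d15_1 D176755 (iv7 F276139) F276138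
def n176756 : Q := act 4 n84270
theorem D176756 : act 4 n84270 = n176756 := rfl
theorem F276145 : act 3 n176756 = n102984 := d5_1 D176756 (iv4 D102984) (iv3 D47753) (iv4 F59891) (iv3 F129348)
theorem F276146 : act 7 n176756 = n158119 := d11_2 (iv7 F129349) D176756 (iv4 D158119)
def n176757 : Q := act 6 n84270
theorem D176757 : act 6 n84270 = n176757 := rfl
theorem F276147 : act 3 n176757 = n84272 := d7_1 D176757 (iv6 D84272) (iv3 F129348)
def n176761 : Q := act 0 n84272
theorem D176761 : act 0 n84272 = n176761 := rfl
def n176762 : Q := act 1 n84272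
theorem D176762 : act 1 n84272 = n176762 := rfl
def n176763 : Q := act 5 n84272
theorem D176763 : act 5 n84272 = n176763 := rfl
theorem F276149 : act 6 n176763 = n84275 := d12_2 D84272 D176763 (iv5 D84275) (iv6 D38865) D38864
def n176764 : Q := act 7 n84272
theorem D176764 : act 7 n84272 = n176764 := rfl
theorem F276150 : act 4 n176764 = n102989 := d11_1 D176764 (iv7 D102989) (iv4 F129351)
theorem F276151 : act 6 n176764 = n158127 := d14_1 D176764 (iv7 D158127) (iv6 D75311) (iv7 F59892) D84272
def n176767 : Q := act 3 n84274
theorem D176767 : act 3 n84274 = n176767 := rfl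
theorem F276152 : act 4 n176767 = n166025 := d5_2 F250026 D176767 (iv3 D166025) (iv4 D79710) D79709
def n176780 : Q := act 3 n84280
theorem D176780 : act 3 n84280 = n176780 := rfl
theorem F276166 : act 4 n176780 = n170850 := d20_6 (iv4 D34457) F27402 D18470 D38868 D84280 D176780 (iv1 D170850) F126254 (iv3 D38874) (iv1 F54666)
def n176790 : Q := act 4 n84283
theorem D176790 : act 4 n84283 = n176790 := rfl
theorem F276175 : act 3 n176790 = n102905 := d5_1 D176790 (iv4 D102905) F75001 (iv4 F59896) (iv3 F129356)
def n176791 : Q := act 6 n84283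
theorem D176791 : act 6 n84283 = n176791 := rfl
theorem F276176 : act 3 n176791 = n84285 := d7_1 D176791 (iv6 D84285) (iv3 F129356)
def n176796 : Q := act 0 n84285
theorem D176796 : act 0 n84285 = n176796 := rfl
def n176797 : Q := act 1 n84285
theorem D176797 : act 1 n84285 = n176797 := rfl
def n176798 : Q := act 5 n84285
theorem D176798 : act 5 n84285 = n176798 := rfl
theorem F276180 : act 6 n176798 = n84288 := d12_2 D84285 D176798 (iv5 D84288) (iv6 D38870) D38869
def n176799 : Q := act 7 n84285
theorem D176799 : act 7 n84285 = n176799 := rfl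
theorem F276181 : act 4 n176799 = n102914 := d11_1 D176799 (iv7 D102914) (iv4 F129358)
def n176800 : Q := act 2 n84286
theorem D176800 : act 2 n84286 = n176800 := rfl
def n176803 : Q := act 6 n84286
theorem D176803 : act 6 n84286 = n176803 := rfl
def n176807 : Q := act 6 n84287
theorem D176807 : act 6 n84287 = n176807 := rfl
def n176812 : Q := act 3 n84292
theorem D176812 : act 3 n84292 = n176812 := rfl
theorem F276193 : act 4 n176812 = n86237 := d5_2 D84292 D176812 (iv3 D86237) (iv4 D39909) F255003
def n176814 : Q := act 6 n84292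
theorem D176814 : act 6 n84292 = n176814 := rfl
theorem F276195 : act 4 n176814 = n84294 := d10_1 D176814 (iv6 D84294) D84292
def n176815 : Q := act 4 n84293
theorem D176815 : act 4 n84293 = n176815 := rfl
theorem F276196 : act 6 n176815 = n176662 := d10_2 (iv6 F129365) D176815 (iv4 D176662)
def n176819 : Q := act 2 n84299
theorem D176819 : act 2 n84299 = n176819 := rfl
theorem F276201 : act 7 n84300 = n176819 := d15_2 (iv0 D84299) D84300 (iv2 D176819)
def n176820 : Q := act 3 n84299
theorem D176820 : act 3 n84299 = n176820 := rfl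
theorem F276202 : act 4 n176820 = n166697 := d20_6 (iv4 D36255) F28509 (iv4 F29655) D38874 D84299 D176820 (iv1 D166697) F122811 F112884 (iv1 F56993)
theorem F276203 : act 0 n176820 = n84323 := d20_1 (iv4 F276202) (iv4 F254192) (iv3 D160976) F119834 D163752 F258113 (iv1 F255070) (iv4 F262357) F262356 (iv1 F262378)
def n176821 : Q := act 4 n84299
theorem D176821 : act 4 n84299 = n176821 := rfl
def n176822 : Q := act 5 n84299
theorem D176822 : act 5 n84299 = n176822 := rfl
def n176823 : Q := act 6 n84299
theorem D176823 : act 6 n84299 = n176823 := rfl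
def n176824 : Q := act 7 n84299
theorem D176824 : act 7 n84299 = n176824 := rfl
theorem F276204 : act 2 n176824 = n84300 := d4_1 D176824 F276201 (iv2 D176819)
def n176825 : Q := act 3 n84300
theorem D176825 : act 3 n84300 = n176825 := rfl
def n176826 : Q := act 4 n84300
theorem D176826 : act 4 n84300 = n176826 := rfl
theorem F276205 : act 3 n170835 = n176826 := d20_5 (iv4 D34438) (iv1 F29163) D37505 D81901 D170835 (iv4 D176826) (iv1 D84300) (iv4 F126254) (iv3 D81907) (iv1 F58389)
def n176827 : Q := act 5 n84300
theorem D176827 : act 5 n84300 = n176827 := rfl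
def n176828 : Q := act 6 n84300
theorem D176828 : act 6 n84300 = n176828 := rfl
def n176829 : Q := act 5 n84301
theorem D176829 : act 5 n84301 = n176829 := rfl
theorem F276206 : act 2 n176829 = n84302 := d2_1 D176829 (iv5 D84302) D84301
def n176830 : Q := act 6 n84301
theorem D176830 : act 6 n84301 = n176830 := rfl
theorem F276207 : act 2 n176830 = n84303 := d3_1 D176830 (iv6 D84303) D84301
def n176831 : Q := act 0 n84302
theorem D176831 : act 0 n84302 = n176831 := rfl
def n176832 : Q := act 1 n84302
theorem D176832 : act 1 n84302 = n176832 := rfl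
def n176833 : Q := act 4 n84302
theorem D176833 : act 4 n84302 = n176833 := rfl
theorem F276208 : act 3 n176833 = n102866 := d5_1 D176833 (iv4 D102866) F74985 (iv4 F59903) (iv3 F129373)
def n176834 : Q := act 6 n84302
theorem D176834 : act 6 n84302 = n176834 := rfl
theorem F276209 : act 3 n176834 = n84304 := d7_1 D176834 (iv6 D84304) (iv3 F129373)
def n176835 : Q := act 0 n84303
theorem D176835 : act 0 n84303 = n176835 := rfl
def n176836 : Q := act 1 n84303
theorem D176836 : act 1 n84303 = n176836 := rfl
def n176837 : Q := act 5 n84303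
theorem D176837 : act 5 n84303 = n176837 := rfl
theorem F276210 : act 3 n176837 = n84305 := d6_1 D176837 (iv5 D84305) (iv3 F129374)
def n176838 : Q := act 7 n84303
theorem D176838 : act 7 n84303 = n176838 := rfl
theorem F276211 : act 3 n176838 = n84306 := d8_1 D176838 (iv7 D84306) (iv3 F129374)
def n176839 : Q := act 0 n84304
theorem D176839 : act 0 n84304 = n176839 := rfl
def n176840 : Q := act 1 n84304
theorem D176840 : act 1 n84304 = n176840 := rfl
def n176841 : Q := act 5 n84304
theorem D176841 : act 5 n84304 = n176841 := rfl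
theorem F276212 : act 6 n176841 = n84305 := d12_2 D84304 D176841 (iv5 D84305) (iv6 D38876) D38875
def n176842 : Q := act 7 n84304
theorem D176842 : act 7 n84304 = n176842 := rfl
theorem F276213 : act 4 n176842 = n102875 := d11_1 D176842 (iv7 D102875) (iv4 F129375)
def n176843 : Q := act 4 n84305
theorem D176843 : act 4 n84305 = n176843 := rfl
theorem F276214 : act 2 n176843 = n174909 := d1_1 D176843 F273811 F250184
theorem F276215 : act 5 n176843 = n173342 := d9_2 D84305 D176843 F271791 F127850 (iv4 F60954) (iv5 F132621) F132620 (iv5 F272987) F272988 (iv5 D83545) (iv4 D38519) (iv5 D18351) (iv4 F14308) D19495 (iv4 F59905)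
theorem F276216 : act 0 n176843 = n174907 := d18_2 F129377 D176843 F273809 F271620 (iv4 D88650) D88649 (iv4 F135935) F128336 D83273
theorem F276217 : act 1 n176843 = n174906 := d18_6 (iv1 F127734) (iv4 F127735) (iv1 D41392) (iv4 F59905) D84305 D176843 F273804 F271624 F128373
theorem F276218 : act 7 n176843 = n173341 := d15_2 D174907 (iv0 F276216) F271789
def n176844 : Q := act 7 n84305
theorem D176844 : act 7 n84305 = n176844 := rfl
theorem F276219 : act 2 n176844 = n174198 := d4_1 D176844 F272990 F250184
theorem F276220 : act 4 n176844 = n173341 := d11_1 D176844 (iv7 F276218) (iv4 D176843)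
theorem F276221 : act 5 n176844 = n84306 := d13_1 D176844 (iv7 D84306) D84305
theorem F276222 : act 1 n173250 = n176844 := d15_1 (iv0 F271593) (iv7 D176844) (iv2 F250184)
theorem F276223 : act 1 n176844 = n124470 := d15_1 F276222 F199093 (iv2 F271591)
def n176845 : Q := act 2 n84307
theorem D176845 : act 2 n84307 = n176845 := rfl
theorem F276224 : act 7 n84308 = n176845 := d15_2 (iv0 D84307) D84308 (iv2 D176845)
def n176846 : Q := act 3 n84307
theorem D176846 : act 3 n84307 = n176846 := rfl
theorem F276225 : act 4 n176846 = n166869 := d20_6 (iv4 D41374) (iv1 F32314) (iv4 F32316) D38877 D84307 D176846 (iv1 D166869) F122932 (iv3 D75266) (iv1 F63807)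
def n176847 : Q := act 4 n84307
theorem D176847 : act 4 n84307 = n176847 := rfl
theorem F276226 : act 0 n163602 = n176847 := d20_10 (iv4 D176847) (iv1 F250175) (iv4 F254499) (iv3 F262132) (iv1 F262136) (iv3 F262246) (iv4 F262244) (iv1 D159299) F119778 D163602
def n176848 : Q := act 5 n84307
theorem D176848 : act 5 n84307 = n176848 := rfl
def n176849 : Q := act 6 n84307
theorem D176849 : act 6 n84307 = n176849 := rfl
def n176850 : Q := act 7 n84307
theorem D176850 : act 7 n84307 = n176850 := rfl
theorem F276227 : act 2 n176850 = n84308 := d4_1 D176850 F276224 (iv2 D176845)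
def n176851 : Q := act 3 n84308
theorem D176851 : act 3 n84308 = n176851 := rfl
def n176852 : Q := act 4 n84308
theorem D176852 : act 4 n84308 = n176852 := rfl
theorem F276228 : act 3 n163591 = n176852 := d20_5 (iv4 D45136) F33909 (iv4 F56468) D78602 D163591 (iv4 D176852) (iv1 D84308) (iv4 F122696) (iv3 D79942) (iv1 F71121)
def n176853 : Q := act 5 n84308
theorem D176853 : act 5 n84308 = n176853 := rfl
def n176854 : Q := act 6 n84308
theorem D176854 : act 6 n84308 = n176854 := rfl
def n176855 : Q := act 5 n84309
theorem D176855 : act 5 n84309 = n176855 := rfl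
theorem F276229 : act 2 n176855 = n84310 := d2_1 D176855 (iv5 D84310) D84309
def n176856 : Q := act 6 n84309
theorem D176856 : act 6 n84309 = n176856 := rfl
theorem F276230 : act 2 n176856 = n84311 := d3_1 D176856 (iv6 D84311) D84309
def n176857 : Q := act 0 n84310
theorem D176857 : act 0 n84310 = n176857 := rfl
def n176858 : Q := act 1 n84310
theorem D176858 : act 1 n84310 = n176858 := rfl
def n176859 : Q := act 4 n84310
theorem D176859 : act 4 n84310 = n176859 := rfl
theorem F276231 : act 3 n176859 = n88710 := d5_1 D176859 (iv4 D88710) F63858 (iv4 F59906) (iv3 F129382)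
theorem F276232 : act 5 n88384 = n176859 := d19_1 D88384 (iv4 D176859) F129382 F59907 (iv5 D35889) (iv4 D17376) F12906 (iv1 F9826) (iv5 D6312) (iv4 F4246) F2918 (iv1 F1743) F1126 (iv4 F1752) (iv3 F3020) D4090 D9105 D19410 D41264
def n176860 : Q := act 6 n84310
theorem D176860 : act 6 n84310 = n176860 := rfl
theorem F276233 : act 3 n176860 = n84312 := d7_1 D176860 (iv6 D84312) (iv3 F129382)
def n176863 : Q := act 5 n84311
theorem D176863 : act 5 n84311 = n176863 := rfl
theorem F276234 : act 3 n176863 = n84315 := d6_1 D176863 (iv5 D84315) (iv3 F129383)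
def n176864 : Q := act 7 n84311
theorem D176864 : act 7 n84311 = n176864 := rfl
theorem F276235 : act 3 n176864 = n84316 := d8_1 D176864 (iv7 D84316) (iv3 F129383)
theorem F276236 : act 6 n176864 = n174218 := d14_1 D176864 F273006 (iv6 D158890) F113701 D84311
def n176865 : Q := act 0 n84312
theorem D176865 : act 0 n84312 = n176865 := rfl
def n176866 : Q := act 1 n84312
theorem D176866 : act 1 n84312 = n176866 := rfl
def n176867 : Q := act 5 n84312
theorem D176867 : act 5 n84312 = n176867 := rfl
theorem F276237 : act 6 n176867 = n84315 := d12_2 D84312 D176867 (iv5 D84315) (iv6 D38879) D38878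
def n176868 : Q := act 7 n84312
theorem D176868 : act 7 n84312 = n176868 := rfl
theorem F276238 : act 4 n176868 = n88720 := d11_1 D176868 (iv7 D88720) (iv4 F129384)
def n176869 : Q := act 0 n84315
theorem D176869 : act 0 n84315 = n176869 := rfl
theorem F276239 : act 5 n176869 = n174215 := d17_3 F250151 D84315 D176869 (iv4 D174215) (iv5 D83275) (iv0 F59207) (iv5 F29654) D38872 D84297
theorem F276240 : act 7 n174657 = n176869 := d13_0 F276239 F273002 D174657
def n176870 : Q := act 1 n84315
theorem D176870 : act 1 n84315 = n176870 := rfl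
theorem F276241 : act 5 n173321 = n176870 := d21_6 D18475 D38884 F59910 D47670 F127821 D173321 (iv1 D176870) (iv5 D84315) (iv6 D38879) (iv1 D18473)
def n176871 : Q := act 4 n84315
theorem D176871 : act 4 n84315 = n176871 := rfl
def n176872 : Q := act 7 n84315
theorem D176872 : act 7 n84315 = n176872 := rfl
theorem F276243 : act 5 n176872 = n84316 := d13_1 D176872 (iv7 D84316) D84315
theorem F276244 : act 1 n174657 = n176872 := d15_1 (iv0 F273513) (iv7 D176872) (iv2 F250165)
def n176873 : Q := act 0 n84318
theorem D176873 : act 0 n84318 = n176873 := rfl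
theorem F276245 : act 1 n164842 = n176873 := d15_0 (iv0 D176873) F254229 (iv2 F259884)
def n176874 : Q := act 1 n84318
theorem D176874 : act 1 n84318 = n176874 := rfl
theorem F276246 : act 1 n176874 = n164842 := d15_1 D176874 (iv7 F261161) F261160
def n176875 : Q := act 5 n84318
theorem D176875 : act 5 n84318 = n176875 := rfl
theorem F276247 : act 3 n176875 = n84320 := d6_1 D176875 (iv5 D84320) D84318
def n176876 : Q := act 6 n84318
theorem D176876 : act 6 n84318 = n176876 := rfl
theorem F276248 : act 3 n176876 = n84321 := d7_1 D176876 (iv6 D84321) D84318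
theorem F276249 : act 4 n176876 = n164846 := d10_1 D176876 (iv6 D164846) (iv4 F129387)
def n176877 : Q := act 6 n84319
theorem D176877 : act 6 n84319 = n176877 := rfl
theorem F276250 : act 2 n176877 = n166717 := d3_1 D176877 (iv6 D166717) F254215
theorem F276251 : act 4 n176877 = n84321 := d10_1 D176877 (iv6 D84321) D84319
def n176878 : Q := act 0 n84320
theorem D176878 : act 0 n84320 = n176878 := rfl
theorem F276252 : act 5 n176878 = n92176 := d17_3 D38880 D84320 D176878 F141767 F67485 F254086 (iv5 D39928) (iv0 D18882) (iv4 F29656)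
theorem F276253 : act 2 n92177 = n176878 := d15_3 (iv0 D176878) F254241 (iv7 F141773)
theorem F276254 : act 1 n84324 = n176878 := d15_0 (iv0 D176878) F254230 (iv2 F254235)
theorem F276255 : act 7 n176878 = n164094 := d15_2 F254091 F276254 F258626
def n176879 : Q := act 4 n84320
theorem D176879 : act 4 n84320 = n176879 := rfl
def n176880 : Q := act 6 n84320
theorem D176880 : act 6 n84320 = n176880 := rfl
def n176881 : Q := act 0 n84321
theorem D176881 : act 0 n84321 = n176881 := rfl
def n176882 : Q := act 1 n84321
theorem D176882 : act 1 n84321 = n176882 := rfl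
def n176883 : Q := act 5 n84321
theorem D176883 : act 5 n84321 = n176883 := rfl
def n176884 : Q := act 7 n84321
theorem D176884 : act 7 n84321 = n176884 := rfl
def n176885 : Q := act 0 n84323
theorem D176885 : act 0 n84323 = n176885 := rfl
theorem F276256 : act 4 n176885 = n166696 := d20_0 (iv1 F262373) F248969 (iv3 F248923) (iv1 F248927) (iv3 F254270) (iv4 F254269) (iv1 D160971) F116019 D84323 D176885
def n176886 : Q := act 2 n84323
theorem D176886 : act 2 n84323 = n176886 := rfl
theorem F276257 : act 3 n176886 = n164842 := d0_2 D84323 D176886 F259884 (iv3 D158894) F254224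
def n176887 : Q := act 5 n84323
theorem D176887 : act 5 n84323 = n176887 := rfl
theorem F276258 : act 3 n176887 = n84324 := d6_1 D176887 (iv5 D84324) D84323
def n176888 : Q := act 6 n84323
theorem D176888 : act 6 n84323 = n176888 := rfl
theorem F276259 : act 3 n176888 = n84325 := d7_1 D176888 (iv6 D84325) D84323
def n176889 : Q := act 4 n84324
theorem D176889 : act 4 n84324 = n176889 := rfl
def n176890 : Q := act 6 n84324
theorem D176890 : act 6 n84324 = n176890 := rfl
def n176891 : Q := act 0 n84325
theorem D176891 : act 0 n84325 = n176891 := rfl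
def n176892 : Q := act 1 n84325
theorem D176892 : act 1 n84325 = n176892 := rfl
def n176893 : Q := act 5 n84325
theorem D176893 : act 5 n84325 = n176893 := rfl
def n176894 : Q := act 7 n84325
theorem D176894 : act 7 n84325 = n176894 := rfl
def n176895 : Q := act 4 n84326
theorem D176895 : act 4 n84326 = n176895 := rfl
theorem F276260 : act 2 n176895 = n84329 := d1_1 D176895 (iv4 D84329) (iv2 F129389)
theorem F276261 : act 5 n176895 = n124303 := d16_1 D176895 (iv4 D124303) (iv5 D57946) F44572 (iv5 F27600) (iv4 F54921) D75819 F113716 (iv2 F129389)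
def n176896 : Q := act 6 n84326
theorem D176896 : act 6 n84326 = n176896 := rfl
theorem F276262 : act 2 n176896 = n84330 := d3_1 D176896 (iv6 D84330) (iv2 F129389)
def n176897 : Q := act 3 n84327
theorem D176897 : act 3 n84327 = n176897 := rfl
def n176898 : Q := act 4 n84327
theorem D176898 : act 4 n84327 = n176898 := rfl
def n176899 : Q := act 6 n84327
theorem D176899 : act 6 n84327 = n176899 := rfl
def n176900 : Q := act 3 n84328
theorem D176900 : act 3 n84328 = n176900 := rfl
def n176901 : Q := act 4 n84328
theorem D176901 : act 4 n84328 = n176901 := rfl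
def n176902 : Q := act 6 n84328
theorem D176902 : act 6 n84328 = n176902 := rfl
def n176903 : Q := act 0 n84329
theorem D176903 : act 0 n84329 = n176903 := rfl
def n176904 : Q := act 1 n84329
theorem D176904 : act 1 n84329 = n176904 := rfl
def n176905 : Q := act 3 n84329
theorem D176905 : act 3 n84329 = n176905 := rfl
theorem F276263 : act 4 n176905 = n84335 := d5_2 D84329 D176905 (iv3 D84335) (iv4 D38886) (iv3 F59909)
theorem F276264 : act 7 n176905 = n98041 := d8_2 F250198 D176905 (iv3 F250197)
def n176906 : Q := act 5 n84329
theorem D176906 : act 5 n84329 = n176906 := rfl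
theorem F276265 : act 2 n176906 = n124303 := d2_1 D176906 (iv5 F276261) F276260
theorem F276266 : act 4 n176906 = n124300 := d16_2 D84329 D176906 (iv5 D124300) F91664 (iv5 F55013) (iv4 F113710) D158902 F250192 F129389
def n176907 : Q := act 6 n84329
theorem D176907 : act 6 n84329 = n176907 := rfl
theorem F276267 : act 4 n176907 = n84330 := d10_1 D176907 (iv6 D84330) D84329
def n176908 : Q := act 0 n84330
theorem D176908 : act 0 n84330 = n176908 := rfl
def n176909 : Q := act 1 n84330
theorem D176909 : act 1 n84330 = n176909 := rfl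
def n176910 : Q := act 7 n84330
theorem D176910 : act 7 n84330 = n176910 := rfl
theorem F276268 : act 3 n176910 = n84339 := d8_1 D176910 (iv7 D84339) (iv3 F129390)
def n176911 : Q := act 0 n84331
theorem D176911 : act 0 n84331 = n176911 := rfl
def n176912 : Q := act 1 n84331
theorem D176912 : act 1 n84331 = n176912 := rfl
def n176913 : Q := act 2 n84331
theorem D176913 : act 2 n84331 = n176913 := rfl
theorem F276269 : act 5 n176913 = n102785 := d2_2 (iv5 F129391) D176913 (iv2 D102785)
def n176914 : Q := act 4 n84331
theorem D176914 : act 4 n84331 = n176914 := rfl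
theorem F276270 : act 3 n176914 = n102833 := d5_1 D176914 (iv4 D102833) F74978 F59912 D84331
def n176915 : Q := act 6 n84331
theorem D176915 : act 6 n84331 = n176915 := rfl
theorem F276271 : act 3 n176915 = n84332 := d7_1 D176915 (iv6 D84332) D84331
def n176916 : Q := act 0 n84332
theorem D176916 : act 0 n84332 = n176916 := rfl
def n176917 : Q := act 1 n84332
theorem D176917 : act 1 n84332 = n176917 := rfl
def n176918 : Q := act 5 n84332
theorem D176918 : act 5 n84332 = n176918 := rfl
theorem F276272 : act 6 n176918 = n102787 := d12_2 D84332 D176918 (iv5 D102787) (iv6 D47670) (iv5 F59910)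
def n176919 : Q := act 7 n84332
theorem D176919 : act 7 n84332 = n176919 := rfl
theorem F276273 : act 4 n176919 = n102841 := d11_1 D176919 (iv7 D102841) (iv4 F129392)
def n176921 : Q := act 1 n84333
theorem D176921 : act 1 n84333 = n176921 := rfl
def n176922 : Q := act 2 n84333
theorem D176922 : act 2 n84333 = n176922 := rfl
theorem F276274 : act 5 n176922 = n102815 := d2_2 (iv5 F129393) D176922 (iv2 D102815)
def n176923 : Q := act 4 n84333
theorem D176923 : act 4 n84333 = n176923 := rfl
theorem F276275 : act 3 n176923 = n102808 := d5_1 D176923 (iv4 D102808) F74964 F59915 D84333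
theorem F276276 : act 5 n86875 = n176923 := d19_1 D86875 (iv4 D176923) (iv3 D84333) (iv1 D38885) (iv5 D18475) (iv4 D8687) F5851 (iv1 F5556) (iv5 D3530) F2714 F1726 D921 F1730 (iv4 F1785) D1827 F17521 D8925 D19052 D40304
def n176924 : Q := act 6 n84333
theorem D176924 : act 6 n84333 = n176924 := rfl
theorem F276277 : act 3 n176924 = n84334 := d7_1 D176924 (iv6 D84334) D84333
def n176925 : Q := act 0 n84334
theorem D176925 : act 0 n84334 = n176925 := rfl
def n176926 : Q := act 1 n84334
theorem D176926 : act 1 n84334 = n176926 := rfl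
def n176927 : Q := act 5 n84334
theorem D176927 : act 5 n84334 = n176927 := rfl
theorem F276278 : act 6 n176927 = n102818 := d12_2 D84334 D176927 (iv5 D102818) (iv6 D47685) (iv5 F59914)
def n176928 : Q := act 7 n84334
theorem D176928 : act 7 n84334 = n176928 := rfl
theorem F276279 : act 4 n176928 = n102812 := d11_1 D176928 (iv7 D102812) (iv4 F129394)
def n176929 : Q := act 0 n84335
theorem D176929 : act 0 n84335 = n176929 := rfl
theorem F276280 : act 1 n98038 = n176929 := d15_0 (iv0 D176929) F129396 (iv2 F151163)
def n176930 : Q := act 1 n84335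
theorem D176930 : act 1 n84335 = n176930 := rfl
def n176931 : Q := act 2 n84335
theorem D176931 : act 2 n84335 = n176931 := rfl
theorem F276282 : act 5 n176931 = n88616 := d2_2 (iv5 F129395) D176931 (iv2 D88616)
theorem F276283 : act 7 n176931 = n98038 := d4_2 (iv7 F129396) D176931 F151163
theorem F276284 : act 1 n176931 = n98039 := d15_0 (iv0 D98039) (iv7 F129396) D176931
theorem F276285 : act 1 n176930 = n98038 := d15_1 D176930 (iv7 F276283) (iv2 D176931)
theorem F276286 : act 1 n98040 = n176931 := d15_1 D98040 F276283 F151163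
def n176932 : Q := act 6 n84335
theorem D176932 : act 6 n84335 = n176932 := rfl
theorem F276287 : act 3 n176932 = n84336 := d7_1 D176932 (iv6 D84336) D84335
def n176933 : Q := act 0 n84336
theorem D176933 : act 0 n84336 = n176933 := rfl
def n176934 : Q := act 1 n84336
theorem D176934 : act 1 n84336 = n176934 := rfl
theorem F276288 : act 1 n176934 = n89691 := d15_1 D176934 (iv7 D89691) (iv2 F129397)
def n176936 : Q := act 7 n84336
theorem D176936 : act 7 n84336 = n176936 := rfl
theorem F276291 : act 2 n176936 = n89691 := d4_1 D176936 (iv7 D89691) (iv2 F129397)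
theorem F276292 : act 4 n176936 = n84339 := d11_1 D176936 (iv7 D84339) (iv4 F129398)
theorem F276293 : act 6 n176936 = n98045 := d14_1 D176936 (iv7 D98045) (iv6 D45758) (iv7 F59918) D84336
theorem F276294 : act 1 n89691 = n176933 := d15_0 (iv0 D176933) D176936 F276291
theorem F276295 : act 1 n89690 = n176936 := d15_1 D89690 (iv7 D176936) F129397
theorem F276296 : act 1 n176936 = n89689 := d15_0 (iv0 D89689) D89691 (iv2 F276291)
def n176937 : Q := act 2 n84337
theorem D176937 : act 2 n84337 = n176937 := rfl
theorem F276297 : act 7 n84338 = n176937 := d15_2 (iv0 D84337) D84338 (iv2 D176937)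
def n176938 : Q := act 3 n84337
theorem D176938 : act 3 n84337 = n176938 := rfl
def n176939 : Q := act 4 n84337
theorem D176939 : act 4 n84337 = n176939 := rfl
def n176940 : Q := act 5 n84337
theorem D176940 : act 5 n84337 = n176940 := rfl
def n176941 : Q := act 6 n84337
theorem D176941 : act 6 n84337 = n176941 := rfl
def n176942 : Q := act 7 n84337
theorem D176942 : act 7 n84337 = n176942 := rfl
theorem F276298 : act 2 n176942 = n84338 := d4_1 D176942 F276297 (iv2 D176937)
def n176943 : Q := act 3 n84338
theorem D176943 : act 3 n84338 = n176943 := rfl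
def n176944 : Q := act 4 n84338
theorem D176944 : act 4 n84338 = n176944 := rfl
def n176945 : Q := act 5 n84338
theorem D176945 : act 5 n84338 = n176945 := rfl
def n176946 : Q := act 6 n84338
theorem D176946 : act 6 n84338 = n176946 := rfl
def n176947 : Q := act 6 n84340
theorem D176947 : act 6 n84340 = n176947 := rfl
theorem F276299 : act 2 n176947 = n123507 := d3_1 D176947 (iv6 D123507) F129401
theorem F276300 : act 3 n176947 = n84341 := d7_1 D176947 (iv6 D84341) D84340
theorem F276301 : act 4 n176947 = n123062 := d10_1 D176947 (iv6 D123062) (iv4 F129399)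
def n176948 : Q := act 0 n84341
theorem D176948 : act 0 n84341 = n176948 := rfl
def n176949 : Q := act 1 n84341
theorem D176949 : act 1 n84341 = n176949 := rfl
def n176950 : Q := act 5 n84341
theorem D176950 : act 5 n84341 = n176950 := rfl
def n176951 : Q := act 7 n84341
theorem D176951 : act 7 n84341 = n176951 := rfl
def n176957 : Q := act 2 n84344
theorem D176957 : act 2 n84344 = n176957 := rfl
theorem F276306 : act 7 n84345 = n176957 := d15_2 (iv0 D84344) D84345 (iv2 D176957)
def n176958 : Q := act 3 n84344
theorem D176958 : act 3 n84344 = n176958 := rfl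
theorem F276307 : act 4 n176958 = n123522 := d20_6 (iv4 D38900) (iv1 D18479) (iv4 F29658) (iv3 F59923) D84344 D176958 (iv1 F197946) (iv4 F197958) F197957 (iv1 F125272)
def n176959 : Q := act 4 n84344
theorem D176959 : act 4 n84344 = n176959 := rfl
def n176960 : Q := act 5 n84344
theorem D176960 : act 5 n84344 = n176960 := rfl
def n176961 : Q := act 6 n84344
theorem D176961 : act 6 n84344 = n176961 := rfl
def n176962 : Q := act 7 n84344
theorem D176962 : act 7 n84344 = n176962 := rfl
theorem F276308 : act 2 n176962 = n84345 := d4_1 D176962 F276306 (iv2 D176957)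
def n176963 : Q := act 3 n84345
theorem D176963 : act 3 n84345 = n176963 := rfl
def n176964 : Q := act 4 n84345
theorem D176964 : act 4 n84345 = n176964 := rfl
def n176965 : Q := act 5 n84345
theorem D176965 : act 5 n84345 = n176965 := rfl
def n176966 : Q := act 6 n84345
theorem D176966 : act 6 n84345 = n176966 := rfl
def n176967 : Q := act 0 n84346
theorem D176967 : act 0 n84346 = n176967 := rfl
def n176968 : Q := act 1 n84346
theorem D176968 : act 1 n84346 = n176968 := rfl
theorem F276309 : act 1 n176968 = n84617 := d15_1 D176968 F185620 F185618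
def n176969 : Q := act 4 n84346
theorem D176969 : act 4 n84346 = n176969 := rfl
def n176970 : Q := act 7 n84346
theorem D176970 : act 7 n84346 = n176970 := rfl
theorem F276310 : act 2 n176970 = n84617 := d4_1 D176970 F185620 F185618
theorem F276311 : act 3 n176970 = n84355 := d8_1 D176970 (iv7 D84355) (iv3 F129405)
theorem F276312 : act 5 n176970 = n84347 := d13_1 D176970 (iv7 D84347) D84346
theorem F276313 : act 1 n84617 = n176967 := d15_0 (iv0 D176967) D176970 F276310
def n176971 : Q := act 0 n84348
theorem D176971 : act 0 n84348 = n176971 := rfl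
theorem F276314 : act 1 n84440 = n176971 := d15_0 (iv0 D176971) F129408 D84440
def n176972 : Q := act 1 n84348
theorem D176972 : act 1 n84348 = n176972 := rfl
def n176973 : Q := act 2 n84348
theorem D176973 : act 2 n84348 = n176973 := rfl
theorem F276315 : act 3 n176973 = n84429 := d0_2 D84348 D176973 (iv2 D84429) (iv3 D38929) (iv2 F89174)
theorem F276316 : act 4 n176973 = n120877 := d1_2 (iv4 F129407) D176973 (iv2 D120877)
theorem F276317 : act 7 n176973 = n84440 := d4_2 (iv7 F129408) D176973 (iv2 D84440)
theorem F276318 : act 1 n176973 = n84438 := d15_0 (iv0 D84438) (iv7 F129408) D176973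
theorem F276319 : act 1 n176972 = n84440 := d15_1 D176972 (iv7 F276317) (iv2 D176973)
theorem F276320 : act 1 n84439 = n176973 := d15_1 D84439 F276317 (iv2 D84440)
def n176974 : Q := act 5 n84348
theorem D176974 : act 5 n84348 = n176974 := rfl
theorem F276322 : act 7 n176974 = n84442 := d13_2 (iv7 F129408) D176974 (iv5 D84442)
def n176975 : Q := act 1 n84349
theorem D176975 : act 1 n84349 = n176975 := rfl
theorem F276325 : act 5 n176975 = n168472 := d17_7 (iv1 F263884) F192777 (iv1 D120871) (iv5 D55732) (iv4 F59924) D84349 D176975 F265403 F263886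
def n176976 : Q := act 4 n84349
theorem D176976 : act 4 n84349 = n176976 := rfl
theorem F276327 : act 2 n176976 = n84436 := d1_1 D176976 (iv4 D84436) (iv2 F129409)
theorem F276328 : act 7 n176976 = n84446 := d11_2 (iv7 F129410) D176976 (iv4 D84446)
def n176977 : Q := act 4 n84350
theorem D176977 : act 4 n84350 = n176977 := rfl
theorem F276329 : act 2 n176977 = n84446 := d1_1 D176977 (iv4 D84446) (iv2 F129411)
theorem F276330 : act 7 n176977 = n84436 := d11_2 (iv7 F129412) D176977 (iv4 D84436)
def n176978 : Q := act 6 n84350
theorem D176978 : act 6 n84350 = n176978 := rfl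
theorem F276331 : act 2 n176978 = n84447 := d3_1 D176978 (iv6 D84447) (iv2 F129411)
def n176980 : Q := act 4 n84352
theorem D176980 : act 4 n84352 = n176980 := rfl
theorem F276333 : act 2 n176980 = n84453 := d1_1 D176980 (iv4 D84453) (iv2 F129423)
theorem F276334 : act 7 n176980 = n84457 := d11_2 (iv7 F129422) D176980 (iv4 D84457)
theorem F276335 : act 1 n176980 = n169812 := d18_6 F267631 F125490 F152324 (iv4 F265409) F265410 D176980 (iv4 D169812) D169811 (iv5 F267233)
def n176982 : Q := act 3 n84353
theorem D176982 : act 3 n84353 = n176982 := rfl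
theorem F276338 : act 5 n176982 = n96795 := d6_2 F129415 D176982 F149261
theorem F276339 : act 7 n176982 = n84452 := d8_2 F129424 D176982 (iv3 D84452)
def n176983 : Q := act 4 n84353
theorem D176983 : act 4 n84353 = n176983 := rfl
theorem F276340 : act 2 n176983 = n84457 := d1_1 D176983 (iv4 D84457) (iv2 F129416)
theorem F276341 : act 7 n176983 = n84453 := d11_2 F129424 D176983 (iv4 D84453)
theorem F276342 : act 0 n176983 = n169812 := d18_2 (iv1 F129414) D176983 (iv4 D169812) (iv5 D81435) F58154 D44896 F121500 F59926 (iv5 F59970)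
theorem F276343 : act 0 n123530 = n155243 := d20_4 D176983 F276342 (iv4 D169812) (iv3 F197956) (iv3 D155243) F110437 F56402 D58103 (iv3 F91896) (iv1 F129414)
def n176985 : Q := act 0 n84354
theorem D176985 : act 0 n84354 = n176985 := rfl
def n176986 : Q := act 1 n84354
theorem D176986 : act 1 n84354 = n176986 := rfl
theorem F276346 : act 1 n176986 = n84463 := d15_1 D176986 (iv7 D84463) (iv2 F129417)
theorem F276347 : act 4 n176986 = n96839 := d18_7 (iv1 F125272) (iv4 D38900) (iv1 D18479) (iv4 F29658) D38893 D84354 D176986 F267239 F267238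
theorem F276348 : act 2 n84460 = n176986 := d1_3 F276347 (iv2 F267234) (iv4 F267235)
theorem F276349 : act 7 n84459 = n176986 := d11_0 F276347 F267229 (iv4 F267231)
theorem F276350 : act 2 n84459 = n176985 := d15_3 (iv0 D176985) D176986 (iv7 F276349)
theorem F276351 : act 7 n176985 = n84460 := d4_2 (iv7 F276349) F276350 F276348
theorem F276352 : act 1 n84463 = n176985 := d15_1 F276346 F276351 F276348
def n176987 : Q := act 3 n84354
theorem D176987 : act 3 n84354 = n176987 := rfl
def n176988 : Q := act 5 n84354
theorem D176988 : act 5 n84354 = n176988 := rfl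
theorem F276353 : act 2 n176988 = n84462 := d2_1 D176988 (iv5 D84462) (iv2 F129417)
theorem F276354 : act 4 n176988 = n84547 := d16_2 D84354 D176988 F129715 F60011 F29686 (iv4 F29680) (iv5 F59970) (iv7 D38941) (iv2 F59927)
theorem F276355 : act 7 n84545 = n176988 := d11_0 F276354 (iv7 D84547) D84545
def n176989 : Q := act 7 n84354
theorem D176989 : act 7 n84354 = n176989 := rfl
theorem F276356 : act 2 n176989 = n84463 := d4_1 D176989 (iv7 D84463) (iv2 F129417)
theorem F276357 : act 4 n176989 = n84355 := d11_1 D176989 (iv7 D84355) D84354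
theorem F276358 : act 5 n176989 = n84545 := d13_1 D176989 F276355 (iv5 D176988)
theorem F276359 : act 1 n84460 = n176989 := d15_1 D84460 (iv7 D176989) F129417
theorem F276360 : act 1 n176989 = n84459 := d15_1 F276359 F276349 (iv2 F276348)
def n176990 : Q := act 6 n84355
theorem D176990 : act 6 n84355 = n176990 := rfl
theorem F276361 : act 2 n176990 = n84464 := d3_1 D176990 (iv6 D84464) (iv2 F129418)
def n176991 : Q := act 5 n84356
theorem D176991 : act 5 n84356 = n176991 := rfl
theorem F276362 : act 3 n176991 = n84357 := d6_1 D176991 (iv5 D84357) D84356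
theorem F276363 : act 7 n176991 = n84501 := d13_2 (iv7 F129427) D176991 (iv5 D84501)
def n176992 : Q := act 1 n84357
theorem D176992 : act 1 n84357 = n176992 := rfl
theorem F276364 : act 1 n176992 = n84360 := d15_1 D176992 F129439 (iv2 F129429)
theorem F276365 : act 7 n176992 = n84474 := d15_2 F267629 D176992 (iv2 F267627)
def n176993 : Q := act 4 n84357
theorem D176993 : act 4 n84357 = n176993 := rfl
theorem F276368 : act 7 n176993 = n84503 := d11_2 (iv7 F129430) D176993 (iv4 D84503)
def n176994 : Q := act 6 n84357
theorem D176994 : act 6 n84357 = n176994 := rfl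
theorem F276370 : act 5 n176994 = n170640 := d12_1 D176994 (iv6 D170640) (iv5 D81796) (iv6 F59935) D84357
def n176995 : Q := act 4 n84358
theorem D176995 : act 4 n84358 = n176995 := rfl
theorem F276371 : act 2 n176995 = n84481 := d1_1 D176995 (iv4 D84481) F129433
theorem F276372 : act 6 n176995 = n157784 := d10_2 F129434 D176995 (iv4 D157784)
theorem F276373 : act 7 n176995 = n84480 := d11_2 (iv7 F129432) D176995 (iv4 D84480)
theorem F276374 : act 0 n176995 = n120872 := d18_2 (iv1 F129431) D176995 (iv4 D120872) (iv5 D55732) (iv4 F59924) (iv0 D38891) F29658 D18479 D38901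
def n176996 : Q := act 0 n84359
theorem D176996 : act 0 n84359 = n176996 := rfl
theorem F276375 : act 4 n176996 = n164632 := d18_3 (iv1 D84358) D84359 D176996 (iv5 D164632) (iv4 F125490) (iv0 F267631) (iv4 D84527) F129673 F129670
theorem F276376 : act 2 n84482 = n176996 := d15_3 (iv0 D176996) (iv0 F256976) F256975
theorem F276377 : act 1 n84362 = n176996 := d15_0 (iv0 D176996) F129437 (iv2 F129444)
def n176997 : Q := act 3 n84359
theorem D176997 : act 3 n84359 = n176997 := rfl
theorem F276379 : act 6 n176997 = n170641 := d7_2 (iv6 F129436) D176997 (iv3 D170641)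
theorem F276380 : act 7 n176997 = n84508 := d8_2 (iv7 F129437) D176997 (iv3 D84508)
def n176998 : Q := act 5 n84359
theorem D176998 : act 5 n84359 = n176998 := rfl
theorem F276381 : act 2 n176998 = n84485 := d2_1 D176998 (iv5 D84485) (iv2 F129435)
theorem F276382 : act 7 n176998 = n84509 := d13_2 (iv7 F129437) D176998 (iv5 D84509)
theorem F276383 : act 1 n176998 = n169916 := d17_6 (iv1 D38904) (iv5 D18480) D18478 D38898 D84359 D176998 (iv5 D169916) (iv0 F129457) (iv4 D84365)
def n176999 : Q := act 4 n84360
theorem D176999 : act 4 n84360 = n176999 := rfl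
theorem F276384 : act 2 n176999 = n84503 := d1_1 D176999 (iv4 D84503) (iv2 F129438)
def n177000 : Q := act 6 n84360
theorem D177000 : act 6 n84360 = n177000 := rfl
theorem F276386 : act 2 n177000 = n84504 := d3_1 D177000 (iv6 D84504) (iv2 F129438)
def n177002 : Q := act 5 n84362
theorem D177002 : act 5 n84362 = n177002 := rfl
theorem F276388 : act 2 n177002 = n84509 := d2_1 D177002 (iv5 D84509) (iv2 F129444)
theorem F276389 : act 7 n177002 = n84485 := d13_2 (iv7 F129445) D177002 (iv5 D84485)
theorem F276390 : act 0 n177002 = n169916 := d17_2 (iv1 F276377) D177002 (iv5 D169916) F125356 (iv5 D44489) (iv0 F121262) D84444 (iv0 F259596) (iv4 F276375)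
def n177003 : Q := act 0 n84363
theorem D177003 : act 0 n84363 = n177003 := rfl
theorem F276391 : act 4 n177003 = n95279 := d18_3 D38903 D84363 D177003 F146921 (iv4 F125271) F125273 (iv4 D38897) (iv0 D18478) D18480
theorem F276392 : act 2 n84514 = n177003 := d15_3 (iv0 D177003) F129458 (iv7 F129666)
theorem F276393 : act 1 n84365 = n177003 := d15_0 (iv0 D177003) F129448 (iv2 F129455)
theorem F276394 : act 7 n177003 = n84515 := d15_2 (iv0 F129457) F276393 F129664
def n177004 : Q := act 3 n84363
theorem D177004 : act 3 n84363 = n177004 := rfl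
theorem F276396 : act 6 n177004 = n124597 := d7_2 (iv6 F129447) D177004 (iv3 D124597)
theorem F276397 : act 7 n177004 = n84524 := d8_2 (iv7 F129448) D177004 (iv3 D84524)
def n177005 : Q := act 5 n84363
theorem D177005 : act 5 n84363 = n177005 := rfl
theorem F276398 : act 2 n177005 = n84517 := d2_1 D177005 (iv5 D84517) (iv2 F129446)
theorem F276399 : act 7 n177005 = n84525 := d13_2 (iv7 F129448) D177005 (iv5 D84525)
def n177006 : Q := act 4 n84364
theorem D177006 : act 4 n84364 = n177006 := rfl
theorem F276404 : act 1 n177006 = n96732 := d18_6 F124543 (iv4 F125356) (iv1 F129458) (iv4 D84363) D84364 D177006 F149166 F146862 D80831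
def n177007 : Q := act 5 n84365
theorem D177007 : act 5 n84365 = n177007 := rfl
theorem F276405 : act 2 n177007 = n84525 := d2_1 D177007 (iv5 D84525) (iv2 F129455)
theorem F276406 : act 7 n177007 = n84517 := d13_2 (iv7 F129456) D177007 (iv5 D84517)
def n177008 : Q := act 6 n84365
theorem D177008 : act 6 n84365 = n177008 := rfl
theorem F276408 : act 4 n177008 = n84366 := d10_1 D177008 (iv6 D84366) D84365
theorem F276410 : act 0 n170239 = n177008 := d20_1 (iv4 F267760) F276408 (iv3 F256226) F265661 F265659 D173079 (iv1 F273049) F273047 (iv3 F260686) F260688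
def n177010 : Q := act 5 n84367
theorem D177010 : act 5 n84367 = n177010 := rfl
theorem F276413 : act 2 n177010 = n84533 := d2_1 D177010 (iv5 D84533) (iv2 F129466)
theorem F276414 : act 7 n177010 = n84536 := d13_2 F129464 D177010 (iv5 D84536)
def n177011 : Q := act 5 n84368
theorem D177011 : act 5 n84368 = n177011 := rfl
theorem F276415 : act 2 n177011 = n84536 := d2_1 D177011 (iv5 D84536) F129469
theorem F276416 : act 7 n177011 = n84533 := d13_2 (iv7 F129468) D177011 (iv5 D84533)
def n177013 : Q := act 0 n84369
theorem D177013 : act 0 n84369 = n177013 := rfl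
def n177014 : Q := act 1 n84369
theorem D177014 : act 1 n84369 = n177014 := rfl
def n177015 : Q := act 2 n84369
theorem D177015 : act 2 n84369 = n177015 := rfl
theorem F276419 : act 3 n177015 = n84540 := d0_2 D84369 D177015 (iv2 D84540) (iv3 D38996) (iv2 F59943)
theorem F276420 : act 6 n177015 = n157754 := d3_2 (iv6 F129470) D177015 (iv2 D157754)
def n177016 : Q := act 5 n84369
theorem D177016 : act 5 n84369 = n177016 := rfl
theorem F276421 : act 3 n177016 = n84370 := d6_1 D177016 (iv5 D84370) D84369
def n177017 : Q := act 7 n84369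
theorem D177017 : act 7 n84369 = n177017 := rfl
theorem F276422 : act 3 n177017 = n84371 := d8_1 D177017 (iv7 D84371) D84369
def n177018 : Q := act 0 n84370
theorem D177018 : act 0 n84370 = n177018 := rfl
theorem F276423 : act 5 n177018 = n120872 := d17_3 (iv1 D84368) D84370 D177018 (iv4 D120872) (iv5 D55732) F121220 (iv5 F70021) D95278 (iv4 F146919)
theorem F276424 : act 1 n84547 = n177018 := d17_6 (iv1 D84358) (iv5 D38898) (iv1 F29664) (iv5 F29686) (iv4 F60011) (iv5 F129715) F276423 (iv0 F276374) (iv4 D176995)
def n177019 : Q := act 1 n84370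
theorem D177019 : act 1 n84370 = n177019 := rfl
theorem F276425 : act 1 n177019 = n84547 := d15_1 D177019 (iv7 D84547) (iv2 F129471)
def n177020 : Q := act 4 n84370
theorem D177020 : act 4 n84370 = n177020 := rfl
theorem F276426 : act 2 n177020 = n84545 := d1_1 D177020 (iv4 D84545) (iv2 F129471)
theorem F276427 : act 5 n177020 = n84463 := d9_2 D84370 D177020 F129598 F59970 F29680 (iv5 F29686) (iv4 F60011) (iv5 F129715) (iv4 F276354) (iv5 D176988) (iv4 D84354) (iv5 D38893) F29658 D18480 D38905
theorem F276428 : act 7 n84462 = n177020 := d13_0 F276427 (iv7 D84463) D84462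
def n177021 : Q := act 6 n84370
theorem D177021 : act 6 n84370 = n177021 := rfl
theorem F276429 : act 2 n177021 = n84546 := d3_1 D177021 (iv6 D84546) (iv2 F129471)
theorem F276430 : act 5 n177021 = n105053 := d12_1 D177021 (iv6 D105053) F76413 (iv6 F59944) D84370
def n177022 : Q := act 7 n84370
theorem D177022 : act 7 n84370 = n177022 := rfl
theorem F276431 : act 2 n177022 = n84547 := d4_1 D177022 (iv7 D84547) (iv2 F129471)
theorem F276432 : act 4 n177022 = n84462 := d11_1 D177022 F276428 (iv4 D177020)
theorem F276433 : act 5 n177022 = n84371 := d13_1 D177022 (iv7 D84371) D84370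
theorem F276435 : act 1 n177022 = n84543 := d15_0 (iv0 D84543) D84547 (iv2 F276431)
def n177023 : Q := act 6 n84371
theorem D177023 : act 6 n84371 = n177023 := rfl
theorem F276436 : act 2 n177023 = n84548 := d3_1 D177023 (iv6 D84548) (iv2 F129472)
def n177024 : Q := act 6 n84373
theorem D177024 : act 6 n84373 = n177024 := rfl
theorem F276441 : act 2 n177024 = n172006 := d3_1 D177024 (iv6 D172006) (iv2 F129481)
theorem F276442 : act 3 n177024 = n173413 := d7_1 D177024 (iv6 D173413) (iv3 F129482)
theorem F276443 : act 4 n177024 = n84375 := d10_1 D177024 (iv6 D84375) D84373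
def n177025 : Q := act 6 n84374
theorem D177025 : act 6 n84374 = n177025 := rfl
theorem F276444 : act 2 n177025 = n122849 := d3_1 D177025 (iv6 D122849) (iv2 F129487)
theorem F276445 : act 3 n177025 = n114679 := d7_1 D177025 (iv6 D114679) (iv3 F129488)
def n177026 : Q := act 0 n84375
theorem D177026 : act 0 n84375 = n177026 := rfl
def n177027 : Q := act 1 n84375
theorem D177027 : act 1 n84375 = n177027 := rfl
def n177028 : Q := act 5 n84375
theorem D177028 : act 5 n84375 = n177028 := rfl
def n177029 : Q := act 7 n84375
theorem D177029 : act 7 n84375 = n177029 := rfl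
def n177030 : Q := act 6 n84376
theorem D177030 : act 6 n84376 = n177030 := rfl
theorem F276447 : act 3 n177030 = n84378 := d7_1 D177030 (iv6 D84378) D84376
theorem F276448 : act 4 n177030 = n153930 := d10_1 D177030 (iv6 D153930) (iv4 F129493)
def n177031 : Q := act 6 n84377
theorem D177031 : act 6 n84377 = n177031 := rfl
theorem F276449 : act 2 n177031 = n170267 := d3_1 D177031 (iv6 D170267) (iv2 F129497)
theorem F276450 : act 4 n177031 = n120369 := d10_1 D177031 (iv6 D120369) (iv4 F129500)
def n177032 : Q := act 0 n84378
theorem D177032 : act 0 n84378 = n177032 := rfl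
def n177033 : Q := act 1 n84378
theorem D177033 : act 1 n84378 = n177033 := rfl
def n177034 : Q := act 5 n84378
theorem D177034 : act 5 n84378 = n177034 := rfl
def n177035 : Q := act 7 n84378
theorem D177035 : act 7 n84378 = n177035 := rfl
theorem F276451 : act 4 n177035 = n173388 := d11_1 D177035 (iv7 D173388) (iv4 F129502)
def n177036 : Q := act 0 n84379
theorem D177036 : act 0 n84379 = n177036 := rfl
theorem F276452 : act 4 n177036 = n172019 := d20_2 F151259 D177036 (iv3 D172019) (iv1 F187751) F187746 F86842 (iv1 F42527) D26600 D55027 (iv1 F151274)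
theorem F276453 : act 0 n177036 = n84383 := d20_7 (iv4 D37800) (iv1 D18125) (iv4 F29288) (iv3 F58635) D82390 D172019 (iv4 F276452) (iv4 F151271) F151270 (iv1 F121887)
def n177037 : Q := act 1 n84379
theorem D177037 : act 1 n84379 = n177037 := rfl
theorem F276454 : act 1 n177037 = n84383 := d15_1 D177037 (iv7 D84383) (iv2 F129503)
def n177038 : Q := act 5 n84379
theorem D177038 : act 5 n84379 = n177038 := rfl
theorem F276455 : act 2 n177038 = n84382 := d2_1 D177038 (iv5 D84382) (iv2 F129503)
def n177039 : Q := act 7 n84379
theorem D177039 : act 7 n84379 = n177039 := rfl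
theorem F276456 : act 2 n177039 = n84383 := d4_1 D177039 (iv7 D84383) (iv2 F129503)
theorem F276458 : act 1 n84381 = n177039 := d15_1 D84381 (iv7 D177039) F129503
theorem F276459 : act 1 n177039 = n84380 := d15_0 (iv0 D84380) D84383 (iv2 F276456)
def n177040 : Q := act 2 n84380
theorem D177040 : act 2 n84380 = n177040 := rfl
theorem F276460 : act 7 n84381 = n177040 := d15_2 (iv0 D84380) D84381 (iv2 D177040)
def n177041 : Q := act 3 n84380
theorem D177041 : act 3 n84380 = n177041 := rfl
def n177042 : Q := act 4 n84380
theorem D177042 : act 4 n84380 = n177042 := rfl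
def n177043 : Q := act 5 n84380
theorem D177043 : act 5 n84380 = n177043 := rfl
def n177044 : Q := act 6 n84380
theorem D177044 : act 6 n84380 = n177044 := rfl
def n177045 : Q := act 7 n84380
theorem D177045 : act 7 n84380 = n177045 := rfl
theorem F276461 : act 2 n177045 = n84381 := d4_1 D177045 F276460 (iv2 D177040)
def n177046 : Q := act 3 n84381
theorem D177046 : act 3 n84381 = n177046 := rfl
theorem F276462 : act 4 n154553 = n177046 := d20_2 (iv4 D154556) D154553 (iv3 D177046) (iv1 D84381) F59951 F29667 D21160 D44493 D95245 F242628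
def n177047 : Q := act 4 n84381
theorem D177047 : act 4 n84381 = n177047 := rfl
theorem F276463 : act 3 n119282 = n177047 := d20_5 (iv4 D18451) (iv1 F29296) (iv4 F58640) (iv3 F126903) (iv1 F187741) (iv4 D177047) (iv1 D84381) (iv4 F72372) F72371 (iv1 F121802)
def n177048 : Q := act 5 n84381
theorem D177048 : act 5 n84381 = n177048 := rfl
def n177049 : Q := act 6 n84381
theorem D177049 : act 6 n84381 = n177049 := rfl
def n177050 : Q := act 0 n84382
theorem D177050 : act 0 n84382 = n177050 := rfl
def n177051 : Q := act 1 n84382
theorem D177051 : act 1 n84382 = n177051 := rfl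
def n177052 : Q := act 4 n84382
theorem D177052 : act 4 n84382 = n177052 := rfl
def n177053 : Q := act 7 n84382
theorem D177053 : act 7 n84382 = n177053 := rfl
theorem F276464 : act 3 n177053 = n84386 := d8_1 D177053 (iv7 D84386) (iv3 F129504)
theorem F276465 : act 5 n177053 = n84383 := d13_1 D177053 (iv7 D84383) D84382
def n177054 : Q := act 3 n84384
theorem D177054 : act 3 n84384 = n177054 := rfl
def n177055 : Q := act 6 n84384
theorem D177055 : act 6 n84384 = n177055 := rfl
def n177056 : Q := act 0 n84385
theorem D177056 : act 0 n84385 = n177056 := rfl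
theorem F276466 : act 4 n177056 = n96668 := d18_3 F113887 D84385 D177056 F148977 F146879 (iv0 F147867) (iv4 F148168) (iv0 D75995) D75997
theorem F276467 : act 2 n169869 = n177056 := d1_3 F276466 F149157 D169869
theorem F276468 : act 7 n169872 = n177056 := d11_0 F276466 F149155 D169872
def n177057 : Q := act 1 n84385
theorem D177057 : act 1 n84385 = n177057 := rfl
theorem F276469 : act 7 n177057 = n169869 := d15_2 (iv0 D177056) D177057 F276467
theorem F276470 : act 4 n177057 = n96669 := d18_7 (iv1 F126050) (iv4 D44498) (iv1 D21161) (iv4 F29667) D38913 D84385 D177057 F148979 F125286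
theorem F276471 : act 2 n169872 = n177057 := d1_3 F276470 (iv2 F149152) D169872
def n177058 : Q := act 3 n84385
theorem D177058 : act 3 n84385 = n177058 := rfl
def n177059 : Q := act 5 n84385
theorem D177059 : act 5 n84385 = n177059 := rfl
def n177060 : Q := act 7 n84385
theorem D177060 : act 7 n84385 = n177060 := rfl
theorem F276472 : act 4 n177060 = n84386 := d11_1 D177060 (iv7 D84386) D84385
def n177061 : Q := act 6 n84386
theorem D177061 : act 6 n84386 = n177061 := rfl
def n177062 : Q := act 5 n84388
theorem D177062 : act 5 n84388 = n177062 := rfl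
theorem F276476 : act 2 n177062 = n160712 := d2_1 D177062 F253861 F235673
theorem F276477 : act 3 n177062 = n84390 := d6_1 D177062 (iv5 D84390) D84388
theorem F276478 : act 7 n177062 = n152372 := d13_2 F148145 D177062 F239568
theorem F276479 : act 4 n177062 = n114059 := d16_2 (iv4 F132628) D177062 F177566 F115823 (iv5 F113436) (iv4 F123981) (iv5 F132624) (iv7 F132627) F132630
theorem F276480 : act 0 n177062 = n103127 := d17_2 F259789 D177062 F158409 F125419 (iv5 D79156) (iv0 D36035) D36038 D79162 D164741
def n177063 : Q := act 6 n84388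
theorem D177063 : act 6 n84388 = n177063 := rfl
theorem F276481 : act 3 n177063 = n84391 := d7_1 D177063 (iv6 D84391) D84388
def n177064 : Q := act 3 n84389
theorem D177064 : act 3 n84389 = n177064 := rfl
theorem F276483 : act 4 n177064 = n151389 := d5_2 D84389 D177064 F238106 (iv4 F132628) (iv3 D84388)
theorem F276484 : act 5 n177064 = n105960 := d6_2 (iv5 F129510) D177064 (iv3 D105960)
theorem F276487 : act 0 n164859 = n177064 := d20_4 (iv4 D54951) D54948 D119402 (iv3 F259891) (iv3 D177064) (iv4 D84389) (iv1 F70698) F70696 F61043 F86935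
def n177065 : Q := act 6 n84389
theorem D177065 : act 6 n84389 = n177065 := rfl
theorem F276488 : act 2 n177065 = n154822 := d3_1 D177065 (iv6 D154822) F129512
theorem F276489 : act 4 n177065 = n84391 := d10_1 D177065 (iv6 D84391) D84389
def n177066 : Q := act 6 n84390
theorem D177066 : act 6 n84390 = n177066 := rfl
theorem F276490 : act 2 n177066 = n151384 := d3_1 D177066 (iv6 D151384) (iv2 F129518)
theorem F276491 : act 4 n177066 = n105865 := d10_1 D177066 (iv6 D105865) (iv4 F129520)
def n177067 : Q := act 0 n84391
theorem D177067 : act 0 n84391 = n177067 := rfl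
def n177068 : Q := act 1 n84391
theorem D177068 : act 1 n84391 = n177068 := rfl
def n177069 : Q := act 5 n84391
theorem D177069 : act 5 n84391 = n177069 := rfl
def n177070 : Q := act 7 n84391
theorem D177070 : act 7 n84391 = n177070 := rfl
def n177071 : Q := act 6 n84393
theorem D177071 : act 6 n84393 = n177071 := rfl
def n177072 : Q := act 6 n84394
theorem D177072 : act 6 n84394 = n177072 := rfl
theorem F276495 : act 2 n177072 = n152373 := d3_1 D177072 (iv6 D152373) (iv2 F129530)
theorem F276496 : act 4 n177072 = n105863 := d10_1 D177072 (iv6 D105863) (iv4 F129531)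
def n177079 : Q := act 3 n84397
theorem D177079 : act 3 n84397 = n177079 := rfl
def n177081 : Q := act 5 n84397
theorem D177081 : act 5 n84397 = n177081 := rfl
def n177082 : Q := act 6 n84397
theorem D177082 : act 6 n84397 = n177082 := rfl
def n177096 : Q := act 6 n84402
theorem D177096 : act 6 n84402 = n177096 := rfl
theorem F276515 : act 2 n177096 = n84403 := d3_1 D177096 (iv6 D84403) D84402
theorem F276516 : act 3 n177096 = n94240 := d7_1 D177096 F145310 (iv3 F129539)
theorem F276517 : act 4 n177096 = n94245 := d10_1 D177096 F252692 F252688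
def n177101 : Q := act 2 n84404
theorem D177101 : act 2 n84404 = n177101 := rfl
theorem F276522 : act 7 n84405 = n177101 := d15_2 (iv0 D84404) D84405 (iv2 D177101)
def n177105 : Q := act 7 n84404
theorem D177105 : act 7 n84404 = n177105 := rfl
theorem F276523 : act 2 n177105 = n84405 := d4_1 D177105 F276522 (iv2 D177101)
def n177114 : Q := act 0 n84408
theorem D177114 : act 0 n84408 = n177114 := rfl
def n177115 : Q := act 1 n84408
theorem D177115 : act 1 n84408 = n177115 := rfl
def n177116 : Q := act 5 n84408
theorem D177116 : act 5 n84408 = n177116 := rfl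
theorem F276533 : act 3 n177116 = n84411 := d6_1 D177116 (iv5 D84411) (iv3 F129554)
theorem F276534 : act 6 n177116 = n96758 := d12_2 D84408 D177116 (iv5 D96758) (iv6 D45217) (iv5 F59962)
def n177117 : Q := act 7 n84408
theorem D177117 : act 7 n84408 = n177117 := rfl
theorem F276536 : act 4 n177117 = n114867 := d11_1 D177117 (iv7 D114867) (iv4 F129555)
def n177118 : Q := act 2 n84409
theorem D177118 : act 2 n84409 = n177118 := rfl
theorem F276538 : act 7 n84410 = n177118 := d15_2 (iv0 D84409) D84410 (iv2 D177118)
def n177124 : Q := act 3 n84410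
theorem D177124 : act 3 n84410 = n177124 := rfl
def n177125 : Q := act 5 n84410
theorem D177125 : act 5 n84410 = n177125 := rfl
def n177126 : Q := act 6 n84410
theorem D177126 : act 6 n84410 = n177126 := rfl
def n177127 : Q := act 0 n84411
theorem D177127 : act 0 n84411 = n177127 := rfl
def n177128 : Q := act 1 n84411
theorem D177128 : act 1 n84411 = n177128 := rfl
theorem F276540 : act 1 n177128 = n170298 := d15_1 D177128 (iv7 D170298) (iv2 F129557)
theorem F276541 : act 5 n170367 = n177128 := d21_6 (iv5 D8692) D8690 (iv5 F29102) D37340 D81693 D170367 (iv1 D177128) (iv5 D84411) (iv6 D38923) (iv1 D18487)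
def n177129 : Q := act 4 n84411
theorem D177129 : act 4 n84411 = n177129 := rfl
theorem F276543 : act 6 n177129 = n96760 := d10_2 (iv6 F129558) D177129 (iv4 D96760)
def n177130 : Q := act 7 n84411
theorem D177130 : act 7 n84411 = n177130 := rfl
theorem F276544 : act 2 n177130 = n170298 := d4_1 D177130 (iv7 D170298) (iv2 F129557)
theorem F276546 : act 1 n170298 = n177127 := d15_0 (iv0 D177127) D177130 F276544
theorem F276548 : act 5 n170432 = n177127 := d21_0 (iv1 F276546) F267797 (iv6 F129550) (iv1 F129552) D170343 (iv5 F267885) (iv1 F267889) (iv5 D81710) D81711 D170432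
def n177131 : Q := act 0 n84413
theorem D177131 : act 0 n84413 = n177131 := rfl
theorem F276550 : act 1 n84418 = n177131 := d15_0 (iv0 D177131) (iv7 F129565) (iv2 F129566)
def n177133 : Q := act 3 n84413
theorem D177133 : act 3 n84413 = n177133 := rfl
theorem F276552 : act 7 n177133 = n84419 := d8_2 F129565 D177133 (iv3 D84419)
def n177134 : Q := act 4 n84413
theorem D177134 : act 4 n84413 = n177134 := rfl
theorem F276553 : act 2 n177134 = n84415 := d1_1 D177134 (iv4 D84415) D84413
theorem F276554 : act 7 n177134 = n84420 := d11_2 F129565 D177134 (iv4 D84420)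
def n177135 : Q := act 5 n84413
theorem D177135 : act 5 n84413 = n177135 := rfl
theorem F276555 : act 2 n177135 = n84416 := d2_1 D177135 (iv5 D84416) D84413
theorem F276556 : act 7 n177135 = n84421 := d13_2 F129565 D177135 (iv5 D84421)
def n177136 : Q := act 6 n84413
theorem D177136 : act 6 n84413 = n177136 := rfl
theorem F276557 : act 2 n177136 = n84417 := d3_1 D177136 (iv6 D84417) D84413
def n177137 : Q := act 0 n84414
theorem D177137 : act 0 n84414 = n177137 := rfl
def n177138 : Q := act 1 n84414
theorem D177138 : act 1 n84414 = n177138 := rfl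
def n177139 : Q := act 2 n84414
theorem D177139 : act 2 n84414 = n177139 := rfl
def n177140 : Q := act 4 n84414
theorem D177140 : act 4 n84414 = n177140 := rfl
def n177141 : Q := act 5 n84414
theorem D177141 : act 5 n84414 = n177141 := rfl
theorem F276558 : act 3 n177141 = n84416 := d6_1 D177141 (iv5 D84416) D84414
def n177142 : Q := act 6 n84414
theorem D177142 : act 6 n84414 = n177142 := rfl
theorem F276559 : act 3 n177142 = n84417 := d7_1 D177142 (iv6 D84417) D84414
def n177143 : Q := act 7 n84414
theorem D177143 : act 7 n84414 = n177143 := rfl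
theorem F276560 : act 3 n177143 = n84418 := d8_1 D177143 (iv7 D84418) D84414
def n177144 : Q := act 0 n84415
theorem D177144 : act 0 n84415 = n177144 := rfl
def n177145 : Q := act 1 n84415
theorem D177145 : act 1 n84415 = n177145 := rfl
theorem F276561 : act 1 n177145 = n84420 := d15_1 D177145 (iv7 F276554) F276553
def n177146 : Q := act 3 n84415
theorem D177146 : act 3 n84415 = n177146 := rfl
def n177147 : Q := act 5 n84415
theorem D177147 : act 5 n84415 = n177147 := rfl
def n177148 : Q := act 6 n84415
theorem D177148 : act 6 n84415 = n177148 := rfl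
theorem F276562 : act 4 n177148 = n84417 := d10_1 D177148 (iv6 D84417) D84415
def n177149 : Q := act 7 n84415
theorem D177149 : act 7 n84415 = n177149 := rfl
theorem F276563 : act 2 n177149 = n84420 := d4_1 D177149 (iv7 F276554) F276553
theorem F276564 : act 4 n177149 = n84418 := d11_1 D177149 (iv7 D84418) D84415
theorem F276565 : act 1 n84420 = n177144 := d15_0 (iv0 D177144) D177149 F276563
def n177150 : Q := act 0 n84416
theorem D177150 : act 0 n84416 = n177150 := rfl
theorem F276566 : act 5 n177150 = n170389 := d21_2 D84416 D177150 (iv6 D170389) (iv1 D81699) (iv6 D37342) F29106 (iv1 D8691) D8692 D18488 D38924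
def n177151 : Q := act 1 n84416
theorem D177151 : act 1 n84416 = n177151 := rfl
theorem F276567 : act 1 n177151 = n84421 := d15_1 D177151 (iv7 F276556) F276555
def n177152 : Q := act 4 n84416
theorem D177152 : act 4 n84416 = n177152 := rfl
def n177153 : Q := act 6 n84416
theorem D177153 : act 6 n84416 = n177153 := rfl
def n177154 : Q := act 7 n84416
theorem D177154 : act 7 n84416 = n177154 := rfl
theorem F276568 : act 2 n177154 = n84421 := d4_1 D177154 (iv7 F276556) F276555
theorem F276569 : act 5 n177154 = n84418 := d13_1 D177154 (iv7 D84418) D84416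
theorem F276570 : act 1 n84421 = n177150 := d15_0 (iv0 D177150) D177154 F276568
def n177158 : Q := act 6 n84418
theorem D177158 : act 6 n84418 = n177158 := rfl
theorem F276571 : act 2 n177158 = n84422 := d3_1 D177158 (iv6 D84422) (iv2 F129566)
def n177159 : Q := act 0 n84419
theorem D177159 : act 0 n84419 = n177159 := rfl
def n177160 : Q := act 1 n84419
theorem D177160 : act 1 n84419 = n177160 := rfl
def n177161 : Q := act 2 n84419
theorem D177161 : act 2 n84419 = n177161 := rfl
def n177162 : Q := act 5 n84419
theorem D177162 : act 5 n84419 = n177162 := rfl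
theorem F276572 : act 3 n177162 = n84421 := d6_1 D177162 (iv5 D84421) D84419
def n177163 : Q := act 6 n84419
theorem D177163 : act 6 n84419 = n177163 := rfl
theorem F276573 : act 3 n177163 = n84422 := d7_1 D177163 (iv6 D84422) D84419
def n177164 : Q := act 5 n84420
theorem D177164 : act 5 n84420 = n177164 := rfl
def n177165 : Q := act 6 n84420
theorem D177165 : act 6 n84420 = n177165 := rfl
theorem F276574 : act 4 n177165 = n84422 := d10_1 D177165 (iv6 D84422) D84420
def n177166 : Q := act 4 n84421
theorem D177166 : act 4 n84421 = n177166 := rfl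
def n177167 : Q := act 6 n84421
theorem D177167 : act 6 n84421 = n177167 := rfl
def n177168 : Q := act 0 n84422
theorem D177168 : act 0 n84422 = n177168 := rfl
def n177169 : Q := act 1 n84422
theorem D177169 : act 1 n84422 = n177169 := rfl
def n177170 : Q := act 5 n84422
theorem D177170 : act 5 n84422 = n177170 := rfl
theorem F276575 : act 0 n170366 = n177170 := d21_1 D170366 (iv5 D177170) (iv6 D84422) (iv1 D38925) (iv6 D18488) (iv5 D8692) D8690 (iv5 F29102) D37340 D81693
def n177171 : Q := act 7 n84422
theorem D177171 : act 7 n84422 = n177171 := rfl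
def n177172 : Q := act 2 n84423
theorem D177172 : act 2 n84423 = n177172 := rfl
theorem F276576 : act 7 n84424 = n177172 := d15_2 (iv0 D84423) D84424 (iv2 D177172)
def n177173 : Q := act 3 n84423
theorem D177173 : act 3 n84423 = n177173 := rfl
def n177174 : Q := act 4 n84423
theorem D177174 : act 4 n84423 = n177174 := rfl
def n177175 : Q := act 5 n84423
theorem D177175 : act 5 n84423 = n177175 := rfl
def n177176 : Q := act 6 n84423
theorem D177176 : act 6 n84423 = n177176 := rfl
def n177177 : Q := act 7 n84423
theorem D177177 : act 7 n84423 = n177177 := rfl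
theorem F276577 : act 2 n177177 = n84424 := d4_1 D177177 F276576 (iv2 D177172)
def n177181 : Q := act 0 n84425
theorem D177181 : act 0 n84425 = n177181 := rfl
def n177182 : Q := act 1 n84425
theorem D177182 : act 1 n84425 = n177182 := rfl
def n177183 : Q := act 3 n84425
theorem D177183 : act 3 n84425 = n177183 := rfl
theorem F276578 : act 6 n177183 = n84461 := d7_2 (iv6 F129567) D177183 (iv3 D84461)
def n177184 : Q := act 5 n84425
theorem D177184 : act 5 n84425 = n177184 := rfl
def n177185 : Q := act 7 n84425
theorem D177185 : act 7 n84425 = n177185 := rfl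
theorem F276579 : act 4 n177185 = n84426 := d11_1 D177185 (iv7 D84426) D84425
def n177186 : Q := act 6 n84426
theorem D177186 : act 6 n84426 = n177186 := rfl
theorem F276580 : act 7 n177186 = n84464 := d14_2 D84426 D177186 (iv6 D84464) (iv7 D38941) (iv6 F59966)
def n177187 : Q := act 2 n84427
theorem D177187 : act 2 n84427 = n177187 := rfl
theorem F276581 : act 7 n84428 = n177187 := d15_2 (iv0 D84427) D84428 (iv2 D177187)
def n177188 : Q := act 4 n84427
theorem D177188 : act 4 n84427 = n177188 := rfl
def n177189 : Q := act 5 n84427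
theorem D177189 : act 5 n84427 = n177189 := rfl
def n177190 : Q := act 6 n84427
theorem D177190 : act 6 n84427 = n177190 := rfl
def n177191 : Q := act 7 n84427
theorem D177191 : act 7 n84427 = n177191 := rfl
theorem F276582 : act 2 n177191 = n84428 := d4_1 D177191 F276581 (iv2 D177187)
def n177192 : Q := act 3 n84428
theorem D177192 : act 3 n84428 = n177192 := rfl
theorem F276583 : act 4 n154117 = n177192 := d20_2 (iv4 F190976) D154117 (iv3 D177192) (iv1 D84428) (iv3 D38929) D38930 F121260 (iv4 F125271) (iv3 F197957) F197959
theorem F276584 : act 0 n177192 = n123541 := d20_1 F276583 (iv4 D123541) D123540 F252389 F109602 (iv4 F94800) F190004 F190662 D72976 D154117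
def n177193 : Q := act 4 n84428
theorem D177193 : act 4 n84428 = n177193 := rfl
theorem F276585 : act 3 n177193 = n173243 := d20_3 D174099 (iv1 F272906) D177193 (iv1 F271581) F189971 (iv4 F189972) (iv1 F42567) (iv4 F86894) (iv3 F188036) (iv1 F188039)
theorem F276586 : act 0 n155232 = n177193 := d20_10 (iv4 D177193) (iv1 D84428) (iv4 F127690) (iv3 D82896) (iv1 F58979) (iv3 F59157) (iv4 F128112) (iv1 F272360) (iv4 F272361) F259371
def n177196 : Q := act 5 n84429
theorem D177196 : act 5 n84429 = n177196 := rfl
theorem F276587 : act 2 n177196 = n84430 := d2_1 D177196 (iv5 D84430) D84429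
def n177197 : Q := act 6 n84429
theorem D177197 : act 6 n84429 = n177197 := rfl
theorem F276588 : act 2 n177197 = n84431 := d3_1 D177197 (iv6 D84431) D84429
def n177198 : Q := act 0 n84430
theorem D177198 : act 0 n84430 = n177198 := rfl
def n177199 : Q := act 1 n84430
theorem D177199 : act 1 n84430 = n177199 := rfl
def n177200 : Q := act 4 n84430
theorem D177200 : act 4 n84430 = n177200 := rfl
def n177201 : Q := act 6 n84430
theorem D177201 : act 6 n84430 = n177201 := rfl
theorem F276589 : act 3 n177201 = n84437 := d7_1 D177201 (iv6 D84437) (iv3 F129569)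
def n177202 : Q := act 0 n84431
theorem D177202 : act 0 n84431 = n177202 := rfl
def n177203 : Q := act 1 n84431
theorem D177203 : act 1 n84431 = n177203 := rfl
def n177204 : Q := act 4 n84432
theorem D177204 : act 4 n84432 = n177204 := rfl
theorem F276590 : act 2 n177204 = n120872 := d1_1 D177204 (iv4 D120872) (iv2 F129571)
theorem F276591 : act 6 n177204 = n86029 := d10_2 (iv6 F148192) D177204 F148196
theorem F276592 : act 5 n177204 = n84543 := d17_5 F124543 (iv5 D44489) (iv1 F121261) D84432 D177204 (iv0 D84543) (iv5 D38997) D38995 (iv4 F124545)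
theorem F276593 : act 0 n177204 = n84480 := d18_2 F195251 D177204 (iv4 D84480) (iv5 F71243) (iv4 F149192) F149271 (iv4 F124528) F195249 F195245
theorem F276594 : act 1 n177204 = n84481 := d18_6 (iv1 D8695) (iv4 F13614) D18489 D38930 D84432 D177204 (iv4 D84481) F59990 (iv5 D18501)
theorem F276595 : act 2 n84543 = n177018 := d2_1 F276592 F276423 (iv2 F276590)
theorem F276596 : act 7 n177019 = n84543 := d15_2 (iv0 D177018) D177019 F276595
theorem F276597 : act 7 n84544 = n177018 := d15_2 (iv0 D84543) D84544 (iv2 F276595)
theorem F276598 : act 2 n177019 = n84544 := d4_3 F276597 (iv2 F276595) (iv7 F276596)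
def n177205 : Q := act 3 n84434
theorem D177205 : act 3 n84434 = n177205 := rfl
def n177206 : Q := act 4 n84434
theorem D177206 : act 4 n84434 = n177206 := rfl
theorem F276599 : act 0 n177206 = n84503 := d18_2 D84434 D177206 (iv4 D84503) (iv5 D38976) (iv4 D18500) F29665 (iv4 F59929) F59931 D38931
theorem F276600 : act 1 n177206 = n84476 := d18_6 (iv1 D96838) F71323 (iv1 F116937) (iv4 F149192) (iv5 F149193) D177206 (iv4 D84476) D84475 (iv5 F149305)
def n177207 : Q := act 6 n84434
theorem D177207 : act 6 n84434 = n177207 := rfl
def n177208 : Q := act 4 n84435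
theorem D177208 : act 4 n84435 = n177208 := rfl
theorem F276601 : act 0 n177208 = n84476 := d18_2 (iv1 F129581) D177208 (iv4 D84476) (iv5 D38957) (iv4 D18495) (iv0 D8694) (iv4 F13614) D18490 D38936
theorem F276602 : act 1 n177208 = n84503 := d18_6 (iv1 F276404) (iv4 D177006) F129452 (iv4 F149266) F149269 D177208 (iv4 D84503) F129602 (iv5 F149167)
def n177209 : Q := act 6 n84435
theorem D177209 : act 6 n84435 = n177209 := rfl
def n177210 : Q := act 0 n84436
theorem D177210 : act 0 n84436 = n177210 := rfl
theorem F276603 : act 4 n177210 = n170133 := d18_3 (iv1 D84435) D84436 D177210 (iv5 D170133) F125490 (iv0 F150363) F124528 D96801 F149269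
theorem F276604 : act 1 n84446 = n177210 := d15_0 (iv0 D177210) (iv7 F276330) F276329
def n177211 : Q := act 1 n84436
theorem D177211 : act 1 n84436 = n177211 := rfl
theorem F276605 : act 1 n177211 = n84446 := d15_1 D177211 (iv7 F276328) F276327
theorem F276606 : act 4 n177211 = n176992 := d18_7 (iv1 F121265) F70003 (iv1 F121261) (iv4 D38930) D38931 D84436 D177211 F276364 (iv5 D84360)
def n177212 : Q := act 3 n84436
theorem D177212 : act 3 n84436 = n177212 := rfl
def n177213 : Q := act 5 n84436
theorem D177213 : act 5 n84436 = n177213 := rfl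
theorem F276607 : act 4 n84544 = n177213 := d16_0 (iv5 D177213) (iv4 D84436) (iv5 D38931) D38930 D84432 D177204 F276592 (iv7 F276596) F276598
def n177214 : Q := act 6 n84436
theorem D177214 : act 6 n84436 = n177214 := rfl
theorem F276608 : act 4 n177214 = n84437 := d10_1 D177214 (iv6 D84437) D84436
def n177218 : Q := act 2 n84438
theorem D177218 : act 2 n84438 = n177218 := rfl
theorem F276609 : act 7 n84439 = n177218 := d15_2 (iv0 D84438) D84439 (iv2 D177218)
def n177220 : Q := act 4 n84438
theorem D177220 : act 4 n84438 = n177220 := rfl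
def n177221 : Q := act 5 n84438
theorem D177221 : act 5 n84438 = n177221 := rfl
def n177223 : Q := act 7 n84438
theorem D177223 : act 7 n84438 = n177223 := rfl
theorem F276611 : act 2 n177223 = n84439 := d4_1 D177223 F276609 (iv2 D177218)
def n177224 : Q := act 3 n84439
theorem D177224 : act 3 n84439 = n177224 := rfl
def n177225 : Q := act 4 n84439
theorem D177225 : act 4 n84439 = n177225 := rfl
theorem F276612 : act 0 n177225 = n119766 := d20_1 D177225 F188972 (iv3 D73718) (iv1 D33874) D33875 (iv4 F86888) D119371 F188029 (iv3 F276315) (iv1 F276320)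
theorem E24719 : n177224 = n149849 := ((c20_5 (iv4 D16375) D16373 (iv4 F53215) D70441 D149849 (iv3 D177224) D177225 F276612 F188972 (iv3 D73718) (iv1 D33874))).symm
theorem F276613 : act 3 n149849 = n84439 := (sb E24719 (iv3 D177224))
def n177226 : Q := act 5 n84439
theorem D177226 : act 5 n84439 = n177226 := rfl
def n177227 : Q := act 6 n84439
theorem D177227 : act 6 n84439 = n177227 := rfl
def n177228 : Q := act 4 n84440
theorem D177228 : act 4 n84440 = n177228 := rfl
theorem F276615 : act 2 n177228 = n84441 := d1_1 D177228 (iv4 D84441) D84440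
def n177229 : Q := act 5 n84440
theorem D177229 : act 5 n84440 = n177229 := rfl
theorem F276620 : act 2 n177229 = n84442 := d2_1 D177229 (iv5 D84442) D84440
def n177230 : Q := act 6 n84440
theorem D177230 : act 6 n84440 = n177230 := rfl
theorem F276621 : act 2 n177230 = n84443 := d3_1 D177230 (iv6 D84443) D84440
def n177231 : Q := act 0 n84441
theorem D177231 : act 0 n84441 = n177231 := rfl
theorem F276622 : act 4 n177231 = n149877 := d20_0 (iv1 D149877) (iv4 F235727) (iv3 D149870) F106915 F87177 F43398 (iv1 F43329) D55655 (iv3 F129582) D177231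
def n177232 : Q := act 1 n84441
theorem D177232 : act 1 n84441 = n177232 := rfl
theorem F276625 : act 4 n149876 = n177232 := d20_0 (iv1 D177232) (iv4 D84441) (iv3 D38934) (iv1 D18490) (iv3 F25104) F25105 D15573 D32695 D70455 D149876
theorem F276626 : act 3 n84469 = n149876 := d20_5 F13614 D8694 D18495 D38956 D84469 F276625 (iv1 D177232) (iv4 D84441) (iv3 D38934) (iv1 D18490)
def n177238 : Q := act 6 n84442
theorem D177238 : act 6 n84442 = n177238 := rfl
theorem F276631 : act 3 n177238 = n84447 := d7_1 D177238 (iv6 D84447) (iv3 F129584)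
def n177243 : Q := act 4 n84444
theorem D177243 : act 4 n84444 = n177243 := rfl
theorem F276634 : act 6 n177243 = n166022 := d10_2 F129588 D177243 (iv4 D166022)
theorem F276636 : act 5 n177243 = n84544 := d16_1 D177243 F276607 (iv5 D177213) (iv4 D84436) (iv5 D38931) D38930 D84432 (iv7 F147875) F147873
theorem F276637 : act 0 n177243 = n84481 := d18_2 F259596 D177243 (iv4 D84481) (iv5 F71342) (iv4 F149266) F265412 F265409 (iv0 F152324) D164632
def n177244 : Q := act 3 n84446
theorem D177244 : act 3 n84446 = n177244 := rfl
def n177245 : Q := act 5 n84446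
theorem D177245 : act 5 n84446 = n177245 := rfl
theorem F276639 : act 4 n177245 = n84543 := d9_1 D177245 (iv5 F276592) (iv4 D177204) (iv5 D84432) (iv4 D38930) D38931 D84436 D177213 (iv4 F276607) (iv5 F276636) (iv4 D177243) (iv5 D84444) (iv4 D38935) D38936 D84446
def n177246 : Q := act 6 n84446
theorem D177246 : act 6 n84446 = n177246 := rfl
theorem F276640 : act 4 n177246 = n84447 := d10_1 D177246 (iv6 D84447) D84446
def n177249 : Q := act 5 n84447
theorem D177249 : act 5 n84447 = n177249 := rfl
theorem F276641 : act 6 n177249 = n84450 := d12_2 D84447 D177249 (iv5 D84450) (iv6 D38937) D38936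
def n177252 : Q := act 0 n84452
theorem D177252 : act 0 n84452 = n177252 := rfl
def n177253 : Q := act 1 n84452
theorem D177253 : act 1 n84452 = n177253 := rfl
def n177254 : Q := act 2 n84452
theorem D177254 : act 2 n84452 = n177254 := rfl
def n177255 : Q := act 4 n84452
theorem D177255 : act 4 n84452 = n177255 := rfl
def n177256 : Q := act 5 n84452
theorem D177256 : act 5 n84452 = n177256 := rfl
theorem F276645 : act 7 n177256 = n96795 := d13_2 F276339 D177256 (iv5 F276338)
theorem F276646 : act 4 n158799 = n177256 := d11_3 F276645 F149262 (iv7 F250001)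
def n177257 : Q := act 6 n84452
theorem D177257 : act 6 n84452 = n177257 := rfl
def n177258 : Q := act 0 n84453
theorem D177258 : act 0 n84453 = n177258 := rfl
theorem F276649 : act 4 n177258 = n169813 := d18_3 D38938 D84453 D177258 F267238 F125271 (iv0 F121260) (iv4 D38930) (iv0 D18489) D18491
theorem F276650 : act 1 n84457 = n177258 := d15_0 (iv0 D177258) (iv7 F276341) F276340
theorem F276651 : act 7 n169812 = n177258 := d11_0 F276649 (iv7 D169813) D169812
def n177259 : Q := act 1 n84453
theorem D177259 : act 1 n84453 = n177259 := rfl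
theorem F276653 : act 4 n177259 = n95241 := d18_7 F149168 F149166 D167624 (iv4 F263886) (iv5 D84454) D84453 D177259 (iv0 F149306) (iv5 D96839)
theorem F276654 : act 2 n169812 = n177259 := d1_3 F276653 F146799 D169812
def n177260 : Q := act 3 n84453
theorem D177260 : act 3 n84453 = n177260 := rfl
def n177261 : Q := act 5 n84453
theorem D177261 : act 5 n84453 = n177261 := rfl
theorem F276655 : act 4 n177261 = n84536 := d16_2 D84453 D177261 (iv5 D84536) (iv4 F124545) (iv5 D80831) (iv4 F124534) F124535 (iv7 F129422) F129423
def n177262 : Q := act 6 n84453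
theorem D177262 : act 6 n84453 = n177262 := rfl
def n177272 : Q := act 5 n84457
theorem D177272 : act 5 n84457 = n177272 := rfl
theorem F276658 : act 4 n177272 = n84533 := d9_1 D177272 (iv5 D84533) D84532 (iv5 F263881) (iv4 F263886) (iv5 D84454) D84453 D177261 F276655 (iv5 D84536) (iv4 F124545) (iv5 D80831) (iv4 F124534) F124535 D84457
def n177278 : Q := act 5 n84459
theorem D177278 : act 5 n84459 = n177278 := rfl
theorem F276660 : act 4 n177278 = n84525 := d16_4 D84520 (iv5 F267228) (iv4 F267231) D177278 (iv5 D84525) (iv4 D38991) D38992 (iv7 F129451) F129449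
def n177280 : Q := act 3 n84460
theorem D177280 : act 3 n84460 = n177280 := rfl
def n177281 : Q := act 5 n84460
theorem D177281 : act 5 n84460 = n177281 := rfl
theorem F276661 : act 4 n177281 = n84517 := d9_1 D177281 (iv5 D84517) (iv4 D38986) D38987 D84520 (iv5 F267228) (iv4 F267231) D177278 F276660 (iv5 D84525) (iv4 D38991) D38992 D84527 F267233 (iv4 F267235)
def n177282 : Q := act 6 n84460
theorem D177282 : act 6 n84460 = n177282 := rfl
def n177283 : Q := act 0 n84461
theorem D177283 : act 0 n84461 = n177283 := rfl
def n177284 : Q := act 1 n84461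
theorem D177284 : act 1 n84461 = n177284 := rfl
def n177285 : Q := act 2 n84461
theorem D177285 : act 2 n84461 = n177285 := rfl
def n177286 : Q := act 5 n84461
theorem D177286 : act 5 n84461 = n177286 := rfl
theorem F276662 : act 3 n177286 = n84462 := d6_1 D177286 (iv5 D84462) D84461
def n177287 : Q := act 0 n84462
theorem D177287 : act 0 n84462 = n177287 := rfl
theorem F276663 : act 5 n177287 = n84476 := d17_3 (iv1 D84460) D84462 D177287 (iv4 D84476) (iv5 D38957) (iv0 F121221) D81435 D169811 (iv4 F267235)
theorem F276664 : act 4 n177287 = n84509 := d18_3 (iv1 F276435) F276432 D177287 (iv5 D84509) (iv4 D38978) F59994 D84480 (iv0 F276593) F276592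
theorem F276665 : act 1 n84545 = n177287 := d15_0 (iv0 D177287) F276428 F276426
def n177288 : Q := act 1 n84462
theorem D177288 : act 1 n84462 = n177288 := rfl
theorem F276666 : act 1 n177288 = n84545 := d15_1 D177288 F276355 F276353
theorem F276667 : act 5 n177288 = n84503 := d17_7 (iv1 F129580) (iv5 D38936) (iv1 D18490) D18491 D38940 D84462 D177288 (iv0 F276599) (iv4 D177206)
theorem F276668 : act 4 n84485 = n177288 := d9_15 F276667 (iv4 D84503) (iv5 D38976) (iv4 D18500) D18501 D38978 D84509 (iv4 F276664) F276663 (iv4 D84476) (iv5 D38957) (iv4 D18495) D18496 D38962 D84485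
def n177289 : Q := act 6 n84462
theorem D177289 : act 6 n84462 = n177289 := rfl
def n177290 : Q := act 6 n84463
theorem D177290 : act 6 n84463 = n177290 := rfl
theorem F276669 : act 4 n177290 = n84464 := d10_1 D177290 (iv6 D84464) (iv4 F129598)
def n177291 : Q := act 0 n84464
theorem D177291 : act 0 n84464 = n177291 := rfl
def n177292 : Q := act 1 n84464
theorem D177292 : act 1 n84464 = n177292 := rfl
def n177293 : Q := act 3 n84466
theorem D177293 : act 3 n84466 = n177293 := rfl
theorem F276670 : act 4 n177293 = n84484 := d5_2 D84466 D177293 (iv3 D84484) (iv4 D38962) (iv3 F59981)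
def n177295 : Q := act 1 n84467
theorem D177295 : act 1 n84467 = n177295 := rfl
theorem F276671 : act 4 n173773 = n177295 := d20_6 (iv4 D38266) (iv1 D18277) (iv4 F29474) (iv3 F59136) D83101 D173773 (iv1 D177295) (iv4 F193013) (iv3 D121038) F117846
def n177296 : Q := act 2 n84467
theorem D177296 : act 2 n84467 = n177296 := rfl
theorem F276672 : act 3 n177296 = n155209 := d0_2 D84467 D177296 (iv2 F244084) F197957 F125270
def n177298 : Q := act 4 n84468
theorem D177298 : act 4 n84468 = n177298 := rfl
theorem F276675 : act 2 n177298 = n177258 := d1_1 D177298 F276649 F267237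
theorem F276676 : act 7 n177298 = n177259 := d11_2 F146800 D177298 F276653
theorem F276677 : act 1 n177298 = n176980 := d18_6 D38891 F59924 (iv1 F121257) F121259 D84468 D177298 (iv4 D176980) (iv0 D84352) (iv5 D38893)
theorem F276678 : act 1 n176983 = n177298 := d15_0 F276677 F276334 (iv2 F276340)
def n177300 : Q := act 2 n84469
theorem D177300 : act 2 n84469 = n177300 := rfl
theorem F276679 : act 7 n84470 = n177300 := d15_2 (iv0 D84469) D84470 (iv2 D177300)
def n177301 : Q := act 4 n84469
theorem D177301 : act 4 n84469 = n177301 := rfl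
theorem F276680 : act 0 n177301 = n149861 := d20_1 D177301 (iv4 D149861) (iv3 D70444) (iv1 D32691) F25104 F13614 D8694 D18495 D38956 D84469
def n177302 : Q := act 5 n84469
theorem D177302 : act 5 n84469 = n177302 := rfl
def n177303 : Q := act 6 n84469
theorem D177303 : act 6 n84469 = n177303 := rfl
def n177304 : Q := act 7 n84469
theorem D177304 : act 7 n84469 = n177304 := rfl
theorem F276681 : act 2 n177304 = n84470 := d4_1 D177304 F276679 (iv2 D177300)
def n177306 : Q := act 4 n84470
theorem D177306 : act 4 n84470 = n177306 := rfl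
theorem F276682 : act 3 n177306 = n161431 := d20_9 (iv4 F255939) (iv1 F255944) (iv4 F255946) F255945 (iv1 F255220) F255218 D161881 (iv1 F255864) D177306 (iv1 F255335)
theorem F276683 : act 0 n149861 = n177306 := d20_10 (iv4 D177306) (iv1 D84470) (iv4 F116297) (iv3 D77472) (iv1 F56081) (iv3 F53193) F53194 (iv1 F53171) D73603 (iv3 F235716)
theorem F276684 : act 1 n155151 = n177306 := d15_0 (iv0 F276683) F235717 D155151
def n177309 : Q := act 5 n84471
theorem D177309 : act 5 n84471 = n177309 := rfl
theorem F276685 : act 2 n177309 = n84472 := d2_1 D177309 (iv5 D84472) D84471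
def n177310 : Q := act 6 n84471
theorem D177310 : act 6 n84471 = n177310 := rfl
theorem F276686 : act 2 n177310 = n84473 := d3_1 D177310 (iv6 D84473) D84471
theorem F276688 : act 7 n170599 = n177310 := d4_0 F276686 (iv7 F129601) D170599
theorem F276690 : act 1 n170598 = n177310 := d15_1 D170598 (iv7 F276688) (iv2 D170599)
def n177314 : Q := act 6 n84472
theorem D177314 : act 6 n84472 = n177314 := rfl
theorem F276691 : act 3 n177314 = n84477 := d7_1 D177314 (iv6 D84477) (iv3 F129599)
def n177315 : Q := act 0 n84473
theorem D177315 : act 0 n84473 = n177315 := rfl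
def n177316 : Q := act 1 n84473
theorem D177316 : act 1 n84473 = n177316 := rfl
def n177317 : Q := act 5 n84473
theorem D177317 : act 5 n84473 = n177317 := rfl
theorem F276694 : act 3 n177317 = n84479 := d6_1 D177317 (iv5 D84479) (iv3 F129600)
theorem F276695 : act 7 n177317 = n170600 := d13_2 F129601 D177317 (iv5 D170600)
def n177319 : Q := act 4 n84474
theorem D177319 : act 4 n84474 = n177319 := rfl
theorem F276696 : act 2 n177319 = n177210 := d1_1 D177319 F276603 F267627
theorem F276697 : act 7 n177319 = n177211 := d11_2 F276365 D177319 F276606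
theorem F276698 : act 0 n177319 = n176977 := d18_2 D84474 D177319 (iv4 D176977) (iv5 D84350) (iv4 F121500) F70544 F121259 (iv0 D38954) D38957
theorem F276699 : act 1 n177319 = n176976 := d18_6 (iv1 D168472) F124534 (iv1 F146862) (iv4 F149166) F149167 D177319 (iv4 D176976) D176975 F276325
def n177321 : Q := act 3 n84475
theorem D177321 : act 3 n84475 = n177321 := rfl
theorem F276700 : act 5 n177321 = n149953 := d6_2 F149305 D177321 (iv3 F263887)
def n177322 : Q := act 4 n84475
theorem D177322 : act 4 n84475 = n177322 := rfl
theorem F276702 : act 7 n177322 = n177210 := d11_2 F267628 D177322 F276603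
theorem F276703 : act 0 n177322 = n176976 := d18_2 (iv1 F129603) D177322 (iv4 D176976) (iv5 D84349) F59924 F121220 (iv4 F58154) F121222 D38976
theorem F276704 : act 1 n177322 = n176977 := d18_6 (iv1 F129597) F263886 (iv1 F263884) (iv4 F149304) F149305 D177322 (iv4 D176977) F192311 (iv5 D120652)
theorem F276705 : act 0 n177321 = n155211 := d20_4 D176977 (iv1 F276704) (iv4 D177322) D177321 F244094 F110424 (iv1 F114130) (iv4 F235820) F235819 (iv1 F192311)
def n177325 : Q := act 6 n84476
theorem D177325 : act 6 n84476 = n177325 := rfl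
theorem F276706 : act 4 n177325 = n84477 := d10_1 D177325 (iv6 D84477) D84476
def n177328 : Q := act 5 n84477
theorem D177328 : act 5 n84477 = n177328 := rfl
theorem F276708 : act 6 n177328 = n84479 := d12_2 D84477 D177328 (iv5 D84479) (iv6 D38958) D38957
def n177330 : Q := act 3 n84478
theorem D177330 : act 3 n84478 = n177330 := rfl
theorem F276710 : act 5 n177330 = n170581 := d6_2 F129607 D177330 (iv3 D170581)
theorem F276712 : act 0 n177330 = n155212 := d20_4 F118940 F147082 F147081 D177330 F244096 F110426 F199771 (iv4 F92558) F92557 D58588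
def n177331 : Q := act 3 n84480
theorem D177331 : act 3 n84480 = n177331 := rfl
def n177332 : Q := act 5 n84480
theorem D177332 : act 5 n84480 = n177332 := rfl
theorem F276713 : act 0 n177332 = n177010 := d17_2 F276593 D177332 (iv5 D177010) F129463 (iv5 F124547) (iv0 F152324) D164632 (iv0 F259597) D177204
theorem F276714 : act 1 n177332 = n177011 := d17_6 (iv1 F59941) (iv5 F59942) (iv1 F116937) F71243 D84480 D177332 (iv5 D177011) F129467 F60011
def n177333 : Q := act 3 n84481
theorem D177333 : act 3 n84481 = n177333 := rfl
theorem F276715 : act 4 n177333 = n84564 := d5_2 D84481 D177333 (iv3 D84564) (iv4 D39024) (iv3 F116835)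
theorem F276716 : act 6 n177333 = n163550 := d7_2 F193429 D177333 F257812
theorem F276717 : act 7 n177333 = n162802 := d8_2 F192318 D177333 F257079
def n177334 : Q := act 5 n84481
theorem D177334 : act 5 n84481 = n177334 := rfl
theorem F276718 : act 0 n177334 = n177011 := d17_2 F276637 D177334 (iv5 D177011) F146919 (iv5 F146917) F195249 F195245 F195252 D177243
theorem F276719 : act 1 n177334 = n177010 := d17_6 D38903 D84364 F129452 F71342 D84481 D177334 (iv5 D177010) (iv0 D84367) (iv4 D38905)
def n177336 : Q := act 5 n84482
theorem D177336 : act 5 n84482 = n177336 := rfl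
theorem F276720 : act 0 n177336 = n177005 := d17_2 D84482 D177336 (iv5 D177005) (iv4 D84363) D84364 (iv0 F129453) F71243 (iv0 D38960) D38962
theorem F276721 : act 1 n177336 = n177007 := d17_6 (iv1 F146922) (iv5 D80831) (iv1 F146862) (iv5 F192770) F192771 D177336 (iv5 D177007) F276393 F276391
def n177338 : Q := act 5 n84483
theorem D177338 : act 5 n84483 = n177338 := rfl
theorem F276722 : act 0 n177338 = n177007 := d17_2 (iv1 F129611) D177338 (iv5 D177007) (iv4 D84365) (iv5 F59942) D45269 F71342 F59990 D38978
theorem F276723 : act 1 n177338 = n177005 := d17_6 (iv1 F129707) (iv5 F263881) (iv1 F263884) F192777 (iv4 F192780) D177338 (iv5 D177005) F129458 F125356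
def n177342 : Q := act 5 n84484
theorem D177342 : act 5 n84484 = n177342 := rfl
theorem F276724 : act 3 n177342 = n84485 := d6_1 D177342 (iv5 D84485) D84484
def n177344 : Q := act 0 n84485
theorem D177344 : act 0 n84485 = n177344 := rfl
theorem F276726 : act 5 n177344 = n84514 := d17_1 D177344 (iv1 F129661) D84525 (iv4 F276660) (iv5 D177278) (iv0 D84459) D84462 D177288 (iv4 F276668)
theorem F276727 : act 1 n84509 = n177344 := d15_0 (iv0 D177344) (iv7 F276389) F276388
theorem F276728 : act 7 n169916 = n177344 := d13_0 F276726 F129666 D169916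
def n177345 : Q := act 1 n84485
theorem D177345 : act 1 n84485 = n177345 := rfl
theorem F276729 : act 1 n177345 = n84509 := d15_1 D177345 (iv7 F276382) F276381
theorem F276730 : act 5 n177345 = n84515 := d17_7 (iv1 D18504) (iv5 D8696) D8694 D18496 D38962 D84485 D177345 F129662 (iv4 D38991)
theorem F276731 : act 2 n169916 = n177345 := d2_3 F276730 F129664 D169916
theorem F276732 : act 0 n95272 = n84510 := d21_4 D75162 (iv1 F146898) (iv5 D95271) D95272 (iv6 D84510) D84509 (iv1 F276729) F276730 F129665 F70018
def n177346 : Q := act 6 n84485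
theorem D177346 : act 6 n84485 = n177346 := rfl
def n177347 : Q := act 5 n84486
theorem D177347 : act 5 n84486 = n177347 := rfl
theorem F276733 : act 2 n177347 = n170642 := d2_1 D177347 (iv5 D170642) (iv2 F129612)
theorem F276734 : act 0 n177347 = n169893 := d17_2 (iv1 F146824) D177347 (iv5 D169893) F133776 D96327 F148238 (iv5 F146818) (iv0 D95248) D95250
theorem F276735 : act 1 n177347 = n169896 := d17_6 F116784 F45059 D34735 (iv5 F116804) (iv4 F129613) D177347 (iv5 D169896) F148995 F148993
def n177350 : Q := act 2 n84487
theorem D177350 : act 2 n84487 = n177350 := rfl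
theorem F276736 : act 4 n177350 = n84500 := d1_2 (iv4 F129614) D177350 (iv2 D84500)
def n177355 : Q := act 3 n84492
theorem D177355 : act 3 n84492 = n177355 := rfl
theorem F276742 : act 4 n177355 = n84508 := d5_2 D84492 D177355 (iv3 D84508) (iv4 D38978) (iv3 F60001)
def n177356 : Q := act 5 n84492
theorem D177356 : act 5 n84492 = n177356 := rfl
theorem F276743 : act 0 n177356 = n166582 := d17_2 F192984 D177356 (iv5 D166582) F122721 F57179 (iv0 F118775) D35688 F88300 D121025
def n177358 : Q := act 5 n84500
theorem D177358 : act 5 n84500 = n177358 := rfl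
theorem F276746 : act 2 n177358 = n84501 := d2_1 D177358 (iv5 D84501) D84500
def n177359 : Q := act 6 n84500
theorem D177359 : act 6 n84500 = n177359 := rfl
theorem F276747 : act 2 n177359 = n84502 := d3_1 D177359 (iv6 D84502) D84500
def n177360 : Q := act 0 n84501
theorem D177360 : act 0 n84501 = n177360 := rfl
def n177361 : Q := act 1 n84501
theorem D177361 : act 1 n84501 = n177361 := rfl
theorem F276748 : act 3 n149929 = n177361 := d20_3 F106904 (iv1 F119612) (iv4 F235833) (iv1 D177361) F129632 D84503 (iv1 F276602) (iv4 D177208) F235710 (iv1 D149855)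
theorem F276749 : act 5 n177361 = n149928 := d6_2 D149929 F276748 (iv3 D149928)
def n177362 : Q := act 4 n84501
theorem D177362 : act 4 n84501 = n177362 := rfl
def n177363 : Q := act 6 n84501
theorem D177363 : act 6 n84501 = n177363 := rfl
theorem F276750 : act 3 n177363 = n84504 := d7_1 D177363 (iv6 D84504) (iv3 F129632)
def n177368 : Q := act 3 n84503
theorem D177368 : act 3 n84503 = n177368 := rfl
def n177369 : Q := act 6 n84503
theorem D177369 : act 6 n84503 = n177369 := rfl
theorem F276754 : act 4 n177369 = n84504 := d10_1 D177369 (iv6 D84504) D84503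
def n177376 : Q := act 0 n84508
theorem D177376 : act 0 n84508 = n177376 := rfl
def n177377 : Q := act 1 n84508
theorem D177377 : act 1 n84508 = n177377 := rfl
def n177378 : Q := act 2 n84508
theorem D177378 : act 2 n84508 = n177378 := rfl
def n177379 : Q := act 5 n84508
theorem D177379 : act 5 n84508 = n177379 := rfl
theorem F276758 : act 3 n177379 = n84509 := d6_1 D177379 (iv5 D84509) D84508
def n177380 : Q := act 6 n84508
theorem D177380 : act 6 n84508 = n177380 := rfl
theorem F276759 : act 3 n177380 = n84510 := d7_1 D177380 (iv6 D84510) D84508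
def n177381 : Q := act 6 n84509
theorem D177381 : act 6 n84509 = n177381 := rfl
def n177386 : Q := act 5 n84512
theorem D177386 : act 5 n84512 = n177386 := rfl
theorem F276764 : act 0 n177386 = n170238 := d17_2 F264879 D177386 (iv5 D170238) (iv4 F146830) (iv5 F146828) F148214 (iv5 F264871) (iv0 D168055) D168056
theorem F276765 : act 1 n177386 = n170241 := d17_6 (iv1 F71202) (iv5 F58262) F117030 D38982 D84512 D177386 (iv5 D170241) F149087 F149085
def n177387 : Q := act 3 n84514
theorem D177387 : act 3 n84514 = n177387 := rfl
theorem F276766 : act 7 n177387 = n169914 := d8_2 (iv7 F129666) D177387 F267337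
def n177388 : Q := act 6 n84514
theorem D177388 : act 6 n84514 = n177388 := rfl
theorem F276768 : act 4 n177388 = n95285 := d10_1 D177388 F146936 F146802
theorem F276771 : act 0 n125386 = n177388 := d20_1 D125386 F276768 F146934 F254931 (iv3 D55939) D55940 F88516 F45087 (iv3 F45082) D58713
def n177389 : Q := act 3 n84515
theorem D177389 : act 3 n84515 = n177389 := rfl
theorem F276772 : act 4 n177389 = n124278 := d5_2 F129663 D177389 F198772 F91661 F87585
theorem F276773 : act 6 n177389 = n95276 := d7_2 (iv6 F129665) D177389 (iv3 D95276)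
def n177393 : Q := act 5 n84516
theorem D177393 : act 5 n84516 = n177393 := rfl
theorem F276774 : act 3 n177393 = n84517 := d6_1 D177393 (iv5 D84517) D84516
def n177394 : Q := act 6 n84516
theorem D177394 : act 6 n84516 = n177394 := rfl
theorem F276775 : act 3 n177394 = n84518 := d7_1 D177394 (iv6 D84518) D84516
theorem F276777 : act 7 n124587 = n177394 := d8_0 F276775 (iv7 F129669) D124587
def n177395 : Q := act 0 n84517
theorem D177395 : act 0 n84517 = n177395 := rfl
theorem F276778 : act 5 n177395 = n162747 := d17_3 (iv1 D84515) D84517 D177395 (iv4 D162747) (iv5 F195245) F195250 F124547 (iv0 F120831) F129663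
theorem F276779 : act 1 n84525 = n177395 := d15_0 (iv0 D177395) (iv7 F276406) F276405
theorem F276780 : act 2 n177338 = n177395 := d2_3 F276778 F256973 D177338
theorem F276781 : act 7 n177336 = n177395 := d13_0 F276778 F256975 D177336
def n177396 : Q := act 1 n84517
theorem D177396 : act 1 n84517 = n177396 := rfl
theorem F276782 : act 1 n177396 = n84525 := d15_1 D177396 (iv7 F276399) F276398
theorem F276783 : act 7 n177396 = n177338 := d15_2 (iv0 D177395) D177396 F276780
theorem F276784 : act 5 n177396 = n176996 := d17_7 F116840 (iv5 D55603) (iv1 F116997) (iv5 D38987) D38986 D84517 D177396 (iv0 D176996) (iv4 D84359)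
theorem F276785 : act 2 n177336 = n177396 := d2_3 F276784 (iv2 F276376) D177336
def n177397 : Q := act 6 n84517
theorem D177397 : act 6 n84517 = n177397 := rfl
def n177400 : Q := act 5 n84518
theorem D177400 : act 5 n84518 = n177400 := rfl
theorem F276795 : act 2 n177400 = n124598 := d2_1 D177400 (iv5 D124598) (iv2 F129667)
theorem F276796 : act 7 n177400 = n124588 := d13_2 F129669 D177400 (iv5 D124588)
def n177401 : Q := act 0 n84520
theorem D177401 : act 0 n84520 = n177401 := rfl
theorem F276798 : act 4 n177401 = n122188 := d18_1 D177401 (iv1 F195249) F124528 F129415 D176983 F276678 (iv4 D177298) F267230 F267228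
theorem F276799 : act 6 n177401 = n159113 := d21_5 D95446 (iv1 F250488) (iv5 D159108) (iv6 F129677) D177401 F250499 (iv1 F148985) F148983 F116783 (iv1 F90450)
def n177402 : Q := act 3 n84520
theorem D177402 : act 3 n84520 = n177402 := rfl
theorem F276804 : act 7 n177402 = n96833 := d8_2 (iv7 F129678) D177402 F149298
def n177404 : Q := act 5 n84522
theorem D177404 : act 5 n84522 = n177404 := rfl
theorem F276806 : act 0 n177404 = n162899 := d17_2 (iv1 F132700) D177404 (iv5 D162899) (iv4 D78309) F118840 (iv0 F119513) (iv5 F57915) (iv0 F118520) (iv4 F132699)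
theorem F276807 : act 1 n177404 = n162895 := d17_6 (iv1 F197440) (iv5 F197442) (iv1 D87512) (iv5 F121034) D84522 D177404 (iv5 D162895) F197469 (iv4 D123191)
def n177405 : Q := act 6 n84522
theorem D177405 : act 6 n84522 = n177405 := rfl
theorem F276808 : act 4 n177405 = n84523 := d10_1 D177405 (iv6 D84523) D84522
theorem F276809 : act 1 n166103 = n177405 := d18_6 (iv1 D87526) (iv4 F132530) F266420 (iv4 D169299) F124955 D166103 F276808 (iv0 F253328) F253329
def n177406 : Q := act 0 n84523
theorem D177406 : act 0 n84523 = n177406 := rfl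
theorem F276811 : act 2 n169773 = n177406 := d15_3 (iv0 D177406) (iv0 F253328) (iv7 F267156)
theorem F276812 : act 4 n177406 = n163027 := d1_2 (iv4 F267157) F276811 F262219
theorem F276813 : act 5 n177406 = n87525 := d2_2 D169773 F276811 (iv2 F194973)
theorem F276814 : act 7 n177406 = n170157 := d4_2 (iv7 F267156) F276811 F267674
theorem F276815 : act 1 n174353 = n177406 := d15_1 (iv0 F273170) F276814 F267674
def n177407 : Q := act 7 n84523
theorem D177407 : act 7 n84523 = n177407 := rfl
theorem F276820 : act 6 n177407 = n86883 := d14_1 D177407 F133294 (iv6 F121013) F121015 D84523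
theorem F276821 : act 1 n170157 = n177407 := d15_1 (iv0 F267677) (iv7 D177407) (iv2 F197478)
theorem F276822 : act 1 n177407 = n169773 := d15_1 F276821 F267156 (iv2 F267674)
def n177408 : Q := act 0 n84524
theorem D177408 : act 0 n84524 = n177408 := rfl
def n177409 : Q := act 1 n84524
theorem D177409 : act 1 n84524 = n177409 := rfl
def n177410 : Q := act 2 n84524
theorem D177410 : act 2 n84524 = n177410 := rfl
def n177411 : Q := act 5 n84524
theorem D177411 : act 5 n84524 = n177411 := rfl
theorem F276823 : act 3 n177411 = n84525 := d6_1 D177411 (iv5 D84525) D84524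
def n177412 : Q := act 6 n84524
theorem D177412 : act 6 n84524 = n177412 := rfl
theorem F276824 : act 3 n177412 = n84526 := d7_1 D177412 (iv6 D84526) D84524
def n177413 : Q := act 6 n84525
theorem D177413 : act 6 n84525 = n177413 := rfl
def n177414 : Q := act 0 n84526
theorem D177414 : act 0 n84526 = n177414 := rfl
theorem F276825 : act 4 n177414 = n97555 := d18_3 (iv1 D84528) (iv4 F129688) D177414 (iv5 D97555) F149408 (iv0 D96906) F71361 D45309 (iv5 F129695)
theorem F276827 : act 0 n177414 = n124589 := d20_7 F259754 F259757 F119095 (iv3 F119094) D162094 F266673 (iv4 F276825) F199273 (iv3 F199236) F259756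
def n177415 : Q := act 1 n84526
theorem D177415 : act 1 n84526 = n177415 := rfl
theorem F276829 : act 4 n97560 = n177415 := d20_6 F276812 (iv1 F261439) F261436 (iv3 F194128) F194131 (iv3 F150346) (iv1 D177415) F129688 (iv3 F129687) D177406
theorem F276831 : act 6 n177415 = n96706 := d10_2 F150345 F276829 F149074
def n177418 : Q := act 3 n84527
theorem D177418 : act 3 n84527 = n177418 := rfl
theorem F276836 : act 5 n177418 = n163215 := d6_2 (iv5 F267233) D177418 F267236
theorem F276837 : act 6 n177418 = n96507 := d7_2 (iv6 F129690) D177418 (iv3 D96507)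
theorem F276838 : act 0 n155177 = n177418 := d20_4 (iv4 D33857) D33855 D73686 D155177 (iv3 D177418) (iv4 D84527) F129454 (iv4 F87940) (iv3 F131055) F106947
def n177419 : Q := act 4 n84528
theorem D177419 : act 4 n84528 = n177419 := rfl
theorem F276840 : act 6 n177419 = n96705 := d10_2 F129692 D177419 (iv4 D96705)
def n177421 : Q := act 0 n84531
theorem D177421 : act 0 n84531 = n177421 := rfl
def n177422 : Q := act 1 n84531
theorem D177422 : act 1 n84531 = n177422 := rfl
def n177423 : Q := act 2 n84531
theorem D177423 : act 2 n84531 = n177423 := rfl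
def n177424 : Q := act 5 n84531
theorem D177424 : act 5 n84531 = n177424 := rfl
theorem F276844 : act 3 n177424 = n84533 := d6_1 D177424 (iv5 D84533) D84531
def n177425 : Q := act 6 n84531
theorem D177425 : act 6 n84531 = n177425 := rfl
theorem F276845 : act 3 n177425 = n84534 := d7_1 D177425 (iv6 D84534) D84531
def n177426 : Q := act 0 n84533
theorem D177426 : act 0 n84533 = n177426 := rfl
theorem F276846 : act 5 n177426 = n176995 := d17_3 D38994 D84533 D177426 (iv4 D176995) (iv5 F129670) (iv0 D84519) (iv5 D38987) (iv0 D18503) D18505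
theorem F276847 : act 1 n84536 = n177426 := d15_0 (iv0 D177426) (iv7 F276416) F276415
theorem F276848 : act 2 n177334 = n177426 := d2_3 F276846 F276371 D177334
theorem F276849 : act 7 n177332 = n177426 := d13_0 F276846 F276373 D177332
def n177427 : Q := act 1 n84533
theorem D177427 : act 1 n84533 = n177427 := rfl
theorem F276850 : act 1 n177427 = n84536 := d15_1 D177427 (iv7 F276414) F276413
theorem F276851 : act 7 n177427 = n177334 := d15_2 (iv0 D177426) D177427 F276848
theorem F276852 : act 5 n177427 = n120654 := d17_7 D120870 F192770 D167624 F263881 (iv4 D84532) D84533 D177427 (iv0 F192782) (iv4 D120872)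
theorem F276853 : act 2 n177332 = n177427 := d2_3 F276852 F192316 D177332
def n177428 : Q := act 6 n84533
theorem D177428 : act 6 n84533 = n177428 := rfl
def n177429 : Q := act 5 n84534
theorem D177429 : act 5 n84534 = n177429 := rfl
theorem F276854 : act 2 n177429 = n124621 := d2_1 D177429 F260056 F260051
theorem F276855 : act 7 n177429 = n124620 := d13_2 F260681 D177429 (iv5 F260682)
theorem F276856 : act 0 n177429 = n124520 := d17_2 (iv1 F136112) D177429 (iv5 D124520) (iv4 D58118) (iv5 D27706) D27705 (iv5 F60006) (iv0 F117025) D84809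
theorem F276857 : act 1 n177429 = n124624 := d17_6 (iv1 F136135) (iv5 D79476) (iv1 F118451) D88745 F136111 D177429 F199313 (iv0 F122171) (iv4 D79541)
def n177438 : Q := act 0 n84538
theorem D177438 : act 0 n84538 = n177438 := rfl
theorem F276860 : act 2 n84542 = n177438 := d15_3 (iv0 D177438) (iv0 D84538) D84542
theorem F276861 : act 4 n177438 = n84593 := d1_2 (iv4 F129713) F276860 (iv2 F129769)
theorem F276862 : act 7 n177438 = n84540 := d4_2 D84542 F276860 (iv2 D84540)
theorem F276863 : act 1 n84539 = n177438 := d15_1 D84539 F276862 (iv2 D84540)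
def n177439 : Q := act 2 n84538
theorem D177439 : act 2 n84538 = n177439 := rfl
theorem F276864 : act 7 n84539 = n177439 := d15_2 (iv0 D84538) D84539 (iv2 D177439)
def n177440 : Q := act 3 n84538
theorem D177440 : act 3 n84538 = n177440 := rfl
def n177441 : Q := act 4 n84538
theorem D177441 : act 4 n84538 = n177441 := rfl
def n177442 : Q := act 5 n84538
theorem D177442 : act 5 n84538 = n177442 := rfl
def n177443 : Q := act 6 n84538
theorem D177443 : act 6 n84538 = n177443 := rfl
def n177444 : Q := act 7 n84538
theorem D177444 : act 7 n84538 = n177444 := rfl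
theorem F276865 : act 2 n177444 = n84539 := d4_1 D177444 F276864 (iv2 D177439)
def n177445 : Q := act 3 n84539
theorem D177445 : act 3 n84539 = n177445 := rfl
def n177446 : Q := act 5 n84539
theorem D177446 : act 5 n84539 = n177446 := rfl
def n177447 : Q := act 6 n84539
theorem D177447 : act 6 n84539 = n177447 := rfl
def n177448 : Q := act 1 n84540
theorem D177448 : act 1 n84540 = n177448 := rfl
theorem F276866 : act 1 n177448 = n84542 := d15_1 D177448 (iv7 D84542) D84540
def n177449 : Q := act 5 n84540
theorem D177449 : act 5 n84540 = n177449 := rfl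
theorem F276867 : act 2 n177449 = n84541 := d2_1 D177449 (iv5 D84541) D84540
def n177450 : Q := act 0 n84541
theorem D177450 : act 0 n84541 = n177450 := rfl
def n177451 : Q := act 1 n84541
theorem D177451 : act 1 n84541 = n177451 := rfl
def n177452 : Q := act 4 n84541
theorem D177452 : act 4 n84541 = n177452 := rfl
def n177453 : Q := act 6 n84541
theorem D177453 : act 6 n84541 = n177453 := rfl
theorem F276868 : act 3 n177453 = n84546 := d7_1 D177453 (iv6 D84546) (iv3 F129711)
theorem F276869 : act 5 n177453 = n157804 := d12_1 D177453 (iv6 D157804) (iv5 D75184) (iv6 F60010) D84541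
def n177454 : Q := act 7 n84541
theorem D177454 : act 7 n84541 = n177454 := rfl
theorem F276870 : act 3 n177454 = n84547 := d8_1 D177454 (iv7 D84547) (iv3 F129711)
theorem F276871 : act 5 n177454 = n84542 := d13_1 D177454 (iv7 D84542) D84541
def n177455 : Q := act 6 n84542
theorem D177455 : act 6 n84542 = n177455 := rfl
theorem F276872 : act 3 n177455 = n84548 := d7_1 D177455 (iv6 D84548) (iv3 F129712)
theorem F276873 : act 4 n177455 = n84612 := d10_1 D177455 (iv6 D84612) (iv4 F129713)
def n177456 : Q := act 3 n84543
theorem D177456 : act 3 n84543 = n177456 := rfl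
def n177457 : Q := act 6 n84543
theorem D177457 : act 6 n84543 = n177457 := rfl
def n177458 : Q := act 3 n84544
theorem D177458 : act 3 n84544 = n177458 := rfl
def n177459 : Q := act 6 n84544
theorem D177459 : act 6 n84544 = n177459 := rfl
def n177460 : Q := act 3 n84545
theorem D177460 : act 3 n84545 = n177460 := rfl
def n177461 : Q := act 6 n84545
theorem D177461 : act 6 n84545 = n177461 := rfl
theorem F276875 : act 4 n177461 = n84546 := d10_1 D177461 (iv6 D84546) D84545
def n177462 : Q := act 0 n84546
theorem D177462 : act 0 n84546 = n177462 := rfl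
def n177463 : Q := act 1 n84546
theorem D177463 : act 1 n84546 = n177463 := rfl
def n177464 : Q := act 7 n84546
theorem D177464 : act 7 n84546 = n177464 := rfl
theorem F276876 : act 5 n177464 = n157811 := d13_1 D177464 (iv7 D157811) (iv5 F129714)
def n177465 : Q := act 6 n84547
theorem D177465 : act 6 n84547 = n177465 := rfl
def n177466 : Q := act 0 n84548
theorem D177466 : act 0 n84548 = n177466 := rfl
theorem F276877 : act 4 n177466 = n96340 := d20_2 (iv4 F129716) D177466 (iv3 F255023) (iv1 D92311) F67593 (iv4 F122702) D166569 (iv4 F262608) F262609 (iv1 D84550)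
def n177467 : Q := act 1 n84548
theorem D177467 : act 1 n84548 = n177467 := rfl
theorem F276880 : act 4 n177467 = n96339 := d18_7 F129589 D166022 F261412 F160854 F76353 (iv4 F129716) D177467 (iv0 D96339) F70731
def n177470 : Q := act 4 n84549
theorem D177470 : act 4 n84549 = n177470 := rfl
theorem F276883 : act 0 n177470 = n95282 := d20_1 D177470 F146933 F70026 F254940 (iv3 D35850) D35851 F92086 F60084 (iv3 F60012) D84549
theorem F276884 : act 0 n169923 = n177470 := d20_1 (iv4 F267345) (iv4 D177470) (iv3 F260997) (iv1 D84278) F59894 (iv4 F59897) D84286 (iv4 F250145) F258388 (iv1 F148279)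
def n177474 : Q := act 4 n84551
theorem D177474 : act 4 n84551 = n177474 := rfl
theorem F276923 : act 0 n177474 = n123281 := d18_2 D84551 D177474 (iv4 D123281) (iv5 D57382) (iv4 F121190) F121218 F87588 (iv0 F121197) D39015
theorem F276924 : act 1 n177474 = n123274 := d15_1 (iv0 F276923) (iv7 F256053) F256052
def n177477 : Q := act 4 n84552
theorem D177477 : act 4 n84552 = n177477 := rfl
theorem F276925 : act 0 n177477 = n123274 := d18_2 F197089 D177477 (iv4 D123274) (iv5 D57377) (iv4 F121187) F121216 F55791 (iv0 F121195) D123008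
def n177479 : Q := act 0 n84553
theorem D177479 : act 0 n84553 = n177479 := rfl
theorem F276926 : act 4 n177479 = n162028 := d18_3 (iv1 D84552) D84553 D177479 F256050 F191633 F120659 (iv4 F89843) (iv0 F196753) F191935
def n177480 : Q := act 1 n84553
theorem D177480 : act 1 n84553 = n177480 := rfl
theorem F276927 : act 4 n177480 = n162027 := d18_7 (iv1 F121093) F44304 F121065 D18516 D39015 D84553 D177480 (iv0 D162027) (iv5 D77832)
def n177481 : Q := act 3 n84553
theorem D177481 : act 3 n84553 = n177481 := rfl
def n177482 : Q := act 5 n84553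
theorem D177482 : act 5 n84553 = n177482 := rfl
def n177483 : Q := act 6 n84553
theorem D177483 : act 6 n84553 = n177483 := rfl
theorem F276928 : act 4 n177483 = n84554 := d10_1 D177483 (iv6 D84554) D84553
def n177484 : Q := act 0 n84554
theorem D177484 : act 0 n84554 = n177484 := rfl
def n177485 : Q := act 1 n84554
theorem D177485 : act 1 n84554 = n177485 := rfl
def n177486 : Q := act 5 n84554
theorem D177486 : act 5 n84554 = n177486 := rfl
theorem F276929 : act 6 n177486 = n84555 := d12_2 D84554 D177486 (iv5 D84555) (iv6 D39016) D39015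
def n177487 : Q := act 7 n84554
theorem D177487 : act 7 n84554 = n177487 := rfl
def n177488 : Q := act 1 n84556
theorem D177488 : act 1 n84556 = n177488 := rfl
theorem F276932 : act 4 n177488 = n120261 := d18_7 F256071 F196471 (iv1 F192035) F191633 (iv5 F121082) D84556 D177488 F191476 D162033
def n177489 : Q := act 3 n84556
theorem D177489 : act 3 n84556 = n177489 := rfl
theorem F276934 : act 4 n177489 = n162904 := d5_2 D84556 D177489 (iv3 D162904) (iv4 F129618) F129617
theorem F276935 : act 6 n177489 = n160359 := d7_2 (iv6 F129722) D177489 (iv3 D160359)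
def n177490 : Q := act 5 n84556
theorem D177490 : act 5 n84556 = n177490 := rfl
theorem F276937 : act 1 n177490 = n123333 := d17_6 (iv1 F90288) F120661 (iv1 F120659) (iv5 F121082) D84556 D177490 (iv5 D123333) F197119 F197118
def n177493 : Q := act 5 n84558
theorem D177493 : act 5 n84558 = n177493 := rfl
theorem F276943 : act 0 n177493 = n123333 := d17_2 (iv1 F197580) D177493 (iv5 D123333) (iv4 F135916) (iv5 F196472) (iv0 F256071) (iv5 D162033) (iv0 D77834) D77836
def n177494 : Q := act 3 n84559
theorem D177494 : act 3 n84559 = n177494 := rfl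
def n177495 : Q := act 5 n84559
theorem D177495 : act 5 n84559 = n177495 := rfl
def n177496 : Q := act 3 n84560
theorem D177496 : act 3 n84560 = n177496 := rfl
def n177497 : Q := act 5 n84560
theorem D177497 : act 5 n84560 = n177497 := rfl
def n177498 : Q := act 0 n84561
theorem D177498 : act 0 n84561 = n177498 := rfl
def n177499 : Q := act 1 n84561
theorem D177499 : act 1 n84561 = n177499 := rfl
theorem F276949 : act 4 n162948 = n177499 := d20_6 (iv4 D35668) F28233 D17305 D35712 D78349 D162948 (iv1 D177499) F129724 (iv3 D39025) (iv1 F56349)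
def n177500 : Q := act 2 n84561
theorem D177500 : act 2 n84561 = n177500 := rfl
theorem F276950 : act 4 n177500 = n84567 := d1_2 (iv4 F129724) D177500 (iv2 D84567)
def n177501 : Q := act 5 n84561
theorem D177501 : act 5 n84561 = n177501 := rfl
theorem F276951 : act 3 n177501 = n84562 := d6_1 D177501 (iv5 D84562) D84561
def n177502 : Q := act 6 n84561
theorem D177502 : act 6 n84561 = n177502 := rfl
theorem F276952 : act 3 n177502 = n84563 := d7_1 D177502 (iv6 D84563) D84561
def n177503 : Q := act 0 n84562
theorem D177503 : act 0 n84562 = n177503 := rfl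
theorem F276954 : act 5 n177503 = n84575 := d17_3 (iv1 D84560) D84562 D177503 F191487 F191484 (iv0 F121215) D77488 F193035 F193033
theorem F276955 : act 7 n124280 = n177503 := d13_0 F276954 (iv7 F191488) D124280
def n177506 : Q := act 5 n84563
theorem D177506 : act 5 n84563 = n177506 := rfl
theorem F276956 : act 0 n177506 = n124217 := d17_2 F256845 D177506 (iv5 D124217) F148258 (iv5 F196257) (iv0 D80389) D80391 (iv0 F126214) D162617
theorem F276957 : act 1 n177506 = n124220 := d17_6 (iv1 F89950) (iv5 F87640) F121154 (iv5 F60029) (iv4 F129725) D177506 (iv5 D124220) F196329 F196328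
def n177507 : Q := act 0 n84564
theorem D177507 : act 0 n84564 = n177507 := rfl
theorem F276958 : act 1 n162801 = n177507 := d15_0 (iv0 D177507) F129727 D162801
def n177508 : Q := act 1 n84564
theorem D177508 : act 1 n84564 = n177508 := rfl
def n177509 : Q := act 2 n84564
theorem D177509 : act 2 n84564 = n177509 := rfl
theorem F276959 : act 3 n177509 = n162807 := d0_2 D84564 D177509 (iv2 D162807) (iv3 D78263) (iv2 F60032)
theorem F276960 : act 6 n177509 = n163549 := d3_2 (iv6 F129726) D177509 (iv2 D163549)
theorem F276961 : act 7 n177509 = n162801 := d4_2 (iv7 F129727) D177509 (iv2 D162801)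
theorem F276962 : act 1 n177509 = n162799 := d15_0 (iv0 D162799) (iv7 F129727) D177509
theorem F276963 : act 1 n177508 = n162801 := d15_1 D177508 (iv7 F276961) (iv2 D177509)
theorem F276964 : act 1 n162800 = n177509 := d15_1 D162800 F276961 (iv2 D162801)
def n177510 : Q := act 2 n84565
theorem D177510 : act 2 n84565 = n177510 := rfl
theorem F276965 : act 7 n84566 = n177510 := d15_2 (iv0 D84565) D84566 (iv2 D177510)
def n177511 : Q := act 3 n84565
theorem D177511 : act 3 n84565 = n177511 := rfl
def n177512 : Q := act 4 n84565
theorem D177512 : act 4 n84565 = n177512 := rfl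
def n177513 : Q := act 5 n84565
theorem D177513 : act 5 n84565 = n177513 := rfl
def n177514 : Q := act 6 n84565
theorem D177514 : act 6 n84565 = n177514 := rfl
def n177515 : Q := act 7 n84565
theorem D177515 : act 7 n84565 = n177515 := rfl
theorem F276966 : act 2 n177515 = n84566 := d4_1 D177515 F276965 (iv2 D177510)
def n177516 : Q := act 3 n84566
theorem D177516 : act 3 n84566 = n177516 := rfl
def n177517 : Q := act 4 n84566
theorem D177517 : act 4 n84566 = n177517 := rfl
def n177518 : Q := act 5 n84566
theorem D177518 : act 5 n84566 = n177518 := rfl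
def n177519 : Q := act 6 n84566
theorem D177519 : act 6 n84566 = n177519 := rfl
def n177520 : Q := act 6 n84567
theorem D177520 : act 6 n84567 = n177520 := rfl
theorem F276967 : act 2 n177520 = n84568 := d3_1 D177520 (iv6 D84568) D84567
theorem F276968 : act 3 n177520 = n170693 := d7_1 D177520 F268198 F199095
def n177523 : Q := act 5 n84568
theorem D177523 : act 5 n84568 = n177523 := rfl
theorem F276969 : act 3 n177523 = n84569 := d6_1 D177523 (iv5 D84569) (iv3 F129728)
def n177524 : Q := act 2 n84570
theorem D177524 : act 2 n84570 = n177524 := rfl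
theorem F276970 : act 7 n84571 = n177524 := d15_2 (iv0 D84570) D84571 (iv2 D177524)
def n177525 : Q := act 3 n84570
theorem D177525 : act 3 n84570 = n177525 := rfl
def n177526 : Q := act 4 n84570
theorem D177526 : act 4 n84570 = n177526 := rfl
def n177527 : Q := act 5 n84570
theorem D177527 : act 5 n84570 = n177527 := rfl
def n177528 : Q := act 6 n84570
theorem D177528 : act 6 n84570 = n177528 := rfl
def n177529 : Q := act 7 n84570
theorem D177529 : act 7 n84570 = n177529 := rfl
theorem F276971 : act 2 n177529 = n84571 := d4_1 D177529 F276970 (iv2 D177524)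
def n177530 : Q := act 3 n84571
theorem D177530 : act 3 n84571 = n177530 := rfl
def n177531 : Q := act 4 n84571
theorem D177531 : act 4 n84571 = n177531 := rfl
def n177532 : Q := act 5 n84571
theorem D177532 : act 5 n84571 = n177532 := rfl
def n177533 : Q := act 6 n84571
theorem D177533 : act 6 n84571 = n177533 := rfl
def n177534 : Q := act 0 n84573
theorem D177534 : act 0 n84573 = n177534 := rfl
def n177535 : Q := act 1 n84573
theorem D177535 : act 1 n84573 = n177535 := rfl
def n177536 : Q := act 2 n84573
theorem D177536 : act 2 n84573 = n177536 := rfl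
def n177537 : Q := act 5 n84573
theorem D177537 : act 5 n84573 = n177537 := rfl
theorem F276972 : act 3 n177537 = n84574 := d6_1 D177537 (iv5 D84574) D84573
def n177538 : Q := act 6 n84574
theorem D177538 : act 6 n84574 = n177538 := rfl
theorem F276973 : act 0 n177538 = n86105 := d21_4 F115704 (iv1 F60056) D84574 D177538 (iv6 D86105) (iv5 D39857) (iv1 D18860) D18862 (iv6 F55904) D76977
def n177539 : Q := act 3 n84575
theorem D177539 : act 3 n84575 = n177539 := rfl
theorem F276974 : act 7 n177539 = n124278 := d8_2 F191488 D177539 F198772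
def n177540 : Q := act 0 n84576
theorem D177540 : act 0 n84576 = n177540 := rfl
theorem F276975 : act 5 n177540 = n123310 := d17_3 F120874 D84576 D177540 F197609 D162033 F256069 F196759 (iv0 F120902) (iv4 F115545)
theorem F276976 : act 2 n177497 = n177540 := d2_3 F276975 (iv2 F197610) D177497
theorem F276977 : act 7 n177495 = n177540 := d13_0 F276975 F197608 D177495
def n177541 : Q := act 1 n84576
theorem D177541 : act 1 n84576 = n177541 := rfl
theorem F276979 : act 5 n177541 = n123309 := d17_7 F87796 (iv5 D55513) (iv1 F120591) (iv5 D39060) D39059 D84576 D177541 (iv0 D123309) (iv4 D57408)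
def n177542 : Q := act 4 n84576
theorem D177542 : act 4 n84576 = n177542 := rfl
def n177543 : Q := act 6 n84576
theorem D177543 : act 6 n84576 = n177543 := rfl
def n177544 : Q := act 4 n84577
theorem D177544 : act 4 n84577 = n177544 := rfl
theorem F276982 : act 6 n177544 = n120527 := d10_2 (iv6 F129735) D177544 F191994
theorem F276985 : act 0 n177544 = n120342 := d17_0 F197071 (iv1 D123004) (iv5 D57221) F44304 D27414 D57233 (iv5 F90282) F129738 D177544
def n177545 : Q := act 0 n84578
theorem D177545 : act 0 n84578 = n177545 := rfl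
theorem F276987 : act 5 n177545 = n123305 := d17_1 D177545 (iv1 D123305) (iv5 D57404) (iv4 D27471) D27472 D57407 (iv5 F129736) (iv0 D84577) D84578
theorem F276988 : act 4 n177545 = n162033 := d18_1 D177545 F256071 F196471 F90565 D123292 F197989 F197988 F197220 F197218
theorem F276989 : act 6 n177545 = n120483 := d21_5 D27573 (iv1 F90926) (iv5 F121584) (iv6 F129740) D177545 (iv5 F196259) (iv1 F196277) F196275 F89934 (iv1 F44358)
def n177547 : Q := act 3 n84579
theorem D177547 : act 3 n84579 = n177547 := rfl
def n177548 : Q := act 4 n84579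
theorem D177548 : act 4 n84579 = n177548 := rfl
def n177549 : Q := act 5 n84579
theorem D177549 : act 5 n84579 = n177549 := rfl
def n177550 : Q := act 6 n84579
theorem D177550 : act 6 n84579 = n177550 := rfl
def n177555 : Q := act 6 n84580
theorem D177555 : act 6 n84580 = n177555 := rfl
def n177556 : Q := act 4 n84581
theorem D177556 : act 4 n84581 = n177556 := rfl
theorem F276995 : act 2 n177556 = n84582 := d1_1 D177556 (iv4 D84582) D84581
theorem F276996 : act 7 n177556 = n163020 := d11_2 (iv7 F129745) D177556 F257377
theorem F276997 : act 1 n163019 = n177556 := d15_1 D163019 F276996 (iv2 D163020)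
theorem F276998 : act 1 n177556 = n163018 := d15_0 (iv0 D163018) (iv7 F129750) (iv2 F276995)
def n177557 : Q := act 5 n84581
theorem D177557 : act 5 n84581 = n177557 := rfl
theorem F276999 : act 2 n177557 = n84583 := d2_1 D177557 (iv5 D84583) D84581
theorem F277000 : act 3 n177557 = n163002 := d6_1 D177557 (iv5 D163002) (iv3 F129744)
theorem F277001 : act 7 n177557 = n163043 := d13_2 (iv7 F129745) D177557 (iv5 D163043)
theorem F277002 : act 1 n163046 = n177557 := d15_1 D163046 F277001 F257393
theorem F277003 : act 1 n177557 = n163045 := d15_0 (iv0 D163045) (iv7 F129752) (iv2 F276999)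
def n177558 : Q := act 0 n84582
theorem D177558 : act 0 n84582 = n177558 := rfl
theorem F277004 : act 1 n163020 = n177558 := d15_0 (iv0 D177558) F129750 D163020
def n177559 : Q := act 1 n84582
theorem D177559 : act 1 n84582 = n177559 := rfl
theorem F277005 : act 1 n177559 = n163020 := d15_1 D177559 (iv7 F276996) F276995
theorem F277006 : act 4 n163086 = n177559 := d20_6 F44704 (iv1 F22022) (iv4 F42349) D35736 D78414 D163086 (iv1 D177559) (iv4 D84582) (iv3 D39066) (iv1 F44706)
def n177560 : Q := act 5 n84582
theorem D177560 : act 5 n84582 = n177560 := rfl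
theorem F277007 : act 3 n177560 = n121068 := d6_1 D177560 (iv5 D121068) (iv3 F129749)
theorem F277008 : act 7 n177560 = n163021 := d13_2 (iv7 F129750) D177560 (iv5 D163021)
def n177561 : Q := act 0 n84583
theorem D177561 : act 0 n84583 = n177561 := rfl
theorem F277009 : act 1 n163043 = n177561 := d15_0 (iv0 D177561) F129752 (iv2 F257393)
def n177562 : Q := act 1 n84583
theorem D177562 : act 1 n84583 = n177562 := rfl
theorem F277010 : act 1 n177562 = n163043 := d15_1 D177562 (iv7 F277001) F276999
def n177563 : Q := act 4 n84583
theorem D177563 : act 4 n84583 = n177563 := rfl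
theorem F277011 : act 7 n177563 = n163047 := d11_2 (iv7 F129752) D177563 (iv4 D163047)
def n177564 : Q := act 6 n84583
theorem D177564 : act 6 n84583 = n177564 := rfl
def n177578 : Q := act 4 n84587
theorem D177578 : act 4 n84587 = n177578 := rfl
theorem F277021 : act 2 n177578 = n84588 := d1_1 D177578 (iv4 D84588) D84587
theorem F277022 : act 7 n177578 = n162984 := d11_2 (iv7 F129756) D177578 F257340
theorem F277023 : act 1 n162983 = n177578 := d15_1 D162983 F277022 (iv2 D162984)
theorem F277024 : act 1 n177578 = n162982 := d15_0 (iv0 D162982) (iv7 F129761) (iv2 F277021)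
def n177579 : Q := act 5 n84587
theorem D177579 : act 5 n84587 = n177579 := rfl
theorem F277025 : act 2 n177579 = n84589 := d2_1 D177579 (iv5 D84589) D84587
theorem F277026 : act 3 n177579 = n163043 := d6_1 D177579 (iv5 D163043) (iv3 F129755)
theorem F277027 : act 7 n177579 = n163002 := d13_2 (iv7 F129756) D177579 (iv5 D163002)
theorem F277028 : act 1 n163004 = n177579 := d15_1 D163004 F277027 F257361
theorem F277029 : act 1 n177579 = n163003 := d15_0 (iv0 D163003) (iv7 F129763) (iv2 F277025)
def n177581 : Q := act 0 n84588
theorem D177581 : act 0 n84588 = n177581 := rfl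
theorem F277032 : act 1 n162984 = n177581 := d15_0 (iv0 D177581) F129761 D162984
theorem F277033 : act 4 n163145 = n177581 := d20_0 (iv1 F277032) F257340 (iv3 F129744) (iv1 F129748) D163039 (iv4 F257447) (iv1 F257452) (iv4 D78430) D78429 D163145
def n177582 : Q := act 1 n84588
theorem D177582 : act 1 n84588 = n177582 := rfl
theorem F277034 : act 1 n177582 = n162984 := d15_1 D177582 (iv7 F277022) F277021
theorem F277035 : act 4 n163060 = n177582 := d20_6 (iv4 D8710) D8708 (iv4 F43479) D35734 D78406 D163060 (iv1 D177582) (iv4 D84588) (iv3 D39068) (iv1 D18555)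
def n177583 : Q := act 5 n84588
theorem D177583 : act 5 n84588 = n177583 := rfl
theorem F277036 : act 3 n177583 = n121070 := d6_1 D177583 (iv5 D121070) (iv3 F129760)
theorem F277037 : act 7 n177583 = n162985 := d13_2 (iv7 F129761) D177583 (iv5 D162985)
def n177585 : Q := act 0 n84589
theorem D177585 : act 0 n84589 = n177585 := rfl
theorem F277040 : act 1 n163002 = n177585 := d15_0 (iv0 D177585) F129763 (iv2 F257361)
def n177586 : Q := act 1 n84589
theorem D177586 : act 1 n84589 = n177586 := rfl
theorem F277041 : act 1 n177586 = n163002 := d15_1 D177586 (iv7 F277027) F277025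
def n177587 : Q := act 4 n84589
theorem D177587 : act 4 n84589 = n177587 := rfl
theorem F277042 : act 7 n177587 = n163005 := d11_2 (iv7 F129763) D177587 (iv4 D163005)
def n177588 : Q := act 6 n84589
theorem D177588 : act 6 n84589 = n177588 := rfl
theorem F277043 : act 3 n177588 = n84591 := d7_1 D177588 (iv6 D84591) (iv3 F129762)
def n177592 : Q := act 0 n84591
theorem D177592 : act 0 n84591 = n177592 := rfl
def n177593 : Q := act 1 n84591
theorem D177593 : act 1 n84591 = n177593 := rfl
theorem F277046 : act 6 n162970 = n177593 := d21_3 F129790 (iv1 F253583) (iv5 F257329) (iv1 D177593) (iv6 D84591) (iv5 D39069) (iv1 D18555) D18557 D39079 D84619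
theorem F277047 : act 5 n177593 = n163381 := d12_1 F277046 (iv6 D163381) F122501 (iv6 F253581) (iv5 F257329)
def n177597 : Q := act 5 n84593
theorem D177597 : act 5 n84593 = n177597 := rfl
theorem F277057 : act 2 n177597 = n84611 := d2_1 D177597 F129780 F129769
theorem F277058 : act 7 n177597 = n84606 := d13_2 (iv7 F129770) D177597 (iv5 D84606)
theorem F277059 : act 1 n84608 = n177597 := d15_1 D84608 F277058 F129776
theorem F277060 : act 1 n177597 = n84607 := d15_0 (iv0 D84607) D84611 (iv2 F277057)
def n177598 : Q := act 6 n84593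
theorem D177598 : act 6 n84593 = n177598 := rfl
theorem F277061 : act 2 n177598 = n84612 := d3_1 D177598 (iv6 D84612) F129769
theorem F277062 : act 7 n177598 = n125403 := d14_2 (iv7 F129770) D177598 (iv6 D125403) F92785 (iv6 F60071)
theorem F277063 : act 1 n125405 = n177598 := d15_1 D125405 F277062 F201679
theorem F277064 : act 1 n177598 = n125404 := d15_0 (iv0 D125404) (iv7 F129782) (iv2 F277061)
def n177599 : Q := act 0 n84594
theorem D177599 : act 0 n84594 = n177599 := rfl
theorem F277065 : act 1 n84599 = n177599 := d15_0 (iv0 D177599) (iv7 F129772) (iv2 F129773)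
def n177600 : Q := act 1 n84594
theorem D177600 : act 1 n84594 = n177600 := rfl
theorem F277066 : act 1 n177600 = n84599 := d15_1 D177600 (iv7 D84599) D84594
def n177601 : Q := act 3 n84594
theorem D177601 : act 3 n84594 = n177601 := rfl
theorem F277067 : act 7 n177601 = n84600 := d8_2 F129772 D177601 (iv3 D84600)
def n177602 : Q := act 4 n84594
theorem D177602 : act 4 n84594 = n177602 := rfl
theorem F277068 : act 2 n177602 = n84596 := d1_1 D177602 (iv4 D84596) D84594
theorem F277069 : act 7 n177602 = n84601 := d11_2 F129772 D177602 (iv4 D84601)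
def n177603 : Q := act 5 n84594
theorem D177603 : act 5 n84594 = n177603 := rfl
theorem F277070 : act 2 n177603 = n84597 := d2_1 D177603 (iv5 D84597) D84594
theorem F277071 : act 7 n177603 = n84602 := d13_2 F129772 D177603 (iv5 D84602)
def n177604 : Q := act 6 n84594
theorem D177604 : act 6 n84594 = n177604 := rfl
theorem F277072 : act 2 n177604 = n84598 := d3_1 D177604 (iv6 D84598) D84594
def n177605 : Q := act 0 n84595
theorem D177605 : act 0 n84595 = n177605 := rfl
def n177606 : Q := act 1 n84595
theorem D177606 : act 1 n84595 = n177606 := rfl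
def n177607 : Q := act 2 n84595
theorem D177607 : act 2 n84595 = n177607 := rfl
def n177608 : Q := act 4 n84595
theorem D177608 : act 4 n84595 = n177608 := rfl
theorem F277073 : act 0 n177608 = n120926 := d20_7 F42349 (iv1 D8709) D8710 D18556 D39071 D84595 D177608 F192840 F88383 (iv1 F43487)
theorem F277074 : act 0 n120924 = n177608 := d20_7 (iv4 F276861) (iv1 F276863) (iv4 F257467) (iv3 D163166) (iv1 D78434) (iv3 F88380) (iv4 F192836) (iv4 D177608) (iv3 D84595) D84593
def n177609 : Q := act 5 n84595
theorem D177609 : act 5 n84595 = n177609 := rfl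
theorem F277075 : act 3 n177609 = n84597 := d6_1 D177609 (iv5 D84597) D84595
def n177610 : Q := act 6 n84595
theorem D177610 : act 6 n84595 = n177610 := rfl
theorem F277076 : act 3 n177610 = n84598 := d7_1 D177610 (iv6 D84598) D84595
def n177611 : Q := act 7 n84595
theorem D177611 : act 7 n84595 = n177611 := rfl
theorem F277077 : act 3 n177611 = n84599 := d8_1 D177611 (iv7 D84599) D84595
def n177612 : Q := act 0 n84596
theorem D177612 : act 0 n84596 = n177612 := rfl
theorem F277078 : act 4 n177612 = n163091 := d20_2 D84596 D177612 (iv3 D163091) (iv1 D78415) (iv3 D35736) F42349 (iv1 D8709) D8710 D18556 D39071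
def n177613 : Q := act 1 n84596
theorem D177613 : act 1 n84596 = n177613 := rfl
theorem F277079 : act 1 n177613 = n84601 := d15_1 D177613 (iv7 F277069) F277068
def n177614 : Q := act 3 n84596
theorem D177614 : act 3 n84596 = n177614 := rfl
def n177615 : Q := act 5 n84596
theorem D177615 : act 5 n84596 = n177615 := rfl
def n177616 : Q := act 6 n84596
theorem D177616 : act 6 n84596 = n177616 := rfl
theorem F277080 : act 4 n177616 = n84598 := d10_1 D177616 (iv6 D84598) D84596
def n177617 : Q := act 7 n84596
theorem D177617 : act 7 n84596 = n177617 := rfl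
theorem F277081 : act 2 n177617 = n84601 := d4_1 D177617 (iv7 F277069) F277068
theorem F277082 : act 4 n177617 = n84599 := d11_1 D177617 (iv7 D84599) D84596
theorem F277083 : act 1 n84601 = n177612 := d15_0 (iv0 D177612) D177617 F277081
def n177618 : Q := act 0 n84597
theorem D177618 : act 0 n84597 = n177618 := rfl
def n177619 : Q := act 1 n84597
theorem D177619 : act 1 n84597 = n177619 := rfl
theorem F277084 : act 1 n177619 = n84602 := d15_1 D177619 (iv7 F277071) F277070
def n177620 : Q := act 4 n84597
theorem D177620 : act 4 n84597 = n177620 := rfl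
def n177621 : Q := act 6 n84597
theorem D177621 : act 6 n84597 = n177621 := rfl
def n177622 : Q := act 7 n84597
theorem D177622 : act 7 n84597 = n177622 := rfl
theorem F277085 : act 2 n177622 = n84602 := d4_1 D177622 (iv7 F277071) F277070
theorem F277086 : act 5 n177622 = n84599 := d13_1 D177622 (iv7 D84599) D84597
theorem F277087 : act 1 n84602 = n177618 := d15_0 (iv0 D177618) D177622 F277085
def n177623 : Q := act 0 n84598
theorem D177623 : act 0 n84598 = n177623 := rfl
def n177624 : Q := act 1 n84598
theorem D177624 : act 1 n84598 = n177624 := rfl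
def n177625 : Q := act 5 n84598
theorem D177625 : act 5 n84598 = n177625 := rfl
theorem F277088 : act 0 n177625 = n124661 := d21_7 F201640 (iv1 D39886) F30114 (iv6 F29792) D39071 D84598 D177625 (iv5 D124661) F92071 (iv1 F92770)
theorem F277089 : act 1 n177625 = n124665 := d15_1 (iv0 F277088) (iv7 D124665) (iv2 F199410)
def n177626 : Q := act 7 n84598
theorem D177626 : act 7 n84598 = n177626 := rfl
def n177627 : Q := act 6 n84599
theorem D177627 : act 6 n84599 = n177627 := rfl
theorem F277090 : act 2 n177627 = n84603 := d3_1 D177627 (iv6 D84603) (iv2 F129773)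
def n177628 : Q := act 0 n84600
theorem D177628 : act 0 n84600 = n177628 := rfl
def n177629 : Q := act 1 n84600
theorem D177629 : act 1 n84600 = n177629 := rfl
def n177630 : Q := act 2 n84600
theorem D177630 : act 2 n84600 = n177630 := rfl
def n177631 : Q := act 4 n84600
theorem D177631 : act 4 n84600 = n177631 := rfl
theorem F277091 : act 0 n163061 = n177631 := d20_1 D163061 (iv4 D177631) (iv3 D84600) (iv1 D39072) (iv3 D18556) (iv4 D8710) D8708 (iv4 F43479) D35734 D78406
def n177632 : Q := act 5 n84600
theorem D177632 : act 5 n84600 = n177632 := rfl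
theorem F277092 : act 3 n177632 = n84602 := d6_1 D177632 (iv5 D84602) D84600
def n177633 : Q := act 6 n84600
theorem D177633 : act 6 n84600 = n177633 := rfl
theorem F277093 : act 3 n177633 = n84603 := d7_1 D177633 (iv6 D84603) D84600
def n177634 : Q := act 3 n84601
theorem D177634 : act 3 n84601 = n177634 := rfl
def n177635 : Q := act 5 n84601
theorem D177635 : act 5 n84601 = n177635 := rfl
def n177636 : Q := act 6 n84601
theorem D177636 : act 6 n84601 = n177636 := rfl
theorem F277094 : act 4 n177636 = n84603 := d10_1 D177636 (iv6 D84603) D84601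
def n177637 : Q := act 4 n84602
theorem D177637 : act 4 n84602 = n177637 := rfl
def n177638 : Q := act 6 n84602
theorem D177638 : act 6 n84602 = n177638 := rfl
def n177639 : Q := act 0 n84603
theorem D177639 : act 0 n84603 = n177639 := rfl
def n177640 : Q := act 1 n84603
theorem D177640 : act 1 n84603 = n177640 := rfl
def n177641 : Q := act 5 n84603
theorem D177641 : act 5 n84603 = n177641 := rfl
def n177642 : Q := act 7 n84603
theorem D177642 : act 7 n84603 = n177642 := rfl
def n177647 : Q := act 6 n84604
theorem D177647 : act 6 n84604 = n177647 := rfl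
theorem F277096 : act 5 n177647 = n124663 := d21_6 F256335 (iv1 F60691) F60689 (iv6 F60071) D84604 D177647 (iv1 D124663) (iv5 D58251) F44791 D39873
def n177649 : Q := act 3 n84605
theorem D177649 : act 3 n84605 = n177649 := rfl
theorem F277098 : act 4 n177649 = n120923 := d20_6 F43476 (iv1 F22021) (iv4 F29793) (iv3 F60073) (iv1 F129775) D177649 (iv1 D120923) F88203 (iv3 D26953) D26951
def n177653 : Q := act 0 n84606
theorem D177653 : act 0 n84606 = n177653 := rfl
theorem F277099 : act 1 n84611 = n177653 := d15_0 (iv0 D177653) (iv7 F277058) F277057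
def n177654 : Q := act 1 n84606
theorem D177654 : act 1 n84606 = n177654 := rfl
theorem F277100 : act 1 n177654 = n84611 := d15_1 D177654 (iv7 D84611) (iv2 F129776)
def n177655 : Q := act 4 n84606
theorem D177655 : act 4 n84606 = n177655 := rfl
theorem F277101 : act 2 n177655 = n84609 := d1_1 D177655 (iv4 D84609) (iv2 F129776)
def n177656 : Q := act 6 n84606
theorem D177656 : act 6 n84606 = n177656 := rfl
theorem F277102 : act 2 n177656 = n84610 := d3_1 D177656 (iv6 D84610) (iv2 F129776)
theorem F277103 : act 5 n177656 = n86184 := d12_1 D177656 (iv6 D86184) F60689 (iv6 F60071) D84606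
def n177657 : Q := act 2 n84607
theorem D177657 : act 2 n84607 = n177657 := rfl
theorem F277104 : act 7 n84608 = n177657 := d15_2 (iv0 D84607) D84608 (iv2 D177657)
def n177658 : Q := act 3 n84607
theorem D177658 : act 3 n84607 = n177658 := rfl
def n177659 : Q := act 4 n84607
theorem D177659 : act 4 n84607 = n177659 := rfl
def n177660 : Q := act 5 n84607
theorem D177660 : act 5 n84607 = n177660 := rfl
def n177661 : Q := act 6 n84607
theorem D177661 : act 6 n84607 = n177661 := rfl
def n177662 : Q := act 7 n84607
theorem D177662 : act 7 n84607 = n177662 := rfl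
theorem F277105 : act 2 n177662 = n84608 := d4_1 D177662 F277104 (iv2 D177657)
def n177663 : Q := act 3 n84608
theorem D177663 : act 3 n84608 = n177663 := rfl
def n177664 : Q := act 4 n84608
theorem D177664 : act 4 n84608 = n177664 := rfl
def n177665 : Q := act 5 n84608
theorem D177665 : act 5 n84608 = n177665 := rfl
def n177666 : Q := act 6 n84608
theorem D177666 : act 6 n84608 = n177666 := rfl
def n177667 : Q := act 0 n84609
theorem D177667 : act 0 n84609 = n177667 := rfl
def n177668 : Q := act 1 n84609
theorem D177668 : act 1 n84609 = n177668 := rfl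
def n177669 : Q := act 3 n84609
theorem D177669 : act 3 n84609 = n177669 := rfl
theorem F277106 : act 4 n177669 = n84617 := d5_2 D84609 D177669 (iv3 D84617) (iv4 D39078) (iv3 F60072)
def n177670 : Q := act 5 n84609
theorem D177670 : act 5 n84609 = n177670 := rfl
def n177671 : Q := act 6 n84609
theorem D177671 : act 6 n84609 = n177671 := rfl
theorem F277107 : act 4 n177671 = n84610 := d10_1 D177671 (iv6 D84610) D84609
def n177672 : Q := act 7 n84609
theorem D177672 : act 7 n84609 = n177672 := rfl
theorem F277108 : act 4 n177672 = n84611 := d11_1 D177672 (iv7 D84611) D84609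
def n177673 : Q := act 0 n84610
theorem D177673 : act 0 n84610 = n177673 := rfl
def n177674 : Q := act 1 n84610
theorem D177674 : act 1 n84610 = n177674 := rfl
def n177675 : Q := act 7 n84610
theorem D177675 : act 7 n84610 = n177675 := rfl
theorem F277109 : act 3 n177675 = n84621 := d8_1 D177675 (iv7 D84621) (iv3 F129777)
theorem F277110 : act 5 n177675 = n84872 := d13_1 D177675 F130078 (iv5 F129778)
def n177676 : Q := act 6 n84611
theorem D177676 : act 6 n84611 = n177676 := rfl
theorem F277111 : act 3 n177676 = n84622 := d7_1 D177676 (iv6 D84622) (iv3 F129779)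
def n177677 : Q := act 0 n84612
theorem D177677 : act 0 n84612 = n177677 := rfl
theorem F277112 : act 1 n125403 = n177677 := d15_0 (iv0 D177677) F129782 (iv2 F201679)
def n177678 : Q := act 1 n84612
theorem D177678 : act 1 n84612 = n177678 := rfl
theorem F277113 : act 1 n177678 = n125403 := d15_1 D177678 (iv7 F277062) F277061
def n177679 : Q := act 5 n84612
theorem D177679 : act 5 n84612 = n177679 := rfl
theorem F277114 : act 3 n177679 = n84623 := d6_1 D177679 (iv5 D84623) (iv3 F129781)
theorem F277115 : act 7 n177679 = n84870 := d13_2 (iv7 F129782) D177679 F130074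
def n177680 : Q := act 0 n84613
theorem D177680 : act 0 n84613 = n177680 := rfl
theorem F277116 : act 1 n162957 = n177680 := d15_0 (iv0 D177680) F129784 (iv2 F257322)
def n177681 : Q := act 1 n84613
theorem D177681 : act 1 n84613 = n177681 := rfl
def n177682 : Q := act 2 n84613
theorem D177682 : act 2 n84613 = n177682 := rfl
theorem F277117 : act 3 n177682 = n162821 := d0_2 D84613 D177682 F257095 F119465 F60075
theorem F277118 : act 5 n177682 = n121037 := d2_2 (iv5 F129783) D177682 (iv2 D121037)
theorem F277119 : act 7 n177682 = n162957 := d4_2 (iv7 F129784) D177682 F257322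
theorem F277120 : act 1 n177682 = n162959 := d15_0 (iv0 D162959) (iv7 F129784) D177682
theorem F277121 : act 1 n177681 = n162957 := d15_1 D177681 (iv7 F277119) (iv2 D177682)
theorem F277122 : act 1 n162960 = n177682 := d15_1 D162960 F277119 F257322
def n177683 : Q := act 4 n84613
theorem D177683 : act 4 n84613 = n177683 := rfl
theorem F277123 : act 7 n177683 = n162961 := d11_2 (iv7 F129784) D177683 (iv4 D162961)
def n177684 : Q := act 6 n84613
theorem D177684 : act 6 n84613 = n177684 := rfl
theorem F277124 : act 3 n177684 = n84614 := d7_1 D177684 (iv6 D84614) D84613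
def n177688 : Q := act 0 n84615
theorem D177688 : act 0 n84615 = n177688 := rfl
theorem F277131 : act 1 n162821 = n177688 := d15_0 (iv0 D177688) F129787 (iv2 F257095)
def n177689 : Q := act 1 n84615
theorem D177689 : act 1 n84615 = n177689 := rfl
def n177690 : Q := act 2 n84615
theorem D177690 : act 2 n84615 = n177690 := rfl
theorem F277132 : act 3 n177690 = n162957 := d0_2 D84615 D177690 F257322 F119570 F60079
theorem F277133 : act 5 n177690 = n121064 := d2_2 (iv5 F129786) D177690 (iv2 D121064)
theorem F277134 : act 7 n177690 = n162821 := d4_2 (iv7 F129787) D177690 F257095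
theorem F277135 : act 1 n177690 = n162823 := d15_0 (iv0 D162823) (iv7 F129787) D177690
theorem F277136 : act 1 n177689 = n162821 := d15_1 D177689 (iv7 F277134) (iv2 D177690)
theorem F277137 : act 1 n162824 = n177690 := d15_1 D162824 F277134 F257095
def n177691 : Q := act 4 n84615
theorem D177691 : act 4 n84615 = n177691 := rfl
theorem F277138 : act 7 n177691 = n162825 := d11_2 (iv7 F129787) D177691 (iv4 D162825)
def n177697 : Q := act 6 n84617
theorem D177697 : act 6 n84617 = n177697 := rfl
def n177698 : Q := act 5 n84618
theorem D177698 : act 5 n84618 = n177698 := rfl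
theorem F277149 : act 4 n177698 = n84623 := d16_2 (iv4 F129789) D177698 (iv5 D84623) F60084 (iv5 F44798) (iv4 F92083) (iv5 F199142) (iv7 D124502) F91898
theorem F277150 : act 7 n177698 = n84878 := d16_8 (iv4 D86229) (iv5 D39905) F30120 F13744 (iv4 F30116) (iv5 F60080) (iv4 F129789) D177698 (iv2 F132181)
def n177700 : Q := act 3 n84619
theorem D177700 : act 3 n84619 = n177700 := rfl
theorem F277153 : act 5 n177700 = n163920 := d6_2 (iv5 F129790) D177700 (iv3 D163920)
def n177701 : Q := act 4 n84619
theorem D177701 : act 4 n84619 = n177701 := rfl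
theorem F277156 : act 5 n177701 = n163932 := d16_1 D177701 (iv4 D163932) (iv5 D78756) (iv4 D35856) D35857 D78758 F129791 F199135 (iv2 F199134)
def n177703 : Q := act 3 n84620
theorem D177703 : act 3 n84620 = n177703 := rfl
theorem F277159 : act 5 n177703 = n163935 := d6_2 F129791 D177703 (iv3 D163935)
def n177704 : Q := act 4 n84620
theorem D177704 : act 4 n84620 = n177704 := rfl
theorem F277161 : act 5 n177704 = n163917 := d9_2 F129791 D177704 (iv4 D163917) (iv5 D78745) (iv4 D35851) D35852 D78748 (iv5 F129790) D177701 F277156 (iv4 D163932) (iv5 D78756) (iv4 D35856) D35857 D78758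
def n177706 : Q := act 6 n84621
theorem D177706 : act 6 n84621 = n177706 := rfl
theorem F277165 : act 5 n177706 = n84880 := d12_1 D177706 (iv6 D84880) F60234 D39271 (iv5 F129792)
theorem F277166 : act 7 n177706 = n84622 := d14_2 D84621 D177706 (iv6 D84622) (iv7 D39080) D39079
def n177707 : Q := act 0 n84622
theorem D177707 : act 0 n84622 = n177707 := rfl
def n177708 : Q := act 1 n84622
theorem D177708 : act 1 n84622 = n177708 := rfl
def n177709 : Q := act 5 n84622
theorem D177709 : act 5 n84622 = n177709 := rfl
theorem F277167 : act 6 n177709 = n84623 := d12_2 D84622 D177709 (iv5 D84623) (iv6 D39081) (iv5 F60081)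
theorem F277168 : act 7 n177709 = n84880 := d13_2 F277166 D177709 (iv5 F277165)
def n177712 : Q := act 5 n84624
theorem D177712 : act 5 n84624 = n177712 := rfl
def n177714 : Q := act 6 n84625
theorem D177714 : act 6 n84625 = n177714 := rfl
theorem F277171 : act 2 n177714 = n98291 := d3_1 D177714 (iv6 D98291) (iv2 F129796)
theorem F277172 : act 3 n177714 = n84626 := d7_1 D177714 (iv6 D84626) D84625
theorem F277173 : act 4 n177714 = n128165 := d10_1 D177714 (iv6 D128165) (iv4 F129799)
def n177715 : Q := act 0 n84626
theorem D177715 : act 0 n84626 = n177715 := rfl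
def n177716 : Q := act 1 n84626
theorem D177716 : act 1 n84626 = n177716 := rfl
def n177717 : Q := act 5 n84626
theorem D177717 : act 5 n84626 = n177717 := rfl
def n177718 : Q := act 7 n84626
theorem D177718 : act 7 n84626 = n177718 := rfl
def n177719 : Q := act 0 n84627
theorem D177719 : act 0 n84627 = n177719 := rfl
def n177720 : Q := act 1 n84627
theorem D177720 : act 1 n84627 = n177720 := rfl
def n177721 : Q := act 5 n84627
theorem D177721 : act 5 n84627 = n177721 := rfl
theorem F277174 : act 3 n177721 = n84634 := d6_1 D177721 (iv5 D84634) (iv3 F129802)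
theorem F277175 : act 6 n177721 = n84630 := d12_2 D84627 D177721 (iv5 D84630) (iv6 D39085) D39084
def n177722 : Q := act 7 n84627
theorem D177722 : act 7 n84627 = n177722 := rfl
theorem F277177 : act 6 n177722 = n99959 := d14_1 D177722 (iv7 D99959) (iv6 D46687) (iv7 F60088) D84627
def n177723 : Q := act 2 n84628
theorem D177723 : act 2 n84628 = n177723 := rfl
theorem F277178 : act 7 n84629 = n177723 := d15_2 (iv0 D84628) D84629 (iv2 D177723)
def n177724 : Q := act 3 n84628
theorem D177724 : act 3 n84628 = n177724 := rfl
theorem F277179 : act 4 n177724 = n167084 := d20_6 (iv4 D39096) (iv1 D18564) (iv4 F29801) (iv3 F60089) D84628 D177724 (iv1 F263176) (iv4 F154832) F154831 (iv1 F125788)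
def n177728 : Q := act 7 n84628
theorem D177728 : act 7 n84628 = n177728 := rfl
theorem F277180 : act 2 n177728 = n84629 := d4_1 D177728 F277178 (iv2 D177723)
def n177729 : Q := act 3 n84629
theorem D177729 : act 3 n84629 = n177729 := rfl
theorem F277181 : act 4 n177729 = n128169 := d20_6 (iv4 D32492) (iv1 F51552) (iv4 F106340) (iv3 F234372) (iv1 F234374) D177729 (iv1 D128169) (iv4 F155625) F155624 (iv1 F190376)
def n177730 : Q := act 4 n84629
theorem D177730 : act 4 n84629 = n177730 := rfl
def n177731 : Q := act 5 n84629
theorem D177731 : act 5 n84629 = n177731 := rfl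
def n177732 : Q := act 6 n84629
theorem D177732 : act 6 n84629 = n177732 := rfl
def n177733 : Q := act 0 n84630
theorem D177733 : act 0 n84630 = n177733 := rfl
def n177734 : Q := act 1 n84630
theorem D177734 : act 1 n84630 = n177734 := rfl
def n177735 : Q := act 4 n84630
theorem D177735 : act 4 n84630 = n177735 := rfl
def n177736 : Q := act 7 n84630
theorem D177736 : act 7 n84630 = n177736 := rfl
theorem F277183 : act 5 n177736 = n84631 := d13_1 D177736 (iv7 D84631) D84630
def n177737 : Q := act 2 n84632
theorem D177737 : act 2 n84632 = n177737 := rfl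
theorem F277184 : act 7 n84633 = n177737 := d15_2 (iv0 D84632) D84633 (iv2 D177737)
def n177741 : Q := act 6 n84632
theorem D177741 : act 6 n84632 = n177741 := rfl
theorem F277185 : act 5 n177741 = n122408 := d21_6 F21997 (iv1 F21994) D18561 D39086 D84632 D177741 (iv1 D122408) (iv5 D56723) (iv6 D27258) (iv1 F21784)
def n177743 : Q := act 3 n84633
theorem D177743 : act 3 n84633 = n177743 := rfl
def n177744 : Q := act 4 n84633
theorem D177744 : act 4 n84633 = n177744 := rfl
def n177745 : Q := act 5 n84633
theorem D177745 : act 5 n84633 = n177745 := rfl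
def n177746 : Q := act 6 n84633
theorem D177746 : act 6 n84633 = n177746 := rfl
def n177747 : Q := act 0 n84634
theorem D177747 : act 0 n84634 = n177747 := rfl
def n177748 : Q := act 4 n84634
theorem D177748 : act 4 n84634 = n177748 := rfl
theorem F277187 : act 2 n177748 = n84690 := d1_1 D177748 (iv4 D84690) (iv2 F129806)
theorem F277188 : act 6 n177748 = n84644 := d10_2 (iv6 F129807) D177748 (iv4 D84644)
def n177749 : Q := act 7 n84634
theorem D177749 : act 7 n84634 = n177749 := rfl
theorem F277189 : act 2 n177749 = n84691 := d4_1 D177749 (iv7 D84691) (iv2 F129806)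
theorem F277191 : act 1 n84691 = n177747 := d15_0 (iv0 D177747) D177749 F277189
theorem F277192 : act 1 n84689 = n177749 := d15_1 D84689 (iv7 D177749) F129806
theorem F277193 : act 5 n98441 = n177747 := d21_0 (iv1 F277191) F129921 (iv6 F91736) (iv1 F91738) D99969 (iv5 F153899) (iv1 F151850) (iv5 D46043) D46044 D98441
theorem F277194 : act 1 n177749 = n84688 := d15_0 (iv0 D84688) D84691 (iv2 F277189)
def n177750 : Q := act 0 n84636
theorem D177750 : act 0 n84636 = n177750 := rfl
theorem F277195 : act 1 n84708 = n177750 := d15_0 (iv0 D177750) F129815 D84708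
def n177751 : Q := act 1 n84636
theorem D177751 : act 1 n84636 = n177751 := rfl
def n177752 : Q := act 2 n84636
theorem D177752 : act 2 n84636 = n177752 := rfl
theorem F277196 : act 3 n177752 = n84694 := d0_2 D84636 D177752 (iv2 D84694) (iv3 D39120) (iv2 F91558)
theorem F277198 : act 7 n177752 = n84708 := d4_2 (iv7 F129815) D177752 (iv2 D84708)
theorem F277200 : act 1 n177751 = n84708 := d15_1 D177751 (iv7 F277198) (iv2 D177752)
theorem F277201 : act 1 n84707 = n177752 := d15_1 D84707 F277198 (iv2 D84708)
def n177753 : Q := act 5 n84636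
theorem D177753 : act 5 n84636 = n177753 := rfl
theorem F277203 : act 7 n177753 = n84709 := d13_2 (iv7 F129815) D177753 (iv5 D84709)
def n177754 : Q := act 1 n84637
theorem D177754 : act 1 n84637 = n177754 := rfl
theorem F277204 : act 1 n177754 = n84640 := d15_1 D177754 F129825 (iv2 F129816)
theorem F277205 : act 7 n177754 = n84700 := d15_2 F250719 D177754 (iv2 F250717)
theorem F277206 : act 5 n177754 = n167444 := d17_7 (iv1 F263560) F199317 (iv1 D121501) (iv5 D56101) (iv4 F60092) D84637 D177754 F263585 (iv4 F263557)
theorem F277207 : act 2 n84701 = n177754 := d2_3 F277206 F263589 F192277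
def n177755 : Q := act 4 n84637
theorem D177755 : act 4 n84637 = n177755 := rfl
theorem F277208 : act 2 n177755 = n84702 := d1_1 D177755 (iv4 D84702) (iv2 F129816)
theorem F277209 : act 7 n177755 = n84712 := d11_2 (iv7 F129817) D177755 (iv4 D84712)
def n177758 : Q := act 2 n84638
theorem D177758 : act 2 n84638 = n177758 := rfl
theorem F277211 : act 3 n177758 = n84708 := d0_2 D84638 D177758 (iv2 D84708) (iv3 D39125) (iv2 F91560)
def n177759 : Q := act 5 n84638
theorem D177759 : act 5 n84638 = n177759 := rfl
theorem F277216 : act 3 n177759 = n84640 := d6_1 D177759 (iv5 D84640) D84638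
theorem F277217 : act 7 n177759 = n84695 := d13_2 (iv7 F129818) D177759 (iv5 D84695)
def n177760 : Q := act 4 n84640
theorem D177760 : act 4 n84640 = n177760 := rfl
theorem F277218 : act 2 n177760 = n84712 := d1_1 D177760 (iv4 D84712) (iv2 F129824)
theorem F277219 : act 7 n177760 = n84702 := d11_2 (iv7 F129825) D177760 (iv4 D84702)
def n177761 : Q := act 6 n84640
theorem D177761 : act 6 n84640 = n177761 := rfl
theorem F277220 : act 2 n177761 = n84713 := d3_1 D177761 (iv6 D84713) (iv2 F129824)
def n177762 : Q := act 3 n84642
theorem D177762 : act 3 n84642 = n177762 := rfl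
theorem F277221 : act 7 n177762 = n84719 := d8_2 (iv7 F129839) D177762 (iv3 D84719)
def n177763 : Q := act 4 n84642
theorem D177763 : act 4 n84642 = n177763 := rfl
theorem F277222 : act 2 n177763 = n84716 := d1_1 D177763 (iv4 D84716) (iv2 F129840)
theorem F277223 : act 7 n177763 = n84720 := d11_2 (iv7 F129839) D177763 (iv4 D84720)
theorem F277224 : act 1 n177763 = n170704 := d18_6 F135953 F126394 (iv1 F194676) (iv4 F263591) F263592 D177763 (iv4 D170704) D170703 (iv5 F268216)
def n177764 : Q := act 6 n84642
theorem D177764 : act 6 n84642 = n177764 := rfl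
theorem F277225 : act 2 n177764 = n84718 := d3_1 D177764 (iv6 D84718) (iv2 F129840)
def n177765 : Q := act 3 n84643
theorem D177765 : act 3 n84643 = n177765 := rfl
theorem F277226 : act 5 n177765 = n122415 := d6_2 F129832 D177765 F195862
theorem F277227 : act 7 n177765 = n84715 := d8_2 F129841 D177765 (iv3 D84715)
def n177766 : Q := act 4 n84643
theorem D177766 : act 4 n84643 = n177766 := rfl
theorem F277228 : act 2 n177766 = n84720 := d1_1 D177766 (iv4 D84720) (iv2 F129833)
theorem F277229 : act 7 n177766 = n84716 := d11_2 F129841 D177766 (iv4 D84716)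
theorem F277230 : act 0 n177766 = n170704 := d18_2 (iv1 F129831) D177766 (iv4 D170704) (iv5 D81835) (iv4 F60982) (iv0 F129822) (iv4 D84639) F60094 (iv5 F60134)
def n177767 : Q := act 6 n84643
theorem D177767 : act 6 n84643 = n177767 := rfl
theorem F277231 : act 2 n177767 = n84721 := d3_1 D177767 (iv6 D84721) (iv2 F129833)
theorem F277232 : act 5 n177767 = n122417 := d12_1 D177767 (iv6 D122417) (iv5 D56728) D56729 F129832
def n177768 : Q := act 0 n84644
theorem D177768 : act 0 n84644 = n177768 := rfl
def n177769 : Q := act 1 n84644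
theorem D177769 : act 1 n84644 = n177769 := rfl
theorem F277233 : act 1 n177769 = n84726 := d15_1 D177769 (iv7 D84726) (iv2 F129834)
theorem F277234 : act 4 n177769 = n122452 := d18_7 (iv1 F125788) (iv4 D39096) (iv1 D18564) (iv4 F29801) D39089 D84644 D177769 F268221 F268220
theorem F277235 : act 2 n84723 = n177769 := d1_3 F277234 (iv2 F268217) (iv4 F268218)
theorem F277236 : act 7 n84722 = n177769 := d11_0 F277234 F268212 (iv4 F268214)
theorem F277237 : act 2 n84722 = n177768 := d15_3 (iv0 D177768) D177769 (iv7 F277236)
theorem F277238 : act 7 n177768 = n84723 := d4_2 (iv7 F277236) F277237 F277235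
theorem F277239 : act 1 n84726 = n177768 := d15_1 F277233 F277238 F277235
def n177770 : Q := act 3 n84644
theorem D177770 : act 3 n84644 = n177770 := rfl
def n177771 : Q := act 5 n84644
theorem D177771 : act 5 n84644 = n177771 := rfl
theorem F277240 : act 2 n177771 = n84725 := d2_1 D177771 (iv5 D84725) (iv2 F129834)
theorem F277241 : act 4 n177771 = n84807 := d16_2 D84644 D177771 F130012 F60165 F29824 (iv4 F29819) (iv5 F60134) (iv7 D39132) (iv2 F60095)
theorem F277242 : act 7 n84805 = n177771 := d11_0 F277241 (iv7 D84807) D84805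
def n177772 : Q := act 7 n84644
theorem D177772 : act 7 n84644 = n177772 := rfl
theorem F277243 : act 2 n177772 = n84726 := d4_1 D177772 (iv7 D84726) (iv2 F129834)
theorem F277244 : act 4 n177772 = n84645 := d11_1 D177772 (iv7 D84645) D84644
theorem F277245 : act 5 n177772 = n84805 := d13_1 D177772 F277242 (iv5 D177771)
theorem F277246 : act 1 n84723 = n177772 := d15_1 D84723 (iv7 D177772) F129834
theorem F277247 : act 1 n177772 = n84722 := d15_1 F277246 F277236 (iv2 F277235)
def n177773 : Q := act 6 n84645
theorem D177773 : act 6 n84645 = n177773 := rfl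
theorem F277248 : act 2 n177773 = n84727 := d3_1 D177773 (iv6 D84727) (iv2 F129835)
def n177774 : Q := act 5 n84646
theorem D177774 : act 5 n84646 = n177774 := rfl
theorem F277250 : act 7 n177774 = n84763 := d13_2 (iv7 F129843) D177774 (iv5 D84763)
def n177775 : Q := act 1 n84647
theorem D177775 : act 1 n84647 = n177775 := rfl
theorem F277251 : act 1 n177775 = n84649 := d15_1 D177775 F129849 (iv2 F129844)
theorem F277252 : act 7 n177775 = n84741 := d15_2 F268756 D177775 (iv2 F268753)
theorem F277253 : act 2 n84742 = n177775 := d4_3 F277252 (iv2 F268753) F268754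
def n177776 : Q := act 4 n84647
theorem D177776 : act 4 n84647 = n177776 := rfl
theorem F277255 : act 7 n177776 = n84765 := d11_2 (iv7 F129845) D177776 (iv4 D84765)
def n177778 : Q := act 0 n84648
theorem D177778 : act 0 n84648 = n177778 := rfl
theorem F277257 : act 4 n177778 = n161123 := d18_3 (iv1 F126225) D84648 D177778 (iv5 D161123) (iv4 F126394) (iv0 F135953) (iv4 D84790) F129984 F129982
theorem F277258 : act 2 n84750 = n177778 := d15_3 (iv0 D177778) (iv0 F261490) F261489
theorem F277259 : act 1 n84650 = n177778 := d15_0 (iv0 D177778) F129847 (iv2 F129850)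
def n177779 : Q := act 3 n84648
theorem D177779 : act 3 n84648 = n177779 := rfl
theorem F277261 : act 7 n177779 = n84769 := d8_2 (iv7 F129847) D177779 (iv3 D84769)
def n177780 : Q := act 5 n84648
theorem D177780 : act 5 n84648 = n177780 := rfl
theorem F277262 : act 2 n177780 = n84753 := d2_1 D177780 (iv5 D84753) (iv2 F129846)
theorem F277263 : act 7 n177780 = n84770 := d13_2 (iv7 F129847) D177780 (iv5 D84770)
def n177781 : Q := act 4 n84649
theorem D177781 : act 4 n84649 = n177781 := rfl
theorem F277264 : act 2 n177781 = n84765 := d1_1 D177781 (iv4 D84765) (iv2 F129848)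
def n177782 : Q := act 6 n84649
theorem D177782 : act 6 n84649 = n177782 := rfl
theorem F277266 : act 2 n177782 = n84766 := d3_1 D177782 (iv6 D84766) (iv2 F129848)
def n177783 : Q := act 3 n84650
theorem D177783 : act 3 n84650 = n177783 := rfl
theorem F277267 : act 6 n177783 = n124437 := d7_2 (iv6 F129851) D177783 (iv3 D124437)
def n177784 : Q := act 5 n84650
theorem D177784 : act 5 n84650 = n177784 := rfl
theorem F277269 : act 2 n177784 = n84770 := d2_1 D177784 (iv5 D84770) (iv2 F129850)
theorem F277270 : act 7 n177784 = n84753 := d13_2 (iv7 F129852) D177784 (iv5 D84753)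
def n177785 : Q := act 0 n84652
theorem D177785 : act 0 n84652 = n177785 := rfl
theorem F277271 : act 4 n177785 = n102782 := d18_3 D39099 D84652 D177785 F158038 F129925 F125789 (iv4 D39093) (iv0 D18563) D18565
theorem F277272 : act 2 n84775 = n177785 := d15_3 (iv0 D177785) F132713 (iv7 F132714)
theorem F277273 : act 1 n84655 = n177785 := d15_0 (iv0 D177785) F129856 (iv2 F129865)
theorem F277274 : act 7 n177785 = n84776 := d15_2 F132712 F277273 (iv2 F132710)
def n177786 : Q := act 3 n84652
theorem D177786 : act 3 n84652 = n177786 := rfl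
theorem F277275 : act 7 n177786 = n84787 := d8_2 (iv7 F129856) D177786 (iv3 D84787)
def n177787 : Q := act 5 n84652
theorem D177787 : act 5 n84652 = n177787 := rfl
theorem F277276 : act 2 n177787 = n84778 := d2_1 D177787 (iv5 D84778) (iv2 F129855)
theorem F277277 : act 7 n177787 = n84788 := d13_2 (iv7 F129856) D177787 (iv5 D84788)
def n177788 : Q := act 6 n84652
theorem D177788 : act 6 n84652 = n177788 := rfl
theorem F277278 : act 2 n177788 = n84779 := d3_1 D177788 (iv6 D84779) (iv2 F129855)
theorem F277279 : act 4 n177788 = n84654 := d10_1 D177788 (iv6 D84654) D84652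
def n177789 : Q := act 4 n84653
theorem D177789 : act 4 n84653 = n177789 := rfl
theorem F277280 : act 2 n177789 = n84781 := d1_1 D177789 (iv4 D84781) (iv2 F129857)
theorem F277281 : act 6 n177789 = n120643 := d10_2 (iv6 F129861) D177789 (iv4 D120643)
theorem F277282 : act 7 n177789 = n84790 := d11_2 (iv7 F129859) D177789 (iv4 D84790)
theorem F277283 : act 0 n177789 = n122451 := d17_0 F195902 (iv1 D84742) (iv5 D39148) (iv4 D18578) D18579 D39152 F117437 (iv0 F129860) D177789
theorem F277284 : act 1 n177789 = n122382 := d18_6 F123464 D86511 (iv1 F132713) (iv4 D84652) D84653 D177789 F195800 (iv0 D80356) D80358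
def n177790 : Q := act 5 n84655
theorem D177790 : act 5 n84655 = n177790 := rfl
theorem F277285 : act 2 n177790 = n84788 := d2_1 D177790 (iv5 D84788) (iv2 F129865)
theorem F277286 : act 7 n177790 = n84778 := d13_2 (iv7 F129866) D177790 (iv5 D84778)
def n177792 : Q := act 5 n84656
theorem D177792 : act 5 n84656 = n177792 := rfl
theorem F277289 : act 2 n177792 = n84793 := d2_1 D177792 (iv5 D84793) (iv2 F129870)
theorem F277290 : act 7 n177792 = n84796 := d13_2 F129868 D177792 (iv5 D84796)
def n177793 : Q := act 6 n84656
theorem D177793 : act 6 n84656 = n177793 := rfl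
theorem F277291 : act 2 n177793 = n84794 := d3_1 D177793 (iv6 D84794) (iv2 F129870)
def n177794 : Q := act 3 n84657
theorem D177794 : act 3 n84657 = n177794 := rfl
theorem F277293 : act 7 n177794 = n84791 := d8_2 (iv7 F129872) D177794 (iv3 D84791)
def n177795 : Q := act 5 n84657
theorem D177795 : act 5 n84657 = n177795 := rfl
theorem F277294 : act 2 n177795 = n84796 := d2_1 D177795 (iv5 D84796) F129873
theorem F277295 : act 7 n177795 = n84793 := d13_2 (iv7 F129872) D177795 (iv5 D84793)
def n177796 : Q := act 0 n84658
theorem D177796 : act 0 n84658 = n177796 := rfl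
def n177797 : Q := act 1 n84658
theorem D177797 : act 1 n84658 = n177797 := rfl
def n177798 : Q := act 2 n84658
theorem D177798 : act 2 n84658 = n177798 := rfl
theorem F277296 : act 3 n177798 = n84800 := d0_2 D84658 D177798 (iv2 D84800) (iv3 D39187) (iv2 F60105)
theorem F277297 : act 6 n177798 = n157861 := d3_2 (iv6 F129874) D177798 (iv2 D157861)
def n177799 : Q := act 5 n84658
theorem D177799 : act 5 n84658 = n177799 := rfl
theorem F277298 : act 3 n177799 = n84659 := d6_1 D177799 (iv5 D84659) D84658
def n177800 : Q := act 7 n84658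
theorem D177800 : act 7 n84658 = n177800 := rfl
theorem F277299 : act 3 n177800 = n84660 := d8_1 D177800 (iv7 D84660) D84658
def n177801 : Q := act 0 n84659
theorem D177801 : act 0 n84659 = n177801 := rfl
theorem F277300 : act 5 n177801 = n121502 := d17_3 (iv1 D84657) D84659 D177801 (iv4 D121502) (iv5 D56101) (iv0 F118122) (iv5 F74944) D102781 (iv4 F158035)
theorem F277301 : act 7 n84804 = n177801 := d13_0 F277300 F256154 F256152
theorem F277302 : act 1 n84807 = n177801 := d17_6 (iv1 F126225) (iv5 D39094) (iv1 F29806) (iv5 F29824) (iv4 F60165) (iv5 F130012) F277300 F268400 F268397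
theorem F277303 : act 2 n177801 = n84803 := d15_3 (iv0 D84803) D84804 F277301
def n177802 : Q := act 1 n84659
theorem D177802 : act 1 n84659 = n177802 := rfl
theorem F277304 : act 1 n177802 = n84807 := d15_1 D177802 (iv7 D84807) (iv2 F129875)
theorem F277305 : act 7 n177802 = n84803 := d15_2 (iv0 D177801) D177802 (iv2 F277303)
theorem F277306 : act 5 n177802 = n124446 := d17_7 F117557 (iv5 D39097) (iv1 D18564) D18565 D39101 D84659 D177802 (iv0 F256145) (iv4 D124625)
theorem F277307 : act 2 n84804 = n177802 := d2_3 F277306 (iv2 F256150) F256152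
def n177803 : Q := act 4 n84659
theorem D177803 : act 4 n84659 = n177803 := rfl
theorem F277308 : act 2 n177803 = n84805 := d1_1 D177803 (iv4 D84805) (iv2 F129875)
theorem F277309 : act 5 n177803 = n84726 := d9_2 D84659 D177803 F129947 F60134 F29819 (iv5 F29824) (iv4 F60165) (iv5 F130012) (iv4 F277241) (iv5 D177771) (iv4 D84644) (iv5 D39089) F29801 D18565 D39101
theorem F277310 : act 7 n84725 = n177803 := d13_0 F277309 (iv7 D84726) D84725
def n177804 : Q := act 6 n84659
theorem D177804 : act 6 n84659 = n177804 := rfl
theorem F277311 : act 2 n177804 = n84806 := d3_1 D177804 (iv6 D84806) (iv2 F129875)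
theorem F277312 : act 5 n177804 = n157863 := d12_1 D177804 (iv6 D157863) (iv5 D75205) (iv6 F60106) D84659
def n177805 : Q := act 7 n84659
theorem D177805 : act 7 n84659 = n177805 := rfl
theorem F277313 : act 2 n177805 = n84807 := d4_1 D177805 (iv7 D84807) (iv2 F129875)
theorem F277314 : act 4 n177805 = n84725 := d11_1 D177805 F277310 (iv4 D177803)
theorem F277315 : act 5 n177805 = n84660 := d13_1 D177805 (iv7 D84660) D84659
theorem F277316 : act 1 n84804 = n177805 := d15_1 D84804 (iv7 D177805) F129875
theorem F277317 : act 1 n177805 = n84803 := d15_1 F277316 (iv7 F277305) (iv2 F277307)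
def n177806 : Q := act 6 n84661
theorem D177806 : act 6 n84661 = n177806 := rfl
theorem F277318 : act 2 n177806 = n98875 := d3_1 D177806 (iv6 D98875) (iv2 F129880)
theorem F277319 : act 4 n177806 = n84662 := d10_1 D177806 (iv6 D84662) D84661
def n177807 : Q := act 0 n84662
theorem D177807 : act 0 n84662 = n177807 := rfl
def n177808 : Q := act 1 n84662
theorem D177808 : act 1 n84662 = n177808 := rfl
theorem F277320 : act 1 n177808 = n98879 := d15_1 D177808 (iv7 D98879) (iv2 F129885)
def n177809 : Q := act 5 n84662
theorem D177809 : act 5 n84662 = n177809 := rfl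
theorem F277321 : act 2 n177809 = n98878 := d2_1 D177809 (iv5 D98878) (iv2 F129885)
theorem F277322 : act 3 n177809 = n104118 := d6_1 D177809 (iv5 D104118) (iv3 F129886)
theorem F277323 : act 6 n177809 = n90523 := d12_2 D84662 D177809 (iv5 D90523) (iv6 D42366) (iv5 F60112)
def n177810 : Q := act 7 n84662
theorem D177810 : act 7 n84662 = n177810 := rfl
theorem F277324 : act 2 n177810 = n98879 := d4_1 D177810 (iv7 D98879) (iv2 F129885)
theorem F277326 : act 6 n177810 = n98885 := d14_1 D177810 (iv7 D98885) (iv6 D46277) F60115 D84662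
theorem F277327 : act 1 n98879 = n177807 := d15_0 (iv0 D177807) D177810 F277324
theorem F277328 : act 1 n98877 = n177810 := d15_1 D98877 (iv7 D177810) F129885
theorem F277329 : act 1 n177810 = n98876 := d15_0 (iv0 D98876) D98879 (iv2 F277324)
def n177811 : Q := act 6 n84663
theorem D177811 : act 6 n84663 = n177811 := rfl
theorem F277331 : act 3 n177811 = n84665 := d7_1 D177811 (iv6 D84665) D84663
theorem F277332 : act 4 n177811 = n174375 := d10_1 D177811 (iv6 D174375) (iv4 F129890)
def n177812 : Q := act 6 n84664
theorem D177812 : act 6 n84664 = n177812 := rfl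
theorem F277335 : act 4 n177812 = n84665 := d10_1 D177812 (iv6 D84665) D84664
def n177813 : Q := act 0 n84665
theorem D177813 : act 0 n84665 = n177813 := rfl
def n177814 : Q := act 1 n84665
theorem D177814 : act 1 n84665 = n177814 := rfl
theorem F277336 : act 1 n177814 = n98885 := d15_1 D177814 (iv7 D98885) (iv2 F129899)
def n177815 : Q := act 5 n84665
theorem D177815 : act 5 n84665 = n177815 := rfl
theorem F277338 : act 6 n177815 = n99286 := d12_2 D84665 D177815 (iv5 D99286) (iv6 D46425) F60120
def n177816 : Q := act 7 n84665
theorem D177816 : act 7 n84665 = n177816 := rfl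
theorem F277340 : act 6 n177816 = n98879 := d14_1 D177816 (iv7 D98879) (iv6 D46275) (iv7 F60118) D84665
def n177817 : Q := act 2 n84666
theorem D177817 : act 2 n84666 = n177817 := rfl
theorem F277344 : act 7 n84667 = n177817 := d15_2 (iv0 D84666) D84667 (iv2 D177817)
def n177818 : Q := act 4 n84666
theorem D177818 : act 4 n84666 = n177818 := rfl
def n177819 : Q := act 5 n84666
theorem D177819 : act 5 n84666 = n177819 := rfl
def n177820 : Q := act 6 n84666
theorem D177820 : act 6 n84666 = n177820 := rfl
theorem F277345 : act 5 n177820 = n100432 := d21_6 F35068 (iv1 F31346) (iv5 F29810) D39105 D84666 D177820 (iv1 D100432) (iv5 D46869) (iv6 D22513) D22510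
def n177821 : Q := act 7 n84666
theorem D177821 : act 7 n84666 = n177821 := rfl
theorem F277346 : act 2 n177821 = n84667 := d4_1 D177821 F277344 (iv2 D177817)
def n177822 : Q := act 3 n84667
theorem D177822 : act 3 n84667 = n177822 := rfl
theorem F277347 : act 4 n177822 = n174377 := d20_6 (iv4 F155416) (iv1 F113415) F59418 (iv3 F72943) (iv1 F129901) D177822 (iv1 D174377) F128476 F64257 D41639
theorem F277348 : act 0 n177822 = n173627 := d20_1 (iv4 F277347) (iv4 D173627) D173626 F275552 (iv3 D83652) (iv4 F94871) (iv1 F131867) (iv4 F60598) D85072 (iv1 F273222)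
def n177823 : Q := act 4 n84667
theorem D177823 : act 4 n84667 = n177823 := rfl
theorem F277349 : act 3 n177823 = n123096 := d20_3 F152449 (iv1 F129901) D177823 (iv1 D123096) F90367 F44444 D27773 D58312 (iv3 F197497) (iv1 F197499)
def n177824 : Q := act 5 n84667
theorem D177824 : act 5 n84667 = n177824 := rfl
def n177825 : Q := act 6 n84667
theorem D177825 : act 6 n84667 = n177825 := rfl
def n177826 : Q := act 0 n84668
theorem D177826 : act 0 n84668 = n177826 := rfl
theorem F277350 : act 1 n98902 = n177826 := d15_0 (iv0 D177826) (iv7 F201004) F201002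
def n177827 : Q := act 1 n84668
theorem D177827 : act 1 n84668 = n177827 := rfl
theorem F277351 : act 1 n177827 = n98902 := d15_1 D177827 (iv7 D98902) (iv2 F129902)
def n177828 : Q := act 4 n84668
theorem D177828 : act 4 n84668 = n177828 := rfl
theorem F277352 : act 2 n177828 = n98901 := d1_1 D177828 (iv4 D98901) (iv2 F129902)
theorem F277353 : act 6 n177828 = n98872 := d10_2 (iv6 F129904) D177828 (iv4 D98872)
def n177831 : Q := act 0 n84670
theorem D177831 : act 0 n84670 = n177831 := rfl
theorem F277354 : act 5 n177831 = n171117 := d17_1 D177831 F268852 F250582 (iv4 D125129) (iv5 F117534) (iv0 F192234) F192233 (iv0 D84669) D84670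
theorem F277355 : act 4 n177831 = n122339 := d18_1 D177831 (iv1 F195642) D125102 F200983 (iv4 D82017) D82016 D171123 F268859 F250575
theorem F277356 : act 1 n85843 = n177831 := d15_0 (iv0 D177831) (iv7 F201008) F201007
theorem F277357 : act 2 n170720 = n177831 := d1_3 F277355 F195792 D170720
theorem F277358 : act 7 n170723 = n177831 := d11_0 F277355 F195790 D170723
def n177832 : Q := act 1 n84670
theorem D177832 : act 1 n84670 = n177832 := rfl
theorem F277359 : act 1 n177832 = n85843 := d15_1 D177832 (iv7 F198882) F198880
theorem F277360 : act 7 n177832 = n170720 := d15_2 (iv0 D177831) D177832 F277357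
theorem F277361 : act 5 n177832 = n171110 := d17_7 (iv1 F192225) (iv5 D120623) (iv1 F87866) D76081 D159142 F250575 D177832 F268844 (iv4 D159149)
theorem F277362 : act 4 n177832 = n122340 := d18_7 F61130 (iv4 D40195) F91155 (iv4 F29811) D39108 D84670 D177832 F195644 (iv5 D58483)
theorem F277363 : act 2 n170723 = n177832 := d1_3 F277362 (iv2 F195787) D170723
def n177833 : Q := act 3 n84670
theorem D177833 : act 3 n84670 = n177833 := rfl
def n177837 : Q := act 0 n84673
theorem D177837 : act 0 n84673 = n177837 := rfl
def n177838 : Q := act 1 n84673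
theorem D177838 : act 1 n84673 = n177838 := rfl
theorem F277364 : act 4 n177838 = n122304 := d18_7 (iv1 F89552) F125913 (iv1 D35399) (iv4 F29813) D39112 D84673 D177838 F195530 F125900
theorem F277365 : act 2 n170791 = n177838 := d1_3 F277364 (iv2 F195684) D170791
theorem F277366 : act 7 n170788 = n177838 := d11_0 F277364 (iv7 F195686) D170788
theorem F277367 : act 2 n170788 = n177837 := d15_3 (iv0 D177837) D177838 (iv7 F277366)
theorem F277368 : act 4 n177837 = n122303 := d1_2 D170788 F277367 F195687
def n177841 : Q := act 7 n84673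
theorem D177841 : act 7 n84673 = n177841 := rfl
theorem F277372 : act 4 n177841 = n84674 := d11_1 D177841 (iv7 D84674) D84673
theorem F277373 : act 1 n170791 = n177841 := d15_1 (iv0 F268380) (iv7 D177841) (iv2 F198870)
theorem F277374 : act 1 n177841 = n170788 := d15_1 F277373 F277366 (iv2 F277365)
theorem E24728 : n170787 = n101481 := ((c20_5 F184768 (iv1 D101534) (iv4 D47234) (iv3 F74492) D101481 (iv3 D170787) D170788 (iv1 F277374) F277372 F129907 (iv1 F136724))).symm
theorem F277375 : act 3 n101481 = n81881 := (sb E24728 (iv3 D170787))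
def n177842 : Q := act 6 n84674
theorem D177842 : act 6 n84674 = n177842 := rfl
theorem F277377 : act 5 n177842 = n85844 := d12_1 D177842 (iv6 D85844) (iv5 D39708) (iv6 F91583) (iv5 F129908)
theorem F277378 : act 7 n177842 = n98460 := d14_2 D84674 D177842 (iv6 D98460) (iv7 D46048) (iv6 F60125)
def n177843 : Q := act 0 n84676
theorem D177843 : act 0 n84676 = n177843 := rfl
def n177844 : Q := act 4 n84676
theorem D177844 : act 4 n84676 = n177844 := rfl
theorem F277379 : act 2 n177844 = n99358 := d1_1 D177844 (iv4 D99358) (iv2 F129909)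
theorem F277380 : act 6 n177844 = n122396 := d10_2 (iv6 F129911) D177844 (iv4 D122396)
def n177845 : Q := act 7 n84676
theorem D177845 : act 7 n84676 = n177845 := rfl
theorem F277381 : act 2 n177845 = n99359 := d4_1 D177845 (iv7 D99359) (iv2 F129909)
theorem F277383 : act 5 n177845 = n84677 := d13_1 D177845 (iv7 D84677) D84676
theorem F277384 : act 1 n99359 = n177843 := d15_0 (iv0 D177843) D177845 F277381
theorem F277385 : act 1 n99357 = n177845 := d15_1 D99357 (iv7 D177845) F129909
theorem F277386 : act 7 n177843 = n99357 := d15_2 F153015 F277384 F153011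
theorem F277387 : act 2 n177843 = n99356 := d15_3 (iv0 D99356) D99357 (iv7 F277386)
theorem F277388 : act 7 n99356 = n98429 := d4_2 (iv7 F277386) F277387 (iv2 F153011)
theorem F277389 : act 5 n98430 = n99356 := d13_3 F277388 (iv5 D98429) D98430
theorem F277390 : act 1 n177845 = n99356 := d15_1 F277385 F277388 (iv2 F153011)
theorem F277391 : act 6 n98430 = n171182 := d21_3 D46460 D99356 (iv5 F277389) (iv1 D171182) (iv6 D82035) D82034 D171176 F268924 (iv6 D99355) (iv1 D46459)
theorem F277392 : act 7 n171182 = n98403 := d14_2 D98430 F277391 (iv6 D98403) F152049 D46039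
theorem F277393 : act 2 n98444 = n171182 := d4_3 F277392 F152058 D98444
theorem E24729 : n98442 = n82035 := (c15_1 D98442 D171182 F277392 F152058)
theorem E24730 : n171181 = n46044 := ((D171181).symm.trans (sb E24729 (iv1 D98442)))
theorem F277394 : act 1 n46044 = n82035 := (sb E24730 (iv0 D171181))
theorem F277395 : act 2 n171184 = n98441 := d15_3 (iv0 D98441) F277394 D171184
theorem F277396 : act 7 n98441 = n171162 := d4_2 D171184 F277395 F268915
theorem F277397 : act 6 n171199 = n98441 := d14_5 F277396 (iv6 D171162) (iv7 F126458) D82040 D171199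
theorem F277398 : act 1 n171182 = n98441 := d15_1 D171182 F277396 F268915
theorem F277399 : act 5 n100006 = n171199 := d21_2 D46708 (iv1 F153953) F277397 (iv1 F277398) (iv6 F277391) F277389 (iv1 F277390) F277383 F129914 (iv1 F73803)
theorem F277400 : act 7 n171198 = n100006 := d13_0 F277399 (iv7 D171199) D171198
theorem E24731 : n100010 = n99969 := (c21_11 (iv5 F153899) (iv1 F151850) (iv5 D46043) D46044 D98441 (iv6 F277397) (iv5 F277399) (iv1 D100006) (iv5 D46703) D46704 D100010)
theorem F277401 : act 1 n99969 = n46704 := (sb E24731 (iv0 D100010))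
theorem F277402 : act 2 n171198 = n100005 := d15_3 (iv0 D100005) D100006 (iv7 F277400)
theorem E24732 : n171185 = n170921 := ((c2_3 D171198 F277402 F268502 F268932)).symm
theorem F277403 : act 2 n170921 = n82040 := (sb E24732 F268932)
theorem E24733 : n82036 = n81930 := ((((iv6 D170921)).symm.trans (sb E24732 (iv6 D171185)))).symm
theorem E24734 : n171158 = n37515 := ((((iv1 D81930)).symm.trans (sb E24733 (iv1 F268909)))).symm
theorem E24736 : n170917 = n37594 := (((iv2 F268501)).symm.trans (sb E24733 F126459))
theorem E24737 : n171169 = n170918 := (((D170918).symm.trans (sb E24733 (iv3 F268918)))).symm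
theorem E24738 : n171175 = n170919 := (((D170919).symm.trans (sb E24733 (iv4 F268922)))).symm
theorem E24739 : n171180 = n170920 := (((D170920).symm.trans (sb E24733 (iv5 F268927)))).symm
theorem E24740 : n170912 = n37593 := ((F268499).symm.trans (sb E24733 (iv7 D82036)))
theorem E24741 : n82031 = n81929 := (((D81929).symm.trans (sb E24734 (iv1 D171158)))).symm
theorem F277404 : act 2 n37594 = n81930 := (sb E24736 F268501)
theorem F277405 : act 7 n170918 = n82032 := (sb E24737 (iv7 D171169))
theorem F277407 : act 7 n170919 = n82033 := (sb E24738 (iv7 D171175))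
theorem F277408 : act 2 n170920 = n82039 := (sb E24739 F268926)
theorem F277409 : act 7 n170920 = n82034 := (sb E24739 (iv7 D171180))
theorem F277410 : act 7 n37593 = n81930 := (sb E24740 (iv7 F268499))
theorem E24744 : n171161 = n170915 := (((D170915).symm.trans (sb E24741 D171161))).symm
theorem E24745 : n171162 = n170916 := (((D170916).symm.trans (sb E24741 D171162))).symm
theorem F277416 : act 2 n170915 = n82034 := (sb E24744 F268913)
theorem F277417 : act 7 n170915 = n82039 := (sb E24744 F268914)
theorem F277419 : act 7 n170916 = n98441 := (sb E24745 (iv7 F277396))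
theorem F277420 : act 7 n177747 = n84689 := d13_2 F277419 F277193 (iv5 F268500)
theorem F277421 : act 2 n84689 = n171183 := d15_3 (iv0 F268931) F277191 F277420
theorem F277422 : act 2 n177747 = n84688 := d15_3 (iv0 D84688) D84689 (iv7 F277420)
theorem F277423 : act 5 n84688 = n171184 := d2_2 F277193 F277422 F277395
theorem F277424 : act 7 n84688 = n171183 := d4_2 (iv7 F277420) F277422 (iv2 F277421)
theorem F277425 : act 0 n171199 = n88927 := d21_10 F153907 (iv1 D99981) (iv5 D46694) (iv6 D22394) (iv1 F29798) D39086 D84634 D177747 (iv5 F277193) (iv6 F277397)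
theorem F277426 : act 1 n170921 = n88927 := d15_0 (iv0 F277425) (iv7 D171199) (iv2 F277403)
def n177846 : Q := act 0 n84678
theorem D177846 : act 0 n84678 = n177846 := rfl
def n177849 : Q := act 4 n84678
theorem D177849 : act 4 n84678 = n177849 := rfl
theorem F277430 : act 2 n177849 = n84680 := d1_1 D177849 (iv4 D84680) D84678
theorem F277431 : act 7 n177849 = n84685 := d11_2 F129918 D177849 (iv4 D84685)
def n177850 : Q := act 5 n84678
theorem D177850 : act 5 n84678 = n177850 := rfl
theorem F277432 : act 2 n177850 = n84681 := d2_1 D177850 (iv5 D84681) D84678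
theorem F277433 : act 7 n177850 = n84686 := d13_2 F129918 D177850 (iv5 D84686)
def n177851 : Q := act 6 n84678
theorem D177851 : act 6 n84678 = n177851 := rfl
theorem F277434 : act 2 n177851 = n84682 := d3_1 D177851 (iv6 D84682) D84678
def n177852 : Q := act 0 n84679
theorem D177852 : act 0 n84679 = n177852 := rfl
def n177853 : Q := act 1 n84679
theorem D177853 : act 1 n84679 = n177853 := rfl
def n177854 : Q := act 2 n84679
theorem D177854 : act 2 n84679 = n177854 := rfl
def n177855 : Q := act 4 n84679
theorem D177855 : act 4 n84679 = n177855 := rfl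
def n177856 : Q := act 5 n84679
theorem D177856 : act 5 n84679 = n177856 := rfl
theorem F277435 : act 3 n177856 = n84681 := d6_1 D177856 (iv5 D84681) D84679
def n177857 : Q := act 6 n84679
theorem D177857 : act 6 n84679 = n177857 := rfl
theorem F277436 : act 3 n177857 = n84682 := d7_1 D177857 (iv6 D84682) D84679
def n177858 : Q := act 7 n84679
theorem D177858 : act 7 n84679 = n177858 := rfl
def n177859 : Q := act 0 n84680
theorem D177859 : act 0 n84680 = n177859 := rfl
def n177860 : Q := act 1 n84680
theorem D177860 : act 1 n84680 = n177860 := rfl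
def n177861 : Q := act 3 n84680
theorem D177861 : act 3 n84680 = n177861 := rfl
def n177862 : Q := act 5 n84680
theorem D177862 : act 5 n84680 = n177862 := rfl
def n177863 : Q := act 6 n84680
theorem D177863 : act 6 n84680 = n177863 := rfl
theorem F277439 : act 4 n177863 = n84682 := d10_1 D177863 (iv6 D84682) D84680
def n177864 : Q := act 7 n84680
theorem D177864 : act 7 n84680 = n177864 := rfl
theorem F277440 : act 2 n177864 = n84685 := d4_1 D177864 (iv7 F277431) F277430
def n177865 : Q := act 1 n84681
theorem D177865 : act 1 n84681 = n177865 := rfl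
theorem F277443 : act 1 n177865 = n84686 := d15_1 D177865 (iv7 F277433) F277432
def n177866 : Q := act 4 n84681
theorem D177866 : act 4 n84681 = n177866 := rfl
def n177867 : Q := act 6 n84681
theorem D177867 : act 6 n84681 = n177867 := rfl
def n177868 : Q := act 7 n84681
theorem D177868 : act 7 n84681 = n177868 := rfl
theorem F277444 : act 2 n177868 = n84686 := d4_1 D177868 (iv7 F277433) F277432
theorem F277445 : act 5 n177868 = n84683 := d13_1 D177868 (iv7 D84683) D84681
theorem F277446 : act 1 n84686 = n98443 := d15_0 (iv0 F151862) D177868 F277444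
def n177869 : Q := act 0 n84682
theorem D177869 : act 0 n84682 = n177869 := rfl
def n177870 : Q := act 1 n84682
theorem D177870 : act 1 n84682 = n177870 := rfl
theorem F277447 : act 6 n98448 = n177870 := d21_3 D21998 D46045 D98448 (iv1 D177870) (iv6 D84682) D84681 F151862 (iv5 D98443) (iv6 D46044) (iv1 D21997)
theorem F277448 : act 7 n177870 = n99979 := d14_2 (iv7 F154201) F277447 (iv6 D99979) F154176 D46704
theorem F277449 : act 2 n100026 = n177870 := d4_3 F277448 F154185 D100026
theorem E24746 : n100024 = n84682 := (c15_1 D100024 D177870 F277448 F154185)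
theorem E24747 : n177869 = n46709 := ((D177869).symm.trans (sb E24746 (iv1 D100024)))
theorem F277450 : act 1 n46709 = n84682 := (sb E24747 (iv0 D177869))
theorem F277451 : act 5 n171182 = n177865 := d21_0 (iv1 D177865) (iv5 D84681) D84682 (iv1 F277450) (iv6 D46709) D46708 (iv1 F153953) F277399 F277397 (iv1 F277398)
theorem F277452 : act 1 n177870 = n100023 := d15_0 (iv0 D100023) D100026 F277449
theorem F277453 : act 7 n100023 = n177851 := d15_2 D177870 F277452 F277434
def n177871 : Q := act 7 n84682
theorem D177871 : act 7 n84682 = n177871 := rfl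
theorem F277454 : act 2 n177871 = n100023 := d4_1 D177871 F277453 F277434
def n177872 : Q := act 6 n84683
theorem D177872 : act 6 n84683 = n177872 := rfl
theorem F277455 : act 2 n177872 = n84687 := d3_1 D177872 (iv6 D84687) (iv2 F129919)
def n177877 : Q := act 5 n84684
theorem D177877 : act 5 n84684 = n177877 := rfl
theorem F277456 : act 3 n177877 = n84686 := d6_1 D177877 (iv5 D84686) D84684
def n177881 : Q := act 6 n84685
theorem D177881 : act 6 n84685 = n177881 := rfl
theorem F277458 : act 4 n177881 = n84687 := d10_1 D177881 (iv6 D84687) D84685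
def n177882 : Q := act 4 n84686
theorem D177882 : act 4 n84686 = n177882 := rfl
def n177883 : Q := act 6 n84686
theorem D177883 : act 6 n84686 = n177883 := rfl
def n177884 : Q := act 0 n84687
theorem D177884 : act 0 n84687 = n177884 := rfl
theorem F277459 : act 5 n177884 = n88932 := d21_0 (iv1 F268907) F268901 F126454 (iv1 F72619) D46044 D98443 (iv1 F277446) (iv5 D84686) D84687 D177884
theorem F277460 : act 7 n99351 = n177884 := d13_0 F277459 F268906 (iv5 F268895)
def n177885 : Q := act 1 n84687
theorem D177885 : act 1 n84687 = n177885 := rfl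
def n177886 : Q := act 5 n84687
theorem D177886 : act 5 n84687 = n177886 := rfl
theorem F277461 : act 0 n98419 = n177886 := d21_1 D98419 (iv5 D177886) (iv6 D84687) (iv1 D39116) (iv6 D18571) (iv5 D8726) D8724 (iv5 F29199) D37592 (iv1 F126455)
theorem F277462 : act 1 n98437 = n177886 := d15_0 (iv0 F277461) F152067 (iv2 F152068)
theorem E24748 : n177885 = n100003 := (c17_9 (iv1 F277401) (iv5 F153899) (iv1 F151850) (iv5 D46043) D46042 D98437 F277462 (iv5 D177886) D177885 F153949)
theorem F277463 : act 0 n100003 = n84687 := (sb E24748 (iv1 D177885))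
def n177887 : Q := act 7 n84687
theorem D177887 : act 7 n84687 = n177887 := rfl
theorem F277464 : act 6 n177887 = n100023 := d14_1 D177887 F277453 (iv6 D177851) (iv7 F129918) D84687
theorem F277465 : act 0 n177887 = n99351 := d21_10 F268895 (iv1 D171154) (iv5 D82029) (iv6 D37592) (iv1 F29201) D21994 D46029 D98393 (iv5 F268503) (iv6 F277464)
theorem F277466 : act 1 n177872 = n99351 := d15_0 (iv0 F277465) (iv7 D177887) (iv2 F277455)
def n177888 : Q := act 3 n84688
theorem D177888 : act 3 n84688 = n177888 := rfl
def n177889 : Q := act 4 n84688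
theorem D177889 : act 4 n84688 = n177889 := rfl
def n177890 : Q := act 6 n84688
theorem D177890 : act 6 n84688 = n177890 := rfl
def n177891 : Q := act 3 n84689
theorem D177891 : act 3 n84689 = n177891 := rfl
def n177892 : Q := act 4 n84689
theorem D177892 : act 4 n84689 = n177892 := rfl
def n177893 : Q := act 6 n84689
theorem D177893 : act 6 n84689 = n177893 := rfl
def n177894 : Q := act 0 n84690
theorem D177894 : act 0 n84690 = n177894 := rfl
def n177895 : Q := act 1 n84690
theorem D177895 : act 1 n84690 = n177895 := rfl
def n177896 : Q := act 3 n84690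
theorem D177896 : act 3 n84690 = n177896 := rfl
theorem F277467 : act 6 n177896 = n84724 := d7_2 (iv6 F129920) D177896 (iv3 D84724)
def n177897 : Q := act 5 n84690
theorem D177897 : act 5 n84690 = n177897 := rfl
def n177898 : Q := act 7 n84690
theorem D177898 : act 7 n84690 = n177898 := rfl
theorem F277468 : act 4 n177898 = n84691 := d11_1 D177898 (iv7 D84691) D84690
def n177899 : Q := act 6 n84691
theorem D177899 : act 6 n84691 = n177899 := rfl
theorem F277469 : act 7 n177899 = n84727 := d14_2 D84691 D177899 (iv6 D84727) (iv7 D39132) (iv6 F60130)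
def n177905 : Q := act 3 n84693
theorem D177905 : act 3 n84693 = n177905 := rfl
theorem F277472 : act 4 n174425 = n177905 := d20_2 (iv4 F130286) (iv1 F273301) (iv3 D177905) (iv1 D84693) (iv3 D39120) D39121 D84697 F129925 (iv3 F154831) F154834
def n177908 : Q := act 6 n84693
theorem D177908 : act 6 n84693 = n177908 := rfl
def n177909 : Q := act 5 n84694
theorem D177909 : act 5 n84694 = n177909 := rfl
theorem F277475 : act 2 n177909 = n84695 := d2_1 D177909 (iv5 D84695) D84694
def n177910 : Q := act 6 n84694
theorem D177910 : act 6 n84694 = n177910 := rfl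
theorem F277476 : act 2 n177910 = n84696 := d3_1 D177910 (iv6 D84696) D84694
def n177911 : Q := act 0 n84695
theorem D177911 : act 0 n84695 = n177911 := rfl
def n177912 : Q := act 1 n84695
theorem D177912 : act 1 n84695 = n177912 := rfl
def n177913 : Q := act 4 n84695
theorem D177913 : act 4 n84695 = n177913 := rfl
def n177914 : Q := act 6 n84695
theorem D177914 : act 6 n84695 = n177914 := rfl
theorem F277477 : act 3 n177914 = n84703 := d7_1 D177914 (iv6 D84703) (iv3 F129922)
def n177917 : Q := act 4 n84698
theorem D177917 : act 4 n84698 = n177917 := rfl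
theorem F277479 : act 7 n177917 = n124446 := d11_2 (iv7 F256143) D177917 (iv4 F256139)
theorem F277480 : act 5 n177917 = n84803 := d17_5 F123464 (iv5 D40092) (iv1 F118418) D84698 D177917 (iv0 D84803) (iv5 D39188) D39186 (iv4 F123466)
theorem F277481 : act 0 n177917 = n84747 := d18_2 F194671 D177917 (iv4 D84747) F89687 (iv4 F153924) (iv0 F153926) (iv4 F123434) (iv0 F194670) F194667
theorem F277482 : act 1 n177917 = n84749 := d18_6 (iv1 D8729) (iv4 F13632) D18572 D39121 D84698 D177917 (iv4 D84749) F60151 (iv5 D18584)
def n177918 : Q := act 6 n84698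
theorem D177918 : act 6 n84698 = n177918 := rfl
theorem F277484 : act 0 n177918 = n171553 := d21_4 (iv5 D40092) (iv1 F118418) D84698 D177918 F269361 (iv5 F263600) (iv1 D167447) (iv5 F254129) F254130 F123464
theorem F277485 : act 1 n177918 = n166102 := d15_1 (iv0 F277484) F261516 (iv2 F269359)
def n177919 : Q := act 3 n84700
theorem D177919 : act 3 n84700 = n177919 := rfl
def n177920 : Q := act 4 n84700
theorem D177920 : act 4 n84700 = n177920 := rfl
theorem F277486 : act 0 n177920 = n84765 := d18_2 D84700 D177920 (iv4 D84765) (iv5 D39167) (iv4 D18583) F29807 (iv4 F60097) F60099 D39122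
theorem F277487 : act 1 n177920 = n84743 := d18_6 (iv1 D122451) F89746 (iv1 F117614) (iv4 F153924) (iv5 F153925) D177920 (iv4 D84743) D84742 (iv5 F195902)
def n177921 : Q := act 6 n84700
theorem D177921 : act 6 n84700 = n177921 := rfl
def n177922 : Q := act 4 n84701
theorem D177922 : act 4 n84701 = n177922 := rfl
theorem F277488 : act 0 n177922 = n84743 := d18_2 (iv1 F129934) D177922 (iv4 D84743) (iv5 D39148) (iv4 D18578) (iv0 D8728) (iv4 F13632) D18573 D39127
theorem F277489 : act 1 n177922 = n84765 := d18_6 (iv1 F277284) (iv4 D177789) F129860 (iv4 F192274) F192277 D177922 (iv4 D84765) F129955 (iv5 F195801)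
def n177923 : Q := act 6 n84701
theorem D177923 : act 6 n84701 = n177923 := rfl
def n177924 : Q := act 0 n84702
theorem D177924 : act 0 n84702 = n177924 := rfl
theorem F277490 : act 4 n177924 = n171036 := d18_3 (iv1 D84701) D84702 D177924 (iv5 D171036) F126394 F194674 F123434 (iv0 F192276) F192277
theorem F277491 : act 1 n84712 = n177924 := d15_0 (iv0 D177924) (iv7 F277219) F277218
def n177925 : Q := act 1 n84702
theorem D177925 : act 1 n84702 = n177925 := rfl
theorem F277492 : act 1 n177925 = n84712 := d15_1 D177925 (iv7 F277209) F277208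
theorem F277493 : act 4 n177925 = n177775 := d18_7 F118547 F60986 (iv1 F118418) (iv4 D39121) D39122 D84702 D177925 F277251 (iv5 D84649)
def n177926 : Q := act 3 n84702
theorem D177926 : act 3 n84702 = n177926 := rfl
def n177927 : Q := act 5 n84702
theorem D177927 : act 5 n84702 = n177927 := rfl
theorem F277494 : act 4 n177927 = n84804 := d16_2 D84702 D177927 (iv5 F256152) F256151 (iv5 F118757) (iv4 D39126) D39127 (iv7 F129817) F129816
def n177928 : Q := act 6 n84702
theorem D177928 : act 6 n84702 = n177928 := rfl
theorem F277495 : act 4 n177928 = n84703 := d10_1 D177928 (iv6 D84703) D84702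
def n177929 : Q := act 0 n84703
theorem D177929 : act 0 n84703 = n177929 := rfl
def n177930 : Q := act 1 n84703
theorem D177930 : act 1 n84703 = n177930 := rfl
def n177931 : Q := act 7 n84703
theorem D177931 : act 7 n84703 = n177931 := rfl
def n177938 : Q := act 3 n84707
theorem D177938 : act 3 n84707 = n177938 := rfl
def n177939 : Q := act 4 n84707
theorem D177939 : act 4 n84707 = n177939 := rfl
theorem F277500 : act 0 n177939 = n119666 := d20_1 D177939 (iv4 F234412) (iv3 D149059) (iv1 F191122) (iv3 F199504) F199505 (iv1 F197801) F197800 (iv3 F277196) (iv1 F277201)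
theorem E24749 : n177938 = n149111 := ((c20_5 F92145 D58285 F191109 D69977 D149111 (iv3 D177938) D177939 F277500 (iv4 F234412) (iv3 D149059) (iv1 F191122))).symm
theorem F277501 : act 3 n149111 = n84707 := (sb E24749 (iv3 D177938))
theorem F277503 : act 3 n121467 = n177939 := d20_5 F29514 D18314 (iv4 F118410) D56079 D121467 (iv4 D177939) (iv1 D84707) (iv4 F128427) (iv3 D83326) (iv1 D38384)
def n177943 : Q := act 6 n84708
theorem D177943 : act 6 n84708 = n177943 := rfl
theorem F277505 : act 2 n177943 = n84710 := d3_1 D177943 (iv6 D84710) D84708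
def n177947 : Q := act 6 n84709
theorem D177947 : act 6 n84709 = n177947 := rfl
theorem F277506 : act 3 n177947 = n84713 := d7_1 D177947 (iv6 D84713) (iv3 F129939)
def n177950 : Q := act 3 n84712
theorem D177950 : act 3 n84712 = n177950 := rfl
def n177951 : Q := act 5 n84712
theorem D177951 : act 5 n84712 = n177951 := rfl
theorem F277507 : act 4 n177951 = n84803 := d9_1 D177951 (iv5 F277480) (iv4 D177917) (iv5 D84698) (iv4 D39121) D39122 D84702 D177927 F277494 (iv5 F256152) F256151 (iv5 F118757) (iv4 D39126) D39127 D84712
def n177952 : Q := act 6 n84712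
theorem D177952 : act 6 n84712 = n177952 := rfl
theorem F277508 : act 4 n177952 = n84713 := d10_1 D177952 (iv6 D84713) D84712
def n177953 : Q := act 0 n84713
theorem D177953 : act 0 n84713 = n177953 := rfl
def n177954 : Q := act 1 n84713
theorem D177954 : act 1 n84713 = n177954 := rfl
def n177955 : Q := act 7 n84713
theorem D177955 : act 7 n84713 = n177955 := rfl
def n177956 : Q := act 0 n84715
theorem D177956 : act 0 n84715 = n177956 := rfl
def n177957 : Q := act 1 n84715
theorem D177957 : act 1 n84715 = n177957 := rfl
def n177958 : Q := act 2 n84715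
theorem D177958 : act 2 n84715 = n177958 := rfl
def n177959 : Q := act 4 n84715
theorem D177959 : act 4 n84715 = n177959 := rfl
def n177960 : Q := act 5 n84715
theorem D177960 : act 5 n84715 = n177960 := rfl
theorem F277509 : act 3 n177960 = n84717 := d6_1 D177960 (iv5 D84717) D84715
theorem F277510 : act 7 n177960 = n122415 := d13_2 F277227 D177960 (iv5 F277226)
def n177961 : Q := act 6 n84715
theorem D177961 : act 6 n84715 = n177961 := rfl
theorem F277511 : act 3 n177961 = n84718 := d7_1 D177961 (iv6 D84718) D84715
def n177962 : Q := act 0 n84716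
theorem D177962 : act 0 n84716 = n177962 := rfl
theorem F277512 : act 4 n177962 = n170705 := d18_3 D39129 D84716 D177962 F268220 (iv4 F129925) (iv0 D84697) (iv4 D39121) (iv0 D18572) D18574
theorem F277513 : act 1 n84720 = n177962 := d15_0 (iv0 D177962) (iv7 F277229) F277228
theorem F277514 : act 7 n170704 = n177962 := d11_0 F277512 (iv7 D170705) D170704
def n177963 : Q := act 1 n84716
theorem D177963 : act 1 n84716 = n177963 := rfl
theorem F277515 : act 1 n177963 = n84720 := d15_1 D177963 (iv7 F277223) F277222
theorem F277516 : act 4 n177963 = n86510 := d18_7 F195802 F195800 (iv1 F263561) F263557 (iv5 D84717) D84716 D177963 (iv0 F195904) (iv5 D122452)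
theorem F277517 : act 2 n170704 = n177963 := d1_3 F277516 F132708 D170704
def n177964 : Q := act 3 n84716
theorem D177964 : act 3 n84716 = n177964 := rfl
def n177965 : Q := act 5 n84716
theorem D177965 : act 5 n84716 = n177965 := rfl
theorem F277518 : act 4 n177965 = n84796 := d16_2 D84716 D177965 (iv5 D84796) (iv4 F123466) (iv5 D80358) (iv4 F123441) F123442 (iv7 F129839) F129840
def n177966 : Q := act 6 n84716
theorem D177966 : act 6 n84716 = n177966 := rfl
theorem F277519 : act 4 n177966 = n84718 := d10_1 D177966 (iv6 D84718) D84716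
def n177967 : Q := act 6 n84717
theorem D177967 : act 6 n84717 = n177967 := rfl
theorem F277520 : act 2 n177967 = n120635 := d3_1 D177967 (iv6 F263593) F263590
theorem F277521 : act 4 n177967 = n98174 := d10_1 D177967 (iv6 F263559) F263557
theorem F277522 : act 7 n177967 = n98170 := d14_2 (iv7 F129945) D177967 (iv6 D98170) F118999 D56729
theorem F277524 : act 5 n177967 = n86045 := d21_6 D124376 F198912 (iv5 D76169) D76170 (iv1 F129946) D177967 (iv1 F195546) (iv5 D122308) D122309 (iv1 F198809)
theorem F277525 : act 0 n120637 = n177967 := d21_4 D57981 (iv1 F198901) (iv5 F198903) (iv6 F192264) (iv6 D177967) (iv5 D84717) (iv1 F129842) F129836 (iv6 F91696) (iv1 F91697)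
def n177968 : Q := act 0 n84718
theorem D177968 : act 0 n84718 = n177968 := rfl
def n177969 : Q := act 1 n84718
theorem D177969 : act 1 n84718 = n177969 := rfl
def n177970 : Q := act 5 n84718
theorem D177970 : act 5 n84718 = n177970 := rfl
theorem F277526 : act 6 n177970 = n86045 := d12_2 D84718 D177970 (iv5 F277524) (iv6 D177967) (iv5 D84717)
theorem F277527 : act 0 n177970 = n98440 := d21_4 F192265 F277525 F277524 (iv6 F277526) (iv6 D98440) (iv5 D46043) (iv1 D21997) D21998 (iv6 F60125) D84671
def n177971 : Q := act 7 n84718
theorem D177971 : act 7 n84718 = n177971 := rfl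
def n177972 : Q := act 0 n84719
theorem D177972 : act 0 n84719 = n177972 := rfl
def n177973 : Q := act 1 n84719
theorem D177973 : act 1 n84719 = n177973 := rfl
def n177974 : Q := act 2 n84719
theorem D177974 : act 2 n84719 = n177974 := rfl
def n177975 : Q := act 4 n84719
theorem D177975 : act 4 n84719 = n177975 := rfl
def n177976 : Q := act 6 n84719
theorem D177976 : act 6 n84719 = n177976 := rfl
theorem F277528 : act 3 n177976 = n84721 := d7_1 D177976 (iv6 D84721) D84719
def n177977 : Q := act 3 n84720
theorem D177977 : act 3 n84720 = n177977 := rfl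
def n177978 : Q := act 5 n84720
theorem D177978 : act 5 n84720 = n177978 := rfl
theorem F277529 : act 4 n177978 = n84793 := d9_1 D177978 (iv5 D84793) D84792 (iv5 F263558) F263557 (iv5 D84717) D84716 D177965 F277518 (iv5 D84796) (iv4 F123466) (iv5 D80358) (iv4 F123441) F123442 D84720
def n177979 : Q := act 6 n84720
theorem D177979 : act 6 n84720 = n177979 := rfl
theorem F277530 : act 4 n177979 = n84721 := d10_1 D177979 (iv6 D84721) D84720
def n177980 : Q := act 0 n84721
theorem D177980 : act 0 n84721 = n177980 := rfl
def n177981 : Q := act 1 n84721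
theorem D177981 : act 1 n84721 = n177981 := rfl
def n177982 : Q := act 7 n84721
theorem D177982 : act 7 n84721 = n177982 := rfl
def n177983 : Q := act 3 n84722
theorem D177983 : act 3 n84722 = n177983 := rfl
def n177984 : Q := act 5 n84722
theorem D177984 : act 5 n84722 = n177984 := rfl
theorem F277531 : act 4 n177984 = n84788 := d16_4 D84781 (iv5 F268211) (iv4 F268214) D177984 (iv5 D84788) (iv4 D39182) D39183 (iv7 F129859) F129857
def n177985 : Q := act 6 n84722
theorem D177985 : act 6 n84722 = n177985 := rfl
def n177986 : Q := act 3 n84723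
theorem D177986 : act 3 n84723 = n177986 := rfl
def n177987 : Q := act 5 n84723
theorem D177987 : act 5 n84723 = n177987 := rfl
theorem F277532 : act 4 n177987 = n84778 := d9_1 D177987 (iv5 D84778) (iv4 D39177) D39178 D84781 (iv5 F268211) (iv4 F268214) D177984 F277531 (iv5 D84788) (iv4 D39182) D39183 D84790 F268216 (iv4 F268218)
def n177988 : Q := act 6 n84723
theorem D177988 : act 6 n84723 = n177988 := rfl
def n177989 : Q := act 0 n84724
theorem D177989 : act 0 n84724 = n177989 := rfl
def n177990 : Q := act 1 n84724
theorem D177990 : act 1 n84724 = n177990 := rfl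
def n177991 : Q := act 2 n84724
theorem D177991 : act 2 n84724 = n177991 := rfl
def n177992 : Q := act 5 n84724
theorem D177992 : act 5 n84724 = n177992 := rfl
theorem F277533 : act 3 n177992 = n84725 := d6_1 D177992 (iv5 D84725) D84724
def n177993 : Q := act 7 n84724
theorem D177993 : act 7 n84724 = n177993 := rfl
theorem F277534 : act 3 n177993 = n84726 := d8_1 D177993 (iv7 D84726) D84724
def n177994 : Q := act 0 n84725
theorem D177994 : act 0 n84725 = n177994 := rfl
theorem F277535 : act 5 n177994 = n84743 := d17_3 (iv1 D84723) D84725 D177994 (iv4 D84743) (iv5 D39148) (iv0 F118131) D81835 D170703 (iv4 F268218)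
theorem F277536 : act 4 n177994 = n84770 := d18_3 (iv1 F277317) F277314 D177994 (iv5 D84770) (iv4 D39169) F60154 D84747 (iv0 F277481) F277480
theorem F277537 : act 1 n84805 = n177994 := d15_0 (iv0 D177994) F277310 F277308
def n177995 : Q := act 1 n84725
theorem D177995 : act 1 n84725 = n177995 := rfl
theorem F277538 : act 1 n177995 = n84805 := d15_1 D177995 F277242 F277240
theorem F277539 : act 5 n177995 = n84765 := d17_7 (iv1 F129933) (iv5 D39127) (iv1 D18573) D18574 D39131 D84725 D177995 (iv0 F277486) (iv4 D177920)
theorem F277540 : act 4 n84753 = n177995 := d9_15 F277539 (iv4 D84765) (iv5 D39167) (iv4 D18583) D18584 D39169 D84770 (iv4 F277536) F277535 (iv4 D84743) (iv5 D39148) (iv4 D18578) D18579 D39153 D84753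
def n177996 : Q := act 6 n84725
theorem D177996 : act 6 n84725 = n177996 := rfl
def n177997 : Q := act 6 n84726
theorem D177997 : act 6 n84726 = n177997 := rfl
theorem F277541 : act 4 n177997 = n84727 := d10_1 D177997 (iv6 D84727) (iv4 F129947)
def n177998 : Q := act 0 n84727
theorem D177998 : act 0 n84727 = n177998 := rfl
def n177999 : Q := act 1 n84727
theorem D177999 : act 1 n84727 = n177999 := rfl
def n178001 : Q := act 6 n84730
theorem D178001 : act 6 n84730 = n178001 := rfl
theorem F277543 : act 4 n178001 = n84731 := d10_1 D178001 (iv6 D84731) D84730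
def n178002 : Q := act 1 n84731
theorem D178002 : act 1 n84731 = n178002 := rfl
theorem F277549 : act 1 n178002 = n173841 := d15_1 D178002 F272454 F197710
theorem F277551 : act 5 n178002 = n122104 := d17_7 (iv1 F126592) D168671 F265652 (iv5 D168602) (iv4 F196707) F196708 D178002 (iv0 D122104) F89363
theorem F277552 : act 3 n177406 = n178002 := d20_3 (iv4 F119596) D163027 (iv4 F276812) (iv1 D178002) F129951 (iv4 F129961) F268788 F268787 F254722 (iv1 D78395)
theorem F277554 : act 4 n178002 = n165563 := d20_6 F276829 (iv1 D177415) F129688 (iv3 F129687) D177406 F277552 (iv1 D165563) F122099 (iv3 F122077) F150344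
def n178003 : Q := act 0 n84734
theorem D178003 : act 0 n84734 = n178003 := rfl
theorem F277557 : act 1 n165282 = n178003 := d15_0 (iv0 D178003) F132707 (iv2 F260533)
def n178004 : Q := act 1 n84734
theorem D178004 : act 1 n84734 = n178004 := rfl
def n178005 : Q := act 2 n84734
theorem D178005 : act 2 n84734 = n178005 := rfl
theorem F277559 : act 7 n178005 = n165282 := d4_2 (iv7 F132707) D178005 F260533
theorem F277560 : act 1 n178004 = n165282 := d15_1 D178004 (iv7 F277559) (iv2 D178005)
def n178006 : Q := act 5 n84734
theorem D178006 : act 5 n84734 = n178006 := rfl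
def n178007 : Q := act 4 n84735
theorem D178007 : act 4 n84735 = n178007 := rfl
theorem F277562 : act 2 n178007 = n177962 := d1_1 D178007 F277512 F268219
theorem F277563 : act 7 n178007 = n177963 := d11_2 F132709 D178007 F277516
theorem F277564 : act 1 n178007 = n177763 := d18_6 D39087 F60092 (iv1 F118393) F118086 D84735 D178007 (iv4 D177763) (iv0 D84642) (iv5 D39089)
theorem F277565 : act 1 n177766 = n178007 := d15_0 F277564 F277223 (iv2 F277228)
def n178009 : Q := act 2 n84736
theorem D178009 : act 2 n84736 = n178009 := rfl
theorem F277566 : act 7 n84737 = n178009 := d15_2 (iv0 D84736) D84737 (iv2 D178009)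
def n178013 : Q := act 7 n84736
theorem D178013 : act 7 n84736 = n178013 := rfl
theorem F277568 : act 2 n178013 = n84737 := d4_1 D178013 F277566 (iv2 D178009)
def n178015 : Q := act 4 n84737
theorem D178015 : act 4 n84737 = n178015 := rfl
theorem F277569 : act 3 n178015 = n164940 := d20_3 D165418 (iv1 F260630) D178015 (iv1 F260064) (iv3 F259991) (iv4 F271694) (iv1 F271697) D174536 (iv3 F273411) (iv1 F259905)
theorem F277570 : act 0 n149128 = n178015 := d20_10 (iv4 D178015) (iv1 D84737) (iv4 F120498) (iv3 D79225) (iv1 F56805) (iv3 F53020) F53021 (iv1 F53002) D73409 (iv3 F234507)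
theorem F277571 : act 1 n154892 = n178015 := d15_0 (iv0 F277570) F234508 D154892
def n178028 : Q := act 4 n84741
theorem D178028 : act 4 n84741 = n178028 := rfl
theorem F277576 : act 2 n178028 = n177924 := d1_1 D178028 F277490 F268753
theorem F277577 : act 7 n178028 = n177925 := d11_2 F277252 D178028 F277493
theorem F277578 : act 0 n178028 = n177760 := d18_2 D84741 D178028 (iv4 D177760) (iv5 D84640) D84639 F129823 F118086 (iv0 D39145) D39148
theorem F277579 : act 1 n178028 = n177755 := d18_6 (iv1 D167444) F123441 D80356 (iv4 F195800) F195801 D178028 (iv4 D177755) D177754 F277206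
def n178031 : Q := act 4 n84742
theorem D178031 : act 4 n84742 = n178031 := rfl
theorem F277580 : act 2 n178031 = n177925 := d1_1 D178031 F277493 (iv2 F277253)
theorem F277581 : act 7 n178031 = n177924 := d11_2 F268754 D178031 F277490
theorem F277582 : act 0 n178031 = n177755 := d18_2 (iv1 F129956) D178031 (iv4 D177755) (iv5 D84637) F60092 (iv0 F118122) F60982 F118132 D39167
theorem F277583 : act 1 n178031 = n177760 := d18_6 (iv1 F129946) (iv4 F263557) (iv1 F263560) F195903 F195902 D178031 (iv4 D177760) (iv0 F250720) (iv5 D159225)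
def n178032 : Q := act 6 n84742
theorem D178032 : act 6 n84742 = n178032 := rfl
def n178041 : Q := act 5 n84747
theorem D178041 : act 5 n84747 = n178041 := rfl
theorem F277587 : act 0 n178041 = n177792 := d17_2 F277481 D178041 (iv5 D177792) F129867 (iv5 F123468) F194676 D161123 (iv0 F254717) D177917
theorem F277588 : act 1 n178041 = n177795 := d17_6 (iv1 F60103) (iv5 F60104) (iv1 F117614) (iv5 F89687) D84747 D178041 (iv5 D177795) F129871 F60165
def n178043 : Q := act 3 n84749
theorem D178043 : act 3 n84749 = n178043 := rfl
theorem F277591 : act 6 n178043 = n86084 := d7_2 (iv6 F129958) D178043 (iv3 D86084)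
theorem F277592 : act 7 n178043 = n166155 := d8_2 F199315 D178043 F261634
def n178044 : Q := act 5 n84749
theorem D178044 : act 5 n84749 = n178044 := rfl
theorem F277593 : act 0 n178044 = n177795 := d17_2 F256155 D178044 (iv5 D177795) F158035 (iv5 F158033) (iv0 F194670) F194667 F194672 (iv4 F256151)
theorem F277594 : act 1 n178044 = n177792 := d17_6 D39099 D84653 F129860 (iv5 F117437) D84749 D178044 (iv5 D177792) (iv0 D84656) (iv4 D39101)
def n178046 : Q := act 5 n84750
theorem D178046 : act 5 n84750 = n178046 := rfl
theorem F277595 : act 0 n178046 = n177787 := d17_2 D84750 D178046 (iv5 D177787) (iv4 D84652) D84653 (iv0 F129862) (iv5 F89687) (iv0 D39151) D39153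
def n178049 : Q := act 5 n84751
theorem D178049 : act 5 n84751 = n178049 := rfl
theorem F277598 : act 1 n178049 = n177787 := d17_6 (iv1 F130005) (iv5 F263558) (iv1 F263560) F199317 F199321 D178049 (iv5 D177787) F132713 (iv4 D86511)
def n178055 : Q := act 0 n84753
theorem D178055 : act 0 n84753 = n178055 := rfl
theorem F277601 : act 5 n178055 = n84775 := d17_1 D178055 (iv1 F129976) D84788 (iv4 F277531) (iv5 D177984) (iv0 D84722) D84725 D177995 (iv4 F277540)
theorem F277602 : act 1 n84770 = n178055 := d15_0 (iv0 D178055) (iv7 F277270) F277269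
def n178056 : Q := act 1 n84753
theorem D178056 : act 1 n84753 = n178056 := rfl
theorem F277603 : act 1 n178056 = n84770 := d15_1 D178056 (iv7 F277263) F277262
theorem F277604 : act 5 n178056 = n84776 := d17_7 (iv1 D18587) (iv5 D8730) D8728 D18579 D39153 D84753 D178056 F129977 (iv4 D39182)
def n178058 : Q := act 1 n84754
theorem D178058 : act 1 n84754 = n178058 := rfl
theorem F277606 : act 4 n171497 = n178058 := d20_6 F267174 (iv1 F260819) F192830 (iv3 F135971) F152363 (iv3 F269255) (iv1 D178058) F129961 (iv3 F129951) F267176
def n178066 : Q := act 3 n84759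
theorem D178066 : act 3 n84759 = n178066 := rfl
theorem F277611 : act 4 n178066 = n84769 := d5_2 D84759 D178066 (iv3 D84769) (iv4 D39169) (iv3 F60156)
theorem F277612 : act 6 n178066 = n173837 := d7_2 (iv6 F129963) D178066 (iv3 D173837)
def n178069 : Q := act 5 n84762
theorem D178069 : act 5 n84762 = n178069 := rfl
theorem F277614 : act 2 n178069 = n84763 := d2_1 D178069 (iv5 D84763) D84762
def n178071 : Q := act 0 n84763
theorem D178071 : act 0 n84763 = n178071 := rfl
def n178072 : Q := act 1 n84763
theorem D178072 : act 1 n84763 = n178072 := rfl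
def n178073 : Q := act 4 n84763
theorem D178073 : act 4 n84763 = n178073 := rfl
def n178074 : Q := act 6 n84763
theorem D178074 : act 6 n84763 = n178074 := rfl
theorem F277616 : act 3 n178074 = n84766 := d7_1 D178074 (iv6 D84766) (iv3 F129964)
def n178076 : Q := act 1 n84764
theorem D178076 : act 1 n84764 = n178076 := rfl
def n178077 : Q := act 5 n84764
theorem D178077 : act 5 n84764 = n178077 := rfl
theorem F277617 : act 3 n178077 = n84768 := d6_1 D178077 (iv5 D84768) (iv3 F129965)
def n178078 : Q := act 3 n84765
theorem D178078 : act 3 n84765 = n178078 := rfl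
def n178079 : Q := act 6 n84765
theorem D178079 : act 6 n84765 = n178079 := rfl
theorem F277618 : act 4 n178079 = n84766 := d10_1 D178079 (iv6 D84766) D84765
def n178080 : Q := act 0 n84766
theorem D178080 : act 0 n84766 = n178080 := rfl
def n178081 : Q := act 1 n84766
theorem D178081 : act 1 n84766 = n178081 := rfl
def n178082 : Q := act 5 n84766
theorem D178082 : act 5 n84766 = n178082 := rfl
theorem F277619 : act 6 n178082 = n84768 := d12_2 D84766 D178082 (iv5 D84768) (iv6 D39168) D39167
def n178083 : Q := act 7 n84766
theorem D178083 : act 7 n84766 = n178083 := rfl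
def n178084 : Q := act 0 n84769
theorem D178084 : act 0 n84769 = n178084 := rfl
def n178085 : Q := act 1 n84769
theorem D178085 : act 1 n84769 = n178085 := rfl
def n178086 : Q := act 2 n84769
theorem D178086 : act 2 n84769 = n178086 := rfl
def n178087 : Q := act 5 n84769
theorem D178087 : act 5 n84769 = n178087 := rfl
theorem F277620 : act 3 n178087 = n84770 := d6_1 D178087 (iv5 D84770) D84769
def n178088 : Q := act 6 n84769
theorem D178088 : act 6 n84769 = n178088 := rfl
theorem F277621 : act 3 n178088 = n84771 := d7_1 D178088 (iv6 D84771) D84769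
theorem F277622 : act 4 n178088 = n173837 := d10_1 D178088 (iv6 F277612) F277611
theorem F277623 : act 7 n124441 = n178088 := d8_0 F277621 (iv7 F129971) D124441
def n178089 : Q := act 6 n84770
theorem D178089 : act 6 n84770 = n178089 := rfl
def n178090 : Q := act 5 n84771
theorem D178090 : act 5 n84771 = n178090 := rfl
theorem F277624 : act 2 n178090 = n124438 := d2_1 D178090 (iv5 D124438) (iv2 F129969)
theorem F277625 : act 7 n178090 = n124442 := d13_2 F129971 D178090 (iv5 D124442)
def n178092 : Q := act 3 n84775
theorem D178092 : act 3 n84775 = n178092 := rfl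
def n178093 : Q := act 6 n84775
theorem D178093 : act 6 n84775 = n178093 := rfl
theorem F277630 : act 7 n178093 = n157870 := d14_2 (iv7 F132714) D178093 (iv6 D157870) (iv7 F116027) (iv6 F132711)
theorem F277631 : act 1 n86173 = n178093 := d15_1 (iv0 F256263) F277630 (iv2 F256261)
theorem F277632 : act 1 n178093 = n86171 := d15_1 F277631 (iv7 F268433) F268431
def n178094 : Q := act 3 n84776
theorem D178094 : act 3 n84776 = n178094 := rfl
theorem F277633 : act 4 n178094 = n102786 := d5_2 F129978 D178094 F158042 F74946 (iv3 F74943)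
theorem F277634 : act 6 n178094 = n102780 := d7_2 (iv6 F129979) D178094 (iv3 D102780)
def n178095 : Q := act 0 n84777
theorem D178095 : act 0 n84777 = n178095 := rfl
def n178096 : Q := act 1 n84777
theorem D178096 : act 1 n84777 = n178096 := rfl
def n178097 : Q := act 2 n84777
theorem D178097 : act 2 n84777 = n178097 := rfl
def n178098 : Q := act 5 n84777
theorem D178098 : act 5 n84777 = n178098 := rfl
theorem F277635 : act 3 n178098 = n84778 := d6_1 D178098 (iv5 D84778) D84777
def n178099 : Q := act 6 n84777
theorem D178099 : act 6 n84777 = n178099 := rfl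
theorem F277636 : act 3 n178099 = n84779 := d7_1 D178099 (iv6 D84779) D84777
def n178100 : Q := act 0 n84778
theorem D178100 : act 0 n84778 = n178100 := rfl
theorem F277637 : act 5 n178100 = n166081 := d17_3 (iv1 D84776) D84778 D178100 (iv4 D166081) (iv5 F194667) F194673 F123468 (iv0 F128467) F129978
theorem F277638 : act 1 n84788 = n178100 := d15_0 (iv0 D178100) (iv7 F277286) F277285
theorem F277639 : act 2 n178049 = n178100 := d2_3 F277637 F261487 D178049
theorem F277640 : act 7 n178046 = n178100 := d13_0 F277637 F261489 D178046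
def n178101 : Q := act 1 n84778
theorem D178101 : act 1 n84778 = n178101 := rfl
theorem F277641 : act 1 n178101 = n84788 := d15_1 D178101 (iv7 F277277) F277276
theorem F277642 : act 7 n178101 = n178049 := d15_2 (iv0 D178100) D178101 F277639
theorem F277643 : act 5 n178101 = n177778 := d17_7 (iv1 F117559) F92007 (iv1 F117599) (iv5 D39178) D39177 D84778 D178101 (iv0 D177778) (iv4 D84648)
theorem F277644 : act 2 n178046 = n178101 := d2_3 F277643 (iv2 F277258) D178046
def n178102 : Q := act 6 n84778
theorem D178102 : act 6 n84778 = n178102 := rfl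
def n178103 : Q := act 0 n84779
theorem D178103 : act 0 n84779 = n178103 := rfl
def n178104 : Q := act 1 n84779
theorem D178104 : act 1 n84779 = n178104 := rfl
def n178105 : Q := act 5 n84779
theorem D178105 : act 5 n84779 = n178105 := rfl
theorem F277645 : act 0 n178105 = n170863 := d21_7 D37510 D81917 F126260 (iv6 F129979) (iv1 D84776) D84779 D178105 (iv5 D170863) (iv6 D81912) (iv1 D37508)
def n178106 : Q := act 7 n84779
theorem D178106 : act 7 n84779 = n178106 := rfl
theorem F277646 : act 4 n178106 = n84784 := d11_1 D178106 (iv7 D84784) (iv4 F129981)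
def n178107 : Q := act 0 n84781
theorem D178107 : act 0 n84781 = n178107 := rfl
theorem F277651 : act 1 n84790 = n178107 := d15_0 (iv0 D178107) F129988 (iv2 F130002)
theorem F277653 : act 6 n159167 = n178107 := d21_3 D37460 D81843 (iv5 F250611) (iv1 F277651) F130003 D122353 (iv1 F268242) (iv5 D170718) (iv6 D81842) (iv1 D37459)
def n178108 : Q := act 3 n84781
theorem D178108 : act 3 n84781 = n178108 := rfl
def n178109 : Q := act 6 n84781
theorem D178109 : act 6 n84781 = n178109 := rfl
theorem F277658 : act 0 n178109 = n122357 := d21_4 D81835 D170702 F268211 D178109 (iv6 D122357) D122356 F195680 (iv5 D84768) (iv6 D39168) (iv1 F118132)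
def n178111 : Q := act 3 n84785
theorem D178111 : act 3 n84785 = n178111 := rfl
theorem F277661 : act 4 n178111 = n84787 := d5_2 D84785 D178111 (iv3 D84787) (iv4 D39182) D39181
def n178114 : Q := act 0 n84787
theorem D178114 : act 0 n84787 = n178114 := rfl
def n178115 : Q := act 1 n84787
theorem D178115 : act 1 n84787 = n178115 := rfl
def n178116 : Q := act 2 n84787
theorem D178116 : act 2 n84787 = n178116 := rfl
def n178117 : Q := act 5 n84787
theorem D178117 : act 5 n84787 = n178117 := rfl
theorem F277669 : act 3 n178117 = n84788 := d6_1 D178117 (iv5 D84788) D84787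
def n178118 : Q := act 6 n84787
theorem D178118 : act 6 n84787 = n178118 := rfl
theorem F277670 : act 3 n178118 = n84789 := d7_1 D178118 (iv6 D84789) D84787
def n178119 : Q := act 6 n84788
theorem D178119 : act 6 n84788 = n178119 := rfl
def n178120 : Q := act 0 n84789
theorem D178120 : act 0 n84789 = n178120 := rfl
theorem F277671 : act 4 n178120 = n98155 := d18_3 F91795 (iv4 F130001) D178120 (iv5 D98155) (iv4 F117589) (iv0 D56700) F44099 D27254 D56711
def n178121 : Q := act 5 n84789
theorem D178121 : act 5 n84789 = n178121 := rfl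
theorem F277675 : act 0 n178121 = n171065 := d17_2 F264010 D178121 (iv5 D171065) F151405 (iv5 F195503) (iv0 F263553) (iv5 F263998) (iv0 D167711) D167712
theorem F277676 : act 1 n178121 = n171062 := d17_6 D37556 D81989 F126403 (iv5 F91794) (iv4 F130001) D178121 (iv5 D171062) (iv0 D81991) (iv4 D37558)
def n178122 : Q := act 3 n84790
theorem D178122 : act 3 n84790 = n178122 := rfl
theorem F277677 : act 4 n178122 = n172191 := d5_2 D84790 D178122 F270359 F127041 (iv3 F118658)
theorem F277678 : act 6 n178122 = n122352 := d7_2 (iv6 F130003) D178122 (iv3 D122352)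
def n178123 : Q := act 0 n84791
theorem D178123 : act 0 n84791 = n178123 := rfl
def n178124 : Q := act 1 n84791
theorem D178124 : act 1 n84791 = n178124 := rfl
def n178125 : Q := act 2 n84791
theorem D178125 : act 2 n84791 = n178125 := rfl
def n178126 : Q := act 5 n84791
theorem D178126 : act 5 n84791 = n178126 := rfl
theorem F277679 : act 3 n178126 = n84793 := d6_1 D178126 (iv5 D84793) D84791
def n178127 : Q := act 6 n84791
theorem D178127 : act 6 n84791 = n178127 := rfl
theorem F277680 : act 3 n178127 = n84794 := d7_1 D178127 (iv6 D84794) D84791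
def n178128 : Q := act 6 n84792
theorem D178128 : act 6 n84792 = n178128 := rfl
theorem F277682 : act 4 n178128 = n84794 := d10_1 D178128 (iv6 D84794) D84792
theorem F277683 : act 0 n178128 = n162170 := d21_4 F193854 (iv1 F263561) F263558 D178128 (iv6 D162170) D162169 F269227 F269224 (iv6 D121503) D121500
theorem F277684 : act 5 n178128 = n162164 := d21_6 (iv5 D17609) F28060 D35270 (iv6 F60988) (iv1 F130005) D178128 (iv1 D162164) (iv5 F122908) (iv6 D80088) (iv1 D36475)
theorem F277686 : act 0 n125286 = n84794 := d18_2 F199027 (iv4 F201493) (iv4 F277682) F277684 F268423 F268420 F130013 (iv0 F91788) D124434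
def n178129 : Q := act 0 n84793
theorem D178129 : act 0 n84793 = n178129 := rfl
theorem F277687 : act 5 n178129 = n170810 := d17_3 D39185 D84793 D178129 F268397 (iv5 F129982) (iv0 D84780) (iv5 D39178) (iv0 D18586) D18588
theorem F277688 : act 1 n84796 = n178129 := d15_0 (iv0 D178129) (iv7 F277295) F277294
theorem F277689 : act 2 n178044 = n178129 := d2_3 F277687 F268396 D178044
theorem F277690 : act 7 n178041 = n178129 := d13_0 F277687 (iv7 F268398) D178041
def n178130 : Q := act 1 n84793
theorem D178130 : act 1 n84793 = n178130 := rfl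
theorem F277691 : act 1 n178130 = n84796 := d15_1 D178130 (iv7 F277290) F277289
theorem F277692 : act 7 n178130 = n178044 := d15_2 (iv0 D178129) D178130 F277689
theorem F277693 : act 5 n178130 = n124625 := d17_7 D121500 F193854 (iv1 F263561) F263558 (iv4 D84792) D84793 D178130 (iv0 F199316) (iv4 D121502)
theorem F277694 : act 2 n178041 = n178130 := d2_3 F277693 F199314 D178041
def n178131 : Q := act 6 n84793
theorem D178131 : act 6 n84793 = n178131 := rfl
def n178132 : Q := act 0 n84794
theorem D178132 : act 0 n84794 = n178132 := rfl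
def n178133 : Q := act 5 n84794
theorem D178133 : act 5 n84794 = n178133 := rfl
theorem F277695 : act 0 n178133 = n170842 := d17_2 F277686 D178133 (iv5 D170842) F126246 F58387 D81899 (iv5 F126235) (iv0 F126236) (iv4 F201493)
def n178138 : Q := act 5 n84795
theorem D178138 : act 5 n84795 = n178138 := rfl
theorem F277697 : act 3 n178138 = n84796 := d6_1 D178138 (iv5 D84796) D84795
def n178139 : Q := act 6 n84795
theorem D178139 : act 6 n84795 = n178139 := rfl
theorem F277698 : act 3 n178139 = n84797 := d7_1 D178139 (iv6 D84797) D84795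
def n178140 : Q := act 6 n84796
theorem D178140 : act 6 n84796 = n178140 := rfl
def n178141 : Q := act 5 n84797
theorem D178141 : act 5 n84797 = n178141 := rfl
theorem F277699 : act 0 n178141 = n159247 := d17_2 (iv1 F254133) D178141 (iv5 D159247) (iv4 D76189) F55005 (iv0 F124344) (iv5 F91794) (iv0 F91795) D122387
theorem F277700 : act 1 n178141 = n171058 := d17_6 D98156 (iv5 F263600) (iv1 D167447) (iv5 F254129) (iv4 F254134) D178141 (iv5 D171058) F132338 F132336
def n178142 : Q := act 0 n84798
theorem D178142 : act 0 n84798 = n178142 := rfl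
theorem F277701 : act 2 n84802 = n178142 := d15_3 (iv0 D178142) (iv0 D84798) D84802
theorem F277702 : act 4 n178142 = n84853 := d1_2 (iv4 F130010) F277701 (iv2 F130065)
theorem F277703 : act 7 n178142 = n84800 := d4_2 D84802 F277701 (iv2 D84800)
theorem F277704 : act 1 n84799 = n178142 := d15_1 D84799 F277703 (iv2 D84800)
def n178143 : Q := act 2 n84798
theorem D178143 : act 2 n84798 = n178143 := rfl
theorem F277705 : act 7 n84799 = n178143 := d15_2 (iv0 D84798) D84799 (iv2 D178143)
def n178144 : Q := act 3 n84798
theorem D178144 : act 3 n84798 = n178144 := rfl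
def n178145 : Q := act 4 n84798
theorem D178145 : act 4 n84798 = n178145 := rfl
def n178146 : Q := act 5 n84798
theorem D178146 : act 5 n84798 = n178146 := rfl
def n178147 : Q := act 6 n84798
theorem D178147 : act 6 n84798 = n178147 := rfl
def n178148 : Q := act 7 n84798
theorem D178148 : act 7 n84798 = n178148 := rfl
theorem F277706 : act 2 n178148 = n84799 := d4_1 D178148 F277705 (iv2 D178143)
def n178149 : Q := act 3 n84799
theorem D178149 : act 3 n84799 = n178149 := rfl
def n178150 : Q := act 5 n84799
theorem D178150 : act 5 n84799 = n178150 := rfl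
def n178151 : Q := act 6 n84799
theorem D178151 : act 6 n84799 = n178151 := rfl
def n178152 : Q := act 1 n84800
theorem D178152 : act 1 n84800 = n178152 := rfl
theorem F277707 : act 1 n178152 = n84802 := d15_1 D178152 (iv7 D84802) D84800
def n178153 : Q := act 5 n84800
theorem D178153 : act 5 n84800 = n178153 := rfl
theorem F277708 : act 2 n178153 = n84801 := d2_1 D178153 (iv5 D84801) D84800
def n178154 : Q := act 0 n84801
theorem D178154 : act 0 n84801 = n178154 := rfl
def n178155 : Q := act 1 n84801
theorem D178155 : act 1 n84801 = n178155 := rfl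
def n178156 : Q := act 4 n84801
theorem D178156 : act 4 n84801 = n178156 := rfl
def n178157 : Q := act 6 n84801
theorem D178157 : act 6 n84801 = n178157 := rfl
theorem F277709 : act 3 n178157 = n84806 := d7_1 D178157 (iv6 D84806) (iv3 F130008)
theorem F277710 : act 5 n178157 = n157930 := d12_1 D178157 (iv6 D157930) (iv5 D75232) (iv6 F60164) D84801
def n178158 : Q := act 7 n84801
theorem D178158 : act 7 n84801 = n178158 := rfl
theorem F277711 : act 3 n178158 = n84807 := d8_1 D178158 (iv7 D84807) (iv3 F130008)
theorem F277712 : act 5 n178158 = n84802 := d13_1 D178158 (iv7 D84802) D84801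
def n178159 : Q := act 6 n84802
theorem D178159 : act 6 n84802 = n178159 := rfl
theorem F277713 : act 3 n178159 = n84808 := d7_1 D178159 (iv6 D84808) (iv3 F130009)
theorem F277714 : act 4 n178159 = n84872 := d10_1 D178159 (iv6 D84872) (iv4 F130010)
theorem F277715 : act 7 n178159 = n86164 := d14_2 D84802 D178159 (iv6 D86164) F60685 (iv6 F60164)
def n178160 : Q := act 3 n84803
theorem D178160 : act 3 n84803 = n178160 := rfl
def n178161 : Q := act 6 n84803
theorem D178161 : act 6 n84803 = n178161 := rfl
def n178162 : Q := act 3 n84804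
theorem D178162 : act 3 n84804 = n178162 := rfl
def n178163 : Q := act 6 n84804
theorem D178163 : act 6 n84804 = n178163 := rfl
def n178164 : Q := act 3 n84805
theorem D178164 : act 3 n84805 = n178164 := rfl
def n178165 : Q := act 6 n84805
theorem D178165 : act 6 n84805 = n178165 := rfl
theorem F277716 : act 4 n178165 = n84806 := d10_1 D178165 (iv6 D84806) D84805
def n178166 : Q := act 0 n84806
theorem D178166 : act 0 n84806 = n178166 := rfl
def n178167 : Q := act 1 n84806
theorem D178167 : act 1 n84806 = n178167 := rfl
def n178168 : Q := act 7 n84806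
theorem D178168 : act 7 n84806 = n178168 := rfl
theorem F277717 : act 5 n178168 = n157939 := d13_1 D178168 (iv7 D157939) (iv5 F130011)
def n178169 : Q := act 6 n84807
theorem D178169 : act 6 n84807 = n178169 := rfl
def n178170 : Q := act 5 n84808
theorem D178170 : act 5 n84808 = n178170 := rfl
theorem F277718 : act 7 n178170 = n86169 := d13_2 (iv7 F130014) D178170 (iv5 D86169)
def n178171 : Q := act 3 n84809
theorem D178171 : act 3 n84809 = n178171 := rfl
theorem F277720 : act 7 n178171 = n166162 := d8_2 F199267 D178171 F261642
def n178172 : Q := act 5 n84809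
theorem D178172 : act 5 n84809 = n178172 := rfl
theorem F277721 : act 0 n178172 = n124610 := d17_2 F130015 D178172 (iv5 D124610) F122175 (iv5 F151614) F151619 (iv5 F122075) (iv0 D79482) D79484
theorem F277722 : act 1 n178172 = n124613 := d17_6 (iv1 F91923) (iv5 F58205) F116861 (iv5 F60178) D84809 D178172 (iv5 D124613) F199186 F199185
def n178173 : Q := act 0 n84810
theorem D178173 : act 0 n84810 = n178173 := rfl
theorem F277723 : act 1 n166161 = n178173 := d15_0 (iv0 D178173) F130016 D166161
def n178174 : Q := act 1 n84810
theorem D178174 : act 1 n84810 = n178174 := rfl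
def n178175 : Q := act 2 n84810
theorem D178175 : act 2 n84810 = n178175 := rfl
theorem F277724 : act 3 n178175 = n166154 := d0_2 D84810 D178175 (iv2 D166154) (iv3 D79781) (iv2 F60179)
theorem F277725 : act 7 n178175 = n166161 := d4_2 (iv7 F130016) D178175 (iv2 D166161)
theorem F277726 : act 1 n178175 = n166159 := d15_0 (iv0 D166159) (iv7 F130016) D178175
theorem F277727 : act 1 n178174 = n166161 := d15_1 D178174 (iv7 F277725) (iv2 D178175)
theorem F277728 : act 1 n166160 = n178175 := d15_1 D166160 F277725 (iv2 D166161)
def n178176 : Q := act 0 n84811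
theorem D178176 : act 0 n84811 = n178176 := rfl
theorem F277729 : act 1 n166154 = n178176 := d15_0 (iv0 D178176) F130018 D166154
def n178177 : Q := act 1 n84811
theorem D178177 : act 1 n84811 = n178177 := rfl
def n178178 : Q := act 2 n84811
theorem D178178 : act 2 n84811 = n178178 := rfl
theorem F277730 : act 3 n178178 = n166161 := d0_2 D84811 D178178 (iv2 D166161) (iv3 D79784) (iv2 F60184)
theorem F277731 : act 6 n178178 = n86088 := d3_2 (iv6 F130017) D178178 (iv2 D86088)
theorem F277732 : act 7 n178178 = n166154 := d4_2 (iv7 F130018) D178178 (iv2 D166154)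
theorem F277733 : act 1 n178178 = n166152 := d15_0 (iv0 D166152) (iv7 F130018) D178178
theorem F277734 : act 1 n178177 = n166154 := d15_1 D178177 (iv7 F277732) (iv2 D178178)
theorem F277735 : act 1 n166153 = n178178 := d15_1 D166153 F277732 (iv2 D166154)
def n178179 : Q := act 2 n84812
theorem D178179 : act 2 n84812 = n178179 := rfl
theorem F277736 : act 7 n84813 = n178179 := d15_2 (iv0 D84812) D84813 (iv2 D178179)
def n178180 : Q := act 3 n84812
theorem D178180 : act 3 n84812 = n178180 := rfl
def n178181 : Q := act 4 n84812
theorem D178181 : act 4 n84812 = n178181 := rfl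
def n178182 : Q := act 5 n84812
theorem D178182 : act 5 n84812 = n178182 := rfl
def n178183 : Q := act 6 n84812
theorem D178183 : act 6 n84812 = n178183 := rfl
def n178184 : Q := act 7 n84812
theorem D178184 : act 7 n84812 = n178184 := rfl
theorem F277737 : act 2 n178184 = n84813 := d4_1 D178184 F277736 (iv2 D178179)
def n178185 : Q := act 3 n84813
theorem D178185 : act 3 n84813 = n178185 := rfl
def n178186 : Q := act 4 n84813
theorem D178186 : act 4 n84813 = n178186 := rfl
def n178187 : Q := act 5 n84813
theorem D178187 : act 5 n84813 = n178187 := rfl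
def n178188 : Q := act 6 n84813
theorem D178188 : act 6 n84813 = n178188 := rfl
def n178189 : Q := act 6 n84814
theorem D178189 : act 6 n84814 = n178189 := rfl
theorem F277738 : act 2 n178189 = n84815 := d3_1 D178189 (iv6 D84815) D84814
def n178196 : Q := act 3 n84818
theorem D178196 : act 3 n84818 = n178196 := rfl
theorem F277751 : act 5 n178196 = n160324 := d6_2 F191600 D178196 F253230
def n178198 : Q := act 6 n84818
theorem D178198 : act 6 n84818 = n178198 := rfl
theorem F277754 : act 5 n178198 = n160326 := d12_1 D178198 (iv6 D160326) (iv5 D76839) D76840 F191600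
def n178200 : Q := act 1 n84819
theorem D178200 : act 1 n84819 = n178200 := rfl
theorem F277755 : act 4 n178200 = n160371 := d18_7 (iv1 F90305) F44409 F120602 D18610 D39236 D84819 D178200 F253318 (iv5 D123027)
def n178209 : Q := act 0 n84823
theorem D178209 : act 0 n84823 = n178209 := rfl
theorem F277759 : act 4 n178209 = n120278 := d18_3 D39238 D84823 D178209 (iv5 D120278) (iv4 F120846) (iv0 D57239) F44321 F120601 D18611
theorem F277761 : act 7 n121528 = n178209 := d11_0 F277759 F191517 D121528
def n178210 : Q := act 1 n84823
theorem D178210 : act 1 n84823 = n178210 := rfl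
theorem F277762 : act 1 n178210 = n84824 := d15_1 D178210 (iv7 F197858) F197856
theorem F277764 : act 4 n120280 = n178210 := d18_5 (iv1 F44327) (iv4 F44409) (iv1 F90300) F120849 D120280 F277762 (iv4 D84824) (iv0 F120628) (iv5 D57246)
theorem F277765 : act 6 n178210 = n123013 := d10_2 F191521 F277764 F197111
def n178211 : Q := act 3 n84823
theorem D178211 : act 3 n84823 = n178211 := rfl
theorem F277766 : act 4 n178211 = n166088 := d5_2 D84823 D178211 (iv3 D166088) (iv4 F130022) (iv3 D84822)
def n178217 : Q := act 5 n84826
theorem D178217 : act 5 n84826 = n178217 := rfl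
theorem F277772 : act 0 n178217 = n123483 := d17_2 D84826 D178217 (iv5 D123483) (iv4 D57550) (iv5 F44413) (iv0 F87785) F121537 (iv0 D39238) D39240
theorem F277773 : act 1 n178217 = n123479 := d17_6 D120282 (iv5 F262868) (iv1 F262870) F196455 (iv4 F193910) D178217 (iv5 D123479) (iv0 F191533) (iv4 D120284)
def n178219 : Q := act 5 n84827
theorem D178219 : act 5 n84827 = n178219 := rfl
theorem F277774 : act 0 n178219 = n123479 := d17_2 F197168 D178219 (iv5 D123479) (iv4 D57545) (iv5 F121130) F121128 (iv5 F120623) (iv0 F120628) D123036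
theorem F277775 : act 1 n178219 = n123483 := d17_6 (iv1 F198715) (iv5 F191527) F191534 F193903 F193906 D178219 (iv5 D123483) F197889 (iv4 F198713)
def n178221 : Q := act 0 n84828
theorem D178221 : act 0 n84828 = n178221 := rfl
def n178222 : Q := act 1 n84828
theorem D178222 : act 1 n84828 = n178222 := rfl
theorem F277776 : act 4 n166166 = n178222 := d20_6 (iv4 D36333) (iv1 D17544) D17545 D36336 D79786 D166166 (iv1 D178222) F130024 (iv3 D39243) (iv1 F57075)
def n178223 : Q := act 2 n84828
theorem D178223 : act 2 n84828 = n178223 := rfl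
theorem F277777 : act 4 n178223 = n84832 := d1_2 (iv4 F130024) D178223 (iv2 D84832)
theorem F277778 : act 6 n178223 = n163069 := d3_2 (iv6 F130025) D178223 F257402
def n178224 : Q := act 5 n84828
theorem D178224 : act 5 n84828 = n178224 := rfl
theorem F277779 : act 3 n178224 = n84829 := d6_1 D178224 (iv5 D84829) D84828
def n178225 : Q := act 1 n84829
theorem D178225 : act 1 n84829 = n178225 := rfl
theorem F277780 : act 5 n178225 = n84833 := d17_7 (iv1 F90317) F44415 F120602 D18611 D39240 D84829 D178225 (iv0 F197172) (iv4 D123037)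
def n178226 : Q := act 4 n84829
theorem D178226 : act 4 n84829 = n178226 := rfl
def n178227 : Q := act 6 n84829
theorem D178227 : act 6 n84829 = n178227 := rfl
theorem F277781 : act 5 n178227 = n177543 := d12_1 D178227 (iv6 D177543) (iv5 D84576) (iv6 F60202) D84829
def n178228 : Q := act 2 n84830
theorem D178228 : act 2 n84830 = n178228 := rfl
theorem F277782 : act 7 n84831 = n178228 := d15_2 (iv0 D84830) D84831 (iv2 D178228)
def n178229 : Q := act 3 n84830
theorem D178229 : act 3 n84830 = n178229 := rfl
def n178230 : Q := act 4 n84830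
theorem D178230 : act 4 n84830 = n178230 := rfl
def n178231 : Q := act 5 n84830
theorem D178231 : act 5 n84830 = n178231 := rfl
def n178232 : Q := act 6 n84830
theorem D178232 : act 6 n84830 = n178232 := rfl
def n178233 : Q := act 7 n84830
theorem D178233 : act 7 n84830 = n178233 := rfl
theorem F277783 : act 2 n178233 = n84831 := d4_1 D178233 F277782 (iv2 D178228)
def n178234 : Q := act 3 n84831
theorem D178234 : act 3 n84831 = n178234 := rfl
def n178235 : Q := act 4 n84831
theorem D178235 : act 4 n84831 = n178235 := rfl
def n178236 : Q := act 5 n84831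
theorem D178236 : act 5 n84831 = n178236 := rfl
def n178237 : Q := act 6 n84831
theorem D178237 : act 6 n84831 = n178237 := rfl
def n178238 : Q := act 3 n84833
theorem D178238 : act 3 n84833 = n178238 := rfl
def n178239 : Q := act 0 n84834
theorem D178239 : act 0 n84834 = n178239 := rfl
def n178240 : Q := act 1 n84834
theorem D178240 : act 1 n84834 = n178240 := rfl
theorem F277784 : act 5 n178240 = n123465 := d17_7 (iv1 F90678) (iv5 F121212) (iv1 D37425) (iv5 F29895) D39253 D84834 D178240 F197861 (iv4 D57540)
theorem F277785 : act 2 n178217 = n178240 := d2_3 F277784 F197863 D178217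
theorem F277786 : act 7 n178219 = n178240 := d13_0 F277784 F197865 D178219
theorem F277787 : act 2 n178219 = n178239 := d15_3 (iv0 D178239) D178240 (iv7 F277786)
theorem F277788 : act 5 n178239 = n123464 := d2_2 D178219 F277787 (iv2 F197868)
theorem F277789 : act 7 n178239 = n178217 := d4_2 (iv7 F277786) F277787 F277785
def n178241 : Q := act 4 n84834
theorem D178241 : act 4 n84834 = n178241 := rfl
def n178242 : Q := act 6 n84834
theorem D178242 : act 6 n84834 = n178242 := rfl
def n178244 : Q := act 2 n84836
theorem D178244 : act 2 n84836 = n178244 := rfl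
theorem F277790 : act 7 n84837 = n178244 := d15_2 (iv0 D84836) D84837 (iv2 D178244)
def n178245 : Q := act 3 n84836
theorem D178245 : act 3 n84836 = n178245 := rfl
def n178246 : Q := act 4 n84836
theorem D178246 : act 4 n84836 = n178246 := rfl
def n178247 : Q := act 5 n84836
theorem D178247 : act 5 n84836 = n178247 := rfl
def n178248 : Q := act 6 n84836
theorem D178248 : act 6 n84836 = n178248 := rfl
def n178249 : Q := act 7 n84836
theorem D178249 : act 7 n84836 = n178249 := rfl
theorem F277791 : act 2 n178249 = n84837 := d4_1 D178249 F277790 (iv2 D178244)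
def n178250 : Q := act 3 n84837
theorem D178250 : act 3 n84837 = n178250 := rfl
def n178251 : Q := act 4 n84837
theorem D178251 : act 4 n84837 = n178251 := rfl
def n178252 : Q := act 5 n84837
theorem D178252 : act 5 n84837 = n178252 := rfl
def n178253 : Q := act 6 n84837
theorem D178253 : act 6 n84837 = n178253 := rfl
def n178254 : Q := act 4 n84838
theorem D178254 : act 4 n84838 = n178254 := rfl
theorem F277793 : act 7 n178254 = n166366 := d11_2 (iv7 F130030) D178254 F261952
def n178255 : Q := act 5 n84838
theorem D178255 : act 5 n84838 = n178255 := rfl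
theorem F277797 : act 3 n178255 = n166343 := d6_1 D178255 (iv5 D166343) (iv3 F130029)
theorem F277798 : act 7 n178255 = n166385 := d13_2 (iv7 F130030) D178255 (iv5 D166385)
def n178258 : Q := act 1 n84839
theorem D178258 : act 1 n84839 = n178258 := rfl
theorem F277805 : act 4 n166430 = n178258 := d20_6 F44794 (iv1 F22050) (iv4 F42190) D36399 D79904 D166430 (iv1 D178258) (iv4 D84839) (iv3 D39255) (iv1 F44796)
def n178260 : Q := act 6 n84839
theorem D178260 : act 6 n84839 = n178260 := rfl
theorem F277808 : act 3 n178260 = n121705 := d7_1 D178260 (iv6 D121705) (iv3 F130034)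
def n178261 : Q := act 0 n84840
theorem D178261 : act 0 n84840 = n178261 := rfl
def n178262 : Q := act 1 n84840
theorem D178262 : act 1 n84840 = n178262 := rfl
def n178263 : Q := act 4 n84840
theorem D178263 : act 4 n84840 = n178263 := rfl
theorem F277812 : act 7 n178263 = n166389 := d11_2 (iv7 F130037) D178263 (iv4 D166389)
def n178264 : Q := act 6 n84840
theorem D178264 : act 6 n84840 = n178264 := rfl
theorem F277813 : act 3 n178264 = n84842 := d7_1 D178264 (iv6 D84842) (iv3 F130036)
def n178267 : Q := act 5 n84841
theorem D178267 : act 5 n84841 = n178267 := rfl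
theorem F277814 : act 3 n178267 = n84843 := d6_1 D178267 (iv5 D84843) (iv3 F130038)
def n178268 : Q := act 7 n84841
theorem D178268 : act 7 n84841 = n178268 := rfl
theorem F277815 : act 3 n178268 = n84844 := d8_1 D178268 (iv7 D84844) (iv3 F130038)
theorem F277816 : act 6 n178268 = n121065 := d14_1 D178268 F193079 (iv6 D79890) (iv7 F60211) D84841
def n178271 : Q := act 5 n84842
theorem D178271 : act 5 n84842 = n178271 := rfl
theorem F277819 : act 6 n178271 = n84843 := d12_2 D84842 D178271 (iv5 D84843) (iv6 D39257) D39256
def n178274 : Q := act 2 n84845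
theorem D178274 : act 2 n84845 = n178274 := rfl
theorem F277831 : act 7 n84846 = n178274 := d15_2 (iv0 D84845) D84846 (iv2 D178274)
def n178279 : Q := act 7 n84845
theorem D178279 : act 7 n84845 = n178279 := rfl
theorem F277832 : act 2 n178279 = n84846 := d4_1 D178279 F277831 (iv2 D178274)
def n178280 : Q := act 3 n84846
theorem D178280 : act 3 n84846 = n178280 := rfl
def n178281 : Q := act 4 n84846
theorem D178281 : act 4 n84846 = n178281 := rfl
def n178282 : Q := act 5 n84846
theorem D178282 : act 5 n84846 = n178282 := rfl
def n178283 : Q := act 6 n84846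
theorem D178283 : act 6 n84846 = n178283 := rfl
def n178284 : Q := act 4 n84847
theorem D178284 : act 4 n84847 = n178284 := rfl
theorem F277833 : act 2 n178284 = n84848 := d1_1 D178284 (iv4 D84848) D84847
theorem F277834 : act 7 n178284 = n166320 := d11_2 (iv7 F130050) D178284 F261912
theorem F277835 : act 1 n166319 = n178284 := d15_1 D166319 F277834 (iv2 D166320)
theorem F277836 : act 1 n178284 = n166318 := d15_0 (iv0 D166318) (iv7 F130055) (iv2 F277833)
def n178285 : Q := act 5 n84847
theorem D178285 : act 5 n84847 = n178285 := rfl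
theorem F277837 : act 2 n178285 = n84849 := d2_1 D178285 (iv5 D84849) D84847
theorem F277838 : act 3 n178285 = n166385 := d6_1 D178285 (iv5 D166385) (iv3 F130049)
theorem F277839 : act 7 n178285 = n166343 := d13_2 (iv7 F130050) D178285 (iv5 D166343)
theorem F277840 : act 1 n166346 = n178285 := d15_1 D166346 F277839 F261932
theorem F277841 : act 1 n178285 = n166345 := d15_0 (iv0 D166345) (iv7 F130057) (iv2 F277837)
def n178286 : Q := act 6 n84847
theorem D178286 : act 6 n84847 = n178286 := rfl
theorem F277842 : act 2 n178286 = n84850 := d3_1 D178286 (iv6 D84850) D84847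
theorem F277843 : act 3 n178286 = n166386 := d7_1 D178286 (iv6 D166386) (iv3 F130049)
theorem F277844 : act 7 n162975 = n178286 := d4_0 F277842 (iv7 F130059) D162975
theorem F277845 : act 1 n178286 = n162973 := d15_0 (iv0 D162973) F130059 (iv2 F277842)
theorem F277846 : act 1 n162974 = n178286 := d15_1 D162974 (iv7 F277844) (iv2 D162975)
def n178287 : Q := act 0 n84848
theorem D178287 : act 0 n84848 = n178287 := rfl
theorem F277847 : act 1 n166320 = n178287 := d15_0 (iv0 D178287) F130055 D166320
theorem F277848 : act 4 n166487 = n178287 := d20_0 (iv1 F277847) F261912 (iv3 F130029) (iv1 F130033) D166381 (iv4 F262028) (iv1 F262033) (iv4 D79920) D79919 D166487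
def n178288 : Q := act 1 n84848
theorem D178288 : act 1 n84848 = n178288 := rfl
theorem F277849 : act 1 n178288 = n166320 := d15_1 D178288 (iv7 F277834) F277833
theorem F277850 : act 4 n166399 = n178288 := d20_6 (iv4 D8744) D8742 (iv4 F43808) D36396 D79893 D166399 (iv1 D178288) (iv4 D84848) (iv3 D39258) (iv1 D18626)
def n178289 : Q := act 5 n84848
theorem D178289 : act 5 n84848 = n178289 := rfl
theorem F277851 : act 3 n178289 = n121709 := d6_1 D178289 (iv5 D121709) (iv3 F130054)
theorem F277852 : act 7 n178289 = n166321 := d13_2 (iv7 F130055) D178289 (iv5 D166321)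
def n178290 : Q := act 6 n84848
theorem D178290 : act 6 n84848 = n178290 := rfl
theorem F277853 : act 3 n178290 = n121710 := d7_1 D178290 (iv6 D121710) (iv3 F130054)
theorem F277854 : act 4 n178290 = n84850 := d10_1 D178290 (iv6 D84850) D84848
theorem F277855 : act 7 n162928 = n178290 := d11_0 F277854 (iv7 F130059) (iv4 F257259)
def n178291 : Q := act 0 n84849
theorem D178291 : act 0 n84849 = n178291 := rfl
theorem F277856 : act 1 n166343 = n178291 := d15_0 (iv0 D178291) F130057 (iv2 F261932)
def n178292 : Q := act 1 n84849
theorem D178292 : act 1 n84849 = n178292 := rfl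
theorem F277857 : act 1 n178292 = n166343 := d15_1 D178292 (iv7 F277839) F277837
def n178293 : Q := act 4 n84849
theorem D178293 : act 4 n84849 = n178293 := rfl
theorem F277858 : act 7 n178293 = n166347 := d11_2 (iv7 F130057) D178293 (iv4 D166347)
def n178294 : Q := act 6 n84849
theorem D178294 : act 6 n84849 = n178294 := rfl
theorem F277859 : act 3 n178294 = n84851 := d7_1 D178294 (iv6 D84851) (iv3 F130056)
def n178295 : Q := act 0 n84850
theorem D178295 : act 0 n84850 = n178295 := rfl
theorem F277860 : act 1 n162975 = n178295 := d15_0 (iv0 D178295) (iv7 F130059) D162975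
def n178296 : Q := act 1 n84850
theorem D178296 : act 1 n84850 = n178296 := rfl
theorem F277861 : act 1 n178296 = n162975 := d15_1 D178296 F277844 F277842
def n178297 : Q := act 5 n84850
theorem D178297 : act 5 n84850 = n178297 := rfl
theorem F277862 : act 3 n178297 = n84852 := d6_1 D178297 (iv5 D84852) (iv3 F130058)
theorem F277863 : act 7 n178297 = n162976 := d13_2 F130059 D178297 (iv5 D162976)
def n178298 : Q := act 0 n84851
theorem D178298 : act 0 n84851 = n178298 := rfl
def n178299 : Q := act 1 n84851
theorem D178299 : act 1 n84851 = n178299 := rfl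
theorem F277865 : act 6 n125295 = n178299 := d21_3 F130087 (iv1 F119574) D125295 (iv1 D178299) (iv6 D84851) (iv5 D39259) (iv1 D18626) D18628 D39269 D84879
theorem F277867 : act 5 n178299 = n125294 := d12_1 F277865 (iv6 D125294) (iv5 D58654) D58655 D125295
def n178300 : Q := act 5 n84851
theorem D178300 : act 5 n84851 = n178300 := rfl
theorem F277869 : act 6 n178300 = n84852 := d12_2 D84851 D178300 (iv5 D84852) (iv6 D39260) D39259
def n178301 : Q := act 7 n84851
theorem D178301 : act 7 n84851 = n178301 := rfl
def n178302 : Q := act 5 n84853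
theorem D178302 : act 5 n84853 = n178302 := rfl
theorem F277879 : act 2 n178302 = n84871 := d2_1 D178302 F130076 F130065
theorem F277880 : act 7 n178302 = n84866 := d13_2 (iv7 F130066) D178302 (iv5 D84866)
theorem F277881 : act 1 n84868 = n178302 := d15_1 D84868 F277880 F130072
theorem F277882 : act 1 n178302 = n84867 := d15_0 (iv0 D84867) D84871 (iv2 F277879)
def n178303 : Q := act 6 n84853
theorem D178303 : act 6 n84853 = n178303 := rfl
theorem F277883 : act 2 n178303 = n84872 := d3_1 D178303 (iv6 D84872) F130065
theorem F277884 : act 7 n178303 = n86184 := d14_2 (iv7 F130066) D178303 (iv6 D86184) F60690 (iv6 F60224)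
theorem F277885 : act 1 n86186 = n178303 := d15_1 D86186 F277884 F132144
def n178304 : Q := act 0 n84854
theorem D178304 : act 0 n84854 = n178304 := rfl
theorem F277887 : act 1 n84859 = n178304 := d15_0 (iv0 D178304) (iv7 F130068) (iv2 F130069)
def n178305 : Q := act 1 n84854
theorem D178305 : act 1 n84854 = n178305 := rfl
theorem F277888 : act 1 n178305 = n84859 := d15_1 D178305 (iv7 D84859) D84854
def n178306 : Q := act 3 n84854
theorem D178306 : act 3 n84854 = n178306 := rfl
theorem F277889 : act 7 n178306 = n84860 := d8_2 F130068 D178306 (iv3 D84860)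
def n178307 : Q := act 4 n84854
theorem D178307 : act 4 n84854 = n178307 := rfl
theorem F277890 : act 2 n178307 = n84856 := d1_1 D178307 (iv4 D84856) D84854
theorem F277891 : act 7 n178307 = n84861 := d11_2 F130068 D178307 (iv4 D84861)
def n178308 : Q := act 5 n84854
theorem D178308 : act 5 n84854 = n178308 := rfl
theorem F277892 : act 2 n178308 = n84857 := d2_1 D178308 (iv5 D84857) D84854
theorem F277893 : act 7 n178308 = n84862 := d13_2 F130068 D178308 (iv5 D84862)
def n178309 : Q := act 6 n84854
theorem D178309 : act 6 n84854 = n178309 := rfl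
theorem F277894 : act 2 n178309 = n84858 := d3_1 D178309 (iv6 D84858) D84854
def n178313 : Q := act 4 n84855
theorem D178313 : act 4 n84855 = n178313 := rfl
theorem F277895 : act 0 n178313 = n121562 := d20_7 F42190 (iv1 D8743) D8744 D18627 D39261 D84855 D178313 F193958 F88979 (iv1 F43815)
def n178314 : Q := act 5 n84855
theorem D178314 : act 5 n84855 = n178314 := rfl
theorem F277897 : act 3 n178314 = n84857 := d6_1 D178314 (iv5 D84857) D84855
def n178316 : Q := act 7 n84855
theorem D178316 : act 7 n84855 = n178316 := rfl
theorem F277899 : act 3 n178316 = n84859 := d8_1 D178316 (iv7 D84859) D84855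
def n178317 : Q := act 0 n84856
theorem D178317 : act 0 n84856 = n178317 := rfl
theorem F277900 : act 4 n178317 = n166435 := d20_2 D84856 D178317 (iv3 D166435) (iv1 D79905) (iv3 D36399) F42190 (iv1 D8743) D8744 D18627 D39261
def n178318 : Q := act 1 n84856
theorem D178318 : act 1 n84856 = n178318 := rfl
theorem F277901 : act 1 n178318 = n84861 := d15_1 D178318 (iv7 F277891) F277890
def n178319 : Q := act 3 n84856
theorem D178319 : act 3 n84856 = n178319 := rfl
def n178320 : Q := act 5 n84856
theorem D178320 : act 5 n84856 = n178320 := rfl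
def n178321 : Q := act 6 n84856
theorem D178321 : act 6 n84856 = n178321 := rfl
def n178322 : Q := act 7 n84856
theorem D178322 : act 7 n84856 = n178322 := rfl
theorem F277903 : act 2 n178322 = n84861 := d4_1 D178322 (iv7 F277891) F277890
theorem F277904 : act 4 n178322 = n84859 := d11_1 D178322 (iv7 D84859) D84856
theorem F277905 : act 1 n84861 = n178317 := d15_0 (iv0 D178317) D178322 F277903
def n178323 : Q := act 0 n84857
theorem D178323 : act 0 n84857 = n178323 := rfl
def n178324 : Q := act 1 n84857
theorem D178324 : act 1 n84857 = n178324 := rfl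
theorem F277906 : act 1 n178324 = n84862 := d15_1 D178324 (iv7 F277893) F277892
def n178325 : Q := act 4 n84857
theorem D178325 : act 4 n84857 = n178325 := rfl
def n178326 : Q := act 6 n84857
theorem D178326 : act 6 n84857 = n178326 := rfl
def n178327 : Q := act 7 n84857
theorem D178327 : act 7 n84857 = n178327 := rfl
theorem F277907 : act 2 n178327 = n84862 := d4_1 D178327 (iv7 F277893) F277892
theorem F277908 : act 5 n178327 = n84859 := d13_1 D178327 (iv7 D84859) D84857
theorem F277909 : act 1 n84862 = n178323 := d15_0 (iv0 D178323) D178327 F277907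
def n178330 : Q := act 5 n84858
theorem D178330 : act 5 n84858 = n178330 := rfl
def n178332 : Q := act 6 n84859
theorem D178332 : act 6 n84859 = n178332 := rfl
def n178333 : Q := act 0 n84860
theorem D178333 : act 0 n84860 = n178333 := rfl
def n178334 : Q := act 1 n84860
theorem D178334 : act 1 n84860 = n178334 := rfl
def n178335 : Q := act 2 n84860
theorem D178335 : act 2 n84860 = n178335 := rfl
def n178336 : Q := act 4 n84860
theorem D178336 : act 4 n84860 = n178336 := rfl
theorem F277911 : act 0 n166400 = n178336 := d20_1 D166400 (iv4 D178336) (iv3 D84860) (iv1 D39262) (iv3 D18627) (iv4 D8744) D8742 (iv4 F43808) D36396 D79893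
def n178337 : Q := act 5 n84860
theorem D178337 : act 5 n84860 = n178337 := rfl
theorem F277912 : act 3 n178337 = n84862 := d6_1 D178337 (iv5 D84862) D84860
def n178338 : Q := act 6 n84860
theorem D178338 : act 6 n84860 = n178338 := rfl
def n178339 : Q := act 3 n84861
theorem D178339 : act 3 n84861 = n178339 := rfl
def n178340 : Q := act 5 n84861
theorem D178340 : act 5 n84861 = n178340 := rfl
def n178341 : Q := act 6 n84861
theorem D178341 : act 6 n84861 = n178341 := rfl
def n178342 : Q := act 4 n84862
theorem D178342 : act 4 n84862 = n178342 := rfl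
def n178343 : Q := act 6 n84862
theorem D178343 : act 6 n84862 = n178343 := rfl
def n178352 : Q := act 6 n84864
theorem D178352 : act 6 n84864 = n178352 := rfl
def n178354 : Q := act 3 n84865
theorem D178354 : act 3 n84865 = n178354 := rfl
theorem F277917 : act 4 n178354 = n121559 := d20_6 F43805 (iv1 F22049) (iv4 F29900) (iv3 F60226) (iv1 F130071) D178354 (iv1 D121559) F88793 (iv3 D27104) D27102
def n178358 : Q := act 0 n84866
theorem D178358 : act 0 n84866 = n178358 := rfl
theorem F277918 : act 1 n84871 = n178358 := d15_0 (iv0 D178358) (iv7 F277880) F277879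
def n178359 : Q := act 1 n84866
theorem D178359 : act 1 n84866 = n178359 := rfl
theorem F277919 : act 1 n178359 = n84871 := d15_1 D178359 (iv7 D84871) (iv2 F130072)
theorem F277920 : act 5 n124485 = n178359 := d21_6 (iv5 F201640) (iv1 D58706) F45071 (iv6 F44701) D58098 D124485 (iv1 D178359) (iv5 D84866) F60224 (iv1 F60692)
def n178360 : Q := act 4 n84866
theorem D178360 : act 4 n84866 = n178360 := rfl
theorem F277921 : act 2 n178360 = n84869 := d1_1 D178360 (iv4 D84869) (iv2 F130072)
def n178361 : Q := act 6 n84866
theorem D178361 : act 6 n84866 = n178361 := rfl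
theorem F277922 : act 2 n178361 = n84870 := d3_1 D178361 (iv6 D84870) (iv2 F130072)
theorem F277923 : act 5 n178361 = n125403 := d12_1 D178361 (iv6 D125403) F92784 (iv6 F60224) D84866
def n178362 : Q := act 2 n84867
theorem D178362 : act 2 n84867 = n178362 := rfl
theorem F277924 : act 7 n84868 = n178362 := d15_2 (iv0 D84867) D84868 (iv2 D178362)
def n178363 : Q := act 3 n84867
theorem D178363 : act 3 n84867 = n178363 := rfl
def n178364 : Q := act 4 n84867
theorem D178364 : act 4 n84867 = n178364 := rfl
def n178365 : Q := act 5 n84867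
theorem D178365 : act 5 n84867 = n178365 := rfl
def n178366 : Q := act 6 n84867
theorem D178366 : act 6 n84867 = n178366 := rfl
def n178367 : Q := act 7 n84867
theorem D178367 : act 7 n84867 = n178367 := rfl
theorem F277925 : act 2 n178367 = n84868 := d4_1 D178367 F277924 (iv2 D178362)
def n178368 : Q := act 3 n84868
theorem D178368 : act 3 n84868 = n178368 := rfl
def n178369 : Q := act 4 n84868
theorem D178369 : act 4 n84868 = n178369 := rfl
def n178370 : Q := act 5 n84868
theorem D178370 : act 5 n84868 = n178370 := rfl
theorem F277926 : act 6 n124491 = n178370 := d21_5 (iv5 F256335) (iv1 F92769) F92767 (iv6 F91891) D124491 (iv5 D178370) (iv1 D84868) (iv5 D39264) F29899 D34448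
def n178371 : Q := act 6 n84868
theorem D178371 : act 6 n84868 = n178371 := rfl
def n178372 : Q := act 0 n84869
theorem D178372 : act 0 n84869 = n178372 := rfl
def n178373 : Q := act 1 n84869
theorem D178373 : act 1 n84869 = n178373 := rfl
def n178374 : Q := act 3 n84869
theorem D178374 : act 3 n84869 = n178374 := rfl
theorem F277927 : act 4 n178374 = n84877 := d5_2 D84869 D178374 (iv3 D84877) (iv4 D39268) (iv3 F60225)
def n178375 : Q := act 5 n84869
theorem D178375 : act 5 n84869 = n178375 := rfl
def n178376 : Q := act 6 n84869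
theorem D178376 : act 6 n84869 = n178376 := rfl
theorem F277928 : act 4 n178376 = n84870 := d10_1 D178376 (iv6 D84870) D84869
def n178377 : Q := act 7 n84869
theorem D178377 : act 7 n84869 = n178377 := rfl
theorem F277929 : act 4 n178377 = n84871 := d11_1 D178377 (iv7 D84871) D84869
def n178378 : Q := act 0 n84870
theorem D178378 : act 0 n84870 = n178378 := rfl
def n178379 : Q := act 1 n84870
theorem D178379 : act 1 n84870 = n178379 := rfl
def n178380 : Q := act 6 n84871
theorem D178380 : act 6 n84871 = n178380 := rfl
theorem F277930 : act 3 n178380 = n84880 := d7_1 D178380 (iv6 D84880) (iv3 F130075)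
def n178381 : Q := act 0 n84872
theorem D178381 : act 0 n84872 = n178381 := rfl
theorem F277931 : act 1 n86184 = n178381 := d15_0 (iv0 D178381) F130078 (iv2 F132144)
def n178382 : Q := act 1 n84872
theorem D178382 : act 1 n84872 = n178382 := rfl
theorem F277932 : act 1 n178382 = n86184 := d15_1 D178382 (iv7 F277884) F277883
def n178383 : Q := act 0 n84873
theorem D178383 : act 0 n84873 = n178383 := rfl
theorem F277933 : act 1 n166303 = n178383 := d15_0 (iv0 D178383) F130080 (iv2 F261880)
def n178384 : Q := act 1 n84873
theorem D178384 : act 1 n84873 = n178384 := rfl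
def n178385 : Q := act 2 n84873
theorem D178385 : act 2 n84873 = n178385 := rfl
theorem F277934 : act 3 n178385 = n166175 := d0_2 D84873 D178385 F261648 F122494 F60228
theorem F277935 : act 5 n178385 = n121682 := d2_2 (iv5 F130079) D178385 (iv2 D121682)
theorem F277936 : act 7 n178385 = n166303 := d4_2 (iv7 F130080) D178385 F261880
theorem F277937 : act 1 n178385 = n166304 := d15_0 (iv0 D166304) (iv7 F130080) D178385
theorem F277938 : act 1 n178384 = n166303 := d15_1 D178384 (iv7 F277936) (iv2 D178385)
theorem F277939 : act 1 n166305 = n178385 := d15_1 D166305 F277936 F261880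
def n178386 : Q := act 4 n84873
theorem D178386 : act 4 n84873 = n178386 := rfl
theorem F277940 : act 7 n178386 = n166306 := d11_2 (iv7 F130080) D178386 (iv4 D166306)
def n178387 : Q := act 6 n84873
theorem D178387 : act 6 n84873 = n178387 := rfl
theorem F277941 : act 3 n178387 = n84874 := d7_1 D178387 (iv6 D84874) D84873
def n178388 : Q := act 0 n84874
theorem D178388 : act 0 n84874 = n178388 := rfl
def n178389 : Q := act 1 n84874
theorem D178389 : act 1 n84874 = n178389 := rfl
def n178391 : Q := act 7 n84874
theorem D178391 : act 7 n84874 = n178391 := rfl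
def n178392 : Q := act 0 n84875
theorem D178392 : act 0 n84875 = n178392 := rfl
theorem F277951 : act 1 n166175 = n178392 := d15_0 (iv0 D178392) F130083 (iv2 F261648)
def n178394 : Q := act 2 n84875
theorem D178394 : act 2 n84875 = n178394 := rfl
theorem F277952 : act 3 n178394 = n166303 := d0_2 D84875 D178394 F261880 F122604 F60232
theorem F277953 : act 5 n178394 = n121700 := d2_2 (iv5 F130082) D178394 (iv2 D121700)
theorem F277954 : act 7 n178394 = n166175 := d4_2 (iv7 F130083) D178394 F261648
theorem F277957 : act 1 n166178 = n178394 := d15_1 D166178 F277954 F261648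
def n178395 : Q := act 4 n84875
theorem D178395 : act 4 n84875 = n178395 := rfl
theorem F277958 : act 7 n178395 = n166179 := d11_2 (iv7 F130083) D178395 (iv4 D166179)
def n178396 : Q := act 6 n84875
theorem D178396 : act 6 n84875 = n178396 := rfl
theorem F277959 : act 3 n178396 = n84876 := d7_1 D178396 (iv6 D84876) D84875
def n178400 : Q := act 0 n84877
theorem D178400 : act 0 n84877 = n178400 := rfl
theorem F277968 : act 1 n103131 = n178400 := d15_0 (iv0 D178400) F185172 F185170
def n178401 : Q := act 1 n84877
theorem D178401 : act 1 n84877 = n178401 := rfl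
def n178402 : Q := act 2 n84877
theorem D178402 : act 2 n84877 = n178402 := rfl
theorem F277969 : act 3 n178402 = n103146 := d0_2 D84877 D178402 (iv2 F199196) F199197 F92074
theorem F277971 : act 7 n178402 = n103131 := d4_2 (iv7 F185172) D178402 (iv2 F185170)
theorem F277972 : act 1 n178401 = n103131 := d15_1 D178401 (iv7 F277971) (iv2 D178402)
def n178404 : Q := act 3 n84879
theorem D178404 : act 3 n84879 = n178404 := rfl
theorem F277974 : act 5 n178404 = n162972 := d6_2 (iv5 F130087) D178404 (iv3 D162972)
def n178407 : Q := act 0 n84880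
theorem D178407 : act 0 n84880 = n178407 := rfl
theorem F277982 : act 4 n178407 = n155051 := d18_3 F236957 (iv4 F184944) D178407 F243828 (iv4 D149652) (iv0 F107406) (iv4 F236845) F236955 D150481
def n178408 : Q := act 1 n84880
theorem D178408 : act 1 n84880 = n178408 := rfl
def n178409 : Q := act 5 n84881
theorem D178409 : act 5 n84881 = n178409 := rfl
def n178410 : Q := act 7 n84881
theorem D178410 : act 7 n84881 = n178410 := rfl
def n178411 : Q := act 0 n84885
theorem D178411 : act 0 n84885 = n178411 := rfl
theorem F277988 : act 5 n178411 = n149873 := d17_3 (iv1 F119497) D84885 D178411 (iv4 D149873) (iv5 D70453) F189978 (iv5 D49001) (iv0 F189991) (iv4 F119494)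
theorem F277990 : act 3 n123183 = n178411 := d6_3 F277988 F235737 (iv5 F197421)
def n178412 : Q := act 1 n84885
theorem D178412 : act 1 n84885 = n178412 := rfl
theorem F277993 : act 5 n178412 = n168847 := d17_7 (iv1 F232895) (iv5 D119750) (iv1 D55103) F42674 (iv4 F60244) D84885 D178412 (iv0 F265932) (iv4 D155175)
def n178416 : Q := act 6 n84888
theorem D178416 : act 6 n84888 = n178416 := rfl
theorem F277996 : act 4 n178416 = n84890 := d10_1 D178416 (iv6 D84890) D84888
def n178417 : Q := act 4 n84889
theorem D178417 : act 4 n84889 = n178417 := rfl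
theorem F277999 : act 7 n178417 = n151475 := d11_2 F187201 D178417 F238268
def n178418 : Q := act 1 n84890
theorem D178418 : act 1 n84890 = n178418 := rfl
theorem F278002 : act 7 n178418 = n85029 := d15_2 (iv0 F244072) D178418 (iv2 F244070)
theorem F278004 : act 6 n85070 = n178418 := d21_3 F86656 D68677 (iv5 F232606) (iv1 D178418) (iv6 D84890) D84889 (iv1 F232224) (iv5 F232617) F232618 (iv1 F232275)
theorem F278005 : act 3 n178418 = n84930 := d7_1 F278004 (iv6 F130139) (iv3 F130420)
theorem F278006 : act 5 n152928 = n178418 := d6_0 F278005 F130478 D152928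
def n178419 : Q := act 3 n84893
theorem D178419 : act 3 n84893 = n178419 := rfl
theorem F278008 : act 0 n178419 = n86441 := d20_4 F106936 (iv1 F87188) D84893 D178419 F132538 F60902 (iv1 F118774) D26933 (iv3 F51773) D70483
def n178421 : Q := act 6 n84893
theorem D178421 : act 6 n84893 = n178421 := rfl
theorem F278011 : act 4 n178421 = n84894 := d10_1 D178421 (iv6 D84894) D84893
theorem F278012 : act 1 n162939 = n178421 := d18_6 (iv1 F232779) (iv4 F238365) F238367 (iv4 D107967) (iv5 F191395) D162939 F278011 F232781 (iv5 F188525)
def n178422 : Q := act 0 n84895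
theorem D178422 : act 0 n84895 = n178422 := rfl
theorem F278013 : act 1 n101470 = n178422 := d15_0 (iv0 D178422) (iv7 F188540) (iv2 F188541)
def n178423 : Q := act 5 n84895
theorem D178423 : act 5 n84895 = n178423 := rfl
theorem F278014 : act 2 n178423 = n101469 := d2_1 D178423 (iv5 D101469) (iv2 F130106)
theorem F278015 : act 3 n178423 = n84898 := d6_1 D178423 (iv5 D84898) (iv3 F130107)
def n178424 : Q := act 0 n84898
theorem D178424 : act 0 n84898 = n178424 := rfl
def n178425 : Q := act 4 n84898
theorem D178425 : act 4 n84898 = n178425 := rfl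
theorem F278016 : act 1 n178425 = n119532 := d18_6 (iv1 F86845) D54985 F185369 (iv4 F60250) D84898 D178425 (iv4 D119532) F187784 F187782
def n178426 : Q := act 4 n84903
theorem D178426 : act 4 n84903 = n178426 := rfl
theorem F278017 : act 2 n178426 = n175365 := d1_1 D178426 (iv4 F274413) F187920
theorem F278018 : act 7 n178426 = n175364 := d11_2 F275774 D178426 (iv4 F275775)
theorem F278019 : act 0 n178426 = n175159 := d18_2 (iv1 F274437) D178426 (iv4 D175159) D175160 F274174 F274159 F205718 F275801 (iv5 F274435)
theorem F278020 : act 1 n178426 = n175163 := d18_6 (iv1 F59388) D83657 (iv1 F155132) F130112 D84903 D178426 (iv4 D175163) F128710 F59410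
def n178432 : Q := act 0 n84907
theorem D178432 : act 0 n84907 = n178432 := rfl
def n178433 : Q := act 1 n84907
theorem D178433 : act 1 n84907 = n178433 := rfl
def n178434 : Q := act 5 n84907
theorem D178434 : act 5 n84907 = n178434 := rfl
theorem F278035 : act 6 n178434 = n119121 := d12_2 D84907 D178434 (iv5 D119121) (iv6 D54817) (iv5 F60263)
def n178435 : Q := act 7 n84907
theorem D178435 : act 7 n84907 = n178435 := rfl
theorem F278036 : act 2 n178435 = n167218 := d4_1 D178435 (iv7 D167218) (iv2 F130119)
theorem F278037 : act 3 n178435 = n172766 := d8_1 D178435 (iv7 D172766) (iv3 F130120)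
theorem F278041 : act 1 n178435 = n167215 := d15_0 (iv0 D167215) D167218 (iv2 F278036)
def n178436 : Q := act 2 n84908
theorem D178436 : act 2 n84908 = n178436 := rfl
theorem F278042 : act 7 n84909 = n178436 := d15_2 (iv0 D84908) D84909 (iv2 D178436)
def n178437 : Q := act 3 n84908
theorem D178437 : act 3 n84908 = n178437 := rfl
theorem F278043 : act 4 n178437 = n174786 := d20_6 F113048 F116618 (iv4 F43931) (iv3 F60267) D84908 D178437 (iv1 F273615) F191978 F116247 (iv1 F57364)
def n178438 : Q := act 5 n84908
theorem D178438 : act 5 n84908 = n178438 := rfl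
def n178439 : Q := act 6 n84908
theorem D178439 : act 6 n84908 = n178439 := rfl
def n178440 : Q := act 7 n84908
theorem D178440 : act 7 n84908 = n178440 := rfl
theorem F278044 : act 2 n178440 = n84909 := d4_1 D178440 F278042 (iv2 D178436)
def n178441 : Q := act 3 n84909
theorem D178441 : act 3 n84909 = n178441 := rfl
def n178442 : Q := act 4 n84909
theorem D178442 : act 4 n84909 = n178442 := rfl
theorem F278045 : act 3 n178442 = n159077 := d20_3 F250403 (iv1 F188047) D178442 (iv1 F250442) (iv3 F149223) F149224 D164650 (iv4 F259642) F236770 (iv1 F250405)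
def n178443 : Q := act 5 n84909
theorem D178443 : act 5 n84909 = n178443 := rfl
def n178444 : Q := act 6 n84909
theorem D178444 : act 6 n84909 = n178444 := rfl
def n178447 : Q := act 4 n84910
theorem D178447 : act 4 n84910 = n178447 := rfl
theorem F278046 : act 6 n178447 = n84924 := d10_2 (iv6 F130122) D178447 (iv4 D84924)
def n178448 : Q := act 7 n84910
theorem D178448 : act 7 n84910 = n178448 := rfl
theorem F278047 : act 3 n178448 = n121998 := d8_1 D178448 (iv7 D121998) (iv3 F130121)
theorem F278048 : act 5 n178448 = n84911 := d13_1 D178448 (iv7 D84911) D84910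
def n178449 : Q := act 0 n84913
theorem D178449 : act 0 n84913 = n178449 := rfl
theorem F278049 : act 1 n174778 = n178449 := d15_0 (iv0 D178449) (iv7 F188069) (iv2 F273601)
def n178451 : Q := act 5 n84913
theorem D178451 : act 5 n84913 = n178451 := rfl
theorem F278051 : act 3 n178451 = n84915 := d6_1 D178451 (iv5 D84915) D84913
def n178452 : Q := act 6 n84913
theorem D178452 : act 6 n84913 = n178452 := rfl
theorem F278052 : act 3 n178452 = n84916 := d7_1 D178452 (iv6 D84916) D84913
theorem F278053 : act 4 n178452 = n174776 := d10_1 D178452 (iv6 D174776) F130127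
def n178453 : Q := act 1 n84915
theorem D178453 : act 1 n84915 = n178453 := rfl
theorem F278054 : act 1 n178453 = n84920 := d15_1 D178453 (iv7 F188066) F188065
theorem F278055 : act 5 n155160 = n178453 := d17_5 F53233 D33863 D73698 F120248 D155160 F278054 (iv5 D84920) F86897 F86894
def n178456 : Q := act 0 n84916
theorem D178456 : act 0 n84916 = n178456 := rfl
def n178457 : Q := act 1 n84916
theorem D178457 : act 1 n84916 = n178457 := rfl
theorem F278056 : act 4 n178457 = n84930 := d17_9 (iv1 D84930) F86815 (iv1 D54881) (iv5 D26546) (iv4 F42498) D54868 D119235 (iv5 F187669) D178457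
theorem F278057 : act 2 n85136 = n178457 := d1_3 F278056 F130161 (iv4 F130467)
theorem F278058 : act 6 n85091 = n178457 := d10_0 F278056 (iv6 F130139) (iv4 F130430)
theorem F278059 : act 7 n85032 = n178457 := d11_0 F278056 (iv7 F130160) (iv4 F130393)
theorem E24751 : n85134 = n84916 := (c15_1 D85134 D178457 (iv7 F278059) F130392)
theorem E24752 : n178456 = n39365 := ((D178456).symm.trans (sb E24751 (iv1 D85134)))
theorem F278060 : act 1 n39365 = n84916 := (sb E24752 (iv0 D178456))
theorem F278061 : act 1 n178457 = n85133 := d15_0 (iv0 D85133) D85136 F278057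
theorem F278062 : act 7 n85133 = n119381 := d15_2 D178457 F278061 F188067
theorem F278063 : act 3 n176497 = n85133 := d8_3 F278062 F243935 (iv7 F275811)
theorem F278064 : act 6 n119568 = n85133 := d14_5 F278062 (iv6 D119381) F155330 D84921 (iv7 F188550)
theorem F278065 : act 5 n119234 = n85133 := d21_2 D54868 D119234 (iv6 F278064) (iv1 D119568) (iv6 D55009) D55008 D119564 F188547 (iv6 D119233) (iv1 D54867)
def n178458 : Q := act 7 n84916
theorem D178458 : act 7 n84916 = n178458 := rfl
theorem F278066 : act 2 n178458 = n85133 := d4_1 D178458 F278062 F188067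
def n178459 : Q := act 6 n84919
theorem D178459 : act 6 n84919 = n178459 := rfl
theorem F278067 : act 2 n178459 = n118113 := d3_1 D178459 (iv6 D118113) (iv2 F155331)
theorem F278068 : act 4 n178459 = n84921 := d10_1 D178459 (iv6 D84921) D84919
theorem F278069 : act 0 n178459 = n128280 := d21_10 F206406 (iv1 F234282) F234279 (iv6 F107109) (iv1 F205679) (iv6 F235782) (iv5 F266071) (iv1 F266073) F236365 D178459
theorem F278070 : act 7 n128278 = n178459 := d11_0 F278068 (iv7 F188550) (iv4 F206402)
theorem E24753 : n128277 = n118113 := ((c15_4 (iv0 D128277) D128278 F278070 F278067)).symm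
theorem F278071 : act 1 n118113 = n60304 := (sb E24753 (iv0 D128277))
def n178462 : Q := act 0 n84921
theorem D178462 : act 0 n84921 = n178462 := rfl
def n178463 : Q := act 1 n84921
theorem D178463 : act 1 n84921 = n178463 := rfl
def n178464 : Q := act 5 n84921
theorem D178464 : act 5 n84921 = n178464 := rfl
def n178465 : Q := act 2 n84922
theorem D178465 : act 2 n84922 = n178465 := rfl
theorem F278072 : act 7 n84923 = n178465 := d15_2 (iv0 D84922) D84923 (iv2 D178465)
def n178466 : Q := act 3 n84922
theorem D178466 : act 3 n84922 = n178466 := rfl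
def n178467 : Q := act 4 n84922
theorem D178467 : act 4 n84922 = n178467 := rfl
def n178468 : Q := act 5 n84922
theorem D178468 : act 5 n84922 = n178468 := rfl
theorem F278074 : act 4 n178468 = n118102 := d17_4 (iv1 D39286) D39287 D84922 D178468 (iv5 D118102) (iv0 F190054) F162782 (iv0 F190052) (iv4 D84919)
theorem F278075 : act 1 n178468 = n152087 := d17_8 (iv1 F110285) (iv5 D73602) (iv1 F53177) (iv5 F42563) (iv4 F86894) (iv5 F188079) F188082 D178468 (iv4 D152087)
theorem F278077 : act 1 n152088 = n178468 := d15_0 F278075 (iv7 F243971) F243969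
theorem F278078 : act 2 n158946 = n178468 := d1_3 F278074 (iv2 F243943) (iv4 F250282)
theorem F278079 : act 7 n119136 = n178468 := d11_0 F278074 F205709 F205707
theorem F278080 : act 7 n84922 = n119386 := d13_2 F278079 (iv5 D178468) (iv5 F188076)
theorem F278081 : act 2 n119386 = n84923 := d4_1 F278080 F278072 (iv2 D178465)
theorem E24754 : n178465 = n119385 := (c15_4 (iv0 D119385) D119386 (iv7 F278080) D178465)
theorem F278084 : act 7 n119385 = n84923 := (sb E24754 (iv7 F278072))
def n178469 : Q := act 6 n84922
theorem D178469 : act 6 n84922 = n178469 := rfl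
def n178470 : Q := act 3 n84923
theorem D178470 : act 3 n84923 = n178470 := rfl
def n178471 : Q := act 4 n84923
theorem D178471 : act 4 n84923 = n178471 := rfl
theorem F278087 : act 7 n178471 = n175084 := d11_2 F278084 D178471 F274062
theorem F278088 : act 0 n178471 = n119463 := d18_2 (iv1 F188081) D178471 (iv4 D119463) (iv5 D54968) (iv4 F86972) (iv0 F190052) (iv4 D84919) F86897 (iv5 F188079)
theorem F278089 : act 1 n178471 = n175088 := d15_1 (iv0 F278088) (iv7 D175088) (iv2 F188238)
theorem E24755 : n178470 = n173218 := (c20_4 (iv4 F274068) (iv1 F278089) (iv4 D178471) D178470 (iv1 D173218) F127677 D82903 D173237 F271563 F190999 (iv1 F188241))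
theorem F278090 : act 3 n173218 = n84923 := (sb E24755 (iv3 D178470))
def n178472 : Q := act 5 n84923
theorem D178472 : act 5 n84923 = n178472 := rfl
theorem F278092 : act 3 n178472 = n172771 := d6_1 D178472 F271522 F278090
theorem F278094 : act 1 n178472 = n152088 := d17_8 (iv1 D71701) F53173 (iv1 D33827) (iv5 F26655) (iv4 F29915) D39287 D84923 D178472 (iv4 D152088)
theorem F278095 : act 6 n119013 = n178472 := d21_5 (iv5 F56160) (iv1 F86635) (iv5 D54766) D54767 D119013 (iv5 D178472) (iv1 D84923) (iv5 D39287) (iv6 D18638) D18635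
theorem F278096 : act 1 n152087 = n178472 := d15_0 F278094 F239102 (iv2 F239100)
theorem F278097 : act 0 n84924 = n175082 := d18_2 (iv1 D84923) D84924 (iv4 D175082) (iv5 F243882) (iv4 D155075) F110285 D152087 F278096 (iv5 D178472)
def n178476 : Q := act 3 n84928
theorem D178476 : act 3 n84928 = n178476 := rfl
theorem F278098 : act 0 n167040 = n178476 := d20_4 (iv4 F118223) (iv1 F129646) (iv4 F123143) (iv3 F263062) (iv3 D178476) (iv4 D84928) (iv1 F110395) D155192 F244023 (iv1 D122022)
def n178477 : Q := act 5 n84928
theorem D178477 : act 5 n84928 = n178477 := rfl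
def n178478 : Q := act 6 n84928
theorem D178478 : act 6 n84928 = n178478 := rfl
theorem F278100 : act 7 n178478 = n118518 := d14_2 F188126 D178478 (iv6 D118518) (iv7 F186317) (iv6 F188125)
def n178479 : Q := act 6 n84932
theorem D178479 : act 6 n84932 = n178479 := rfl
theorem F278101 : act 2 n178479 = n86375 := d3_1 D178479 (iv6 D86375) (iv2 F130180)
theorem F278102 : act 3 n178479 = n170143 := d7_1 D178479 (iv6 D170143) (iv3 F130181)
theorem F278103 : act 4 n178479 = n84933 := d10_1 D178479 (iv6 D84933) D84932
theorem F278104 : act 0 n148963 = n178479 := d20_4 F233958 (iv1 F106211) D69832 D148963 F278102 F267641 (iv1 F267695) F235943 (iv3 D148934) (iv1 F233960)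
def n178480 : Q := act 5 n84933
theorem D178480 : act 5 n84933 = n178480 := rfl
theorem F278105 : act 2 n178480 = n121990 := d2_1 D178480 (iv5 D121990) (iv2 F130185)
theorem F278106 : act 3 n178480 = n84941 := d6_1 D178480 (iv5 D84941) (iv3 F130186)
theorem F278107 : act 6 n178480 = n84936 := d12_2 D84933 D178480 (iv5 D84936) (iv6 D39293) D39292
def n178481 : Q := act 4 n84936
theorem D178481 : act 4 n84936 = n178481 := rfl
def n178482 : Q := act 5 n84938
theorem D178482 : act 5 n84938 = n178482 := rfl
theorem F278108 : act 2 n178482 = n96685 := d2_1 D178482 (iv5 D96685) (iv2 F130189)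
def n178483 : Q := act 7 n84938
theorem D178483 : act 7 n84938 = n178483 := rfl
theorem F278110 : act 2 n178483 = n96686 := d4_1 D178483 (iv7 D96686) (iv2 F130189)
theorem F278111 : act 3 n178483 = n170168 := d8_1 D178483 (iv7 D170168) (iv3 F130190)
theorem F278112 : act 4 n178483 = n84942 := d11_1 D178483 (iv7 D84942) (iv4 F130191)
theorem F278114 : act 1 n96684 = n178483 := d15_1 D96684 (iv7 D178483) F130189
theorem E24756 : n167225 = n150452 := ((c20_11 (iv4 D167225) (iv1 F130198) (iv4 F278112) F278111 (iv1 F267698) (iv3 F162929) (iv4 F162928) (iv1 D54423) (iv4 F52027) (iv3 F107442) D150452)).symm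
theorem F278116 : act 4 n150452 = n80277 := (sb E24756 (iv4 D167225))
def n178484 : Q := act 2 n84939
theorem D178484 : act 2 n84939 = n178484 := rfl
theorem F278117 : act 7 n84940 = n178484 := d15_2 (iv0 D84939) D84940 (iv2 D178484)
def n178485 : Q := act 3 n84939
theorem D178485 : act 3 n84939 = n178485 := rfl
def n178486 : Q := act 4 n84939
theorem D178486 : act 4 n84939 = n178486 := rfl
theorem F278118 : act 0 n178486 = n150455 := d20_1 D178486 F236893 F128696 (iv1 F120202) D152607 F239806 F278104 F278103 F130186 D84939
theorem E24757 : n178485 = n174388 := ((c20_5 F130974 (iv1 F232735) F107082 (iv3 F128478) D174388 (iv3 D178485) D178486 F278118 F236893 F128696 (iv1 F120202))).symm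
theorem F278119 : act 3 n174388 = n84939 := (sb E24757 (iv3 D178485))
theorem F278120 : act 0 n114703 = n178486 := d20_10 (iv4 D178486) (iv1 F130196) (iv4 F149008) F149007 (iv1 F71187) D81629 F125539 (iv1 F253968) F253830 F235930
def n178488 : Q := act 6 n84939
theorem D178488 : act 6 n84939 = n178488 := rfl
theorem F278122 : act 5 n178488 = n161701 := d21_6 F56160 (iv1 F29910) D18643 D39295 D84939 D178488 (iv1 D161701) (iv5 D77667) (iv6 D35459) D35457
def n178490 : Q := act 3 n84940
theorem D178490 : act 3 n84940 = n178490 := rfl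
theorem F278124 : act 4 n178490 = n167068 := d20_6 (iv4 F117074) (iv1 F58806) (iv4 F57451) (iv3 F123365) (iv1 F130192) D178490 (iv1 D167068) F123204 F57405 D36545
def n178491 : Q := act 4 n84940
theorem D178491 : act 4 n84940 = n178491 := rfl
theorem F278125 : act 0 n178491 = n114703 := d20_1 D178491 F178812 (iv3 F188156) (iv1 F254843) (iv3 D80224) (iv4 F117074) (iv1 F58806) (iv4 F57451) (iv3 F123365) (iv1 F130192)
def n178492 : Q := act 5 n84940
theorem D178492 : act 5 n84940 = n178492 := rfl
def n178493 : Q := act 6 n84940
theorem D178493 : act 6 n84940 = n178493 := rfl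
def n178494 : Q := act 0 n84941
theorem D178494 : act 0 n84941 = n178494 := rfl
def n178495 : Q := act 1 n84941
theorem D178495 : act 1 n84941 = n178495 := rfl
theorem F278127 : act 1 n178495 = n167236 := d15_1 D178495 (iv7 D167236) (iv2 F130193)
def n178496 : Q := act 4 n84941
theorem D178496 : act 4 n84941 = n178496 := rfl
theorem F278128 : act 2 n178496 = n167235 := d1_1 D178496 (iv4 D167235) (iv2 F130193)
theorem F278129 : act 6 n178496 = n84955 := d10_2 (iv6 F130194) D178496 (iv4 D84955)
def n178497 : Q := act 7 n84941
theorem D178497 : act 7 n84941 = n178497 := rfl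
theorem F278130 : act 2 n178497 = n167236 := d4_1 D178497 (iv7 D167236) (iv2 F130193)
theorem F278131 : act 5 n178497 = n84942 := d13_1 D178497 (iv7 D84942) D84941
theorem F278132 : act 1 n167236 = n178494 := d15_0 (iv0 D178494) D178497 F278130
theorem F278133 : act 1 n167234 = n178497 := d15_1 D167234 (iv7 D178497) F130193
theorem F278134 : act 1 n178497 = n167233 := d15_0 (iv0 D167233) D167236 (iv2 F278130)
def n178498 : Q := act 5 n84945
theorem D178498 : act 5 n84945 = n178498 := rfl
theorem F278135 : act 2 n178498 = n128083 := d2_1 D178498 (iv5 D128083) F188767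
theorem F278136 : act 3 n178498 = n149152 := d6_1 D178498 (iv5 D149152) (iv3 F130290)
theorem F278137 : act 7 n178498 = n128086 := d13_2 F188766 D178498 (iv5 D128086)
theorem F278138 : act 0 n178498 = n149286 := d21_1 D178498 F234660 (iv6 D149003) (iv1 D69876) (iv6 D32450) (iv5 D15354) D15350 (iv5 F42569) D54954 (iv1 F188403)
theorem E24758 : n149286 = n149185 := ((c15_1 D149185 (iv0 F278138) F278137 F206148)).symm
theorem F278139 : act 1 n149185 = n178498 := (sb E24758 (iv0 F278138))
theorem F278140 : act 3 n149185 = n70086 := (sb E24758 (iv3 D149286))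
theorem F278141 : act 5 n149185 = n149003 := (sb E24758 F234660)
theorem F278142 : act 7 n149185 = n166273 := (sb E24758 (iv7 F261793))
theorem F278143 : act 2 n166273 = n149184 := d15_3 (iv0 D149184) D149185 F278142
theorem F278144 : act 3 n149184 = n160214 := d0_2 D166273 F278143 (iv2 F253016) (iv3 D149289) F234267
theorem F278146 : act 4 n160214 = n154905 := d20_6 (iv4 F242059) (iv1 F234548) (iv4 D70027) (iv3 F106420) D149184 F278144 (iv1 D154905) (iv4 D73469) (iv3 F110157) (iv1 F242060)
theorem F278148 : act 1 n128083 = n166273 := d15_0 (iv0 F261795) (iv7 F278137) F278135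
theorem F278149 : act 1 n178498 = n149184 := d15_0 (iv0 D149184) (iv7 F206137) (iv2 F278135)
def n178499 : Q := act 6 n84945
theorem D178499 : act 6 n84945 = n178499 := rfl
theorem F278153 : act 5 n178499 = n127850 := d21_6 (iv5 D15354) D15350 (iv5 F42569) D54954 (iv1 F188403) D178499 (iv1 D127850) (iv5 D60044) (iv6 D28516) (iv1 F42433)
theorem F278155 : act 1 n119518 = n178499 := d18_8 (iv1 D127850) D127851 F205720 (iv4 D71736) (iv5 F130337) (iv4 F191072) (iv0 D119521) (iv4 F188500) F278153
def n178500 : Q := act 0 n84946
theorem D178500 : act 0 n84946 = n178500 := rfl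
theorem F278156 : act 1 n84951 = n178500 := d15_0 (iv0 D178500) (iv7 F187931) F187930
def n178501 : Q := act 1 n84946
theorem D178501 : act 1 n84946 = n178501 := rfl
theorem F278157 : act 1 n178501 = n84951 := d15_1 D178501 (iv7 F187927) F187926
def n178502 : Q := act 4 n84946
theorem D178502 : act 4 n84946 = n178502 := rfl
def n178503 : Q := act 6 n84946
theorem D178503 : act 6 n84946 = n178503 := rfl
def n178504 : Q := act 7 n84947
theorem D178504 : act 7 n84947 = n178504 := rfl
theorem F278159 : act 6 n178504 = n85089 := d14_1 D178504 F187933 (iv6 D119341) F155237 D84947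
def n178505 : Q := act 5 n84949
theorem D178505 : act 5 n84949 = n178505 := rfl
theorem F278160 : act 3 n178505 = n84951 := d6_1 D178505 (iv5 D84951) D84949
def n178506 : Q := act 6 n84949
theorem D178506 : act 6 n84949 = n178506 := rfl
theorem F278161 : act 2 n178506 = n176534 := d3_1 D178506 F275858 F273248
theorem F278162 : act 3 n178506 = n84952 := d7_1 D178506 (iv6 D84952) D84949
theorem F278163 : act 4 n178506 = n149193 := d10_1 D178506 (iv6 D149193) (iv4 F130286)
def n178507 : Q := act 4 n84951
theorem D178507 : act 4 n84951 = n178507 := rfl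
def n178508 : Q := act 6 n84951
theorem D178508 : act 6 n84951 = n178508 := rfl
def n178509 : Q := act 0 n84952
theorem D178509 : act 0 n84952 = n178509 := rfl
theorem F278164 : act 4 n178509 = n84996 := d18_3 F274098 (iv4 F130287) D178509 (iv5 F200225) D146661 (iv0 F229960) F105067 D145913 (iv5 F229087)
theorem F278165 : act 2 n85091 = n178509 := d15_3 (iv0 D178509) F155239 D85091
theorem F278166 : act 6 n178509 = n85136 := d3_2 (iv6 F278058) F278165 F278057
theorem F278167 : act 7 n178509 = n85022 := d4_2 D85091 F278165 F130374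
theorem F278168 : act 1 n119341 = n85022 := d15_1 (iv0 F273261) (iv7 F278167) (iv2 F278165)
theorem F278169 : act 1 n85089 = n178509 := d15_1 D85089 F278167 F130374
theorem F278170 : act 5 n158928 = n85089 := d17_7 (iv1 F130233) (iv5 F130334) (iv1 D75850) (iv5 D34677) D34676 D75846 D158928 F278169 F278164
theorem E24760 : n178504 = n119600 := ((c21_5 (iv5 F188547) (iv1 F188548) (iv5 D55028) D55029 D119600 F278159 (iv5 F278170) (iv1 D158928) (iv5 D75846) D75847 F187668)).symm
theorem F278173 : act 6 n119600 = n85089 := (sb E24760 F278159)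
theorem F278175 : act 3 n176408 = n178509 := d20_5 (iv4 F59460) (iv1 F118347) (iv4 F118349) D84112 D176408 F278164 (iv1 F130233) (iv4 F128785) F130280 (iv1 D38656)
theorem F278176 : act 6 n176527 = n176408 := d7_0 F278175 F278166 (iv3 F275836)
def n178510 : Q := act 7 n84952
theorem D178510 : act 7 n84952 = n178510 := rfl
theorem F278183 : act 4 n178510 = n86008 := d11_1 D178510 (iv7 F155273) (iv4 F130287)
theorem F278184 : act 1 n85022 = n178510 := d15_1 F278168 (iv7 D178510) (iv2 F187932)
theorem F278185 : act 1 n178510 = n85091 := d15_1 F278184 (iv7 D85091) (iv2 F130374)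
def n178511 : Q := act 2 n84953
theorem D178511 : act 2 n84953 = n178511 := rfl
theorem F278186 : act 7 n84954 = n178511 := d15_2 (iv0 D84953) D84954 (iv2 D178511)
def n178512 : Q := act 3 n84953
theorem D178512 : act 3 n84953 = n178512 := rfl
def n178513 : Q := act 4 n84953
theorem D178513 : act 4 n84953 = n178513 := rfl
theorem F278187 : act 0 n178513 = n175125 := d18_2 D84953 D178513 F274105 F128699 (iv4 F94749) (iv0 F188402) (iv4 D84945) (iv0 D39296) D39298
def n178514 : Q := act 5 n84953
theorem D178514 : act 5 n84953 = n178514 := rfl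
theorem F278188 : act 1 n178514 = n120229 := d17_8 (iv1 F186994) (iv5 D73570) (iv1 F130247) F86883 (iv4 F86872) (iv5 F187938) F187941 D178514 F191429
theorem F278189 : act 6 n178514 = n158931 := d21_3 D39298 D84953 D178514 (iv1 D158931) (iv6 D75847) D75846 D158927 F250257 (iv6 D84952) (iv1 D39297)
def n178515 : Q := act 6 n84953
theorem D178515 : act 6 n84953 = n178515 := rfl
def n178516 : Q := act 7 n84953
theorem D178516 : act 7 n84953 = n178516 := rfl
theorem F278190 : act 2 n178516 = n84954 := d4_1 D178516 F278186 (iv2 D178511)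
def n178517 : Q := act 3 n84954
theorem D178517 : act 3 n84954 = n178517 := rfl
def n178518 : Q := act 4 n84954
theorem D178518 : act 4 n84954 = n178518 := rfl
theorem F278191 : act 0 n178518 = n119434 := d18_2 (iv1 F187940) D178518 (iv4 D119434) (iv5 D54958) (iv4 F86945) (iv0 F188400) F130279 F86875 (iv5 F187938)
theorem F278192 : act 1 n178518 = n175125 := d15_1 (iv0 F278191) (iv7 D175125) (iv2 F188187)
def n178519 : Q := act 5 n84954
theorem D178519 : act 5 n84954 = n178519 := rfl
theorem F278193 : act 4 n178519 = n149220 := d17_4 (iv1 F86876) (iv5 F187938) (iv1 F187940) D178519 (iv5 D149220) F206164 F206163 (iv0 F188402) (iv4 D84945)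
theorem F278194 : act 0 n178519 = n120229 := d18_0 F191429 (iv1 F186994) D155007 (iv5 F243745) D175007 (iv0 F273915) (iv4 D84955) D84954 D178519
theorem F278195 : act 6 n119144 = n178519 := d21_5 (iv5 F56161) (iv1 D35458) (iv5 F42466) D54826 D119144 (iv5 D178519) (iv1 D84954) (iv5 D39298) (iv6 D18644) (iv1 F29911)
theorem F278196 : act 2 n178519 = n119230 := d3_1 F278195 (iv6 D119230) (iv2 F187639)
theorem E24761 : n178516 = n119343 := ((c2_3 D178519 F278196 F187935 F278190)).symm
theorem F278197 : act 2 n119343 = n84954 := (sb E24761 F278190)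
theorem F278198 : act 7 n119343 = n84953 := (sb E24761 (iv7 D178516))
theorem E24762 : n178512 = n174397 := (c8_2 F278198 D178512 F273332 (iv3 F273327))
theorem F278199 : act 3 n174397 = n84953 := (sb E24762 (iv3 D178512))
theorem F278200 : act 7 n178513 = n175122 := d11_2 F278198 D178513 F274104
theorem F278201 : act 7 n178514 = n119230 := d13_2 F278198 D178514 F187935
theorem E24763 : n178511 = n119342 := (c15_4 (iv0 D119342) D119343 F278198 D178511)
theorem F278202 : act 2 n119342 = n84953 := (sb E24763 (iv2 D178511))
theorem F278203 : act 7 n119342 = n84954 := (sb E24763 (iv7 F278186))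
theorem F278204 : act 2 n175122 = n178518 := d15_3 F278192 (iv0 F278187) F278200
theorem F278205 : act 2 n178513 = n175121 := d15_3 (iv0 D175121) D175122 (iv7 F278200)
theorem F278206 : act 4 n175121 = n119342 := d1_2 D178513 F278205 F278202
theorem F278207 : act 7 n175121 = n178518 := d4_2 (iv7 F278200) F278205 (iv2 F278204)
theorem F278208 : act 1 n178513 = n119434 := d15_0 (iv0 F278191) (iv7 F278207) (iv2 F278205)
def n178520 : Q := act 6 n84954
theorem D178520 : act 6 n84954 = n178520 := rfl
def n178521 : Q := act 3 n84955
theorem D178521 : act 3 n84955 = n178521 := rfl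
def n178522 : Q := act 5 n84955
theorem D178522 : act 5 n84955 = n178522 := rfl
def n178523 : Q := act 7 n84955
theorem D178523 : act 7 n84955 = n178523 := rfl
theorem F278209 : act 4 n178523 = n84956 := d11_1 D178523 (iv7 D84956) D84955
def n178524 : Q := act 6 n84956
theorem D178524 : act 6 n84956 = n178524 := rfl
def n178525 : Q := act 3 n84994
theorem D178525 : act 3 n84994 = n178525 := rfl
def n178526 : Q := act 5 n84994
theorem D178526 : act 5 n84994 = n178526 := rfl
def n178527 : Q := act 6 n84994
theorem D178527 : act 6 n84994 = n178527 := rfl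
theorem F278210 : act 2 n178527 = n146978 := d3_1 D178527 F230368 F187995
theorem F278211 : act 4 n178527 = n84995 := d10_1 D178527 (iv6 D84995) D84994
theorem F278212 : act 7 n146981 = n178527 := d11_0 F278211 (iv7 F131628) D146981
def n178528 : Q := act 3 n85005
theorem D178528 : act 3 n85005 = n178528 := rfl
theorem F278213 : act 4 n178528 = n114775 := d5_2 D85005 D178528 F199570 (iv4 D124729) F190133
theorem F278214 : act 7 n178528 = n152195 := d8_2 F188002 D178528 F259176
theorem F278215 : act 0 n106158 = n152192 := d20_10 F239275 (iv1 F258996) (iv4 F278213) (iv3 D178528) (iv1 F206160) F206158 F178470 F190359 D114889 F178963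
theorem F278216 : act 4 n121351 = n106136 := d20_0 (iv1 D106136) F77438 F37363 D23937 D49062 D106158 F278215 F239275 (iv3 F235291) (iv1 F235294)
theorem F278217 : act 3 n105426 = n121351 := d5_5 F278216 (iv3 F190336) (iv4 D84420) D84419 (iv4 F235253)
theorem F278218 : act 2 n114776 = n178528 := d1_3 F278213 (iv2 D114775) D114776
def n178529 : Q := act 5 n85005
theorem D178529 : act 5 n85005 = n178529 := rfl
def n178530 : Q := act 6 n85005
theorem D178530 : act 6 n85005 = n178530 := rfl
theorem F278219 : act 4 n178530 = n85007 := d10_1 D178530 (iv6 D85007) D85005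
def n178531 : Q := act 0 n85007
theorem D178531 : act 0 n85007 = n178531 := rfl
theorem F278220 : act 6 n178531 = n148639 := d21_5 (iv5 F187986) F130511 (iv5 D85006) D85007 D178531 (iv5 D148639) (iv1 F237522) (iv5 D146979) F105073 (iv1 F187984)
theorem F278222 : act 2 n153029 = n178531 := d15_3 (iv0 D178531) (iv0 F252724) (iv7 F252723)
theorem F278223 : act 7 n178531 = n153031 := d4_2 (iv7 F252723) F278222 (iv2 F252721)
theorem F278224 : act 1 n119364 = n153031 := d15_1 (iv0 F240334) (iv7 F278223) (iv2 F278222)
theorem F278225 : act 3 n148647 = n178531 := d8_3 F278223 F240335 (iv7 F233405)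
def n178532 : Q := act 7 n85007
theorem D178532 : act 7 n85007 = n178532 := rfl
theorem F278226 : act 5 n178532 = n155744 := d13_1 D178532 F244759 F131022
theorem F278227 : act 1 n153031 = n178532 := d15_1 F278224 (iv7 D178532) (iv2 F188010)
theorem F278229 : act 0 n153032 = n85273 := d21_4 (iv5 F278226) (iv1 F278227) (iv5 D153031) D153032 (iv6 D85273) D85272 F200240 (iv5 D85455) D85456 F244760
def n178533 : Q := act 3 n85008
theorem D178533 : act 3 n85008 = n178533 := rfl
def n178534 : Q := act 4 n85008
theorem D178534 : act 4 n85008 = n178534 := rfl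
theorem F278230 : act 2 n178534 = n128088 := d1_1 D178534 F206151 F206155
theorem F278231 : act 7 n178534 = n149219 := d11_2 F206157 D178534 F234608
theorem F278232 : act 1 n178534 = n119416 := d18_8 (iv1 F188403) (iv4 D84945) (iv1 F86876) F86872 (iv5 F86883) (iv4 F188017) F188020 D178534 (iv5 D119416)
theorem F278233 : act 3 n149207 = n178534 := d20_5 (iv4 F241518) (iv1 D153630) F109179 (iv3 F133022) (iv1 F234583) (iv4 D178534) (iv1 F188020) F188017 (iv3 F187908) (iv1 F241365)
theorem F278234 : act 1 n128091 = n178534 := d15_1 F206164 F278231 (iv2 D149219)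
theorem E24764 : n149219 = n128089 := ((c15_2 (iv0 D128088) D128089 (iv7 F278231) F278230)).symm
theorem F278235 : act 2 n128089 = n70039 := (sb E24764 (iv2 D149219))
theorem F278236 : act 4 n128089 = n119366 := (sb E24764 F234608)
theorem F278237 : act 7 n128089 = n178534 := (sb E24764 (iv7 F278231))
def n178535 : Q := act 5 n85008
theorem D178535 : act 5 n85008 = n178535 := rfl
def n178536 : Q := act 6 n85008
theorem D178536 : act 6 n85008 = n178536 := rfl
def n178537 : Q := act 3 n85009
theorem D178537 : act 3 n85009 = n178537 := rfl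
theorem F278238 : act 4 n178537 = n149222 := d5_2 F185062 D178537 (iv3 D149222) (iv4 D70040) D70039
theorem F278239 : act 0 n178537 = n152187 := d20_7 F190335 (iv1 F120168) (iv4 F259121) F259120 (iv1 F234595) D149222 (iv4 F278238) F239271 F149824 (iv1 F259219)
def n178538 : Q := act 5 n85009
theorem D178538 : act 5 n85009 = n178538 := rfl
def n178539 : Q := act 6 n85009
theorem D178539 : act 6 n85009 = n178539 := rfl
theorem F278240 : act 4 n178539 = n149221 := d10_1 D178539 (iv6 D149221) F185062
def n178540 : Q := act 0 n85010
theorem D178540 : act 0 n85010 = n178540 := rfl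
def n178541 : Q := act 1 n85010
theorem D178541 : act 1 n85010 = n178541 := rfl
def n178542 : Q := act 2 n85010
theorem D178542 : act 2 n85010 = n178542 := rfl
theorem F278241 : act 4 n178542 = n169956 := d1_2 F192422 D178542 F267390
theorem F278242 : act 6 n178542 = n169955 := d3_2 (iv6 F192396) D178542 F267384
def n178543 : Q := act 5 n85010
theorem D178543 : act 5 n85010 = n178543 := rfl
theorem F278243 : act 3 n178543 = n85011 := d6_1 D178543 (iv5 D85011) D85010
def n178544 : Q := act 7 n85010
theorem D178544 : act 7 n85010 = n178544 := rfl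
theorem F278244 : act 3 n178544 = n85012 := d8_1 D178544 (iv7 D85012) D85010
def n178545 : Q := act 0 n85011
theorem D178545 : act 0 n85011 = n178545 := rfl
def n178546 : Q := act 1 n85011
theorem D178546 : act 1 n85011 = n178546 := rfl
theorem F278245 : act 5 n178546 = n149186 := d17_7 F130267 (iv5 D39308) (iv1 D18646) D18647 D39312 D85011 D178546 (iv0 F243685) (iv4 D154977)
def n178547 : Q := act 4 n85011
theorem D178547 : act 4 n85011 = n178547 := rfl
def n178548 : Q := act 6 n85011
theorem D178548 : act 6 n85011 = n178548 := rfl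
theorem F278246 : act 5 n178548 = n100041 := d12_1 D178548 (iv6 D100041) (iv5 F87996) (iv6 F87998) D85011
def n178549 : Q := act 7 n85011
theorem D178549 : act 7 n85011 = n178549 := rfl
theorem F278247 : act 5 n178549 = n85012 := d13_1 D178549 (iv7 D85012) D85011
def n178550 : Q := act 1 n85021
theorem D178550 : act 1 n85021 = n178550 := rfl
theorem F278248 : act 1 n178550 = n85031 := d15_1 D178550 F130391 (iv2 F130372)
theorem F278249 : act 7 n178550 = n85084 := d15_2 F275799 D178550 F275802
theorem F278250 : act 2 n85085 = n178550 := d4_3 F278249 F275802 (iv7 F275803)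
theorem F278251 : act 4 n175317 = n178550 := d18_7 (iv1 F155135) F86866 F155113 (iv4 D38584) D38585 D83721 D175317 F278248 (iv5 D85031)
def n178551 : Q := act 4 n85021
theorem D178551 : act 4 n85021 = n178551 := rfl
theorem F278252 : act 2 n178551 = n85086 := d1_1 D178551 (iv4 D85086) (iv2 F130372)
theorem F278253 : act 7 n178551 = n85131 := d11_2 (iv7 F130373) D178551 (iv4 D85131)
def n178552 : Q := act 6 n85021
theorem D178552 : act 6 n85021 = n178552 := rfl
theorem F278254 : act 2 n178552 = n85087 := d3_1 D178552 (iv6 D85087) (iv2 F130372)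
def n178554 : Q := act 0 n85023
theorem D178554 : act 0 n85023 = n178554 := rfl
theorem F278259 : act 4 n178554 = n175307 := d18_3 (iv1 F110350) D85023 D178554 F274348 F205718 F275801 (iv4 D85182) (iv0 F130507) F130499
theorem F278261 : act 1 n85033 = n178554 := d15_0 (iv0 D178554) F130377 (iv2 F130394)
theorem F278262 : act 7 n178554 = n85098 := d15_2 (iv0 F239966) F278261 (iv2 F239970)
def n178556 : Q := act 5 n85023
theorem D178556 : act 5 n85023 = n178556 := rfl
theorem F278264 : act 2 n178556 = n85100 := d2_1 D178556 (iv5 D85100) (iv2 F130376)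
theorem F278265 : act 7 n178556 = n85138 := d13_2 (iv7 F130377) D178556 (iv5 D85138)
def n178557 : Q := act 6 n85023
theorem D178557 : act 6 n85023 = n178557 := rfl
theorem F278266 : act 2 n178557 = n85101 := d3_1 D178557 (iv6 D85101) (iv2 F130376)
def n178558 : Q := act 1 n85024
theorem D178558 : act 1 n85024 = n178558 := rfl
theorem F278268 : act 1 n178558 = n85105 := d15_1 D178558 (iv7 D85105) (iv2 F130378)
theorem F278269 : act 7 n178558 = n85102 := d15_2 (iv0 F200721) D178558 (iv2 F200711)
theorem F278270 : act 5 n117689 = n178558 := d21_0 (iv1 D178558) F130379 (iv6 D75878) (iv1 D34685) F27559 (iv5 D15265) D15263 (iv5 F41615) D54211 D117689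
theorem F278271 : act 2 n178558 = n85103 := d2_1 F278270 (iv5 F130443) F184300
theorem F278272 : act 3 n178558 = n147425 := d6_1 F278270 (iv5 D147425) (iv3 F243076)
def n178559 : Q := act 1 n85028
theorem D178559 : act 1 n85028 = n178559 := rfl
theorem F278274 : act 7 n178559 = n85064 := d15_2 (iv0 F238835) D178559 (iv2 F232997)
theorem F278276 : act 5 n119036 = n178559 := d13_3 F278274 (iv5 F233002) F188999
theorem F278277 : act 0 n85029 = n155351 := d21_4 F278276 (iv1 D178559) (iv5 D85028) D85029 (iv6 D155351) D155350 (iv1 F244310) (iv5 D149985) D149986 (iv1 F238839)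
def n178560 : Q := act 4 n85028
theorem D178560 : act 4 n85028 = n178560 := rfl
theorem F278278 : act 7 n178560 = n85065 := d11_2 (iv7 F130387) D178560 (iv4 D85065)
def n178561 : Q := act 5 n85029
theorem D178561 : act 5 n85029 = n178561 := rfl
theorem F278280 : act 3 n178561 = n85034 := d6_1 D178561 (iv5 D85034) (iv3 F130388)
theorem F278281 : act 7 n178561 = n152928 := d13_2 F278002 D178561 F278006
theorem F278282 : act 1 n178561 = n153548 := d17_6 F185044 D150627 (iv1 F264488) F264489 F132843 D178561 (iv5 D153548) (iv0 F190224) F106994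
theorem F278283 : act 4 n178561 = n167924 := d18_5 (iv1 F194681) (iv4 F235766) (iv1 F264491) F132843 D178561 F264615 (iv4 D150629) F123935 (iv5 F194682)
theorem F278285 : act 7 n167924 = n150647 := d11_2 (iv7 F278281) F278283 (iv4 F240165)
theorem F278286 : act 2 n150647 = n167923 := d15_3 (iv0 D167923) D167924 F278285
theorem F278287 : act 2 n167924 = n150646 := d15_3 (iv0 D150646) D150647 (iv7 F278285)
theorem F278288 : act 7 n150646 = n167923 := d4_2 (iv7 F278285) F278287 (iv2 F278286)
def n178562 : Q := act 5 n85030
theorem D178562 : act 5 n85030 = n178562 := rfl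
theorem F278289 : act 3 n178562 = n85031 := d6_1 D178562 (iv5 D85031) D85030
def n178564 : Q := act 4 n85031
theorem D178564 : act 4 n85031 = n178564 := rfl
theorem F278292 : act 2 n178564 = n85131 := d1_1 D178564 (iv4 D85131) (iv2 F130390)
theorem F278293 : act 7 n178564 = n85086 := d11_2 (iv7 F130391) D178564 (iv4 D85086)
def n178565 : Q := act 6 n85031
theorem D178565 : act 6 n85031 = n178565 := rfl
theorem F278294 : act 2 n178565 = n85132 := d3_1 D178565 (iv6 D85132) (iv2 F130390)
def n178566 : Q := act 0 n85032
theorem D178566 : act 0 n85032 = n178566 := rfl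
theorem F278295 : act 1 n85136 = n178566 := d15_0 (iv0 D178566) F278059 (iv2 F278057)
theorem F278296 : act 4 n175347 = n178566 := d20_0 (iv1 F278295) F130467 (iv3 F200213) (iv1 D73712) (iv3 F190650) (iv4 F206279) (iv1 F257052) (iv4 D162777) F201135 D175347
theorem F278297 : act 3 n85952 = n175347 := d20_5 (iv4 F106905) (iv1 F201358) F201357 F92581 D85952 F278296 (iv1 F278295) F130467 (iv3 F200213) (iv1 D73712)
theorem F278298 : act 7 n175347 = n85981 := d8_2 (iv7 F155338) F278297 (iv3 D85981)
theorem E24765 : n178566 = n178458 := ((c11_3 F278298 (iv4 F155290) D178458 (iv4 F278296))).symm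
theorem F278299 : act 0 n178458 = n85136 := (sb E24765 (iv1 F278295))
theorem F278300 : act 1 n178458 = n85032 := (sb E24765 (iv0 D178566))
theorem F278301 : act 4 n178458 = n175347 := (sb E24765 (iv4 F278296))
theorem F278302 : act 1 n85032 = n119381 := d15_1 F278300 (iv7 F278062) (iv2 F278066)
theorem F278303 : act 1 n119381 = n85136 := d15_1 F278302 (iv7 D85136) (iv2 F130392)
def n178567 : Q := act 5 n85032
theorem D178567 : act 5 n85032 = n178567 := rfl
theorem F278304 : act 2 n178567 = n85135 := d2_1 D178567 (iv5 D85135) (iv2 F130392)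
theorem F278305 : act 1 n178567 = n119229 := d17_6 F113935 D54728 F130397 (iv5 D85034) (iv4 F130393) D178567 (iv5 D119229) (iv0 D54866) F42498
def n178568 : Q := act 3 n85033
theorem D178568 : act 3 n85033 = n178568 := rfl
theorem F278306 : act 7 n178568 = n85099 := d8_2 (iv7 F130395) D178568 (iv3 D85099)
def n178569 : Q := act 5 n85033
theorem D178569 : act 5 n85033 = n178569 := rfl
theorem F278307 : act 2 n178569 = n85138 := d2_1 D178569 (iv5 D85138) (iv2 F130394)
theorem F278308 : act 7 n178569 = n85100 := d13_2 (iv7 F130395) D178569 (iv5 D85100)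
def n178570 : Q := act 4 n85034
theorem D178570 : act 4 n85034 = n178570 := rfl
theorem F278309 : act 2 n178570 = n85144 := d1_1 D178570 (iv4 D85144) (iv2 F130396)
theorem F278310 : act 7 n178570 = n152929 := d11_2 F130477 D178570 (iv4 D152929)
def n178572 : Q := act 1 n85037
theorem D178572 : act 1 n85037 = n178572 := rfl
theorem F278317 : act 4 n118079 = n178572 := d20_6 (iv4 F107761) (iv1 F185925) (iv4 D118327) (iv3 F185532) (iv1 D118080) (iv3 F185524) (iv1 D178572) (iv4 D85037) (iv3 F186167) (iv1 F86163)
theorem F278319 : act 6 n178572 = n118165 := d10_2 (iv6 F185525) F278317 (iv4 D118165)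
def n178574 : Q := act 5 n85037
theorem D178574 : act 5 n85037 = n178574 := rfl
def n178576 : Q := act 4 n85038
theorem D178576 : act 4 n85038 = n178576 := rfl
theorem F278328 : act 1 n178576 = n150222 := d18_6 (iv1 F234262) F278317 (iv1 D178572) (iv4 D85037) D85038 D178576 F236416 D150227 F274151
def n178581 : Q := act 0 n85043
theorem D178581 : act 0 n85043 = n178581 := rfl
theorem F278335 : act 2 n85183 = n178581 := d15_3 (iv0 D178581) (iv0 F208107) (iv7 F237949)
def n178584 : Q := act 5 n85044
theorem D178584 : act 5 n85044 = n178584 := rfl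
theorem F278343 : act 2 n178584 = n85190 := d2_1 D178584 (iv5 D85190) (iv2 F234257)
theorem F278344 : act 7 n178584 = n85195 := d13_2 (iv7 F234258) D178584 (iv5 D85195)
def n178585 : Q := act 6 n85044
theorem D178585 : act 6 n85044 = n178585 := rfl
theorem F278345 : act 2 n178585 = n85191 := d3_1 D178585 (iv6 D85191) (iv2 F234257)
def n178586 : Q := act 3 n85045
theorem D178586 : act 3 n85045 = n178586 := rfl
theorem F278346 : act 7 n178586 = n85188 := d8_2 (iv7 F234260) D178586 (iv3 D85188)
def n178587 : Q := act 5 n85045
theorem D178587 : act 5 n85045 = n178587 := rfl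
theorem F278347 : act 2 n178587 = n85195 := d2_1 D178587 (iv5 D85195) (iv2 F234259)
theorem F278348 : act 7 n178587 = n85190 := d13_2 (iv7 F234260) D178587 (iv5 D85190)
def n178588 : Q := act 6 n85045
theorem D178588 : act 6 n85045 = n178588 := rfl
theorem F278349 : act 2 n178588 = n85196 := d3_1 D178588 (iv6 D85196) (iv2 F234259)
def n178591 : Q := act 2 n85046
theorem D178591 : act 2 n85046 = n178591 := rfl
theorem F278350 : act 3 n178591 = n85199 := d0_2 D85046 D178591 (iv2 D85199) (iv3 D39384) (iv2 F60292)
def n178595 : Q := act 1 n85047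
theorem D178595 : act 1 n85047 = n178595 := rfl
theorem F278354 : act 1 n178595 = n85206 := d15_1 D178595 (iv7 D85206) (iv2 F130404)
def n178596 : Q := act 6 n85047
theorem D178596 : act 6 n85047 = n178596 := rfl
theorem F278355 : act 2 n178596 = n85205 := d3_1 D178596 (iv6 D85205) (iv2 F130404)
def n178598 : Q := act 5 n85051
theorem D178598 : act 5 n85051 = n178598 := rfl
def n178599 : Q := act 4 n85052
theorem D178599 : act 4 n85052 = n178599 := rfl
theorem F278357 : act 1 n178599 = n86805 := d18_6 D18998 D40233 (iv1 F133057) (iv4 D85051) D85052 D178599 (iv4 D86805) (iv0 D40241) (iv5 D19000)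
theorem F278358 : act 0 n178599 = n86810 := d20_1 D178599 (iv4 D86810) D86809 F236169 (iv3 F239702) (iv4 F239704) (iv1 D85160) (iv4 D39374) D39373 (iv1 F200599)
def n178600 : Q := act 4 n85058
theorem D178600 : act 4 n85058 = n178600 := rfl
theorem F278359 : act 2 n178600 = n85065 := d1_1 D178600 (iv4 D85065) (iv2 F130412)
def n178601 : Q := act 6 n85058
theorem D178601 : act 6 n85058 = n178601 := rfl
theorem F278361 : act 2 n178601 = n85066 := d3_1 D178601 (iv6 D85066) (iv2 F130412)
theorem F278363 : act 5 n178601 = n146508 := d12_1 D178601 (iv6 D146508) F232583 (iv6 D85059) D85058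
theorem F278364 : act 7 n178601 = n148056 := d14_2 F240203 D178601 (iv6 F233164) F233165 (iv6 F240202)
theorem F278365 : act 0 n178601 = n147948 := d21_10 (iv5 D147948) (iv1 D69311) D69312 F105587 F94207 (iv6 F186643) (iv5 D118669) (iv1 F232468) D85058 D178601
theorem E24766 : n148600 = n147949 := ((c21_10 (iv5 D152011) F247746 F247743 (iv6 F183784) (iv1 F183786) D146508 (iv5 F278363) F278365 (iv5 D147948) D147949 (iv1 F247843))).symm
theorem F278367 : act 0 n147949 = n152011 := (sb E24766 (iv1 F247843))
theorem F278368 : act 1 n147949 = n69642 := (sb E24766 (iv0 D148600))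
theorem F278369 : act 1 n178601 = n147945 := d15_1 (iv0 F278365) F247818 (iv2 F247825)
theorem E24767 : n148601 = n148035 := (c15_2 F278368 D148601 (iv7 D148035) (iv2 F247827))
theorem F278370 : act 0 n148035 = n69642 := (sb E24767 (iv1 D148601))
theorem F278371 : act 1 n148035 = n152011 := (sb E24767 F247842)
theorem E24768 : n148056 = n148013 := ((c15_2 F233150 D148013 (iv7 F278364) F278361)).symm
theorem F278372 : act 3 n148013 = n69360 := (sb E24768 (iv3 D148056))
theorem F278374 : act 7 n148013 = n178601 := (sb E24768 (iv7 F278364))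
def n178607 : Q := act 1 n85062
theorem D178607 : act 1 n85062 = n178607 := rfl
theorem F278378 : act 1 n178607 = n149333 := d15_1 D178607 (iv7 F234763) F132838
theorem F278380 : act 4 n178607 = n85803 := d17_9 (iv1 F131660) F215738 (iv1 D70779) (iv5 D32806) (iv4 F51943) D70766 D150295 (iv5 F236522) D178607
theorem F278381 : act 2 n85804 = n178607 := d1_3 F278380 (iv2 D85803) D85804
def n178608 : Q := act 7 n85062
theorem D178608 : act 7 n85062 = n178608 := rfl
theorem F278383 : act 4 n178608 = n85070 := d11_1 D178608 (iv7 D85070) (iv4 F130415)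
theorem F278385 : act 1 n85804 = n178608 := d15_1 (iv0 F200231) (iv7 D178608) (iv2 F132838)
def n178609 : Q := act 4 n85063
theorem D178609 : act 4 n85063 = n178609 := rfl
theorem F278387 : act 0 n178609 = n86797 := d18_2 D85063 D178609 (iv4 D86797) (iv5 D40239) D40238 (iv0 F133056) (iv4 D85051) (iv0 D39334) D39338
theorem F278388 : act 1 n178609 = n86783 := d18_6 F191381 (iv4 F234090) F238821 F238820 (iv5 F233133) D178609 (iv4 D86783) (iv0 F191304) (iv5 F107309)
def n178610 : Q := act 6 n85063
theorem D178610 : act 6 n85063 = n178610 := rfl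
theorem F278389 : act 3 n178610 = n85407 := d7_1 D178610 (iv6 D85407) (iv3 F233132)
theorem F278390 : act 5 n178610 = n151885 := d12_1 D178610 (iv6 D151885) (iv5 D71609) D71610 (iv5 F233133)
def n178611 : Q := act 4 n85064
theorem D178611 : act 4 n85064 = n178611 := rfl
theorem F278391 : act 0 n178611 = n86783 := d18_2 (iv1 F240204) D178611 (iv4 D86783) (iv5 D40234) D40233 (iv0 F232550) F130089 F232470 (iv5 F240201)
def n178612 : Q := act 1 n85065
theorem D178612 : act 1 n85065 = n178612 := rfl
theorem F278392 : act 4 n178612 = n125185 := d18_7 (iv1 F60451) (iv4 F61038) F90869 (iv4 D39337) D39338 D85065 D178612 F201254 (iv5 D85661)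
theorem F278393 : act 2 n125186 = n178612 := d1_3 F278392 (iv2 D125185) D125186
def n178613 : Q := act 3 n85065
theorem D178613 : act 3 n85065 = n178613 := rfl
def n178614 : Q := act 5 n85065
theorem D178614 : act 5 n85065 = n178614 := rfl
def n178615 : Q := act 6 n85065
theorem D178615 : act 6 n85065 = n178615 := rfl
theorem F278395 : act 4 n178615 = n85066 := d10_1 D178615 (iv6 D85066) D85065
def n178616 : Q := act 5 n85066
theorem D178616 : act 5 n85066 = n178616 := rfl
theorem F278396 : act 2 n178616 = n146508 := d2_1 D178616 (iv5 F278363) F278361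
theorem F278397 : act 3 n178616 = n85104 := d6_1 D178616 (iv5 D85104) (iv3 F130417)
theorem F278398 : act 6 n178616 = n85069 := d12_2 D85066 D178616 (iv5 D85069) (iv6 D39339) D39338
theorem F278399 : act 0 n178616 = n119948 := d21_7 F130662 (iv1 F232592) F186745 (iv6 F233000) (iv1 D85064) D85066 D178616 F232925 (iv6 D118835) (iv1 F232694)
theorem F278400 : act 0 n117369 = n178616 := d21_1 (iv5 F231763) (iv5 D178616) (iv6 D85066) D85063 D178610 F278390 (iv1 F238829) (iv5 F231853) (iv6 D148048) (iv1 F231761)
theorem F278401 : act 5 n148032 = n146534 := d21_0 (iv1 F229850) (iv5 F183770) F183771 F233147 (iv6 F278398) (iv5 D178616) F233149 (iv5 D69334) D69335 D148032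
theorem F278402 : act 7 n155313 = n178616 := d15_2 F233055 F244251 F278396
def n178617 : Q := act 7 n85066
theorem D178617 : act 7 n85066 = n178617 := rfl
theorem F278404 : act 3 n178617 = n85105 := d8_1 D178617 (iv7 D85105) (iv3 F130417)
def n178618 : Q := act 4 n85068
theorem D178618 : act 4 n85068 = n178618 := rfl
theorem F278408 : act 0 n178618 = n86779 := d20_1 D178618 F133051 (iv3 F133048) F257016 (iv3 D85812) D85813 (iv1 F227746) (iv4 D144833) (iv3 F227739) (iv1 F227741)
def n178619 : Q := act 5 n85072
theorem D178619 : act 5 n85072 = n178619 := rfl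
theorem F278409 : act 3 n178619 = n85073 := d6_1 D178619 (iv5 D85073) D85072
theorem F278410 : act 4 n175960 = n178619 := d20_8 (iv4 D175395) (iv1 D83754) (iv4 D38594) F29550 D18399 D38675 D83967 D175960 F278409 (iv1 F274436)
theorem E24769 : n175738 = n38675 := (c18_1 (iv1 F275168) D83967 D175960 F278410 (iv5 D178619) F130423 (iv0 D83900) (iv4 D38640) D38638 D83895)
theorem E24770 : n83964 = n83890 := ((D83964).symm.trans (sb E24769 (iv1 D175738)))
theorem E24771 : n83965 = n83895 := ((D83965).symm.trans (sb E24769 F275168))
theorem E24772 : n175737 = n173664 := ((D175737).symm.trans (sb E24770 (iv1 F272157)))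
theorem F278411 : act 1 n83890 = n38675 := (sb E24770 (iv0 D83964))
theorem F278412 : act 0 n83895 = n38675 := (sb E24771 (iv1 D83965))
theorem F278414 : act 1 n173664 = n83890 := (sb E24772 (iv0 D175737))
def n178620 : Q := act 4 n85073
theorem D178620 : act 4 n85073 = n178620 := rfl
theorem F278415 : act 2 n178620 = n175364 := d1_1 D178620 (iv4 F275775) F275772
theorem F278416 : act 7 n178620 = n175365 := d11_2 F187921 D178620 (iv4 F274413)
theorem F278417 : act 1 n178620 = n175159 := d18_6 D38566 (iv4 F94871) (iv1 F131867) (iv4 F60598) D85073 D178620 (iv4 D175159) (iv0 D83660) (iv5 D38568)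
theorem F278418 : act 1 n175163 = n178620 := d15_0 F278417 F274171 (iv2 F274178)
def n178621 : Q := act 6 n85073
theorem D178621 : act 6 n85073 = n178621 := rfl
def n178625 : Q := act 6 n85081
theorem D178625 : act 6 n85081 = n178625 := rfl
theorem F278421 : act 2 n178625 = n85083 := d3_1 D178625 (iv6 D85083) D85081
def n178629 : Q := act 0 n85083
theorem D178629 : act 0 n85083 = n178629 := rfl
def n178632 : Q := act 7 n85083
theorem D178632 : act 7 n85083 = n178632 := rfl
theorem F278425 : act 3 n178632 = n85091 := d8_1 D178632 (iv7 D85091) (iv3 F130427)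
def n178633 : Q := act 3 n85084
theorem D178633 : act 3 n85084 = n178633 := rfl
theorem F278426 : act 4 n175786 = n178633 := d20_8 D85131 F274455 (iv4 D175314) F243982 (iv1 D38651) (iv3 F59456) D83906 D175786 (iv3 D178633) (iv1 F130428)
def n178634 : Q := act 4 n85084
theorem D178634 : act 4 n85084 = n178634 := rfl
theorem F278427 : act 2 n178634 = n175316 := d1_1 D178634 F275798 (iv2 F275802)
theorem F278428 : act 7 n178634 = n175317 := d11_2 F278249 D178634 F278251
theorem F278429 : act 0 n178634 = n175155 := d18_2 D85084 D178634 (iv4 D175155) (iv5 D83658) D83657 (iv0 F131875) (iv4 F60598) (iv0 D39341) D39344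
theorem F278430 : act 1 n178634 = n175147 := d18_6 (iv1 F274417) (iv4 F274150) (iv1 D150227) (iv4 F236416) (iv5 F236417) D178634 (iv4 D175147) D175146 F274421
def n178635 : Q := act 6 n85084
theorem D178635 : act 6 n85084 = n178635 := rfl
def n178636 : Q := act 4 n85085
theorem D178636 : act 4 n85085 = n178636 := rfl
theorem F278431 : act 2 n178636 = n175317 := d1_1 D178636 F278251 (iv2 F278250)
theorem F278432 : act 7 n178636 = n175316 := d11_2 (iv7 F275803) D178636 F275798
theorem F278433 : act 0 n178636 = n175147 := d18_2 (iv1 F130429) D178636 (iv4 D175147) (iv5 D83653) (iv4 F94871) (iv0 F155131) F130112 (iv0 F155155) D39364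
theorem F278434 : act 0 n175155 = n178636 := d20_1 D175155 (iv4 D178636) (iv3 F275804) (iv1 D173697) F128033 D83073 (iv1 F272079) (iv4 D173615) D173614 (iv1 F272074)
def n178637 : Q := act 5 n85085
theorem D178637 : act 5 n85085 = n178637 := rfl
theorem F278435 : act 3 n178637 = n172827 := d6_1 D178637 F272236 F275804
theorem F278436 : act 7 n178637 = n119139 := d13_2 (iv7 F275803) D178637 (iv5 F275797)
theorem F278437 : act 1 n178637 = n178576 := d17_8 F130401 (iv5 F110345) (iv1 D39348) (iv5 D18656) D18655 D39344 D85085 D178637 (iv4 D178576)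
def n178638 : Q := act 6 n85085
theorem D178638 : act 6 n85085 = n178638 := rfl
def n178639 : Q := act 3 n85086
theorem D178639 : act 3 n85086 = n178639 := rfl
def n178640 : Q := act 6 n85086
theorem D178640 : act 6 n85086 = n178640 := rfl
theorem F278440 : act 4 n178640 = n85087 := d10_1 D178640 (iv6 D85087) D85086
def n178645 : Q := act 4 n85089
theorem D178645 : act 4 n85089 = n178645 := rfl
theorem F278444 : act 0 n178645 = n128337 := d17_0 F229087 (iv1 D145913) F104601 (iv4 F107107) D150102 (iv0 F236229) (iv5 D85090) D85089 D178645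
def n178649 : Q := act 3 n85093
theorem D178649 : act 3 n85093 = n178649 := rfl
def n178650 : Q := act 5 n85093
theorem D178650 : act 5 n85093 = n178650 := rfl
theorem F278458 : act 0 n178650 = n178584 := d17_2 F274353 D178650 (iv5 D178584) (iv4 F206474) (iv5 F266241) F274159 (iv5 F274348) (iv0 D175307) D175308
theorem F278459 : act 1 n178650 = n178587 := d17_6 (iv1 F60291) (iv5 F87546) (iv1 F130436) (iv5 D85094) D85093 D178650 (iv5 D178587) F130403 F60327
def n178651 : Q := act 6 n85093
theorem D178651 : act 6 n85093 = n178651 := rfl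
theorem F278460 : act 4 n178651 = n85095 := d10_1 D178651 (iv6 D85095) D85093
def n178652 : Q := act 3 n85096
theorem D178652 : act 3 n85096 = n178652 := rfl
theorem F278461 : act 4 n178652 = n85309 := d5_2 D85096 D178652 (iv3 D85309) (iv4 D39417) (iv3 F110344)
def n178653 : Q := act 5 n85096
theorem D178653 : act 5 n85096 = n178653 := rfl
theorem F278462 : act 0 n178653 = n178587 := d17_2 F274390 D178653 (iv5 D178587) F237365 (iv5 F237368) (iv0 F239707) F236422 (iv0 F239968) D175345
theorem F278463 : act 1 n178653 = n178584 := d17_6 D39324 D85038 F130401 (iv5 F110345) D85096 D178653 (iv5 D178584) (iv0 D85044) (iv4 D39326)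
def n178654 : Q := act 3 n85097
theorem D178654 : act 3 n85097 = n178654 := rfl
def n178655 : Q := act 5 n85097
theorem D178655 : act 5 n85097 = n178655 := rfl
theorem F278464 : act 0 n178655 = n178574 := d17_2 D85097 D178655 (iv5 D178574) (iv4 D85037) D85038 F130506 (iv5 D85094) (iv0 D39347) D39349
def n178656 : Q := act 6 n85097
theorem D178656 : act 6 n85097 = n178656 := rfl
def n178657 : Q := act 3 n85098
theorem D178657 : act 3 n85098 = n178657 := rfl
def n178658 : Q := act 4 n85098
theorem D178658 : act 4 n85098 = n178658 := rfl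
theorem F278466 : act 2 n178658 = n125172 := d1_1 D178658 (iv4 F239964) F239970
theorem F278467 : act 7 n178658 = n175307 := d11_2 F278262 D178658 (iv4 F278259)
theorem F278468 : act 1 n178658 = n175153 := d18_8 (iv1 F155132) F130112 (iv1 F155154) (iv4 D18655) D18656 D39349 D85098 D178658 (iv5 D175153)
theorem F278469 : act 1 n128336 = n178658 := d15_0 F278468 F274146 (iv2 F206453)
def n178659 : Q := act 5 n85098
theorem D178659 : act 5 n85098 = n178659 := rfl
theorem F278471 : act 0 n178574 = n178659 := d21_1 D178574 (iv5 D178659) F239971 (iv1 D152325) F108331 D71875 D152348 F239541 (iv6 F278319) (iv1 D178572)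
def n178660 : Q := act 0 n85099
theorem D178660 : act 0 n85099 = n178660 := rfl
def n178661 : Q := act 1 n85099
theorem D178661 : act 1 n85099 = n178661 := rfl
def n178662 : Q := act 2 n85099
theorem D178662 : act 2 n85099 = n178662 := rfl
def n178663 : Q := act 5 n85099
theorem D178663 : act 5 n85099 = n178663 := rfl
theorem F278472 : act 3 n178663 = n85100 := d6_1 D178663 (iv5 D85100) D85099
def n178664 : Q := act 6 n85099
theorem D178664 : act 6 n85099 = n178664 := rfl
theorem F278473 : act 3 n178664 = n85101 := d7_1 D178664 (iv6 D85101) D85099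
def n178665 : Q := act 0 n85100
theorem D178665 : act 0 n85100 = n178665 := rfl
theorem F278474 : act 5 n178665 = n85159 := d17_1 D178665 (iv1 F130498) D85180 (iv4 F274433) (iv5 D175391) (iv0 D83753) D83756 D175404 (iv4 F274449)
theorem F278475 : act 1 n85138 = n178665 := d15_0 (iv0 D178665) (iv7 F278308) F278307
def n178666 : Q := act 1 n85100
theorem D178666 : act 1 n85100 = n178666 := rfl
theorem F278476 : act 1 n178666 = n85138 := d15_1 D178666 (iv7 F278265) F278264
theorem F278477 : act 5 n178666 = n85160 := d17_7 (iv1 D18664) (iv5 D8759) D8757 D18656 D39349 D85100 D178666 F130494 (iv4 D39379)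
def n178667 : Q := act 6 n85100
theorem D178667 : act 6 n85100 = n178667 := rfl
def n178668 : Q := act 0 n85101
theorem D178668 : act 0 n85101 = n178668 := rfl
def n178669 : Q := act 1 n85101
theorem D178669 : act 1 n85101 = n178669 := rfl
def n178670 : Q := act 5 n85101
theorem D178670 : act 5 n85101 = n178670 := rfl
def n178671 : Q := act 7 n85101
theorem D178671 : act 7 n85101 = n178671 := rfl
theorem F278478 : act 4 n178671 = n85105 := d11_1 D178671 (iv7 D85105) (iv4 F130439)
def n178672 : Q := act 4 n85102
theorem D178672 : act 4 n85102 = n178672 := rfl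
def n178673 : Q := act 4 n85103
theorem D178673 : act 4 n85103 = n178673 := rfl
def n178674 : Q := act 4 n85104
theorem D178674 : act 4 n85104 = n178674 := rfl
theorem F278479 : act 2 n178674 = n158956 := d1_1 D178674 F250297 (iv2 F130441)
theorem F278480 : act 6 n178674 = n85106 := d10_2 (iv6 F130442) D178674 (iv4 D85106)
def n178675 : Q := act 7 n85104
theorem D178675 : act 7 n85104 = n178675 := rfl
theorem F278481 : act 2 n178675 = n146970 := d4_1 D178675 F230362 (iv2 F130441)
theorem F278482 : act 3 n178675 = n155313 := d8_1 D178675 F278402 F278397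
theorem F278483 : act 5 n178675 = n85105 := d13_1 D178675 (iv7 D85105) D85104
theorem F278484 : act 6 n178675 = n151282 := d14_1 D178675 F238005 (iv6 D75874) (iv7 F130141) (iv6 F130442)
theorem F278485 : act 1 n146834 = n178675 := d15_1 (iv0 F230190) (iv7 D178675) F130441
theorem F278486 : act 1 n178675 = n119859 := d15_1 F278485 F189193 (iv2 F230187)
def n178676 : Q := act 1 n85106
theorem D178676 : act 1 n85106 = n178676 := rfl
theorem F278487 : act 1 n178676 = n146661 := d15_1 D178676 F229959 (iv2 F130444)
theorem F278488 : act 7 n178676 = n117251 := d15_2 (iv0 F155240) D178676 F183479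
theorem F278489 : act 2 n146938 = n178676 := d4_3 F278488 F183479 D146938
theorem F278490 : act 6 n146930 = n178676 := d14_5 F278488 (iv6 D117251) (iv7 F85270) D68876 D146930
def n178677 : Q := act 3 n85106
theorem D178677 : act 3 n85106 = n178677 := rfl
theorem F278491 : act 7 n178677 = n158950 := d8_2 (iv7 F130445) D178677 (iv3 D158950)
def n178678 : Q := act 5 n85106
theorem D178678 : act 5 n85106 = n178678 := rfl
theorem F278492 : act 2 n178678 = n158955 := d2_1 D178678 (iv5 D158955) (iv2 F130444)
theorem F278493 : act 7 n178678 = n158951 := d13_2 (iv7 F130445) D178678 (iv5 D158951)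
def n178680 : Q := act 5 n85117
theorem D178680 : act 5 n85117 = n178680 := rfl
theorem F278495 : act 3 n178680 = n85118 := d6_1 D178680 (iv5 D85118) D85117
def n178681 : Q := act 6 n85117
theorem D178681 : act 6 n85117 = n178681 := rfl
theorem F278496 : act 3 n178681 = n85119 := d7_1 D178681 (iv6 D85119) D85117
theorem F278497 : act 4 n178681 = n85130 := d10_1 D178681 (iv6 D85130) (iv4 F130458)
def n178682 : Q := act 1 n85118
theorem D178682 : act 1 n85118 = n178682 := rfl
theorem F278500 : act 5 n178682 = n149938 := d17_7 (iv1 F189043) F189040 F199839 (iv5 D39361) D39360 D85118 D178682 F235953 F235950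
def n178687 : Q := act 4 n85129
theorem D178687 : act 4 n85129 = n178687 := rfl
def n178688 : Q := act 6 n85129
theorem D178688 : act 6 n85129 = n178688 := rfl
theorem F278507 : act 3 n178688 = n85132 := d7_1 D178688 (iv6 D85132) (iv3 F130465)
def n178689 : Q := act 5 n85130
theorem D178689 : act 5 n85130 = n178689 := rfl
theorem F278508 : act 3 n178689 = n85135 := d6_1 D178689 (iv5 D85135) (iv3 F130466)
theorem F278509 : act 0 n98260 = n178689 := d21_1 D98260 (iv5 D178689) (iv6 D85130) (iv1 F128218) (iv6 D83158) F88732 (iv1 D56063) (iv5 F72445) D98180 (iv1 F151626)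
theorem F278510 : act 1 n172496 = n178689 := d15_0 (iv0 F278509) F151634 (iv2 F270698)
def n178690 : Q := act 3 n85131
theorem D178690 : act 3 n85131 = n178690 := rfl
def n178691 : Q := act 6 n85131
theorem D178691 : act 6 n85131 = n178691 := rfl
theorem F278511 : act 4 n178691 = n85132 := d10_1 D178691 (iv6 D85132) D85131
def n178692 : Q := act 0 n85132
theorem D178692 : act 0 n85132 = n178692 := rfl
def n178693 : Q := act 1 n85132
theorem D178693 : act 1 n85132 = n178693 := rfl
def n178694 : Q := act 5 n85132
theorem D178694 : act 5 n85132 = n178694 := rfl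
theorem F278512 : act 6 n178694 = n85135 := d12_2 D85132 D178694 (iv5 D85135) (iv6 D39365) D39364
def n178695 : Q := act 7 n85132
theorem D178695 : act 7 n85132 = n178695 := rfl
def n178696 : Q := act 4 n85133
theorem D178696 : act 4 n85133 = n178696 := rfl
theorem F278513 : act 2 n178696 = n175347 := d1_1 D178696 (iv4 F278301) F278066
theorem F278514 : act 6 n178696 = n128278 := d10_2 F278064 D178696 F206402
theorem F278515 : act 7 n178696 = n175064 := d11_2 (iv7 F278062) D178696 F274030
theorem F278516 : act 1 n167837 = n178696 := d15_1 F264409 F278515 F274028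
theorem F278517 : act 1 n178696 = n175154 := d15_0 F274162 (iv7 F278298) (iv2 F278513)
theorem E24783 : n176497 = n176477 := (c20_4 (iv4 F274161) (iv1 F278517) (iv4 D178696) (iv3 F278063) (iv1 F275785) F129196 F59818 F117733 D37446 D81824 (iv1 F264410))
theorem F278518 : act 2 n176477 = n84156 := (sb E24783 (iv2 D176497))
theorem F278519 : act 3 n176477 = n85133 := (sb E24783 F278063)
theorem F278520 : act 7 n176477 = n84157 := (sb E24783 F275811)
theorem E24784 : n176478 = n173214 := ((c15_4 F275779 F275785 F278520 (iv2 F271519))).symm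
theorem F278521 : act 0 n173214 = n84151 := (sb E24784 (iv1 D176478))
theorem F278522 : act 1 n173214 = n84159 := (sb E24784 F275779)
def n178697 : Q := act 0 n85135
theorem D178697 : act 0 n85135 = n178697 := rfl
def n178698 : Q := act 1 n85135
theorem D178698 : act 1 n85135 = n178698 := rfl
theorem F278523 : act 5 n178698 = n119144 := d17_7 F110796 F130470 (iv1 D85143) (iv5 D39370) (iv4 F60323) D85135 D178698 (iv0 D119144) F86763
theorem F278524 : act 2 n119229 = n178698 := d2_3 F278523 F187639 D119229
theorem F278525 : act 7 n119232 = n178698 := d13_0 F278523 F187640 D119232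
theorem F278526 : act 2 n119232 = n178697 := d15_3 (iv0 D178697) D178698 (iv7 F278525)
theorem F278527 : act 5 n178697 = n119145 := d2_2 D119232 F278526 (iv2 F187643)
theorem F278528 : act 7 n178697 = n119229 := d4_2 (iv7 F278525) F278526 F278524
theorem F278529 : act 1 n119232 = n178567 := d15_0 F278305 (iv7 F278528) (iv2 F278526)
theorem F278530 : act 0 n167812 = n118231 := d17_2 F274031 (iv5 F264256) (iv5 D118231) F185139 D119232 F278529 (iv5 D178567) F278302 (iv4 F274030)
theorem F278531 : act 3 n158325 = n178697 := d8_3 F278528 (iv3 F275814) F275815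
def n178699 : Q := act 4 n85135
theorem D178699 : act 4 n85135 = n178699 := rfl
theorem F278532 : act 0 n178699 = n152925 := d18_2 (iv1 D178698) D178699 (iv4 D152925) (iv5 D72179) (iv4 D33318) F110794 (iv4 F86812) F187463 (iv5 F278523)
def n178700 : Q := act 7 n85135
theorem D178700 : act 7 n85135 = n178700 := rfl
theorem F278533 : act 5 n178700 = n85136 := d13_1 D178700 (iv7 D85136) D85135
theorem F278534 : act 1 n119229 = n178700 := d15_1 F278305 (iv7 D178700) (iv2 F278304)
theorem F278535 : act 1 n178700 = n119232 := d15_1 F278534 F278525 (iv2 F278524)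
def n178704 : Q := act 5 n85137
theorem D178704 : act 5 n85137 = n178704 := rfl
theorem F278536 : act 3 n178704 = n85138 := d6_1 D178704 (iv5 D85138) D85137
def n178706 : Q := act 6 n85138
theorem D178706 : act 6 n85138 = n178706 := rfl
def n178709 : Q := act 0 n85141
theorem D178709 : act 0 n85141 = n178709 := rfl
theorem F278539 : act 1 n151283 = n178709 := d15_0 (iv0 D178709) (iv7 F240013) F240011
theorem F278540 : act 6 n152176 = n178709 := d21_9 F239501 (iv1 D152332) (iv5 F187079) (iv6 D118962) (iv1 F86589) D54893 F86833 (iv1 F209040) D152176 (iv1 F278539)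
def n178710 : Q := act 1 n85141
theorem D178710 : act 1 n85141 = n178710 := rfl
theorem F278542 : act 1 n178710 = n151283 := d15_1 D178710 (iv7 F240009) F240007
def n178711 : Q := act 4 n85141
theorem D178711 : act 4 n85141 = n178711 := rfl
theorem F278543 : act 6 n178711 = n85144 := d10_2 (iv6 F130469) D178711 (iv4 D85144)
def n178712 : Q := act 4 n85143
theorem D178712 : act 4 n85143 = n178712 := rfl
theorem F278544 : act 2 n178712 = n118915 := d1_1 D178712 (iv4 D118915) (iv2 F130471)
theorem F278545 : act 7 n178712 = n119241 := d11_2 (iv7 F130473) D178712 (iv4 D119241)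
theorem F278547 : act 1 n178712 = n152930 := d15_0 (iv0 D152930) (iv7 F186978) (iv2 F278544)
def n178713 : Q := act 0 n85144
theorem D178713 : act 0 n85144 = n178713 := rfl
def n178714 : Q := act 1 n85144
theorem D178714 : act 1 n85144 = n178714 := rfl
theorem F278548 : act 1 n178714 = n152929 := d15_1 D178714 (iv7 F278310) F278309
def n178715 : Q := act 3 n85144
theorem D178715 : act 3 n85144 = n178715 := rfl
def n178716 : Q := act 5 n85144
theorem D178716 : act 5 n85144 = n178716 := rfl
def n178717 : Q := act 7 n85144
theorem D178717 : act 7 n85144 = n178717 := rfl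
theorem F278549 : act 2 n178717 = n152929 := d4_1 D178717 (iv7 F278310) F278309
theorem F278550 : act 4 n178717 = n85145 := d11_1 D178717 (iv7 D85145) D85144
theorem F278551 : act 1 n152929 = n178713 := d15_0 (iv0 D178713) D178717 F278549
theorem F278552 : act 6 n148655 = n178717 := d10_0 F278550 (iv6 F200088) D148655
def n178722 : Q := act 6 n85156
theorem D178722 : act 6 n85156 = n178722 := rfl
theorem F278562 : act 7 n178722 = n159975 := d14_2 (iv7 F191420) D178722 (iv6 D159975) F232723 D120221
theorem F278563 : act 0 n178722 = n154941 := d21_10 (iv5 D154941) F241364 (iv5 F86854) (iv6 D54910) (iv1 F42534) D39273 (iv5 F86521) (iv1 F232584) D85156 D178722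
theorem F278564 : act 1 n178722 = n160116 := d15_1 (iv0 F278563) F252717 (iv2 F243643)
def n178738 : Q := act 0 n85166
theorem D178738 : act 0 n85166 = n178738 := rfl
theorem F278577 : act 5 n178738 = n178550 := d17_1 D178738 (iv1 D178550) (iv5 D85021) (iv4 D39316) D39317 F110350 (iv5 F130499) (iv0 D85165) D85166
theorem F278580 : act 1 n85182 = n178738 := d15_0 (iv0 D178738) F191423 F191421
theorem F278582 : act 6 n178468 = n178738 := d21_9 (iv5 F274435) (iv1 F274437) (iv5 D84903) (iv6 D39281) (iv1 D18636) D18638 D39287 D84922 D178468 (iv1 F278580)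
def n178740 : Q := act 6 n85166
theorem D178740 : act 6 n85166 = n178740 := rfl
theorem F278583 : act 4 n178740 = n85167 := d10_1 D178740 (iv6 D85167) D85166
theorem F278584 : act 0 n178740 = n178519 := d21_4 D84903 (iv1 F274431) F274430 D178740 (iv6 F278195) (iv5 F278523) (iv1 D178698) (iv5 D85135) (iv6 D39365) F155155
theorem F278585 : act 1 n178740 = n178514 := d15_1 (iv0 F278584) F278201 (iv2 F278196)
theorem F278586 : act 5 n119565 = n158931 := d21_2 D55028 (iv1 F188549) (iv6 F278189) (iv1 F278585) (iv6 D178740) (iv5 F274430) (iv1 F274432) (iv5 D85073) (iv6 F184585) (iv1 F87018)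
def n178742 : Q := act 5 n85169
theorem D178742 : act 5 n85169 = n178742 := rfl
theorem F278588 : act 6 n178742 = n146833 := d12_2 (iv6 F200861) D178742 (iv5 D146833) D146834 F230189
theorem F278589 : act 7 n178742 = n119701 := d13_2 F239462 D178742 (iv5 F239461)
theorem F278591 : act 0 n178742 = n155011 := d21_4 (iv5 D68838) D68836 D146833 (iv6 F278588) F243761 D160127 F252726 (iv5 F243705) F243706 (iv1 D146836)
theorem F278592 : act 1 n152720 = n155011 := d15_0 (iv0 F278591) F278589 (iv2 F239924)
def n178743 : Q := act 4 n85170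
theorem D178743 : act 4 n85170 = n178743 := rfl
theorem F278593 : act 0 n178743 = n146993 := d20_1 D178743 F230396 F106441 D70055 F234406 D70212 F234919 F185467 (iv3 F185448) (iv1 F185450)
theorem E24785 : n152846 = n152824 := ((c18_2 (iv1 F239522) D152824 (iv1 D152846) (iv4 F228058) F228059 (iv4 F230396) (iv0 F278593) (iv4 D178743) F185450 (iv5 F239520))).symm
theorem F278594 : act 0 n152824 = n72121 := (sb E24785 (iv1 D152846))
theorem E24786 : n149511 = n145105 := ((c20_5 D152824 F278594 (iv4 F228058) F228057 D145105 (iv3 D149511) D149512 (iv1 F237155) F237152 (iv3 F239519) (iv1 F239522))).symm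
theorem E24789 : n144988 = n127760 := ((F228073).symm.trans (sb E24786 F235127))
theorem E24791 : n67971 = n59991 := ((((iv5 D127760)).symm.trans (sb E24789 (iv5 D144988)))).symm
theorem E24792 : n127756 = n31633 := ((D127756).symm.trans (sb E24791 (iv1 D67971)))
theorem E24793 : n127757 = n117116 := ((D127757).symm.trans (sb E24791 F183181))
theorem E24794 : n144985 = n127758 := (((D127758).symm.trans (sb E24791 (iv2 F227948)))).symm
theorem E24797 : n144989 = n127761 := (((D127761).symm.trans (sb E24791 D144989))).symm
theorem E24798 : n144980 = n105853 := ((((iv7 F182289)).symm.trans (sb E24791 F227946))).symm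
theorem F278602 : act 1 n31633 = n59991 := (sb E24792 (iv0 D127756))
theorem F278603 : act 0 n117116 = n59991 := (sb E24793 (iv1 D127757))
theorem F278604 : act 7 n127758 = n67970 := (sb E24794 (iv7 D144985))
theorem F278605 : act 0 n127761 = n149202 := (sb E24797 F234577)
theorem E24799 : n149218 = n146259 := ((((iv5 F229573)).symm.trans (sb E24797 F234607))).symm
theorem F278606 : act 2 n105853 = n67970 := (sb E24798 (iv2 D144980))
theorem F278607 : act 0 n146259 = n70037 := (sb E24799 (iv1 D149218))
theorem E24800 : n144981 = n116910 := (c0_3 D105853 F278606 D144981 F237424 (iv3 D59986) F182241)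
theorem F278608 : act 3 n116910 = n67970 := (sb E24800 (iv3 D144981))
theorem F278609 : act 2 n144984 = n131631 := d3_3 (iv6 F210861) F278606 D144984
theorem F278610 : act 3 n108405 = n144984 := d0_0 F278609 F210860 (iv2 F182260) (iv3 F237430) (iv2 F200036)
theorem E24801 : n131427 = n108404 := ((c2_4 (iv5 F227947) F278609 (iv5 D131631) (iv2 F237443))).symm
theorem E24802 : n133838 = n61685 := ((F237441).symm.trans (sb E24801 (iv1 D131427)))
theorem E24803 : n133837 = n61706 := ((F237442).symm.trans (sb E24801 F210650))
theorem F278611 : act 5 n108404 = n144984 := (sb E24801 (iv5 F227947))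
theorem E24804 : n131426 = n62851 := ((D131426).symm.trans (sb E24802 (iv1 D133838)))
theorem F278612 : act 1 n61685 = n108404 := (sb E24802 (iv0 F237441))
theorem F278613 : act 0 n61706 = n108404 := (sb E24803 (iv1 F237442))
theorem F278614 : act 0 n62851 = n61706 := (sb E24804 (iv1 F210654))
theorem F278615 : act 1 n62851 = n61685 := (sb E24804 (iv0 D131426))
theorem E24805 : n145081 = n133841 := (((D133841).symm.trans (sb E24804 (iv5 F228029)))).symm
theorem F278616 : act 1 n133841 = n68004 := (sb E24805 (iv0 D145081))
theorem F278617 : act 0 n133842 = n131452 := d21_4 (iv5 D145083) (iv1 F278616) (iv5 D133841) D133842 (iv6 D131452) (iv5 F96283) (iv1 F184620) F184621 (iv6 F226410) F228030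
theorem E24806 : n131395 = n118019 := (c21_11 F215498 F278617 F210713 (iv6 D70012) D70009 (iv6 F215292) (iv5 D133752) (iv1 F210393) (iv5 F210607) F210608 (iv1 F210603))
theorem F278618 : act 0 n118019 = n61669 := (sb E24806 (iv1 D131395))
theorem F278619 : act 1 n118019 = n70066 := (sb E24806 F210603)
theorem F278620 : act 1 n133842 = n131596 := d15_1 (iv0 F278617) (iv7 D131596) (iv2 F210712)
theorem E24807 : n131394 = n118005 := (c15_2 F278619 F210609 F200059 (iv2 F237531))
theorem F278621 : act 0 n118005 = n70066 := (sb E24807 (iv1 F210609))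
theorem F278622 : act 1 n118005 = n61669 := (sb E24807 (iv0 D131394))
theorem F278623 : act 3 n144983 = n145168 := d6_3 (iv5 F228158) F278608 D144983
theorem E24808 : n148124 = n117896 := (c20_8 (iv4 F41115) (iv1 F41118) F104777 D59991 (iv1 F278602) (iv3 F104079) (iv4 F105681) D148124 (iv4 D117896) (iv3 D54305) (iv1 F41684))
theorem F278624 : act 1 n117896 = n69398 := (sb E24808 (iv0 D148124))
theorem F278625 : act 4 n144976 = n147057 := d20_2 (iv4 F104081) D144976 (iv3 D147057) (iv1 F105130) F51145 (iv4 F41115) (iv1 F41118) F104777 D59991 (iv1 F278602)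
theorem F278626 : act 7 n147889 = n144976 := d11_0 F278625 F241163 D147889
def n178755 : Q := act 6 n85183
theorem D178755 : act 6 n85183 = n178755 := rfl
theorem F278635 : act 3 n178755 = n85518 := d7_1 D178755 (iv6 D85518) (iv3 F237947)
def n178757 : Q := act 1 n85185
theorem D178757 : act 1 n85185 = n178757 := rfl
theorem F278636 : act 7 n178757 = n152884 := d15_2 (iv0 F247723) D178757 (iv2 F247719)
theorem F278637 : act 5 n119615 = n178757 := d21_0 (iv1 D178757) (iv5 D85185) (iv6 D39381) (iv1 D18664) (iv6 F21107) (iv5 D12715) D12713 D26604 D55038 D119615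
theorem F278639 : act 3 n178757 = n154696 := d6_1 F278637 (iv5 D154696) (iv3 F243069)
def n178759 : Q := act 0 n85188
theorem D178759 : act 0 n85188 = n178759 := rfl
def n178761 : Q := act 2 n85188
theorem D178761 : act 2 n85188 = n178761 := rfl
def n178762 : Q := act 4 n85188
theorem D178762 : act 4 n85188 = n178762 := rfl
def n178763 : Q := act 5 n85188
theorem D178763 : act 5 n85188 = n178763 := rfl
theorem F278640 : act 3 n178763 = n85190 := d6_1 D178763 (iv5 D85190) D85188
def n178764 : Q := act 6 n85188
theorem D178764 : act 6 n85188 = n178764 := rfl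
theorem F278641 : act 3 n178764 = n85191 := d7_1 D178764 (iv6 D85191) D85188
def n178765 : Q := act 6 n85189
theorem D178765 : act 6 n85189 = n178765 := rfl
theorem F278643 : act 4 n178765 = n85191 := d10_1 D178765 (iv6 D85191) D85189
def n178766 : Q := act 0 n85190
theorem D178766 : act 0 n85190 = n178766 := rfl
theorem F278646 : act 5 n178766 = n152749 := d17_3 D39382 D85190 D178766 F239949 (iv5 F130499) (iv0 D85165) (iv5 D39375) (iv0 D18663) D18665
theorem F278647 : act 1 n85195 = n178766 := d15_0 (iv0 D178766) (iv7 F278348) F278347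
theorem F278648 : act 2 n178653 = n178766 := d2_3 F278646 F239948 D178653
theorem F278649 : act 7 n178650 = n178766 := d13_0 F278646 (iv7 F239950) D178650
def n178767 : Q := act 1 n85190
theorem D178767 : act 1 n85190 = n178767 := rfl
theorem F278650 : act 1 n178767 = n85195 := d15_1 D178767 (iv7 F278344) F278343
theorem F278651 : act 7 n178767 = n178653 := d15_2 (iv0 D178766) D178767 F278648
theorem F278652 : act 2 n178650 = n178767 := d4_3 F278651 F278648 (iv7 F278649)
theorem F278653 : act 5 n124956 = n178767 := d13_3 F278651 (iv5 D178653) (iv7 F200680)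
def n178768 : Q := act 6 n85190
theorem D178768 : act 6 n85190 = n178768 := rfl
def n178776 : Q := act 5 n85193
theorem D178776 : act 5 n85193 = n178776 := rfl
theorem F278655 : act 3 n178776 = n85195 := d6_1 D178776 (iv5 D85195) D85193
def n178777 : Q := act 6 n85193
theorem D178777 : act 6 n85193 = n178777 := rfl
theorem F278656 : act 3 n178777 = n85196 := d7_1 D178777 (iv6 D85196) D85193
def n178778 : Q := act 6 n85194
theorem D178778 : act 6 n85194 = n178778 := rfl
theorem F278657 : act 4 n178778 = n85196 := d10_1 D178778 (iv6 D85196) D85194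
def n178779 : Q := act 6 n85195
theorem D178779 : act 6 n85195 = n178779 := rfl
def n178780 : Q := act 0 n85196
theorem D178780 : act 0 n85196 = n178780 := rfl
def n178781 : Q := act 1 n85196
theorem D178781 : act 1 n85196 = n178781 := rfl
def n178782 : Q := act 5 n85196
theorem D178782 : act 5 n85196 = n178782 := rfl
def n178783 : Q := act 7 n85196
theorem D178783 : act 7 n85196 = n178783 := rfl
def n178784 : Q := act 0 n85197
theorem D178784 : act 0 n85197 = n178784 := rfl
theorem F278658 : act 2 n85201 = n178784 := d15_3 (iv0 D178784) (iv0 D85197) D85201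
theorem F278659 : act 4 n178784 = n85540 := d1_2 (iv4 F130527) F278658 (iv2 F130716)
theorem F278660 : act 7 n178784 = n85199 := d4_2 D85201 F278658 (iv2 D85199)
theorem F278661 : act 1 n85198 = n178784 := d15_1 D85198 F278660 (iv2 D85199)
def n178785 : Q := act 2 n85197
theorem D178785 : act 2 n85197 = n178785 := rfl
theorem F278662 : act 7 n85198 = n178785 := d15_2 (iv0 D85197) D85198 (iv2 D178785)
def n178786 : Q := act 3 n85197
theorem D178786 : act 3 n85197 = n178786 := rfl
def n178787 : Q := act 4 n85197
theorem D178787 : act 4 n85197 = n178787 := rfl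
def n178788 : Q := act 5 n85197
theorem D178788 : act 5 n85197 = n178788 := rfl
def n178789 : Q := act 6 n85197
theorem D178789 : act 6 n85197 = n178789 := rfl
def n178790 : Q := act 7 n85197
theorem D178790 : act 7 n85197 = n178790 := rfl
theorem F278663 : act 2 n178790 = n85198 := d4_1 D178790 F278662 (iv2 D178785)
def n178791 : Q := act 3 n85198
theorem D178791 : act 3 n85198 = n178791 := rfl
def n178792 : Q := act 4 n85198
theorem D178792 : act 4 n85198 = n178792 := rfl
def n178793 : Q := act 5 n85198
theorem D178793 : act 5 n85198 = n178793 := rfl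
def n178794 : Q := act 6 n85198
theorem D178794 : act 6 n85198 = n178794 := rfl
def n178795 : Q := act 0 n85199
theorem D178795 : act 0 n85199 = n178795 := rfl
theorem F278664 : act 1 n85201 = n178795 := d15_0 (iv0 D178795) (iv7 F278660) (iv2 F278658)
def n178796 : Q := act 1 n85199
theorem D178796 : act 1 n85199 = n178796 := rfl
theorem F278665 : act 1 n178796 = n85201 := d15_1 D178796 (iv7 D85201) D85199
def n178797 : Q := act 5 n85199
theorem D178797 : act 5 n85199 = n178797 := rfl
theorem F278666 : act 2 n178797 = n85200 := d2_1 D178797 (iv5 D85200) D85199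
def n178798 : Q := act 0 n85200
theorem D178798 : act 0 n85200 = n178798 := rfl
def n178799 : Q := act 1 n85200
theorem D178799 : act 1 n85200 = n178799 := rfl
def n178800 : Q := act 4 n85200
theorem D178800 : act 4 n85200 = n178800 := rfl
def n178801 : Q := act 6 n85200
theorem D178801 : act 6 n85200 = n178801 := rfl
theorem F278667 : act 3 n178801 = n85205 := d7_1 D178801 (iv6 D85205) (iv3 F130525)
def n178802 : Q := act 7 n85200
theorem D178802 : act 7 n85200 = n178802 := rfl
theorem F278669 : act 5 n178802 = n85201 := d13_1 D178802 (iv7 D85201) D85200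
def n178803 : Q := act 6 n85201
theorem D178803 : act 6 n85201 = n178803 := rfl
theorem F278671 : act 4 n178803 = n85558 := d10_1 D178803 (iv6 D85558) (iv4 F130527)
theorem F278672 : act 7 n178803 = n155879 := d14_2 D85201 D178803 (iv6 D155879) F110856 F87042
def n178804 : Q := act 2 n85202
theorem D178804 : act 2 n85202 = n178804 := rfl
theorem F278673 : act 7 n85203 = n178804 := d15_2 (iv0 D85202) D85203 (iv2 D178804)
def n178805 : Q := act 3 n85202
theorem D178805 : act 3 n85202 = n178805 := rfl
def n178806 : Q := act 6 n85202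
theorem D178806 : act 6 n85202 = n178806 := rfl
def n178807 : Q := act 7 n85202
theorem D178807 : act 7 n85202 = n178807 := rfl
theorem F278674 : act 2 n178807 = n85203 := d4_1 D178807 F278673 (iv2 D178804)
def n178808 : Q := act 3 n85203
theorem D178808 : act 3 n85203 = n178808 := rfl
def n178809 : Q := act 6 n85203
theorem D178809 : act 6 n85203 = n178809 := rfl
def n178810 : Q := act 3 n85204
theorem D178810 : act 3 n85204 = n178810 := rfl
def n178811 : Q := act 6 n85204
theorem D178811 : act 6 n85204 = n178811 := rfl
theorem F278675 : act 4 n178811 = n85205 := d10_1 D178811 (iv6 D85205) D85204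
def n178812 : Q := act 0 n85205
theorem D178812 : act 0 n85205 = n178812 := rfl
def n178813 : Q := act 1 n85205
theorem D178813 : act 1 n85205 = n178813 := rfl
def n178814 : Q := act 7 n85205
theorem D178814 : act 7 n85205 = n178814 := rfl
def n178817 : Q := act 5 n85216
theorem D178817 : act 5 n85216 = n178817 := rfl
theorem F278676 : act 2 n178817 = n175192 := d2_1 D178817 F274234 (iv2 F199898)
theorem F278678 : act 7 n178817 = n119473 := d13_2 (iv7 F199900) D178817 (iv5 D119473)
theorem F278680 : act 1 n178817 = n175189 := d15_0 (iv0 D175189) D175192 (iv2 F278676)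
def n178818 : Q := act 4 n85217
theorem D178818 : act 4 n85217 = n178818 := rfl
def n178819 : Q := act 6 n85217
theorem D178819 : act 6 n85217 = n178819 := rfl
def n178822 : Q := act 5 n85244
theorem D178822 : act 5 n85244 = n178822 := rfl
def n178823 : Q := act 6 n85244
theorem D178823 : act 6 n85244 = n178823 := rfl
theorem F278682 : act 2 n178823 = n161626 := d3_1 D178823 F255634 F133115
def n178826 : Q := act 7 n85246
theorem D178826 : act 7 n85246 = n178826 := rfl
theorem F278686 : act 2 n178826 = n85268 := d4_1 D178826 (iv7 D85268) (iv2 F130554)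
theorem F278688 : act 5 n178826 = n152628 := d13_1 D178826 (iv7 F272584) (iv5 F272585)
theorem F278689 : act 1 n85266 = n178826 := d15_1 D85266 (iv7 D178826) F130554
theorem F278690 : act 1 n178826 = n85265 := d15_1 F278689 (iv7 F244481) F244480
def n178827 : Q := act 3 n85247
theorem D178827 : act 3 n85247 = n178827 := rfl
def n178828 : Q := act 5 n85247
theorem D178828 : act 5 n85247 = n178828 := rfl
theorem F278691 : act 2 n178828 = n85282 := d2_1 D178828 (iv5 D85282) (iv2 F130556)
def n178829 : Q := act 6 n85247
theorem D178829 : act 6 n85247 = n178829 := rfl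
theorem F278692 : act 2 n178829 = n85283 := d3_1 D178829 (iv6 D85283) (iv2 F130556)
theorem F278693 : act 4 n178829 = n85248 := d10_1 D178829 (iv6 D85248) D85247
def n178830 : Q := act 0 n85248
theorem D178830 : act 0 n85248 = n178830 := rfl
theorem F278694 : act 5 n178830 = n117493 := d21_0 (iv1 D117493) F85455 (iv6 D33996) F46298 D54530 F86154 (iv1 F199843) D39399 D85248 D178830
theorem F278695 : act 2 n85284 = n178830 := d15_3 (iv0 D178830) F230119 (iv7 F200301)
theorem F278696 : act 3 n178830 = n147335 := d0_2 (iv3 F200298) F278695 F241111 (iv3 F242923) (iv2 F183558)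
theorem F278697 : act 7 n178830 = n85285 := d4_2 (iv7 F200301) F278695 F200238
theorem F278698 : act 1 n85287 = n178830 := d15_1 (iv0 F230118) F278697 F200238
def n178831 : Q := act 7 n85248
theorem D178831 : act 7 n85248 = n178831 := rfl
theorem F278699 : act 2 n178831 = n85287 := d4_1 D178831 (iv7 D85287) (iv2 F130557)
theorem F278700 : act 5 n178831 = n155377 := d13_1 D178831 F259417 F259414
theorem F278701 : act 1 n85285 = n178831 := d15_1 D85285 (iv7 D178831) F130557
theorem F278702 : act 1 n178831 = n85284 := d15_1 F278701 F200301 (iv2 F200238)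
def n178832 : Q := act 5 n85254
theorem D178832 : act 5 n85254 = n178832 := rfl
theorem F278704 : act 3 n178832 = n175305 := d6_1 D178832 (iv5 D175305) (iv3 F130570)
theorem F278706 : act 4 n178832 = n85457 := d18_5 (iv1 F199860) D18675 D39401 D85254 D178832 (iv0 D85457) (iv4 D39465) F131007 (iv5 D33198)
def n178833 : Q := act 4 n85255
theorem D178833 : act 4 n85255 = n178833 := rfl
def n178834 : Q := act 6 n85255
theorem D178834 : act 6 n85255 = n178834 := rfl
def n178835 : Q := act 2 n85261
theorem D178835 : act 2 n85261 = n178835 := rfl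
theorem F278709 : act 7 n85262 = n178835 := d15_2 (iv0 D85261) D85262 (iv2 D178835)
def n178836 : Q := act 3 n85261
theorem D178836 : act 3 n85261 = n178836 := rfl
def n178838 : Q := act 5 n85261
theorem D178838 : act 5 n85261 = n178838 := rfl
theorem F278710 : act 1 n178838 = n120232 := d17_8 (iv1 F200241) (iv5 D85272) (iv1 F92286) (iv5 D58429) D58428 D124978 F200741 D178838 F191433
theorem F278711 : act 6 n178838 = n118469 := d21_3 D39403 D85261 D178838 (iv1 D118469) (iv6 D54558) F51499 (iv1 D18158) (iv5 F25861) D33831 (iv1 F155141)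
theorem F278712 : act 2 n118500 = n178838 := d3_3 F278711 (iv2 F186306) D118500
theorem F278713 : act 3 n172822 = n178838 := d7_3 F278711 F186307 D172822
theorem F278714 : act 5 n178836 = n172822 := d6_0 F278713 (iv5 D178838) D178836
theorem E24810 : n178835 = n124984 := (c2_4 F200758 F278712 (iv5 D178838) D178835)
theorem F278715 : act 2 n124984 = n85261 := (sb E24810 (iv2 D178835))
theorem F278716 : act 7 n124984 = n85262 := (sb E24810 (iv7 F278709))
theorem F278717 : act 2 n85262 = n124983 := d15_3 (iv0 D124983) D124984 F278716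
theorem F278718 : act 7 n85261 = n124983 := d4_2 (iv7 F278716) F278715 (iv2 F278717)
def n178842 : Q := act 5 n85262
theorem D178842 : act 5 n85262 = n178842 := rfl
theorem F278719 : act 7 n178842 = n118500 := d13_2 F278716 D178842 (iv5 F200758)
theorem F278720 : act 1 n120232 = n178842 := d15_1 F278710 F278719 F278712
def n178853 : Q := act 4 n85265
theorem D178853 : act 4 n85265 = n178853 := rfl
theorem F278724 : act 2 n178853 = n86003 := d1_1 D178853 (iv4 F188776) F201286
theorem F278725 : act 3 n178853 = n128087 := d5_1 D178853 F206150 (iv3 F188772) (iv4 F273317) F273316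
theorem F278726 : act 6 n178853 = n128085 := d10_2 (iv6 F201287) D178853 F206144
theorem F278727 : act 1 n178853 = n149072 := d15_0 F236560 F201283 (iv2 F278724)
def n178855 : Q := act 4 n85267
theorem D178855 : act 4 n85267 = n178855 := rfl
theorem F278728 : act 0 n178855 = n152589 := d18_2 (iv1 F272593) D178855 (iv4 D152589) (iv5 D71964) F52486 F130874 D55542 F155404 (iv5 F272592)
def n178861 : Q := act 4 n85272
theorem D178861 : act 4 n85272 = n178861 := rfl
theorem F278733 : act 2 n178861 = n118518 := d1_1 D178861 F186426 (iv2 F200242)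
def n178863 : Q := act 3 n85276
theorem D178863 : act 3 n85276 = n178863 := rfl
def n178864 : Q := act 5 n85276
theorem D178864 : act 5 n85276 = n178864 := rfl
def n178865 : Q := act 3 n85279
theorem D178865 : act 3 n85279 = n178865 := rfl
def n178866 : Q := act 4 n85279
theorem D178866 : act 4 n85279 = n178866 := rfl
theorem F278735 : act 2 n178866 = n125169 := d1_1 D178866 F201202 F201205
theorem F278736 : act 1 n178866 = n149071 := d18_8 F155119 (iv4 D85254) (iv1 F92281) (iv4 D58428) D58429 D124980 F200747 D178866 (iv5 D149071)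
theorem F278738 : act 1 n149071 = n85957 := d15_1 F278736 (iv7 F201201) (iv2 F278735)
theorem F278739 : act 1 n149073 = n178866 := d15_0 F278736 F234447 (iv2 F234449)
def n178867 : Q := act 5 n85279
theorem D178867 : act 5 n85279 = n178867 := rfl
def n178868 : Q := act 6 n85279
theorem D178868 : act 6 n85279 = n178868 := rfl
def n178869 : Q := act 3 n85280
theorem D178869 : act 3 n85280 = n178869 := rfl
def n178870 : Q := act 5 n85280
theorem D178870 : act 5 n85280 = n178870 := rfl
theorem F278740 : act 0 n178870 = n125045 := d17_2 (iv1 F200746) D178870 (iv5 D125045) (iv4 D58463) F87559 F130965 F199937 F92285 D124980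
def n178873 : Q := act 2 n85281
theorem D178873 : act 2 n85281 = n178873 := rfl
theorem F278741 : act 4 n178873 = n85316 := d1_2 (iv4 F130577) D178873 (iv2 D85316)
def n178874 : Q := act 5 n85281
theorem D178874 : act 5 n85281 = n178874 := rfl
theorem F278742 : act 3 n178874 = n85282 := d6_1 D178874 (iv5 D85282) D85281
def n178875 : Q := act 6 n85281
theorem D178875 : act 6 n85281 = n178875 := rfl
theorem F278743 : act 3 n178875 = n85283 := d7_1 D178875 (iv6 D85283) D85281
theorem F278744 : act 4 n178875 = n85317 := d10_1 D178875 (iv6 D85317) (iv4 F130577)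
def n178876 : Q := act 0 n85282
theorem D178876 : act 0 n85282 = n178876 := rfl
theorem F278745 : act 5 n178876 = n85457 := d17_3 (iv1 D85280) D85282 D178876 (iv4 F278706) (iv5 D178832) (iv0 F155119) D149071 F278738 F131911
def n178877 : Q := act 1 n85282
theorem D178877 : act 1 n85282 = n178877 := rfl
theorem F278746 : act 5 n178877 = n85458 := d17_7 (iv1 F131006) (iv5 D33198) (iv1 F199860) D18676 D39407 D85282 D178877 (iv0 F200874) (iv4 D125040)
def n178878 : Q := act 4 n85282
theorem D178878 : act 4 n85282 = n178878 := rfl
def n178879 : Q := act 6 n85282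
theorem D178879 : act 6 n85282 = n178879 := rfl
def n178880 : Q := act 0 n85283
theorem D178880 : act 0 n85283 = n178880 := rfl
def n178881 : Q := act 1 n85283
theorem D178881 : act 1 n85283 = n178881 := rfl
def n178882 : Q := act 5 n85283
theorem D178882 : act 5 n85283 = n178882 := rfl
def n178883 : Q := act 7 n85283
theorem D178883 : act 7 n85283 = n178883 := rfl
theorem F278747 : act 4 n178883 = n85287 := d11_1 D178883 (iv7 D85287) (iv4 F130578)
def n178884 : Q := act 4 n85284
theorem D178884 : act 4 n85284 = n178884 := rfl
theorem F278748 : act 7 n178884 = n148053 := d11_2 (iv7 F200301) D178884 (iv4 D148053)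
def n178885 : Q := act 4 n85285
theorem D178885 : act 4 n85285 = n178885 := rfl
theorem F278749 : act 2 n178885 = n148053 := d1_1 D178885 (iv4 D148053) (iv2 F200238)
def n178886 : Q := act 4 n85286
theorem D178886 : act 4 n85286 = n178886 := rfl
theorem F278750 : act 6 n178886 = n85300 := d10_2 (iv6 F130580) D178886 (iv4 D85300)
def n178887 : Q := act 7 n85286
theorem D178887 : act 7 n85286 = n178887 := rfl
theorem F278751 : act 2 n178887 = n155377 := d4_1 D178887 F259417 F259412
theorem F278752 : act 3 n178887 = n85327 := d8_1 D178887 (iv7 D85327) (iv3 F130579)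
theorem F278754 : act 6 n178887 = n151304 := d14_1 D178887 F238015 (iv6 D75938) F60337 (iv6 F130580)
theorem F278755 : act 1 n117385 = n178887 := d15_1 F259416 (iv7 D178887) (iv2 F259412)
theorem F278756 : act 1 n178887 = n119573 := d15_1 F278755 (iv7 F244754) F244752
def n178888 : Q := act 0 n85290
theorem D178888 : act 0 n85290 = n178888 := rfl
theorem F278757 : act 5 n178888 = n152587 := d17_1 D178888 (iv1 F259403) F259400 F120222 (iv5 F120256) F120259 F199958 F130568 D85290
theorem F278758 : act 1 n85295 = n178888 := d15_0 (iv0 D178888) (iv7 F244537) F244535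
def n178889 : Q := act 3 n85290
theorem D178889 : act 3 n85290 = n178889 := rfl
def n178890 : Q := act 5 n85290
theorem D178890 : act 5 n85290 = n178890 := rfl
theorem F278759 : act 1 n178890 = n164556 := d17_6 F130872 D34692 D75899 F199942 D85290 D178890 (iv5 D164556) (iv0 D79033) F56685
theorem F278760 : act 1 n164559 = n178890 := d15_0 F278759 F259381 (iv2 F259395)
def n178891 : Q := act 4 n85294
theorem D178891 : act 4 n85294 = n178891 := rfl
theorem F278761 : act 0 n178891 = n166286 := d18_2 (iv1 F200442) D178891 (iv4 D166286) F205842 F230325 F230712 F230710 F105202 (iv5 F200441)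
theorem F278762 : act 1 n178891 = n166284 := d18_6 F231478 F231476 F231479 F231369 (iv5 F200250) D178891 (iv4 D166284) (iv0 D79849) D79851
def n178893 : Q := act 5 n85295
theorem D178893 : act 5 n85295 = n178893 := rfl
theorem F278763 : act 1 n178893 = n164559 := d17_6 (iv1 F56686) (iv5 F85522) (iv1 F130929) F199946 D85295 D178893 (iv5 D164559) F120219 F108460
theorem F278764 : act 1 n164556 = n178893 := d15_0 F278763 F259396 (iv2 F259380)
def n178894 : Q := act 0 n85300
theorem D178894 : act 0 n85300 = n178894 := rfl
theorem F278765 : act 4 n178894 = n144929 := d18_3 F199949 D85300 D178894 F227906 F106278 (iv0 F155403) (iv4 D55542) (iv0 F130873) (iv5 F120256)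
theorem F278766 : act 1 n146659 = n178894 := d15_0 (iv0 D178894) F130586 (iv2 F229955)
theorem F278767 : act 2 n117433 = n178894 := d1_3 F278765 F227904 (iv4 F183938)
theorem F278768 : act 6 n117274 = n178894 := d10_0 F278765 (iv6 D144929) (iv4 F183519)
theorem F278769 : act 7 n159008 = n178894 := d15_2 (iv0 F259410) F259411 (iv2 F278767)
def n178895 : Q := act 1 n85300
theorem D178895 : act 1 n85300 = n178895 := rfl
theorem F278770 : act 1 n178895 = n146659 := d15_1 D178895 (iv7 F259409) F259408
theorem F278771 : act 7 n178895 = n117433 := d15_2 (iv0 D178894) D178895 F278767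
theorem F278772 : act 4 n144933 = n178895 := d20_0 (iv1 D178895) (iv4 D85300) F60336 F29952 (iv3 F43083) D55531 D120581 F259443 D146026 (iv1 F259442)
theorem F278773 : act 2 n159008 = n178895 := d4_3 F278771 F278767 (iv7 F278769)
def n178896 : Q := act 3 n85300
theorem D178896 : act 3 n85300 = n178896 := rfl
theorem F278774 : act 4 n178896 = n85328 := d5_2 D85300 D178896 (iv3 D85328) (iv4 D39428) (iv3 F60336)
theorem F278775 : act 7 n178896 = n159009 := d8_2 (iv7 F130586) D178896 (iv3 D159009)
def n178897 : Q := act 5 n85300
theorem D178897 : act 5 n85300 = n178897 := rfl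
theorem F278776 : act 7 n178897 = n159010 := d13_2 (iv7 F130586) D178897 (iv5 D159010)
def n178898 : Q := act 0 n85303
theorem D178898 : act 0 n85303 = n178898 := rfl
def n178899 : Q := act 1 n85303
theorem D178899 : act 1 n85303 = n178899 := rfl
theorem F278777 : act 4 n178899 = n86773 := d18_7 F257015 F234028 F234032 F108199 (iv5 F60340) D85303 D178899 (iv0 F206014) (iv5 F257013)
def n178900 : Q := act 3 n85303
theorem D178900 : act 3 n85303 = n178900 := rfl
theorem F278778 : act 4 n178900 = n85305 := d5_2 D85303 D178900 (iv3 D85305) (iv4 D39414) D39413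
def n178901 : Q := act 5 n85303
theorem D178901 : act 5 n85303 = n178901 := rfl
theorem F278779 : act 1 n178901 = n124873 := d17_6 (iv1 F92189) D58376 F199674 (iv5 F60340) D85303 D178901 (iv5 D124873) F200393 F200391
def n178902 : Q := act 6 n85303
theorem D178902 : act 6 n85303 = n178902 := rfl
theorem F278780 : act 4 n178902 = n85304 := d10_1 D178902 (iv6 D85304) D85303
def n178903 : Q := act 1 n85304
theorem D178903 : act 1 n85304 = n178903 := rfl
def n178904 : Q := act 0 n85305
theorem D178904 : act 0 n85305 = n178904 := rfl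
def n178905 : Q := act 1 n85305
theorem D178905 : act 1 n85305 = n178905 := rfl
def n178906 : Q := act 2 n85305
theorem D178906 : act 2 n85305 = n178906 := rfl
def n178907 : Q := act 5 n85305
theorem D178907 : act 5 n85305 = n178907 := rfl
theorem F278782 : act 3 n178907 = n85306 := d6_1 D178907 (iv5 D85306) D85305
theorem F278783 : act 7 n178907 = n158983 := d13_2 F200692 D178907 F250316
def n178908 : Q := act 6 n85305
theorem D178908 : act 6 n85305 = n178908 := rfl
theorem F278784 : act 3 n178908 = n85307 := d7_1 D178908 (iv6 D85307) D85305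
def n178909 : Q := act 6 n85306
theorem D178909 : act 6 n85306 = n178909 := rfl
theorem F278785 : act 2 n178909 = n155003 := d3_1 D178909 F243733 (iv2 F130589)
theorem F278786 : act 4 n178909 = n85800 := d10_1 D178909 (iv6 D85800) (iv4 F130591)
def n178910 : Q := act 0 n85307
theorem D178910 : act 0 n85307 = n178910 := rfl
theorem F278787 : act 4 n178910 = n85760 := d18_3 (iv1 D85308) (iv4 F130594) D178910 F131497 (iv4 F208955) F213884 (iv4 F209010) F214310 F214308
def n178911 : Q := act 1 n85307
theorem D178911 : act 1 n85307 = n178911 := rfl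
theorem F278788 : act 4 n178911 = n85761 := d18_7 (iv1 D61382) (iv4 F95347) F108204 F108203 (iv5 F60343) (iv4 F130594) D178911 F189718 F189715
theorem F278789 : act 6 n149514 = n178911 := d10_0 F278788 F189719 D149514
def n178912 : Q := act 5 n85307
theorem D178912 : act 5 n85307 = n178912 := rfl
theorem F278790 : act 2 n178912 = n155797 := d2_1 D178912 F244802 F200686
def n178913 : Q := act 4 n85308
theorem D178913 : act 4 n85308 = n178913 := rfl
theorem F278794 : act 6 n178913 = n149756 := d10_2 F184909 D178913 (iv4 D149756)
theorem F278795 : act 0 n178913 = n85312 := d18_2 (iv1 F189481) D178913 F130600 F92484 (iv4 F124898) (iv0 F124899) F95485 D61389 (iv5 F189478)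
def n178914 : Q := act 0 n85309
theorem D178914 : act 0 n85309 = n178914 := rfl
def n178915 : Q := act 1 n85309
theorem D178915 : act 1 n85309 = n178915 := rfl
def n178916 : Q := act 2 n85309
theorem D178916 : act 2 n85309 = n178916 := rfl
def n178917 : Q := act 5 n85309
theorem D178917 : act 5 n85309 = n178917 := rfl
theorem F278797 : act 3 n178917 = n85310 := d6_1 D178917 (iv5 D85310) D85309
theorem F278798 : act 7 n178917 = n155004 := d13_2 F200685 D178917 F243736
def n178918 : Q := act 0 n85311
theorem D178918 : act 0 n85311 = n178918 := rfl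
def n178919 : Q := act 1 n85311
theorem D178919 : act 1 n85311 = n178919 := rfl
def n178920 : Q := act 2 n85311
theorem D178920 : act 2 n85311 = n178920 := rfl
def n178921 : Q := act 4 n85311
theorem D178921 : act 4 n85311 = n178921 := rfl
theorem F278799 : act 3 n178921 = n125181 := d5_1 D178921 (iv4 D125181) (iv3 D58546) (iv4 F60353) D85311
def n178922 : Q := act 6 n85311
theorem D178922 : act 6 n85311 = n178922 := rfl
theorem F278800 : act 3 n178922 = n85312 := d7_1 D178922 (iv6 D85312) D85311
def n178923 : Q := act 5 n85312
theorem D178923 : act 5 n85312 = n178923 := rfl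
theorem F278803 : act 0 n178923 = n155718 := d17_2 F278795 D178923 F244730 F110819 (iv5 F96082) F96085 (iv5 F60343) D85308 D178913
def n178924 : Q := act 0 n85313
theorem D178924 : act 0 n85313 = n178924 := rfl
def n178925 : Q := act 1 n85313
theorem D178925 : act 1 n85313 = n178925 := rfl
def n178926 : Q := act 2 n85313
theorem D178926 : act 2 n85313 = n178926 := rfl
def n178927 : Q := act 4 n85313
theorem D178927 : act 4 n85313 = n178927 := rfl
theorem F278805 : act 3 n178927 = n125186 := d5_1 D178927 (iv4 D125186) (iv3 D58548) (iv4 F60356) D85313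
def n178928 : Q := act 2 n85314
theorem D178928 : act 2 n85314 = n178928 := rfl
theorem F278806 : act 7 n85315 = n178928 := d15_2 (iv0 D85314) D85315 (iv2 D178928)
def n178929 : Q := act 3 n85314
theorem D178929 : act 3 n85314 = n178929 := rfl
def n178930 : Q := act 4 n85314
theorem D178930 : act 4 n85314 = n178930 := rfl
def n178931 : Q := act 5 n85314
theorem D178931 : act 5 n85314 = n178931 := rfl
def n178932 : Q := act 6 n85314
theorem D178932 : act 6 n85314 = n178932 := rfl
def n178933 : Q := act 7 n85314
theorem D178933 : act 7 n85314 = n178933 := rfl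
theorem F278807 : act 2 n178933 = n85315 := d4_1 D178933 F278806 (iv2 D178928)
def n178934 : Q := act 3 n85315
theorem D178934 : act 3 n85315 = n178934 := rfl
def n178935 : Q := act 4 n85315
theorem D178935 : act 4 n85315 = n178935 := rfl
def n178936 : Q := act 5 n85315
theorem D178936 : act 5 n85315 = n178936 := rfl
def n178937 : Q := act 6 n85315
theorem D178937 : act 6 n85315 = n178937 := rfl
def n178938 : Q := act 6 n85316
theorem D178938 : act 6 n85316 = n178938 := rfl
theorem F278808 : act 2 n178938 = n85317 := d3_1 D178938 (iv6 D85317) D85316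
def n178939 : Q := act 0 n85317
theorem D178939 : act 0 n85317 = n178939 := rfl
def n178940 : Q := act 1 n85317
theorem D178940 : act 1 n85317 = n178940 := rfl
def n178941 : Q := act 5 n85317
theorem D178941 : act 5 n85317 = n178941 := rfl
theorem F278809 : act 3 n178941 = n85320 := d6_1 D178941 (iv5 D85320) (iv3 F130601)
def n178942 : Q := act 7 n85317
theorem D178942 : act 7 n85317 = n178942 := rfl
theorem F278810 : act 3 n178942 = n85321 := d8_1 D178942 (iv7 D85321) (iv3 F130601)
def n178943 : Q := act 3 n85318
theorem D178943 : act 3 n85318 = n178943 := rfl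
theorem F278811 : act 6 n178943 = n155929 := d7_2 (iv6 F229381) D178943 (iv3 D155929)
def n178944 : Q := act 5 n85318
theorem D178944 : act 5 n85318 = n178944 := rfl
theorem F278815 : act 1 n178944 = n155767 := d17_6 (iv1 F110906) (iv5 F112686) (iv1 F112688) (iv5 F92489) (iv4 F229380) D178944 F244774 F189604 (iv4 F189606)
def n178946 : Q := act 5 n85319
theorem D178946 : act 5 n85319 = n178946 := rfl
theorem F278816 : act 2 n178946 = n155764 := d2_1 D178946 F244771 (iv2 F229376)
theorem F278819 : act 1 n178946 = n120047 := d17_6 (iv1 D74170) F53357 D53886 F92492 (iv4 F229377) D178946 (iv5 D120047) D120046 F189612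
theorem F278820 : act 6 n178946 = n146740 := d21_5 (iv5 D155938) F209028 D119988 (iv6 F189600) (iv1 F278819) F230076 F183295 D148577 F233338 (iv1 F244931)
theorem F278821 : act 6 n146087 = n155764 := d3_2 F278820 (iv2 F230077) (iv2 F278816)
def n178949 : Q := act 4 n85322
theorem D178949 : act 4 n85322 = n178949 := rfl
def n178954 : Q := act 0 n85326
theorem D178954 : act 0 n85326 = n178954 := rfl
theorem F278832 : act 4 n178954 = n86017 := d18_3 F110839 D85326 D178954 F131946 (iv4 F189610) (iv0 D74094) F53330 D34000 D74106
theorem F278833 : act 2 n159031 = n178954 := d15_3 (iv0 D178954) F229503 F250367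
theorem F278834 : act 6 n178954 = n150551 := d3_2 F250366 F278833 F237066
theorem F278835 : act 7 n178954 = n159032 := d4_2 F250367 F278833 (iv2 F250369)
theorem F278836 : act 1 n159034 = n178954 := d15_1 F250373 F278835 (iv2 F250369)
def n178955 : Q := act 3 n85326
theorem D178955 : act 3 n85326 = n178955 := rfl
theorem F278837 : act 6 n178955 = n85328 := d7_2 (iv6 F130604) D178955 (iv3 D85328)
def n178956 : Q := act 5 n85326
theorem D178956 : act 5 n85326 = n178956 := rfl
theorem F278839 : act 6 n178956 = n124968 := d12_2 (iv6 F130604) D178956 (iv5 D124968) (iv6 D58414) (iv5 F60362)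
def n178957 : Q := act 7 n85326
theorem D178957 : act 7 n85326 = n178957 := rfl
theorem F278840 : act 2 n178957 = n159034 := d4_1 D178957 (iv7 D159034) (iv2 F130603)
theorem F278841 : act 4 n178957 = n85327 := d11_1 D178957 (iv7 D85327) D85326
theorem F278842 : act 6 n178957 = n151309 := d14_1 D178957 F238025 (iv6 D75940) (iv7 F60361) (iv6 F130604)
theorem F278843 : act 1 n159032 = n178957 := d15_1 D159032 (iv7 D178957) F130603
theorem F278844 : act 1 n178957 = n159031 := d15_1 F278843 (iv7 F250367) F250369
def n178958 : Q := act 0 n85328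
theorem D178958 : act 0 n85328 = n178958 := rfl
theorem F278845 : act 1 n159015 = n178958 := d15_0 (iv0 D178958) F130611 D159015
def n178959 : Q := act 1 n85328
theorem D178959 : act 1 n85328 = n178959 := rfl
def n178960 : Q := act 2 n85328
theorem D178960 : act 2 n85328 = n178960 := rfl
theorem F278846 : act 3 n178960 = n159029 := d0_2 D85328 D178960 (iv2 D159029) (iv3 D75947) (iv2 F60360)
theorem F278847 : act 5 n178960 = n124964 := d2_2 (iv5 F130610) D178960 (iv2 D124964)
theorem F278848 : act 7 n178960 = n159015 := d4_2 (iv7 F130611) D178960 (iv2 D159015)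
theorem F278849 : act 1 n178960 = n159013 := d15_0 (iv0 D159013) (iv7 F130611) D178960
theorem F278850 : act 1 n178959 = n159015 := d15_1 D178959 (iv7 F278848) (iv2 D178960)
theorem F278851 : act 1 n159014 = n178960 := d15_1 D159014 F278848 (iv2 D159015)
def n178962 : Q := act 4 n85364
theorem D178962 : act 4 n85364 = n178962 := rfl
def n178963 : Q := act 6 n85364
theorem D178963 : act 6 n85364 = n178963 := rfl
def n178964 : Q := act 3 n85366
theorem D178964 : act 3 n85366 = n178964 := rfl
def n178965 : Q := act 5 n85366
theorem D178965 : act 5 n85366 = n178965 := rfl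
def n178966 : Q := act 6 n85366
theorem D178966 : act 6 n85366 = n178966 := rfl
theorem F278853 : act 4 n178966 = n85367 := d10_1 D178966 (iv6 D85367) D85366
def n178968 : Q := act 6 n85372
theorem D178968 : act 6 n85372 = n178968 := rfl
theorem F278855 : act 3 n178968 = n85374 := d7_1 D178968 (iv6 D85374) D85372
def n178970 : Q := act 6 n85373
theorem D178970 : act 6 n85373 = n178970 := rfl
theorem F278857 : act 2 n178970 = n85393 := d3_1 D178970 (iv6 D85393) (iv2 F130637)
def n178971 : Q := act 5 n85374
theorem D178971 : act 5 n85374 = n178971 := rfl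
theorem F278859 : act 1 n178971 = n118790 := d17_6 D26453 D54695 (iv1 F232443) (iv5 D85379) (iv4 F130639) D178971 (iv5 D118790) (iv0 D54688) F42311
def n178972 : Q := act 7 n85374
theorem D178972 : act 7 n85374 = n178972 := rfl
theorem F278862 : act 4 n178972 = n85380 := d11_1 D178972 (iv7 D85380) (iv4 F130639)
theorem F278863 : act 1 n85395 = n178972 := d15_1 D85395 (iv7 D178972) F130638
def n178974 : Q := act 5 n85375
theorem D178974 : act 5 n85375 = n178974 := rfl
theorem F278865 : act 2 n178974 = n85411 := d2_1 D178974 (iv5 D85411) (iv2 F130640)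
def n178975 : Q := act 6 n85375
theorem D178975 : act 6 n85375 = n178975 := rfl
theorem F278866 : act 2 n178975 = n85412 := d3_1 D178975 (iv6 D85412) (iv2 F130640)
theorem F278867 : act 4 n178975 = n85376 := d10_1 D178975 (iv6 D85376) D85375
theorem F278868 : act 0 n178975 = n150908 := d20_7 D118360 F187097 F86132 (iv3 F86591) D118966 F200286 (iv4 F278867) F237624 F107653 (iv1 F86110)
theorem F278869 : act 7 n150906 = n178975 := d15_2 (iv0 F201445) D150906 F278866
theorem F278870 : act 4 n155590 = n150906 := d11_3 F278869 F278867 (iv7 F244610)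
def n178976 : Q := act 5 n85376
theorem D178976 : act 5 n85376 = n178976 := rfl
theorem F278871 : act 2 n178976 = n85415 := d2_1 D178976 (iv5 D85415) (iv2 F130641)
theorem F278872 : act 3 n178976 = n152713 := d6_1 D178976 F239919 F200286
def n178978 : Q := act 7 n85379
theorem D178978 : act 7 n85379 = n178978 := rfl
theorem F278876 : act 3 n178978 = n152315 := d8_1 D178978 F239454 F200236
theorem F278878 : act 1 n85428 = n178978 := d15_1 D85428 (iv7 D178978) F130643
theorem F278879 : act 1 n178978 = n85427 := d15_1 F278878 F232946 (iv2 F232948)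
def n178979 : Q := act 0 n85387
theorem D178979 : act 0 n85387 = n178979 := rfl
theorem F278881 : act 4 n178979 = n125217 := d20_0 (iv1 F201335) F129536 (iv3 F192610) F192612 (iv3 F232384) F232385 F128775 F60468 D85387 D178979
def n178986 : Q := act 5 n85390
theorem D178986 : act 5 n85390 = n178986 := rfl
theorem F278889 : act 1 n178986 = n125023 := d17_8 (iv1 F232638) (iv5 D85401) (iv1 F92237) (iv5 D58395) D58394 D124912 F200625 D178986 (iv4 D125023)
theorem F278890 : act 6 n149896 = n178986 := d21_5 D154871 F243579 (iv5 D75922) D75923 (iv1 F235770) (iv5 D178986) (iv1 F200625) (iv5 D124912) D124913 F200628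
theorem F278891 : act 4 n178986 = n149897 := d10_1 F278890 (iv6 D149897) D149896
theorem F278893 : act 3 n160008 = n168553 := d20_3 F278891 F237377 (iv4 F252402) (iv1 D168553) F124586 F57861 (iv1 F59728) D80452 (iv3 F200838) (iv1 F278889)
theorem F278894 : act 6 n168553 = n160006 := d7_2 D160008 F278893 (iv3 D160006)
def n178992 : Q := act 1 n85392
theorem D178992 : act 1 n85392 = n178992 := rfl
def n178993 : Q := act 3 n85392
theorem D178993 : act 3 n85392 = n178993 := rfl
def n178995 : Q := act 6 n85392
theorem D178995 : act 6 n85392 = n178995 := rfl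
theorem F278899 : act 4 n178995 = n85393 := d10_1 D178995 (iv6 D85393) D85392
def n178996 : Q := act 0 n85393
theorem D178996 : act 0 n85393 = n178996 := rfl
def n178997 : Q := act 1 n85393
theorem D178997 : act 1 n85393 = n178997 := rfl
def n178998 : Q := act 5 n85393
theorem D178998 : act 5 n85393 = n178998 := rfl
def n179001 : Q := act 4 n85394
theorem D179001 : act 4 n85394 = n179001 := rfl
theorem F278901 : act 2 n179001 = n125259 := d1_1 D179001 (iv4 F244228) F244232
theorem F278902 : act 7 n179001 = n128135 := d11_2 (iv7 F244234) D179001 F206256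
theorem F278903 : act 5 n179001 = n127968 := d17_5 (iv1 D54689) D54690 D118795 F244235 D179001 (iv0 D127968) (iv5 D60122) D60121 F188371
theorem F278904 : act 0 n128345 = n179001 := d21_10 F278903 (iv1 F251032) F251029 (iv6 F235563) (iv1 F235564) (iv6 F235804) F235803 F238763 (iv5 D128344) D128345
theorem E24811 : n149874 = n128345 := ((c15_1 (iv0 F278904) (iv0 D149874) (iv7 F201430) (iv2 F278901))).symm
theorem F278905 : act 1 n128345 = n70454 := (sb E24811 (iv0 D149874))
theorem F278906 : act 1 n149875 = n179001 := d15_1 D149875 F278902 F206255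
theorem F278907 : act 2 n162778 = n149875 := d15_3 F278906 (iv0 F278904) (iv7 F257047)
theorem F278908 : act 6 n150509 = n159431 := d21_3 (iv5 F278903) (iv1 F278906) (iv5 F236990) (iv1 D159431) (iv6 D76264) F55094 F50934 D28573 (iv6 F94682) D127968
theorem F278909 : act 2 n150509 = n167815 := d2_3 F264264 F278907 (iv5 F236990)
theorem F278910 : act 2 n150857 = n159431 := d3_3 (iv6 F278908) F278909 F264265
def n179002 : Q := act 3 n85395
theorem D179002 : act 3 n85395 = n179002 := rfl
theorem F278911 : act 4 n179002 = n149880 := d5_2 F200344 D179002 F235740 F106923 (iv3 F106921)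
def n179006 : Q := act 0 n85400
theorem D179006 : act 0 n85400 = n179006 := rfl
theorem F278921 : act 1 n85405 = n179006 := d15_0 (iv0 D179006) (iv7 F232981) F232994
def n179007 : Q := act 1 n85400
theorem D179007 : act 1 n85400 = n179007 := rfl
theorem F278922 : act 1 n179007 = n85405 := d15_1 D179007 F232993 F232991
def n179008 : Q := act 3 n85400
theorem D179008 : act 3 n85400 = n179008 := rfl
def n179009 : Q := act 5 n85400
theorem D179009 : act 5 n85400 = n179009 := rfl
def n179010 : Q := act 6 n85400
theorem D179010 : act 6 n85400 = n179010 := rfl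
theorem F278923 : act 4 n179010 = n85402 := d10_1 D179010 (iv6 D85402) D85400
theorem F278924 : act 1 n148922 = n179010 := d18_6 (iv1 F235904) F233992 (iv1 D148920) F106224 D69808 D148922 F278923 F232647 (iv5 F235902)
theorem F278925 : act 0 n167911 = n179010 := d20_1 D167911 F278923 (iv3 F241294) (iv1 D153525) F109110 (iv4 F110066) D154705 F242873 F185835 (iv1 F189465)
def n179011 : Q := act 4 n85401
theorem D179011 : act 4 n85401 = n179011 := rfl
theorem F278929 : act 0 n179011 = n151714 := d20_1 D179011 F238588 (iv3 F261890) (iv1 D81102) F57990 F28996 F28987 (iv4 F44923) (iv3 F92326) (iv1 F232638)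
def n179012 : Q := act 3 n85405
theorem D179012 : act 3 n85405 = n179012 := rfl
def n179013 : Q := act 5 n85405
theorem D179013 : act 5 n85405 = n179013 := rfl
def n179014 : Q := act 6 n85405
theorem D179014 : act 6 n85405 = n179014 := rfl
theorem F278933 : act 4 n179014 = n85407 := d10_1 D179014 (iv6 D85407) D85405
def n179015 : Q := act 1 n85407
theorem D179015 : act 1 n85407 = n179015 := rfl
def n179016 : Q := act 7 n85407
theorem D179016 : act 7 n85407 = n179016 := rfl
theorem F278934 : act 5 n179016 = n131182 := d13_1 D179016 F210127 F232996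
def n179018 : Q := act 4 n85408
theorem D179018 : act 4 n85408 = n179018 := rfl
theorem F278936 : act 5 n179018 = n149897 := d18_4 (iv1 D39447) D39448 D85408 D179018 (iv4 F278891) F278889 (iv4 D125023) (iv0 F232512) F232513
theorem F278938 : act 3 n179018 = n128011 := d20_3 D39448 D85408 D179018 F206014 F133047 D86783 (iv1 F278388) (iv4 D178609) F233132 (iv1 D39447)
theorem F278939 : act 6 n105934 = n179018 := d7_0 F278938 (iv6 D128011) F190678
theorem F278940 : act 0 n179018 = n175306 := d20_4 D58362 (iv1 F200461) F237273 (iv3 F278938) F274344 D175308 F274353 (iv4 D85093) (iv3 F190536) (iv1 F92210)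
theorem F278941 : act 0 n144898 = n128424 := d21_7 (iv5 F194682) (iv1 F194681) (iv5 F189953) F278939 F278940 F274345 (iv5 F243404) F206556 (iv6 D80605) D80602
theorem F278942 : act 0 n150803 = n133964 := d21_10 (iv5 D133964) (iv1 F215161) (iv5 F237164) (iv6 D150625) F191247 F278939 F278936 F237377 (iv5 D150802) D150803
def n179019 : Q := act 5 n85408
theorem D179019 : act 5 n85408 = n179019 := rfl
theorem F278943 : act 1 n179019 = n125020 := d17_6 D71095 D150798 (iv1 F237378) (iv5 F278936) (iv4 D179018) D179019 (iv5 D125020) (iv0 F109863) F107627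
def n179020 : Q := act 6 n85408
theorem D179020 : act 6 n85408 = n179020 := rfl
theorem F278946 : act 0 n179020 = n150688 := d21_4 D125020 (iv1 F278943) (iv5 D179019) D179020 F237238 (iv5 F237349) (iv1 D150791) (iv5 D71093) D71094 F109863
theorem F278947 : act 1 n179020 = n150687 := d15_1 (iv0 F278946) (iv7 F237235) (iv2 F237237)
theorem F278948 : act 7 n179020 = n150685 := d15_2 D150688 (iv0 F278946) F237228
def n179022 : Q := act 5 n85409
theorem D179022 : act 5 n85409 = n179022 := rfl
theorem F278949 : act 0 n179022 = n125020 := d17_2 (iv1 F200631) D179022 (iv5 D125020) (iv4 D58452) D58453 (iv0 F232512) F232513 F92236 D124914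
def n179023 : Q := act 6 n85409
theorem D179023 : act 6 n85409 = n179023 := rfl
theorem F278951 : act 7 n179023 = n150691 := d14_2 F200667 D179023 (iv6 D150691) (iv7 F185857) (iv6 F200666)
def n179026 : Q := act 2 n85410
theorem D179026 : act 2 n85410 = n179026 := rfl
theorem F278952 : act 4 n179026 = n85433 := d1_2 (iv4 F130654) D179026 (iv2 D85433)
def n179028 : Q := act 6 n85410
theorem D179028 : act 6 n85410 = n179028 := rfl
theorem F278954 : act 3 n179028 = n85412 := d7_1 D179028 (iv6 D85412) D85410
theorem F278955 : act 4 n179028 = n85434 := d10_1 D179028 (iv6 D85434) (iv4 F130654)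
def n179029 : Q := act 0 n85411
theorem D179029 : act 0 n85411 = n179029 := rfl
def n179030 : Q := act 1 n85411
theorem D179030 : act 1 n85411 = n179030 := rfl
def n179033 : Q := act 0 n85412
theorem D179033 : act 0 n85412 = n179033 := rfl
theorem F278960 : act 2 n150908 = n179033 := d15_3 (iv0 D179033) (iv0 F201445) D150908
theorem F278961 : act 4 n179033 = n150896 := d1_2 (iv4 F237624) F278960 F237612
theorem F278962 : act 7 n179033 = n150893 := d4_2 D150908 F278960 F237609
theorem F278963 : act 1 n178975 = n150893 := d15_1 (iv0 F278868) (iv7 F278962) (iv2 F278960)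
theorem F278965 : act 1 n150906 = n179033 := d15_1 D150906 F278962 F237609
def n179035 : Q := act 7 n85412
theorem D179035 : act 7 n85412 = n179035 := rfl
theorem F278966 : act 2 n179035 = n150906 := d4_1 D179035 F278869 F278866
theorem F278967 : act 4 n179035 = n85416 := d11_1 D179035 (iv7 D85416) (iv4 F130655)
theorem F278968 : act 1 n150893 = n179035 := d15_1 F278963 (iv7 D179035) (iv2 F278866)
theorem F278969 : act 1 n179035 = n150908 := d15_1 F278968 (iv7 D150908) (iv2 F237609)
def n179036 : Q := act 4 n85413
theorem D179036 : act 4 n85413 = n179036 := rfl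
def n179040 : Q := act 7 n85415
theorem D179040 : act 7 n85415 = n179040 := rfl
theorem F278972 : act 5 n179040 = n85416 := d13_1 D179040 (iv7 D85416) D85415
theorem F278973 : act 6 n179040 = n118440 := d14_1 D179040 F186253 F130663 (iv7 D85430) (iv6 F130657)
theorem E24812 : n118873 = n118440 := (c21_5 F86472 (iv1 F42268) D26460 D54712 D118873 (iv6 F278973) F278972 (iv1 F233204) (iv5 D118882) (iv6 D54715) (iv1 F86474))
theorem F278974 : act 1 n118440 = n54712 := (sb E24812 (iv0 D118873))
def n179041 : Q := act 4 n85418
theorem D179041 : act 4 n85418 = n179041 := rfl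
theorem F278975 : act 7 n179041 = n85860 := d11_2 (iv7 F232969) D179041 (iv4 F233012)
theorem F278976 : act 0 n179041 = n85862 := d18_2 (iv1 F242147) D179041 F131717 (iv5 F123814) D167829 (iv0 F264382) (iv4 D153557) F241348 F241347
theorem F278977 : act 0 n85854 = n179041 := d20_7 (iv4 F278862) (iv1 F278863) (iv4 F200344) F106921 F199744 F92581 (iv4 F131713) (iv4 D179041) (iv3 D85418) (iv1 F130647)
theorem F278978 : act 2 n179041 = n85859 := d15_3 (iv0 D85859) D85860 (iv7 F278975)
theorem F278979 : act 4 n85859 = n124815 := d1_2 D179041 F278978 (iv2 F241308)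
theorem F278980 : act 7 n85859 = n118090 := d4_2 (iv7 F278975) F278978 (iv2 F233013)
theorem F278981 : act 5 n118201 = n85859 := d17_3 (iv1 D54447) D54448 D118201 F278979 F241307 (iv0 D72610) (iv5 D33512) D33511 (iv4 F190217)
theorem E24813 : n153560 = n118244 := (c18_6 (iv1 D39764) (iv4 F60586) D85859 F278979 F241307 D153560 (iv0 D118244) (iv4 D54462) D54461 F155287)
theorem F278982 : act 4 n118244 = n72610 := (sb E24813 (iv4 D153560))
def n179042 : Q := act 0 n85419
theorem D179042 : act 0 n85419 = n179042 := rfl
theorem F278983 : act 4 n179042 = n162778 := d20_2 D85419 D179042 (iv3 D162778) (iv1 D78249) F56330 F28227 (iv1 F30381) F28978 (iv3 F29962) D39450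
theorem F278984 : act 1 n85424 = n179042 := d15_0 (iv0 D179042) F232970 F232968
def n179043 : Q := act 1 n85419
theorem D179043 : act 1 n85419 = n179043 := rfl
theorem F278985 : act 1 n179043 = n85424 := d15_1 D179043 (iv7 F244316) F244314
def n179044 : Q := act 3 n85419
theorem D179044 : act 3 n85419 = n179044 := rfl
def n179045 : Q := act 5 n85419
theorem D179045 : act 5 n85419 = n179045 := rfl
theorem F278986 : act 1 n179045 = n159932 := d17_6 (iv1 D26454) D26455 D54702 F232886 D85419 D179045 (iv5 D159932) F188316 (iv4 D54699)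
def n179047 : Q := act 5 n85424
theorem D179047 : act 5 n85424 = n179047 := rfl
theorem F278987 : act 0 n179047 = n159932 := d17_2 (iv1 F278984) D179047 (iv5 D159932) F114815 (iv5 F114290) D159408 (iv5 F251025) (iv0 F257048) (iv4 F278983)
def n179048 : Q := act 4 n85427
theorem D179048 : act 4 n85427 = n179048 := rfl
theorem F278989 : act 6 n179048 = n148037 := d10_2 (iv6 F232945) D179048 (iv4 D148037)
def n179049 : Q := act 3 n85428
theorem D179049 : act 3 n85428 = n179049 := rfl
theorem F278991 : act 2 n179049 = n153548 := d0_1 D179049 F241344 (iv2 F190288) F186879 (iv2 F232948)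
theorem F278993 : act 6 n179049 = n125025 := d7_2 F243653 D179049 (iv3 F243652)
theorem F278994 : act 7 n179049 = n118829 := d8_2 (iv7 F232950) D179049 F186903
def n179055 : Q := act 2 n85431
theorem D179055 : act 2 n85431 = n179055 := rfl
theorem F279000 : act 7 n85432 = n179055 := d15_2 (iv0 D85431) D85432 (iv2 D179055)
def n179056 : Q := act 3 n85431
theorem D179056 : act 3 n85431 = n179056 := rfl
def n179057 : Q := act 4 n85431
theorem D179057 : act 4 n85431 = n179057 := rfl
def n179058 : Q := act 5 n85431
theorem D179058 : act 5 n85431 = n179058 := rfl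
def n179059 : Q := act 6 n85431
theorem D179059 : act 6 n85431 = n179059 := rfl
def n179060 : Q := act 7 n85431
theorem D179060 : act 7 n85431 = n179060 := rfl
theorem F279001 : act 2 n179060 = n85432 := d4_1 D179060 F279000 (iv2 D179055)
def n179061 : Q := act 3 n85432
theorem D179061 : act 3 n85432 = n179061 := rfl
def n179062 : Q := act 4 n85432
theorem D179062 : act 4 n85432 = n179062 := rfl
def n179063 : Q := act 5 n85432
theorem D179063 : act 5 n85432 = n179063 := rfl
def n179064 : Q := act 6 n85432
theorem D179064 : act 6 n85432 = n179064 := rfl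
def n179065 : Q := act 6 n85433
theorem D179065 : act 6 n85433 = n179065 := rfl
theorem F279002 : act 2 n179065 = n85434 := d3_1 D179065 (iv6 D85434) D85433
def n179068 : Q := act 5 n85434
theorem D179068 : act 5 n85434 = n179068 := rfl
theorem F279003 : act 3 n179068 = n85436 := d6_1 D179068 (iv5 D85436) (iv3 F130664)
def n179070 : Q := act 3 n85435
theorem D179070 : act 3 n85435 = n179070 := rfl
theorem F279005 : act 7 n179070 = n150584 := d8_2 (iv7 F131927) D179070 F237106
def n179088 : Q := act 5 n85454
theorem D179088 : act 5 n85454 = n179088 := rfl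
theorem F279022 : act 2 n179088 = n85460 := d2_1 D179088 (iv5 D85460) (iv2 F130677)
theorem F279023 : act 1 n179088 = n178867 := d17_6 D39405 D85272 F200240 (iv5 D85455) D85454 D179088 (iv5 D178867) (iv0 D85279) (iv4 D39407)
theorem F279024 : act 0 n179088 = n178870 := d21_1 D179088 (iv5 D178870) (iv6 F189712) (iv1 D119245) F86817 D54891 D119274 F187737 (iv6 F201189) (iv1 F200878)
theorem F279025 : act 1 n178867 = n125045 := d15_1 F279023 F200882 (iv2 F279022)
def n179090 : Q := act 4 n85455
theorem D179090 : act 4 n85455 = n179090 := rfl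
theorem F279028 : act 2 n179090 = n85464 := d1_1 D179090 (iv4 D85464) (iv2 F130678)
theorem F279031 : act 1 n179090 = n178838 := d15_0 F278710 (iv7 F191434) (iv2 F279028)
def n179091 : Q := act 3 n85457
theorem D179091 : act 3 n85457 = n179091 := rfl
def n179092 : Q := act 6 n85457
theorem D179092 : act 6 n85457 = n179092 := rfl
def n179093 : Q := act 3 n85458
theorem D179093 : act 3 n85458 = n179093 := rfl
theorem F279032 : act 4 n179093 = n149081 := d5_2 F155106 D179093 (iv3 D149081) (iv4 D69943) (iv3 F106366)
theorem F279033 : act 6 n179093 = n150026 := d7_2 (iv6 F155446) D179093 (iv3 D150026)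
def n179094 : Q := act 0 n85459
theorem D179094 : act 0 n85459 = n179094 := rfl
def n179095 : Q := act 1 n85459
theorem D179095 : act 1 n85459 = n179095 := rfl
def n179096 : Q := act 2 n85459
theorem D179096 : act 2 n85459 = n179096 := rfl
theorem F279034 : act 4 n179096 = n85472 := d1_2 (iv4 F130680) D179096 (iv2 D85472)
def n179097 : Q := act 5 n85459
theorem D179097 : act 5 n85459 = n179097 := rfl
theorem F279035 : act 3 n179097 = n85460 := d6_1 D179097 (iv5 D85460) D85459
def n179098 : Q := act 6 n85459
theorem D179098 : act 6 n85459 = n179098 := rfl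
theorem F279036 : act 3 n179098 = n85461 := d7_1 D179098 (iv6 D85461) D85459
def n179099 : Q := act 0 n85460
theorem D179099 : act 0 n85460 = n179099 := rfl
def n179100 : Q := act 1 n85460
theorem D179100 : act 1 n85460 = n179100 := rfl
theorem F279038 : act 5 n179100 = n124995 := d17_7 (iv1 F92294) F199906 F131025 (iv5 D39466) D39465 D85460 D179100 F200775 (iv4 D85247)
theorem F279039 : act 2 n178867 = n179100 := d2_3 F279038 F201205 D178867
theorem F279040 : act 7 n178870 = n179100 := d13_0 F279038 F201203 D178870
theorem F279041 : act 2 n178870 = n179099 := d15_3 (iv0 D179099) D179100 (iv7 F279040)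
theorem F279042 : act 5 n179099 = n124994 := d2_2 D178870 F279041 (iv2 F201204)
theorem F279043 : act 7 n179099 = n178867 := d4_2 (iv7 F279040) F279041 F279039
def n179101 : Q := act 4 n85460
theorem D179101 : act 4 n85460 = n179101 := rfl
def n179102 : Q := act 6 n85460
theorem D179102 : act 6 n85460 = n179102 := rfl
def n179107 : Q := act 4 n85462
theorem D179107 : act 4 n85462 = n179107 := rfl
theorem F279047 : act 7 n179107 = n178861 := d11_2 F200245 D179107 (iv4 D178861)
theorem F279048 : act 0 n179107 = n164522 := d17_0 F259321 (iv1 D152253) (iv5 D71819) F52419 D33198 F131006 F131005 (iv0 F131024) D179107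
theorem F279049 : act 1 n118518 = n164522 := d15_0 (iv0 F279048) F279047 F278733
def n179108 : Q := act 0 n85464
theorem D179108 : act 0 n85464 = n179108 := rfl
theorem F279050 : act 5 n179108 = n124983 := d17_1 D179108 (iv1 F200756) (iv5 D85245) (iv4 D39398) D39399 F92293 F199908 (iv0 D85462) D85464
theorem F279051 : act 2 n178842 = n179108 := d15_3 (iv0 D179108) (iv0 F236143) (iv7 F278719)
theorem F279052 : act 1 n164530 = n179108 := d15_0 (iv0 D179108) F191434 (iv2 F259340)
theorem F279053 : act 7 n179108 = n178838 := d15_2 F259343 F279052 (iv2 F278712)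
theorem F279054 : act 6 n155136 = n179108 := d21_3 D33837 D73635 D155136 (iv1 F279052) (iv6 D164530) D164529 F259338 (iv5 D155132) (iv6 D73634) (iv1 D33836)
def n179110 : Q := act 5 n85465
theorem D179110 : act 5 n85465 = n179110 := rfl
theorem F279059 : act 0 n178531 = n179110 := d21_10 (iv5 D179110) (iv1 F235338) (iv5 D149681) D149682 (iv1 F243702) (iv6 D146983) D146982 F239156 D148639 (iv6 F278220)
theorem F279060 : act 1 n160124 = n179110 := d15_0 (iv0 F279059) F278223 (iv2 F252721)
def n179111 : Q := act 4 n85466
theorem D179111 : act 4 n85466 = n179111 := rfl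
theorem F279061 : act 6 n179111 = n178712 := d10_2 F131021 D179111 (iv4 D178712)
def n179112 : Q := act 0 n85468
theorem D179112 : act 0 n85468 = n179112 := rfl
theorem F279062 : act 1 n128483 = n179112 := d15_0 (iv0 D179112) F130685 D128483
def n179113 : Q := act 1 n85468
theorem D179113 : act 1 n85468 = n179113 := rfl
def n179114 : Q := act 2 n85468
theorem D179114 : act 2 n85468 = n179114 := rfl
theorem F279063 : act 5 n179114 = n150321 := d2_2 (iv5 F130684) D179114 (iv2 D150321)
theorem F279064 : act 7 n179114 = n128483 := d4_2 (iv7 F130685) D179114 (iv2 D128483)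
theorem F279065 : act 1 n179114 = n128481 := d15_0 (iv0 D128481) (iv7 F130685) D179114
theorem F279066 : act 1 n179113 = n128483 := d15_1 D179113 (iv7 F279064) (iv2 D179114)
theorem F279067 : act 1 n128482 = n179114 := d15_1 D128482 F279064 (iv2 D128483)
def n179115 : Q := act 4 n85468
theorem D179115 : act 4 n85468 = n179115 := rfl
theorem F279068 : act 3 n179115 = n125163 := d5_1 D179115 (iv4 D125163) F92463 (iv4 F60386) D85468
theorem F279069 : act 7 n179115 = n128361 := d11_2 (iv7 F130685) D179115 F206483
def n179116 : Q := act 6 n85468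
theorem D179116 : act 6 n85468 = n179116 := rfl
theorem F279070 : act 3 n179116 = n85469 := d7_1 D179116 (iv6 D85469) D85468
theorem F279071 : act 5 n179116 = n145741 := d12_1 D179116 (iv6 D145741) F104507 (iv6 F107259) (iv5 F130684)
theorem F279072 : act 7 n179116 = n127765 := d14_2 (iv7 F130685) D179116 F205389 F94469 (iv6 F94945)
def n179117 : Q := act 2 n85470
theorem D179117 : act 2 n85470 = n179117 := rfl
theorem F279073 : act 7 n85471 = n179117 := d15_2 (iv0 D85470) D85471 (iv2 D179117)
def n179118 : Q := act 3 n85470
theorem D179118 : act 3 n85470 = n179118 := rfl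
def n179119 : Q := act 4 n85470
theorem D179119 : act 4 n85470 = n179119 := rfl
def n179120 : Q := act 5 n85470
theorem D179120 : act 5 n85470 = n179120 := rfl
def n179121 : Q := act 6 n85470
theorem D179121 : act 6 n85470 = n179121 := rfl
def n179122 : Q := act 7 n85470
theorem D179122 : act 7 n85470 = n179122 := rfl
theorem F279074 : act 2 n179122 = n85471 := d4_1 D179122 F279073 (iv2 D179117)
def n179123 : Q := act 3 n85471
theorem D179123 : act 3 n85471 = n179123 := rfl
def n179124 : Q := act 4 n85471
theorem D179124 : act 4 n85471 = n179124 := rfl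
def n179125 : Q := act 5 n85471
theorem D179125 : act 5 n85471 = n179125 := rfl
def n179126 : Q := act 6 n85471
theorem D179126 : act 6 n85471 = n179126 := rfl
def n179127 : Q := act 6 n85472
theorem D179127 : act 6 n85472 = n179127 := rfl
theorem F279075 : act 2 n179127 = n85473 := d3_1 D179127 (iv6 D85473) D85472
def n179128 : Q := act 0 n85473
theorem D179128 : act 0 n85473 = n179128 := rfl
def n179129 : Q := act 1 n85473
theorem D179129 : act 1 n85473 = n179129 := rfl
def n179130 : Q := act 5 n85473
theorem D179130 : act 5 n85473 = n179130 := rfl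
def n179131 : Q := act 7 n85473
theorem D179131 : act 7 n85473 = n179131 := rfl
theorem F279077 : act 3 n179131 = n85477 := d8_1 D179131 (iv7 D85477) (iv3 F130689)
def n179139 : Q := act 4 n85479
theorem D179139 : act 4 n85479 = n179139 := rfl
def n179140 : Q := act 5 n85479
theorem D179140 : act 5 n85479 = n179140 := rfl
theorem F279083 : act 3 n179140 = n85481 := d6_1 D179140 (iv5 D85481) D85479
def n179149 : Q := act 6 n85497
theorem D179149 : act 6 n85497 = n179149 := rfl
theorem F279094 : act 4 n179149 = n85498 := d10_1 D179149 (iv6 D85498) D85497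
def n179150 : Q := act 0 n85498
theorem D179150 : act 0 n85498 = n179150 := rfl
theorem F279095 : act 5 n179150 = n160024 := d21_0 (iv1 F252464) F166655 (iv6 F189446) (iv1 F232647) (iv6 D85402) D85401 F232637 F232449 D85498 D179150
theorem F279096 : act 7 n85505 = n179150 := d13_0 F279095 F252471 F252466
theorem F279097 : act 0 n179150 = n85506 := d21_1 (iv5 F279095) (iv5 F248425) F248426 (iv1 F233102) F114994 F78749 (iv1 F38230) F55578 D76627 D160024
theorem F279098 : act 2 n179150 = n85504 := d15_3 (iv0 D85504) D85505 F279096
theorem F279099 : act 7 n155689 = n85504 := d4_2 (iv7 F279096) (iv2 F252470) (iv2 F279098)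
theorem F279100 : act 5 n85504 = n107865 := d13_1 F279099 F252473 (iv5 F252454)
def n179151 : Q := act 7 n85498
theorem D179151 : act 7 n85498 = n179151 := rfl
theorem F279101 : act 2 n179151 = n85506 := d4_1 D179151 (iv7 D85506) (iv2 F130699)
theorem F279102 : act 1 n85505 = n179151 := d15_1 D85505 (iv7 D179151) F130699
theorem F279103 : act 1 n179151 = n85504 := d15_1 F279102 (iv7 F279099) F252470
def n179152 : Q := act 3 n85499
theorem D179152 : act 3 n85499 = n179152 := rfl
theorem F279104 : act 6 n179152 = n150758 := d7_2 (iv6 F130704) D179152 (iv3 D150758)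
def n179154 : Q := act 6 n85500
theorem D179154 : act 6 n85500 = n179154 := rfl
theorem F279108 : act 7 n179154 = n118332 := d14_2 (iv7 F130701) D179154 (iv6 D118332) F86084 D71094
def n179155 : Q := act 0 n85501
theorem D179155 : act 0 n85501 = n179155 := rfl
def n179156 : Q := act 1 n85501
theorem D179156 : act 1 n85501 = n179156 := rfl
def n179157 : Q := act 2 n85501
theorem D179157 : act 2 n85501 = n179157 := rfl
theorem F279109 : act 4 n179157 = n85509 := d1_2 (iv4 F130705) D179157 (iv2 D85509)
def n179158 : Q := act 5 n85501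
theorem D179158 : act 5 n85501 = n179158 := rfl
theorem F279110 : act 3 n179158 = n85502 := d6_1 D179158 (iv5 D85502) D85501
def n179159 : Q := act 6 n85501
theorem D179159 : act 6 n85501 = n179159 := rfl
theorem F279111 : act 3 n179159 = n85503 := d7_1 D179159 (iv6 D85503) D85501
theorem F279112 : act 4 n179159 = n85510 := d10_1 D179159 (iv6 D85510) (iv4 F130705)
def n179160 : Q := act 0 n85502
theorem D179160 : act 0 n85502 = n179160 := rfl
def n179161 : Q := act 1 n85502
theorem D179161 : act 1 n85502 = n179161 := rfl
theorem F279113 : act 5 n179161 = n124939 := d17_7 (iv1 F92246) (iv5 F232626) F232557 (iv5 F54559) D39477 D85502 D179161 F200664 (iv4 D85375)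
theorem F279115 : act 7 n179022 = n179161 := d13_0 F279113 F200667 D179022
theorem F279116 : act 2 n179022 = n179160 := d15_3 (iv0 D179160) D179161 (iv7 F279115)
theorem F279117 : act 5 n179160 = n124938 := d2_2 D179022 F279116 (iv2 F200668)
def n179162 : Q := act 4 n85502
theorem D179162 : act 4 n85502 = n179162 := rfl
def n179163 : Q := act 6 n85502
theorem D179163 : act 6 n85502 = n179163 := rfl
def n179164 : Q := act 0 n85503
theorem D179164 : act 0 n85503 = n179164 := rfl
def n179165 : Q := act 1 n85503
theorem D179165 : act 1 n85503 = n179165 := rfl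
theorem F279119 : act 4 n131783 = n179165 := d20_6 D85517 F208016 F200946 F211152 (iv1 F211150) (iv3 F211154) (iv1 D179165) F130706 F60390 D39481
def n179166 : Q := act 5 n85503
theorem D179166 : act 5 n85503 = n179166 := rfl
def n179167 : Q := act 7 n85503
theorem D179167 : act 7 n85503 = n179167 := rfl
theorem F279120 : act 4 n179167 = n85506 := d11_1 D179167 (iv7 D85506) (iv4 F130706)
def n179168 : Q := act 3 n85504
theorem D179168 : act 3 n85504 = n179168 := rfl
def n179169 : Q := act 4 n85504
theorem D179169 : act 4 n85504 = n179169 := rfl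
def n179170 : Q := act 6 n85504
theorem D179170 : act 6 n85504 = n179170 := rfl
def n179171 : Q := act 3 n85505
theorem D179171 : act 3 n85505 = n179171 := rfl
def n179172 : Q := act 4 n85505
theorem D179172 : act 4 n85505 = n179172 := rfl
def n179173 : Q := act 2 n85507
theorem D179173 : act 2 n85507 = n179173 := rfl
theorem F279121 : act 7 n85508 = n179173 := d15_2 (iv0 D85507) D85508 (iv2 D179173)
def n179174 : Q := act 3 n85507
theorem D179174 : act 3 n85507 = n179174 := rfl
def n179178 : Q := act 7 n85507
theorem D179178 : act 7 n85507 = n179178 := rfl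
theorem F279122 : act 2 n179178 = n85508 := d4_1 D179178 F279121 (iv2 D179173)
def n179179 : Q := act 3 n85508
theorem D179179 : act 3 n85508 = n179179 := rfl
def n179180 : Q := act 4 n85508
theorem D179180 : act 4 n85508 = n179180 := rfl
def n179181 : Q := act 5 n85508
theorem D179181 : act 5 n85508 = n179181 := rfl
def n179182 : Q := act 6 n85508
theorem D179182 : act 6 n85508 = n179182 := rfl
def n179183 : Q := act 6 n85509
theorem D179183 : act 6 n85509 = n179183 := rfl
theorem F279123 : act 2 n179183 = n85510 := d3_1 D179183 (iv6 D85510) D85509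
def n179189 : Q := act 6 n85511
theorem D179189 : act 6 n85511 = n179189 := rfl
theorem F279126 : act 4 n179189 = n157310 := d10_1 D179189 (iv6 D157310) (iv4 F215877)
theorem F279127 : act 1 n153015 = n179189 := d18_6 (iv1 F86117) (iv4 F107657) (iv1 F200199) (iv4 D72226) D72227 D153015 F279126 (iv0 F247559) (iv5 D118357)
theorem F279128 : act 1 n179189 = n153011 := d15_1 F279127 F240314 (iv2 F240323)
def n179194 : Q := act 6 n85517
theorem D179194 : act 6 n85517 = n179194 := rfl
theorem F279132 : act 4 n179194 = n85518 := d10_1 D179194 (iv6 D85518) D85517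
theorem F279133 : act 1 n150950 = n179194 := d18_6 (iv1 F86603) (iv4 F186016) (iv1 F200272) (iv4 D71160) D71161 D150950 F279132 F200205 (iv5 D72222)
def n179195 : Q := act 4 n85520
theorem D179195 : act 4 n85520 = n179195 := rfl
def n179210 : Q := act 1 n85525
theorem D179210 : act 1 n85525 = n179210 := rfl
theorem F279139 : act 4 n179174 = n179210 := d20_6 F44934 (iv1 F22068) D18708 D39479 D85507 D179174 (iv1 D179210) (iv4 D85525) (iv3 D39484) (iv1 F44937)
def n179217 : Q := act 1 n85529
theorem D179217 : act 1 n85529 = n179217 := rfl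
theorem F279145 : act 5 n179217 = n150611 := d17_7 F107543 F107539 (iv1 F55780) (iv5 F94940) F94939 D85529 D179217 F237155 (iv4 D149512)
def n179219 : Q := act 7 n85529
theorem D179219 : act 7 n85529 = n179219 := rfl
theorem F279146 : act 5 n179219 = n85530 := d13_1 D179219 (iv7 D85530) D85529
theorem F279147 : act 0 n150610 = n179219 := d17_2 F237134 D150610 F279146 F130714 (iv5 D76794) (iv0 D35101) (iv5 F52053) D70984 D150599
def n179220 : Q := act 2 n85531
theorem D179220 : act 2 n85531 = n179220 := rfl
theorem F279148 : act 7 n85532 = n179220 := d15_2 (iv0 D85531) D85532 (iv2 D179220)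
def n179221 : Q := act 3 n85531
theorem D179221 : act 3 n85531 = n179221 := rfl
def n179222 : Q := act 4 n85531
theorem D179222 : act 4 n85531 = n179222 := rfl
def n179223 : Q := act 5 n85531
theorem D179223 : act 5 n85531 = n179223 := rfl
def n179224 : Q := act 6 n85531
theorem D179224 : act 6 n85531 = n179224 := rfl
def n179225 : Q := act 7 n85531
theorem D179225 : act 7 n85531 = n179225 := rfl
theorem F279149 : act 2 n179225 = n85532 := d4_1 D179225 F279148 (iv2 D179220)
def n179226 : Q := act 3 n85532
theorem D179226 : act 3 n85532 = n179226 := rfl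
def n179227 : Q := act 4 n85532
theorem D179227 : act 4 n85532 = n179227 := rfl
def n179228 : Q := act 5 n85532
theorem D179228 : act 5 n85532 = n179228 := rfl
def n179229 : Q := act 6 n85532
theorem D179229 : act 6 n85532 = n179229 := rfl
def n179230 : Q := act 4 n85533
theorem D179230 : act 4 n85533 = n179230 := rfl
theorem F279150 : act 2 n179230 = n85534 := d1_1 D179230 (iv4 D85534) D85533
def n179231 : Q := act 6 n85533
theorem D179231 : act 6 n85533 = n179231 := rfl
theorem F279151 : act 2 n179231 = n85535 := d3_1 D179231 (iv6 D85535) D85533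
def n179232 : Q := act 0 n85534
theorem D179232 : act 0 n85534 = n179232 := rfl
def n179233 : Q := act 1 n85534
theorem D179233 : act 1 n85534 = n179233 := rfl
theorem F279152 : act 4 n179118 = n179233 := d20_6 (iv4 D8773) D8771 D18703 D39469 D85470 D179118 (iv1 D179233) (iv4 D85534) (iv3 D39486) (iv1 D18711)
def n179234 : Q := act 5 n85534
theorem D179234 : act 5 n85534 = n179234 := rfl
def n179235 : Q := act 6 n85534
theorem D179235 : act 6 n85534 = n179235 := rfl
theorem F279153 : act 4 n179235 = n85535 := d10_1 D179235 (iv6 D85535) D85534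
def n179244 : Q := act 6 n85540
theorem D179244 : act 6 n85540 = n179244 := rfl
theorem F279165 : act 2 n179244 = n85558 := d3_1 D179244 (iv6 D85558) F130716
theorem F279166 : act 7 n179244 = n155865 := d14_2 (iv7 F130717) D179244 (iv6 D155865) F110850 F87428
theorem F279167 : act 1 n155881 = n179244 := d15_1 D155881 F279166 F244849
theorem F279168 : act 1 n179244 = n155880 := d15_0 (iv0 D155880) (iv7 F130727) (iv2 F279165)
def n179245 : Q := act 0 n85541
theorem D179245 : act 0 n85541 = n179245 := rfl
theorem F279169 : act 1 n85546 = n179245 := d15_0 (iv0 D179245) (iv7 F130719) (iv2 F130720)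
def n179246 : Q := act 1 n85541
theorem D179246 : act 1 n85541 = n179246 := rfl
theorem F279170 : act 1 n179246 = n85546 := d15_1 D179246 (iv7 D85546) D85541
def n179247 : Q := act 3 n85541
theorem D179247 : act 3 n85541 = n179247 := rfl
theorem F279171 : act 7 n179247 = n85547 := d8_2 F130719 D179247 (iv3 D85547)
def n179248 : Q := act 4 n85541
theorem D179248 : act 4 n85541 = n179248 := rfl
theorem F279172 : act 2 n179248 = n85543 := d1_1 D179248 (iv4 D85543) D85541
theorem F279173 : act 7 n179248 = n85548 := d11_2 F130719 D179248 (iv4 D85548)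
def n179249 : Q := act 5 n85541
theorem D179249 : act 5 n85541 = n179249 := rfl
theorem F279174 : act 2 n179249 = n85544 := d2_1 D179249 (iv5 D85544) D85541
theorem F279175 : act 7 n179249 = n85549 := d13_2 F130719 D179249 (iv5 D85549)
def n179250 : Q := act 6 n85541
theorem D179250 : act 6 n85541 = n179250 := rfl
theorem F279176 : act 2 n179250 = n85545 := d3_1 D179250 (iv6 D85545) D85541
def n179251 : Q := act 0 n85542
theorem D179251 : act 0 n85542 = n179251 := rfl
def n179252 : Q := act 1 n85542
theorem D179252 : act 1 n85542 = n179252 := rfl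
def n179253 : Q := act 2 n85542
theorem D179253 : act 2 n85542 = n179253 := rfl
def n179254 : Q := act 4 n85542
theorem D179254 : act 4 n85542 = n179254 := rfl
theorem F279177 : act 0 n179254 = n179115 := d20_7 (iv4 D18708) (iv1 D8772) D8773 D18712 D39488 D85542 D179254 (iv4 D179115) (iv3 D85468) (iv1 F60387)
def n179255 : Q := act 5 n85542
theorem D179255 : act 5 n85542 = n179255 := rfl
theorem F279178 : act 3 n179255 = n85544 := d6_1 D179255 (iv5 D85544) D85542
def n179256 : Q := act 6 n85542
theorem D179256 : act 6 n85542 = n179256 := rfl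
theorem F279179 : act 3 n179256 = n85545 := d7_1 D179256 (iv6 D85545) D85542
def n179257 : Q := act 7 n85542
theorem D179257 : act 7 n85542 = n179257 := rfl
theorem F279180 : act 3 n179257 = n85546 := d8_1 D179257 (iv7 D85546) D85542
def n179258 : Q := act 0 n85543
theorem D179258 : act 0 n85543 = n179258 := rfl
theorem F279181 : act 4 n179258 = n179179 := d20_2 D85543 D179258 (iv3 D179179) (iv1 D85508) (iv3 D39479) (iv4 D18708) (iv1 D8772) D8773 D18712 D39488
def n179259 : Q := act 1 n85543
theorem D179259 : act 1 n85543 = n179259 := rfl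
theorem F279182 : act 1 n179259 = n85548 := d15_1 D179259 (iv7 F279173) F279172
def n179262 : Q := act 6 n85543
theorem D179262 : act 6 n85543 = n179262 := rfl
theorem F279183 : act 4 n179262 = n85545 := d10_1 D179262 (iv6 D85545) D85543
def n179263 : Q := act 7 n85543
theorem D179263 : act 7 n85543 = n179263 := rfl
theorem F279184 : act 2 n179263 = n85548 := d4_1 D179263 (iv7 F279173) F279172
theorem F279185 : act 4 n179263 = n85546 := d11_1 D179263 (iv7 D85546) D85543
theorem F279186 : act 1 n85548 = n179258 := d15_0 (iv0 D179258) D179263 F279184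
def n179264 : Q := act 0 n85544
theorem D179264 : act 0 n85544 = n179264 := rfl
def n179265 : Q := act 1 n85544
theorem D179265 : act 1 n85544 = n179265 := rfl
theorem F279187 : act 1 n179265 = n85549 := d15_1 D179265 (iv7 F279175) F279174
def n179266 : Q := act 4 n85544
theorem D179266 : act 4 n85544 = n179266 := rfl
def n179267 : Q := act 6 n85544
theorem D179267 : act 6 n85544 = n179267 := rfl
def n179268 : Q := act 7 n85544
theorem D179268 : act 7 n85544 = n179268 := rfl
theorem F279188 : act 2 n179268 = n85549 := d4_1 D179268 (iv7 F279175) F279174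
theorem F279189 : act 5 n179268 = n85546 := d13_1 D179268 (iv7 D85546) D85544
theorem F279190 : act 1 n85549 = n179264 := d15_0 (iv0 D179264) D179268 F279188
def n179269 : Q := act 0 n85545
theorem D179269 : act 0 n85545 = n179269 := rfl
def n179270 : Q := act 1 n85545
theorem D179270 : act 1 n85545 = n179270 := rfl
def n179271 : Q := act 5 n85545
theorem D179271 : act 5 n85545 = n179271 := rfl
def n179272 : Q := act 7 n85545
theorem D179272 : act 7 n85545 = n179272 := rfl
def n179273 : Q := act 6 n85546
theorem D179273 : act 6 n85546 = n179273 := rfl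
theorem F279191 : act 2 n179273 = n85550 := d3_1 D179273 (iv6 D85550) (iv2 F130720)
def n179274 : Q := act 0 n85547
theorem D179274 : act 0 n85547 = n179274 := rfl
def n179275 : Q := act 1 n85547
theorem D179275 : act 1 n85547 = n179275 := rfl
def n179276 : Q := act 2 n85547
theorem D179276 : act 2 n85547 = n179276 := rfl
def n179277 : Q := act 4 n85547
theorem D179277 : act 4 n85547 = n179277 := rfl
theorem F279192 : act 0 n179119 = n179277 := d20_1 D179119 (iv4 D179277) (iv3 D85547) (iv1 D39489) (iv3 D18712) (iv4 D8773) D8771 D18703 D39469 D85470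
def n179278 : Q := act 5 n85547
theorem D179278 : act 5 n85547 = n179278 := rfl
theorem F279193 : act 3 n179278 = n85549 := d6_1 D179278 (iv5 D85549) D85547
def n179279 : Q := act 6 n85547
theorem D179279 : act 6 n85547 = n179279 := rfl
theorem F279194 : act 3 n179279 = n85550 := d7_1 D179279 (iv6 D85550) D85547
def n179282 : Q := act 6 n85548
theorem D179282 : act 6 n85548 = n179282 := rfl
theorem F279195 : act 4 n179282 = n85550 := d10_1 D179282 (iv6 D85550) D85548
def n179283 : Q := act 4 n85549
theorem D179283 : act 4 n85549 = n179283 := rfl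
def n179284 : Q := act 6 n85549
theorem D179284 : act 6 n85549 = n179284 := rfl
def n179285 : Q := act 0 n85550
theorem D179285 : act 0 n85550 = n179285 := rfl
def n179286 : Q := act 1 n85550
theorem D179286 : act 1 n85550 = n179286 := rfl
def n179287 : Q := act 5 n85550
theorem D179287 : act 5 n85550 = n179287 := rfl
def n179288 : Q := act 7 n85550
theorem D179288 : act 7 n85550 = n179288 := rfl
def n179299 : Q := act 4 n85553
theorem D179299 : act 4 n85553 = n179299 := rfl
theorem F279198 : act 2 n179299 = n85556 := d1_1 D179299 (iv4 D85556) (iv2 F130723)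
def n179300 : Q := act 6 n85553
theorem D179300 : act 6 n85553 = n179300 := rfl
theorem F279199 : act 2 n179300 = n85557 := d3_1 D179300 (iv6 D85557) (iv2 F130723)
theorem F279200 : act 5 n179300 = n148667 := d12_1 D179300 F233428 F106020 F87428 D85553
def n179301 : Q := act 2 n85554
theorem D179301 : act 2 n85554 = n179301 := rfl
theorem F279201 : act 7 n85555 = n179301 := d15_2 (iv0 D85554) D85555 (iv2 D179301)
def n179302 : Q := act 3 n85554
theorem D179302 : act 3 n85554 = n179302 := rfl
def n179303 : Q := act 4 n85554
theorem D179303 : act 4 n85554 = n179303 := rfl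
def n179304 : Q := act 5 n85554
theorem D179304 : act 5 n85554 = n179304 := rfl
def n179305 : Q := act 6 n85554
theorem D179305 : act 6 n85554 = n179305 := rfl
def n179306 : Q := act 7 n85554
theorem D179306 : act 7 n85554 = n179306 := rfl
theorem F279202 : act 2 n179306 = n85555 := d4_1 D179306 F279201 (iv2 D179301)
def n179307 : Q := act 3 n85555
theorem D179307 : act 3 n85555 = n179307 := rfl
def n179308 : Q := act 4 n85555
theorem D179308 : act 4 n85555 = n179308 := rfl
def n179309 : Q := act 5 n85555
theorem D179309 : act 5 n85555 = n179309 := rfl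
def n179310 : Q := act 6 n85555
theorem D179310 : act 6 n85555 = n179310 := rfl
def n179311 : Q := act 0 n85556
theorem D179311 : act 0 n85556 = n179311 := rfl
def n179312 : Q := act 1 n85556
theorem D179312 : act 1 n85556 = n179312 := rfl
def n179313 : Q := act 5 n85556
theorem D179313 : act 5 n85556 = n179313 := rfl
def n179314 : Q := act 6 n85556
theorem D179314 : act 6 n85556 = n179314 := rfl
theorem F279203 : act 4 n179314 = n85557 := d10_1 D179314 (iv6 D85557) D85556
def n179315 : Q := act 0 n85557
theorem D179315 : act 0 n85557 = n179315 := rfl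
def n179316 : Q := act 1 n85557
theorem D179316 : act 1 n85557 = n179316 := rfl
def n179317 : Q := act 0 n85558
theorem D179317 : act 0 n85558 = n179317 := rfl
theorem F279204 : act 1 n155865 = n179317 := d15_0 (iv0 D179317) F130727 (iv2 F244849)
def n179318 : Q := act 1 n85558
theorem D179318 : act 1 n85558 = n179318 := rfl
theorem F279205 : act 1 n179318 = n155865 := d15_1 D179318 (iv7 F279166) F279165
def n179319 : Q := act 3 n85559
theorem D179319 : act 3 n85559 = n179319 := rfl
def n179320 : Q := act 5 n85559
theorem D179320 : act 5 n85559 = n179320 := rfl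
theorem F279206 : act 2 n179320 = n127755 := d2_1 D179320 F205378 (iv2 F200975)
theorem F279207 : act 7 n179320 = n127762 := d13_2 F200978 D179320 F205382
theorem F279208 : act 4 n179320 = n105854 := d16_2 (iv4 F130728) D179320 (iv5 D105854) F114314 D53804 D116778 F182229 (iv7 F104681) F109838
theorem F279209 : act 0 n179320 = n148609 := d17_2 D85559 D179320 F233370 F230030 (iv5 F105759) F210286 F210284 F106159 F87859
theorem F279210 : act 1 n179320 = n148611 := d17_8 (iv1 D69649) (iv5 D32329) (iv1 F41683) F41680 (iv4 F60395) (iv5 F106156) F130729 D179320 (iv4 D148611)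
theorem F279211 : act 6 n178910 = n179320 := d21_5 (iv5 F87903) (iv1 F130593) (iv5 D85306) D85307 D178910 (iv5 D179320) (iv1 F130729) F106156 (iv6 D39494) (iv1 F44928)
def n179321 : Q := act 6 n85559
theorem D179321 : act 6 n85559 = n179321 := rfl
theorem F279212 : act 4 n179321 = n131754 := d10_1 D179321 F211117 (iv4 F130728)
def n179322 : Q := act 3 n85560
theorem D179322 : act 3 n85560 = n179322 := rfl
theorem F279213 : act 4 n179322 = n139775 := d5_2 (iv4 F130731) D179322 (iv3 D139775) (iv4 F101351) D67891
def n179323 : Q := act 5 n85560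
theorem D179323 : act 5 n85560 = n179323 := rfl
theorem F279216 : act 7 n179323 = n127755 := d13_2 (iv7 F200976) D179323 F205378
theorem F279217 : act 1 n179323 = n148609 := d17_6 F166875 F104704 F182234 F182229 (iv4 F130731) D179323 F233370 (iv0 F244873) F244871
theorem F279218 : act 0 n179323 = n148611 := d18_0 (iv4 D148611) (iv1 D69649) D69650 (iv5 F229427) F229426 F106159 F87859 D85560 D179323
theorem F279219 : act 6 n150596 = n179323 := d21_5 (iv5 F42798) (iv1 F51719) (iv5 F52058) D70989 (iv1 F237136) (iv5 D179323) (iv1 D85560) F60394 F51353 (iv1 F42787)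
def n179364 : Q := act 2 n85575
theorem D179364 : act 2 n85575 = n179364 := rfl
theorem F279246 : act 3 n179364 = n85645 := d0_2 D85575 D179364 (iv2 D85645) (iv3 D39569) (iv2 F60424)
def n179365 : Q := act 2 n85576
theorem D179365 : act 2 n85576 = n179365 := rfl
theorem F279251 : act 7 n85577 = n179365 := d15_2 (iv0 D85576) D85577 (iv2 D179365)
theorem F279252 : act 4 n179365 = n173493 := d11_1 F279251 (iv7 D173493) F131225
def n179366 : Q := act 4 n85576
theorem D179366 : act 4 n85576 = n179366 := rfl
theorem F279253 : act 2 n179366 = n173493 := d1_1 D179366 (iv4 F279252) (iv2 D179365)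
theorem F279254 : act 3 n179366 = n175848 := d20_3 F128022 D85576 D179366 (iv1 D175848) (iv3 D83931) D83932 D175851 F275255 F272205 (iv1 D173689)
theorem F279255 : act 4 n161696 = n175848 := d5_4 (iv4 D179366) F255699 (iv4 D161697) D161696 (iv3 F279254)
theorem F279256 : act 0 n173631 = n179366 := d20_10 (iv4 D179366) (iv1 F147899) F147896 (iv3 F151351) (iv1 F151354) (iv3 F275509) F273220 F272106 (iv4 D173632) D173631
theorem E24814 : n161696 = n158319 := (c20_7 F273220 F272106 (iv4 D173632) D173631 F279256 F279254 (iv4 F279255) (iv1 D158319) F113291 (iv3 F128475) D174376)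
theorem F279257 : act 3 n158319 = n77666 := (sb E24814 (iv3 D161696))
theorem F279258 : act 4 n158319 = n175848 := (sb E24814 F279255)
theorem E24815 : n173631 = n173488 := (c15_1 (iv0 F279256) (iv0 D173488) D173493 (iv2 F279253))
theorem F279259 : act 0 n173488 = n179366 := (sb E24815 F279256)
theorem F279260 : act 3 n173488 = n83043 := (sb E24815 (iv3 D173631))
theorem F279261 : act 0 n179366 = n173489 := d20_4 D84147 (iv1 F249444) F279258 (iv3 F279254) (iv3 F272273) F272272 (iv1 F272271) F129002 (iv3 F128028) (iv1 F128032)
theorem E24816 : n175728 = n173488 := ((c15_2 (iv0 F279261) (iv0 F279259) F275156 F274375)).symm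
theorem E24817 : n83887 = n83043 := (((F279260).symm.trans (sb E24816 (iv3 D175728)))).symm
theorem E24818 : n175726 = n38216 := ((((iv1 D83043)).symm.trans (sb E24817 D175726))).symm
theorem E24820 : n173630 = n38637 := (((iv2 F272104)).symm.trans (sb E24817 (iv2 D83887)))
theorem E24821 : n175729 = n173632 := (((D173632).symm.trans (sb E24817 D175729))).symm
theorem E24822 : n175730 = n173633 := (((D173633).symm.trans (sb E24817 D175730))).symm
theorem E24825 : n83892 = n83042 := (((D83042).symm.trans (sb E24818 (iv1 F275154)))).symm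
theorem F279263 : act 2 n38637 = n83043 := (sb E24820 F272104)
theorem F279264 : act 2 n173632 = n83889 := (sb E24821 F275157)
theorem F279265 : act 7 n173632 = n83894 := (sb E24821 F275158)
theorem F279266 : act 2 n173633 = n83890 := (sb E24822 F275159)
theorem F279270 : act 2 n83042 = n38638 := (sb E24825 F128889)
theorem E24826 : n175326 = n173626 := (((D173626).symm.trans (sb E24825 (iv3 F274374)))).symm
theorem E24827 : n175736 = n173627 := (((D173627).symm.trans (sb E24825 (iv4 F275165)))).symm
theorem E24828 : n175741 = n173628 := (((D173628).symm.trans (sb E24825 (iv5 F275170)))).symm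
theorem F279273 : act 7 n173626 = n83730 := (sb E24826 (iv7 F274373))
theorem F279274 : act 2 n173627 = n83894 := (sb E24827 F275164)
theorem F279275 : act 7 n173627 = n83889 := (sb E24827 (iv7 D175736))
theorem F279277 : act 7 n173628 = n83890 := (sb E24828 (iv7 D175741))
theorem F279280 : act 1 n177822 = n173632 := d15_1 (iv0 F277348) F279265 (iv2 F279274)
theorem E24831 : n175329 = n175141 := (c15_4 (iv0 D175141) (iv0 F275552) F279273 (iv2 F274376))
theorem F279284 : act 7 n175141 = n83729 := (sb E24831 (iv7 D175329))
theorem E24832 : n176214 = n173714 := ((c11_2 F279284 F272272 (iv7 D176214) (iv4 F274117))).symm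
theorem F279285 : act 2 n173714 = n84044 := (sb E24832 F275449)
theorem F279287 : act 7 n85831 = n125104 := d8_2 F279265 (iv3 F131686) (iv3 F272105)
theorem F279288 : act 2 n125104 = n85832 := d15_3 F200991 F200989 F279287
theorem E24833 : n161697 = n149844 := (c20_7 (iv4 F200276) F155119 (iv4 D85254) F129191 (iv1 F249444) F279257 D161697 (iv1 D149844) F106902 F86989 D118447)
theorem F279292 : act 4 n149844 = n77666 := (sb E24833 (iv4 D161697))
theorem E24834 : n175848 = n173510 := (c0_1 F279254 (iv2 D173510) (iv3 D83010) (iv2 F127935) (iv3 F271952) (iv2 F279253))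
theorem F279293 : act 0 n173510 = n83931 := (sb E24834 (iv1 D175848))
theorem F279294 : act 3 n173510 = n179366 := (sb E24834 (iv3 F279254))
theorem F279295 : act 4 n173510 = n158319 := (sb E24834 (iv4 F279258))
theorem F279296 : act 2 n158319 = n173511 := d1_1 F279295 (iv4 D173511) D173510
theorem F279297 : act 7 n158318 = n173511 := d15_2 F249444 F249451 (iv2 F279296)
theorem E24835 : n173484 = n173446 := (c11_3 F279297 (iv4 D173511) (iv7 F271943) F271906)
theorem E24836 : n83004 = n82993 := ((((iv3 D173446)).symm.trans (sb E24835 (iv3 D173484)))).symm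
theorem E24837 : n173482 = n38206 := ((((iv1 F127919)).symm.trans (sb E24836 D173482))).symm
theorem E24839 : n173445 = n38203 := ((D173445).symm.trans (sb E24836 (iv2 D83004)))
theorem E24840 : n173485 = n173447 := (((D173447).symm.trans (sb E24836 D173485))).symm
theorem E24841 : n173486 = n173448 := (((D173448).symm.trans (sb E24836 D173486))).symm
theorem E24842 : n173487 = n173449 := (((D173449).symm.trans (sb E24836 D173487))).symm
theorem E24843 : n173450 = n38204 := ((D173450).symm.trans (sb E24836 (iv7 F127934)))
theorem E24844 : n83009 = n82994 := ((((iv1 F127914)).symm.trans (sb E24837 (iv1 F271941)))).symm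
theorem F279299 : act 2 n38203 = n82993 := (sb E24839 (iv2 D173445))
theorem F279300 : act 2 n173447 = n83006 := (sb E24840 F271944)
theorem F279301 : act 7 n173447 = n83011 := (sb E24840 F271945)
theorem F279302 : act 2 n173448 = n83007 := (sb E24841 F271947)
theorem F279303 : act 7 n173448 = n83012 := (sb E24841 F271948)
theorem F279304 : act 2 n173449 = n83008 := (sb E24842 F271949)
theorem F279305 : act 7 n38204 = n82993 := (sb E24843 (iv7 D173450))
theorem F279306 : act 2 n82994 = n38204 := (sb E24844 F127935)
theorem E24846 : n173497 = n173452 := (((D173452).symm.trans (sb E24844 (iv4 F271955)))).symm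
theorem E24847 : n173502 = n173453 := (((D173453).symm.trans (sb E24844 (iv5 F271959)))).symm
theorem E24848 : n173507 = n173454 := (((D173454).symm.trans (sb E24844 D173507))).symm
theorem F279307 : act 7 n82994 = n38203 := (sb E24844 (iv7 D83009))
theorem F279310 : act 2 n173452 = n83011 := (sb E24846 F271954)
theorem F279311 : act 7 n173452 = n83006 := (sb E24846 (iv7 D173497))
theorem F279312 : act 2 n173453 = n83012 := (sb E24847 F271958)
theorem F279313 : act 7 n173453 = n83007 := (sb E24847 (iv7 D173502))
theorem F279314 : act 2 n173454 = n83013 := (sb E24848 F271963)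
theorem F279321 : act 7 n124065 = n161572 := d8_2 F279301 (iv3 F198463) (iv3 F271907)
theorem F279323 : act 2 n124065 = n161573 := d15_3 F255569 F255568 (iv7 F279321)
def n179369 : Q := act 3 n85577
theorem D179369 : act 3 n85577 = n179369 := rfl
def n179370 : Q := act 5 n85577
theorem D179370 : act 5 n85577 = n179370 := rfl
def n179371 : Q := act 6 n85577
theorem D179371 : act 6 n85577 = n179371 := rfl
theorem F279326 : act 4 n179371 = n173492 := d10_1 D179371 (iv6 D173492) F131225
theorem F279327 : act 5 n179371 = n170284 := d21_6 D81652 (iv1 F147893) (iv5 D96184) D96185 F147897 D179371 (iv1 D170284) (iv5 D81664) (iv6 D37323) D37319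
def n179383 : Q := act 2 n85583
theorem D179383 : act 2 n85583 = n179383 := rfl
theorem F279331 : act 3 n179383 = n175183 := d0_2 D85583 D179383 F274224 (iv3 D125223) F199648
def n179384 : Q := act 4 n85583
theorem D179384 : act 4 n85583 = n179384 := rfl
theorem F279334 : act 3 n179384 = n153238 := d5_1 D179384 F240674 F108829 F199774 D85583
theorem F279335 : act 6 n179384 = n162639 := d10_2 F206522 D179384 (iv4 F256876)
theorem F279337 : act 0 n179384 = n86338 := d20_7 F29072 (iv1 F116721) D8784 D18731 D39545 D85583 D179384 F132325 (iv3 D81538) (iv1 D37233)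
def n179405 : Q := act 3 n85596
theorem D179405 : act 3 n85596 = n179405 := rfl
def n179406 : Q := act 3 n85597
theorem D179406 : act 3 n85597 = n179406 := rfl
def n179421 : Q := act 5 n85603
theorem D179421 : act 5 n85603 = n179421 := rfl
theorem F279369 : act 6 n179421 = n96502 := d12_2 D85603 D179421 (iv5 D96502) (iv6 F131236) (iv5 D85602)
def n179446 : Q := act 6 n85611
theorem D179446 : act 6 n85611 = n179446 := rfl
def n179465 : Q := act 0 n85618
theorem D179465 : act 0 n85618 = n179465 := rfl
def n179466 : Q := act 1 n85618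
theorem D179466 : act 1 n85618 = n179466 := rfl
def n179467 : Q := act 2 n85618
theorem D179467 : act 2 n85618 = n179467 := rfl
def n179473 : Q := act 3 n85623
theorem D179473 : act 3 n85623 = n179473 := rfl
theorem F279404 : act 7 n179473 = n96758 := d8_2 (iv7 F131277) D179473 F149225
def n179479 : Q := act 3 n85626
theorem D179479 : act 3 n85626 = n179479 := rfl
theorem F279420 : act 4 n179479 = n123934 := d5_2 F131289 D179479 F198356 F90931 F90913
theorem F279421 : act 6 n179479 = n177330 := d7_2 F131290 D179479 (iv3 D177330)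
def n179480 : Q := act 0 n85627
theorem D179480 : act 0 n85627 = n179480 := rfl
def n179481 : Q := act 1 n85627
theorem D179481 : act 1 n85627 = n179481 := rfl
def n179482 : Q := act 2 n85627
theorem D179482 : act 2 n85627 = n179482 := rfl
def n179483 : Q := act 5 n85627
theorem D179483 : act 5 n85627 = n179483 := rfl
def n179484 : Q := act 6 n85627
theorem D179484 : act 6 n85627 = n179484 := rfl
theorem F279424 : act 3 n179484 = n85629 := d7_1 D179484 (iv6 D85629) D85627
theorem F279425 : act 7 n179484 = n124575 := d14_2 F131366 D179484 (iv6 D124575) (iv7 F193842) (iv6 F193843)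
def n179491 : Q := act 1 n85634
theorem D179491 : act 1 n85634 = n179491 := rfl
theorem F279441 : act 3 n146668 = n179491 := d20_3 F200263 F184447 D146668 (iv1 D179491) (iv3 D85634) (iv4 D39564) (iv1 D18735) D18736 D39569 D85643
theorem F279442 : act 6 n179491 = n125205 := d7_2 (iv6 F229975) F279441 (iv3 F201300)
def n179496 : Q := act 0 n85637
theorem D179496 : act 0 n85637 = n179496 := rfl
theorem F279448 : act 1 n179467 = n179496 := d15_0 (iv0 D179496) F131317 D179467
def n179498 : Q := act 2 n85637
theorem D179498 : act 2 n85637 = n179498 := rfl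
theorem F279451 : act 7 n179498 = n179467 := d4_2 (iv7 F131317) D179498 (iv2 D179467)
theorem F279452 : act 1 n179498 = n179465 := d15_0 (iv0 D179465) (iv7 F131317) D179498
theorem F279454 : act 1 n179466 = n179498 := d15_1 D179466 F279451 (iv2 D179467)
def n179499 : Q := act 5 n85637
theorem D179499 : act 5 n85637 = n179499 := rfl
theorem F279456 : act 7 n179499 = n159087 := d13_2 (iv7 F131317) D179499 F250458
def n179500 : Q := act 6 n85637
theorem D179500 : act 6 n85637 = n179500 := rfl
theorem F279457 : act 3 n179500 = n85640 := d7_1 D179500 (iv6 D85640) D85637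
def n179507 : Q := act 3 n85643
theorem D179507 : act 3 n85643 = n179507 := rfl
theorem F279474 : act 7 n179507 = n179405 := d8_2 (iv7 F200264) D179507 (iv3 D179405)
def n179508 : Q := act 5 n85643
theorem D179508 : act 5 n85643 = n179508 := rfl
theorem F279477 : act 0 n179508 = n150418 := d17_2 D85643 D179508 (iv5 D150418) (iv4 D70869) D70870 F107362 F199805 (iv0 D39639) (iv4 F60442)
theorem F279478 : act 1 n179508 = n120649 := d17_6 F130853 (iv5 F130855) F85597 D117767 (iv4 F200263) D179508 (iv5 D120649) F130796 F107043
def n179509 : Q := act 6 n85643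
theorem D179509 : act 6 n85643 = n179509 := rfl
theorem F279480 : act 4 n179509 = n107859 := d10_1 D179509 (iv6 F184445) (iv4 F200263)
theorem F279483 : act 0 n106092 = n179509 := d21_4 D150491 F236968 (iv5 D106091) D106092 (iv6 D179509) D179508 F279477 (iv5 D150418) D150419 (iv1 F236797)
def n179510 : Q := act 3 n85644
theorem D179510 : act 3 n85644 = n179510 := rfl
theorem F279484 : act 4 n179510 = n178889 := d5_2 (iv4 F199954) D179510 (iv3 D178889) (iv4 D85290) (iv3 F199941)
theorem F279486 : act 7 n179510 = n179406 := d8_2 F200258 D179510 (iv3 D179406)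
def n179511 : Q := act 5 n85644
theorem D179511 : act 5 n85644 = n179511 := rfl
theorem F279488 : act 7 n179511 = n159084 := d13_2 F200258 D179511 F250455
theorem F279489 : act 0 n179511 = n120649 := d17_2 (iv1 F131346) D179511 (iv5 D120649) F87937 (iv5 F130809) D59975 F199803 F60529 (iv4 F131231)
def n179512 : Q := act 6 n85645
theorem D179512 : act 6 n85645 = n179512 := rfl
theorem F279492 : act 4 n179512 = n85817 := d10_1 D179512 (iv6 D85817) (iv4 F131343)
theorem F279494 : act 0 n179512 = n118130 := d21_4 D70897 D150446 F236869 D179512 (iv6 D118130) D118129 (iv1 F235823) (iv5 D149924) (iv6 F130798) F130795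
theorem F279495 : act 1 n179512 = n125231 := d15_1 (iv0 F279494) (iv7 F201370) (iv2 F185608)
theorem F279496 : act 0 n85982 = n101549 := d20_1 D85982 (iv4 F200479) (iv3 F240685) F242251 F242248 (iv4 F201369) (iv1 F279495) F279492 (iv3 F131905) (iv1 F131908)
def n179523 : Q := act 0 n85652
theorem D179523 : act 0 n85652 = n179523 := rfl
theorem F279516 : act 1 n179482 = n179523 := d15_0 (iv0 D179523) F131366 D179482
def n179524 : Q := act 1 n85652
theorem D179524 : act 1 n85652 = n179524 := rfl
def n179525 : Q := act 2 n85652
theorem D179525 : act 2 n85652 = n179525 := rfl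
theorem F279518 : act 7 n179525 = n179482 := d4_2 (iv7 F131366) D179525 (iv2 D179482)
theorem F279520 : act 1 n179524 = n179482 := d15_1 D179524 (iv7 F279518) (iv2 D179525)
def n179526 : Q := act 5 n85652
theorem D179526 : act 5 n85652 = n179526 := rfl
theorem F279523 : act 7 n179526 = n179483 := d13_2 (iv7 F131366) D179526 (iv5 D179483)
def n179534 : Q := act 6 n85656
theorem D179534 : act 6 n85656 = n179534 := rfl
theorem F279546 : act 3 n179534 = n85658 := d7_1 D179534 (iv6 D85658) D85656
def n179536 : Q := act 5 n85660
theorem D179536 : act 5 n85660 = n179536 := rfl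
theorem F279548 : act 2 n179536 = n86795 := d2_1 D179536 (iv5 D86795) (iv2 F191220)
theorem F279549 : act 7 n179536 = n86778 := d13_2 (iv7 F191221) D179536 (iv5 D86778)
def n179537 : Q := act 4 n85661
theorem D179537 : act 4 n85661 = n179537 := rfl
theorem F279550 : act 2 n179537 = n86797 := d1_1 D179537 (iv4 D86797) (iv2 F191222)
def n179538 : Q := act 3 n85665
theorem D179538 : act 3 n85665 = n179538 := rfl
theorem F279552 : act 7 n179538 = n86794 := d8_2 (iv7 F191212) D179538 (iv3 D86794)
theorem F279553 : act 0 n86483 = n179538 := d20_4 (iv4 F116686) (iv1 D44571) (iv4 F60965) (iv3 F132650) (iv3 D179538) (iv4 D85665) (iv1 D39585) D39587 F60456 (iv1 F60929)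
def n179539 : Q := act 5 n85665
theorem D179539 : act 5 n85665 = n179539 := rfl
theorem F279554 : act 2 n179539 = n86778 := d2_1 D179539 (iv5 D86778) (iv2 F191211)
theorem F279555 : act 7 n179539 = n86795 := d13_2 (iv7 F191212) D179539 (iv5 D86795)
def n179540 : Q := act 4 n85666
theorem D179540 : act 4 n85666 = n179540 := rfl
theorem F279556 : act 2 n179540 = n86783 := d1_1 D179540 (iv4 D86783) (iv2 F191213)
theorem F279557 : act 7 n179540 = n86797 := d11_2 (iv7 F191214) D179540 (iv4 D86797)
theorem F279558 : act 1 n178611 = n86797 := d15_1 (iv0 F278391) (iv7 F279557) F279556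
def n179541 : Q := act 6 n85666
theorem D179541 : act 6 n85666 = n179541 := rfl
theorem F279559 : act 2 n179541 = n86784 := d3_1 D179541 (iv6 D86784) (iv2 F191213)
theorem F279560 : act 5 n179541 = n150314 := d12_1 D179541 (iv6 D150314) (iv5 F215738) F215739 D85666
theorem F279561 : act 0 n179541 = n85776 := d21_10 F231806 (iv1 F243219) (iv5 F250974) (iv6 D159392) (iv1 D76245) (iv6 F61213) (iv5 D40230) (iv1 F60454) D85666 D179541
def n179542 : Q := act 3 n85668
theorem D179542 : act 3 n85668 = n179542 := rfl
theorem F279562 : act 2 n179542 = n86462 := d0_1 D179542 F132581 F60933 (iv3 F60456) (iv2 F131383)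
theorem F279563 : act 7 n179542 = n86458 := d8_2 (iv7 F131384) D179542 F132579
theorem F279564 : act 1 n86460 = n179542 := d15_1 D86460 F279563 F132578
theorem F279565 : act 1 n179542 = n86459 := d15_0 (iv0 D86459) D86462 (iv2 F279562)
def n179543 : Q := act 5 n85668
theorem D179543 : act 5 n85668 = n179543 := rfl
theorem F279566 : act 2 n179543 = n85671 := d2_1 D179543 (iv5 D85671) (iv2 F131383)
theorem F279567 : act 7 n179543 = n86584 := d13_2 (iv7 F131384) D179543 (iv5 D86584)
theorem F279568 : act 0 n179543 = n86598 := d17_2 (iv1 F131386) D179543 (iv5 F236669) F236666 (iv5 F191419) (iv0 F232775) F186934 (iv0 F232467) (iv4 F130174)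
def n179545 : Q := act 6 n85669
theorem D179545 : act 6 n85669 = n179545 := rfl
theorem F279574 : act 2 n179545 = n85675 := d3_1 D179545 (iv6 D85675) (iv2 F131387)
theorem F279575 : act 7 n179545 = n159394 := d14_2 (iv7 F131388) D179545 (iv6 D159394) (iv7 D76247) (iv6 F61213)
theorem F279576 : act 0 n179545 = n159431 := d21_4 (iv5 D40234) (iv1 F60453) D85669 D179545 (iv6 F278908) F236990 (iv1 D149875) (iv5 F189720) F189721 F191304
theorem F279577 : act 1 n179545 = n159430 := d15_0 (iv0 D159430) (iv7 F131406) (iv2 F279574)
theorem F279578 : act 7 n159430 = n150857 := d15_2 (iv0 F279576) F279577 F278910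
theorem F279579 : act 3 n128021 = n159430 := d8_3 F279578 (iv3 D150857) (iv7 F206018)
def n179546 : Q := act 5 n85670
theorem D179546 : act 5 n85670 = n179546 := rfl
theorem F279580 : act 2 n179546 = n86595 := d2_1 D179546 (iv5 D86595) F131391
theorem F279581 : act 7 n179546 = n86592 := d13_2 (iv7 F131393) D179546 (iv5 D86592)
def n179547 : Q := act 0 n85671
theorem D179547 : act 0 n85671 = n179547 := rfl
theorem F279584 : act 5 n179547 = n148936 := d17_3 F60458 D85671 D179547 (iv4 F235941) F235942 (iv0 F200598) (iv5 D85052) (iv0 D39334) D39337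
theorem F279585 : act 1 n86584 = n179547 := d15_0 (iv0 D179547) F131398 (iv2 F132830)
theorem F279586 : act 2 n86598 = n179547 := d2_3 F279584 F236667 F236669
def n179548 : Q := act 1 n85671
theorem D179548 : act 1 n85671 = n179548 := rfl
theorem F279588 : act 1 n179548 = n86584 := d15_1 D179548 (iv7 F279567) F279566
theorem F279589 : act 7 n179548 = n86598 := d15_2 (iv0 D179547) D179548 F279586
def n179549 : Q := act 4 n85671
theorem D179549 : act 4 n85671 = n179549 := rfl
theorem F279592 : act 7 n179549 = n86599 := d11_2 (iv7 F131398) D179549 (iv4 D86599)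
def n179550 : Q := act 6 n85671
theorem D179550 : act 6 n85671 = n179550 := rfl
def n179552 : Q := act 6 n85672
theorem D179552 : act 6 n85672 = n179552 := rfl
theorem F279596 : act 2 n179552 = n86812 := d3_1 D179552 (iv6 D86812) (iv2 F234076)
theorem F279598 : act 5 n179552 = n148960 := d12_1 D179552 (iv6 D148960) (iv5 D69828) D69829 F131400
def n179553 : Q := act 3 n85673
theorem D179553 : act 3 n85673 = n179553 := rfl
def n179554 : Q := act 4 n85673
theorem D179554 : act 4 n85673 = n179554 := rfl
def n179555 : Q := act 0 n85674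
theorem D179555 : act 0 n85674 = n179555 := rfl
theorem F279602 : act 4 n179555 = n118424 := d18_3 (iv1 D85673) D85674 D179555 (iv5 F235942) F235941 (iv0 F236675) F236673 F236658 F236650
theorem F279604 : act 1 n86764 = n179555 := d15_0 (iv0 D179555) F131402 (iv2 F133037)
def n179557 : Q := act 5 n85674
theorem D179557 : act 5 n85674 = n179557 := rfl
theorem F279608 : act 7 n179557 = n86816 := d13_2 (iv7 F131402) D179557 (iv5 D86816)
theorem F279609 : act 1 n179557 = n178614 := d17_6 (iv1 F201255) (iv5 D85666) (iv1 D39585) D39588 D85674 D179557 (iv5 D178614) D178612 F278392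
def n179558 : Q := act 6 n85674
theorem D179558 : act 6 n85674 = n179558 := rfl
theorem F279610 : act 4 n179558 = n85675 := d10_1 D179558 (iv6 D85675) D85674
theorem F279611 : act 7 n179558 = n159429 := d14_2 (iv7 F131402) D179558 (iv6 D159429) (iv7 D76263) (iv6 F61216)
theorem F279612 : act 0 n179558 = n151311 := d20_7 (iv4 F52170) (iv1 F185961) (iv4 D71132) (iv3 F199967) (iv1 F94465) (iv3 F131405) (iv4 F279610) (iv4 D151311) (iv3 D71308) (iv1 D32995)
def n179559 : Q := act 1 n85675
theorem D179559 : act 1 n85675 = n179559 := rfl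
theorem F279613 : act 1 n179559 = n159394 := d15_1 D179559 (iv7 F279575) F279574
theorem F279614 : act 7 n179559 = n159431 := d15_2 (iv0 F237592) D179559 (iv2 F278910)
theorem F279615 : act 2 n159430 = n179559 := d4_3 F279614 (iv2 F278910) (iv7 F279578)
theorem F279616 : act 6 n179559 = n150915 := d21_5 (iv5 D34829) (iv1 F55073) (iv5 F114270) D159394 (iv1 F279613) (iv5 D150915) (iv1 D71144) (iv5 F107527) (iv6 D70977) F78811
def n179560 : Q := act 0 n85676
theorem D179560 : act 0 n85676 = n179560 := rfl
theorem F279617 : act 3 n179560 = n178792 := d20_5 (iv4 F46251) (iv1 F46252) D39589 D85676 D179560 (iv4 D178792) (iv1 D85198) F60326 (iv3 D18712) D18710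
theorem F279618 : act 1 n86825 = n179560 := d15_0 (iv0 D179560) F131408 D86825
def n179561 : Q := act 1 n85676
theorem D179561 : act 1 n85676 = n179561 := rfl
def n179562 : Q := act 2 n85676
theorem D179562 : act 2 n85676 = n179562 := rfl
theorem F279619 : act 3 n179562 = n179114 := d0_2 D85676 D179562 (iv2 D179114) (iv3 D85468) (iv2 F60461)
theorem F279620 : act 5 n179562 = n148875 := d2_2 (iv5 F131407) D179562 (iv2 D148875)
theorem F279621 : act 7 n179562 = n86825 := d4_2 (iv7 F131408) D179562 (iv2 D86825)
theorem F279622 : act 1 n179562 = n86823 := d15_0 (iv0 D86823) (iv7 F131408) D179562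
theorem F279623 : act 1 n179561 = n86825 := d15_1 D179561 (iv7 F279621) (iv2 D179562)
theorem F279624 : act 1 n86824 = n179562 := d15_1 D86824 F279621 (iv2 D86825)
def n179563 : Q := act 6 n85676
theorem D179563 : act 6 n85676 = n179563 := rfl
theorem F279625 : act 3 n179563 = n85677 := d7_1 D179563 (iv6 D85677) D85676
theorem F279626 : act 5 n179563 = n146160 := d12_1 D179563 (iv6 D146160) F104730 (iv6 F106191) (iv5 F131407)
theorem F279627 : act 7 n179563 = n128514 := d14_2 (iv7 F131408) D179563 (iv6 D128514) F94957 (iv6 F61218)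
def n179570 : Q := act 2 n85722
theorem D179570 : act 2 n85722 = n179570 := rfl
theorem F279640 : act 4 n179570 = n124938 := d1_2 (iv4 F131480) D179570 (iv2 F200668)
def n179576 : Q := act 1 n85733
theorem D179576 : act 1 n85733 = n179576 := rfl
theorem F279649 : act 4 n179056 = n179576 := d20_6 (iv4 D39414) (iv1 F29951) D18695 D39454 D85431 D179056 (iv1 D179576) F131483 (iv3 D39615) (iv1 F60342)
def n179577 : Q := act 2 n85733
theorem D179577 : act 2 n85733 = n179577 := rfl
theorem F279650 : act 4 n179577 = n85769 := d1_2 (iv4 F131483) D179577 (iv2 D85769)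
def n179584 : Q := act 2 n85741
theorem D179584 : act 2 n85741 = n179584 := rfl
theorem F279654 : act 3 n179584 = n154009 := d0_2 D85741 D179584 F242032 (iv3 D85812) (iv2 F199826)
theorem F279655 : act 4 n179584 = n124924 := d1_2 F200352 D179584 (iv2 F200652)
def n179585 : Q := act 3 n85742
theorem D179585 : act 3 n85742 = n179585 := rfl
theorem F279658 : act 4 n179585 = n154868 := d5_2 D85742 D179585 F243578 F200352 (iv3 D85741)
def n179587 : Q := act 2 n85746
theorem D179587 : act 2 n85746 = n179587 := rfl
theorem F279662 : act 5 n179587 = n127588 := d2_2 (iv5 F200350) D179587 F205054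
theorem F279665 : act 1 n179587 = n146028 := d15_0 F257017 F200323 D179587
theorem F279666 : act 1 n86774 = n179587 := d15_0 F279665 F229252 F198224
theorem F279668 : act 0 n146030 = n145206 := d21_4 (iv5 F279662) (iv1 F279666) F200380 D146030 F228193 (iv5 D71045) (iv1 F188385) (iv5 D59936) D59937 (iv1 F205235)
def n179591 : Q := act 4 n85755
theorem D179591 : act 4 n85755 = n179591 := rfl
theorem F279683 : act 2 n179591 = n85756 := d1_1 D179591 (iv4 D85756) D85755
def n179592 : Q := act 6 n85755
theorem D179592 : act 6 n85755 = n179592 := rfl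
theorem F279687 : act 2 n179592 = n85757 := d3_1 D179592 (iv6 D85757) D85755
theorem F279688 : act 5 n179592 = n131313 := d12_1 D179592 F210452 (iv5 D70828) D70829 (iv5 F131490)
def n179593 : Q := act 0 n85756
theorem D179593 : act 0 n85756 = n179593 := rfl
theorem F279689 : act 4 n179593 = n152953 := d18_3 F191371 D85756 D179593 F240201 F199820 (iv0 D85670) (iv4 D39587) D39585 D85666
theorem F279691 : act 1 n178612 = n179593 := d15_0 (iv0 D179593) (iv7 F201257) F278393
theorem F279693 : act 6 n153007 = n179593 := d10_0 F279689 F240202 D153007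
def n179594 : Q := act 3 n85756
theorem D179594 : act 3 n85756 = n179594 := rfl
theorem F279694 : act 4 n179594 = n85758 := d5_2 D85756 D179594 (iv3 D85758) (iv4 D39611) D39610
theorem F279695 : act 7 n179594 = n178927 := d8_2 F201257 D179594 F278805
def n179595 : Q := act 5 n85756
theorem D179595 : act 5 n85756 = n179595 := rfl
def n179596 : Q := act 6 n85756
theorem D179596 : act 6 n85756 = n179596 := rfl
theorem F279696 : act 4 n179596 = n85757 := d10_1 D179596 (iv6 D85757) D85756
def n179597 : Q := act 0 n85757
theorem D179597 : act 0 n85757 = n179597 := rfl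
def n179598 : Q := act 1 n85757
theorem D179598 : act 1 n85757 = n179598 := rfl
theorem F279697 : act 5 n139203 = n179598 := d21_0 (iv1 D179598) F131493 (iv6 D70837) D70834 (iv6 F215163) (iv5 F210432) F185329 (iv5 D65343) D65344 D139203
theorem F279698 : act 6 n179598 = n149484 := d21_3 (iv5 D139205) D139203 F279697 (iv1 D149484) F106655 (iv5 D32583) D32581 (iv5 F55715) D76256 F222405
def n179599 : Q := act 0 n85758
theorem D179599 : act 0 n85758 = n179599 := rfl
theorem F279699 : act 1 n178926 = n179599 := d15_0 (iv0 D179599) F131494 D178926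
def n179600 : Q := act 1 n85758
theorem D179600 : act 1 n85758 = n179600 := rfl
def n179601 : Q := act 2 n85758
theorem D179601 : act 2 n85758 = n179601 := rfl
theorem F279700 : act 3 n179601 = n178920 := d0_2 D85758 D179601 (iv2 D178920) (iv3 D85311) (iv2 F60476)
theorem F279701 : act 7 n179601 = n178926 := d4_2 (iv7 F131494) D179601 (iv2 D178926)
theorem F279702 : act 1 n179601 = n178924 := d15_0 (iv0 D178924) (iv7 F131494) D179601
theorem F279703 : act 1 n179600 = n178926 := d15_1 D179600 (iv7 F279701) (iv2 D179601)
theorem F279704 : act 1 n178925 = n179601 := d15_1 D178925 F279701 (iv2 D178926)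
def n179602 : Q := act 6 n85758
theorem D179602 : act 6 n85758 = n179602 := rfl
theorem F279705 : act 3 n179602 = n85759 := d7_1 D179602 (iv6 D85759) D85758
def n179603 : Q := act 0 n85759
theorem D179603 : act 0 n85759 = n179603 := rfl
theorem F279706 : act 4 n179603 = n117901 := d18_3 (iv1 D85761) (iv4 F131496) D179603 F184904 (iv4 F207763) F217788 (iv4 F207995) F215512 F215510
theorem F279707 : act 6 n179603 = n117900 := d21_5 (iv5 F54939) D75904 F113804 D85759 D179603 F228864 (iv1 D145743) (iv5 F130687) (iv6 D85469) (iv1 F60387)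
theorem F279708 : act 1 n155665 = n179603 := d15_0 (iv0 D179603) (iv7 F237078) (iv2 F244687)
theorem F279709 : act 2 n148614 = n179603 := d3_3 F279707 F184901 D148614
theorem F279710 : act 7 n178913 = n179603 := d14_0 F279707 F184902 D148646 (iv7 F235541) (iv6 F278794)
def n179604 : Q := act 1 n85759
theorem D179604 : act 1 n85759 = n179604 := rfl
theorem F279711 : act 1 n179604 = n155665 := d15_1 D179604 F244689 (iv2 F131495)
theorem F279712 : act 7 n179604 = n148614 := d15_2 (iv0 D179603) D179604 F279709
theorem F279713 : act 4 n179604 = n124960 := d18_7 (iv1 D61543) (iv4 F95358) F107315 F107314 (iv5 F60480) (iv4 F131496) D179604 F200688 F110808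
theorem F279715 : act 6 n149515 = n179604 := d10_0 F279713 (iv6 F200690) (iv4 F235131)
def n179605 : Q := act 3 n85760
theorem D179605 : act 3 n85760 = n179605 := rfl
theorem F279716 : act 5 n179605 = n131632 := d6_2 (iv5 F131497) D179605 F210862
def n179606 : Q := act 4 n85764
theorem D179606 : act 4 n85764 = n179606 := rfl
theorem F279717 : act 2 n179606 = n85765 := d1_1 D179606 (iv4 D85765) D85764
theorem F279718 : act 6 n179606 = n153456 := d10_2 F241567 D179606 (iv4 F241566)
theorem F279719 : act 0 n179606 = n124771 := d18_2 (iv1 F201133) D179606 (iv4 D124771) (iv5 D58334) D58333 (iv0 F94528) F94527 F92452 D125151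
def n179607 : Q := act 0 n85765
theorem D179607 : act 0 n85765 = n179607 := rfl
theorem F279720 : act 4 n179607 = n124765 := d18_3 F201231 D85765 D179607 (iv5 D124765) (iv4 F190882) (iv0 D60291) F46214 D28658 D60345
def n179608 : Q := act 1 n85765
theorem D179608 : act 1 n85765 = n179608 := rfl
theorem F279723 : act 4 n124743 = n179608 := d20_0 (iv1 D179608) (iv4 D85765) (iv3 D39613) (iv1 D18756) (iv3 F29987) D39605 D85731 F201414 (iv3 F240617) (iv1 F240621)
theorem F279724 : act 6 n179608 = n152999 := d10_2 F200290 F279723 (iv4 D152999)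
def n179609 : Q := act 3 n85765
theorem D179609 : act 3 n85765 = n179609 := rfl
theorem F279725 : act 4 n179609 = n85766 := d5_2 D85765 D179609 (iv3 D85766) (iv4 D39614) D39613
theorem F279726 : act 6 n179609 = n153695 := d7_2 (iv6 F205963) D179609 (iv3 D153695)
theorem F279727 : act 7 n179609 = n178921 := d8_2 F201238 D179609 F278799
def n179610 : Q := act 5 n85765
theorem D179610 : act 5 n85765 = n179610 := rfl
def n179611 : Q := act 0 n85766
theorem D179611 : act 0 n85766 = n179611 := rfl
theorem F279728 : act 1 n178920 = n179611 := d15_0 (iv0 D179611) F131498 D178920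
def n179612 : Q := act 1 n85766
theorem D179612 : act 1 n85766 = n179612 := rfl
def n179613 : Q := act 2 n85766
theorem D179613 : act 2 n85766 = n179613 := rfl
theorem F279729 : act 3 n179613 = n178926 := d0_2 D85766 D179613 (iv2 D178926) (iv3 D85313) (iv2 F60481)
theorem F279730 : act 7 n179613 = n178920 := d4_2 (iv7 F131498) D179613 (iv2 D178920)
theorem F279731 : act 1 n179613 = n178918 := d15_0 (iv0 D178918) (iv7 F131498) D179613
theorem F279732 : act 1 n179612 = n178920 := d15_1 D179612 (iv7 F279730) (iv2 D179613)
theorem F279733 : act 1 n178919 = n179613 := d15_1 D178919 F279730 (iv2 D178920)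
def n179630 : Q := act 7 n85773
theorem D179630 : act 7 n85773 = n179630 := rfl
theorem F279739 : act 5 n179630 = n85774 := d13_1 D179630 (iv7 D85774) D85773
def n179631 : Q := act 0 n85776
theorem D179631 : act 0 n85776 = n179631 := rfl
def n179632 : Q := act 2 n85776
theorem D179632 : act 2 n85776 = n179632 := rfl
theorem F279740 : act 6 n179632 = n159401 := d3_2 F189680 D179632 (iv2 F250998)
def n179633 : Q := act 4 n85776
theorem D179633 : act 4 n85776 = n179633 := rfl
theorem F279741 : act 1 n179633 = n178615 := d18_6 (iv1 F105591) (iv4 F231755) (iv1 F231756) D147987 (iv5 F231806) D179633 F278395 F233150 (iv5 D69329)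
def n179635 : Q := act 0 n85779
theorem D179635 : act 0 n85779 = n179635 := rfl
def n179636 : Q := act 1 n85779
theorem D179636 : act 1 n85779 = n179636 := rfl
def n179637 : Q := act 2 n85779
theorem D179637 : act 2 n85779 = n179637 := rfl
theorem F279744 : act 5 n179637 = n147605 := d2_2 (iv5 F243347) D179637 (iv2 F243352)
def n179638 : Q := act 4 n85779
theorem D179638 : act 4 n85779 = n179638 := rfl
def n179639 : Q := act 6 n85779
theorem D179639 : act 6 n85779 = n179639 := rfl
theorem F279745 : act 3 n179639 = n85781 := d7_1 D179639 (iv6 D85781) D85779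
def n179640 : Q := act 3 n85780
theorem D179640 : act 3 n85780 = n179640 := rfl
theorem F279747 : act 7 n179640 = n178943 := d8_2 F229382 D179640 (iv3 D178943)
def n179641 : Q := act 6 n85780
theorem D179641 : act 6 n85780 = n179641 := rfl
theorem F279748 : act 2 n179641 = n146125 := d3_1 D179641 F229384 F229376
theorem F279749 : act 4 n179641 = n85781 := d10_1 D179641 (iv6 D85781) D85780
theorem F279750 : act 5 n179641 = n146088 := d12_1 D179641 (iv6 D146088) D146087 F278821 F244771
theorem F279751 : act 7 n179641 = n148612 := d14_2 F229382 D179641 (iv6 F233378) F215865 (iv6 F229381)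
theorem F279752 : act 0 n179641 = n117908 := d21_10 (iv5 F228859) (iv1 F228861) F206640 (iv6 D60443) F46273 D33998 D74096 D155764 F244771 D179641
theorem F279753 : act 1 n179641 = n117900 := d15_1 (iv0 F279752) F184902 (iv2 F184920)
def n179642 : Q := act 3 n85782
theorem D179642 : act 3 n85782 = n179642 := rfl
theorem F279754 : act 5 n179642 = n155946 := d6_2 (iv5 F131551) D179642 (iv3 D155946)
theorem F279755 : act 6 n179642 = n128314 := d7_2 (iv6 F131550) D179642 F244277
theorem F279756 : act 7 n179642 = n146205 := d8_2 F131552 D179642 F229494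
theorem F279757 : act 0 n150314 = n179642 := d21_7 F264264 F257048 F251025 (iv6 F251024) (iv1 F201255) D179541 F279560 F279754 F244958 (iv1 F264268)
def n179643 : Q := act 3 n85783
theorem D179643 : act 3 n85783 = n179643 := rfl
theorem F279758 : act 5 n179643 = n155947 := d6_2 F131553 D179643 (iv3 D155947)
theorem F279759 : act 6 n179643 = n127482 := d7_2 (iv6 F131555) D179643 F230933
theorem F279760 : act 0 n155947 = n127692 := d21_7 (iv5 D59854) (iv1 F45958) D28429 D59877 D127482 (iv6 F279759) F279758 F205285 (iv6 D69179) (iv1 F94302)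
theorem F279761 : act 1 n155947 = n128382 := d15_1 (iv0 F279760) (iv7 D128382) (iv2 F205284)
def n179644 : Q := act 3 n85784
theorem D179644 : act 3 n85784 = n179644 := rfl
theorem F279762 : act 6 n179644 = n85790 := d7_2 (iv6 F131561) D179644 (iv3 D85790)
def n179645 : Q := act 5 n85784
theorem D179645 : act 5 n85784 = n179645 := rfl
def n179646 : Q := act 7 n85784
theorem D179646 : act 7 n85784 = n179646 := rfl
theorem F279766 : act 4 n179646 = n85785 := d11_1 D179646 (iv7 D85785) D85784
theorem F279767 : act 6 n179646 = n150887 := d14_1 D179646 F237605 (iv6 D75953) (iv7 F60489) (iv6 F131561)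
theorem F279768 : act 1 n146193 = n179646 := d15_1 F229486 (iv7 D179646) F131560
theorem F279769 : act 1 n179646 = n159035 := d15_1 F279768 F250375 F244789
theorem F279770 : act 0 n146242 = n159023 := d20_7 D159035 (iv1 F279769) F279766 F199987 (iv1 D68588) (iv3 F104767) (iv4 F229541) F250360 F113838 D75949
def n179647 : Q := act 4 n85787
theorem D179647 : act 4 n85787 = n179647 := rfl
theorem F279772 : act 6 n179647 = n162779 := d10_2 F201144 D179647 (iv4 D162779)
def n179649 : Q := act 1 n85789
theorem D179649 : act 1 n85789 = n179649 := rfl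
theorem F279780 : act 4 n179649 = n124775 := d18_7 (iv1 D69265) (iv4 F105525) F231361 F231360 F113914 D85789 D179649 F200443 F190714
theorem F279781 : act 6 n162724 = n179649 := d21_3 D128007 (iv1 F264123) (iv5 F264126) (iv1 D179649) F206374 (iv5 F240595) F240599 (iv5 D150323) F190545 (iv1 F188333)
def n179650 : Q := act 5 n85789
theorem D179650 : act 5 n85789 = n179650 := rfl
theorem F279785 : act 0 n179650 = n148845 := d17_2 (iv1 D179649) D179650 (iv5 D148845) F192122 (iv5 F231153) F231156 (iv5 F200250) F200442 (iv4 F279780)
theorem F279786 : act 1 n179650 = n148848 := d17_6 (iv1 F106176) D69777 F206133 F113914 D85789 D179650 (iv5 D148848) F233711 F233709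
def n179651 : Q := act 0 n85790
theorem D179651 : act 0 n85790 = n179651 := rfl
theorem F279787 : act 1 n159039 = n179651 := d15_0 (iv0 D179651) F131573 D159039
def n179652 : Q := act 1 n85790
theorem D179652 : act 1 n85790 = n179652 := rfl
def n179653 : Q := act 2 n85790
theorem D179653 : act 2 n85790 = n179653 := rfl
theorem F279788 : act 3 n179653 = n159045 := d0_2 D85790 D179653 (iv2 D159045) (iv3 D75954) (iv2 F60488)
theorem F279789 : act 5 n179653 = n125189 := d2_2 (iv5 F131572) D179653 (iv2 D125189)
theorem F279790 : act 7 n179653 = n159039 := d4_2 (iv7 F131573) D179653 (iv2 D159039)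
theorem F279791 : act 1 n179653 = n159037 := d15_0 (iv0 D159037) (iv7 F131573) D179653
theorem F279792 : act 1 n179652 = n159039 := d15_1 D179652 (iv7 F279790) (iv2 D179653)
theorem F279793 : act 1 n159038 = n179653 := d15_1 D159038 F279790 (iv2 D159039)
def n179654 : Q := act 3 n85791
theorem D179654 : act 3 n85791 = n179654 := rfl
theorem F279795 : act 6 n179654 = n123975 := d7_2 (iv6 F131578) D179654 F198391
def n179655 : Q := act 1 n85792
theorem D179655 : act 1 n85792 = n179655 := rfl
theorem F279798 : act 4 n149349 = n179655 := d20_0 (iv1 D179655) F131579 (iv3 D39628) F29997 (iv3 F44883) (iv4 F92244) D124924 (iv4 F279655) F279654 (iv1 F242035)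
theorem F279799 : act 2 n179655 = n123745 := d1_1 F279798 F229253 F234785
theorem F279801 : act 6 n123758 = n179655 := d3_0 F279799 F268140 (iv2 F268137)
def n179660 : Q := act 3 n85796
theorem D179660 : act 3 n85796 = n179660 := rfl
theorem F279814 : act 5 n179660 = n159893 := d6_2 F192107 D179660 F252132
theorem F279815 : act 6 n179660 = n124818 := d7_2 F190812 D179660 F200489
theorem F279816 : act 7 n179660 = n124735 := d8_2 F190855 D179660 F199604
theorem F279817 : act 1 n154648 = n179660 := d15_1 (iv0 F242794) F279816 (iv2 F236029)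
def n179661 : Q := act 4 n85796
theorem D179661 : act 4 n85796 = n179661 := rfl
theorem F279818 : act 2 n179661 = n124788 := d1_1 D179661 F200455 F190811
theorem F279819 : act 6 n179661 = n124826 := d10_2 F190812 D179661 F200492
theorem F279820 : act 7 n179661 = n124737 := d11_2 F190855 D179661 F199610
theorem F279821 : act 1 n179661 = n124722 := d18_6 (iv1 D68460) (iv4 F104659) D146023 F229245 F192107 D179661 (iv4 F199800) (iv0 F257016) F200380
def n179662 : Q := act 4 n85798
theorem D179662 : act 4 n85798 = n179662 := rfl
theorem F279823 : act 7 n179662 = n154050 := d11_2 F190773 D179662 (iv4 D154050)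
def n179663 : Q := act 4 n85799
theorem D179663 : act 4 n85799 = n179663 := rfl
theorem F279824 : act 2 n179663 = n158933 := d1_1 D179663 (iv4 D158933) (iv2 F131596)
theorem F279825 : act 7 n179663 = n158935 := d11_2 (iv7 F131598) D179663 (iv4 D158935)
def n179664 : Q := act 0 n85800
theorem D179664 : act 0 n85800 = n179664 := rfl
theorem F279827 : act 6 n179664 = n120187 := d21_5 (iv5 F27563) (iv1 F30010) D39636 D85800 D179664 (iv5 D120187) (iv1 F87530) (iv5 F87860) (iv6 D55552) (iv1 F43102)
def n179665 : Q := act 3 n85802
theorem D179665 : act 3 n85802 = n179665 := rfl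

end Cfsg.Agent.Helper17.ONTC
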