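import Cfsg.Agent.Helper17.ONTC.Facts33

set_option autoImplicit false
set_option linter.all false

noncomputable section

namespace Cfsg.Agent.Helper17.ONTC

theorem F279831 : act 5 n179665 = n144931 := d6_2 F236497 D179665 (iv3 F259431)
theorem F279832 : act 6 n179665 = n149918 := d7_2 F194700 D179665 (iv3 D149918)
theorem F279833 : act 7 n179665 = n149072 := d8_2 F215740 D179665 F234448
theorem F279834 : act 4 n179665 = n178888 := d20_6 (iv4 F206387) (iv1 F241911) F241910 F122587 (iv1 F131659) D179665 (iv1 F278758) (iv4 D85295) D85294 (iv1 F200422)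
def n179666 : Q := act 4 n85802
theorem D179666 : act 4 n85802 = n179666 := rfl
theorem F279838 : act 0 n179666 = n178618 := d20_1 D179666 (iv4 D178618) (iv3 F242791) F242794 F236030 (iv4 F206387) (iv1 F241911) F241910 F122587 (iv1 F131659)
theorem F279839 : act 0 n150310 = n148474 := d18_2 F234758 D150310 (iv4 D148474) (iv5 F233047) D178618 (iv0 F279838) (iv4 D179666) F131659 D149327
def n179667 : Q := act 5 n85803
theorem D179667 : act 5 n85803 = n179667 := rfl
theorem F279842 : act 3 n179667 = n159121 := d6_1 D179667 F250525 (iv3 F131656)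
theorem F279845 : act 4 n179667 = n148458 := d18_5 F233007 (iv4 F234762) (iv1 F278378) F278380 D179667 (iv0 D148458) F105842 D69571 (iv5 F232623)
theorem F279847 : act 0 n149352 = n179667 := d21_10 (iv5 D179667) (iv1 F131660) F215738 D150314 F279757 F279755 F244279 F235781 F235779 F234823
def n179669 : Q := act 4 n85805
theorem D179669 : act 4 n85805 = n179669 := rfl
theorem F279854 : act 7 n179669 = n148459 := d11_2 (iv7 F131663) D179669 (iv4 F232204)
theorem F279855 : act 0 n179669 = n148461 := d18_2 F215762 D179669 F232206 (iv5 F233038) F233037 (iv0 D70764) F51943 D32805 D70776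
theorem F279856 : act 1 n179669 = n148441 := d18_6 (iv1 F233051) (iv4 F278383) (iv1 F278385) (iv4 D85804) D85805 D179669 F232182 D148445 F233040
def n179670 : Q := act 1 n85807
theorem D179670 : act 1 n85807 = n179670 := rfl
theorem F279857 : act 7 n179670 = n144897 := d15_2 (iv0 F261835) D179670 (iv2 F261830)
theorem F279858 : act 5 n179670 = n144858 := d18_9 (iv1 F227797) (iv4 F227848) (iv1 F227849) (iv4 D75945) F54946 (iv4 F92244) D124925 (iv4 F200650) D179670
theorem F279859 : act 3 n149188 = n179670 := d20_3 (iv4 F129104) (iv1 F249672) (iv4 F274093) (iv1 D179670) (iv3 D85807) D85808 (iv1 F227749) (iv4 D144834) F199814 (iv1 F130331)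
theorem F279860 : act 2 n179670 = n144892 := d0_1 F279859 F229096 F205845 D166283 F274094
theorem F279863 : act 6 n149875 = n179670 := d3_0 F279860 (iv6 F257046) F278907
def n179674 : Q := act 3 n85813
theorem D179674 : act 3 n85813 = n179674 := rfl
theorem F279875 : act 6 n179674 = n117968 := d7_2 (iv6 F199802) D179674 (iv3 D117968)
theorem F279877 : act 0 n123926 = n179674 := d20_4 D85638 F131322 (iv4 F125410) (iv3 F198351) (iv3 D179674) (iv4 D85813) (iv1 D39640) (iv4 F60442) (iv3 D39569) D39567
def n179676 : Q := act 3 n85823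
theorem D179676 : act 3 n85823 = n179676 := rfl
theorem F279882 : act 5 n179676 = n120097 := d6_2 (iv5 F199741) D179676 (iv3 D120097)
theorem F279883 : act 6 n179676 = n128421 := d7_2 (iv6 F199742) D179676 (iv3 D128421)
theorem F279884 : act 7 n179676 = n118122 := d8_2 (iv7 F199743) D179676 F185580
def n179677 : Q := act 3 n85824
theorem D179677 : act 3 n85824 = n179677 := rfl
theorem F279885 : act 5 n179677 = n151151 := d6_2 F131680 D179677 F237821
theorem F279886 : act 0 n179677 = n148867 := d21_7 (iv5 D80536) (iv1 F188310) (iv5 F94702) D128017 F243081 D151151 (iv5 F279885) F233903 (iv6 F206012) (iv1 F123807)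
def n179678 : Q := act 4 n85824
theorem D179678 : act 4 n85824 = n179678 := rfl
theorem F279888 : act 7 n179678 = n146734 := d11_2 (iv7 F183281) D179678 F230072
theorem F279889 : act 0 n179678 = n120614 := d18_2 F185965 D179678 F192199 F87849 D71309 F108602 F107642 F86096 D118344
theorem F279890 : act 1 n179678 = n151309 := d15_1 (iv0 F279889) F238025 (iv2 F192198)
theorem F279891 : act 0 n153035 = n151153 := d18_2 F108673 (iv4 F240343) F237823 F131680 D179678 F279890 (iv4 D151309) (iv0 F183630) F183629
def n179679 : Q := act 3 n85825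
theorem D179679 : act 3 n85825 = n179679 := rfl
theorem F279892 : act 2 n179679 = n124808 := d0_1 D179679 (iv3 D124808) F190875 D101546 F199599
theorem F279893 : act 4 n179679 = n123210 := d20_6 (iv4 D27837) (iv1 F22075) D18781 D39684 D85825 D179679 (iv1 D123210) F90541 F60122 (iv1 F91156)
def n179683 : Q := act 5 n85826
theorem D179683 : act 5 n85826 = n179683 := rfl
theorem F279894 : act 0 n179683 = n171414 := d21_1 D179683 (iv5 D171414) (iv6 D82129) (iv1 F236128) (iv6 D82001) (iv5 F64302) (iv1 D41675) F31389 D41128 (iv1 F131684)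
def n179684 : Q := act 6 n85826
theorem D179684 : act 6 n85826 = n179684 := rfl
theorem F279895 : act 5 n179684 = n171099 := d21_6 (iv5 F64302) (iv1 D41675) F31389 D41128 (iv1 F131684) D179684 (iv1 D171099) (iv5 D82005) (iv6 D37568) D37566
def n179685 : Q := act 5 n85827
theorem D179685 : act 5 n85827 = n179685 := rfl
theorem F279896 : act 2 n179685 = n85828 := d2_1 D179685 (iv5 D85828) D85827
theorem F279897 : act 3 n179685 = n88089 := d6_1 D179685 F135078 (iv3 F131682)
theorem F279898 : act 7 n179685 = n88075 := d13_2 (iv7 F131683) D179685 (iv5 D88075)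
def n179686 : Q := act 0 n85828
theorem D179686 : act 0 n85828 = n179686 := rfl
theorem F279899 : act 1 n88075 = n179686 := d15_0 (iv0 D179686) (iv7 F195638) F195636
def n179687 : Q := act 1 n85828
theorem D179687 : act 1 n85828 = n179687 := rfl
theorem F279900 : act 1 n179687 = n88075 := d15_1 D179687 (iv7 F279898) F279896
def n179688 : Q := act 4 n85828
theorem D179688 : act 4 n85828 = n179688 := rfl
def n179689 : Q := act 6 n85828
theorem D179689 : act 6 n85828 = n179689 := rfl
theorem F279901 : act 3 n179689 = n85830 := d7_1 D179689 (iv6 D85830) (iv3 F131685)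
def n179691 : Q := act 6 n85829
theorem D179691 : act 6 n85829 = n179691 := rfl
theorem F279902 : act 4 n179691 = n85830 := d10_1 D179691 (iv6 D85830) D85829
def n179696 : Q := act 5 n85831
theorem D179696 : act 5 n85831 = n179696 := rfl
theorem F279905 : act 3 n179696 = n175752 := d6_1 D179696 (iv5 D175752) (iv3 F131686)
def n179697 : Q := act 6 n85831
theorem D179697 : act 6 n85831 = n179697 := rfl
def n179698 : Q := act 3 n85832
theorem D179698 : act 3 n85832 = n179698 := rfl
theorem F279907 : act 2 n179698 = n98959 := d0_1 D179698 (iv3 F155171) (iv2 F279264) F272105 F279288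
def n179699 : Q := act 4 n85832
theorem D179699 : act 4 n85832 = n179699 := rfl
theorem F279908 : act 0 n179699 = n101569 := d20_1 D179699 (iv4 D101569) (iv3 D47247) (iv1 D22723) (iv3 F35293) F35294 (iv1 F155108) (iv4 F92434) (iv3 F200986) (iv1 F200991)
theorem F279909 : act 0 n88949 = n179698 := d20_4 (iv4 F29336) D37899 (iv4 F155435) D88949 (iv3 D179698) D179699 F279908 (iv4 D101569) (iv3 D47247) (iv1 D22723)
theorem F279910 : act 1 n98960 = n179698 := d15_0 (iv0 F279909) F272712 D98960
def n179702 : Q := act 5 n85833
theorem D179702 : act 5 n85833 = n179702 := rfl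
theorem F279912 : act 3 n179702 = n85853 := d6_1 D179702 (iv5 D85853) (iv3 F131687)
def n179703 : Q := act 6 n85833
theorem D179703 : act 6 n85833 = n179703 := rfl
theorem F279913 : act 2 n179703 = n85835 := d3_1 D179703 (iv6 D85835) D85833
theorem F279914 : act 3 n179703 = n85854 := d7_1 D179703 (iv6 D85854) (iv3 F131687)
def n179707 : Q := act 6 n85834
theorem D179707 : act 6 n85834 = n179707 := rfl
theorem F279915 : act 3 n179707 = n85837 := d7_1 D179707 (iv6 D85837) (iv3 F131688)
def n179708 : Q := act 0 n85835
theorem D179708 : act 0 n85835 = n179708 := rfl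
def n179709 : Q := act 1 n85835
theorem D179709 : act 1 n85835 = n179709 := rfl
def n179710 : Q := act 5 n85835
theorem D179710 : act 5 n85835 = n179710 := rfl
theorem F279916 : act 3 n179710 = n85838 := d6_1 D179710 (iv5 D85838) (iv3 F131689)
def n179712 : Q := act 3 n85836
theorem D179712 : act 3 n85836 = n179712 := rfl
def n179713 : Q := act 6 n85836
theorem D179713 : act 6 n85836 = n179713 := rfl
theorem F279920 : act 2 n179713 = n85874 := d3_1 D179713 (iv6 D85874) (iv2 F131690)
theorem F279921 : act 4 n179713 = n85837 := d10_1 D179713 (iv6 D85837) D85836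
def n179714 : Q := act 0 n85837
theorem D179714 : act 0 n85837 = n179714 := rfl
def n179715 : Q := act 1 n85837
theorem D179715 : act 1 n85837 = n179715 := rfl
theorem F279922 : act 1 n179715 = n85878 := d15_1 D179715 (iv7 D85878) (iv2 F131691)
def n179716 : Q := act 5 n85837
theorem D179716 : act 5 n85837 = n179716 := rfl
theorem F279923 : act 2 n179716 = n85877 := d2_1 D179716 (iv5 D85877) (iv2 F131691)
theorem F279924 : act 6 n179716 = n85838 := d12_2 D85837 D179716 (iv5 D85838) (iv6 D39695) D39694
def n179717 : Q := act 7 n85837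
theorem D179717 : act 7 n85837 = n179717 := rfl
theorem F279925 : act 2 n179717 = n85878 := d4_1 D179717 (iv7 D85878) (iv2 F131691)
theorem F279926 : act 1 n85878 = n179714 := d15_0 (iv0 D179714) D179717 F279925
theorem F279927 : act 1 n85876 = n179717 := d15_1 D85876 (iv7 D179717) F131691
theorem F279928 : act 1 n179717 = n85875 := d15_0 (iv0 D85875) D85878 (iv2 F279925)
def n179718 : Q := act 4 n85838
theorem D179718 : act 4 n85838 = n179718 := rfl
theorem F279929 : act 2 n179718 = n85883 := d1_1 D179718 (iv4 D85883) (iv2 F131692)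
theorem F279930 : act 5 n179718 = n85883 := d16_1 D179718 (iv4 D85883) (iv5 D39721) F30037 D18797 (iv4 F60587) (iv5 F131735) (iv7 D85884) (iv2 F131692)
theorem F279931 : act 0 n179718 = n122462 := d17_0 F195924 F195874 (iv5 D122435) (iv4 D56736) (iv5 D27261) D27260 D56732 (iv0 F131693) D179718
theorem F279932 : act 1 n179718 = n122449 := d18_6 (iv1 D124403) F91759 F117170 (iv4 F60568) D85838 D179718 (iv4 D122449) D122448 (iv5 F198948)
def n179722 : Q := act 3 n85841
theorem D179722 : act 3 n85841 = n179722 := rfl
theorem F279937 : act 7 n179722 = n85914 := d8_2 (iv7 F131703) D179722 (iv3 D85914)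
def n179723 : Q := act 4 n85842
theorem D179723 : act 4 n85842 = n179723 := rfl
theorem F279939 : act 7 n179723 = n88960 := d11_2 (iv7 F131706) D179723 (iv4 D88960)
def n179724 : Q := act 6 n85842
theorem D179724 : act 6 n85842 = n179724 := rfl
theorem F279943 : act 3 n179724 = n85844 := d7_1 D179724 (iv6 D85844) (iv3 F131705)
theorem F279944 : act 5 n179724 = n98563 := d12_1 D179724 (iv6 D98563) F72645 (iv6 F91587) D85842
theorem F279945 : act 7 n179724 = n88986 := d14_2 (iv7 F131706) D179724 (iv6 D88986) (iv7 D41545) (iv6 F64080)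
def n179725 : Q := act 3 n85843
theorem D179725 : act 3 n85843 = n179725 := rfl
def n179726 : Q := act 6 n85843
theorem D179726 : act 6 n85843 = n179726 := rfl
theorem F279948 : act 4 n179726 = n85844 := d10_1 D179726 (iv6 D85844) D85843
def n179729 : Q := act 7 n85844
theorem D179729 : act 7 n85844 = n179729 := rfl
theorem F279950 : act 5 n179729 = n98460 := d13_1 D179729 (iv7 F277378) F277377
theorem F279951 : act 6 n179729 = n88935 := d14_1 D179729 (iv7 D88935) (iv6 F91730) F91731 D85844
def n179730 : Q := act 4 n85851
theorem D179730 : act 4 n85851 = n179730 := rfl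
def n179731 : Q := act 6 n85851
theorem D179731 : act 6 n85851 = n179731 := rfl
def n179732 : Q := act 4 n85853
theorem D179732 : act 4 n85853 = n179732 := rfl
theorem F279952 : act 2 n179732 = n85857 := d1_1 D179732 (iv4 D85857) (iv2 F131711)
def n179733 : Q := act 6 n85853
theorem D179733 : act 6 n85853 = n179733 := rfl
theorem F279953 : act 2 n179733 = n85858 := d3_1 D179733 (iv6 D85858) (iv2 F131711)
def n179734 : Q := act 5 n85854
theorem D179734 : act 5 n85854 = n179734 := rfl
theorem F279954 : act 2 n179734 = n85861 := d2_1 D179734 (iv5 D85861) (iv2 F131712)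
theorem F279955 : act 0 n179734 = n118199 := d17_2 (iv1 F237241) D179734 (iv5 D118199) F190217 D72608 F241348 F241347 (iv0 F242144) F190951
theorem F279956 : act 1 n179734 = n118194 := d17_6 D26334 D54453 F155425 (iv5 D85954) (iv4 F131713) D179734 (iv5 D118194) (iv0 D54446) F41999
def n179735 : Q := act 7 n85854
theorem D179735 : act 7 n85854 = n179735 := rfl
theorem F279958 : act 4 n179735 = n85955 := d11_1 D179735 (iv7 D85955) (iv4 F131713)
theorem F279959 : act 6 n179735 = n125145 := d14_1 D179735 F201065 F131803 F92435 D85854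
theorem F279960 : act 1 n85860 = n179735 := d15_1 D85860 (iv7 D179735) F131712
theorem F279961 : act 1 n179735 = n85859 := d15_1 F279960 F278980 (iv2 F233013)
def n179736 : Q := act 3 n85855
theorem D179736 : act 3 n85855 = n179736 := rfl
def n179737 : Q := act 4 n85855
theorem D179737 : act 4 n85855 = n179737 := rfl
def n179738 : Q := act 5 n85855
theorem D179738 : act 5 n85855 = n179738 := rfl
theorem F279964 : act 1 n179738 = n120638 := d17_8 F155464 (iv5 D85959) (iv1 F92476) (iv5 D58541) (iv4 F92434) D125120 F201027 D179738 F192268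
theorem F279965 : act 6 n150163 = n179738 := d21_5 D149133 F234511 (iv5 D76085) D76086 (iv1 F236344) (iv5 D179738) (iv1 F201027) (iv5 D125120) (iv6 F131803) (iv1 F232660)
theorem F279966 : act 1 n150094 = n179738 := d15_0 F279964 F192269 (iv2 F236201)
def n179739 : Q := act 6 n85855
theorem D179739 : act 6 n85855 = n179739 := rfl
def n179740 : Q := act 3 n85856
theorem D179740 : act 3 n85856 = n179740 := rfl
theorem F279967 : act 5 n179740 = n150169 := d6_2 (iv5 F233143) D179740 F236350
def n179741 : Q := act 4 n85856
theorem D179741 : act 4 n85856 = n179741 := rfl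
def n179742 : Q := act 6 n85856
theorem D179742 : act 6 n85856 = n179742 := rfl
theorem F279968 : act 5 n179742 = n150173 := d12_1 D179742 (iv6 D150173) (iv5 D70675) D70676 (iv5 F233143)
def n179743 : Q := act 0 n85857
theorem D179743 : act 0 n85857 = n179743 := rfl
def n179744 : Q := act 1 n85857
theorem D179744 : act 1 n85857 = n179744 := rfl
theorem F279969 : act 4 n179744 = n150237 := d18_7 F155124 (iv4 D39754) (iv1 D18799) (iv4 F30036) D39713 D85857 D179744 F236436 (iv5 D101543)
def n179745 : Q := act 3 n85857
theorem D179745 : act 3 n85857 = n179745 := rfl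
theorem F279970 : act 4 n179745 = n85872 := d5_2 D85857 D179745 (iv3 D85872) (iv4 D39717) (iv3 F60584)
def n179746 : Q := act 5 n85857
theorem D179746 : act 5 n85857 = n179746 := rfl
def n179747 : Q := act 6 n85857
theorem D179747 : act 6 n85857 = n179747 := rfl
theorem F279971 : act 4 n179747 = n85858 := d10_1 D179747 (iv6 D85858) D85857
def n179748 : Q := act 0 n85858
theorem D179748 : act 0 n85858 = n179748 := rfl
def n179749 : Q := act 1 n85858
theorem D179749 : act 1 n85858 = n179749 := rfl
def n179750 : Q := act 5 n85858
theorem D179750 : act 5 n85858 = n179750 := rfl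
theorem F279972 : act 3 n179750 = n85877 := d6_1 D179750 (iv5 D85877) (iv3 F131714)
theorem F279973 : act 6 n179750 = n85861 := d12_2 D85858 D179750 (iv5 D85861) (iv6 D39714) D39713
def n179751 : Q := act 7 n85858
theorem D179751 : act 7 n85858 = n179751 := rfl
theorem F279974 : act 3 n179751 = n85878 := d8_1 D179751 (iv7 D85878) (iv3 F131714)
def n179752 : Q := act 3 n85859
theorem D179752 : act 3 n85859 = n179752 := rfl
def n179753 : Q := act 6 n85859
theorem D179753 : act 6 n85859 = n179753 := rfl
def n179754 : Q := act 3 n85860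
theorem D179754 : act 3 n85860 = n179754 := rfl
def n179755 : Q := act 0 n85861
theorem D179755 : act 0 n85861 = n179755 := rfl
theorem F279975 : act 5 n179755 = n118171 := d17_3 (iv1 D85860) D85861 D179755 F190269 D153523 F241290 (iv5 D124817) (iv0 F241310) F233012
theorem F279976 : act 2 n118199 = n179755 := d2_3 F279975 F190268 D118199
theorem F279977 : act 7 n118194 = n179755 := d13_0 F279975 F190270 D118194
def n179756 : Q := act 1 n85861
theorem D179756 : act 1 n85861 = n179756 := rfl
theorem F279978 : act 7 n179756 = n118199 := d15_2 (iv0 D179755) D179756 F279976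
theorem F279979 : act 5 n179756 = n118170 := d17_7 D54440 F155442 (iv1 D85986) (iv5 D39765) (iv4 F60586) D85861 D179756 (iv0 D118170) F85981
theorem F279980 : act 2 n118194 = n179756 := d2_3 F279979 F190227 D118194
def n179757 : Q := act 4 n85861
theorem D179757 : act 4 n85861 = n179757 := rfl
def n179758 : Q := act 7 n85861
theorem D179758 : act 7 n85861 = n179758 := rfl
theorem F279981 : act 3 n179758 = n85884 := d8_1 D179758 (iv7 D85884) (iv3 F131715)
theorem F279983 : act 1 n118194 = n179758 := d15_1 F279956 (iv7 D179758) (iv2 F279954)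
def n179759 : Q := act 0 n85863
theorem D179759 : act 0 n85863 = n179759 := rfl
def n179760 : Q := act 1 n85863
theorem D179760 : act 1 n85863 = n179760 := rfl
def n179761 : Q := act 2 n85863
theorem D179761 : act 2 n85863 = n179761 := rfl
def n179762 : Q := act 4 n85863
theorem D179762 : act 4 n85863 = n179762 := rfl
def n179763 : Q := act 5 n85863
theorem D179763 : act 5 n85863 = n179763 := rfl
theorem F279985 : act 3 n179763 = n85865 := d6_1 D179763 (iv5 D85865) D85863
theorem F279986 : act 7 n179763 = n159172 := d13_2 F201032 D179763 F250631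
theorem F279987 : act 6 n159163 = n179763 := d14_5 F279986 F250632 F126282 D82049 (iv7 F250597)
def n179764 : Q := act 6 n85863
theorem D179764 : act 6 n85863 = n179764 := rfl
theorem F279988 : act 3 n179764 = n85866 := d7_1 D179764 (iv6 D85866) D85863
def n179765 : Q := act 0 n85864
theorem D179765 : act 0 n85864 = n179765 := rfl
theorem F279990 : act 4 n179765 = n122338 := d18_3 D39715 D85864 D179765 (iv5 D122338) F117196 (iv0 D37452) (iv4 F29811) (iv0 F91157) D18790
theorem F279991 : act 1 n85868 = n179765 := d15_0 (iv0 D179765) (iv7 F201034) F201033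
theorem F279993 : act 7 n170716 = n179765 := d11_0 F279990 F195641 D170716
def n179766 : Q := act 1 n85864
theorem D179766 : act 1 n85864 = n179766 := rfl
theorem F279994 : act 1 n179766 = n85868 := d15_1 D179766 (iv7 F201038) F201037
theorem F279996 : act 4 n179766 = n86693 := d18_7 D159167 F250612 D166994 F262949 (iv5 D85865) D85864 D179766 (iv0 F250620) (iv5 D159169)
theorem F279997 : act 5 n179766 = n171120 := d18_9 F268854 (iv4 D159142) F114072 D85906 (iv5 F200995) (iv4 D125108) F92420 D85864 D179766
theorem F279998 : act 2 n170716 = n179766 := d2_3 F279997 F268888 F268886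
def n179767 : Q := act 3 n85864
theorem D179767 : act 3 n85864 = n179767 := rfl
def n179768 : Q := act 5 n85864
theorem D179768 : act 5 n85864 = n179768 := rfl
theorem F280001 : act 4 n179768 = n85900 := d16_2 D85864 D179768 (iv5 D85900) D85899 F131788 F126483 (iv5 F92419) (iv7 F117532) (iv2 F117533)
def n179769 : Q := act 6 n85864
theorem D179769 : act 6 n85864 = n179769 := rfl
theorem F280002 : act 4 n179769 = n85866 := d10_1 D179769 (iv6 D85866) D85864
def n179770 : Q := act 0 n85866
theorem D179770 : act 0 n85866 = n179770 := rfl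
theorem F280003 : act 6 n179770 = n88930 := d21_5 (iv5 D120639) (iv1 F131721) (iv5 D85865) D85866 D179770 (iv5 D88930) (iv1 D41525) D41526 (iv6 F91730) (iv1 F192273)
def n179771 : Q := act 1 n85866
theorem D179771 : act 1 n85866 = n179771 := rfl
def n179772 : Q := act 7 n85866
theorem D179772 : act 7 n85866 = n179772 := rfl
def n179773 : Q := act 0 n85867
theorem D179773 : act 0 n85867 = n179773 := rfl
def n179774 : Q := act 1 n85867
theorem D179774 : act 1 n85867 = n179774 := rfl
def n179775 : Q := act 2 n85867
theorem D179775 : act 2 n85867 = n179775 := rfl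
theorem F280004 : act 5 n179775 = n171262 := d2_2 (iv5 F131725) D179775 F268988
def n179776 : Q := act 4 n85867
theorem D179776 : act 4 n85867 = n179776 := rfl
def n179777 : Q := act 6 n85867
theorem D179777 : act 6 n85867 = n179777 := rfl
theorem F280005 : act 3 n179777 = n85869 := d7_1 D179777 (iv6 D85869) D85867
theorem F280006 : act 5 n179777 = n171270 := d12_1 D179777 (iv6 D171270) (iv5 D82064) D82065 (iv5 F131725)
def n179778 : Q := act 3 n85868
theorem D179778 : act 3 n85868 = n179778 := rfl
def n179779 : Q := act 5 n85868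
theorem D179779 : act 5 n85868 = n179779 := rfl
theorem F280008 : act 4 n179779 = n85897 := d9_1 D179779 (iv5 D85897) D85896 (iv5 F262948) F262949 (iv5 D85865) D85864 D179768 F280001 (iv5 D85900) D85899 F131788 F126483 (iv5 F92419) D85868
theorem F280009 : act 7 n179779 = n159149 := d13_2 F201038 D179779 F250582
def n179780 : Q := act 6 n85868
theorem D179780 : act 6 n85868 = n179780 := rfl
theorem F280010 : act 4 n179780 = n85869 := d10_1 D179780 (iv6 D85869) D85868
def n179783 : Q := act 7 n85869
theorem D179783 : act 7 n85869 = n179783 := rfl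
theorem F280011 : act 5 n179783 = n171278 := d13_1 D179783 (iv7 D171278) (iv5 F131726)
def n179784 : Q := act 3 n85870
theorem D179784 : act 3 n85870 = n179784 := rfl
def n179785 : Q := act 5 n85870
theorem D179785 : act 5 n85870 = n179785 := rfl
theorem F280014 : act 4 n179785 = n85892 := d16_2 F268229 D179785 (iv5 D85892) (iv4 D39730) (iv5 F117173) (iv4 F58496) D82134 (iv7 F250628) F268230
theorem F280016 : act 0 n179785 = n120632 := d18_0 (iv4 D120632) (iv1 F131775) (iv4 F280008) (iv5 D179779) (iv4 D85868) F92418 D125108 F200998 D179785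
def n179786 : Q := act 6 n85870
theorem D179786 : act 6 n85870 = n179786 := rfl
def n179787 : Q := act 3 n85871
theorem D179787 : act 3 n85871 = n179787 := rfl
def n179788 : Q := act 5 n85871
theorem D179788 : act 5 n85871 = n179788 := rfl
theorem F280020 : act 1 n179788 = n120632 := d17_8 (iv1 F131775) (iv5 D85897) (iv1 F92424) (iv5 F195840) F195844 (iv5 D85873) D85871 D179788 (iv4 D120632)
def n179789 : Q := act 6 n85871
theorem D179789 : act 6 n85871 = n179789 := rfl
theorem F280022 : act 4 n179789 = n171419 := d10_1 D179789 F269163 (iv4 F131727)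
def n179793 : Q := act 5 n85872
theorem D179793 : act 5 n85872 = n179793 := rfl
theorem F280023 : act 3 n179793 = n85873 := d6_1 D179793 (iv5 D85873) D85872
def n179794 : Q := act 6 n85872
theorem D179794 : act 6 n85872 = n179794 := rfl
theorem F280024 : act 3 n179794 = n85874 := d7_1 D179794 (iv6 D85874) D85872
def n179795 : Q := act 6 n85873
theorem D179795 : act 6 n85873 = n179795 := rfl
def n179796 : Q := act 0 n85874
theorem D179796 : act 0 n85874 = n179796 := rfl
def n179797 : Q := act 1 n85874
theorem D179797 : act 1 n85874 = n179797 := rfl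
def n179798 : Q := act 5 n85874
theorem D179798 : act 5 n85874 = n179798 := rfl
def n179799 : Q := act 7 n85874
theorem D179799 : act 7 n85874 = n179799 := rfl
theorem F280025 : act 4 n179799 = n85878 := d11_1 D179799 (iv7 D85878) (iv4 F131728)
def n179800 : Q := act 2 n85875
theorem D179800 : act 2 n85875 = n179800 := rfl
theorem F280026 : act 7 n85876 = n179800 := d15_2 (iv0 D85875) D85876 (iv2 D179800)
def n179801 : Q := act 3 n85875
theorem D179801 : act 3 n85875 = n179801 := rfl
def n179802 : Q := act 4 n85875
theorem D179802 : act 4 n85875 = n179802 := rfl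
def n179803 : Q := act 5 n85875
theorem D179803 : act 5 n85875 = n179803 := rfl
def n179804 : Q := act 6 n85875
theorem D179804 : act 6 n85875 = n179804 := rfl
def n179805 : Q := act 7 n85875
theorem D179805 : act 7 n85875 = n179805 := rfl
theorem F280027 : act 2 n179805 = n85876 := d4_1 D179805 F280026 (iv2 D179800)
def n179806 : Q := act 3 n85876
theorem D179806 : act 3 n85876 = n179806 := rfl
def n179807 : Q := act 4 n85876
theorem D179807 : act 4 n85876 = n179807 := rfl
def n179808 : Q := act 5 n85876
theorem D179808 : act 5 n85876 = n179808 := rfl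
theorem F280028 : act 6 n98393 = n179808 := d21_5 F131732 F118996 D56669 F89630 D98393 (iv5 D179808) (iv1 D85876) D85877 F131729 D85882
def n179809 : Q := act 6 n85876
theorem D179809 : act 6 n85876 = n179809 := rfl
theorem F280029 : act 5 n179809 = n177887 := d12_1 D179809 F277464 F268503 F280028 (iv5 D179808)
theorem F280031 : act 0 n88930 = n179809 := d21_1 D88930 F280029 F277464 (iv1 F277452) (iv6 F277447) (iv5 D98448) (iv1 F151829) F151826 (iv6 F126454) (iv1 F126456)
theorem F280032 : act 0 n179809 = n88926 := d21_7 (iv5 F268502) (iv1 F153956) (iv5 D46708) D46709 D100023 (iv6 F277464) (iv5 F280029) (iv5 D88926) D88927 (iv1 F277426)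
def n179810 : Q := act 0 n85877
theorem D179810 : act 0 n85877 = n179810 := rfl
def n179811 : Q := act 1 n85877
theorem D179811 : act 1 n85877 = n179811 := rfl
def n179812 : Q := act 4 n85877
theorem D179812 : act 4 n85877 = n179812 := rfl
theorem F280033 : act 6 n179812 = n85883 := d10_2 (iv6 F131729) D179812 (iv4 D85883)
def n179813 : Q := act 7 n85877
theorem D179813 : act 7 n85877 = n179813 := rfl
theorem F280034 : act 5 n179813 = n85878 := d13_1 D179813 (iv7 D85878) D85877
def n179814 : Q := act 0 n85879
theorem D179814 : act 0 n85879 = n179814 := rfl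
def n179815 : Q := act 1 n85879
theorem D179815 : act 1 n85879 = n179815 := rfl
def n179816 : Q := act 2 n85879
theorem D179816 : act 2 n85879 = n179816 := rfl
def n179817 : Q := act 6 n85879
theorem D179817 : act 6 n85879 = n179817 := rfl
theorem F280035 : act 3 n179817 = n85880 := d7_1 D179817 (iv6 D85880) D85879
def n179818 : Q := act 0 n85881
theorem D179818 : act 0 n85881 = n179818 := rfl
def n179819 : Q := act 1 n85881
theorem D179819 : act 1 n85881 = n179819 := rfl
def n179820 : Q := act 2 n85881
theorem D179820 : act 2 n85881 = n179820 := rfl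
theorem F280037 : act 6 n179820 = n161955 := d3_2 (iv6 F131731) D179820 (iv2 D161955)
def n179821 : Q := act 3 n85882
theorem D179821 : act 3 n85882 = n179821 := rfl
theorem F280038 : act 5 n179821 = n98169 := d6_2 (iv5 F131732) D179821 (iv3 D98169)
theorem F280039 : act 7 n179821 = n122414 := d8_2 (iv7 F131734) D179821 F195861
def n179822 : Q := act 4 n85882
theorem D179822 : act 4 n85882 = n179822 := rfl
theorem F280040 : act 2 n179822 = n122423 := d1_1 D179822 (iv4 D122423) F131733
theorem F280041 : act 7 n179822 = n122416 := d11_2 (iv7 F131734) D179822 (iv4 D122416)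
def n179823 : Q := act 6 n85882
theorem D179823 : act 6 n85882 = n179823 := rfl
theorem F280042 : act 2 n179823 = n122424 := d3_1 D179823 (iv6 D122424) F131733
def n179824 : Q := act 0 n85883
theorem D179824 : act 0 n85883 = n179824 := rfl
theorem F280043 : act 4 n179824 = n122354 := d18_3 F123439 D85883 D179824 (iv5 D122354) (iv4 D56676) F44071 (iv4 F44110) (iv0 F57468) D80350
theorem F280044 : act 2 n122462 = n179824 := d1_3 F280043 F195675 D122462
def n179825 : Q := act 1 n85883
theorem D179825 : act 1 n85883 = n179825 := rfl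
theorem F280046 : act 7 n179825 = n122462 := d15_2 (iv0 D179824) D179825 F280044
theorem F280047 : act 4 n179825 = n122353 := d17_9 (iv1 F268242) (iv5 D170718) (iv1 F125796) D85912 (iv4 F195869) (iv5 F195924) (iv0 F279931) F279930 D179825
theorem F280048 : act 2 n122449 = n179825 := d1_3 F280047 F195673 D122449
def n179826 : Q := act 3 n85883
theorem D179826 : act 3 n85883 = n179826 := rfl
def n179827 : Q := act 7 n85883
theorem D179827 : act 7 n85883 = n179827 := rfl
theorem F280049 : act 4 n179827 = n85884 := d11_1 D179827 (iv7 D85884) D85883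
theorem F280050 : act 1 n122449 = n179827 := d15_1 F279932 (iv7 D179827) (iv2 F279929)
theorem F280051 : act 1 n179827 = n122462 := d15_1 F280050 (iv7 F280046) (iv2 F280048)
def n179829 : Q := act 3 n85886
theorem D179829 : act 3 n85886 = n179829 := rfl
def n179835 : Q := act 3 n85890
theorem D179835 : act 3 n85890 = n179835 := rfl
theorem F280061 : act 6 n179835 = n159179 := d7_2 (iv6 F131757) D179835 (iv3 D159179)
def n179840 : Q := act 6 n85891
theorem D179840 : act 6 n85891 = n179840 := rfl
theorem F280070 : act 3 n179840 = n85893 := d7_1 D179840 (iv6 D85893) D85891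
theorem F280072 : act 0 n170761 = n179840 := d20_4 (iv4 F199510) (iv1 F241772) (iv4 F242715) (iv3 F268354) F280070 F131767 F117369 (iv4 F129935) (iv3 F206584) F234501
def n179843 : Q := act 0 n85895
theorem D179843 : act 0 n85895 = n179843 := rfl
def n179844 : Q := act 1 n85895
theorem D179844 : act 1 n85895 = n179844 := rfl
def n179845 : Q := act 2 n85895
theorem D179845 : act 2 n85895 = n179845 := rfl
def n179846 : Q := act 5 n85895
theorem D179846 : act 5 n85895 = n179846 := rfl
theorem F280080 : act 3 n179846 = n85897 := d6_1 D179846 (iv5 D85897) D85895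
theorem F280081 : act 7 n179846 = n159148 := d13_2 F201054 D179846 F250581
def n179847 : Q := act 6 n85897
theorem D179847 : act 6 n85897 = n179847 := rfl
theorem F280082 : act 2 n179847 = n159153 := d3_1 D179847 (iv6 D159153) (iv2 F131782)
theorem F280083 : act 5 n179847 = n177761 := d12_1 D179847 (iv6 D177761) (iv5 D84640) (iv6 F131776) D85897
def n179854 : Q := act 2 n85902
theorem D179854 : act 2 n85902 = n179854 := rfl
theorem F280096 : act 7 n85903 = n179854 := d15_2 (iv0 D85902) D85903 (iv2 D179854)
def n179855 : Q := act 3 n85902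
theorem D179855 : act 3 n85902 = n179855 := rfl
def n179856 : Q := act 4 n85902
theorem D179856 : act 4 n85902 = n179856 := rfl
theorem F280097 : act 1 n179856 = n124735 := d18_8 F232611 (iv4 F183354) (iv1 F232610) (iv4 D144899) F199850 (iv4 F201064) F201066 D179856 (iv5 F199606)
theorem F280098 : act 3 n179856 = n119328 := d20_3 (iv4 F60591) D85902 D179856 (iv1 F233051) F130420 (iv4 F130430) (iv1 F278185) F278183 (iv3 D86008) (iv1 D39774)
theorem F280099 : act 2 n124706 = n179856 := d0_5 F280098 F187902 F110171 (iv2 F232656) (iv3 F232657)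
theorem F280100 : act 6 n119325 = n179856 := d7_0 F280098 (iv6 D119328) D119325
theorem F280101 : act 7 n154648 = n179856 := d8_0 F280098 (iv7 F233009) (iv3 F242791)
theorem E24853 : n149050 = n85902 := ((c11_2 F280101 (iv4 D179856) (iv7 F234385) (iv4 F242792))).symm
theorem E24854 : n179854 = n69985 := ((D179854).symm.trans (sb E24853 F234384))
theorem F280102 : act 6 n85902 = n69908 := (sb E24853 (iv6 D149050))
theorem F280103 : act 7 n85902 = n125143 := (sb E24853 (iv7 F234385))
theorem F280104 : act 2 n69985 = n85902 := (sb E24854 (iv2 D179854))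
theorem E24855 : n149134 = n85903 := ((D149134).symm.trans (sb E24854 (iv7 F280096)))
theorem F280105 : act 2 n85903 = n125143 := (sb E24855 F234513)
theorem F280106 : act 7 n85903 = n69985 := (sb E24855 (iv7 D149134))
theorem F280107 : act 6 n149048 = n179855 := d7_2 F280102 D149048 (iv3 D179855)
def n179857 : Q := act 5 n85902
theorem D179857 : act 5 n85902 = n179857 := rfl
theorem F280108 : act 2 n179857 = n149133 := d2_1 D179857 (iv5 D149133) F280104
theorem F280109 : act 7 n179857 = n159144 := d13_2 (iv7 F280103) D179857 F250577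
theorem F280110 : act 0 n179857 = n150120 := d17_2 D85902 D179857 (iv5 D150120) (iv4 D70650) D70651 (iv0 F155267) (iv5 D86005) (iv0 D39773) (iv4 F60591)
theorem F280111 : act 0 n120630 = n179857 := d21_1 D120630 (iv5 D179857) F280102 (iv1 D69908) (iv6 D32464) F30934 (iv1 D19274) F27837 D32770 (iv1 F232531)
def n179858 : Q := act 3 n85903
theorem D179858 : act 3 n85903 = n179858 := rfl
def n179859 : Q := act 4 n85903
theorem D179859 : act 4 n85903 = n179859 := rfl
theorem F280113 : act 2 n179859 = n154648 := d1_1 D179859 F242792 (iv2 F280105)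
theorem F280114 : act 7 n179859 = n124706 := d11_2 (iv7 F280106) D179859 F199514
theorem F280116 : act 3 n179859 = n119961 := d20_3 (iv4 F201064) (iv1 F201068) D179859 F232691 F92239 (iv4 F130555) F200260 F188776 (iv3 D86003) (iv1 F92501)
theorem F280117 : act 5 n158994 = n179859 := d6_0 F280116 (iv5 F189379) D158994
theorem F280118 : act 6 n119958 = n179859 := d7_0 F280116 (iv6 D119961) D119958
theorem F280119 : act 0 n158994 = n159892 := d21_7 (iv5 F241769) (iv1 F241770) (iv5 D73315) D73316 F241771 F280118 (iv5 F280117) (iv5 D159892) F233080 D147837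
theorem F280120 : act 0 n147405 = n158994 := d21_7 (iv5 F242799) (iv1 F242800) (iv5 D150156) F190941 (iv1 F242135) F242140 F233085 F280117 (iv6 F280118) (iv1 F241774)
theorem F280121 : act 1 n179660 = n124706 := d15_1 F279817 (iv7 F280114) F280113
def n179860 : Q := act 5 n85903
theorem D179860 : act 5 n85903 = n179860 := rfl
theorem F280122 : act 2 n179860 = n159144 := d2_1 D179860 F250577 (iv2 F280105)
theorem F280123 : act 7 n179860 = n149133 := d13_2 (iv7 F280106) D179860 (iv5 D149133)
theorem F280124 : act 0 n179860 = n120630 := d17_2 (iv1 F201068) D179860 (iv5 D120630) F87878 D55581 F155298 (iv5 D86010) F92503 (iv4 F201064)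
theorem F280125 : act 1 n179860 = n150120 := d17_6 (iv1 F114769) F233085 F280120 F280117 (iv4 D179859) D179860 (iv5 D150120) (iv0 F232581) F185733
def n179861 : Q := act 6 n85903
theorem D179861 : act 6 n85903 = n179861 := rfl
theorem F280129 : act 0 n179861 = n128451 := d21_10 F236334 (iv1 D150158) (iv5 D70670) D70671 F236284 (iv6 D150121) D150120 (iv1 F280125) (iv5 D179860) D179861
def n179862 : Q := act 4 n85905
theorem D179862 : act 4 n85905 = n179862 := rfl
theorem F280132 : act 0 n179862 = n101081 := d18_2 (iv1 F236301) D179862 (iv4 D101081) (iv5 D47086) F35217 (iv0 F155355) (iv4 F54983) (iv0 F232518) (iv5 F236300)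
def n179863 : Q := act 6 n85905
theorem D179863 : act 6 n85905 = n179863 := rfl
theorem F280133 : act 3 n179863 = n85907 := d7_1 D179863 (iv6 D85907) (iv3 F131804)
theorem F280134 : act 5 n179863 = n125124 := d12_1 D179863 (iv6 D125124) (iv5 D58506) (iv6 F60592) D85905
def n179864 : Q := act 3 n85906
theorem D179864 : act 3 n85906 = n179864 := rfl
def n179865 : Q := act 6 n85906
theorem D179865 : act 6 n85906 = n179865 := rfl
theorem F280135 : act 4 n179865 = n85907 := d10_1 D179865 (iv6 D85907) D85906
def n179866 : Q := act 0 n85907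
theorem D179866 : act 0 n85907 = n179866 := rfl
def n179867 : Q := act 1 n85907
theorem D179867 : act 1 n85907 = n179867 := rfl
def n179868 : Q := act 7 n85907
theorem D179868 : act 7 n85907 = n179868 := rfl
theorem F280136 : act 5 n179868 = n125138 := d13_1 D179868 (iv7 D125138) (iv5 F131805)
def n179870 : Q := act 3 n85910
theorem D179870 : act 3 n85910 = n179870 := rfl
theorem F280138 : act 4 n179870 = n167893 := d5_2 (iv4 F131808) D179870 (iv3 D167893) (iv4 D80579) F123446
theorem F280139 : act 6 n179870 = n179829 := d7_2 F132599 D179870 (iv3 D179829)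
def n179878 : Q := act 0 n85914
theorem D179878 : act 0 n85914 = n179878 := rfl
def n179879 : Q := act 1 n85914
theorem D179879 : act 1 n85914 = n179879 := rfl
def n179880 : Q := act 2 n85914
theorem D179880 : act 2 n85914 = n179880 := rfl
def n179881 : Q := act 5 n85914
theorem D179881 : act 5 n85914 = n179881 := rfl
theorem F280146 : act 3 n179881 = n85915 := d6_1 D179881 (iv5 D85915) D85914
def n179882 : Q := act 6 n85915
theorem D179882 : act 6 n85915 = n179882 := rfl
def n179883 : Q := act 6 n85940
theorem D179883 : act 6 n85940 = n179883 := rfl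
theorem F280149 : act 7 n179883 = n152539 := d14_2 F185526 D179883 (iv6 D152539) F108448 (iv6 F185525)
def n179884 : Q := act 4 n85942
theorem D179884 : act 4 n85942 = n179884 := rfl
def n179885 : Q := act 6 n85942
theorem D179885 : act 6 n85942 = n179885 := rfl
def n179890 : Q := act 5 n85950
theorem D179890 : act 5 n85950 = n179890 := rfl
theorem F280152 : act 2 n179890 = n85969 := d2_1 D179890 (iv5 D85969) (iv2 F131900)
def n179891 : Q := act 4 n85952
theorem D179891 : act 4 n85952 = n179891 := rfl
theorem F280153 : act 2 n179891 = n85977 := d1_1 D179891 (iv4 D85977) (iv2 F155337)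
theorem F280154 : act 7 n179891 = n85982 := d11_2 (iv7 F155338) D179891 (iv4 D85982)
theorem F280155 : act 5 n179891 = n153544 := d17_5 (iv1 D54441) D54442 D118180 F185699 D179891 (iv0 D153544) (iv5 D72598) D72597 F190298
theorem F280156 : act 1 n179891 = n124810 := d18_6 (iv1 D72611) D72612 D153562 F241378 F185699 D179891 F200485 (iv0 F241310) F190928
def n179892 : Q := act 4 n85954
theorem D179892 : act 4 n85954 = n179892 := rfl
theorem F280157 : act 2 n179892 = n85987 := d1_1 D179892 (iv4 D85987) (iv2 F131903)
theorem F280158 : act 0 n179892 = n153557 := d18_2 F155425 D179892 (iv4 D153557) (iv5 D72608) (iv4 F190217) F185691 F185689 F85991 D54453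
theorem F280159 : act 1 n179892 = n153551 := d18_6 (iv1 F242146) F190951 (iv1 F237241) F131713 D85954 D179892 (iv4 D153551) F241351 F240131
def n179893 : Q := act 2 n85957
theorem D179893 : act 2 n85957 = n179893 := rfl
theorem F280162 : act 4 n179893 = n124994 := d1_2 (iv4 F131911) D179893 (iv2 F201204)
theorem F280163 : act 7 n179893 = n178866 := d4_2 F201201 D179893 F278735
theorem F280164 : act 0 n86792 = n179893 := d18_0 F280162 (iv1 F200774) (iv4 D85247) (iv5 D39399) D39398 (iv0 F155138) (iv4 F106365) F155121 D86792
theorem F280165 : act 1 n86792 = n125169 := d15_1 (iv0 F280164) F201201 D179893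
def n179894 : Q := act 5 n85957
theorem D179894 : act 5 n85957 = n179894 := rfl
theorem F280166 : act 3 n179894 = n85959 := d6_1 D179894 (iv5 D85959) D85957
theorem F280167 : act 6 n179894 = n150198 := d12_2 F185774 D179894 F236382 (iv6 F155289) (iv5 F185773)
theorem F280169 : act 4 n179894 = n178842 := d17_4 (iv1 F155120) D149073 F234450 D179894 (iv5 D178842) F200740 (iv5 D124978) F92281 D85254
theorem F280170 : act 0 n155119 = n149074 := d21_4 F266071 (iv1 F243944) (iv5 D155118) D155119 (iv6 D149074) D149073 F234450 D179894 F280167 (iv1 F266074)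
theorem F280171 : act 1 n155119 = n149918 := d15_1 (iv0 F280170) F235808 (iv2 F234451)
theorem F280172 : act 1 n149918 = n85976 := d15_1 F280171 F185552 (iv2 F243945)
theorem F280173 : act 0 n179894 = n150079 := d21_10 (iv5 F236168) F236169 (iv5 D149070) (iv6 D69926) (iv1 F77321) D105981 F162782 (iv1 F190051) (iv5 F236382) (iv6 F280167)
def n179895 : Q := act 0 n85958
theorem D179895 : act 0 n85958 = n179895 := rfl
theorem F280174 : act 4 n179895 = n124734 := d18_3 D39759 D85958 D179895 (iv5 D124734) (iv4 F155125) (iv0 D47237) F35294 (iv0 F155109) D18801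
theorem F280175 : act 1 n85963 = n179895 := d15_0 (iv0 D179895) (iv7 F201208) F201207
theorem F280176 : act 7 n124813 = n179895 := d11_0 F280174 F199603 D124813
def n179896 : Q := act 1 n85958
theorem D179896 : act 1 n85958 = n179896 := rfl
theorem F280177 : act 1 n179896 = n85963 := d15_1 D179896 (iv7 F201213) F201212
theorem F280178 : act 2 n124813 = n179896 := d15_3 F280177 F280175 (iv7 F280176)
theorem F280179 : act 4 n124806 = n179896 := d18_5 (iv1 F44972) D39754 (iv1 F155126) (iv4 F190879) D124806 F280177 (iv4 D85963) F92475 (iv5 D58541)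
def n179897 : Q := act 3 n85958
theorem D179897 : act 3 n85958 = n179897 := rfl
theorem F280180 : act 4 n179897 = n178869 := d5_2 D85958 D179897 (iv3 D178869) (iv4 F131911) (iv3 D85957)
def n179898 : Q := act 5 n85958
theorem D179898 : act 5 n85958 = n179898 := rfl
def n179899 : Q := act 4 n85959
theorem D179899 : act 4 n85959 = n179899 := rfl
theorem F280181 : act 2 n179899 = n150238 := d1_1 D179899 F236438 F155196
theorem F280182 : act 6 n179899 = n150212 := d10_2 (iv6 F155197) D179899 F236396
theorem F280183 : act 7 n179899 = n150074 := d11_2 F155303 D179899 F236150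
theorem F280184 : act 0 n179899 = n150085 := d18_2 F155464 D179899 F236181 (iv5 D124856) D124855 (iv0 F201192) (iv4 D125166) F155466 (iv5 F87908)
theorem F280185 : act 1 n179899 = n150235 := d15_0 (iv0 D150235) D150238 (iv2 F280181)
def n179900 : Q := act 6 n85962
theorem D179900 : act 6 n85962 = n179900 := rfl
theorem F280188 : act 4 n179900 = n178656 := d10_1 D179900 (iv6 D178656) F131913
theorem F280189 : act 5 n179900 = n145269 := d12_1 D179900 F228258 (iv5 D70713) D70714 (iv5 F155191)
def n179901 : Q := act 3 n85963
theorem D179901 : act 3 n85963 = n179901 := rfl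
def n179902 : Q := act 5 n85963
theorem D179902 : act 5 n85963 = n179902 := rfl
def n179903 : Q := act 6 n85963
theorem D179903 : act 6 n85963 = n179903 := rfl
def n179904 : Q := act 0 n85965
theorem D179904 : act 0 n85965 = n179904 := rfl
theorem F280192 : act 5 n179904 = n131485 := d21_2 (iv5 F155192) D179904 (iv6 D131485) (iv1 D61705) (iv6 D29255) F50482 (iv1 F50481) D14905 D31706 D68100
def n179905 : Q := act 3 n85966
theorem D179905 : act 3 n85966 = n179905 := rfl
def n179906 : Q := act 5 n85966
theorem D179906 : act 5 n85966 = n179906 := rfl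
def n179907 : Q := act 3 n85967
theorem D179907 : act 3 n85967 = n179907 := rfl
def n179908 : Q := act 5 n85967
theorem D179908 : act 5 n85967 = n179908 := rfl
def n179909 : Q := act 6 n85967
theorem D179909 : act 6 n85967 = n179909 := rfl
def n179910 : Q := act 0 n85968
theorem D179910 : act 0 n85968 = n179910 := rfl
def n179911 : Q := act 1 n85968
theorem D179911 : act 1 n85968 = n179911 := rfl
theorem F280194 : act 4 n178929 = n179911 := d20_6 (iv4 D39417) (iv1 D18680) D18681 D39421 D85314 D178929 (iv1 D179911) F131914 (iv3 D39767) (iv1 F60345)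
def n179912 : Q := act 2 n85968
theorem D179912 : act 2 n85968 = n179912 := rfl
theorem F280195 : act 4 n179912 = n85990 := d1_2 (iv4 F131914) D179912 (iv2 D85990)
def n179913 : Q := act 5 n85968
theorem D179913 : act 5 n85968 = n179913 := rfl
theorem F280196 : act 3 n179913 = n85969 := d6_1 D179913 (iv5 D85969) D85968
def n179914 : Q := act 6 n85968
theorem D179914 : act 6 n85968 = n179914 := rfl
theorem F280197 : act 3 n179914 = n85970 := d7_1 D179914 (iv6 D85970) D85968
theorem F280198 : act 4 n179914 = n85991 := d10_1 D179914 (iv6 D85991) (iv4 F131914)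
def n179915 : Q := act 0 n85969
theorem D179915 : act 0 n85969 = n179915 := rfl
theorem F280199 : act 5 n179915 = n150031 := d17_3 (iv1 D85967) D85969 D179915 (iv4 D150031) (iv5 D70587) F232423 D58357 D124812 F232989
def n179916 : Q := act 1 n85969
theorem D179916 : act 1 n85969 = n179916 := rfl
def n179917 : Q := act 4 n85969
theorem D179917 : act 4 n85969 = n179917 := rfl
def n179918 : Q := act 6 n85969
theorem D179918 : act 6 n85969 = n179918 := rfl
def n179919 : Q := act 0 n85970
theorem D179919 : act 0 n85970 = n179919 := rfl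
def n179920 : Q := act 5 n85970
theorem D179920 : act 5 n85970 = n179920 := rfl
def n179921 : Q := act 7 n85970
theorem D179921 : act 7 n85970 = n179921 := rfl
def n179924 : Q := act 0 n85973
theorem D179924 : act 0 n85973 = n179924 := rfl
theorem F280203 : act 6 n179924 = n131600 := d21_5 F155287 (iv1 D39764) D39765 (iv6 F131917) D179924 (iv5 D131600) (iv1 F167543) F167539 (iv6 F185714) (iv1 F185715)
def n179925 : Q := act 1 n85973
theorem D179925 : act 1 n85973 = n179925 := rfl
theorem F280204 : act 5 n179924 = n179925 := d21_0 (iv1 D179925) (iv5 D85973) (iv6 D39762) D39759 (iv6 F155332) F155287 (iv1 D39764) D39765 (iv6 F131917) D179924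
theorem F280205 : act 6 n179925 = n145128 := d12_2 (iv6 F280203) F280204 (iv5 F228113) (iv6 D131601) D131600
def n179926 : Q := act 4 n85973
theorem D179926 : act 4 n85973 = n179926 := rfl
theorem F280206 : act 6 n179926 = n85987 := d10_2 (iv6 F131917) D179926 (iv4 D85987)
def n179927 : Q := act 7 n85973
theorem D179927 : act 7 n85973 = n179927 := rfl
theorem F280209 : act 6 n179927 = n118255 := d14_1 D179927 F227864 (iv6 F123815) F123816 (iv6 F131917)
def n179928 : Q := act 1 n85976
theorem D179928 : act 1 n85976 = n179928 := rfl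
def n179929 : Q := act 2 n85976
theorem D179929 : act 2 n85976 = n179929 := rfl
theorem F280210 : act 3 n179929 = n178696 := d0_2 D85976 D179929 F278513 (iv3 F278297) F155337
theorem F280211 : act 5 n179929 = n152752 := d2_2 F185771 D179929 F239962
theorem F280212 : act 7 n179929 = n155119 := d4_2 (iv7 F185552) D179929 F243945
theorem E24856 : n179928 = n149074 := (c15_1 D179928 (iv0 F280170) (iv7 F280212) (iv2 D179929))
theorem F280213 : act 0 n149074 = n85976 := (sb E24856 (iv1 D179928))
theorem F280214 : act 4 n124987 = n179929 := d11_3 F280212 F243946 (iv7 F239439)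
def n179930 : Q := act 4 n85976
theorem D179930 : act 4 n85976 = n179930 := rfl
theorem F280215 : act 2 n179930 = n124987 := d1_1 D179930 F280214 (iv2 D179929)
theorem F280216 : act 7 n179930 = n124988 := d11_2 (iv7 F185552) D179930 (iv4 F200760)
theorem F280217 : act 5 n179930 = n152307 := d17_5 (iv1 D148981) D148982 F239484 F185771 D179930 (iv0 D152307) (iv5 D71853) D71852 F234144
theorem F280218 : act 1 n179930 = n124979 := d18_6 (iv1 D71865) D71866 D152324 F239482 F185771 D179930 F200743 F199880 F108323
theorem F280219 : act 0 n179930 = n124990 := d20_7 F42339 F13715 (iv4 F13686) (iv3 F30043) D39763 D85976 D179930 F200765 F92298 (iv1 F44920)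
theorem F280220 : act 0 n150644 = n152665 := d17_2 (iv1 F280172) (iv5 F237188) (iv5 D152665) (iv4 D72018) D72019 D152668 (iv5 F239885) (iv0 F280219) (iv4 D179930)
theorem F280221 : act 1 n150644 = n152681 := d15_1 (iv0 F280220) F239900 (iv2 F239877)
theorem F280222 : act 6 n179930 = n119855 := d21_3 D71853 D152307 (iv5 F280217) (iv1 D119855) (iv6 D55161) D55160 D119850 (iv5 F233305) F233306 (iv1 D71852)
theorem E24857 : n155133 = n119855 := ((c14_2 (iv7 F280216) F280222 (iv7 D155133) (iv6 D73634) (iv7 F155340) (iv6 F200761))).symm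
theorem F280223 : act 7 n119855 = n73634 := (sb E24857 (iv7 D155133))
theorem E24858 : n155068 = n119854 := (c15_4 (iv0 D119854) D119855 F280223 (iv2 F243863))
theorem F280224 : act 2 n119854 = n73634 := (sb E24858 F243863)
theorem F280225 : act 6 n119854 = n73597 := (sb E24858 (iv6 D155068))
def n179931 : Q := act 6 n85976
theorem D179931 : act 6 n85976 = n179931 := rfl
theorem F280226 : act 3 n179931 = n85979 := d7_1 D179931 (iv6 D85979) D85976
theorem F280227 : act 4 n179931 = n119855 := d10_1 D179931 (iv6 F280222) (iv4 D179930)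
theorem F280228 : act 7 n179931 = n155129 := d14_2 (iv7 F185552) D179931 (iv6 D155129) (iv7 F155322) D118103
theorem F280229 : act 0 n179931 = n162940 := d21_10 F257302 (iv1 F215548) F205736 (iv6 D70614) (iv1 F51851) D69853 D148982 F239484 F185771 D179931
def n179932 : Q := act 0 n85977
theorem D179932 : act 0 n85977 = n179932 := rfl
theorem F280230 : act 4 n179932 = n124818 := d20_2 D85977 D179932 F200489 F190867 (iv3 F190619) F42339 F13715 (iv4 F13686) (iv3 F30043) D39763
theorem F280231 : act 1 n85982 = n179932 := d15_0 (iv0 D179932) F185557 F185555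
theorem F280232 : act 7 n179932 = n124810 := d15_2 (iv0 F279496) F280231 F200484
def n179933 : Q := act 3 n85977
theorem D179933 : act 3 n85977 = n179933 := rfl
def n179934 : Q := act 5 n85977
theorem D179934 : act 5 n85977 = n179934 := rfl
theorem F280233 : act 2 n179934 = n153544 := d2_1 D179934 (iv5 F280155) F280153
theorem F280234 : act 7 n179934 = n153545 := d13_2 (iv7 F185557) D179934 (iv5 F241342)
theorem F280235 : act 0 n179934 = n153547 := d17_2 F242145 D179934 F241343 F109135 (iv5 F109140) F241297 F232971 F242147 F200479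
theorem F280236 : act 1 n179934 = n101067 := d17_6 (iv1 D26335) D26336 D54460 F185571 D85977 D179934 (iv5 D101067) F190193 (iv4 D54457)
def n179935 : Q := act 6 n85977
theorem D179935 : act 6 n85977 = n179935 := rfl
theorem F280237 : act 4 n179935 = n85979 := d10_1 D179935 (iv6 D85979) D85977
theorem F280238 : act 7 n179935 = n154071 := d14_2 (iv7 F185557) D179935 (iv6 D154071) F190692 D118108
theorem F280239 : act 0 n179935 = n153869 := d21_10 F241764 (iv1 D149018) (iv5 D69886) (iv6 D32457) (iv1 F35212) D47083 D101067 (iv1 F280236) (iv5 D179934) D179935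
theorem F280240 : act 1 n118115 = n153869 := d15_0 (iv0 F280239) F280238 F242125
def n179936 : Q := act 5 n85982
theorem D179936 : act 5 n85982 = n179936 := rfl
theorem F280241 : act 2 n179936 = n153545 := d2_1 D179936 (iv5 F241342) F185555
theorem F280242 : act 7 n179936 = n153544 := d13_2 F280154 D179936 (iv5 F280155)
theorem F280243 : act 0 n179936 = n101067 := d17_2 (iv1 F280231) D179936 (iv5 D101067) F74340 D72588 D153525 (iv5 F241292) F242146 (iv4 F280230)
theorem F280244 : act 1 n179936 = n153547 := d17_6 (iv1 F85991) (iv5 F185713) (iv1 F185715) F155287 D85982 D179936 F241343 (iv0 F190170) (iv4 D54452)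
def n179937 : Q := act 4 n85985
theorem D179937 : act 4 n85985 = n179937 := rfl
theorem F280245 : act 2 n179937 = n118236 := d1_1 D179937 (iv4 D118236) (iv2 F187626)
theorem F280246 : act 6 n179937 = n145086 := d10_2 F155445 D179937 (iv4 D145086)
theorem F280247 : act 7 n179937 = n118223 := d11_2 (iv7 F187627) D179937 (iv4 D118223)
def n179938 : Q := act 3 n85986
theorem D179938 : act 3 n85986 = n179938 := rfl
theorem F280248 : act 5 n179938 = n114613 := d6_2 F155442 D179938 F190303
theorem F280249 : act 7 n179938 = n118231 := d8_2 (iv7 F187637) D179938 F185765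
theorem F280250 : act 4 n179938 = n178714 := d20_6 (iv4 F244776) F244877 F244875 (iv3 F264316) (iv1 F264321) D179938 (iv1 D178714) (iv4 D85144) (iv3 F130463) F200219
theorem F280251 : act 0 n150673 = n179938 := d18_0 F280250 (iv1 D178714) (iv4 D85144) (iv5 D39370) (iv4 F60323) F278060 F155290 F264409 F264404
def n179939 : Q := act 4 n85986
theorem D179939 : act 4 n85986 = n179939 := rfl
theorem F280253 : act 7 n179939 = n118236 := d11_2 (iv7 F187637) D179939 (iv4 D118236)
def n179940 : Q := act 0 n85987
theorem D179940 : act 0 n85987 = n179940 := rfl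
theorem F280254 : act 4 n179940 = n153523 := d18_3 (iv1 D85986) D85987 D179940 (iv5 D153523) (iv4 F190269) F185686 F85998 F85989 F155442
theorem F280255 : act 2 n153557 = n179940 := d1_3 F280254 F241288 D153557
theorem F280256 : act 7 n153551 = n179940 := d11_0 F280254 F241289 D153551
def n179941 : Q := act 1 n85987
theorem D179941 : act 1 n85987 = n179941 := rfl
theorem F280257 : act 7 n179941 = n153557 := d15_2 (iv0 D179940) D179941 F280255
theorem F280258 : act 4 n118808 = n179941 := d20_6 D32899 (iv1 F107569) F107571 (iv3 F130661) F232693 (iv3 F186879) (iv1 D179941) (iv4 D85987) F60602 (iv1 F41755)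
def n179942 : Q := act 3 n85987
theorem D179942 : act 3 n85987 = n179942 := rfl
theorem F280260 : act 4 n179942 = n86001 := d5_2 D85987 D179942 (iv3 D86001) (iv4 D39772) (iv3 F60602)
def n179943 : Q := act 5 n85987
theorem D179943 : act 5 n85987 = n179943 := rfl
def n179944 : Q := act 2 n85988
theorem D179944 : act 2 n85988 = n179944 := rfl
theorem F280261 : act 7 n85989 = n179944 := d15_2 (iv0 D85988) D85989 (iv2 D179944)
def n179945 : Q := act 3 n85988
theorem D179945 : act 3 n85988 = n179945 := rfl
def n179946 : Q := act 4 n85988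
theorem D179946 : act 4 n85988 = n179946 := rfl
def n179947 : Q := act 5 n85988
theorem D179947 : act 5 n85988 = n179947 := rfl
def n179948 : Q := act 6 n85988
theorem D179948 : act 6 n85988 = n179948 := rfl
def n179949 : Q := act 7 n85988
theorem D179949 : act 7 n85988 = n179949 := rfl
theorem F280262 : act 2 n179949 = n85989 := d4_1 D179949 F280261 (iv2 D179944)
def n179950 : Q := act 3 n85989
theorem D179950 : act 3 n85989 = n179950 := rfl
def n179951 : Q := act 4 n85989
theorem D179951 : act 4 n85989 = n179951 := rfl
def n179952 : Q := act 5 n85989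
theorem D179952 : act 5 n85989 = n179952 := rfl
def n179953 : Q := act 6 n85989
theorem D179953 : act 6 n85989 = n179953 := rfl
def n179954 : Q := act 6 n85990
theorem D179954 : act 6 n85990 = n179954 := rfl
theorem F280263 : act 2 n179954 = n85991 := d3_1 D179954 (iv6 D85991) D85990
def n179957 : Q := act 5 n85991
theorem D179957 : act 5 n85991 = n179957 := rfl
theorem F280264 : act 3 n179957 = n85993 := d6_1 D179957 (iv5 D85993) (iv3 F131921)
def n179958 : Q := act 7 n85991
theorem D179958 : act 7 n85991 = n179958 := rfl
theorem F280265 : act 3 n179958 = n85994 := d8_1 D179958 (iv7 D85994) (iv3 F131921)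
def n179962 : Q := act 7 n85993
theorem D179962 : act 7 n85993 = n179962 := rfl
theorem F280266 : act 5 n179962 = n85994 := d13_1 D179962 (iv7 D85994) D85993
def n179963 : Q := act 0 n85995
theorem D179963 : act 0 n85995 = n179963 := rfl
theorem F280267 : act 1 n153746 = n179963 := d15_0 (iv0 D179963) F185986 (iv2 F241610)
theorem F280268 : act 5 n150856 = n179963 := d21_6 F46161 (iv1 F50863) D15859 D32931 D71120 D150856 (iv1 F280267) F241613 (iv6 D118347) (iv1 F86106)
def n179964 : Q := act 2 n85995
theorem D179964 : act 2 n85995 = n179964 := rfl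
theorem F280269 : act 7 n179964 = n153746 := d4_2 (iv7 F185986) D179964 F241610
theorem F280270 : act 4 n153751 = n179964 := d11_3 F280269 F241612 D153751
def n179965 : Q := act 4 n85995
theorem D179965 : act 4 n85995 = n179965 := rfl
theorem F280271 : act 2 n179965 = n153751 := d1_1 D179965 F280270 (iv2 D179964)
theorem F280273 : act 7 n179965 = n153514 := d11_2 (iv7 F185986) D179965 F241268
theorem F280274 : act 0 n152999 = n179965 := d20_1 D152999 (iv4 D179965) (iv3 D85995) (iv1 F92601) F200015 D71160 F200271 F52127 (iv3 F52574) D72215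
theorem E24859 : n153748 = n152999 := ((c15_1 (iv0 F280274) (iv0 D153748) D153751 (iv2 F280271))).symm
theorem F280275 : act 1 n152999 = n72740 := (sb E24859 (iv0 D153748))
theorem F280276 : act 1 n153749 = n179965 := d15_1 D153749 F280273 F241267
def n179968 : Q := act 3 n85997
theorem D179968 : act 3 n85997 = n179968 := rfl
theorem F280280 : act 6 n179968 = n131777 := d7_2 (iv6 F131932) D179968 F211142
theorem F280281 : act 0 n150676 = n179968 := d21_4 F190679 (iv1 F201234) (iv5 F188384) D150676 F280280 (iv5 D131777) (iv1 F209895) D157457 F248075 (iv1 F188362)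
theorem F280282 : act 0 n179968 = n150856 := d21_10 F280268 (iv1 F280267) F241613 (iv6 D118347) (iv1 F86106) D60164 (iv5 F97980) (iv1 F209858) D131777 (iv6 F280280)
def n179971 : Q := act 4 n85998
theorem D179971 : act 4 n85998 = n179971 := rfl
theorem F280293 : act 0 n179971 = n125013 := d17_0 (iv5 F237635) (iv1 F240386) F240384 F108691 (iv5 F92599) (iv0 D39769) D39770 D85998 D179971
theorem F280295 : act 0 n124999 = n178755 := d20_4 D179971 F280293 (iv4 D125013) (iv3 F200780) F278635 (iv4 F279132) (iv1 F279133) (iv4 D150950) F200014 (iv1 F131934)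
def n179977 : Q := act 0 n86003
theorem D179977 : act 0 n86003 = n179977 := rfl
def n179978 : Q := act 1 n86003
theorem D179978 : act 1 n86003 = n179978 := rfl
theorem F280300 : act 5 n179978 = n144932 := d18_9 (iv1 D144932) (iv4 F183938) F183939 (iv4 D75937) (iv5 F60339) (iv4 F130574) (iv0 F188777) F188776 D179978
theorem F280301 : act 3 n123737 = n179978 := d20_9 (iv4 F188776) F188777 F130574 F60338 F30423 D39628 (iv4 F131579) F198230 (iv4 F198225) (iv1 D179978)
theorem F280302 : act 2 n179978 = n149072 := d0_1 F280301 F234448 F215737 (iv3 F133048) (iv2 F198224)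
theorem F280303 : act 4 n179978 = n152248 := d5_2 (iv4 F198225) F280301 (iv3 F274467) F274468 F198212
theorem F280304 : act 6 n179978 = n123735 := d7_2 D123737 F280301 (iv3 D123735)
def n179979 : Q := act 5 n86003
theorem D179979 : act 5 n86003 = n179979 := rfl
theorem F280305 : act 3 n179979 = n86005 := d6_1 D179979 (iv5 D86005) D86003
theorem F280306 : act 7 n179979 = n159186 := d13_2 F201283 D179979 F250667
theorem F280307 : act 0 n179979 = n150305 := d17_2 (iv1 D179978) D179979 (iv5 D150305) (iv4 F130919) D164559 F278760 (iv5 D178890) F239776 (iv4 F280303)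
theorem E24860 : n179977 = n179665 := ((c18_8 F280307 F236544 (iv1 F250312) (iv4 D158978) F199946 D85295 F278758 (iv4 F279834) (iv0 D179977) D179979)).symm
theorem F280308 : act 1 n179665 = n86003 := (sb E24860 (iv0 D179977))
def n179980 : Q := act 0 n86004
theorem D179980 : act 0 n86004 = n179980 := rfl
theorem F280309 : act 5 n179980 = n101079 := d17_1 D179980 (iv1 F236275) F236271 F107116 (iv5 F104613) (iv0 F199847) F199850 F92501 D86004
theorem F280310 : act 4 n179980 = n179660 := d18_3 D39773 D86004 D179980 F279814 F252130 (iv0 D144943) F104052 (iv0 F155281) (iv5 D39776)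
theorem F280311 : act 1 n86009 = n179980 := d15_0 (iv0 D179980) (iv7 F201289) F201288
theorem F280312 : act 6 n179932 = n179980 := d10_0 F280310 F279815 (iv4 F280230)
theorem F280313 : act 7 n101544 = n179980 := d11_0 F280310 F279816 F199605
theorem F280314 : act 7 n101079 = n150116 := d13_2 F280313 F280309 F236267
theorem F280315 : act 2 n179980 = n149196 := d15_3 (iv0 D149196) F201291 F280313
theorem F280316 : act 2 n150115 = n101079 := d2_3 (iv5 F280309) F280315 (iv5 F236274)
theorem F280317 : act 7 n101080 = n150115 := d15_2 (iv0 D101079) D101080 F280316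
theorem F280318 : act 2 n101080 = n150116 := d4_3 (iv7 F280314) (iv2 F280316) (iv7 F280317)
def n179981 : Q := act 1 n86004
theorem D179981 : act 1 n86004 = n179981 := rfl
theorem F280319 : act 1 n179981 = n86009 := d15_1 D179981 (iv7 F155274) F155296
theorem F280320 : act 7 n179981 = n149196 := d15_2 (iv0 D179980) D179981 (iv2 F280315)
theorem F280321 : act 4 n150029 = n179981 := d20_0 (iv1 D179981) (iv4 D86004) D86003 (iv1 F280308) (iv3 D179665) D179666 F279838 (iv4 D178618) (iv3 F242791) F242794
theorem F280322 : act 2 n179981 = n101544 := d1_1 F280321 (iv4 F199605) (iv2 F236029)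
theorem F280323 : act 6 n179981 = n101539 := d10_2 D150029 F280321 (iv4 F232357)
theorem F280324 : act 5 n179981 = n101080 := d17_5 (iv1 F114778) (iv5 F227912) (iv1 F233087) (iv5 F236031) F280321 F236273 F236271 F107120 (iv4 F233079)
theorem F280325 : act 3 n179981 = n178076 := d20_3 (iv4 F242792) F242794 F280321 (iv1 D178076) F129965 F60158 F117189 D27845 D58523 D125143
theorem E24861 : n179684 = n178076 := ((c7_2 (iv6 F280323) F280325 (iv6 D179684) (iv3 F199597))).symm
theorem F280326 : act 5 n178076 = n171099 := (sb E24861 F279895)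
theorem F280327 : act 6 n178076 = n85826 := (sb E24861 (iv6 D179684))
theorem F280328 : act 3 n101080 = n171099 := d6_3 (iv5 F280326) (iv3 F280325) F280324
def n179983 : Q := act 5 n86004
theorem D179983 : act 5 n86004 = n179983 := rfl
theorem F280330 : act 2 n179983 = n149197 := d2_1 D179983 (iv5 D149197) F155296
theorem F280331 : act 1 n179983 = n150110 := d17_6 F155246 D55581 F155295 (iv5 D86005) D86004 D179983 (iv5 D150110) (iv0 D70639) F51877
theorem F280332 : act 1 n150113 = n179983 := d15_0 F280331 F236255 (iv2 F236260)
def n179984 : Q := act 4 n86005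
theorem D179984 : act 4 n86005 = n179984 := rfl
theorem F280334 : act 7 n179984 = n159187 := d11_2 F155389 D179984 (iv4 D159187)
def n179985 : Q := act 6 n86005
theorem D179985 : act 6 n86005 = n179985 := rfl
theorem F280335 : act 2 n179985 = n149202 := d3_1 D179985 F234576 (iv2 F155297)
theorem F280336 : act 5 n179985 = n149062 := d12_1 D179985 (iv6 D149062) (iv5 D69918) F155269 D86005
def n179986 : Q := act 5 n86008
theorem D179986 : act 5 n86008 = n179986 := rfl
theorem F280337 : act 3 n179986 = n86010 := d6_1 D179986 (iv5 D86010) D86008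
theorem F280338 : act 7 n179986 = n149190 := d13_2 F155273 D179986 (iv5 D149190)
theorem F280339 : act 0 n179986 = n150103 := d17_2 (iv1 F273263) D179986 (iv5 D150103) F155411 D75603 D158481 (iv5 F249685) F274088 F274084
theorem F280340 : act 1 n179986 = n150105 := d15_1 (iv0 F280339) F236234 (iv2 F236230)
theorem F280341 : act 6 n148149 = n179986 := d7_0 F280337 F183149 (iv3 F231964)
theorem F280342 : act 4 n179986 = n148151 := d10_1 F280341 (iv6 D148151) D148149
theorem F280345 : act 7 n148151 = n158936 := d11_2 (iv7 F280338) F280342 F250269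
theorem F280346 : act 0 n148151 = n158911 := d18_2 (iv1 F280340) F280342 (iv4 D158911) (iv5 D75824) D75823 F155244 F107107 D70636 D150105
theorem F280347 : act 1 n148151 = n158914 := d18_6 (iv1 F130329) (iv4 F130430) (iv1 F278185) F278183 D179986 F280342 (iv4 D158914) (iv0 F131599) (iv5 D85799)
theorem F280348 : act 2 n148151 = n158937 := d15_3 F250271 F250270 (iv7 F280345)
theorem F280349 : act 6 n158937 = n148108 := d3_2 D148151 F280348 F231968
def n179987 : Q := act 6 n86008
theorem D179987 : act 6 n86008 = n179987 := rfl
theorem F280350 : act 3 n179987 = n86011 := d7_1 D179987 (iv6 D86011) D86008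
def n179988 : Q := act 3 n86009
theorem D179988 : act 3 n86009 = n179988 := rfl
theorem F280356 : act 7 n179988 = n149193 := d8_2 F155274 D179988 F234563
theorem F280357 : act 0 n175775 = n179988 := d20_4 D85896 (iv1 F132600) (iv4 F129966) (iv3 F275200) (iv3 D179988) (iv4 D86009) (iv1 D39774) (iv4 F60591) (iv3 D39735) D39733
def n179989 : Q := act 5 n86009
theorem D179989 : act 5 n86009 = n179989 := rfl
theorem F280359 : act 7 n179989 = n149197 := d13_2 F155274 D179989 (iv5 D149197)
theorem F280360 : act 0 n179989 = n150110 := d17_2 (iv1 F280311) D179989 (iv5 D150110) F233063 D148987 (iv0 F242795) (iv5 F242793) F279817 (iv4 F280310)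
theorem F280361 : act 1 n179989 = n150113 := d17_6 (iv1 F51878) D70651 (iv1 F155390) (iv5 D86010) D86009 D179989 (iv5 D150113) F107112 F74344
def n179990 : Q := act 4 n86010
theorem D179990 : act 4 n86010 = n179990 := rfl
theorem F280363 : act 6 n179990 = n147531 := d10_2 (iv6 F183149) D179990 (iv4 F231320)
theorem F280364 : act 7 n179990 = n149204 := d11_2 F155275 D179990 (iv4 D149204)
def n179991 : Q := act 5 n86015
theorem D179991 : act 5 n86015 = n179991 := rfl
def n179992 : Q := act 6 n86015
theorem D179992 : act 6 n86015 = n179992 := rfl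
theorem F280365 : act 4 n179992 = n86016 := d10_1 D179992 (iv6 D86016) D86015
def n179993 : Q := act 7 n86016
theorem D179993 : act 7 n86016 = n179993 := rfl
theorem F280366 : act 3 n179993 = n86018 := d8_1 D179993 (iv7 D86018) (iv3 F131943)
theorem F280367 : act 5 n179993 = n125179 := d13_1 D179993 (iv7 D125179) (iv5 F131944)
theorem F280368 : act 1 n145090 = n179993 := d15_1 F229150 (iv7 D179993) (iv2 F229143)
theorem F280369 : act 1 n179993 = n145087 := d15_1 F280368 F228036 (iv2 F228042)
def n179994 : Q := act 3 n86017
theorem D179994 : act 3 n86017 = n179994 := rfl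
theorem F280370 : act 5 n179994 = n128380 := d6_2 (iv5 F131946) D179994 (iv3 F206500)
theorem F280371 : act 6 n179994 = n150537 := d7_2 (iv6 F131945) D179994 F237027
theorem F280372 : act 7 n179994 = n179643 := d8_2 (iv7 F131948) D179994 (iv3 D179643)
theorem F280373 : act 4 n154605 = n179994 := d10_3 F280371 F237029 D154605
theorem F280374 : act 0 n148868 = n179994 := d21_4 F250525 (iv1 F131569) F205842 D148868 F280371 (iv5 D150537) (iv1 F235858) (iv5 D147742) D147743 (iv1 F250528)
def n179995 : Q := act 2 n86019
theorem D179995 : act 2 n86019 = n179995 := rfl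
theorem F280375 : act 7 n86020 = n179995 := d15_2 (iv0 D86019) D86020 (iv2 D179995)
def n179996 : Q := act 3 n86019
theorem D179996 : act 3 n86019 = n179996 := rfl
theorem F280376 : act 4 n179996 = n163611 := d20_6 (iv4 D27903) (iv1 F22105) D18813 D39782 D86019 D179996 (iv1 D163611) F119782 F56475 (iv1 F45064)
def n179997 : Q := act 4 n86019
theorem D179997 : act 4 n86019 = n179997 := rfl
def n179998 : Q := act 5 n86019
theorem D179998 : act 5 n86019 = n179998 := rfl
def n179999 : Q := act 6 n86019
theorem D179999 : act 6 n86019 = n179999 := rfl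
def n180000 : Q := act 7 n86019
theorem D180000 : act 7 n86019 = n180000 := rfl
theorem F280377 : act 2 n180000 = n86020 := d4_1 D180000 F280375 (iv2 D179995)
def n180005 : Q := act 3 n86022
theorem D180005 : act 3 n86022 = n180005 := rfl
theorem F280379 : act 5 n180005 = n159102 := d6_2 F148169 D180005 (iv3 D159102)
def n180006 : Q := act 4 n86022
theorem D180006 : act 4 n86022 = n180006 := rfl
theorem F280381 : act 0 n180006 = n169865 := d18_2 D86022 D180006 (iv4 D169865) (iv5 D81457) F126019 F33748 (iv4 F59952) (iv0 F121722) D39798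
def n180007 : Q := act 6 n86022
theorem D180007 : act 6 n86022 = n180007 := rfl
theorem F280383 : act 2 n180007 = n170512 := d3_1 D180007 F267956 F131964
theorem F280384 : act 5 n180007 = n170047 := d12_1 D180007 (iv6 D170047) (iv5 D81556) (iv6 F148170) F148169
def n180008 : Q := act 3 n86023
theorem D180008 : act 3 n86023 = n180008 := rfl
def n180009 : Q := act 4 n86023
theorem D180009 : act 4 n86023 = n180009 := rfl
theorem F280387 : act 7 n180009 = n170514 := d11_2 (iv7 F131965) D180009 (iv4 D170514)
theorem F280389 : act 1 n180009 = n169865 := d18_6 D81792 F146879 (iv1 F250477) (iv4 D159104) F148171 D180009 (iv4 D169865) F146841 (iv5 D81794)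
def n180010 : Q := act 6 n86023
theorem D180010 : act 6 n86023 = n180010 := rfl
def n180011 : Q := act 0 n86024
theorem D180011 : act 0 n86024 = n180011 := rfl
theorem F280390 : act 4 n180011 = n159115 := d18_3 (iv1 D86023) D86024 D180011 (iv5 D159115) (iv4 D76018) (iv0 D34735) (iv4 F54964) D75996 F148171
theorem F280391 : act 2 n170635 = n180011 := d1_3 F280390 F250506 D170635
def n180012 : Q := act 1 n86024
theorem D180012 : act 1 n86024 = n180012 := rfl
theorem F280392 : act 7 n180012 = n170635 := d15_2 (iv0 D180011) D180012 F280391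
theorem F280393 : act 4 n180012 = n159118 := d18_7 F126049 F33916 (iv1 F126007) D18823 D39798 D86024 D180012 F250515 (iv5 D95255)
def n180013 : Q := act 3 n86024
theorem D180013 : act 3 n86024 = n180013 := rfl
def n180014 : Q := act 5 n86024
theorem D180014 : act 5 n86024 = n180014 := rfl
def n180015 : Q := act 6 n86024
theorem D180015 : act 6 n86024 = n180015 := rfl
theorem F280394 : act 4 n180015 = n86025 := d10_1 D180015 (iv6 D86025) D86024
def n180021 : Q := act 4 n86027
theorem D180021 : act 4 n86027 = n180021 := rfl
theorem F280402 : act 0 n180021 = n167904 := d18_2 F196400 D180021 (iv4 D167904) (iv5 F123914) D86368 (iv0 F132376) F60961 D45133 D96646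
def n180022 : Q := act 3 n86028
theorem D180022 : act 3 n86028 = n180022 := rfl
theorem F280404 : act 7 n180022 = n170641 := d8_2 (iv7 F131973) D180022 (iv3 D170641)
def n180023 : Q := act 5 n86028
theorem D180023 : act 5 n86028 = n180023 := rfl
theorem F280405 : act 7 n180023 = n170642 := d13_2 (iv7 F131973) D180023 (iv5 D170642)
theorem F280406 : act 1 n180023 = n169893 := d17_6 D37211 F116816 (iv1 F113876) (iv5 F126016) D86028 D180023 (iv5 D169893) (iv0 D81497) (iv4 D37213)
theorem F280407 : act 1 n169896 = n180023 := d15_1 F276735 F280405 (iv2 F276733)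
def n180024 : Q := act 3 n86029
theorem D180024 : act 3 n86029 = n180024 := rfl
def n180025 : Q := act 5 n86029
theorem D180025 : act 5 n86029 = n180025 := rfl
theorem F280408 : act 0 n180025 = n169890 := d17_2 D86029 D180025 (iv5 D169890) (iv4 D81495) F116816 F113880 (iv5 F116804) (iv0 F126039) D39802
theorem F280409 : act 1 n180025 = n125328 := d17_6 (iv1 F70719) (iv5 F120371) F147868 (iv5 F148190) (iv4 F148196) D180025 (iv5 D125328) F148256 F148255
def n180027 : Q := act 5 n86030
theorem D180027 : act 5 n86030 = n180027 := rfl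
def n180031 : Q := act 5 n86031
theorem D180031 : act 5 n86031 = n180031 := rfl
theorem F280413 : act 3 n180031 = n86032 := d6_1 D180031 (iv5 D86032) D86031
def n180032 : Q := act 6 n86031
theorem D180032 : act 6 n86031 = n180032 := rfl
theorem F280414 : act 3 n180032 = n86033 := d7_1 D180032 (iv6 D86033) D86031
def n180033 : Q := act 0 n86032
theorem D180033 : act 0 n86032 = n180033 := rfl
theorem F280416 : act 5 n180033 = n86063 := d17_3 (iv1 D86030) D86032 D180033 F132000 F70010 F33753 D44971 D96317 F148202
theorem F280417 : act 7 n95267 = n180033 := d13_0 F280416 (iv7 F132001) D95267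
def n180034 : Q := act 4 n86032
theorem D180034 : act 4 n86032 = n180034 := rfl
def n180035 : Q := act 6 n86032
theorem D180035 : act 6 n86032 = n180035 := rfl
def n180036 : Q := act 0 n86033
theorem D180036 : act 0 n86033 = n180036 := rfl
def n180037 : Q := act 1 n86033
theorem D180037 : act 1 n86033 = n180037 := rfl
theorem F280418 : act 4 n165607 = n180037 := d20_6 (iv4 F88967) F141822 F141820 (iv3 F192888) F192890 (iv3 F260884) (iv1 D180037) F131975 F60629 F44783
theorem F280420 : act 7 n180037 = n165606 := d11_2 D165607 F280418 F260882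
theorem E24863 : n180036 = n124611 := ((c15_4 (iv0 D180036) D180037 F280420 F260881)).symm
theorem F280421 : act 1 n124611 = n86033 := (sb E24863 (iv0 D180036))
def n180038 : Q := act 5 n86033
theorem D180038 : act 5 n86033 = n180038 := rfl
def n180039 : Q := act 0 n86034
theorem D180039 : act 0 n86034 = n180039 := rfl
theorem F280422 : act 1 n170693 = n180039 := d15_0 (iv0 D180039) F131976 D170693
def n180040 : Q := act 1 n86034
theorem D180040 : act 1 n86034 = n180040 := rfl
def n180041 : Q := act 2 n86034
theorem D180041 : act 2 n86034 = n180041 := rfl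
theorem F280423 : act 7 n180041 = n170693 := d4_2 (iv7 F131976) D180041 (iv2 D170693)
theorem F280424 : act 1 n180041 = n170691 := d15_0 (iv0 D170691) (iv7 F131976) D180041
theorem F280425 : act 1 n180040 = n170693 := d15_1 D180040 (iv7 F280423) (iv2 D180041)
theorem F280426 : act 1 n170692 = n180041 := d15_1 D170692 F280423 (iv2 D170693)
def n180044 : Q := act 0 n86036
theorem D180044 : act 0 n86036 = n180044 := rfl
theorem F280431 : act 1 n162822 = n180044 := d15_0 (iv0 D180044) F131982 (iv2 F257096)
def n180045 : Q := act 1 n86036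
theorem D180045 : act 1 n86036 = n180045 := rfl
def n180046 : Q := act 2 n86036
theorem D180046 : act 2 n86036 = n180046 := rfl
theorem F280432 : act 6 n180046 = n166812 := d3_2 (iv6 F131981) D180046 (iv2 D166812)
theorem F280433 : act 7 n180046 = n162822 := d4_2 (iv7 F131982) D180046 F257096
theorem F280434 : act 1 n180046 = n162827 := d15_0 (iv0 D162827) (iv7 F131982) D180046
theorem F280435 : act 1 n180045 = n162822 := d15_1 D180045 (iv7 F280433) (iv2 D180046)
theorem F280436 : act 1 n162828 = n180046 := d15_1 D162828 F280433 F257096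
def n180047 : Q := act 4 n86036
theorem D180047 : act 4 n86036 = n180047 := rfl
theorem F280437 : act 3 n180047 = n155367 := d5_1 D180047 (iv4 D155367) (iv3 D73840) (iv4 F60635) D86036
theorem F280438 : act 6 n180047 = n166808 := d10_2 (iv6 F131981) D180047 F262521
def n180048 : Q := act 5 n86036
theorem D180048 : act 5 n86036 = n180048 := rfl
theorem F280440 : act 3 n180048 = n86037 := d6_1 D180048 (iv5 D86037) D86036
def n180060 : Q := act 5 n86040
theorem D180060 : act 5 n86040 = n180060 := rfl
theorem F280447 : act 2 n180060 = n86041 := d2_1 D180060 (iv5 D86041) D86040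
def n180075 : Q := act 3 n86046
theorem D180075 : act 3 n86046 = n180075 := rfl
theorem F280455 : act 5 n180075 = n122422 := d6_2 F131989 D180075 F195864
def n180077 : Q := act 6 n86046
theorem D180077 : act 6 n86046 = n180077 := rfl
theorem F280458 : act 5 n180077 = n122424 := d12_1 D180077 (iv6 D122424) (iv5 D56732) D56733 F131989
def n180084 : Q := act 1 n86048
theorem D180084 : act 1 n86048 = n180084 := rfl
def n180093 : Q := act 4 n86053
theorem D180093 : act 4 n86053 = n180093 := rfl
theorem F280474 : act 5 n180093 = n98174 := d18_4 (iv1 D39830) D39831 D86053 D180093 (iv4 F277521) (iv0 F277525) F192263 F117320 (iv5 F124301)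
theorem F280475 : act 1 n180093 = n86711 := d18_8 F126109 (iv4 F44598) F125961 (iv4 D56630) D56631 D122310 F195558 D180093 (iv5 D86711)
def n180094 : Q := act 5 n86053
theorem D180094 : act 5 n86053 = n180094 := rfl
theorem F280478 : act 0 n180094 = n170809 := d17_2 D86053 D180094 (iv5 D170809) (iv4 D81890) (iv5 F117280) (iv0 F129992) F129990 (iv0 D39829) D39831
theorem F280479 : act 1 n180094 = n125313 := d17_6 D77538 D161504 (iv1 F255496) (iv5 F280474) (iv4 D180093) D180094 (iv5 D125313) (iv0 F116424) (iv4 D77540)
def n180095 : Q := act 3 n86054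
theorem D180095 : act 3 n86054 = n180095 := rfl
theorem F280481 : act 6 n180095 = n161961 := d7_2 (iv6 F131995) D180095 (iv3 D161961)
def n180096 : Q := act 5 n86054
theorem D180096 : act 5 n86054 = n180096 := rfl
theorem F280482 : act 0 n180096 = n125313 := d17_2 F195557 D180096 (iv5 D125313) (iv4 D58682) (iv5 F87889) F117320 (iv5 F124301) F124299 D122310
theorem F280483 : act 1 n180096 = n170809 := d17_6 (iv1 F195515) (iv5 F248759) F248761 F123078 F131994 D180096 (iv5 D170809) F201553 F201551
def n180099 : Q := act 2 n86055
theorem D180099 : act 2 n86055 = n180099 := rfl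
theorem F280484 : act 4 n180099 = n86060 := d1_2 (iv4 F131996) D180099 (iv2 D86060)
def n180101 : Q := act 0 n86056
theorem D180101 : act 0 n86056 = n180101 := rfl
theorem F280486 : act 5 n180101 = n86082 := d17_3 (iv1 D86054) D86056 D180101 F132040 (iv5 D56622) (iv0 F126109) D86711 (iv0 F132979) F131994
theorem F280487 : act 2 n161507 = n180101 := d2_3 F280486 (iv2 F132041) D161507
def n180102 : Q := act 1 n86056
theorem D180102 : act 1 n86056 = n180102 := rfl
theorem F280488 : act 7 n180102 = n161507 := d15_2 (iv0 D180101) D180102 F280487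
theorem F280489 : act 5 n180102 = n86083 := d17_7 (iv1 F89571) F58378 F124284 D18843 D39831 D86056 D180102 (iv0 F195566) (iv4 D122312)
def n180105 : Q := act 2 n86058
theorem D180105 : act 2 n86058 = n180105 := rfl
theorem F280490 : act 7 n86059 = n180105 := d15_2 (iv0 D86058) D86059 (iv2 D180105)
def n180106 : Q := act 3 n86058
theorem D180106 : act 3 n86058 = n180106 := rfl
def n180107 : Q := act 4 n86058
theorem D180107 : act 4 n86058 = n180107 := rfl
def n180108 : Q := act 5 n86058
theorem D180108 : act 5 n86058 = n180108 := rfl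
def n180109 : Q := act 6 n86058
theorem D180109 : act 6 n86058 = n180109 := rfl
def n180110 : Q := act 7 n86058
theorem D180110 : act 7 n86058 = n180110 := rfl
theorem F280491 : act 2 n180110 = n86059 := d4_1 D180110 F280490 (iv2 D180105)
def n180111 : Q := act 3 n86059
theorem D180111 : act 3 n86059 = n180111 := rfl
def n180112 : Q := act 4 n86059
theorem D180112 : act 4 n86059 = n180112 := rfl
def n180113 : Q := act 5 n86059
theorem D180113 : act 5 n86059 = n180113 := rfl
def n180114 : Q := act 6 n86059
theorem D180114 : act 6 n86059 = n180114 := rfl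
def n180115 : Q := act 5 n86060
theorem D180115 : act 5 n86060 = n180115 := rfl
theorem F280492 : act 2 n180115 = n86061 := d2_1 D180115 (iv5 D86061) D86060
def n180123 : Q := act 3 n86063
theorem D180123 : act 3 n86063 = n180123 := rfl
theorem F280494 : act 7 n180123 = n95266 := d8_2 F132001 D180123 (iv3 D95266)
def n180127 : Q := act 5 n86064
theorem D180127 : act 5 n86064 = n180127 := rfl
theorem F280496 : act 3 n180127 = n86065 := d6_1 D180127 (iv5 D86065) D86064
def n180128 : Q := act 6 n86064
theorem D180128 : act 6 n86064 = n180128 := rfl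
theorem F280497 : act 3 n180128 = n86066 := d7_1 D180128 (iv6 D86066) D86064
def n180129 : Q := act 0 n86065
theorem D180129 : act 0 n86065 = n180129 := rfl
def n180130 : Q := act 1 n86065
theorem D180130 : act 1 n86065 = n180130 := rfl
theorem F280499 : act 5 n180130 = n125303 := d17_7 F58313 (iv5 D37401) F116830 F54967 D39840 D86065 D180130 F201532 (iv4 D81480)
theorem F280500 : act 2 n180025 = n180130 := d2_3 F280499 (iv2 F201535) D180025
theorem F280501 : act 7 n180027 = n180130 := d13_0 F280499 F201533 D180027
theorem F280502 : act 2 n180027 = n180129 := d15_3 (iv0 D180129) D180130 (iv7 F280501)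
theorem F280503 : act 5 n180129 = n125302 := d2_2 D180027 F280502 (iv2 F201530)
theorem F280504 : act 7 n180129 = n180025 := d4_2 (iv7 F280501) F280502 F280500
def n180131 : Q := act 4 n86065
theorem D180131 : act 4 n86065 = n180131 := rfl
def n180132 : Q := act 6 n86065
theorem D180132 : act 6 n86065 = n180132 := rfl
def n180133 : Q := act 0 n86066
theorem D180133 : act 0 n86066 = n180133 := rfl
def n180134 : Q := act 1 n86066
theorem D180134 : act 1 n86066 = n180134 := rfl
def n180135 : Q := act 5 n86066
theorem D180135 : act 5 n86066 = n180135 := rfl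
def n180140 : Q := act 3 n86069
theorem D180140 : act 3 n86069 = n180140 := rfl
def n180157 : Q := act 3 n86074
theorem D180157 : act 3 n86074 = n180157 := rfl
theorem F280511 : act 5 n180157 = n125288 := d6_2 (iv5 F132006) D180157 (iv3 D125288)
theorem F280512 : act 7 n180157 = n167938 := d8_2 (iv7 F132010) D180157 F264646
def n180158 : Q := act 6 n86074
theorem D180158 : act 6 n86074 = n180158 := rfl
def n180162 : Q := act 3 n86076
theorem D180162 : act 3 n86076 = n180162 := rfl
theorem F280517 : act 6 n180162 = n163920 := d7_2 F132013 D180162 (iv3 D163920)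
def n180163 : Q := act 4 n86078
theorem D180163 : act 4 n86078 = n180163 := rfl
theorem F280518 : act 6 n180163 = n86244 := d10_2 (iv6 F132034) D180163 (iv4 D86244)
def n180164 : Q := act 3 n86079
theorem D180164 : act 3 n86079 = n180164 := rfl
theorem F280519 : act 6 n180164 = n86246 := d7_2 (iv6 F132036) D180164 (iv3 D86246)
def n180165 : Q := act 3 n86081
theorem D180165 : act 3 n86081 = n180165 := rfl
def n180166 : Q := act 3 n86082
theorem D180166 : act 3 n86082 = n180166 := rfl
theorem F280521 : act 6 n180166 = n86192 := d7_2 F132042 D180166 (iv3 D86192)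
def n180167 : Q := act 3 n86083
theorem D180167 : act 3 n86083 = n180167 := rfl
theorem F280522 : act 4 n180167 = n161563 := d5_2 F132044 D180167 F255558 F116492 (iv3 F116425)
def n180168 : Q := act 0 n86084
theorem D180168 : act 0 n86084 = n180168 := rfl
def n180169 : Q := act 1 n86084
theorem D180169 : act 1 n86084 = n180169 := rfl
def n180170 : Q := act 2 n86084
theorem D180170 : act 2 n86084 = n180170 := rfl
theorem F280524 : act 4 n180170 = n86088 := d1_2 (iv4 F132045) D180170 (iv2 D86088)
def n180171 : Q := act 5 n86084
theorem D180171 : act 5 n86084 = n180171 := rfl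
theorem F280525 : act 3 n180171 = n86085 := d6_1 D180171 (iv5 D86085) D86084
def n180172 : Q := act 0 n86085
theorem D180172 : act 0 n86085 = n180172 := rfl
theorem F280526 : act 5 n180172 = n125282 := d17_3 (iv1 D86083) D86085 D180172 F201483 (iv5 D98173) (iv0 F152294) (iv5 F123093) F123095 F132044
theorem F280527 : act 2 n180096 = n180172 := d2_3 F280526 (iv2 F201485) D180096
theorem F280528 : act 7 n180094 = n180172 := d13_0 F280526 (iv7 F201486) D180094
def n180173 : Q := act 1 n86085
theorem D180173 : act 1 n86085 = n180173 := rfl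
theorem F280529 : act 7 n180173 = n180096 := d15_2 (iv0 D180172) D180173 F280527
theorem F280530 : act 5 n180173 = n125283 := d17_7 F124334 (iv5 F124351) (iv1 D55576) (iv5 F43116) D39850 D86085 D180173 F201487 (iv4 D81888)
theorem F280531 : act 2 n180094 = n180173 := d2_3 F280530 (iv2 F201489) D180094
def n180174 : Q := act 4 n86085
theorem D180174 : act 4 n86085 = n180174 := rfl
def n180175 : Q := act 6 n86085
theorem D180175 : act 6 n86085 = n180175 := rfl
def n180176 : Q := act 2 n86086
theorem D180176 : act 2 n86086 = n180176 := rfl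
def n180177 : Q := act 3 n86086
theorem D180177 : act 3 n86086 = n180177 := rfl
def n180178 : Q := act 4 n86086
theorem D180178 : act 4 n86086 = n180178 := rfl
def n180179 : Q := act 5 n86086
theorem D180179 : act 5 n86086 = n180179 := rfl
def n180180 : Q := act 6 n86086
theorem D180180 : act 6 n86086 = n180180 := rfl
def n180181 : Q := act 7 n86086
theorem D180181 : act 7 n86086 = n180181 := rfl
def n180182 : Q := act 3 n86087
theorem D180182 : act 3 n86087 = n180182 := rfl
def n180183 : Q := act 4 n86087
theorem D180183 : act 4 n86087 = n180183 := rfl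
def n180184 : Q := act 5 n86087
theorem D180184 : act 5 n86087 = n180184 := rfl
def n180185 : Q := act 6 n86087
theorem D180185 : act 6 n86087 = n180185 := rfl
def n180186 : Q := act 5 n86088
theorem D180186 : act 5 n86088 = n180186 := rfl
theorem F280534 : act 2 n180186 = n86089 := d2_1 D180186 (iv5 D86089) D86088
def n180187 : Q := act 0 n86089
theorem D180187 : act 0 n86089 = n180187 := rfl
def n180188 : Q := act 1 n86089
theorem D180188 : act 1 n86089 = n180188 := rfl
def n180189 : Q := act 4 n86089
theorem D180189 : act 4 n86089 = n180189 := rfl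
def n180190 : Q := act 6 n86089
theorem D180190 : act 6 n86089 = n180190 := rfl
theorem F280535 : act 3 n180190 = n86090 := d7_1 D180190 (iv6 D86090) (iv3 F132046)
def n180192 : Q := act 1 n86090
theorem D180192 : act 1 n86090 = n180192 := rfl
theorem F280536 : act 6 n121066 = n180192 := d21_3 (iv5 D76930) (iv1 F88356) D121066 (iv1 D180192) (iv6 D86090) (iv5 D39852) (iv1 F43126) D35632 (iv6 F57203) (iv1 F115600)
def n180194 : Q := act 2 n86091
theorem D180194 : act 2 n86091 = n180194 := rfl
def n180195 : Q := act 3 n86091
theorem D180195 : act 3 n86091 = n180195 := rfl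
def n180196 : Q := act 4 n86091
theorem D180196 : act 4 n86091 = n180196 := rfl
def n180197 : Q := act 5 n86091
theorem D180197 : act 5 n86091 = n180197 := rfl
def n180198 : Q := act 6 n86091
theorem D180198 : act 6 n86091 = n180198 := rfl
def n180199 : Q := act 7 n86091
theorem D180199 : act 7 n86091 = n180199 := rfl
def n180204 : Q := act 4 n86093
theorem D180204 : act 4 n86093 = n180204 := rfl
theorem F280542 : act 2 n180204 = n86094 := d1_1 D180204 (iv4 D86094) D86093
def n180205 : Q := act 5 n86093
theorem D180205 : act 5 n86093 = n180205 := rfl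
theorem F280543 : act 2 n180205 = n86095 := d2_1 D180205 (iv5 D86095) D86093
def n180206 : Q := act 6 n86093
theorem D180206 : act 6 n86093 = n180206 := rfl
theorem F280544 : act 2 n180206 = n86096 := d3_1 D180206 (iv6 D86096) D86093
def n180208 : Q := act 1 n86094
theorem D180208 : act 1 n86094 = n180208 := rfl
theorem F280545 : act 4 n180177 = n180208 := d20_6 (iv4 D27885) F22101 D18857 D39851 D86086 D180177 (iv1 D180208) (iv4 D86094) (iv3 D39853) (iv1 F45020)
def n180211 : Q := act 0 n86095
theorem D180211 : act 0 n86095 = n180211 := rfl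
def n180212 : Q := act 1 n86095
theorem D180212 : act 1 n86095 = n180212 := rfl
def n180213 : Q := act 4 n86095
theorem D180213 : act 4 n86095 = n180213 := rfl
def n180214 : Q := act 6 n86095
theorem D180214 : act 6 n86095 = n180214 := rfl
def n180218 : Q := act 3 n86097
theorem D180218 : act 3 n86097 = n180218 := rfl
theorem F280552 : act 5 n180218 = n125287 := d6_2 (iv5 F132050) D180218 (iv3 D125287)
theorem F280553 : act 7 n180218 = n177523 := d8_2 (iv7 F132054) D180218 F276969
def n180219 : Q := act 6 n86097
theorem D180219 : act 6 n86097 = n180219 := rfl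
theorem F280556 : act 5 n180219 = n163876 := d12_1 D180219 (iv6 D163876) (iv5 D78720) (iv6 F92632) (iv5 F132050)
def n180228 : Q := act 5 n86100
theorem D180228 : act 5 n86100 = n180228 := rfl
def n180231 : Q := act 3 n86101
theorem D180231 : act 3 n86101 = n180231 := rfl
def n180232 : Q := act 4 n86101
theorem D180232 : act 4 n86101 = n180232 := rfl
def n180233 : Q := act 5 n86101
theorem D180233 : act 5 n86101 = n180233 := rfl
def n180234 : Q := act 6 n86101
theorem D180234 : act 6 n86101 = n180234 := rfl
def n180235 : Q := act 4 n86102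
theorem D180235 : act 4 n86102 = n180235 := rfl
theorem F280565 : act 2 n180235 = n86103 := d1_1 D180235 (iv4 D86103) D86102
def n180236 : Q := act 5 n86102
theorem D180236 : act 5 n86102 = n180236 := rfl
theorem F280566 : act 2 n180236 = n86104 := d2_1 D180236 (iv5 D86104) D86102
def n180238 : Q := act 1 n86103
theorem D180238 : act 1 n86103 = n180238 := rfl
theorem F280567 : act 4 n180140 = n180238 := d20_6 (iv4 D8829) D8827 D18853 D39842 D86069 D180140 (iv1 D180238) (iv4 D86103) (iv3 D39856) (iv1 D18860)
def n180240 : Q := act 0 n86104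
theorem D180240 : act 0 n86104 = n180240 := rfl
def n180241 : Q := act 1 n86104
theorem D180241 : act 1 n86104 = n180241 := rfl
def n180242 : Q := act 4 n86104
theorem D180242 : act 4 n86104 = n180242 := rfl
def n180243 : Q := act 6 n86104
theorem D180243 : act 6 n86104 = n180243 := rfl
theorem F280569 : act 3 n180243 = n86105 := d7_1 D180243 (iv6 D86105) (iv3 F132060)
def n180244 : Q := act 0 n86105
theorem D180244 : act 0 n86105 = n180244 := rfl
def n180245 : Q := act 7 n86105
theorem D180245 : act 7 n86105 = n180245 := rfl
def n180249 : Q := act 4 n86106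
theorem D180249 : act 4 n86106 = n180249 := rfl
theorem F280573 : act 2 n180249 = n86108 := d1_1 D180249 (iv4 D86108) D86106
theorem F280574 : act 7 n180249 = n86113 := d11_2 F132061 D180249 (iv4 D86113)
def n180251 : Q := act 6 n86106
theorem D180251 : act 6 n86106 = n180251 := rfl
theorem F280577 : act 2 n180251 = n86110 := d3_1 D180251 (iv6 D86110) D86106
def n180252 : Q := act 0 n86107
theorem D180252 : act 0 n86107 = n180252 := rfl
def n180253 : Q := act 1 n86107
theorem D180253 : act 1 n86107 = n180253 := rfl
def n180254 : Q := act 2 n86107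
theorem D180254 : act 2 n86107 = n180254 := rfl
def n180255 : Q := act 4 n86107
theorem D180255 : act 4 n86107 = n180255 := rfl
theorem F280578 : act 0 n180255 = n163613 := d20_7 (iv4 D18857) (iv1 D8828) D8829 D18861 D39858 D86107 D180255 F257881 F119804 (iv1 F56480)
theorem F280579 : act 0 n163605 = n180255 := d20_7 (iv4 F275882) (iv1 F275886) D176690 (iv3 F276060) (iv1 D162691) (iv3 F119801) (iv4 F257871) (iv4 D180255) (iv3 D86107) (iv1 F131958)
def n180256 : Q := act 5 n86107
theorem D180256 : act 5 n86107 = n180256 := rfl
def n180257 : Q := act 6 n86107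
theorem D180257 : act 6 n86107 = n180257 := rfl
theorem F280581 : act 3 n180257 = n86110 := d7_1 D180257 (iv6 D86110) D86107
def n180258 : Q := act 7 n86107
theorem D180258 : act 7 n86107 = n180258 := rfl
theorem F280582 : act 3 n180258 = n86111 := d8_1 D180258 (iv7 D86111) D86107
def n180259 : Q := act 0 n86108
theorem D180259 : act 0 n86108 = n180259 := rfl
theorem F280583 : act 4 n180259 = n180182 := d20_2 D86108 D180259 (iv3 D180182) (iv1 D86087) (iv3 D39851) (iv4 D18857) (iv1 D8828) D8829 D18861 D39858
def n180260 : Q := act 1 n86108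
theorem D180260 : act 1 n86108 = n180260 := rfl
theorem F280584 : act 1 n180260 = n86113 := d15_1 D180260 (iv7 F280574) F280573
def n180261 : Q := act 3 n86108
theorem D180261 : act 3 n86108 = n180261 := rfl
def n180262 : Q := act 5 n86108
theorem D180262 : act 5 n86108 = n180262 := rfl
def n180263 : Q := act 6 n86108
theorem D180263 : act 6 n86108 = n180263 := rfl
theorem F280585 : act 4 n180263 = n86110 := d10_1 D180263 (iv6 D86110) D86108
def n180264 : Q := act 7 n86108
theorem D180264 : act 7 n86108 = n180264 := rfl
theorem F280586 : act 2 n180264 = n86113 := d4_1 D180264 (iv7 F280574) F280573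
theorem F280587 : act 4 n180264 = n86111 := d11_1 D180264 (iv7 D86111) D86108
theorem F280588 : act 1 n86113 = n180259 := d15_0 (iv0 D180259) D180264 F280586
def n180270 : Q := act 0 n86110
theorem D180270 : act 0 n86110 = n180270 := rfl
def n180271 : Q := act 1 n86110
theorem D180271 : act 1 n86110 = n180271 := rfl
def n180272 : Q := act 5 n86110
theorem D180272 : act 5 n86110 = n180272 := rfl
theorem F280593 : act 0 n180272 = n164148 := d21_7 (iv5 F250815) (iv1 D35169) F28014 (iv6 F30101) D39858 D86110 D180272 (iv5 D164148) (iv6 D78858) (iv1 F67488)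
theorem F280594 : act 1 n180272 = n164163 := d15_1 (iv0 F280593) (iv7 D164163) (iv2 F258694)
def n180273 : Q := act 7 n86110
theorem D180273 : act 7 n86110 = n180273 := rfl
def n180274 : Q := act 6 n86111
theorem D180274 : act 6 n86111 = n180274 := rfl
theorem F280595 : act 2 n180274 = n86115 := d3_1 D180274 (iv6 D86115) (iv2 F132062)
def n180280 : Q := act 6 n86112
theorem D180280 : act 6 n86112 = n180280 := rfl
theorem F280598 : act 3 n180280 = n86115 := d7_1 D180280 (iv6 D86115) D86112
def n180281 : Q := act 3 n86113
theorem D180281 : act 3 n86113 = n180281 := rfl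
def n180282 : Q := act 5 n86113
theorem D180282 : act 5 n86113 = n180282 := rfl
def n180283 : Q := act 6 n86113
theorem D180283 : act 6 n86113 = n180283 := rfl
theorem F280599 : act 4 n180283 = n86115 := d10_1 D180283 (iv6 D86115) D86113
def n180288 : Q := act 5 n86115
theorem D180288 : act 5 n86115 = n180288 := rfl
def n180290 : Q := act 4 n86116
theorem D180290 : act 4 n86116 = n180290 := rfl
theorem F280600 : act 2 n180290 = n86119 := d1_1 D180290 (iv4 D86119) (iv2 F132063)
def n180291 : Q := act 2 n86117
theorem D180291 : act 2 n86117 = n180291 := rfl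
def n180292 : Q := act 3 n86117
theorem D180292 : act 3 n86117 = n180292 := rfl
def n180293 : Q := act 4 n86117
theorem D180293 : act 4 n86117 = n180293 := rfl
def n180294 : Q := act 5 n86117
theorem D180294 : act 5 n86117 = n180294 := rfl
def n180295 : Q := act 6 n86117
theorem D180295 : act 6 n86117 = n180295 := rfl
def n180296 : Q := act 7 n86117
theorem D180296 : act 7 n86117 = n180296 := rfl
def n180301 : Q := act 0 n86119
theorem D180301 : act 0 n86119 = n180301 := rfl
def n180302 : Q := act 1 n86119
theorem D180302 : act 1 n86119 = n180302 := rfl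
def n180303 : Q := act 5 n86119
theorem D180303 : act 5 n86119 = n180303 := rfl
def n180306 : Q := act 2 n86120
theorem D180306 : act 2 n86120 = n180306 := rfl
def n180307 : Q := act 4 n86120
theorem D180307 : act 4 n86120 = n180307 := rfl
def n180308 : Q := act 6 n86120
theorem D180308 : act 6 n86120 = n180308 := rfl
def n180311 : Q := act 5 n86121
theorem D180311 : act 5 n86121 = n180311 := rfl
theorem F280604 : act 2 n180311 = n166454 := d2_1 D180311 F262009 F201632
theorem F280605 : act 6 n180311 = n163884 := d12_2 D86121 D180311 F258316 (iv6 D86860) F61312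
theorem F280606 : act 0 n180311 = n121725 := d21_4 F132225 F133232 (iv5 F258316) (iv6 F280605) (iv6 D121725) (iv5 D56249) (iv1 D27103) D27105 (iv6 F60742) D86268
def n180321 : Q := act 0 n86124
theorem D180321 : act 0 n86124 = n180321 := rfl
theorem F280609 : act 5 n180321 = n162468 := d19_1 D180321 (iv4 D162468) (iv3 D78023) (iv1 D35591) (iv5 D17242) (iv4 D8086) F5670 (iv1 F5658) (iv5 D3622) (iv4 F2906) F2905 (iv1 F2920) (iv5 F2957) (iv4 F5557) (iv3 F12251) (iv1 F27346) (iv5 F30102) D39864 D86124
theorem F280610 : act 1 n157759 = n180321 := d15_0 (iv0 D180321) F132064 D157759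
def n180323 : Q := act 2 n86124
theorem D180323 : act 2 n86124 = n180323 := rfl
theorem F280612 : act 3 n180323 = n157776 := d0_2 D86124 D180323 (iv2 D157776) (iv3 D75173) (iv2 F60654)
def n180324 : Q := act 5 n86124
theorem D180324 : act 5 n86124 = n180324 := rfl
theorem F280617 : act 3 n180324 = n86125 := d6_1 D180324 (iv5 D86125) D86124
def n180325 : Q := act 6 n86124
theorem D180325 : act 6 n86124 = n180325 := rfl
theorem F280619 : act 3 n180325 = n86126 := d7_1 D180325 (iv6 D86126) D86124
def n180326 : Q := act 6 n86125
theorem D180326 : act 6 n86125 = n180326 := rfl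
def n180327 : Q := act 5 n86126
theorem D180327 : act 5 n86126 = n180327 := rfl
def n180328 : Q := act 0 n86128
theorem D180328 : act 0 n86128 = n180328 := rfl
theorem F280623 : act 1 n157776 = n180328 := d15_0 (iv0 D180328) F132074 D157776
def n180329 : Q := act 1 n86128
theorem D180329 : act 1 n86128 = n180329 := rfl
theorem F280624 : act 4 n163453 = n180329 := d20_6 (iv4 D35271) F28063 D17340 D35786 D78551 D163453 (iv1 D180329) (iv4 F254515) (iv3 D161005) (iv1 D77264)
def n180330 : Q := act 2 n86128
theorem D180330 : act 2 n86128 = n180330 := rfl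
theorem F280625 : act 3 n180330 = n157759 := d0_2 D86128 D180330 (iv2 D157759) (iv3 D75165) (iv2 F60662)
theorem F280626 : act 7 n180330 = n157776 := d4_2 (iv7 F132074) D180330 (iv2 D157776)
theorem F280627 : act 1 n180330 = n157774 := d15_0 (iv0 D157774) (iv7 F132074) D180330
theorem F280628 : act 1 n180329 = n157776 := d15_1 D180329 (iv7 F280626) (iv2 D180330)
theorem F280629 : act 1 n157775 = n180330 := d15_1 D157775 F280626 (iv2 D157776)
def n180331 : Q := act 5 n86128
theorem D180331 : act 5 n86128 = n180331 := rfl
theorem F280630 : act 3 n180331 = n86129 := d6_1 D180331 (iv5 D86129) D86128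
theorem F280631 : act 7 n180331 = n157777 := d13_2 (iv7 F132074) D180331 (iv5 D157777)
def n180332 : Q := act 6 n86128
theorem D180332 : act 6 n86128 = n180332 := rfl
theorem F280632 : act 3 n180332 = n86130 := d7_1 D180332 (iv6 D86130) D86128
def n180333 : Q := act 6 n86129
theorem D180333 : act 6 n86129 = n180333 := rfl
theorem F280634 : act 4 n180333 = n87218 := d10_1 D180333 (iv6 D87218) (iv4 F132076)
def n180334 : Q := act 0 n86130
theorem D180334 : act 0 n86130 = n180334 := rfl
theorem F280635 : act 6 n180334 = n96325 := d21_5 D81504 (iv1 F132079) (iv5 D86129) D86130 D180334 (iv5 F267330) (iv1 D169903) (iv5 D81500) F58166 D37216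
theorem F280637 : act 1 n157766 = n180334 := d15_0 (iv0 D180334) (iv7 F258540) F258538
theorem F280639 : act 4 n180334 = n87061 := d18_7 D45559 F149408 (iv1 F149406) F149383 (iv5 F112716) (iv4 F248653) F280637 (iv0 D87061) F61549
def n180336 : Q := act 0 n86131
theorem D180336 : act 0 n86131 = n180336 := rfl
def n180337 : Q := act 1 n86131
theorem D180337 : act 1 n86131 = n180337 := rfl
def n180338 : Q := act 2 n86131
theorem D180338 : act 2 n86131 = n180338 := rfl
theorem F280641 : act 3 n180338 = n165785 := d0_2 D86131 D180338 (iv2 D165785) (iv3 D79623) F60667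
theorem F280642 : act 4 n180338 = n158094 := d1_2 (iv4 F132082) D180338 (iv2 D158094)
def n180339 : Q := act 5 n86131
theorem D180339 : act 5 n86131 = n180339 := rfl
theorem F280643 : act 3 n180339 = n86132 := d6_1 D180339 (iv5 D86132) D86131
def n180340 : Q := act 6 n86131
theorem D180340 : act 6 n86131 = n180340 := rfl
theorem F280645 : act 3 n180340 = n86133 := d7_1 D180340 (iv6 D86133) D86131
theorem F280646 : act 4 n180340 = n158095 := d10_1 D180340 (iv6 D158095) (iv4 F132082)
def n180342 : Q := act 5 n86133
theorem D180342 : act 5 n86133 = n180342 := rfl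
theorem F280649 : act 2 n180342 = n165787 := d2_1 D180342 (iv5 D165787) (iv2 F132088)
theorem F280650 : act 0 n180135 = n180342 := d21_7 F70838 F70741 (iv5 D44988) (iv6 F70714) F70715 D86066 D180135 (iv5 D180342) (iv6 D86133) (iv1 F70840)
def n180343 : Q := act 0 n86134
theorem D180343 : act 0 n86134 = n180343 := rfl
theorem F280651 : act 1 n165785 = n180343 := d15_0 (iv0 D180343) F132091 D165785
theorem F280652 : act 4 n165948 = n180343 := d20_0 (iv1 F280651) F261188 (iv3 F192905) (iv1 F192909) (iv3 F258184) F258179 (iv1 F258062) (iv4 D79686) D79685 D165948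
def n180344 : Q := act 1 n86134
theorem D180344 : act 1 n86134 = n180344 := rfl
theorem F280653 : act 4 n165868 = n180344 := d20_6 (iv4 D55350) (iv1 F56108) F56109 D36277 D79657 D165868 (iv1 D180344) F132090 (iv3 D55780) (iv1 F87603)
def n180345 : Q := act 2 n86134
theorem D180345 : act 2 n86134 = n180345 := rfl
theorem F280654 : act 4 n180345 = n120941 := d1_2 (iv4 F132090) D180345 (iv2 D120941)
theorem F280655 : act 7 n180345 = n165785 := d4_2 (iv7 F132091) D180345 (iv2 D165785)
theorem F280656 : act 1 n180345 = n165783 := d15_0 (iv0 D165783) (iv7 F132091) D180345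
theorem F280657 : act 1 n180344 = n165785 := d15_1 D180344 (iv7 F280655) (iv2 D180345)
theorem F280658 : act 1 n165784 = n180345 := d15_1 D165784 F280655 (iv2 D165785)
def n180346 : Q := act 5 n86134
theorem D180346 : act 5 n86134 = n180346 := rfl
theorem F280659 : act 3 n180346 = n86135 := d6_1 D180346 (iv5 D86135) D86134
theorem F280660 : act 7 n180346 = n157807 := d13_2 (iv7 F132091) D180346 F248694
def n180347 : Q := act 6 n86134
theorem D180347 : act 6 n86134 = n180347 := rfl
theorem F280661 : act 3 n180347 = n86136 := d7_1 D180347 (iv6 D86136) D86134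
def n180348 : Q := act 6 n86135
theorem D180348 : act 6 n86135 = n180348 := rfl
theorem F280664 : act 4 n180348 = n87193 := d10_1 D180348 (iv6 D87193) (iv4 F132093)
def n180350 : Q := act 3 n86137
theorem D180350 : act 3 n86137 = n180350 := rfl
theorem F280665 : act 4 n180350 = n163247 := d20_6 (iv4 D39867) (iv1 D18864) D18865 D39871 D86137 D180350 (iv1 D163247) (iv4 F146893) (iv3 D95270) F70013
def n180351 : Q := act 5 n86137
theorem D180351 : act 5 n86137 = n180351 := rfl
theorem F280666 : act 2 n180351 = n157802 := d2_1 D180351 F248690 F258238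
theorem F280667 : act 0 n180351 = n157800 := d17_2 D86137 D180351 (iv5 D157800) F112727 (iv5 F60689) F60691 (iv5 F256335) (iv0 D39873) (iv4 F60670)
theorem F280668 : act 1 n180351 = n125378 := d17_6 (iv1 F254318) D86304 (iv1 F258215) (iv5 F194347) (iv4 F258237) D180351 (iv5 D125378) (iv0 F119818) (iv4 D78650)
def n180352 : Q := act 6 n86137
theorem D180352 : act 6 n86137 = n180352 := rfl
def n180353 : Q := act 3 n86138
theorem D180353 : act 3 n86138 = n180353 := rfl
def n180354 : Q := act 5 n86138
theorem D180354 : act 5 n86138 = n180354 := rfl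
theorem F280669 : act 7 n180354 = n157802 := d13_2 F258234 D180354 F248690
theorem F280670 : act 0 n180354 = n125378 := d17_2 (iv1 F160845) D180354 (iv5 D125378) F92776 F45084 D34449 F256340 F92771 (iv4 F160842)
theorem F280671 : act 1 n180354 = n157800 := d17_6 (iv1 F254408) D163690 F258032 F256344 F193303 D180354 (iv5 D157800) F201652 (iv4 F201653)
theorem F280672 : act 2 n180354 = n157801 := d15_3 (iv0 D157801) D157802 (iv7 F280669)
theorem F280673 : act 5 n157801 = n104965 := d2_2 D180354 F280672 (iv2 F258240)
theorem F280674 : act 7 n157801 = n180351 := d4_2 (iv7 F280669) F280672 F280666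
def n180355 : Q := act 6 n86138
theorem D180355 : act 6 n86138 = n180355 := rfl
def n180356 : Q := act 5 n86139
theorem D180356 : act 5 n86139 = n180356 := rfl
theorem F280675 : act 2 n180356 = n86140 := d2_1 D180356 (iv5 D86140) D86139
def n180357 : Q := act 4 n86140
theorem D180357 : act 4 n86140 = n180357 := rfl
def n180358 : Q := act 6 n86140
theorem D180358 : act 6 n86140 = n180358 := rfl
theorem F280676 : act 3 n180358 = n86141 := d7_1 D180358 (iv6 D86141) (iv3 F132099)
def n180359 : Q := act 0 n86141
theorem D180359 : act 0 n86141 = n180359 := rfl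
def n180360 : Q := act 1 n86141
theorem D180360 : act 1 n86141 = n180360 := rfl
def n180361 : Q := act 7 n86141
theorem D180361 : act 7 n86141 = n180361 := rfl
def n180362 : Q := act 6 n86143
theorem D180362 : act 6 n86143 = n180362 := rfl
theorem F280678 : act 3 n180362 = n86146 := d7_1 D180362 (iv6 D86146) D86143
theorem F280679 : act 4 n180362 = n163831 := d10_1 D180362 (iv6 D163831) (iv4 F132101)
def n180363 : Q := act 0 n86144
theorem D180363 : act 0 n86144 = n180363 := rfl
theorem F280680 : act 4 n180363 = n92195 := d18_3 D39873 D86144 D180363 F250816 D160581 (iv0 F253663) (iv4 D86215) (iv0 D39900) F30119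
theorem F280681 : act 1 n86149 = n180363 := d15_0 (iv0 D180363) (iv7 F261363) F261367
theorem E24864 : n121757 = n92195 := ((c18_8 (iv1 F258035) (iv4 F248847) (iv1 F248852) (iv4 D75244) F256340 D86149 F280681 F280680 (iv0 D121757) (iv5 F194346))).symm
theorem F280682 : act 1 n92195 = n56261 := (sb E24864 (iv0 D121757))
theorem F280683 : act 7 n164137 = n180363 := d11_0 F280680 (iv7 F254445) D164137
def n180364 : Q := act 1 n86144
theorem D180364 : act 1 n86144 = n180364 := rfl
theorem F280684 : act 1 n180364 = n86149 := d15_1 D180364 F261366 (iv2 F261364)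
theorem F280685 : act 4 n121758 = n180364 := d20_6 (iv4 F122846) (iv1 F122851) (iv4 D36455) D36454 D80054 F194325 (iv1 D180364) (iv4 D86144) D86143 F256632
theorem F280686 : act 2 n180364 = n164137 := d1_1 F280685 (iv4 D164137) F254075
def n180365 : Q := act 3 n86144
theorem D180365 : act 3 n86144 = n180365 := rfl
theorem F280687 : act 4 n180365 = n163830 := d5_2 D86144 D180365 (iv3 D163830) (iv4 F132101) (iv3 D86143)
theorem F280688 : act 7 n180365 = n165951 := d8_2 F261363 D180365 F261373
def n180366 : Q := act 5 n86144
theorem D180366 : act 5 n86144 = n180366 := rfl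
def n180367 : Q := act 6 n86144
theorem D180367 : act 6 n86144 = n180367 := rfl
theorem F280689 : act 4 n180367 = n86146 := d10_1 D180367 (iv6 D86146) D86144
def n180368 : Q := act 0 n86146
theorem D180368 : act 0 n86146 = n180368 := rfl
def n180369 : Q := act 1 n86146
theorem D180369 : act 1 n86146 = n180369 := rfl
def n180370 : Q := act 5 n86146
theorem D180370 : act 5 n86146 = n180370 := rfl
theorem F280690 : act 6 n180370 = n157965 := d12_2 D86146 D180370 (iv5 D157965) (iv6 D75241) (iv5 F256335)
def n180371 : Q := act 7 n86146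
theorem D180371 : act 7 n86146 = n180371 := rfl
def n180372 : Q := act 2 n86148
theorem D180372 : act 2 n86148 = n180372 := rfl
theorem F280691 : act 3 n180372 = n163335 := d0_2 D86148 D180372 F261327 (iv3 F122368) F261301
theorem F280692 : act 5 n180372 = n157970 := d2_2 (iv5 F256339) D180372 (iv2 D157970)
theorem F280693 : act 7 n180372 = n163499 := d4_2 (iv7 F261300) D180372 F261299
theorem F280694 : act 1 n180372 = n163500 := d15_0 F258468 (iv7 F261300) D180372
theorem F280695 : act 1 n121116 = n180372 := d15_0 F280694 (iv7 F258421) F258420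
theorem F280696 : act 4 n164001 = n180372 := d18_7 (iv1 F254181) F254269 (iv1 D159305) (iv4 D76209) F250799 D78791 D164001 F280694 F257781
theorem F280697 : act 3 n164001 = n120292 := d20_3 (iv4 F257780) (iv1 F280694) (iv4 F280696) (iv1 D120292) (iv3 D55358) (iv4 D26751) F21449 D26979 D55945 D121269
def n180373 : Q := act 4 n86148
theorem D180373 : act 4 n86148 = n180373 := rfl
theorem F280698 : act 2 n180373 = n164001 := d1_1 D180373 F280696 (iv2 D180372)
theorem F280699 : act 7 n180373 = n164000 := d11_2 (iv7 F261300) D180373 F258465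
theorem F280700 : act 0 n180373 = n86309 := d18_2 (iv1 F257967) D180373 (iv4 D86309) (iv5 D39933) D39932 F132255 F132250 F254228 (iv5 F250800)
theorem F280701 : act 1 n180373 = n86292 := d18_6 D35894 D78850 F248859 (iv4 D157971) (iv5 F256339) D180373 (iv4 D86292) (iv0 F254087) F43547
def n180374 : Q := act 6 n86148
theorem D180374 : act 6 n86148 = n180374 := rfl
theorem F280702 : act 3 n180374 = n86151 := d7_1 D180374 (iv6 D86151) D86148
def n180375 : Q := act 3 n86149
theorem D180375 : act 3 n86149 = n180375 := rfl
theorem F280703 : act 0 n96335 = n180375 := d20_4 F60666 (iv1 F57004) D44983 D96335 (iv3 D180375) (iv4 D86149) (iv1 D39874) (iv4 F60670) (iv3 D39871) D39869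
def n180376 : Q := act 5 n86149
theorem D180376 : act 5 n86149 = n180376 := rfl
def n180377 : Q := act 6 n86149
theorem D180377 : act 6 n86149 = n180377 := rfl
theorem F280704 : act 4 n180377 = n86151 := d10_1 D180377 (iv6 D86151) D86149
def n180378 : Q := act 0 n86151
theorem D180378 : act 0 n86151 = n180378 := rfl
def n180379 : Q := act 1 n86151
theorem D180379 : act 1 n86151 = n180379 := rfl
def n180380 : Q := act 5 n86151
theorem D180380 : act 5 n86151 = n180380 := rfl
theorem F280705 : act 6 n180380 = n157981 := d12_2 D86151 D180380 (iv5 D157981) (iv6 D75246) F256340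
def n180381 : Q := act 7 n86151
theorem D180381 : act 7 n86151 = n180381 := rfl
def n180382 : Q := act 0 n86152
theorem D180382 : act 0 n86152 = n180382 := rfl
theorem F280706 : act 1 n157890 = n180382 := d15_0 (iv0 D180382) F132103 D157890
def n180383 : Q := act 1 n86152
theorem D180383 : act 1 n86152 = n180383 := rfl
theorem F280707 : act 3 n157953 = n180383 := d20_3 F258230 (iv1 F258233) F256633 (iv1 D180383) (iv3 D86152) (iv4 D39876) (iv1 D18867) D18868 D39880 D86161
theorem F280708 : act 4 n163272 = n180383 := d20_6 (iv4 D35753) (iv1 D17328) D17329 D35757 D78471 D163272 (iv1 D180383) (iv4 F253701) (iv3 D160610) (iv1 F115750)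
def n180384 : Q := act 2 n86152
theorem D180384 : act 2 n86152 = n180384 := rfl
theorem F280709 : act 3 n180384 = n157873 := d0_2 D86152 D180384 (iv2 D157873) (iv3 D75209) (iv2 F60672)
theorem F280710 : act 7 n180384 = n157890 := d4_2 (iv7 F132103) D180384 (iv2 D157890)
theorem F280711 : act 1 n180384 = n157888 := d15_0 (iv0 D157888) (iv7 F132103) D180384
theorem F280712 : act 1 n180383 = n157890 := d15_1 D180383 (iv7 F280710) (iv2 D180384)
theorem F280713 : act 1 n157889 = n180384 := d15_1 D157889 F280710 (iv2 D157890)
def n180385 : Q := act 5 n86152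
theorem D180385 : act 5 n86152 = n180385 := rfl
theorem F280714 : act 3 n180385 = n86153 := d6_1 D180385 (iv5 D86153) D86152
theorem F280715 : act 7 n180385 = n157891 := d13_2 (iv7 F132103) D180385 (iv5 D157891)
def n180386 : Q := act 6 n86152
theorem D180386 : act 6 n86152 = n180386 := rfl
theorem F280716 : act 3 n180386 = n86154 := d7_1 D180386 (iv6 D86154) D86152
def n180387 : Q := act 6 n86153
theorem D180387 : act 6 n86153 = n180387 := rfl
theorem F280717 : act 2 n180387 = n157876 := d3_1 D180387 (iv6 D157876) (iv2 F132104)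
def n180388 : Q := act 0 n86154
theorem D180388 : act 0 n86154 = n180388 := rfl
theorem F280718 : act 4 n180388 = n161122 := d20_2 (iv4 F132109) D180388 F254708 (iv1 F140019) (iv3 F261180) F261181 (iv1 F258731) (iv4 D157784) (iv3 F120047) (iv1 F120050)
theorem F280720 : act 2 n157877 = n180388 := d15_3 (iv0 D180388) F257778 F257776
theorem F280721 : act 1 n157880 = n180388 := d15_0 (iv0 D180388) (iv7 F258763) F258761
theorem F280722 : act 7 n180388 = n157878 := d15_2 (iv0 F257777) F280721 (iv2 F257775)
def n180389 : Q := act 5 n86154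
theorem D180389 : act 5 n86154 = n180389 := rfl
theorem F280723 : act 2 n180389 = n157879 := d2_1 D180389 (iv5 D157879) (iv2 F132108)
def n180390 : Q := act 0 n86155
theorem D180390 : act 0 n86155 = n180390 := rfl
theorem F280724 : act 1 n157901 = n180390 := d15_0 (iv0 D180390) F132110 D157901
def n180391 : Q := act 1 n86155
theorem D180391 : act 1 n86155 = n180391 := rfl
def n180392 : Q := act 2 n86155
theorem D180392 : act 2 n86155 = n180392 := rfl
theorem F280725 : act 3 n180392 = n157911 := d0_2 D86155 D180392 (iv2 D157911) (iv3 D75226) F60678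
theorem F280726 : act 7 n180392 = n157901 := d4_2 (iv7 F132110) D180392 (iv2 D157901)
theorem F280727 : act 1 n180392 = n157899 := d15_0 (iv0 D157899) (iv7 F132110) D180392
theorem F280728 : act 1 n180391 = n157901 := d15_1 D180391 (iv7 F280726) (iv2 D180392)
theorem F280729 : act 1 n157900 = n180392 := d15_1 D157900 F280726 (iv2 D157901)
def n180393 : Q := act 5 n86155
theorem D180393 : act 5 n86155 = n180393 := rfl
theorem F280730 : act 3 n180393 = n86156 := d6_1 D180393 (iv5 D86156) D86155
theorem F280731 : act 7 n180393 = n157902 := d13_2 (iv7 F132110) D180393 (iv5 D157902)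
def n180394 : Q := act 6 n86155
theorem D180394 : act 6 n86155 = n180394 := rfl
theorem F280732 : act 3 n180394 = n86157 := d7_1 D180394 (iv6 D86157) D86155
def n180395 : Q := act 6 n86156
theorem D180395 : act 6 n86156 = n180395 := rfl
theorem F280733 : act 2 n180395 = n157914 := d3_1 D180395 (iv6 D157914) (iv2 F132111)
theorem F280734 : act 4 n180395 = n180387 := d10_1 D180395 (iv6 D180387) (iv4 F132113)
def n180399 : Q := act 2 n86158
theorem D180399 : act 2 n86158 = n180399 := rfl
theorem F280737 : act 3 n180399 = n157901 := d0_2 D86158 D180399 (iv2 D157901) (iv3 D75223) F60683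
theorem F280738 : act 4 n180399 = n121578 := d1_2 (iv4 F132118) D180399 (iv2 D121578)
def n180400 : Q := act 5 n86158
theorem D180400 : act 5 n86158 = n180400 := rfl
theorem F280743 : act 3 n180400 = n86159 := d6_1 D180400 (iv5 D86159) D86158
theorem F280744 : act 7 n180400 = n157912 := d13_2 (iv7 F132119) D180400 (iv5 D157912)
theorem F280745 : act 4 n93129 = n180400 := d19_2 D43577 D93129 F280743 F132123 (iv5 D39970) (iv4 D18902) F13795 F5898 (iv5 D3563) F2728 F1596 (iv1 F1165) F1163 (iv4 F1789) (iv3 F3078) (iv1 F6171) (iv5 F16863) D9771 D20615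
theorem F280746 : act 7 n90950 = n93129 := d11_0 F280745 F280744 (iv4 F248815)
theorem E24865 : n93131 = n42601 := (c13_3 F280746 (iv5 D93129) D93131 D90950)
theorem E24866 : n90947 = n43578 := ((D90947).symm.trans (sb E24865 F143633))
theorem E24868 : n93126 = n42602 := ((F143630).symm.trans (sb E24866 (iv7 F139985)))
theorem F280750 : act 7 n42602 = n43578 := (sb E24868 (iv7 F143630))
theorem F280752 : act 7 n93133 = n90954 := d11_2 F280750 D93133 (iv4 D90954)
theorem F280756 : act 7 n87188 = n87066 := d8_2 F280752 (iv3 F139989) F143634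
theorem F280757 : act 2 n93133 = n90949 := d16_9 (iv4 D90949) D90950 F248815 (iv5 D157912) F112773 D77925 D162203 (iv5 F256352) (iv7 F280752)
theorem F280758 : act 7 n93128 = n90949 := d15_2 (iv0 F143849) (iv0 F143848) (iv2 F280757)
theorem F280759 : act 2 n90954 = n93128 := d4_3 F280758 (iv2 F280757) F280752
theorem F280760 : act 2 n87066 = n87189 := d15_3 F133804 F133800 F280756
def n180401 : Q := act 6 n86158
theorem D180401 : act 6 n86158 = n180401 := rfl
theorem F280767 : act 3 n180401 = n86160 := d7_1 D180401 (iv6 D86160) D86158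
def n180402 : Q := act 6 n86159
theorem D180402 : act 6 n86159 = n180402 := rfl
theorem F280769 : act 2 n180402 = n157904 := d3_1 D180402 (iv6 D157904) (iv2 F132120)
theorem F280770 : act 4 n180402 = n171541 := d10_1 D180402 (iv6 D171541) (iv4 F132121)
def n180403 : Q := act 5 n86160
theorem D180403 : act 5 n86160 = n180403 := rfl
theorem F280771 : act 2 n180403 = n157907 := d2_1 D180403 (iv5 D157907) (iv2 F132125)
def n180404 : Q := act 3 n86161
theorem D180404 : act 3 n86161 = n180404 := rfl
theorem F280772 : act 4 n180404 = n161008 := d5_2 (iv4 F258230) D180404 (iv3 F262507) (iv4 D166776) F258225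
theorem F280773 : act 7 n180404 = n157918 := d8_2 (iv7 F258231) D180404 (iv3 D157918)
def n180405 : Q := act 5 n86161
theorem D180405 : act 5 n86161 = n180405 := rfl
theorem F280774 : act 2 n180405 = n157924 := d2_1 D180405 (iv5 D157924) (iv2 F258229)
theorem F280775 : act 7 n180405 = n157920 := d13_2 (iv7 F258231) D180405 (iv5 D157920)
theorem F280776 : act 1 n180405 = n86348 := d15_0 (iv0 F262468) F262467 (iv2 F280774)
def n180406 : Q := act 6 n86161
theorem D180406 : act 6 n86161 = n180406 := rfl
theorem F280777 : act 2 n180406 = n157925 := d3_1 D180406 (iv6 D157925) (iv2 F258229)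
def n180407 : Q := act 5 n86162
theorem D180407 : act 5 n86162 = n180407 := rfl
theorem F280778 : act 2 n180407 = n86163 := d2_1 D180407 (iv5 D86163) D86162
theorem F280779 : act 7 n180407 = n157926 := d13_2 (iv7 F132129) D180407 (iv5 D157926)
theorem F280780 : act 0 n180407 = n157928 := d17_2 (iv1 F132130) D180407 F248825 (iv4 F248737) (iv5 D78651) D78648 D163690 (iv0 F258214) F258217
theorem F280781 : act 1 n180407 = n157927 := d17_6 D39971 (iv5 F248734) (iv1 F92782) (iv5 F60689) (iv4 F132128) D180407 F258034 (iv0 D86345) F60820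
def n180408 : Q := act 6 n86162
theorem D180408 : act 6 n86162 = n180408 := rfl
theorem F280782 : act 2 n180408 = n86164 := d3_1 D180408 (iv6 D86164) D86162
theorem F280783 : act 4 n180408 = n86184 := d10_1 D180408 (iv6 D86184) (iv4 F132128)
def n180409 : Q := act 0 n86163
theorem D180409 : act 0 n86163 = n180409 := rfl
theorem F280784 : act 5 n180409 = n86193 := d17_3 F122841 D86163 D180409 (iv4 F201726) (iv5 F254403) F254400 F250794 F258035 D80034
theorem F280785 : act 1 n157926 = n180409 := d15_0 (iv0 D180409) F132133 (iv2 F248824)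
theorem F280786 : act 2 n157928 = n180409 := d2_3 F280784 (iv2 F254398) (iv5 F248825)
theorem F280787 : act 7 n157927 = n180409 := d13_0 F280784 (iv7 F254362) (iv5 F258034)
def n180410 : Q := act 1 n86163
theorem D180410 : act 1 n86163 = n180410 := rfl
theorem F280788 : act 1 n180410 = n157926 := d15_1 D180410 (iv7 F280779) F280778
theorem F280789 : act 7 n180410 = n157928 := d15_2 (iv0 D180409) D180410 F280786
theorem F280790 : act 5 n180410 = n86194 := d17_7 (iv1 F60828) F248721 (iv1 D34431) (iv5 F30114) (iv4 F60684) D86163 D180410 F132345 F132342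
theorem F280791 : act 2 n157927 = n180410 := d2_3 F280790 F254399 (iv5 F258034)
def n180411 : Q := act 4 n86163
theorem D180411 : act 4 n86163 = n180411 := rfl
theorem F280792 : act 7 n180411 = n157929 := d11_2 (iv7 F132133) D180411 (iv4 D157929)
def n180412 : Q := act 6 n86163
theorem D180412 : act 6 n86163 = n180412 := rfl
theorem F280793 : act 3 n180412 = n86166 := d7_1 D180412 (iv6 D86166) (iv3 F132132)
def n180413 : Q := act 0 n86164
theorem D180413 : act 0 n86164 = n180413 := rfl
def n180414 : Q := act 1 n86164
theorem D180414 : act 1 n86164 = n180414 := rfl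
def n180415 : Q := act 5 n86164
theorem D180415 : act 5 n86164 = n180415 := rfl
theorem F280794 : act 3 n180415 = n86169 := d6_1 D180415 (iv5 D86169) (iv3 F132134)
def n180416 : Q := act 3 n86165
theorem D180416 : act 3 n86165 = n180416 := rfl
theorem F280795 : act 5 n180416 = n86192 := d6_2 (iv5 F132136) D180416 (iv3 D86192)
theorem F280796 : act 7 n180416 = n157931 := d8_2 (iv7 F132140) D180416 (iv3 D157931)
def n180418 : Q := act 0 n86166
theorem D180418 : act 0 n86166 = n180418 := rfl
def n180419 : Q := act 1 n86166
theorem D180419 : act 1 n86166 = n180419 := rfl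
def n180420 : Q := act 5 n86166
theorem D180420 : act 5 n86166 = n180420 := rfl
theorem F280799 : act 6 n180420 = n86169 := d12_2 D86166 D180420 (iv5 D86169) (iv6 D39882) D39881
def n180421 : Q := act 7 n86166
theorem D180421 : act 7 n86166 = n180421 := rfl
theorem F280800 : act 6 n180421 = n157939 := d14_1 D180421 (iv7 D157939) (iv6 D75236) (iv7 F60686) D86166
def n180429 : Q := act 3 n86171
theorem D180429 : act 3 n86171 = n180429 := rfl
def n180430 : Q := act 5 n86171
theorem D180430 : act 5 n86171 = n180430 := rfl
def n180431 : Q := act 3 n86173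
theorem D180431 : act 3 n86173 = n180431 := rfl
def n180432 : Q := act 5 n86173
theorem D180432 : act 5 n86173 = n180432 := rfl
def n180433 : Q := act 1 n86175
theorem D180433 : act 1 n86175 = n180433 := rfl
theorem F280802 : act 5 n180433 = n157819 := d17_7 (iv1 F132214) D120993 (iv1 F261334) (iv5 D79687) D79686 (iv5 F194350) D180433 (iv0 F256613) F256612
theorem F280803 : act 3 n163500 = n180433 := d20_9 F132142 (iv1 D56171) F43733 (iv3 D12985) (iv1 F21454) D26981 (iv4 F88531) D121269 (iv4 F257780) (iv1 D180433)
theorem F280804 : act 2 n180433 = n121121 := d0_1 F280803 (iv3 D121121) (iv2 F254219) D78570 D163500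
theorem F280805 : act 1 n180433 = n121623 := d15_0 (iv0 F254259) F254255 (iv2 F280804)
def n180434 : Q := act 2 n86175
theorem D180434 : act 2 n86175 = n180434 := rfl
theorem F280806 : act 3 n180434 = n157970 := d0_2 D86175 D180434 (iv2 D157970) (iv3 D75243) (iv2 F261303)
theorem F280807 : act 4 n180434 = n121236 := d1_2 (iv4 F132142) D180434 F261352
theorem F280808 : act 5 n180434 = n163335 := d2_2 (iv5 F194350) D180434 F261327
theorem F280810 : act 1 n180434 = n121121 := d15_0 F256631 (iv7 F261307) D180434
theorem F280811 : act 1 n157947 = n180434 := d15_0 F280810 (iv7 F254255) (iv2 F258426)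
def n180435 : Q := act 6 n86175
theorem D180435 : act 6 n86175 = n180435 := rfl
theorem F280812 : act 3 n180435 = n86178 := d7_1 D180435 (iv6 D86178) D86175
def n180436 : Q := act 0 n86176
theorem D180436 : act 0 n86176 = n180436 := rfl
theorem F280814 : act 4 n180436 = n86304 := d18_3 D39885 D86176 D180436 (iv5 D86304) D86303 (iv0 F132261) (iv4 D75190) (iv0 D34430) (iv5 F30114)
theorem F280815 : act 1 n86181 = n180436 := d15_0 (iv0 D180436) F261309 (iv2 F261316)
theorem F280816 : act 2 n157953 = n180436 := d1_3 F280814 (iv2 F254304) F256633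
theorem F280817 : act 7 n157952 = n180436 := d11_0 F280814 F254476 (iv4 F248847)
def n180437 : Q := act 1 n86176
theorem D180437 : act 1 n86176 = n180437 := rfl
theorem F280818 : act 1 n180437 = n86181 := d15_1 D180437 F261317 (iv2 F261308)
theorem F280819 : act 7 n180437 = n157953 := d15_2 (iv0 D180436) D180437 F280816
theorem F280820 : act 4 n163690 = n180437 := d20_0 (iv1 D180437) (iv4 D86176) D86175 (iv1 F256616) (iv3 D78575) D78576 (iv1 F257785) F258255 (iv3 F258216) F258214
theorem F280821 : act 2 n180437 = n157952 := d1_1 F280820 F248847 (iv2 F258030)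
theorem F280822 : act 3 n180437 = n157889 := d20_3 (iv4 F258217) F258214 F280820 (iv1 D157889) (iv3 D75217) (iv4 D34442) (iv1 D16706) D16707 D34446 D75229
theorem F280823 : act 0 n157923 = n165901 := d20_10 (iv4 D165901) (iv1 F256393) F256391 (iv3 F280709) (iv1 F280713) (iv3 F280822) (iv4 F280820) F258032 F119847 D157923
theorem F280824 : act 7 n157889 = n180383 := d8_2 (iv7 F280819) F280822 (iv3 F280707)
theorem F280825 : act 2 n180383 = n157888 := d15_3 (iv0 D157888) D157889 F280824
theorem F280826 : act 2 n157889 = n180382 := d15_3 (iv0 D180382) D180383 (iv7 F280824)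
theorem F280827 : act 7 n180382 = n157888 := d4_2 (iv7 F280824) F280826 (iv2 F280825)
def n180438 : Q := act 3 n86176
theorem D180438 : act 3 n86176 = n180438 := rfl
theorem F280828 : act 4 n180438 = n121627 := d5_2 D86176 D180438 (iv3 D121627) (iv4 F132142) (iv3 D86175)
theorem F280829 : act 7 n180438 = n157954 := d8_2 (iv7 F261309) D180438 (iv3 D157954)
def n180439 : Q := act 5 n86176
theorem D180439 : act 5 n86176 = n180439 := rfl
theorem F280830 : act 2 n180439 = n157975 := d2_1 D180439 (iv5 D157975) (iv2 F261308)
theorem F280831 : act 7 n180439 = n157955 := d13_2 (iv7 F261309) D180439 (iv5 D157955)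
def n180440 : Q := act 6 n86176
theorem D180440 : act 6 n86176 = n180440 := rfl
theorem F280832 : act 2 n180440 = n157976 := d3_1 D180440 (iv6 D157976) (iv2 F261308)
theorem F280833 : act 4 n180440 = n86178 := d10_1 D180440 (iv6 D86178) D86176
def n180441 : Q := act 0 n86178
theorem D180441 : act 0 n86178 = n180441 := rfl
def n180442 : Q := act 1 n86178
theorem D180442 : act 1 n86178 = n180442 := rfl
theorem F280834 : act 1 n180442 = n157982 := d15_1 D180442 (iv7 D157982) (iv2 F261310)
def n180443 : Q := act 5 n86178
theorem D180443 : act 5 n86178 = n180443 := rfl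
theorem F280835 : act 2 n180443 = n157981 := d2_1 D180443 (iv5 D157981) (iv2 F261310)
def n180444 : Q := act 7 n86178
theorem D180444 : act 7 n86178 = n180444 := rfl
theorem F280836 : act 2 n180444 = n157982 := d4_1 D180444 (iv7 D157982) (iv2 F261310)
theorem F280837 : act 6 n180444 = n157966 := d14_1 D180444 (iv7 D157966) (iv6 D75241) F261312 D86178
theorem F280838 : act 1 n157982 = n180441 := d15_0 (iv0 D180441) D180444 F280836
theorem F280839 : act 1 n157980 = n180444 := d15_1 D157980 (iv7 D180444) F261310
theorem F280840 : act 1 n180444 = n157979 := d15_0 (iv0 D157979) D157982 (iv2 F280836)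
def n180445 : Q := act 2 n86180
theorem D180445 : act 2 n86180 = n180445 := rfl
theorem F280841 : act 3 n180445 = n121623 := d0_2 D86180 D180445 F261347 (iv3 D75238) F261311
theorem F280842 : act 5 n180445 = n163499 := d2_2 F201643 D180445 F261299
theorem F280843 : act 7 n180445 = n157970 := d4_2 (iv7 F261315) D180445 (iv2 D157970)
theorem F280844 : act 1 n180445 = n157968 := d15_0 (iv0 D157968) (iv7 F261315) D180445
theorem F280845 : act 1 n121157 = n180445 := d15_0 F280844 (iv7 F258617) F258615
theorem F280846 : act 4 n164129 = n180445 := d18_7 (iv1 F256576) (iv4 F256579) (iv1 D125429) (iv4 D58726) F254073 D78850 D164129 F280844 (iv5 F253453)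
def n180446 : Q := act 4 n86180
theorem D180446 : act 4 n86180 = n180446 := rfl
theorem F280847 : act 2 n180446 = n164129 := d1_1 D180446 F280846 (iv2 D180445)
theorem F280848 : act 7 n180446 = n157971 := d11_2 (iv7 F261315) D180446 (iv4 D157971)
theorem F280849 : act 0 n180446 = n92196 := d18_2 (iv1 F258469) D180446 (iv4 D92196) (iv5 F250815) D76987 F253656 (iv4 D157841) (iv0 F257952) (iv5 F254081)
theorem F280850 : act 1 n180446 = n92191 := d18_6 D35870 D78791 D164000 F258465 F201643 D180446 (iv4 D92191) (iv0 D43106) F32271
def n180447 : Q := act 6 n86180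
theorem D180447 : act 6 n86180 = n180447 := rfl
theorem F280851 : act 3 n180447 = n86183 := d7_1 D180447 (iv6 D86183) D86180
def n180448 : Q := act 3 n86181
theorem D180448 : act 3 n86181 = n180448 := rfl
theorem F280852 : act 7 n180448 = n157974 := d8_2 (iv7 F261317) D180448 (iv3 D157974)
theorem F280853 : act 0 n102780 = n180448 := d20_4 F60676 F56215 D47667 D102780 (iv3 D180448) (iv4 D86181) (iv1 D39886) (iv4 F60684) (iv3 D39880) D39878
def n180449 : Q := act 5 n86181
theorem D180449 : act 5 n86181 = n180449 := rfl
theorem F280854 : act 2 n180449 = n157955 := d2_1 D180449 (iv5 D157955) (iv2 F261316)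
theorem F280855 : act 7 n180449 = n157975 := d13_2 (iv7 F261317) D180449 (iv5 D157975)
def n180450 : Q := act 6 n86181
theorem D180450 : act 6 n86181 = n180450 := rfl
theorem F280856 : act 2 n180450 = n157956 := d3_1 D180450 (iv6 D157956) (iv2 F261316)
theorem F280857 : act 4 n180450 = n86183 := d10_1 D180450 (iv6 D86183) D86181
def n180451 : Q := act 0 n86183
theorem D180451 : act 0 n86183 = n180451 := rfl
def n180452 : Q := act 1 n86183
theorem D180452 : act 1 n86183 = n180452 := rfl
theorem F280858 : act 1 n180452 = n157966 := d15_1 D180452 (iv7 D157966) (iv2 F261318)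
def n180453 : Q := act 5 n86183
theorem D180453 : act 5 n86183 = n180453 := rfl
theorem F280859 : act 2 n180453 = n157965 := d2_1 D180453 (iv5 D157965) (iv2 F261318)
def n180454 : Q := act 7 n86183
theorem D180454 : act 7 n86183 = n180454 := rfl
theorem F280860 : act 2 n180454 = n157966 := d4_1 D180454 (iv7 D157966) (iv2 F261318)
theorem F280861 : act 6 n180454 = n157982 := d14_1 D180454 (iv7 D157982) (iv6 D75246) (iv7 F261306) D86183
theorem F280862 : act 1 n157966 = n180451 := d15_0 (iv0 D180451) D180454 F280860
def n180455 : Q := act 2 n86185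
theorem D180455 : act 2 n86185 = n180455 := rfl
theorem F280865 : act 7 n86186 = n180455 := d15_2 (iv0 D86185) D86186 (iv2 D180455)
def n180460 : Q := act 7 n86185
theorem D180460 : act 7 n86185 = n180460 := rfl
theorem F280866 : act 2 n180460 = n86186 := d4_1 D180460 F280865 (iv2 D180455)
def n180461 : Q := act 3 n86186
theorem D180461 : act 3 n86186 = n180461 := rfl
def n180462 : Q := act 4 n86186
theorem D180462 : act 4 n86186 = n180462 := rfl
def n180463 : Q := act 5 n86186
theorem D180463 : act 5 n86186 = n180463 := rfl
def n180464 : Q := act 6 n86186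
theorem D180464 : act 6 n86186 = n180464 := rfl
def n180465 : Q := act 0 n86187
theorem D180465 : act 0 n86187 = n180465 := rfl
theorem F280867 : act 1 n166812 = n180465 := d15_0 (iv0 D180465) F132146 D166812
def n180466 : Q := act 1 n86187
theorem D180466 : act 1 n86187 = n180466 := rfl
def n180467 : Q := act 2 n86187
theorem D180467 : act 2 n86187 = n180467 := rfl
theorem F280868 : act 3 n180467 = n162958 := d0_2 D86187 D180467 F257323 F119571 F60696
theorem F280869 : act 6 n180467 = n121064 := d3_2 (iv6 F132145) D180467 (iv2 D121064)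
theorem F280870 : act 7 n180467 = n166812 := d4_2 (iv7 F132146) D180467 (iv2 D166812)
theorem F280871 : act 1 n180467 = n166810 := d15_0 (iv0 D166810) (iv7 F132146) D180467
theorem F280872 : act 1 n180466 = n166812 := d15_1 D180466 (iv7 F280870) (iv2 D180467)
theorem F280873 : act 1 n166811 = n180467 := d15_1 D166811 F280870 (iv2 D166812)
def n180468 : Q := act 4 n86187
theorem D180468 : act 4 n86187 = n180468 := rfl
theorem F280875 : act 6 n180468 = n121054 := d10_2 (iv6 F132145) D180468 F193051
theorem F280876 : act 7 n180468 = n166808 := d11_2 (iv7 F132146) D180468 F262521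
def n180469 : Q := act 5 n86187
theorem D180469 : act 5 n86187 = n180469 := rfl
def n180470 : Q := act 1 n86188
theorem D180470 : act 1 n86188 = n180470 := rfl
theorem F280879 : act 1 n180470 = n86190 := d15_1 D180470 F132151 (iv2 F132147)
theorem F280881 : act 5 n180470 = n159257 := d17_7 F116005 F116002 F88349 (iv5 D55857) F60697 D86188 D180470 F250748 (iv4 D121254)
theorem F280883 : act 6 n180470 = n163053 := d21_3 F199133 (iv1 F250748) (iv5 F280881) (iv1 D163053) (iv6 D78401) (iv5 D35731) (iv1 F41762) D27700 D58104 D124500
def n180472 : Q := act 0 n86189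
theorem D180472 : act 0 n86189 = n180472 := rfl
theorem F280891 : act 1 n162958 = n180472 := d15_0 (iv0 D180472) F132149 (iv2 F257323)
def n180473 : Q := act 1 n86189
theorem D180473 : act 1 n86189 = n180473 := rfl
def n180474 : Q := act 2 n86189
theorem D180474 : act 2 n86189 = n180474 := rfl
theorem F280892 : act 3 n180474 = n166812 := d0_2 D86189 D180474 (iv2 D166812) (iv3 D80070) F60702
theorem F280893 : act 7 n180474 = n162958 := d4_2 (iv7 F132149) D180474 F257323
theorem F280894 : act 1 n180474 = n162963 := d15_0 (iv0 D162963) (iv7 F132149) D180474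
theorem F280895 : act 1 n180473 = n162958 := d15_1 D180473 (iv7 F280893) (iv2 D180474)
theorem F280896 : act 1 n162964 = n180474 := d15_1 D162964 F280893 F257323
def n180475 : Q := act 4 n86189
theorem D180475 : act 4 n86189 = n180475 := rfl
theorem F280897 : act 3 n180475 = n121791 := d5_1 D180475 (iv4 D121791) (iv3 D56270) F60703 D86189
theorem F280898 : act 7 n180475 = n162910 := d11_2 (iv7 F132149) D180475 F257227
def n180476 : Q := act 5 n86189
theorem D180476 : act 5 n86189 = n180476 := rfl
theorem F280899 : act 3 n180476 = n86190 := d6_1 D180476 (iv5 D86190) D86189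
theorem F280900 : act 7 n180476 = n162965 := d13_2 (iv7 F132149) D180476 (iv5 D162965)
def n180477 : Q := act 4 n86190
theorem D180477 : act 4 n86190 = n180477 := rfl
def n180478 : Q := act 6 n86190
theorem D180478 : act 6 n86190 = n180478 := rfl
theorem F280905 : act 5 n180478 = n180158 := d12_1 D180478 (iv6 D180158) F132006 (iv6 F92640) D86190
theorem F280906 : act 0 n159204 = n180478 := d21_4 F60074 (iv1 F54995) D76152 D159204 (iv6 D180478) (iv5 D86190) (iv1 D39890) (iv5 F60080) (iv6 D39079) D39076
def n180480 : Q := act 0 n86192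
theorem D180480 : act 0 n86192 = n180480 := rfl
def n180481 : Q := act 1 n86192
theorem D180481 : act 1 n86192 = n180481 := rfl
def n180482 : Q := act 2 n86192
theorem D180482 : act 2 n86192 = n180482 := rfl
theorem F280907 : act 3 n180482 = n166856 := d0_2 D86192 D180482 (iv2 D166856) (iv3 D80089) F60707
def n180483 : Q := act 3 n86193
theorem D180483 : act 3 n86193 = n180483 := rfl
theorem F280908 : act 4 n180483 = n166576 := d5_2 F201726 D180483 (iv3 F262131) (iv4 F257988) (iv3 F201727)
def n180484 : Q := act 6 n86193
theorem D180484 : act 6 n86193 = n180484 := rfl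
def n180485 : Q := act 3 n86194
theorem D180485 : act 3 n86194 = n180485 := rfl
theorem F280909 : act 4 n180485 = n121195 := d5_2 F132152 D180485 (iv3 D121195) (iv4 D55918) D55917
def n180486 : Q := act 6 n86194
theorem D180486 : act 6 n86194 = n180486 := rfl
theorem F280910 : act 4 n180486 = n121191 := d10_1 D180486 (iv6 D121191) F132152
def n180487 : Q := act 5 n86195
theorem D180487 : act 5 n86195 = n180487 := rfl
theorem F280911 : act 2 n180487 = n86196 := d2_1 D180487 (iv5 D86196) D86195
theorem F280912 : act 0 n180487 = n166737 := d17_2 (iv1 F132339) D180487 (iv5 D166737) (iv4 D80034) F194346 D121758 F254062 F254405 F254360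
theorem F280913 : act 1 n180487 = n180405 := d17_6 D39885 (iv5 F194349) (iv1 F92765) (iv5 F60713) (iv4 F132153) D180487 (iv5 D180405) (iv0 D86161) F60684
def n180488 : Q := act 6 n86195
theorem D180488 : act 6 n86195 = n180488 := rfl
theorem F280914 : act 2 n180488 = n86197 := d3_1 D180488 (iv6 D86197) D86195
theorem F280915 : act 4 n180488 = n86223 := d10_1 D180488 (iv6 D86223) (iv4 F132153)
def n180489 : Q := act 4 n86196
theorem D180489 : act 4 n86196 = n180489 := rfl
def n180490 : Q := act 6 n86196
theorem D180490 : act 6 n86196 = n180490 := rfl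
theorem F280916 : act 3 n180490 = n86199 := d7_1 D180490 (iv6 D86199) (iv3 F132154)
def n180491 : Q := act 0 n86197
theorem D180491 : act 0 n86197 = n180491 := rfl
def n180492 : Q := act 1 n86197
theorem D180492 : act 1 n86197 = n180492 := rfl
def n180493 : Q := act 5 n86197
theorem D180493 : act 5 n86197 = n180493 := rfl
theorem F280917 : act 3 n180493 = n86202 := d6_1 D180493 (iv5 D86202) (iv3 F132155)
def n180494 : Q := act 7 n86197
theorem D180494 : act 7 n86197 = n180494 := rfl
theorem F280918 : act 3 n180494 = n86203 := d8_1 D180494 (iv7 D86203) (iv3 F132155)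
theorem F280919 : act 4 n180494 = n86227 := d11_1 D180494 (iv7 D86227) (iv4 F132156)
theorem F280920 : act 6 n180494 = n124454 := d14_1 D180494 (iv7 D124454) F91802 F60821 D86197
def n180495 : Q := act 3 n86198
theorem D180495 : act 3 n86198 = n180495 := rfl
theorem F280921 : act 5 n180495 = n86342 := d6_2 (iv5 F132159) D180495 (iv3 D86342)
theorem F280922 : act 7 n180495 = n170838 := d8_2 (iv7 F132158) D180495 F268436
def n180496 : Q := act 6 n86198
theorem D180496 : act 6 n86198 = n180496 := rfl
theorem F280923 : act 2 n180496 = n86349 := d3_1 D180496 (iv6 D86349) (iv2 F132157)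
theorem F280924 : act 4 n180496 = n86199 := d10_1 D180496 (iv6 D86199) D86198
def n180497 : Q := act 0 n86199
theorem D180497 : act 0 n86199 = n180497 := rfl
def n180498 : Q := act 1 n86199
theorem D180498 : act 1 n86199 = n180498 := rfl
def n180499 : Q := act 5 n86199
theorem D180499 : act 5 n86199 = n180499 := rfl
theorem F280925 : act 6 n180499 = n86202 := d12_2 D86199 D180499 (iv5 D86202) (iv6 D39896) D39895
def n180500 : Q := act 7 n86199
theorem D180500 : act 7 n86199 = n180500 := rfl
def n180507 : Q := act 0 n86202
theorem D180507 : act 0 n86202 = n180507 := rfl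
def n180508 : Q := act 1 n86202
theorem D180508 : act 1 n86202 = n180508 := rfl
theorem F280926 : act 5 n177793 = n180508 := d21_6 (iv5 F132136) (iv1 F132138) (iv5 D75205) (iv6 F60106) D84656 D177793 (iv1 D180508) (iv5 D86202) (iv6 D39896) D39893
theorem F280927 : act 2 n180508 = n178133 := d2_1 F280926 (iv5 D178133) (iv2 F277291)
def n180509 : Q := act 4 n86202
theorem D180509 : act 4 n86202 = n180509 := rfl
def n180510 : Q := act 7 n86202
theorem D180510 : act 7 n86202 = n180510 := rfl
theorem F280928 : act 5 n180510 = n86203 := d13_1 D180510 (iv7 D86203) D86202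
theorem F280929 : act 1 n178133 = n180510 := d15_1 (iv0 F277695) (iv7 D180510) (iv2 F268444)
def n180512 : Q := act 1 n86204
theorem D180512 : act 1 n86204 = n180512 := rfl
theorem F280931 : act 1 n180512 = n86209 := d15_1 D180512 (iv7 D86209) D86204
def n180513 : Q := act 3 n86204
theorem D180513 : act 3 n86204 = n180513 := rfl
theorem F280932 : act 7 n180513 = n86210 := d8_2 F132164 D180513 (iv3 D86210)
theorem F280933 : act 2 n180513 = n163233 := d15_3 (iv0 D163233) F256266 (iv7 F280932)
theorem F280934 : act 2 n124252 = n86205 := d0_3 D180513 F280933 F261032 (iv3 D86205) D86204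
theorem F280937 : act 7 n124253 = n86205 := d15_2 (iv0 D124252) D124253 (iv2 F280934)
theorem E24869 : n86209 = n81905 := (c8_3 F280937 (iv3 D86205) D86209 F254807)
theorem E24870 : n180512 = n37506 := ((((iv1 D81905)).symm.trans (sb E24869 (iv1 F280931)))).symm
theorem E24872 : n170847 = n39898 := (((iv2 F268455)).symm.trans (sb E24869 F132167))
theorem E24873 : n170844 = n39897 := ((F268450).symm.trans (sb E24869 (iv7 D86209)))
theorem E24874 : n86204 = n81904 := (((D81904).symm.trans (sb E24870 (iv1 D180512)))).symm
theorem F280939 : act 2 n39898 = n81905 := (sb E24872 F268455)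
theorem F280940 : act 7 n39897 = n81905 := (sb E24873 (iv7 F268450))
theorem F280942 : act 7 n81904 = n39898 := (sb E24874 (iv7 F132164))
theorem F280955 : act 7 n86212 = n170846 := d13_2 F280942 D86212 (iv5 D170846)
theorem F280956 : act 7 n86213 = n125316 := d14_2 F280942 D86213 (iv6 F268452) (iv7 F280955) F132169
theorem F280957 : act 2 n86213 = n125315 := d15_3 (iv0 D125315) D125316 (iv7 F280956)
def n180521 : Q := act 5 n86210
theorem D180521 : act 5 n86210 = n180521 := rfl
theorem F280977 : act 0 n180521 = n172130 := d21_1 D180521 F270298 (iv6 D170739) F127070 (iv6 F128090) (iv5 D83092) (iv1 F59126) (iv5 F59144) D83143 F256265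
theorem F280978 : act 6 n180521 = n158029 := d21_3 F250123 F256265 D180521 (iv1 F257514) F257509 F128099 (iv1 F59127) D38267 D83129 (iv1 F250126)
theorem F280979 : act 6 n176647 = n86210 := d21_5 (iv5 D82475) (iv1 F192288) F113568 D84224 D176647 D180521 F280977 F270298 (iv6 D170739) F127070
theorem F280980 : act 3 n86213 = n176647 := d7_3 F280979 (iv3 D86210) D86213
def n180524 : Q := act 6 n86211
theorem D180524 : act 6 n86211 = n180524 := rfl
theorem F280981 : act 4 n180524 = n86213 := d10_1 D180524 (iv6 D86213) D86211
def n180525 : Q := act 4 n86212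
theorem D180525 : act 4 n86212 = n180525 := rfl
theorem F280983 : act 6 n180525 = n170845 := d10_2 (iv6 F132169) D180525 (iv4 D170845)
def n180526 : Q := act 5 n86215
theorem D180526 : act 5 n86215 = n180526 := rfl
def n180527 : Q := act 6 n86215
theorem D180527 : act 6 n86215 = n180527 := rfl
theorem F280984 : act 4 n180527 = n86217 := d10_1 D180527 (iv6 D86217) D86215
def n180528 : Q := act 0 n86217
theorem D180528 : act 0 n86217 = n180528 := rfl
def n180530 : Q := act 5 n86217
theorem D180530 : act 5 n86217 = n180530 := rfl
theorem F280985 : act 6 n180530 = n157836 := d12_2 D86217 D180530 (iv5 D157836) (iv6 D75192) F248725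
def n180531 : Q := act 7 n86217
theorem D180531 : act 7 n86217 = n180531 := rfl
def n180532 : Q := act 6 n86219
theorem D180532 : act 6 n86219 = n180532 := rfl
theorem F280986 : act 3 n180532 = n86222 := d7_1 D180532 (iv6 D86222) D86219
def n180533 : Q := act 5 n86220
theorem D180533 : act 5 n86220 = n180533 := rfl
def n180534 : Q := act 6 n86220
theorem D180534 : act 6 n86220 = n180534 := rfl
theorem F280987 : act 4 n180534 = n86222 := d10_1 D180534 (iv6 D86222) D86220
def n180537 : Q := act 5 n86222
theorem D180537 : act 5 n86222 = n180537 := rfl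
theorem F280988 : act 6 n180537 = n157848 := d12_2 D86222 D180537 (iv5 D157848) (iv6 D75197) (iv5 F248721)
def n180538 : Q := act 7 n86222
theorem D180538 : act 7 n86222 = n180538 := rfl
def n180539 : Q := act 0 n86223
theorem D180539 : act 0 n86223 = n180539 := rfl
def n180540 : Q := act 1 n86223
theorem D180540 : act 1 n86223 = n180540 := rfl
theorem F280989 : act 1 n180540 = n86227 := d15_1 D180540 (iv7 D86227) (iv2 F132172)
def n180541 : Q := act 5 n86223
theorem D180541 : act 5 n86223 = n180541 := rfl
theorem F280990 : act 2 n180541 = n86226 := d2_1 D180541 (iv5 D86226) (iv2 F132172)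
theorem F280991 : act 3 n180541 = n178361 := d6_1 D180541 F277923 F201680
theorem F280992 : act 6 n180541 = n124661 := d12_2 D86223 D180541 (iv5 D124661) F92071 (iv5 F60713)
theorem F280993 : act 0 n178330 = n180541 := d21_7 (iv5 F248743) (iv1 D58716) F45084 (iv6 F29899) D39261 D84858 D178330 (iv5 D180541) (iv6 D86223) (iv1 F60827)
def n180542 : Q := act 7 n86223
theorem D180542 : act 7 n86223 = n180542 := rfl
theorem F280994 : act 2 n180542 = n86227 := d4_1 D180542 (iv7 D86227) (iv2 F132172)
theorem F280995 : act 3 n180542 = n177598 := d8_1 D180542 F277062 F201680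
theorem F280996 : act 6 n180542 = n124480 := d14_1 D180542 F199115 F91891 F60825 D86223
theorem F280997 : act 1 n86227 = n180539 := d15_0 (iv0 D180539) D180542 F280994
theorem F280998 : act 1 n86225 = n180542 := d15_1 D86225 (iv7 D180542) F132172
theorem F280999 : act 1 n180542 = n86224 := d15_0 (iv0 D86224) D86227 (iv2 F280994)
def n180543 : Q := act 2 n86224
theorem D180543 : act 2 n86224 = n180543 := rfl
theorem F281000 : act 7 n86225 = n180543 := d15_2 (iv0 D86224) D86225 (iv2 D180543)
def n180548 : Q := act 7 n86224
theorem D180548 : act 7 n86224 = n180548 := rfl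
theorem F281001 : act 2 n180548 = n86225 := d4_1 D180548 F281000 (iv2 D180543)
def n180549 : Q := act 3 n86225
theorem D180549 : act 3 n86225 = n180549 := rfl
def n180550 : Q := act 4 n86225
theorem D180550 : act 4 n86225 = n180550 := rfl
def n180551 : Q := act 5 n86225
theorem D180551 : act 5 n86225 = n180551 := rfl
def n180552 : Q := act 6 n86225
theorem D180552 : act 6 n86225 = n180552 := rfl
def n180553 : Q := act 0 n86226
theorem D180553 : act 0 n86226 = n180553 := rfl
def n180554 : Q := act 1 n86226
theorem D180554 : act 1 n86226 = n180554 := rfl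
theorem F281002 : act 5 n178352 = n180554 := d21_6 (iv5 F248725) (iv1 F92786) F92784 (iv6 F60224) D84864 D178352 (iv1 D180554) (iv5 D86226) (iv6 D39903) D39900
def n180555 : Q := act 4 n86226
theorem D180555 : act 4 n86226 = n180555 := rfl
theorem F281003 : act 6 n180555 = n124664 := d10_2 (iv6 F132174) D180555 (iv4 D124664)
def n180556 : Q := act 7 n86226
theorem D180556 : act 7 n86226 = n180556 := rfl
theorem F281004 : act 3 n180556 = n86230 := d8_1 D180556 (iv7 D86230) (iv3 F132173)
theorem F281005 : act 5 n180556 = n86227 := d13_1 D180556 (iv7 D86227) D86226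
theorem F281006 : act 1 n178330 = n180556 := d15_1 (iv0 F280993) (iv7 D180556) (iv2 F280990)
def n180557 : Q := act 3 n86228
theorem D180557 : act 3 n86228 = n180557 := rfl
theorem F281007 : act 5 n180557 = n178268 := d6_2 (iv5 F132177) D180557 F277815
def n180559 : Q := act 0 n86229
theorem D180559 : act 0 n86229 = n180559 := rfl
theorem F281011 : act 4 n180559 = n86268 := d18_3 F122628 D86229 D180559 F132225 F122651 (iv0 F67526) (iv4 F119694) F119981 D79879
theorem F281012 : act 2 n163897 = n180559 := d1_3 F281011 F132228 D163897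
theorem F281014 : act 5 n163875 = n180559 := d16_1 D163875 F281011 F132225 F122651 (iv5 D39053) F56506 D78718 (iv7 F193321) F193320
theorem F281015 : act 1 n177698 = n180559 := d18_6 (iv1 F88510) (iv4 D39909) (iv1 F30125) (iv4 F60084) D84623 (iv4 F277149) F281011 (iv0 D86268) (iv5 D39923)
def n180560 : Q := act 1 n86229
theorem D180560 : act 1 n86229 = n180560 := rfl
theorem F281016 : act 1 n180560 = n177698 := d15_1 D180560 F277150 (iv2 F132181)
theorem F281017 : act 7 n180560 = n163897 := d15_2 (iv0 D180559) D180560 F281012
theorem F281018 : act 4 n180560 = n86269 := d18_7 (iv1 F88495) (iv4 D39914) (iv1 D18878) (iv4 F30120) D39905 D86229 D180560 F132229 (iv5 D78452)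
theorem F281019 : act 2 n163900 = n180560 := d1_3 F281018 F132232 D163900
def n180561 : Q := act 3 n86229
theorem D180561 : act 3 n86229 = n180561 := rfl
theorem F281021 : act 6 n180561 = n124535 := d7_2 (iv6 F132182) D180561 F199197
theorem F281023 : act 7 n124563 = n180561 := d14_0 F281021 (iv7 D124535) F91928 D58136 D124563
def n180563 : Q := act 7 n86229
theorem D180563 : act 7 n86229 = n180563 := rfl
theorem F281032 : act 3 n180563 = n124563 := d8_1 D180563 F281023 (iv3 D180561)
theorem F281033 : act 4 n180563 = n86230 := d11_1 D180563 (iv7 D86230) D86229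
theorem F281035 : act 6 n180563 = n117952 := d14_1 D180563 (iv7 D117952) F85743 F92076 (iv6 F132182)
theorem F281036 : act 1 n163900 = n180563 := d15_1 (iv0 F258328) (iv7 D180563) F132181
theorem F281037 : act 1 n180563 = n163897 := d15_1 F281036 (iv7 F281017) (iv2 F281019)
def n180564 : Q := act 6 n86230
theorem D180564 : act 6 n86230 = n180564 := rfl
theorem F281038 : act 2 n180564 = n177709 := d3_1 D180564 F277167 (iv2 F132183)
theorem F281039 : act 4 n180564 = n117952 := d10_1 D180564 (iv6 F281035) F281033
theorem F281040 : act 5 n180564 = n124503 := d12_1 D180564 (iv6 D124503) F91902 (iv6 F60719) (iv5 F132184)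
theorem F281041 : act 7 n180564 = n117951 := d14_2 D86230 D180564 F185007 (iv7 D58254) (iv6 F60716)
theorem F281042 : act 1 n178408 = n180564 := d15_1 D178408 F281041 F185006
theorem F281043 : act 0 n178407 = n180564 := d18_2 D155051 (iv4 F277982) F281039 F185009 F85745 F85717 (iv4 F131141) (iv0 D76737) (iv5 F110259)
def n180566 : Q := act 1 n86237
theorem D180566 : act 1 n86237 = n180566 := rfl
def n180567 : Q := act 2 n86237
theorem D180567 : act 2 n86237 = n180567 := rfl
theorem F281045 : act 3 n180567 = n163879 := d0_2 D86237 D180567 (iv2 D163879) (iv3 D78722) (iv2 F132025)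
theorem F281046 : act 7 n180567 = n163889 := d4_2 (iv7 F132192) D180567 (iv2 D163889)
theorem F281047 : act 1 n180567 = n163887 := d15_0 (iv0 D163887) (iv7 F132192) D180567
theorem F281048 : act 1 n180566 = n163889 := d15_1 D180566 (iv7 F281046) (iv2 D180567)
def n180568 : Q := act 5 n86237
theorem D180568 : act 5 n86237 = n180568 := rfl
theorem F281050 : act 3 n180568 = n86238 := d6_1 D180568 (iv5 D86238) D86237
def n180569 : Q := act 6 n86237
theorem D180569 : act 6 n86237 = n180569 := rfl
theorem F281052 : act 3 n180569 = n86239 := d7_1 D180569 (iv6 D86239) D86237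
def n180570 : Q := act 4 n86238
theorem D180570 : act 4 n86238 = n180570 := rfl
theorem F281055 : act 5 n180570 = n163227 := d16_1 D180570 (iv4 D163227) (iv5 F119863) F119862 (iv5 D39915) D39914 D86247 F132205 (iv2 F132193)
def n180572 : Q := act 3 n86240
theorem D180572 : act 3 n86240 = n180572 := rfl
theorem F281057 : act 5 n180572 = n163223 := d6_2 (iv5 F132199) D180572 (iv3 D163223)
theorem F281058 : act 6 n180572 = n180165 := d7_2 (iv6 F132197) D180572 (iv3 D180165)
def n180573 : Q := act 3 n86244
theorem D180573 : act 3 n86244 = n180573 := rfl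
theorem F281060 : act 4 n180573 = n86246 := d5_2 D86244 D180573 (iv3 D86246) (iv4 D39914) D39913
def n180574 : Q := act 5 n86244
theorem D180574 : act 5 n86244 = n180574 := rfl
def n180576 : Q := act 0 n86246
theorem D180576 : act 0 n86246 = n180576 := rfl
theorem F281063 : act 1 n163879 = n180576 := d15_0 (iv0 D180576) F132203 D163879
def n180577 : Q := act 1 n86246
theorem D180577 : act 1 n86246 = n180577 := rfl
def n180578 : Q := act 2 n86246
theorem D180578 : act 2 n86246 = n180578 := rfl
theorem F281064 : act 3 n180578 = n163889 := d0_2 D86246 D180578 (iv2 D163889) (iv3 D78726) (iv2 F132021)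
theorem F281065 : act 7 n180578 = n163879 := d4_2 (iv7 F132203) D180578 (iv2 D163879)
theorem F281066 : act 1 n180578 = n163877 := d15_0 (iv0 D163877) (iv7 F132203) D180578
theorem F281067 : act 1 n180577 = n163879 := d15_1 D180577 (iv7 F281065) (iv2 D180578)
def n180579 : Q := act 5 n86246
theorem D180579 : act 5 n86246 = n180579 := rfl
theorem F281069 : act 3 n180579 = n86247 := d6_1 D180579 (iv5 D86247) D86246
theorem F281070 : act 7 n180579 = n163881 := d13_2 (iv7 F132203) D180579 (iv5 D163881)
def n180580 : Q := act 4 n86247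
theorem D180580 : act 4 n86247 = n180580 := rfl
theorem F281071 : act 2 n180580 = n163893 := d1_1 D180580 (iv4 D163893) (iv2 F132204)
theorem F281072 : act 5 n180580 = n163224 := d9_2 D86247 D180580 (iv4 D163224) (iv5 F132199) (iv4 D86240) (iv5 D39910) D39909 D86238 D180570 F281055 (iv4 D163227) (iv5 F119863) F119862 (iv5 D39915) D39914
def n180581 : Q := act 6 n86247
theorem D180581 : act 6 n86247 = n180581 := rfl
theorem F281074 : act 2 n180581 = n163894 := d3_1 D180581 (iv6 D163894) (iv2 F132204)
theorem F281075 : act 0 n166425 = n180581 := d21_4 F88980 (iv1 F88899) (iv5 F122649) D166425 (iv6 D180581) (iv5 D86247) F88494 D39923 F60742 D56256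
def n180582 : Q := act 5 n86258
theorem D180582 : act 5 n86258 = n180582 := rfl
theorem F281078 : act 7 n180582 = n120993 := d13_2 (iv7 F132209) D180582 (iv5 D120993)
def n180583 : Q := act 6 n86258
theorem D180583 : act 6 n86258 = n180583 := rfl
theorem F281081 : act 2 n180583 = n86263 := d3_1 D180583 (iv6 D86263) (iv2 F132208)
theorem F281082 : act 4 n180583 = n86259 := d10_1 D180583 (iv6 D86259) D86258
def n180584 : Q := act 0 n86259
theorem D180584 : act 0 n86259 = n180584 := rfl
def n180585 : Q := act 1 n86259
theorem D180585 : act 1 n86259 = n180585 := rfl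
theorem F281083 : act 1 n180585 = n86267 := d15_1 D180585 (iv7 D86267) (iv2 F132212)
def n180586 : Q := act 5 n86259
theorem D180586 : act 5 n86259 = n180586 := rfl
theorem F281084 : act 2 n180586 = n86266 := d2_1 D180586 (iv5 D86266) (iv2 F132212)
theorem F281085 : act 3 n180586 = n163680 := d6_1 D180586 (iv5 D163680) (iv3 F132213)
theorem F281086 : act 6 n180586 = n121740 := d12_2 D86259 D180586 (iv5 D121740) F88977 (iv5 F60732)
theorem F281087 : act 0 n166484 = n180586 := d21_7 F254385 F254377 F28295 (iv6 F28557) D36402 D79917 D166484 (iv5 D180586) (iv6 D86259) (iv1 F60736)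
def n180587 : Q := act 7 n86259
theorem D180587 : act 7 n86259 = n180587 := rfl
theorem F281088 : act 2 n180587 = n86267 := d4_1 D180587 (iv7 D86267) (iv2 F132212)
theorem F281090 : act 6 n180587 = n121086 := d14_1 D180587 F193122 F88381 (iv7 F60733) D86259
theorem F281091 : act 1 n86267 = n180584 := d15_0 (iv0 D180584) D180587 F281088
def n180588 : Q := act 3 n86260
theorem D180588 : act 3 n86260 = n180588 := rfl
theorem F281094 : act 4 n180588 = n160264 := d5_2 F256612 D180588 (iv3 F256581) F256579 (iv3 F256611)
theorem F281095 : act 7 n180588 = n120984 := d8_2 (iv7 F256569) D180588 (iv3 D120984)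
def n180589 : Q := act 6 n86260
theorem D180589 : act 6 n86260 = n180589 := rfl
theorem F281096 : act 2 n180589 = n120992 := d3_1 D180589 (iv6 D120992) (iv2 F256568)
def n180590 : Q := act 3 n86261
theorem D180590 : act 3 n86261 = n180590 := rfl
theorem F281097 : act 4 n180590 = n157825 := d5_2 F132216 D180590 (iv3 D157825) (iv4 D75190) D75189
theorem F281098 : act 7 n180590 = n120989 := d8_2 (iv7 F256567) D180590 (iv3 D120989)
def n180591 : Q := act 6 n86261
theorem D180591 : act 6 n86261 = n180591 := rfl
theorem F281099 : act 2 n180591 = n120987 := d3_1 D180591 (iv6 D120987) (iv2 F256566)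
theorem F281100 : act 4 n180591 = n157822 := d10_1 D180591 (iv6 D157822) F132216
def n180592 : Q := act 4 n86262
theorem D180592 : act 4 n86262 = n180592 := rfl
theorem F281102 : act 7 n180592 = n120996 := d11_2 (iv7 F132218) D180592 (iv4 D120996)
theorem F281103 : act 0 n180592 = n166755 := d18_2 (iv1 F194357) D180592 (iv4 D166755) (iv5 D80041) (iv4 D36450) (iv0 D17598) (iv4 F28519) D36284 D79687
theorem F281104 : act 1 n180592 = n166788 := d18_6 F254302 (iv4 D78679) F248740 D39919 D86262 D180592 (iv4 D166788) F262495 F262494
theorem F281105 : act 0 n165718 = n166786 := d20_4 (iv4 F88827) (iv1 F122951) F122948 (iv3 F261071) F262515 D166788 (iv1 F281104) (iv4 D180592) F132217 (iv1 F88281)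
def n180594 : Q := act 0 n86263
theorem D180594 : act 0 n86263 = n180594 := rfl
def n180595 : Q := act 1 n86263
theorem D180595 : act 1 n86263 = n180595 := rfl
def n180596 : Q := act 5 n86263
theorem D180596 : act 5 n86263 = n180596 := rfl
theorem F281107 : act 3 n180596 = n121010 := d6_1 D180596 (iv5 D121010) (iv3 F132219)
def n180597 : Q := act 7 n86263
theorem D180597 : act 7 n86263 = n180597 := rfl
theorem F281108 : act 3 n180597 = n120932 := d8_1 D180597 F192844 (iv3 F132219)
theorem F281109 : act 4 n180597 = n86267 := d11_1 D180597 (iv7 D86267) (iv4 F132220)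
def n180598 : Q := act 2 n86264
theorem D180598 : act 2 n86264 = n180598 := rfl
theorem F281111 : act 7 n86265 = n180598 := d15_2 (iv0 D86264) D86265 (iv2 D180598)
def n180599 : Q := act 3 n86264
theorem D180599 : act 3 n86264 = n180599 := rfl
def n180600 : Q := act 4 n86264
theorem D180600 : act 4 n86264 = n180600 := rfl
def n180601 : Q := act 5 n86264
theorem D180601 : act 5 n86264 = n180601 := rfl
def n180602 : Q := act 6 n86264
theorem D180602 : act 6 n86264 = n180602 := rfl
def n180603 : Q := act 7 n86264
theorem D180603 : act 7 n86264 = n180603 := rfl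
theorem F281112 : act 2 n180603 = n86265 := d4_1 D180603 F281111 (iv2 D180598)
def n180604 : Q := act 3 n86265
theorem D180604 : act 3 n86265 = n180604 := rfl
def n180605 : Q := act 4 n86265
theorem D180605 : act 4 n86265 = n180605 := rfl
def n180606 : Q := act 5 n86265
theorem D180606 : act 5 n86265 = n180606 := rfl
def n180607 : Q := act 6 n86265
theorem D180607 : act 6 n86265 = n180607 := rfl
def n180608 : Q := act 0 n86266
theorem D180608 : act 0 n86266 = n180608 := rfl
def n180609 : Q := act 1 n86266
theorem D180609 : act 1 n86266 = n180609 := rfl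
theorem F281113 : act 5 n166506 = n180609 := d21_6 (iv5 D35828) D35824 F56488 (iv6 F57148) D79923 D166506 (iv1 D180609) (iv5 D86266) (iv6 D39920) F248739
def n180610 : Q := act 4 n86266
theorem D180610 : act 4 n86266 = n180610 := rfl
theorem F281114 : act 6 n180610 = n121743 := d10_2 (iv6 F132222) D180610 (iv4 D121743)
def n180611 : Q := act 7 n86266
theorem D180611 : act 7 n86266 = n180611 := rfl
theorem F281115 : act 3 n180611 = n86271 := d8_1 D180611 (iv7 D86271) (iv3 F132221)
theorem F281116 : act 5 n180611 = n86267 := d13_1 D180611 (iv7 D86267) D86266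
theorem F281117 : act 1 n166484 = n180611 := d15_1 (iv0 F281087) (iv7 D180611) (iv2 F281084)
def n180612 : Q := act 3 n86268
theorem D180612 : act 3 n86268 = n180612 := rfl
theorem F281119 : act 7 n180612 = n163899 := d8_2 F132226 D180612 (iv3 D163899)
def n180613 : Q := act 6 n86268
theorem D180613 : act 6 n86268 = n180613 := rfl
def n180614 : Q := act 3 n86269
theorem D180614 : act 3 n86269 = n180614 := rfl
theorem F281122 : act 5 n180614 = n121716 := d6_2 F132231 D180614 F194268
theorem F281123 : act 7 n180614 = n163896 := d8_2 (iv7 F132230) D180614 (iv3 D163896)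
def n180618 : Q := act 7 n86270
theorem D180618 : act 7 n86270 = n180618 := rfl
theorem F281134 : act 4 n180618 = n86271 := d11_1 D180618 (iv7 D86271) D86270
theorem F281136 : act 6 n180618 = n155052 := d14_1 D180618 (iv7 D155052) (iv6 D73591) F88990 (iv6 F132234)
def n180619 : Q := act 6 n86271
theorem D180619 : act 6 n86271 = n180619 := rfl
theorem F281139 : act 2 n180619 = n163232 := d3_1 D180619 F257504 (iv2 F132235)
theorem F281140 : act 4 n180619 = n155052 := d10_1 D180619 (iv6 F281136) F281134
theorem F281141 : act 5 n180619 = n121114 := d12_1 D180619 (iv6 D121114) F88399 (iv6 F60745) (iv5 F132236)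
theorem F281142 : act 7 n180619 = n121750 := d14_2 D86271 D180619 (iv6 D121750) (iv7 D56259) (iv6 F60742)
theorem F281143 : act 1 n166552 = n180619 := d15_1 D166552 F281142 F194315
theorem F281144 : act 1 n180619 = n166551 := d15_0 (iv0 D166551) (iv7 F257505) (iv2 F281139)
def n180620 : Q := act 6 n86279
theorem D180620 : act 6 n86279 = n180620 := rfl
theorem F281145 : act 2 n180620 = n121214 := d3_1 D180620 (iv6 D121214) (iv2 F254355)
def n180621 : Q := act 5 n86280
theorem D180621 : act 5 n86280 = n180621 := rfl
theorem F281146 : act 2 n180621 = n86281 := d2_1 D180621 (iv5 D86281) D86280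
theorem F281147 : act 3 n180621 = n163690 := d6_1 D180621 (iv5 D163690) (iv3 F254291)
theorem F281148 : act 7 n180621 = n121779 := d13_2 (iv7 F254293) D180621 F254301
theorem F281149 : act 4 n180621 = n121140 := d17_4 (iv1 F254382) F254383 (iv1 F254290) D180621 (iv5 F257591) (iv0 D160903) (iv5 D77211) D77209 (iv4 F115964)
theorem F281150 : act 1 n180621 = n121232 := d17_6 (iv1 D78552) D78554 D163462 F262194 (iv4 F254292) D180621 (iv5 F256347) F258183 F141802
theorem F281151 : act 0 n180621 = n121781 := d18_0 (iv4 F258254) (iv1 D163325) (iv4 D78493) (iv5 F254082) D79976 D166632 (iv4 F262244) (iv0 F254289) D180621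
theorem F281152 : act 3 n163325 = n160854 := d20_3 (iv4 F281149) F281151 (iv4 F258254) (iv1 D160854) (iv3 D77192) (iv4 D35237) F28048 D26963 D55898 D121140
def n180622 : Q := act 6 n86280
theorem D180622 : act 6 n86280 = n180622 := rfl
theorem F281153 : act 2 n180622 = n86282 := d3_1 D180622 (iv6 D86282) D86280
theorem F281154 : act 3 n180622 = n163691 := d7_1 D180622 (iv6 D163691) (iv3 F254291)
theorem F281155 : act 4 n180622 = n163601 := d10_1 D180622 (iv6 D163601) (iv4 F254292)
def n180623 : Q := act 1 n86281
theorem D180623 : act 1 n86281 = n180623 := rfl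
theorem F281156 : act 1 n180623 = n121779 := d15_1 D180623 (iv7 F281148) F281146
theorem F281157 : act 7 n180623 = n121781 := d15_2 (iv0 F254307) D180623 (iv2 D121781)
theorem F281158 : act 5 n180623 = n163815 := d17_7 (iv1 F140953) D163460 (iv1 F262196) (iv5 D166600) (iv4 F122740) D86281 D180623 F258192 F140954
theorem F281159 : act 3 n121759 = n180623 := d20_3 (iv4 F60670) D86137 F258237 (iv1 D180623) F132247 D86292 (iv1 F280701) (iv4 D180373) (iv3 D86148) (iv1 D39874)
theorem F281160 : act 2 n180623 = n121232 := d0_1 F281159 (iv3 D121232) (iv2 F258201) D56261 D121759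
def n180624 : Q := act 6 n86281
theorem D180624 : act 6 n86281 = n180624 := rfl
theorem F281161 : act 3 n180624 = n86293 := d7_1 D180624 (iv6 D86293) (iv3 F132247)
theorem F281162 : act 4 n180624 = n163277 := d10_1 D180624 (iv6 D163277) (iv4 F254085)
def n180625 : Q := act 0 n86282
theorem D180625 : act 0 n86282 = n180625 := rfl
def n180626 : Q := act 1 n86282
theorem D180626 : act 1 n86282 = n180626 := rfl
def n180627 : Q := act 5 n86282
theorem D180627 : act 5 n86282 = n180627 := rfl
theorem F281163 : act 3 n180627 = n86297 := d6_1 D180627 (iv5 D86297) (iv3 F132248)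
def n180628 : Q := act 7 n86282
theorem D180628 : act 7 n86282 = n180628 := rfl
theorem F281164 : act 3 n180628 = n86298 := d8_1 D180628 (iv7 D86298) (iv3 F132248)
def n180629 : Q := act 3 n86284
theorem D180629 : act 3 n86284 = n180629 := rfl
theorem F281165 : act 4 n180629 = n170849 := d5_2 (iv4 F132250) D180629 F268457 (iv4 D86220) D86219
def n180630 : Q := act 5 n86284
theorem D180630 : act 5 n86284 = n180630 := rfl
def n180631 : Q := act 6 n86284
theorem D180631 : act 6 n86284 = n180631 := rfl
theorem F281166 : act 4 n180631 = n180532 := d10_1 D180631 (iv6 D180532) (iv4 F132250)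
def n180632 : Q := act 5 n86285
theorem D180632 : act 5 n86285 = n180632 := rfl
def n180633 : Q := act 6 n86285
theorem D180633 : act 6 n86285 = n180633 := rfl
def n180634 : Q := act 1 n86286
theorem D180634 : act 1 n86286 = n180634 := rfl
theorem F281167 : act 4 n166562 = n180634 := d20_0 (iv1 D180634) (iv4 F262188) (iv3 D166599) (iv1 D79958) (iv3 D36421) (iv4 D17586) D17584 D36414 D79942 D166562
def n180635 : Q := act 2 n86286
theorem D180635 : act 2 n86286 = n180635 := rfl
def n180636 : Q := act 5 n86286
theorem D180636 : act 5 n86286 = n180636 := rfl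
theorem F281168 : act 3 n180636 = n86287 := d6_1 D180636 (iv5 D86287) D86286
def n180637 : Q := act 6 n86286
theorem D180637 : act 6 n86286 = n180637 := rfl
theorem F281169 : act 3 n180637 = n86288 := d7_1 D180637 (iv6 D86288) D86286
def n180638 : Q := act 0 n86287
theorem D180638 : act 0 n86287 = n180638 := rfl
theorem F281170 : act 5 n180638 = n157971 := d17_3 (iv1 D86285) D86287 D180638 (iv4 D157971) (iv5 F256339) F257967 F250800 D166716 F262424
theorem F281171 : act 1 n86307 = n180638 := d15_0 (iv0 D180638) (iv7 F254474) F254481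
def n180639 : Q := act 1 n86287
theorem D180639 : act 1 n86287 = n180639 := rfl
theorem F281172 : act 1 n180639 = n86307 := d15_1 D180639 F254480 F254475
theorem F281173 : act 5 n180639 = n164129 := d17_7 (iv1 D35895) (iv5 F43547) F254087 (iv5 D39928) D39927 D86287 D180639 F258682 (iv4 D78855)
theorem F281174 : act 3 n176750 = n180639 := d6_3 F281173 (iv3 F261358) D176750
def n180640 : Q := act 4 n86287
theorem D180640 : act 4 n86287 = n180640 := rfl
theorem F281175 : act 1 n180640 = n164096 := d18_6 (iv1 D38881) F29656 D18882 D39927 D86287 D180640 (iv4 D164096) F254091 (iv5 D84324)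
def n180641 : Q := act 6 n86287
theorem D180641 : act 6 n86287 = n180641 := rfl
def n180642 : Q := act 0 n86288
theorem D180642 : act 0 n86288 = n180642 := rfl
def n180643 : Q := act 1 n86288
theorem D180643 : act 1 n86288 = n180643 := rfl
def n180644 : Q := act 5 n86288
theorem D180644 : act 5 n86288 = n180644 := rfl
def n180645 : Q := act 7 n86288
theorem D180645 : act 7 n86288 = n180645 := rfl
theorem F281176 : act 4 n180645 = n86298 := d11_1 D180645 (iv7 D86298) (iv4 F132252)
def n180646 : Q := act 1 n86292
theorem D180646 : act 1 n86292 = n180646 := rfl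
theorem F281177 : act 1 n180646 = n86309 := d15_1 D180646 F254477 F254471
theorem F281178 : act 7 n180646 = n164001 := d15_2 F280701 D180646 (iv2 F280698)
theorem F281179 : act 4 n180646 = n163499 := d18_7 (iv1 F262419) F262424 (iv1 D86285) (iv4 D39927) D39928 D86292 D180646 (iv0 F258429) F258422
theorem F281180 : act 2 n164000 = n180646 := d1_3 F281179 F261299 (iv4 F258465)
theorem F281181 : act 3 n124243 = n180646 := d5_5 F281179 (iv3 F257779) (iv4 D79681) D79680 F198742
def n180647 : Q := act 3 n86292
theorem D180647 : act 3 n86292 = n180647 := rfl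
theorem F281182 : act 4 n180647 = n163275 := d5_2 D86292 D180647 (iv3 D163275) (iv4 F254085) F132247
theorem F281183 : act 7 n180647 = n164002 := d8_2 F254470 D180647 (iv3 D164002)
def n180648 : Q := act 5 n86292
theorem D180648 : act 5 n86292 = n180648 := rfl
theorem F281184 : act 2 n180648 = n164011 := d2_1 D180648 (iv5 D164011) F254471
theorem F281185 : act 7 n180648 = n164003 := d13_2 F254470 D180648 (iv5 D164003)
def n180649 : Q := act 6 n86292
theorem D180649 : act 6 n86292 = n180649 := rfl
theorem F281186 : act 2 n180649 = n164012 := d3_1 D180649 (iv6 D164012) F254471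
theorem F281187 : act 4 n180649 = n86293 := d10_1 D180649 (iv6 D86293) D86292
def n180650 : Q := act 0 n86293
theorem D180650 : act 0 n86293 = n180650 := rfl
def n180651 : Q := act 1 n86293
theorem D180651 : act 1 n86293 = n180651 := rfl
theorem F281188 : act 1 n180651 = n164016 := d15_1 D180651 (iv7 D164016) F254472
def n180652 : Q := act 5 n86293
theorem D180652 : act 5 n86293 = n180652 := rfl
theorem F281189 : act 2 n180652 = n164015 := d2_1 D180652 (iv5 D164015) F254472
theorem F281190 : act 6 n180652 = n86297 := d12_2 D86293 D180652 (iv5 D86297) (iv6 D39929) D39928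
def n180653 : Q := act 7 n86293
theorem D180653 : act 7 n86293 = n180653 := rfl
theorem F281191 : act 2 n180653 = n164016 := d4_1 D180653 (iv7 D164016) F254472
theorem F281192 : act 6 n180653 = n164008 := d14_1 D180653 (iv7 D164008) (iv6 D78793) (iv7 F254287) D86293
theorem F281193 : act 1 n164016 = n180650 := d15_0 (iv0 D180650) D180653 F281191
theorem F281194 : act 1 n164014 = n180653 := d15_1 D164014 (iv7 D180653) (iv2 F254472)
theorem F281195 : act 1 n180653 = n164013 := d15_0 (iv0 D164013) D164016 (iv2 F281191)
def n180654 : Q := act 2 n86295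
theorem D180654 : act 2 n86295 = n180654 := rfl
def n180655 : Q := act 3 n86295
theorem D180655 : act 3 n86295 = n180655 := rfl
def n180656 : Q := act 4 n86295
theorem D180656 : act 4 n86295 = n180656 := rfl
def n180657 : Q := act 5 n86295
theorem D180657 : act 5 n86295 = n180657 := rfl
def n180658 : Q := act 6 n86295
theorem D180658 : act 6 n86295 = n180658 := rfl
def n180659 : Q := act 7 n86295
theorem D180659 : act 7 n86295 = n180659 := rfl
def n180664 : Q := act 0 n86297
theorem D180664 : act 0 n86297 = n180664 := rfl
def n180665 : Q := act 1 n86297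
theorem D180665 : act 1 n86297 = n180665 := rfl
def n180666 : Q := act 4 n86297
theorem D180666 : act 4 n86297 = n180666 := rfl
def n180667 : Q := act 7 n86297
theorem D180667 : act 7 n86297 = n180667 := rfl
theorem F281198 : act 5 n180667 = n86298 := d13_1 D180667 (iv7 D86298) D86297
def n180668 : Q := act 6 n86300
theorem D180668 : act 6 n86300 = n180668 := rfl
theorem F281199 : act 2 n180668 = n163701 := d3_1 D180668 (iv6 D163701) (iv2 F254406)
theorem F281200 : act 3 n180668 = n163751 := d7_1 D180668 (iv6 D163751) F254417
def n180669 : Q := act 4 n86302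
theorem D180669 : act 4 n86302 = n180669 := rfl
theorem F281201 : act 2 n180669 = n86303 := d1_1 D180669 (iv4 D86303) D86302
theorem F281202 : act 3 n180669 = n96677 := d5_1 D180669 (iv4 F262182) (iv3 D166596) (iv4 F254299) F254314
theorem F281203 : act 7 n180669 = n157824 := d11_2 (iv7 F254316) D180669 (iv4 F254261)
theorem F281204 : act 1 n180669 = n125400 := d18_6 (iv1 F60693) D75244 (iv1 F248848) (iv4 F256633) (iv5 F254313) D180669 (iv4 D125400) F92787 (iv5 F60689)
theorem F281205 : act 0 n180669 = n125395 := d20_1 D180669 (iv4 D125395) (iv3 F192946) F256571 (iv3 D77255) D77256 (iv1 F254191) F254409 (iv3 F254401) (iv1 F254407)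
def n180670 : Q := act 6 n86302
theorem D180670 : act 6 n86302 = n180670 := rfl
theorem F281206 : act 2 n180670 = n86305 := d3_1 D180670 (iv6 D86305) D86302
def n180671 : Q := act 3 n86303
theorem D180671 : act 3 n86303 = n180671 := rfl
theorem F281207 : act 4 n180671 = n86306 := d5_2 D86303 D180671 (iv3 D86306) (iv4 D39932) D39931
def n180672 : Q := act 5 n86303
theorem D180672 : act 5 n86303 = n180672 := rfl
def n180673 : Q := act 6 n86303
theorem D180673 : act 6 n86303 = n180673 := rfl
theorem F281208 : act 4 n180673 = n86305 := d10_1 D180673 (iv6 D86305) D86303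
def n180674 : Q := act 6 n86304
theorem D180674 : act 6 n86304 = n180674 := rfl
theorem F281209 : act 2 n180674 = n166734 := d3_1 D180674 (iv6 D166734) F254304
theorem F281210 : act 3 n180674 = n86310 := d7_1 D180674 (iv6 D86310) (iv3 F132262)
def n180675 : Q := act 0 n86305
theorem D180675 : act 0 n86305 = n180675 := rfl
def n180676 : Q := act 1 n86305
theorem D180676 : act 1 n86305 = n180676 := rfl
def n180677 : Q := act 5 n86305
theorem D180677 : act 5 n86305 = n180677 := rfl
theorem F281211 : act 3 n180677 = n86313 := d6_1 D180677 (iv5 D86313) (iv3 F132263)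
def n180678 : Q := act 7 n86305
theorem D180678 : act 7 n86305 = n180678 := rfl
theorem F281212 : act 3 n180678 = n86314 := d8_1 D180678 (iv7 D86314) (iv3 F132263)
def n180679 : Q := act 2 n86306
theorem D180679 : act 2 n86306 = n180679 := rfl
def n180680 : Q := act 5 n86306
theorem D180680 : act 5 n86306 = n180680 := rfl
theorem F281213 : act 3 n180680 = n86307 := d6_1 D180680 (iv5 D86307) D86306
def n180681 : Q := act 6 n86306
theorem D180681 : act 6 n86306 = n180681 := rfl
theorem F281214 : act 3 n180681 = n86308 := d7_1 D180681 (iv6 D86308) D86306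
def n180682 : Q := act 4 n86307
theorem D180682 : act 4 n86307 = n180682 := rfl
theorem F281215 : act 0 n180682 = n164096 := d18_2 (iv1 F281171) D180682 (iv4 D164096) (iv5 D78835) F56552 D35895 D78855 F254448 (iv5 F281170)
theorem F281216 : act 0 n176719 = n180680 := d20_4 F59903 (iv1 F63863) (iv4 F129326) (iv3 F276097) F281213 D180682 F281215 (iv4 D164096) F120004 (iv1 F59904)
def n180683 : Q := act 6 n86307
theorem D180683 : act 6 n86307 = n180683 := rfl
def n180684 : Q := act 0 n86308
theorem D180684 : act 0 n86308 = n180684 := rfl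
def n180685 : Q := act 1 n86308
theorem D180685 : act 1 n86308 = n180685 := rfl
def n180686 : Q := act 5 n86308
theorem D180686 : act 5 n86308 = n180686 := rfl
def n180687 : Q := act 7 n86308
theorem D180687 : act 7 n86308 = n180687 := rfl
theorem F281217 : act 4 n180687 = n86314 := d11_1 D180687 (iv7 D86314) (iv4 F132264)
def n180688 : Q := act 3 n86309
theorem D180688 : act 3 n86309 = n180688 := rfl
theorem F281218 : act 7 n180688 = n164010 := d8_2 (iv7 F254477) D180688 (iv3 D164010)
theorem F281219 : act 0 n124230 = n180688 := d20_4 F88527 (iv1 F87593) (iv4 F91643) D124230 (iv3 D180688) (iv4 D86309) F254088 (iv4 F88531) (iv3 D55945) D55944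
def n180689 : Q := act 5 n86309
theorem D180689 : act 5 n86309 = n180689 := rfl
theorem F281220 : act 2 n180689 = n164003 := d2_1 D180689 (iv5 D164003) F254478
theorem F281221 : act 7 n180689 = n164011 := d13_2 (iv7 F254477) D180689 (iv5 D164011)
def n180690 : Q := act 6 n86309
theorem D180690 : act 6 n86309 = n180690 := rfl
theorem F281222 : act 2 n180690 = n164004 := d3_1 D180690 (iv6 D164004) F254478
theorem F281223 : act 4 n180690 = n86310 := d10_1 D180690 (iv6 D86310) D86309
def n180691 : Q := act 0 n86310
theorem D180691 : act 0 n86310 = n180691 := rfl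
def n180692 : Q := act 1 n86310
theorem D180692 : act 1 n86310 = n180692 := rfl
def n180693 : Q := act 5 n86310
theorem D180693 : act 5 n86310 = n180693 := rfl
theorem F281225 : act 2 n180693 = n164007 := d2_1 D180693 (iv5 D164007) (iv2 F254489)
theorem F281226 : act 6 n180693 = n86313 := d12_2 D86310 D180693 (iv5 D86313) (iv6 D39934) D39933
def n180694 : Q := act 7 n86310
theorem D180694 : act 7 n86310 = n180694 := rfl
theorem F281227 : act 2 n180694 = n164008 := d4_1 D180694 (iv7 D164008) (iv2 F254489)
theorem F281228 : act 6 n180694 = n164016 := d14_1 D180694 (iv7 D164016) (iv6 D78798) F254282 D86310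
theorem F281229 : act 1 n164008 = n180691 := d15_0 (iv0 D180691) D180694 F281227
theorem F281231 : act 1 n180694 = n164005 := d15_0 (iv0 D164005) D164008 (iv2 F281227)
def n180695 : Q := act 2 n86311
theorem D180695 : act 2 n86311 = n180695 := rfl
theorem F281232 : act 7 n86312 = n180695 := d15_2 (iv0 D86311) D86312 (iv2 D180695)
def n180700 : Q := act 7 n86311
theorem D180700 : act 7 n86311 = n180700 := rfl
theorem F281233 : act 2 n180700 = n86312 := d4_1 D180700 F281232 (iv2 D180695)
def n180701 : Q := act 3 n86312
theorem D180701 : act 3 n86312 = n180701 := rfl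
def n180702 : Q := act 4 n86312
theorem D180702 : act 4 n86312 = n180702 := rfl
def n180703 : Q := act 5 n86312
theorem D180703 : act 5 n86312 = n180703 := rfl
def n180704 : Q := act 6 n86312
theorem D180704 : act 6 n86312 = n180704 := rfl
def n180705 : Q := act 0 n86313
theorem D180705 : act 0 n86313 = n180705 := rfl
def n180706 : Q := act 1 n86313
theorem D180706 : act 1 n86313 = n180706 := rfl
def n180707 : Q := act 4 n86313
theorem D180707 : act 4 n86313 = n180707 := rfl
def n180708 : Q := act 7 n86313
theorem D180708 : act 7 n86313 = n180708 := rfl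
theorem F281234 : act 5 n180708 = n86314 := d13_1 D180708 (iv7 D86314) D86313
def n180710 : Q := act 5 n86315
theorem D180710 : act 5 n86315 = n180710 := rfl
theorem F281239 : act 2 n180710 = n86336 := d2_1 D180710 (iv5 D86336) (iv2 F132265)
theorem F281240 : act 7 n180710 = n86339 := d13_2 (iv7 F132267) D180710 (iv5 D86339)
def n180712 : Q := act 6 n86317
theorem D180712 : act 6 n86317 = n180712 := rfl
theorem F281244 : act 2 n180712 = n86318 := d3_1 D180712 (iv6 D86318) D86317
theorem F281245 : act 3 n180712 = n160623 := d7_1 D180712 (iv6 D160623) (iv3 F132276)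
theorem F281246 : act 4 n180712 = n123047 := d10_1 D180712 (iv6 D123047) (iv4 F132277)
theorem F281247 : act 7 n162699 = n180712 := d4_0 F281244 (iv7 F132285) D162699
theorem F281248 : act 1 n180712 = n162697 := d15_0 (iv0 D162697) F132285 (iv2 F281244)
theorem F281249 : act 1 n162698 = n180712 := d15_1 D162698 (iv7 F281247) (iv2 D162699)
def n180713 : Q := act 0 n86318
theorem D180713 : act 0 n86318 = n180713 := rfl
theorem F281250 : act 3 n180713 = n173927 := d20_5 (iv4 D26941) F121249 (iv4 F60766) (iv3 F132283) D180713 (iv4 D173927) (iv1 F128234) (iv4 F128112) F128111 F117749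
def n180716 : Q := act 0 n86319
theorem D180716 : act 0 n86319 = n180716 := rfl
def n180718 : Q := act 5 n86319
theorem D180718 : act 5 n86319 = n180718 := rfl
theorem F281256 : act 2 n180718 = n160631 := d2_1 D180718 (iv5 D160631) (iv2 F132286)
theorem F281257 : act 6 n180718 = n86320 := d12_2 D86319 D180718 (iv5 D86320) (iv6 D39940) D39939
def n180719 : Q := act 7 n86319
theorem D180719 : act 7 n86319 = n180719 := rfl
theorem F281258 : act 2 n180719 = n160632 := d4_1 D180719 (iv7 D160632) (iv2 F132286)
theorem F281260 : act 6 n180719 = n160597 := d14_1 D180719 (iv7 D160597) (iv6 D76996) (iv7 F60763) D86319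
theorem F281261 : act 1 n160632 = n180716 := d15_0 (iv0 D180716) D180719 F281258
theorem F281263 : act 1 n180719 = n160629 := d15_0 (iv0 D160629) D160632 (iv2 F281258)
def n180720 : Q := act 0 n86320
theorem D180720 : act 0 n86320 = n180720 := rfl
theorem F281265 : act 4 n180720 = n173810 := d18_1 D180720 (iv1 F272402) (iv4 D162717) (iv5 D78192) F118590 F59128 D38261 (iv0 F121253) D86320
def n180721 : Q := act 1 n86320
theorem D180721 : act 1 n86320 = n180721 := rfl
theorem F281271 : act 5 n180721 = n160702 := d17_7 (iv1 D56556) (iv5 F43975) (iv1 F120873) F57223 (iv4 F60766) D86320 D180721 (iv0 F253845) (iv4 D122189)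
theorem F281273 : act 4 n173811 = n180721 := d18_3 (iv1 F128127) D162717 (iv1 F272398) F281271 F253844 F272443 F272439 (iv0 D162991) (iv5 F128123)
def n180723 : Q := act 6 n86321
theorem D180723 : act 6 n86321 = n180723 := rfl
theorem F281277 : act 3 n180723 = n175172 := d7_1 D180723 (iv6 D175172) (iv3 F132290)
theorem F281278 : act 4 n180723 = n175179 := d10_1 D180723 (iv6 D175179) (iv4 F132291)
theorem F281279 : act 0 n86338 = n180723 := d20_4 (iv4 F128049) (iv1 F60758) D39959 D86338 F281277 F274199 (iv1 F274205) (iv4 F128994) (iv3 D84039) (iv1 F128047)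
theorem F281280 : act 4 n175180 = n119222 := d20_0 (iv1 F187602) (iv4 F117108) (iv3 D39510) (iv1 F116754) D81538 (iv4 F132325) F281279 F281278 F274220 D175180
def n180724 : Q := act 6 n86322
theorem D180724 : act 6 n86322 = n180724 := rfl
def n180726 : Q := act 0 n86324
theorem D180726 : act 0 n86324 = n180726 := rfl
theorem F281302 : act 2 n166193 = n180726 := d15_3 (iv0 D180726) (iv0 F206193) (iv7 F261672)
def n180728 : Q := act 0 n86325
theorem D180728 : act 0 n86325 = n180728 := rfl
def n180729 : Q := act 1 n86325
theorem D180729 : act 1 n86325 = n180729 := rfl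
theorem F281307 : act 1 n180729 = n160597 := d15_1 D180729 (iv7 D160597) (iv2 F132305)
def n180730 : Q := act 5 n86325
theorem D180730 : act 5 n86325 = n180730 := rfl
def n180731 : Q := act 7 n86325
theorem D180731 : act 7 n86325 = n180731 := rfl
theorem F281310 : act 2 n180731 = n160597 := d4_1 D180731 (iv7 D160597) (iv2 F132305)
theorem F281311 : act 4 n180731 = n167567 := d11_1 D180731 (iv7 D167567) (iv4 F132306)
theorem F281312 : act 6 n180731 = n160632 := d14_1 D180731 (iv7 D160632) (iv6 D77023) (iv7 F60777) D86325
theorem F281313 : act 1 n160597 = n180728 := d15_0 (iv0 D180728) D180731 F281310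
theorem F281314 : act 1 n160595 = n180731 := d15_1 D160595 (iv7 D180731) F132305
theorem F281315 : act 1 n180731 = n160594 := d15_0 (iv0 D160594) D160597 (iv2 F281310)
def n180733 : Q := act 6 n86326
theorem D180733 : act 6 n86326 = n180733 := rfl
theorem F281322 : act 3 n180733 = n165383 := d7_1 D180733 (iv6 D165383) F132311
theorem F281323 : act 4 n180733 = n123363 := d10_1 D180733 (iv6 D123363) (iv4 F132307)
theorem F281328 : act 0 n165383 = n128324 := d20_4 (iv4 F269146) F269149 (iv4 F281323) F281322 F206446 F94868 D60333 (iv4 F206372) (iv3 F206373) (iv1 F266181)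
def n180736 : Q := act 2 n86328
theorem D180736 : act 2 n86328 = n180736 := rfl
theorem F281335 : act 7 n86329 = n180736 := d15_2 (iv0 D86328) D86329 (iv2 D180736)
def n180737 : Q := act 3 n86328
theorem D180737 : act 3 n86328 = n180737 := rfl
def n180738 : Q := act 4 n86328
theorem D180738 : act 4 n86328 = n180738 := rfl
def n180739 : Q := act 5 n86328
theorem D180739 : act 5 n86328 = n180739 := rfl
def n180740 : Q := act 6 n86328
theorem D180740 : act 6 n86328 = n180740 := rfl
def n180741 : Q := act 7 n86328
theorem D180741 : act 7 n86328 = n180741 := rfl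
theorem F281336 : act 2 n180741 = n86329 := d4_1 D180741 F281335 (iv2 D180736)
def n180742 : Q := act 3 n86329
theorem D180742 : act 3 n86329 = n180742 := rfl
def n180743 : Q := act 4 n86329
theorem D180743 : act 4 n86329 = n180743 := rfl
def n180744 : Q := act 5 n86329
theorem D180744 : act 5 n86329 = n180744 := rfl
def n180745 : Q := act 6 n86329
theorem D180745 : act 6 n86329 = n180745 := rfl
def n180746 : Q := act 0 n86330
theorem D180746 : act 0 n86330 = n180746 := rfl
def n180747 : Q := act 1 n86330
theorem D180747 : act 1 n86330 = n180747 := rfl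
def n180748 : Q := act 4 n86330
theorem D180748 : act 4 n86330 = n180748 := rfl
theorem F281337 : act 6 n180748 = n86334 := d10_2 (iv6 F132314) D180748 (iv4 D86334)
def n180749 : Q := act 7 n86330
theorem D180749 : act 7 n86330 = n180749 := rfl
theorem F281338 : act 5 n180749 = n86331 := d13_1 D180749 (iv7 D86331) D86330
def n180752 : Q := act 6 n86332
theorem D180752 : act 6 n86332 = n180752 := rfl
theorem F281341 : act 5 n180752 = n166225 := d12_1 D180752 (iv6 D166225) D166224 F261718 (iv5 F132316)
def n180757 : Q := act 1 n86334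
theorem D180757 : act 1 n86334 = n180757 := rfl
def n180759 : Q := act 5 n86334
theorem D180759 : act 5 n86334 = n180759 := rfl
def n180760 : Q := act 0 n86335
theorem D180760 : act 0 n86335 = n180760 := rfl
theorem F281355 : act 3 n180760 = n173727 := d20_5 F30144 D18892 D39954 D86335 D180760 (iv4 D173727) (iv1 D83080) (iv4 F128052) (iv3 D83077) F59110
def n180765 : Q := act 1 n86336
theorem D180765 : act 1 n86336 = n180765 := rfl
theorem F281371 : act 1 n180765 = n86339 := d15_1 D180765 (iv7 F281240) F281239
theorem F281373 : act 4 n176230 = n180765 := d18_7 (iv1 F117256) F58661 (iv1 F117226) D18416 D38719 D84049 D176230 F281371 (iv5 D86339)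
def n180768 : Q := act 2 n86338
theorem D180768 : act 2 n86338 = n180768 := rfl
theorem F281375 : act 3 n180768 = n123961 := d0_2 D86338 D180768 F198383 (iv3 F132271) F132270
def n180774 : Q := act 0 n86341
theorem D180774 : act 0 n86341 = n180774 := rfl
theorem F281384 : act 5 n180774 = n161114 := d17_3 (iv1 F116694) D86341 D180774 F254687 (iv5 D84134) (iv0 D38780) (iv5 D18439) D18436 (iv4 F116664)
theorem F281387 : act 1 n86829 = n180774 := d15_0 (iv0 D180774) F132331 (iv2 F133118)
theorem F281388 : act 7 n180774 = n86833 := d15_2 F194867 F281387 (iv2 F194865)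
theorem F281389 : act 6 n161920 = n180774 := d12_0 F281384 F254688 (iv5 D77761) D77762 D161920
def n180776 : Q := act 6 n86341
theorem D180776 : act 6 n86341 = n180776 := rfl
theorem F281394 : act 3 n180776 = n124986 := d7_1 D180776 (iv6 D124986) (iv3 F132330)
def n180777 : Q := act 0 n86342
theorem D180777 : act 0 n86342 = n180777 := rfl
theorem F281395 : act 1 n170837 = n180777 := d15_0 (iv0 D180777) F132333 D170837
def n180778 : Q := act 1 n86342
theorem D180778 : act 1 n86342 = n180778 := rfl
def n180779 : Q := act 2 n86342
theorem D180779 : act 2 n86342 = n180779 := rfl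
theorem F281396 : act 3 n180779 = n86347 := d0_2 D86342 D180779 (iv2 D86347) (iv3 D39969) (iv2 F60812)
theorem F281397 : act 4 n180779 = n157754 := d1_2 (iv4 F132332) D180779 (iv2 D157754)
theorem F281398 : act 7 n180779 = n170837 := d4_2 (iv7 F132333) D180779 (iv2 D170837)
theorem F281399 : act 1 n180779 = n170835 := d15_0 (iv0 D170835) (iv7 F132333) D180779
theorem F281400 : act 1 n180778 = n170837 := d15_1 D180778 (iv7 F281398) (iv2 D180779)
theorem F281401 : act 1 n170836 = n180779 := d15_1 D170836 F281398 (iv2 D170837)
def n180780 : Q := act 0 n86343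
theorem D180780 : act 0 n86343 = n180780 := rfl
theorem F281402 : act 1 n180482 = n180780 := d15_0 (iv0 D180780) F132334 D180482
def n180781 : Q := act 1 n86343
theorem D180781 : act 1 n86343 = n180781 := rfl
def n180782 : Q := act 2 n86343
theorem D180782 : act 2 n86343 = n180782 := rfl
theorem F281403 : act 3 n180782 = n161137 := d0_2 D86343 D180782 (iv2 D161137) (iv3 D77346) F60817
theorem F281404 : act 7 n180782 = n180482 := d4_2 (iv7 F132334) D180782 (iv2 D180482)
theorem F281405 : act 1 n180782 = n180480 := d15_0 (iv0 D180480) (iv7 F132334) D180782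
theorem F281406 : act 1 n180781 = n180482 := d15_1 D180781 (iv7 F281404) (iv2 D180782)
theorem F281407 : act 1 n180481 = n180782 := d15_1 D180481 F281404 (iv2 D180482)
def n180783 : Q := act 6 n86343
theorem D180783 : act 6 n86343 = n180783 := rfl
theorem F281408 : act 3 n180783 = n86344 := d7_1 D180783 (iv6 D86344) D86343
def n180784 : Q := act 5 n86344
theorem D180784 : act 5 n86344 = n180784 := rfl
theorem F281410 : act 0 n180784 = n171056 := d17_2 F132337 D180784 (iv5 D171056) (iv4 D81987) (iv5 D37549) (iv0 D18017) D18019 F124345 D76189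
theorem F281411 : act 1 n180784 = n159230 := d17_6 (iv1 F255334) (iv5 D80481) F114029 D45851 (iv4 F132336) D180784 (iv5 D159230) D159228 (iv4 F255328)
def n180785 : Q := act 3 n86345
theorem D180785 : act 3 n86345 = n180785 := rfl
theorem F281412 : act 4 n180785 = n163411 := d5_2 F254360 D180785 (iv3 F262246) (iv4 F262244) (iv3 F254359)
theorem F281413 : act 7 n180785 = n180483 := d8_2 (iv7 F254362) D180785 (iv3 D180483)
def n180786 : Q := act 6 n86345
theorem D180786 : act 6 n86345 = n180786 := rfl
def n180787 : Q := act 3 n86346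
theorem D180787 : act 3 n86346 = n180787 := rfl
theorem F281415 : act 4 n180787 = n163724 := d5_2 F248737 D180787 (iv3 D163724) (iv4 D78662) (iv3 F119820)
theorem F281416 : act 7 n180787 = n180485 := d8_2 F254397 D180787 (iv3 D180485)
def n180788 : Q := act 6 n86346
theorem D180788 : act 6 n86346 = n180788 := rfl
theorem F281417 : act 2 n180788 = n180484 := d3_1 D180788 (iv6 D180484) (iv2 F254398)
theorem F281418 : act 4 n180788 = n163696 := d10_1 D180788 (iv6 D163696) F248737
def n180789 : Q := act 5 n86347
theorem D180789 : act 5 n86347 = n180789 := rfl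
theorem F281419 : act 2 n180789 = n86348 := d2_1 D180789 (iv5 D86348) D86347
theorem F281420 : act 7 n180789 = n180487 := d13_2 (iv7 F132343) D180789 (iv5 D180487)
theorem F281421 : act 1 n180789 = n157920 := d17_6 D34448 (iv5 F256335) (iv1 F92769) F92767 (iv4 F132342) D180789 (iv5 D157920) (iv0 D75229) F54648
theorem F281422 : act 1 n157924 = n180789 := d15_0 F281421 (iv7 F280775) F280774
def n180790 : Q := act 4 n86348
theorem D180790 : act 4 n86348 = n180790 := rfl
theorem F281423 : act 7 n180790 = n180489 := d11_2 (iv7 F132347) D180790 (iv4 D180489)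
def n180791 : Q := act 6 n86348
theorem D180791 : act 6 n86348 = n180791 := rfl
theorem F281424 : act 3 n180791 = n86349 := d7_1 D180791 (iv6 D86349) (iv3 F132346)
def n180792 : Q := act 0 n86349
theorem D180792 : act 0 n86349 = n180792 := rfl
def n180793 : Q := act 1 n86349
theorem D180793 : act 1 n86349 = n180793 := rfl
def n180794 : Q := act 7 n86349
theorem D180794 : act 7 n86349 = n180794 := rfl
theorem F281425 : act 6 n180794 = n180500 := d14_1 D180794 (iv7 D180500) (iv6 D86199) (iv7 F60822) D86349
def n180795 : Q := act 6 n86351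
theorem D180795 : act 6 n86351 = n180795 := rfl
theorem F281427 : act 3 n180795 = n86354 := d7_1 D180795 (iv6 D86354) D86351
def n180796 : Q := act 1 n86352
theorem D180796 : act 1 n86352 = n180796 := rfl
theorem F281429 : act 1 n180796 = n86357 := d15_1 D180796 F256585 (iv2 F256583)
theorem F281430 : act 7 n180796 = n170869 := d15_2 (iv0 F201728) D180796 (iv2 F268478)
theorem F281431 : act 4 n180796 = n121188 := d18_7 (iv1 F254407) D180669 F281205 (iv4 D125395) F248734 D86352 D180796 F254364 (iv5 F254403)
theorem F281432 : act 2 n160581 = n180796 := d1_3 F281431 F254351 D160581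
theorem F281433 : act 3 n157855 = n180796 := d5_5 F281431 (iv3 F193274) F122821 D166704 F262393
def n180797 : Q := act 3 n86352
theorem D180797 : act 3 n86352 = n180797 := rfl
theorem F281434 : act 4 n180797 = n162396 := d5_2 D86352 D180797 (iv3 D162396) F256558 (iv3 D86351)
def n180798 : Q := act 5 n86352
theorem D180798 : act 5 n86352 = n180798 := rfl
theorem F281438 : act 2 n180798 = n180533 := d2_1 D180798 (iv5 D180533) (iv2 F256583)
theorem F281439 : act 7 n180798 = n180526 := d13_2 F256582 D180798 (iv5 D180526)
def n180799 : Q := act 6 n86352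
theorem D180799 : act 6 n86352 = n180799 := rfl
theorem F281440 : act 2 n180799 = n180534 := d3_1 D180799 (iv6 D180534) (iv2 F256583)
theorem F281441 : act 4 n180799 = n86354 := d10_1 D180799 (iv6 D86354) D86352
def n180800 : Q := act 0 n86354
theorem D180800 : act 0 n86354 = n180800 := rfl
def n180803 : Q := act 7 n86354
theorem D180803 : act 7 n86354 = n180803 := rfl
theorem F281444 : act 2 n180803 = n180538 := d4_1 D180803 (iv7 D180538) F256586
theorem F281445 : act 6 n180803 = n180531 := d14_1 D180803 (iv7 D180531) (iv6 D86217) (iv7 F256544) D86354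
theorem F281446 : act 1 n180538 = n180800 := d15_0 (iv0 D180800) D180803 F281444
def n180804 : Q := act 6 n86356
theorem D180804 : act 6 n86356 = n180804 := rfl
theorem F281449 : act 3 n180804 = n86359 := d7_1 D180804 (iv6 D86359) D86356
def n180805 : Q := act 3 n86357
theorem D180805 : act 3 n86357 = n180805 := rfl
theorem F281450 : act 7 n180805 = n170849 := d8_2 (iv7 F256585) D180805 F268457
theorem F281451 : act 0 n122322 = n180805 := d20_4 F60816 (iv1 F57283) (iv4 F89580) D122322 (iv3 D180805) (iv4 D86357) (iv1 D39972) (iv4 F60820) (iv3 D39969) D39968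
theorem F281452 : act 1 n170851 = n180805 := d15_0 (iv0 F281451) F195602 D170851
def n180806 : Q := act 5 n86357
theorem D180806 : act 5 n86357 = n180806 := rfl
theorem F281453 : act 2 n180806 = n180526 := d2_1 D180806 (iv5 D180526) F256584
theorem F281454 : act 7 n180806 = n180533 := d13_2 (iv7 F256585) D180806 (iv5 D180533)
def n180807 : Q := act 6 n86357
theorem D180807 : act 6 n86357 = n180807 := rfl
theorem F281455 : act 2 n180807 = n180527 := d3_1 D180807 (iv6 D180527) F256584
theorem F281456 : act 4 n180807 = n86359 := d10_1 D180807 (iv6 D86359) D86357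
def n180808 : Q := act 0 n86359
theorem D180808 : act 0 n86359 = n180808 := rfl
def n180809 : Q := act 1 n86359
theorem D180809 : act 1 n86359 = n180809 := rfl
theorem F281457 : act 1 n180809 = n180531 := d15_1 D180809 (iv7 D180531) (iv2 F256587)
def n180810 : Q := act 5 n86359
theorem D180810 : act 5 n86359 = n180810 := rfl
def n180811 : Q := act 7 n86359
theorem D180811 : act 7 n86359 = n180811 := rfl
theorem F281459 : act 2 n180811 = n180531 := d4_1 D180811 (iv7 D180531) (iv2 F256587)
theorem F281460 : act 6 n180811 = n180538 := d14_1 D180811 (iv7 D180538) (iv6 D86222) F256541 D86359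
theorem F281461 : act 1 n180531 = n180808 := d15_0 (iv0 D180808) D180811 F281459
theorem F281463 : act 1 n180811 = n180528 := d15_0 (iv0 D180528) D180531 (iv2 F281459)
def n180812 : Q := act 0 n86360
theorem D180812 : act 0 n86360 = n180812 := rfl
theorem F281464 : act 1 n96678 = n180812 := d15_0 (iv0 D180812) F132352 D96678
def n180813 : Q := act 1 n86360
theorem D180813 : act 1 n86360 = n180813 := rfl
theorem F281465 : act 3 n157824 = n180813 := d20_3 (iv4 F201653) (iv1 F254408) F254261 (iv1 D180813) (iv3 D86360) (iv4 D39975) F30176 D27914 D58710 D125376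
theorem F281466 : act 4 n163599 = n180813 := d20_6 (iv4 D35778) F28273 D17348 D35809 D78606 D163599 (iv1 D180813) (iv4 F254496) (iv3 D160995) (iv1 F116022)
theorem F281467 : act 7 n180813 = n96677 := d11_2 F262181 F281466 (iv4 F262182)
theorem F281468 : act 2 n96677 = n180812 := d15_3 (iv0 D180812) D180813 F281467
theorem F281469 : act 2 n180813 = n96676 := d15_3 (iv0 D96676) D96677 (iv7 F281467)
theorem F281470 : act 7 n96676 = n180812 := d4_2 (iv7 F281467) F281469 (iv2 F281468)
theorem F281471 : act 1 n180813 = n96678 := d15_0 F281464 (iv7 F281470) (iv2 F281469)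
def n180814 : Q := act 2 n86360
theorem D180814 : act 2 n86360 = n180814 := rfl
theorem F281472 : act 3 n180814 = n157749 := d0_2 D86360 D180814 (iv2 D157749) (iv3 D75161) (iv2 F60835)
theorem F281473 : act 6 n180814 = n170245 := d3_2 (iv6 F132351) D180814 (iv2 D170245)
theorem F281474 : act 7 n180814 = n96678 := d4_2 (iv7 F132352) D180814 (iv2 D96678)
theorem F281475 : act 1 n180814 = n96676 := d15_0 (iv0 D96676) (iv7 F132352) D180814
theorem F281476 : act 1 n96677 = n180814 := d15_0 F281475 F281470 (iv2 F281468)
def n180815 : Q := act 5 n86360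
theorem D180815 : act 5 n86360 = n180815 := rfl
theorem F281478 : act 3 n180815 = n86361 := d6_1 D180815 (iv5 D86361) D86360
theorem F281479 : act 7 n180815 = n96679 := d13_2 (iv7 F132352) D180815 (iv5 D96679)
def n180816 : Q := act 6 n86361
theorem D180816 : act 6 n86361 = n180816 := rfl
theorem F281480 : act 2 n180816 = n157751 := d3_1 D180816 (iv6 D157751) (iv2 F132353)
theorem F281482 : act 5 n180816 = n170251 := d12_1 D180816 (iv6 D170251) (iv5 D81649) (iv6 F60836) D86361
def n180817 : Q := act 4 n86362
theorem D180817 : act 4 n86362 = n180817 := rfl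
theorem F281483 : act 2 n180817 = n86456 := d1_1 D180817 (iv4 D86456) (iv2 F133469)
theorem F281484 : act 3 n180817 = n153241 := d5_1 D180817 F240687 F151346 D121438 F193780
theorem F281485 : act 7 n180817 = n86452 := d11_2 (iv7 F133470) D180817 (iv4 D86452)
theorem F281486 : act 5 n180817 = n123088 := d16_1 D180817 (iv4 D123088) (iv5 D57282) D57281 (iv5 F123980) F133476 F133475 F133472 (iv2 F133469)
theorem F281487 : act 0 n180817 = n119657 := d17_0 F188743 F189844 (iv5 F254533) (iv4 D161015) F116039 F74449 F74445 F132358 D180817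
theorem F281488 : act 1 n180817 = n123597 := d18_6 (iv1 F86434) F86430 (iv1 F89273) (iv4 F133460) F133459 D180817 F198014 F123979 (iv5 D80624)
def n180818 : Q := act 6 n86362
theorem D180818 : act 6 n86362 = n180818 := rfl
theorem F281489 : act 2 n180818 = n86457 := d3_1 D180818 (iv6 D86457) (iv2 F133469)
def n180819 : Q := act 4 n86363
theorem D180819 : act 4 n86363 = n180819 := rfl
theorem F281490 : act 2 n180819 = n86452 := d1_1 D180819 (iv4 D86452) (iv2 F133471)
theorem F281491 : act 3 n180819 = n101257 := d5_1 D180819 F156013 F136496 D98481 F151883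
theorem F281492 : act 5 n180819 = n123078 := d9_2 F133475 D180819 (iv4 D123078) (iv5 D57277) D57276 (iv5 F115015) (iv4 F133460) F133459 D180817 F281486 (iv4 D123088) (iv5 D57282) D57281 (iv5 F123980) F133476
theorem F281493 : act 7 n180819 = n86456 := d11_2 (iv7 F133472) D180819 (iv4 D86456)
theorem F281494 : act 0 n180819 = n123597 := d17_0 F198015 F197300 (iv5 F254528) (iv4 D161013) F116497 (iv0 D41137) (iv5 F60841) D86363 D180819
theorem F281495 : act 1 n180819 = n119657 := d18_6 (iv1 D36795) (iv4 F43911) D56411 F133476 F133475 D180819 F188742 (iv0 F123984) (iv5 D80627)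
def n180820 : Q := act 6 n86363
theorem D180820 : act 6 n86363 = n180820 := rfl
theorem F281496 : act 2 n180820 = n86453 := d3_1 D180820 (iv6 D86453) (iv2 F133471)
def n180823 : Q := act 5 n86364
theorem D180823 : act 5 n86364 = n180823 := rfl
theorem F281498 : act 6 n180823 = n88110 := d12_2 D86364 D180823 (iv5 D88110) (iv6 D41140) (iv5 F60841)
def n180826 : Q := act 0 n86366
theorem D180826 : act 0 n86366 = n180826 := rfl
theorem F281505 : act 5 n180826 = n167852 := d17_3 (iv1 D86365) D86366 D180826 F264441 F191974 F149103 (iv5 D40558) D40557 F132364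
def n180827 : Q := act 4 n86366
theorem D180827 : act 4 n86366 = n180827 := rfl
theorem F281510 : act 6 n180827 = n88124 := d10_2 (iv6 F132367) D180827 (iv4 D88124)
def n180829 : Q := act 3 n86368
theorem D180829 : act 3 n86368 = n180829 := rfl
theorem F281515 : act 4 n180829 = n122298 := d5_2 D86368 D180829 (iv3 D122298) F126116 (iv3 F126131)
theorem F281516 : act 6 n180829 = n162924 := d7_2 (iv6 F132374) D180829 (iv3 D162924)
theorem F281517 : act 7 n180829 = n86713 := d8_2 (iv7 F132375) D180829 (iv3 D86713)
theorem F281518 : act 0 n86515 = n180829 := d20_4 (iv4 F232325) (iv1 D119016) (iv4 F162759) F162758 (iv3 D180829) (iv4 D86368) (iv1 F60851) (iv4 F61058) (iv3 F77355) (iv1 F162691)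
def n180830 : Q := act 5 n86368
theorem D180830 : act 5 n86368 = n180830 := rfl
theorem F281519 : act 2 n180830 = n86707 := d2_1 D180830 (iv5 D86707) (iv2 F132373)
theorem F281520 : act 7 n180830 = n86714 := d13_2 (iv7 F132375) D180830 (iv5 D86714)
def n180832 : Q := act 6 n86370
theorem D180832 : act 6 n86370 = n180832 := rfl
def n180833 : Q := act 6 n86371
theorem D180833 : act 6 n86371 = n180833 := rfl
theorem F281525 : act 2 n180833 = n170141 := d3_1 D180833 (iv6 D170141) F132388
def n180838 : Q := act 0 n86374
theorem D180838 : act 0 n86374 = n180838 := rfl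
def n180839 : Q := act 4 n86374
theorem D180839 : act 4 n86374 = n180839 := rfl
theorem F281534 : act 0 n180839 = n161070 := d18_2 F132932 D180839 (iv4 D161070) F132889 F132888 (iv0 F121028) D85632 (iv0 F131305) D86686
def n180840 : Q := act 0 n86375
theorem D180840 : act 0 n86375 = n180840 := rfl
theorem F281536 : act 3 n180840 = n148898 := d20_5 (iv4 F123676) (iv1 D56912) (iv4 F60860) (iv3 F132399) D180840 (iv4 D148898) (iv1 F106210) (iv4 F106258) F106257 (iv1 F123674)
theorem F281537 : act 4 n180840 = n164520 := d20_8 F108474 F130988 D34397 (iv3 F55984) (iv1 F116667) (iv3 F89302) (iv4 F132400) D180840 (iv3 D164520) (iv1 F120201)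
theorem F281538 : act 7 n148963 = n180840 := d11_0 F281537 F259315 F239806
def n180841 : Q := act 1 n86375
theorem D180841 : act 1 n86375 = n180841 := rfl
def n180842 : Q := act 5 n86375
theorem D180842 : act 5 n86375 = n180842 := rfl
theorem F281539 : act 3 n180842 = n86376 := d6_1 D180842 (iv5 D86376) (iv3 F132399)
def n180843 : Q := act 7 n86375
theorem D180843 : act 7 n86375 = n180843 := rfl
theorem F281541 : act 4 n180843 = n121991 := d11_1 D180843 (iv7 D121991) (iv4 F132400)
theorem F281543 : act 1 n148963 = n180843 := d15_1 (iv0 F278104) (iv7 D180843) (iv2 F278101)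
def n180844 : Q := act 4 n86376
theorem D180844 : act 4 n86376 = n180844 := rfl
def n180848 : Q := act 2 n86378
theorem D180848 : act 2 n86378 = n180848 := rfl
theorem F281553 : act 4 n180848 = n170060 := d1_2 (iv4 F132406) D180848 (iv2 D170060)
def n180850 : Q := act 6 n86378
theorem D180850 : act 6 n86378 = n180850 := rfl
theorem F281560 : act 4 n180850 = n170062 := d10_1 D180850 (iv6 D170062) (iv4 F132406)
def n180851 : Q := act 1 n86379
theorem D180851 : act 1 n86379 = n180851 := rfl
theorem F281563 : act 5 n180851 = n86691 := d17_7 F117107 F90965 F117106 (iv5 D56925) (iv4 F121236) D86379 D180851 F132962 F132961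
theorem F281565 : act 4 n167878 = n180851 := d18_3 (iv1 D80571) D80572 D167878 F281563 F132945 (iv0 F118868) D56383 F121486 (iv5 F123878)
def n180854 : Q := act 7 n86380
theorem D180854 : act 7 n86380 = n180854 := rfl
theorem F281567 : act 2 n180854 = n167720 := d4_1 D180854 F264025 F134079
theorem F281568 : act 4 n180854 = n122607 := d11_1 D180854 (iv7 D122607) (iv4 F132409)
theorem F281570 : act 1 n121943 = n180854 := d15_1 (iv0 F194678) (iv7 D180854) (iv2 F134079)
theorem F281571 : act 1 n180854 = n121941 := d15_1 F281570 (iv7 F254661) F254659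
def n180855 : Q := act 1 n86381
theorem D180855 : act 1 n86381 = n180855 := rfl
theorem F281572 : act 7 n180855 = n167178 := d15_2 (iv0 F191338) D180855 F263345
theorem F281573 : act 2 n167344 = n180855 := d4_3 F281572 F263345 F263480
theorem F281574 : act 1 n180855 = n167341 := d15_0 F263472 F263480 F281573
def n180857 : Q := act 5 n86381
theorem D180857 : act 5 n86381 = n180857 := rfl
theorem F281581 : act 7 n180857 = n167345 := d13_2 (iv7 F132411) D180857 (iv5 D167345)
def n180868 : Q := act 3 n86386
theorem D180868 : act 3 n86386 = n180868 := rfl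
def n180869 : Q := act 7 n86386
theorem D180869 : act 7 n86386 = n180869 := rfl
theorem F281595 : act 4 n180869 = n86387 := d11_1 D180869 (iv7 D86387) D86386
theorem F281596 : act 5 n180869 = n98062 := d13_1 D180869 (iv7 F264429) F264430
def n180870 : Q := act 6 n86387
theorem D180870 : act 6 n86387 = n180870 := rfl
theorem F281597 : act 2 n180870 = n167844 := d3_1 D180870 (iv6 D167844) (iv2 F132416)
theorem F281598 : act 5 n180870 = n168825 := d12_1 D180870 (iv6 D168825) (iv5 D80972) F118036 (iv5 F132417)
def n180875 : Q := act 4 n86389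
theorem D180875 : act 4 n86389 = n180875 := rfl
theorem F281606 : act 5 n180875 = n167897 := d9_2 D86389 D180875 (iv4 D167897) (iv5 D80582) (iv4 D36771) (iv5 D17726) D17725 D36767 D80572 D167881 F264513 F134073 (iv4 D86391) (iv5 D39992) D39991
def n180878 : Q := act 6 n86392
theorem D180878 : act 6 n86392 = n180878 := rfl
def n180879 : Q := act 6 n86393
theorem D180879 : act 6 n86393 = n180879 := rfl
theorem F281614 : act 2 n180879 = n89090 := d3_1 D180879 (iv6 D89090) (iv2 F132435)
theorem F281615 : act 3 n180879 = n86395 := d7_1 D180879 (iv6 D86395) (iv3 F132436)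
theorem F281616 : act 4 n180879 = n96947 := d10_1 D180879 (iv6 D96947) (iv4 F132439)
def n180880 : Q := act 0 n86394
theorem D180880 : act 0 n86394 = n180880 := rfl
def n180883 : Q := act 0 n86395
theorem D180883 : act 0 n86395 = n180883 := rfl
def n180884 : Q := act 1 n86395
theorem D180884 : act 1 n86395 = n180884 := rfl
theorem F281621 : act 1 n180884 = n98074 := d15_1 D180884 (iv7 D98074) (iv2 F132444)
def n180885 : Q := act 5 n86395
theorem D180885 : act 5 n86395 = n180885 := rfl
theorem F281623 : act 6 n180885 = n86396 := d12_2 D86395 D180885 (iv5 D86396) (iv6 D40001) D40000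
def n180886 : Q := act 7 n86395
theorem D180886 : act 7 n86395 = n180886 := rfl
theorem F281624 : act 2 n180886 = n98074 := d4_1 D180886 (iv7 D98074) (iv2 F132444)
theorem F281625 : act 4 n180886 = n98070 := d11_1 D180886 (iv7 D98070) (iv4 F132445)
theorem F281626 : act 6 n180886 = n98070 := d14_1 D180886 (iv7 D98070) (iv6 D45798) (iv7 F60868) D86395
theorem F281627 : act 1 n98074 = n180883 := d15_0 (iv0 D180883) D180886 F281624
theorem F281628 : act 1 n98072 = n180886 := d15_1 D98072 (iv7 D180886) F132444
theorem F281629 : act 1 n180886 = n98071 := d15_0 (iv0 D98071) D98074 (iv2 F281624)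
def n180888 : Q := act 0 n86399
theorem D180888 : act 0 n86399 = n180888 := rfl
theorem F281633 : act 4 n180888 = n171026 := d20_2 (iv4 F132456) D180888 F268740 (iv1 F154870) F74254 (iv4 F59276) (iv1 F155449) (iv4 D46734) D46733 F232748
def n180890 : Q := act 7 n86399
theorem D180890 : act 7 n86399 = n180890 := rfl
theorem F281639 : act 4 n180890 = n87883 := d11_1 D180890 (iv7 D87883) (iv4 F132456)
theorem F281640 : act 1 n167715 = n180890 := d15_1 (iv0 F264019) (iv7 D180890) (iv2 F151188)
theorem F281641 : act 1 n180890 = n167650 := d15_1 F281640 F263943 D167715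
theorem E24880 : n104132 = n86487 := (c20_1 D104132 (iv1 D86487) F60972 F30988 D37542 D81975 (iv4 F263941) (iv1 F281641) F281639 F134895 (iv1 F75727))
theorem F281642 : act 4 n86487 = n48188 := (sb E24880 (iv4 D104132))
theorem E24881 : n104131 = n99292 := (c20_4 (iv4 F155916) (iv1 F155919) F281642 D104131 (iv1 D99292) F73277 (iv4 F59045) D82964 (iv4 F155501) (iv3 F155502) (iv1 F74386))
theorem F281643 : act 3 n99292 = n48188 := (sb E24881 (iv3 D104131))
def n180892 : Q := act 3 n86401
theorem D180892 : act 3 n86401 = n180892 := rfl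
def n180901 : Q := act 2 n86405
theorem D180901 : act 2 n86405 = n180901 := rfl
theorem F281646 : act 7 n86406 = n180901 := d15_2 (iv0 D86405) D86406 (iv2 D180901)
def n180902 : Q := act 5 n86405
theorem D180902 : act 5 n86405 = n180902 := rfl
def n180903 : Q := act 6 n86405
theorem D180903 : act 6 n86405 = n180903 := rfl
theorem F281647 : act 5 n180903 = n168274 := d21_6 F57816 (iv1 F30186) D18918 D40009 D86405 D180903 (iv1 D168274) (iv5 D80760) (iv6 D36877) D36875
def n180904 : Q := act 7 n86405
theorem D180904 : act 7 n86405 = n180904 := rfl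
theorem F281648 : act 2 n180904 = n86406 := d4_1 D180904 F281646 (iv2 D180901)
def n180905 : Q := act 3 n86406
theorem D180905 : act 3 n86406 = n180905 := rfl
theorem F281650 : act 4 n180905 = n98147 := d20_6 (iv4 F117206) F117203 F90404 D86846 (iv1 F133185) D180905 (iv1 D98147) (iv4 F88113) F88112 D55688
def n180908 : Q := act 0 n86407
theorem D180908 : act 0 n86407 = n180908 := rfl
def n180909 : Q := act 1 n86407
theorem D180909 : act 1 n86407 = n180909 := rfl
def n180911 : Q := act 7 n86407
theorem D180911 : act 7 n86407 = n180911 := rfl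
def n180931 : Q := act 5 n86416
theorem D180931 : act 5 n86416 = n180931 := rfl
theorem F281677 : act 4 n180931 = n86884 := d17_4 (iv1 F118034) D80972 (iv1 F132473) D180931 F133298 F127354 F61843 (iv0 F120689) (iv4 F118211)
theorem F281679 : act 6 n180931 = n86444 := d21_3 D80972 (iv1 F132473) D180931 (iv1 F132549) (iv6 F119066) D78273 (iv1 F132668) F132669 (iv6 D86411) (iv1 F118034)
def n180938 : Q := act 6 n86418
theorem D180938 : act 6 n86418 = n180938 := rfl
theorem F281695 : act 5 n180938 = n167844 := d12_1 D180938 (iv6 D167844) (iv5 D80555) F118862 (iv5 F132475)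
def n180954 : Q := act 6 n86426
theorem D180954 : act 6 n86426 = n180954 := rfl
theorem F281732 : act 4 n180954 = n96867 := d10_1 D180954 (iv6 D96867) (iv4 F132508)
theorem F281733 : act 0 n168896 = n180954 := d20_1 D168896 F281732 F149358 (iv1 F129701) F126746 (iv4 F124826) (iv1 D81052) F57972 (iv3 F57919) D81003
theorem F281734 : act 1 n168897 = n180954 := d15_0 (iv0 F281733) F265994 (iv2 F265995)
def n180971 : Q := act 7 n86432
theorem D180971 : act 7 n86432 = n180971 := rfl
theorem F281762 : act 4 n180971 = n87530 := d11_1 D180971 (iv7 D87530) (iv4 F132521)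
theorem F281764 : act 1 n169300 = n180971 := d15_1 (iv0 F266424) (iv7 D180971) (iv2 F132529)
theorem F281765 : act 1 n180971 = n169299 := d15_1 F281764 F266419 (iv2 F266421)
def n180977 : Q := act 6 n86434
theorem D180977 : act 6 n86434 = n180977 := rfl
theorem F281776 : act 4 n180977 = n87646 := d10_1 D180977 (iv6 D87646) (iv4 F132525)
def n180993 : Q := act 5 n86441
theorem D180993 : act 5 n86441 = n180993 := rfl
theorem F281796 : act 2 n180993 = n168223 := d2_1 D180993 (iv5 D168223) (iv2 F132537)
theorem F281797 : act 3 n180993 = n86443 := d6_1 D180993 (iv5 D86443) (iv3 F132538)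
theorem F281799 : act 7 n180993 = n162837 := d13_2 F132540 D180993 (iv5 D162837)
def n180995 : Q := act 0 n86443
theorem D180995 : act 0 n86443 = n180995 := rfl
theorem F281805 : act 5 n180995 = n161106 := d17_3 (iv1 F118776) D86443 D180995 F254673 F249986 (iv0 D86868) (iv5 D40299) (iv0 F121058) D38972
theorem F281807 : act 2 n86495 = n180995 := d2_3 F281805 F265999 F265997
theorem F281808 : act 7 n86496 = n180995 := d13_0 F281805 (iv7 F254674) (iv5 F132669)
def n180996 : Q := act 1 n86443
theorem D180996 : act 1 n86443 = n180996 := rfl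
theorem F281809 : act 1 n180996 = n86498 := d15_1 D180996 (iv7 D86498) (iv2 F132546)
theorem F281810 : act 7 n180996 = n86495 := d15_2 (iv0 D180995) D180996 F281807
theorem F281811 : act 5 n180996 = n87507 := d17_7 (iv1 F119512) (iv5 F57915) (iv1 F118524) F57179 (iv4 F60902) D86443 D180996 (iv0 F257212) (iv4 D162897)
def n180997 : Q := act 4 n86443
theorem D180997 : act 4 n86443 = n180997 := rfl
theorem F281813 : act 2 n180997 = n86497 := d1_1 D180997 (iv4 D86497) (iv2 F132546)
def n180999 : Q := act 5 n86444
theorem D180999 : act 5 n86444 = n180999 := rfl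
theorem F281819 : act 0 n180999 = n167721 := d17_2 D86444 D180999 (iv5 D167721) F123711 F118545 F88936 (iv5 D36306) F118071 (iv4 F60912)
def n181002 : Q := act 0 n86446
theorem D181002 : act 0 n86446 = n181002 := rfl
theorem F281826 : act 5 n181002 = n180854 := d17_3 (iv1 D86445) D86446 D181002 F281568 F196396 (iv0 D86886) (iv5 D40309) D40308 F132554
theorem F281828 : act 2 n86530 = n181002 := d2_3 F281826 F281567 F264022
def n181003 : Q := act 1 n86446
theorem D181003 : act 1 n86446 = n181003 := rfl
theorem F281830 : act 1 n181003 = n86533 := d15_1 D181003 (iv7 D86533) (iv2 F132556)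
theorem F281831 : act 7 n181003 = n86530 := d15_2 (iv0 D181002) D181003 F281828
theorem F281832 : act 5 n181003 = n87329 := d17_7 (iv1 D56385) (iv5 F43879) (iv1 F118849) (iv5 D40041) (iv4 F60912) D86446 D181003 (iv0 F194678) (iv4 D121943)
theorem F281833 : act 2 n86531 = n181003 := d2_3 F281832 F134079 F132739
def n181004 : Q := act 4 n86446
theorem D181004 : act 4 n86446 = n181004 := rfl
theorem F281834 : act 2 n181004 = n86532 := d1_1 D181004 (iv4 D86532) (iv2 F132556)
theorem F281836 : act 7 n181004 = n166028 := d11_2 (iv7 F132559) D181004 (iv4 D166028)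
def n181005 : Q := act 0 n86447
theorem D181005 : act 0 n86447 = n181005 := rfl
theorem F281837 : act 4 n181005 = n86886 := d18_3 (iv1 F118849) D86447 D181005 (iv5 F196396) (iv4 F281568) F281571 (iv4 D121941) (iv0 D56384) (iv5 F43879)
theorem F281838 : act 1 n86544 = n181005 := d15_0 (iv0 D181005) F132562 (iv2 F132771)
theorem F281839 : act 2 n86540 = n181005 := d1_3 F281837 (iv2 F133309) F132774
def n181006 : Q := act 1 n86447
theorem D181006 : act 1 n86447 = n181006 := rfl
theorem F281841 : act 1 n181006 = n86544 := d15_1 D181006 (iv7 D86544) (iv2 F132560)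
theorem F281842 : act 7 n181006 = n86540 := d15_2 (iv0 D181005) D181006 F281839
def n181007 : Q := act 3 n86447
theorem D181007 : act 3 n86447 = n181007 := rfl
theorem F281846 : act 4 n181007 = n88751 := d5_2 D86447 D181007 (iv3 D88751) (iv4 D41438) (iv3 F60915)
theorem F281847 : act 6 n181007 = n86719 := d7_2 (iv6 F132561) D181007 (iv3 D86719)
theorem F281848 : act 7 n181007 = n166030 := d8_2 (iv7 F132562) D181007 (iv3 D166030)
def n181008 : Q := act 5 n86447
theorem D181008 : act 5 n86447 = n181008 := rfl
theorem F281849 : act 2 n181008 = n86543 := d2_1 D181008 (iv5 D86543) (iv2 F132560)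
theorem F281850 : act 7 n181008 = n166031 := d13_2 (iv7 F132562) D181008 (iv5 D166031)
def n181009 : Q := act 6 n86448
theorem D181009 : act 6 n86448 = n181009 := rfl
theorem F281851 : act 2 n181009 = n86547 := d3_1 D181009 (iv6 D86547) F132565
def n181013 : Q := act 4 n86450
theorem D181013 : act 4 n86450 = n181013 := rfl
theorem F281859 : act 2 n181013 = n86578 := d1_1 D181013 (iv4 D86578) (iv2 F132570)
def n181014 : Q := act 6 n86452
theorem D181014 : act 6 n86452 = n181014 := rfl
theorem F281861 : act 4 n181014 = n86453 := d10_1 D181014 (iv6 D86453) D86452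
def n181015 : Q := act 0 n86453
theorem D181015 : act 0 n86453 = n181015 := rfl
def n181016 : Q := act 1 n86453
theorem D181016 : act 1 n86453 = n181016 := rfl
def n181017 : Q := act 5 n86453
theorem D181017 : act 5 n86453 = n181017 := rfl
def n181018 : Q := act 7 n86453
theorem D181018 : act 7 n86453 = n181018 := rfl
def n181019 : Q := act 6 n86455
theorem D181019 : act 6 n86455 = n181019 := rfl
theorem F281862 : act 3 n181019 = n86457 := d7_1 D181019 (iv6 D86457) D86455
theorem F281863 : act 4 n181019 = n87544 := d10_1 D181019 (iv6 D87544) (iv4 F132575)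
def n181020 : Q := act 6 n86456
theorem D181020 : act 6 n86456 = n181020 := rfl
theorem F281864 : act 3 n181020 = n170726 := d7_1 D181020 (iv6 D170726) (iv3 F132576)
def n181025 : Q := act 0 n86458
theorem D181025 : act 0 n86458 = n181025 := rfl
def n181026 : Q := act 1 n86458
theorem D181026 : act 1 n86458 = n181026 := rfl
def n181027 : Q := act 5 n86458
theorem D181027 : act 5 n86458 = n181027 := rfl
theorem F281869 : act 3 n181027 = n86584 := d6_1 D181027 (iv5 D86584) (iv3 F132579)
def n181028 : Q := act 2 n86459
theorem D181028 : act 2 n86459 = n181028 := rfl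
theorem F281870 : act 7 n86460 = n181028 := d15_2 (iv0 D86459) D86460 (iv2 D181028)
def n181029 : Q := act 3 n86459
theorem D181029 : act 3 n86459 = n181029 := rfl
def n181030 : Q := act 4 n86459
theorem D181030 : act 4 n86459 = n181030 := rfl
theorem F281871 : act 0 n181030 = n176285 := d20_1 D181030 F275582 (iv3 D175883) (iv1 D83944) (iv3 F60944) (iv4 D40057) (iv1 D18934) (iv4 F30228) (iv3 F60928) D86459
theorem F281872 : act 0 n175852 = n181029 := d20_4 (iv4 D38663) D38660 D83932 D175852 (iv3 D181029) D181030 F281871 F275582 (iv3 D175883) (iv1 D83944)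
def n181031 : Q := act 5 n86459
theorem D181031 : act 5 n86459 = n181031 := rfl
def n181032 : Q := act 6 n86459
theorem D181032 : act 6 n86459 = n181032 := rfl
def n181033 : Q := act 7 n86459
theorem D181033 : act 7 n86459 = n181033 := rfl
theorem F281873 : act 2 n181033 = n86460 := d4_1 D181033 F281870 (iv2 D181028)
def n181034 : Q := act 3 n86460
theorem D181034 : act 3 n86460 = n181034 := rfl
theorem F281874 : act 4 n181034 = n149089 := d20_6 (iv4 D40233) (iv1 F60453) D85668 D179542 (iv1 F279564) D181034 (iv1 D149089) (iv4 F234467) F234466 F232550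
def n181035 : Q := act 4 n86460
theorem D181035 : act 4 n86460 = n181035 := rfl
theorem F281875 : act 3 n181035 = n176195 := d5_1 D181035 F275422 (iv3 F234476) (iv4 F281874) (iv3 D181034)
theorem F281876 : act 0 n176285 = n181035 := d20_10 (iv4 D181035) (iv1 D86460) (iv4 F128105) F128104 F59133 D38718 F59504 D38737 D84071 D176285
def n181036 : Q := act 5 n86460
theorem D181036 : act 5 n86460 = n181036 := rfl
def n181037 : Q := act 6 n86460
theorem D181037 : act 6 n86460 = n181037 := rfl
def n181041 : Q := act 7 n86461
theorem D181041 : act 7 n86461 = n181041 := rfl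
def n181042 : Q := act 0 n86463
theorem D181042 : act 0 n86463 = n181042 := rfl
theorem F281879 : act 3 n181042 = n173602 := d20_5 (iv4 F90483) F116734 F116686 D86463 D181042 (iv4 D173602) (iv1 D83033) (iv4 F61080) (iv3 D40180) D40178
theorem F281880 : act 1 n86630 = n181042 := d15_0 (iv0 D181042) F132583 D86630
theorem F281881 : act 7 n86628 = n181042 := d8_0 F281879 (iv7 F274317) (iv3 F132869)
def n181043 : Q := act 1 n86463
theorem D181043 : act 1 n86463 = n181043 := rfl
def n181044 : Q := act 2 n86463
theorem D181044 : act 2 n86463 = n181044 := rfl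
theorem F281884 : act 7 n181044 = n86630 := d4_2 (iv7 F132583) D181044 (iv2 D86630)
theorem F281886 : act 1 n181043 = n86630 := d15_1 D181043 (iv7 F281884) (iv2 D181044)
theorem F281887 : act 2 n86628 = n181043 := d15_3 F281886 F281880 (iv7 F281881)
theorem F281888 : act 7 n86629 = n181043 := d15_2 (iv0 D86628) D86629 (iv2 F281887)
theorem F281889 : act 2 n181042 = n86629 := d4_3 F281888 (iv2 F281887) F281881
def n181053 : Q := act 6 n86466
theorem D181053 : act 6 n86466 = n181053 := rfl
theorem F281905 : act 2 n181053 = n86657 := d3_1 D181053 (iv6 D86657) (iv2 F132900)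
theorem F281906 : act 5 n181053 = n167673 := d12_1 D181053 (iv6 D167673) (iv5 D80466) D80467 F132587
def n181058 : Q := act 3 n86470
theorem D181058 : act 3 n86470 = n181058 := rfl
theorem F281916 : act 4 n181058 = n86831 := d5_2 (iv4 F132603) D181058 (iv3 D86831) F116669 (iv3 F70089)
theorem F281917 : act 6 n181058 = n161646 := d7_2 F134042 D181058 F255660
theorem F281918 : act 7 n181058 = n86483 := d8_2 (iv7 F132606) D181058 F132650
def n181060 : Q := act 0 n86471
theorem D181060 : act 0 n86471 = n181060 := rfl
theorem F281924 : act 4 n181060 = n98935 := d20_0 (iv1 F234473) (iv4 F281874) (iv3 D181034) (iv1 D86460) F60928 F30228 D18933 D40054 D86471 D181060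
theorem F281926 : act 1 n86697 = n181060 := d15_0 (iv0 D181060) F132608 D86697
theorem F281927 : act 7 n181060 = n86514 := d15_2 (iv0 F274329) F281926 (iv2 F234465)
theorem E24884 : n98087 = n87400 := ((c20_1 D87400 (iv1 D98087) F72308 F34398 D37458 D81837 (iv4 F132607) D181060 F281924 (iv3 F233028) (iv1 F133434))).symm
theorem F281928 : act 0 n87400 = n45804 := (sb E24884 (iv1 D98087))
theorem E24885 : n98895 = n40617 := ((((iv4 D87400)).symm.trans (sb E24884 (iv4 F152452)))).symm
theorem E24886 : n87399 = n46280 := ((D87399).symm.trans (sb E24885 (iv3 D98895)))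
theorem F281930 : act 3 n46280 = n40617 := (sb E24886 (iv3 D87399))
theorem F281931 : act 3 n87401 = n98897 := d6_3 (iv5 D98897) F281930 D87401
theorem F281932 : act 3 n87402 = n98898 := d7_3 (iv6 D98898) F281930 D87402
theorem F281933 : act 3 n87393 = n98889 := d8_3 (iv7 F152450) F281930 F134158
theorem F281934 : act 2 n98890 = n87394 := d0_3 F281933 (iv2 D98889) D98890 (iv3 D87394) D87393
theorem F281935 : act 7 n177822 = n98890 := d15_2 (iv0 F275510) (iv0 F277348) F281934
theorem E24887 : n98894 = n84667 := (c8_3 F281935 (iv3 D98890) D98894 D177822)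
theorem E24888 : n177821 = n46280 := (((iv2 F277346)).symm.trans (sb E24887 F152451))
theorem E24889 : n177817 = n46279 := ((F277344).symm.trans (sb E24887 (iv7 D98894)))
theorem F281936 : act 2 n46280 = n84667 := (sb E24888 F277346)
theorem E24890 : n98889 = n84666 := ((F152450).symm.trans (sb E24888 (iv7 D177821)))
theorem F281937 : act 7 n46279 = n84667 := (sb E24889 (iv7 F277344))
theorem F281938 : act 2 n84666 = n46279 := (sb E24890 (iv2 D98889))
theorem E24891 : n87393 = n86938 := (((F234472).symm.trans (sb E24890 (iv3 F281933)))).symm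
theorem F281939 : act 7 n84666 = n46280 := (sb E24890 (iv7 F152450))
theorem F281940 : act 2 n86938 = n40616 := (sb E24891 (iv2 D87393))
theorem F281941 : act 7 n86938 = n40617 := (sb E24891 (iv7 F134158))
theorem E24892 : n180904 = n87400 := ((c11_2 F281941 D87400 (iv7 D180904) (iv4 F234471))).symm
theorem F281942 : act 2 n87400 = n86406 := (sb E24892 F281648)
theorem E24893 : n87398 = n86939 := (c15_4 F133428 F133433 F281941 (iv2 F134159))
theorem F281944 : act 2 n86939 = n40617 := (sb E24893 F134159)
theorem F281945 : act 7 n86939 = n40616 := (sb E24893 (iv7 D87398))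
theorem F281946 : act 7 n87394 = n175732 := d8_2 F281945 D87394 (iv3 F275167)
theorem E24894 : n180901 = n87395 := ((c11_2 F281945 D87395 (iv7 F281646) (iv4 F233167))).symm
theorem F281948 : act 7 n87395 = n86406 := (sb E24894 (iv7 F281646))
theorem F281949 : act 7 n180905 = n176258 := d8_2 F281948 D180905 F275508
theorem E24895 : n176252 = n98147 := (c11_3 F281949 (iv4 D176258) F275505 (iv4 F281650))
theorem F281950 : act 2 n98147 = n84062 := (sb E24895 (iv2 D176252))
theorem F281951 : act 7 n98147 = n84063 := (sb E24895 (iv7 F275505))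
theorem E24896 : n176256 = n98146 := (c15_4 (iv0 D98146) D98147 F281951 (iv2 F275507))
theorem F281952 : act 2 n98146 = n84063 := (sb E24896 F275507)
theorem F281953 : act 7 n98146 = n84062 := (sb E24896 (iv7 D176256))
theorem F281954 : act 2 n176253 = n180905 := d1_3 F281650 F281950 D176253
theorem F281955 : act 2 n175732 = n177822 := d4_1 F281946 F281935 F281934
theorem E24897 : n175733 = n98890 := ((c15_4 F275162 F275166 (iv7 F281946) (iv2 F281934))).symm
theorem F281956 : act 0 n98890 = n83889 := (sb E24897 (iv1 D175733))
theorem F281957 : act 1 n98890 = n83894 := (sb E24897 F275162)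
theorem F281958 : act 7 n98896 = n177818 := d11_2 F281939 D98896 (iv4 D177818)
theorem F281959 : act 7 n98897 = n177819 := d13_2 F281939 D98897 (iv5 D177819)
theorem F281960 : act 2 n98891 = n177818 := d1_3 (iv4 D177818) F281938 D98891
theorem F281961 : act 2 n98892 = n177819 := d2_3 (iv5 D177819) F281938 D98892
theorem F281962 : act 2 n98893 = n177820 := d3_3 (iv6 D177820) F281938 D98893
theorem F281963 : act 7 n177823 = n98891 := d11_2 F281937 D177823 (iv4 D98891)
theorem F281964 : act 7 n177824 = n98892 := d13_2 F281937 D177824 (iv5 D98892)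
theorem F281965 : act 2 n98897 = n177824 := d4_3 F281964 F281961 (iv7 F281959)
theorem F281966 : act 1 n98897 = n125125 := d15_0 (iv0 F275528) (iv7 F281964) (iv2 F281965)
theorem F281967 : act 1 n179761 = n98897 := d15_0 F281966 F201032 D179761
theorem F281968 : act 1 n98892 = n179761 := d15_0 F281967 F281959 (iv2 F281961)
theorem F281969 : act 2 n98896 = n177823 := d4_3 F281963 F281960 (iv7 F281958)
theorem E24898 : n123110 = n123096 := (c8_3 F281963 F197294 D123110 (iv3 F277349))
theorem F281970 : act 2 n123096 = n57290 := (sb E24898 F197305)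
theorem F281971 : act 7 n123096 = n57289 := (sb E24898 (iv7 D123110))
theorem E24899 : n123106 = n123095 := (c15_4 (iv0 D123095) D123096 F281971 D123106)
theorem F281972 : act 2 n123095 = n57289 := (sb E24899 (iv2 D123106))
theorem F281973 : act 7 n123095 = n57290 := (sb E24899 (iv7 F197304))
theorem F281974 : act 2 n177825 = n98898 := d3_3 (iv6 D98898) F281936 D177825
def n181061 : Q := act 2 n86471
theorem D181061 : act 2 n86471 = n181061 := rfl
theorem F281975 : act 3 n181061 = n86678 := d0_2 D86471 D181061 (iv2 D86678) (iv3 D40180) (iv2 F61134)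
theorem F281976 : act 4 n181061 = n170708 := d1_2 (iv4 F132607) D181061 (iv2 D170708)
theorem F281978 : act 1 n181061 = n86514 := d15_0 F234470 (iv7 F132608) D181061
def n181063 : Q := act 0 n86472
theorem D181063 : act 0 n86472 = n181063 := rfl
theorem F281982 : act 5 n181063 = n87516 := d17_3 F116738 D86472 D181063 F134395 (iv5 F117105) F90968 (iv5 D57794) F116733 (iv4 F58179)
theorem F281983 : act 1 n86474 = n181063 := d15_0 (iv0 D181063) F132610 (iv2 F132615)
theorem F281985 : act 7 n86682 = n181063 := d13_0 F281982 (iv7 F263986) (iv5 F263990)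
def n181067 : Q := act 3 n86473
theorem D181067 : act 3 n86473 = n181067 := rfl
theorem F281993 : act 4 n181067 = n179829 := d5_2 D86473 D181067 (iv3 D179829) (iv4 F132598) F132595
def n181070 : Q := act 4 n86476
theorem D181070 : act 4 n86476 = n181070 := rfl
theorem F282000 : act 2 n181070 = n96300 := d1_1 D181070 F148147 (iv2 F132632)
theorem F282002 : act 5 n181070 = n149618 := d9_2 (iv5 F132624) D181070 F235208 F119263 F57513 (iv5 F113398) D158399 F249581 (iv4 F132628) D177062 F276479 F177566 F115823 (iv5 F113436) (iv4 F123981)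
theorem F282005 : act 1 n181070 = n99591 := d18_6 D36035 F108271 (iv1 F113434) (iv4 F123981) (iv5 F132624) D181070 F153344 (iv0 D79161) (iv5 D36038)
def n181072 : Q := act 6 n86477
theorem D181072 : act 6 n86477 = n181072 := rfl
theorem F282009 : act 4 n181072 = n177063 := d10_1 D181072 (iv6 D177063) F132628
def n181073 : Q := act 6 n86478
theorem D181073 : act 6 n86478 = n181073 := rfl
theorem F282010 : act 2 n181073 = n86479 := d3_1 D181073 (iv6 D86479) D86478
theorem F282011 : act 3 n181073 = n161638 := d7_1 D181073 (iv6 D161638) (iv3 F132633)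
theorem F282012 : act 4 n181073 = n96656 := d10_1 D181073 (iv6 D96656) (iv4 F132634)
theorem F282013 : act 0 n96656 = n164577 := d20_7 F162694 (iv1 F77294) D49018 D106054 (iv1 F255663) (iv3 F282011) F282012 F259452 (iv3 D106013) (iv1 F162697)
def n181074 : Q := act 0 n86479
theorem D181074 : act 0 n86479 = n181074 := rfl
def n181075 : Q := act 1 n86479
theorem D181075 : act 1 n86479 = n181075 := rfl
def n181076 : Q := act 5 n86479
theorem D181076 : act 5 n86479 = n181076 := rfl
theorem F282014 : act 3 n181076 = n86480 := d6_1 D181076 (iv5 D86480) (iv3 F132639)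
def n181077 : Q := act 7 n86479
theorem D181077 : act 7 n86479 = n181077 := rfl
def n181079 : Q := act 4 n86480
theorem D181079 : act 4 n86480 = n181079 := rfl
def n181080 : Q := act 7 n86480
theorem D181080 : act 7 n86480 = n181080 := rfl
theorem F282021 : act 5 n181080 = n86481 := d13_1 D181080 (iv7 D86481) D86480
theorem F282022 : act 1 n167902 = n181080 := d15_1 (iv0 F264547) (iv7 D181080) (iv2 F134039)
def n181081 : Q := act 6 n86482
theorem D181081 : act 6 n86482 = n181081 := rfl
theorem F282024 : act 2 n181081 = n86483 := d3_1 D181081 (iv6 D86483) D86482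
theorem F282026 : act 4 n181081 = n119220 := d10_1 D181081 (iv6 D119220) (iv4 F132646)
theorem F282027 : act 0 n86794 = n181081 := d20_7 (iv4 F281280) (iv1 F274226) F201347 (iv3 D85216) (iv1 F199892) D152249 F239307 F282026 F187594 D119222
def n181082 : Q := act 1 n86483
theorem D181082 : act 1 n86483 = n181082 := rfl
theorem F282028 : act 4 n175414 = n181082 := d20_6 (iv4 D40258) (iv1 F91192) (iv4 F56149) (iv3 F116511) (iv1 F128799) D175414 (iv1 D181082) F132651 F88733 (iv1 F116692)
theorem F282029 : act 2 n181082 = n86794 := d1_1 F282028 (iv4 F239307) (iv2 F274476)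
def n181087 : Q := act 2 n86486
theorem D181087 : act 2 n86486 = n181087 := rfl
theorem F282042 : act 7 n86487 = n181087 := d15_2 (iv0 D86486) D86487 (iv2 D181087)
def n181088 : Q := act 3 n86486
theorem D181088 : act 3 n86486 = n181088 := rfl
def n181089 : Q := act 5 n86486
theorem D181089 : act 5 n86486 = n181089 := rfl
def n181090 : Q := act 6 n86486
theorem D181090 : act 6 n86486 = n181090 := rfl
def n181091 : Q := act 7 n86486
theorem D181091 : act 7 n86486 = n181091 := rfl
theorem F282045 : act 2 n181091 = n86487 := d4_1 D181091 F282042 (iv2 D181087)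
def n181092 : Q := act 3 n86487
theorem D181092 : act 3 n86487 = n181092 := rfl
def n181093 : Q := act 5 n86487
theorem D181093 : act 5 n86487 = n181093 := rfl
def n181094 : Q := act 6 n86487
theorem D181094 : act 6 n86487 = n181094 := rfl
def n181097 : Q := act 4 n86488
theorem D181097 : act 4 n86488 = n181097 := rfl
theorem F282050 : act 6 n181097 = n86497 := d10_2 (iv6 F132656) D181097 (iv4 D86497)
def n181101 : Q := act 2 n86490
theorem D181101 : act 2 n86490 = n181101 := rfl
theorem F282056 : act 3 n181101 = n161839 := d0_2 D86490 D181101 F255807 F132545 (iv2 F132542)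
theorem F282057 : act 4 n181101 = n169957 := d1_2 (iv4 F132660) D181101 (iv2 F267392)
def n181103 : Q := act 1 n86491
theorem D181103 : act 1 n86491 = n181103 := rfl
theorem F282065 : act 5 n181103 = n162897 := d17_7 F249989 F197442 (iv1 D123187) (iv5 D57333) (iv4 F121174) D86491 D181103 F257213 F254673
theorem F282067 : act 4 n162879 = n181103 := d18_3 (iv1 D78298) D78299 D162879 F282065 (iv4 D162897) (iv0 F119509) (iv4 F124752) (iv0 F149111) (iv5 F132678)
def n181106 : Q := act 1 n86492
theorem D181106 : act 1 n86492 = n181106 := rfl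
theorem F282069 : act 7 n181106 = n151769 := d15_2 (iv0 F191376) D181106 F238687
theorem F282070 : act 2 n161842 = n181106 := d4_3 F282069 F238687 F255814
theorem F282071 : act 3 n151776 = n181106 := d8_3 F282069 F238688 D151776
theorem E24900 : n154260 = n123180 := ((c20_11 (iv4 D154260) (iv1 F242359) F242356 F282071 (iv1 D181106) (iv3 D86492) F121184 (iv1 D27450) (iv4 F44367) (iv3 F90511) D123180)).symm
theorem F282072 : act 4 n123180 = n73084 := (sb E24900 (iv4 D154260))
theorem F282073 : act 0 n161839 = n181106 := d20_4 (iv4 F125399) D169957 (iv4 F282057) F282056 (iv3 F282071) (iv4 F242356) (iv1 F242358) D154265 F259792 (iv1 D164744)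
def n181107 : Q := act 2 n86492
theorem D181107 : act 2 n86492 = n181107 := rfl
theorem F282075 : act 4 n181107 = n161394 := d1_2 (iv4 F132663) D181107 (iv2 D161394)
theorem F282077 : act 1 n181107 = n161842 := d15_0 (iv0 D161842) (iv7 F132664) D181107
theorem F282078 : act 1 n151769 = n181107 := d15_0 F282077 (iv7 F255814) (iv2 F238687)
def n181108 : Q := act 5 n86492
theorem D181108 : act 5 n86492 = n181108 := rfl
theorem F282079 : act 3 n181108 = n86493 := d6_1 D181108 (iv5 D86493) D86492
def n181111 : Q := act 6 n86493
theorem D181111 : act 6 n86493 = n181111 := rfl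
def n181112 : Q := act 5 n86494
theorem D181112 : act 5 n86494 = n181112 := rfl
theorem F282087 : act 1 n181112 = n167651 := d17_6 D37292 D81604 F197477 (iv5 D123193) (iv4 F132667) D181112 (iv5 D167651) (iv0 F123687) F58251
def n181120 : Q := act 0 n86497
theorem D181120 : act 0 n86497 = n181120 := rfl
theorem F282099 : act 4 n181120 = n86562 := d18_3 (iv1 D86496) D86497 D181120 (iv5 F265906) F265905 F124734 D81005 (iv0 F132465) (iv5 F132669)
theorem F282100 : act 5 n163025 = n181120 := d16_3 D35728 D78392 D163025 F282099 (iv5 F265906) F265905 F124731 F118096 (iv2 D35727)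
theorem F282101 : act 1 n162838 = n181120 := d18_6 (iv1 F121050) (iv4 D40075) F118792 D35684 D78273 D162838 F282099 (iv0 D86562) (iv5 D40126)
def n181121 : Q := act 3 n86497
theorem D181121 : act 3 n86497 = n181121 := rfl
def n181122 : Q := act 5 n86497
theorem D181122 : act 5 n86497 = n181122 := rfl
theorem F282102 : act 4 n181122 = n162841 := d16_2 D86497 D181122 (iv5 D162841) (iv4 D78274) (iv5 D35685) D35684 D78273 (iv7 F132547) F132546
theorem F282103 : act 1 n181122 = n162882 := d17_6 F254675 (iv5 D86493) (iv1 D40070) D40071 D86497 D181122 (iv5 D162882) D162880 F257189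
def n181125 : Q := act 0 n86499
theorem D181125 : act 0 n86499 = n181125 := rfl
theorem F282108 : act 1 n162845 = n181125 := d15_0 (iv0 D181125) F132674 D162845
def n181126 : Q := act 1 n86499
theorem D181126 : act 1 n86499 = n181126 := rfl
theorem F282109 : act 1 n181126 = n162845 := d15_1 D181126 F257116 F235763
def n181127 : Q := act 5 n86499
theorem D181127 : act 5 n86499 = n181127 := rfl
def n181128 : Q := act 4 n86500
theorem D181128 : act 4 n86500 = n181128 := rfl
theorem F282114 : act 5 n181128 = n162913 := d16_1 D181128 (iv4 D162913) (iv5 D78314) (iv4 D35697) (iv5 D17300) D17299 D35693 (iv7 F88299) (iv2 F132675)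
theorem F282115 : act 1 n162913 = n181122 := d17_6 F124751 (iv5 D40126) (iv1 F121050) D86500 D181128 F282114 (iv5 D181122) (iv0 F265972) (iv4 D168872)
def n181129 : Q := act 6 n86500
theorem D181129 : act 6 n86500 = n181129 := rfl
def n181130 : Q := act 3 n86501
theorem D181130 : act 3 n86501 = n181130 := rfl
theorem F282119 : act 4 n181130 = n162711 := d5_2 D86501 D181130 (iv3 D162711) (iv4 D78189) (iv3 F118826)
theorem F282120 : act 7 n181130 = n162853 := d8_2 (iv7 F132682) D181130 (iv3 D162853)
def n181131 : Q := act 5 n86501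
theorem D181131 : act 5 n86501 = n181131 := rfl
theorem F282121 : act 2 n181131 = n121031 := d2_1 D181131 (iv5 D121031) (iv2 F132681)
theorem F282122 : act 4 n181131 = n162882 := d9_1 D181131 (iv5 D162882) (iv4 D78299) (iv5 D35693) (iv4 D17299) D17300 D35697 D78314 D162913 (iv5 F282114) (iv4 D181128) (iv5 D86500) (iv4 D40075) D40076 D86501
theorem F282123 : act 7 n181131 = n162854 := d13_2 (iv7 F132682) D181131 (iv5 D162854)
theorem F282124 : act 0 n181131 = n162912 := d17_2 (iv1 F132684) D181131 F257231 (iv4 F121041) F90525 F61349 D86867 F133264 (iv4 F132685)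
theorem F282125 : act 1 n181131 = n162911 := d17_6 (iv1 F118085) (iv5 D18943) D18941 D40076 D86501 D181131 F257228 (iv0 D78389) (iv4 D35728)
def n181132 : Q := act 3 n86502
theorem D181132 : act 3 n86502 = n181132 := rfl
theorem F282126 : act 4 n181132 = n162978 := d5_2 D86502 D181132 (iv3 D162978) (iv4 D78373) (iv3 F118095)
theorem F282127 : act 7 n181132 = n163012 := d8_2 (iv7 F132687) D181132 (iv3 D163012)
def n181133 : Q := act 5 n86502
theorem D181133 : act 5 n86502 = n181133 := rfl
theorem F282128 : act 2 n181133 = n121068 := d2_1 D181133 (iv5 D121068) (iv2 F132686)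
theorem F282129 : act 7 n181133 = n163013 := d13_2 (iv7 F132687) D181133 (iv5 D163013)
theorem F282130 : act 0 n181133 = n163024 := d17_2 (iv1 F132689) D181133 F257385 F197444 (iv5 F197442) (iv0 F249989) F249986 (iv0 D86868) (iv4 F121047)
theorem F282131 : act 1 n181133 = n163023 := d17_6 D55825 (iv5 F122403) (iv1 F124734) F124731 D86502 D181133 F257381 (iv0 D121028) (iv4 D55827)
theorem F282132 : act 5 n163482 = n166087 := d21_2 D78561 D163482 (iv6 D166087) (iv1 F132757) F132754 D181133 F282130 F257385 (iv6 F248669) (iv1 D78560)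
def n181134 : Q := act 3 n86503
theorem D181134 : act 3 n86503 = n181134 := rfl
theorem F282133 : act 4 n181134 = n177004 := d5_2 (iv4 F132690) D181134 (iv3 D177004) (iv4 D84363) F121014
def n181139 : Q := act 0 n86505
theorem D181139 : act 0 n86505 = n181139 := rfl
def n181140 : Q := act 1 n86505
theorem D181140 : act 1 n86505 = n181140 := rfl
def n181141 : Q := act 2 n86505
theorem D181141 : act 2 n86505 = n181141 := rfl
theorem F282143 : act 6 n181141 = n160998 := d3_2 (iv6 F132697) D181141 (iv2 D160998)
def n181142 : Q := act 5 n86505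
theorem D181142 : act 5 n86505 = n181142 := rfl
theorem F282144 : act 3 n181142 = n86506 := d6_1 D181142 (iv5 D86506) D86505
def n181143 : Q := act 7 n86505
theorem D181143 : act 7 n86505 = n181143 := rfl
theorem F282145 : act 3 n181143 = n86507 := d8_1 D181143 (iv7 D86507) D86505
def n181144 : Q := act 0 n86506
theorem D181144 : act 0 n86506 = n181144 := rfl
theorem F282147 : act 5 n181144 = n123188 := d17_3 (iv1 D86504) D86506 D181144 (iv4 D123188) (iv5 D57333) (iv0 D27449) D27451 D57340 F132694
theorem F282148 : act 7 n177356 = n181144 := d13_0 F282147 F197446 D177356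
theorem F282149 : act 1 n162841 = n181144 := d17_6 (iv1 F118824) (iv5 D40076) F118792 D35685 D78274 D162841 F282147 F197447 (iv4 D78306)
def n181145 : Q := act 1 n86506
theorem D181145 : act 1 n86506 = n181145 := rfl
theorem F282150 : act 1 n181145 = n162841 := d15_1 D181145 (iv7 F262149) F262148
theorem F282151 : act 5 n181145 = n123191 := d17_7 (iv1 D35696) (iv5 D17300) F118793 D18943 D40085 D86506 D181145 F197468 (iv4 D78309)
theorem F282152 : act 2 n177356 = n181145 := d2_3 F282151 F197467 D177356
def n181146 : Q := act 4 n86506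
theorem D181146 : act 4 n86506 = n181146 := rfl
theorem F282153 : act 5 n181146 = n162838 := d9_2 D86506 D181146 (iv4 D162838) (iv5 D78273) (iv4 D35684) D35685 D78274 D162841 (iv4 F282102) (iv5 D181122) (iv4 D86497) (iv5 D40071) F30247 D18943 D40085
def n181147 : Q := act 6 n86506
theorem D181147 : act 6 n86506 = n181147 := rfl
theorem F282156 : act 5 n181147 = n161002 := d12_1 D181147 (iv6 D161002) (iv5 D77261) (iv6 F60978) D86506
def n181148 : Q := act 7 n86506
theorem D181148 : act 7 n86506 = n181148 := rfl
theorem F282157 : act 2 n181148 = n162841 := d4_1 D181148 (iv7 F262149) F262148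
theorem F282158 : act 5 n181148 = n86507 := d13_1 D181148 (iv7 D86507) D86506
def n181149 : Q := act 6 n86508
theorem D181149 : act 6 n86508 = n181149 := rfl
theorem F282160 : act 2 n181149 = n99590 := d3_1 D181149 (iv6 D99590) F132704
def n181150 : Q := act 0 n86509
theorem D181150 : act 0 n86509 = n181150 := rfl
theorem F282161 : act 1 n178005 = n181150 := d15_0 (iv0 D181150) (iv7 F132707) D178005
def n181151 : Q := act 1 n86509
theorem D181151 : act 1 n86509 = n181151 := rfl
theorem F282162 : act 1 n181151 = n178005 := d15_1 D181151 F277559 F260533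
def n181152 : Q := act 5 n86509
theorem D181152 : act 5 n86509 = n181152 := rfl
theorem F282163 : act 3 n181152 = n86510 := d6_1 D181152 (iv5 D86510) (iv3 F132705)
theorem F282164 : act 7 n181152 = n178006 := d13_2 F132707 D181152 (iv5 D178006)
def n181153 : Q := act 0 n86510
theorem D181153 : act 0 n86510 = n181153 := rfl
theorem F282165 : act 5 n181153 = n177789 := d17_3 F118547 D86510 D181153 (iv4 D177789) (iv5 D84653) (iv0 D39099) (iv5 D18565) D18564 D39096
theorem F282166 : act 4 n181153 = n177768 := d18_1 D181153 (iv1 F277239) F129947 F60134 F29819 F29806 D39093 F118548 D86510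
theorem F282167 : act 2 n170702 = n181153 := d15_3 (iv0 D181153) (iv0 F195904) F268212
theorem F282168 : act 1 n170705 = n181153 := d15_0 (iv0 D181153) F132709 (iv2 F268219)
theorem F282169 : act 7 n181153 = n170703 := d15_2 F268221 F282168 F268217
def n181154 : Q := act 3 n86511
theorem D181154 : act 3 n86511 = n181154 := rfl
theorem F282170 : act 4 n181154 = n86542 := d5_2 D86511 D181154 (iv3 D86542) (iv4 D40115) (iv3 F60987)
theorem F282171 : act 6 n181154 = n161003 := d7_2 (iv6 F132711) D181154 (iv3 D161003)
theorem F282172 : act 7 n181154 = n178092 := d8_2 F132714 D181154 (iv3 D178092)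
def n181155 : Q := act 5 n86511
theorem D181155 : act 5 n86511 = n181155 := rfl
theorem F282173 : act 2 n181155 = n178056 := d2_1 D181155 F277604 (iv2 F132710)
theorem F282174 : act 7 n181155 = n178055 := d13_2 F132714 D181155 F277601
theorem F282175 : act 0 n181155 = n177780 := d17_2 (iv1 F132712) D181155 (iv5 D177780) (iv4 D84648) (iv5 D39094) (iv0 D18563) D18565 D39100 D84655
theorem F282176 : act 1 n181155 = n177784 := d17_6 F254716 (iv5 F118757) F118419 D40092 D86511 D181155 (iv5 D177784) F277259 F277257
def n181156 : Q := act 6 n86513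
theorem D181156 : act 6 n86513 = n181156 := rfl
theorem F282177 : act 3 n181156 = n86514 := d7_1 D181156 (iv6 D86514) D86513
theorem F282178 : act 4 n181156 = n101280 := d10_1 D181156 (iv6 D101280) (iv4 F132719)
def n181158 : Q := act 1 n86515
theorem D181158 : act 1 n86515 = n181158 := rfl
theorem F282179 : act 4 n101477 = n181158 := d20_6 (iv4 D106071) (iv1 F77366) D60402 F184580 (iv1 F156284) D101477 (iv1 D181158) (iv4 F134440) F134439 F232413
theorem F282180 : act 2 n181158 = n86713 := d1_1 F282179 F132986 (iv2 F184751)
def n181159 : Q := act 5 n86515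
theorem D181159 : act 5 n86515 = n181159 := rfl
def n181160 : Q := act 7 n86515
theorem D181160 : act 7 n86515 = n181160 := rfl
theorem F282182 : act 4 n181160 = n98535 := d11_1 D181160 (iv7 F232486) F134440
theorem F282184 : act 1 n86713 = n181160 := d15_1 (iv0 F233189) (iv7 D181160) (iv2 F134442)
def n181164 : Q := act 7 n86516
theorem D181164 : act 7 n86516 = n181164 := rfl
theorem F282190 : act 3 n181164 = n86524 := d8_1 D181164 (iv7 D86524) (iv3 F132721)
def n181169 : Q := act 6 n86518
theorem D181169 : act 6 n86518 = n181169 := rfl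
theorem F282195 : act 4 n181169 = n179855 := d10_1 D181169 (iv6 F280107) F234380
theorem F282196 : act 0 n181169 = n181067 := d20_7 (iv4 D39730) (iv1 D18793) D18794 D39735 D85902 D179855 (iv4 F282195) F281993 (iv3 D179829) (iv1 F131743)
def n181174 : Q := act 2 n86521
theorem D181174 : act 2 n86521 = n181174 := rfl
theorem F282199 : act 4 n181174 = n104175 := d1_2 (iv4 F238654) D181174 (iv2 D104175)
def n181175 : Q := act 3 n86521
theorem D181175 : act 3 n86521 = n181175 := rfl
theorem F282201 : act 0 n118777 = n181175 := d20_4 (iv4 F233059) F230634 F94678 (iv3 F186833) (iv3 D181175) F238654 (iv1 F75770) (iv4 F132816) F132815 (iv1 F114822)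
def n181176 : Q := act 5 n86521
theorem D181176 : act 5 n86521 = n181176 := rfl
def n181177 : Q := act 6 n86521
theorem D181177 : act 6 n86521 = n181177 := rfl
theorem F282202 : act 4 n181177 = n104179 := d10_1 D181177 (iv6 D104179) (iv4 F238654)
def n181178 : Q := act 7 n86521
theorem D181178 : act 7 n86521 = n181178 := rfl
theorem F282205 : act 4 n181178 = n104180 := d11_1 D181178 (iv7 D104180) (iv4 F238654)
def n181183 : Q := act 4 n86523
theorem D181183 : act 4 n86523 = n181183 := rfl
theorem F282209 : act 6 n181183 = n86532 := d10_2 (iv6 F132728) D181183 (iv4 D86532)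
def n181184 : Q := act 7 n86523
theorem D181184 : act 7 n86523 = n181184 := rfl
theorem F282210 : act 2 n181184 = n168276 := d4_1 D181184 (iv7 D168276) (iv2 F132727)
theorem F282211 : act 5 n181184 = n86524 := d13_1 D181184 (iv7 D86524) D86523
theorem F282214 : act 1 n181184 = n168273 := d15_0 (iv0 D168273) D168276 (iv2 F282210)
def n181187 : Q := act 6 n86525
theorem D181187 : act 6 n86525 = n181187 := rfl
theorem F282218 : act 3 n181187 = n86527 := d7_1 D181187 (iv6 D86527) D86525
def n181188 : Q := act 0 n86526
theorem D181188 : act 0 n86526 = n181188 := rfl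
theorem F282220 : act 5 n181188 = n121941 := d17_3 D40099 D86526 D181188 (iv4 D121941) F119037 (iv0 D36313) (iv5 D17534) (iv0 F118103) (iv4 F30262)
theorem F282223 : act 4 n166065 = n181188 := d18_3 (iv1 D79728) D79729 D166065 F282220 (iv4 D121941) (iv0 D56384) (iv4 F89218) D121936 F194647
def n181198 : Q := act 3 n86530
theorem D181198 : act 3 n86530 = n181198 := rfl
def n181199 : Q := act 4 n86530
theorem D181199 : act 4 n86530 = n181199 := rfl
theorem F282230 : act 1 n181199 = n181013 := d18_6 D121935 (iv4 F196342) F196344 (iv4 F264023) F264022 D181199 (iv4 D181013) (iv0 F194650) (iv5 D121937)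
def n181200 : Q := act 6 n86530
theorem D181200 : act 6 n86530 = n181200 := rfl
def n181202 : Q := act 4 n86531
theorem D181202 : act 4 n86531 = n181202 := rfl
theorem F282232 : act 0 n181202 = n181013 := d18_2 (iv1 F132738) D181202 (iv4 D181013) (iv5 D86450) F60926 F120717 (iv4 F118417) F118416 D79712
def n181204 : Q := act 0 n86532
theorem D181204 : act 0 n86532 = n181204 := rfl
theorem F282234 : act 4 n181204 = n86576 := d18_3 (iv1 D86531) D86532 D181204 F132817 (iv4 D79868) F119051 (iv4 F123711) F254663 F132739
theorem F282235 : act 1 n166028 = n181204 := d18_6 (iv1 F120711) (iv4 D17533) D17530 D36297 D79712 D166028 F282234 (iv0 D86576) (iv5 D40134)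
def n181205 : Q := act 1 n86532
theorem D181205 : act 1 n86532 = n181205 := rfl
theorem F282236 : act 1 n181205 = n166028 := d15_1 D181205 (iv7 F281836) F281834
theorem F282237 : act 4 n181205 = n86577 := d18_7 (iv1 F118108) (iv4 D40110) (iv1 D18952) (iv4 F30262) D40101 D86532 D181205 F132818 (iv5 D79721)
theorem F282238 : act 5 n166325 = n181205 := d16_3 D36382 D79866 D166325 F282237 (iv5 F132819) F132426 F61004 F118845 (iv2 D36381)
def n181206 : Q := act 3 n86532
theorem D181206 : act 3 n86532 = n181206 := rfl
def n181207 : Q := act 5 n86532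
theorem D181207 : act 5 n86532 = n181207 := rfl
theorem F282239 : act 4 n181207 = n166031 := d16_2 D86532 D181207 (iv5 D166031) (iv4 D79713) (iv5 D36298) D36297 D79712 (iv7 F132559) F132556
theorem F282240 : act 0 n181207 = n166068 := d17_2 (iv1 D181205) D181207 (iv5 D166068) (iv4 D79729) (iv5 D36311) F120711 D40134 D86577 (iv4 F282237)
theorem F282241 : act 0 n166096 = n181207 := d18_2 F257737 D166096 F282239 (iv5 D166031) (iv4 D79713) (iv0 F118846) D36382 (iv0 F121536) D163452
def n181208 : Q := act 7 n86532
theorem D181208 : act 7 n86532 = n181208 := rfl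
theorem F282242 : act 2 n181208 = n166028 := d4_1 D181208 (iv7 F281836) F281834
theorem F282243 : act 4 n181208 = n86533 := d11_1 D181208 (iv7 D86533) D86532
def n181209 : Q := act 6 n86533
theorem D181209 : act 6 n86533 = n181209 := rfl
theorem F282245 : act 5 n181209 = n162839 := d12_1 D181209 (iv6 D162839) (iv5 D78273) F119066 (iv5 F132741)
def n181214 : Q := act 4 n86535
theorem D181214 : act 4 n86535 = n181214 := rfl
theorem F282252 : act 2 n181214 = n121687 := d1_1 D181214 (iv4 D121687) (iv2 F132745)
theorem F282254 : act 5 n181214 = n166096 := d16_1 D181214 (iv4 D166096) (iv5 D79741) (iv4 D36315) (iv5 D17534) D17533 D36311 (iv7 F88933) (iv2 F132745)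
theorem F282256 : act 1 n181214 = n166065 := d18_6 F118412 (iv4 D36297) F118102 D40110 D86535 D181214 F282223 (iv0 D181188) (iv5 D86526)
def n181216 : Q := act 3 n86537
theorem D181216 : act 3 n86537 = n181216 := rfl
theorem F282258 : act 4 n181216 = n166207 := d5_2 D86537 D181216 (iv3 D166207) (iv4 D79802) (iv3 F118100)
theorem F282259 : act 6 n181216 = n181132 := d7_2 (iv6 F132754) D181216 (iv3 D181132)
theorem F282260 : act 7 n181216 = n166040 := d8_2 (iv7 F132755) D181216 (iv3 D166040)
def n181217 : Q := act 5 n86537
theorem D181217 : act 5 n86537 = n181217 := rfl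
theorem F282261 : act 2 n181217 = n121696 := d2_1 D181217 (iv5 D121696) (iv2 F132753)
theorem F282262 : act 4 n181217 = n166068 := d9_1 D181217 (iv5 D166068) (iv4 D79729) (iv5 D36311) (iv4 D17533) D17534 D36315 D79741 D166096 (iv5 F282254) (iv4 D181214) (iv5 D86535) (iv4 D40110) D40111 D86537
theorem F282263 : act 7 n181217 = n166041 := d13_2 (iv7 F132755) D181217 (iv5 D166041)
theorem F282264 : act 0 n181217 = n163452 := d17_2 (iv1 F132757) D181217 (iv5 D163452) F119737 (iv5 D40309) D40308 D86885 (iv0 F261498) (iv4 D166085)
theorem F282265 : act 1 n181217 = n166095 := d17_6 F118846 (iv5 D36298) F118102 D40111 D86537 D181217 F261508 (iv0 D79864) (iv4 D36382)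
def n181218 : Q := act 3 n86538
theorem D181218 : act 3 n86538 = n181218 := rfl
theorem F282266 : act 4 n181218 = n166360 := d5_2 D86538 D181218 (iv3 D166360) (iv4 D79880) (iv3 F118844)
theorem F282267 : act 7 n181218 = n166313 := d8_2 (iv7 F132759) D181218 (iv3 D166313)
def n181219 : Q := act 5 n86538
theorem D181219 : act 5 n86538 = n181219 := rfl
theorem F282271 : act 1 n181219 = n166323 := d17_6 D56228 F118535 F116109 F61004 D86538 D181219 F261916 (iv0 D121693) (iv4 D56230)
def n181220 : Q := act 6 n86538
theorem D181220 : act 6 n86538 = n181220 := rfl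
theorem F282274 : act 0 n181220 = n160342 := d21_4 (iv5 F261916) (iv1 F282271) (iv5 D181219) D181220 F253247 D162905 F257223 (iv5 D121068) (iv6 F88937) D121693
theorem F282276 : act 7 n181220 = n162858 := d15_2 (iv0 F253248) (iv0 F282274) F257152
def n181221 : Q := act 3 n86540
theorem D181221 : act 3 n86540 = n181221 := rfl
def n181222 : Q := act 5 n86540
theorem D181222 : act 5 n86540 = n181222 := rfl
def n181223 : Q := act 6 n86540
theorem D181223 : act 6 n86540 = n181223 := rfl
theorem F282278 : act 4 n181223 = n174359 := d10_1 D181223 (iv6 D174359) F132774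
def n181224 : Q := act 3 n86541
theorem D181224 : act 3 n86541 = n181224 := rfl
theorem F282279 : act 4 n181224 = n124606 := d5_2 F132769 D181224 (iv3 D124606) (iv4 D58184) D58183
def n181226 : Q := act 6 n86541
theorem D181226 : act 6 n86541 = n181226 := rfl
theorem F282281 : act 4 n181226 = n124605 := d10_1 D181226 (iv6 D124605) F132769
theorem F282284 : act 1 n162900 = n181226 := d18_6 (iv1 D37293) (iv4 F58251) F123687 (iv4 D80459) (iv5 F119520) (iv4 F257215) F282281 F199302 (iv5 D81606)
def n181227 : Q := act 0 n86542
theorem D181227 : act 0 n86542 = n181227 := rfl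
def n181228 : Q := act 1 n86542
theorem D181228 : act 1 n86542 = n181228 := rfl
def n181229 : Q := act 2 n86542
theorem D181229 : act 2 n86542 = n181229 := rfl
theorem F282285 : act 6 n181229 = n161009 := d3_2 (iv6 F132770) D181229 (iv2 D161009)
def n181230 : Q := act 5 n86542
theorem D181230 : act 5 n86542 = n181230 := rfl
theorem F282286 : act 3 n181230 = n86543 := d6_1 D181230 (iv5 D86543) D86542
def n181231 : Q := act 7 n86542
theorem D181231 : act 7 n86542 = n181231 := rfl
theorem F282287 : act 3 n181231 = n86544 := d8_1 D181231 (iv7 D86544) D86542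
theorem F282288 : act 4 n181231 = n178092 := d11_1 D181231 (iv7 F282172) F282170
def n181232 : Q := act 0 n86543
theorem D181232 : act 0 n86543 = n181232 := rfl
theorem F282289 : act 5 n181232 = n166078 := d17_3 (iv1 D86541) D86543 D181232 F261486 (iv5 D83332) (iv0 F120716) (iv5 F63580) (iv0 F121491) F132769
theorem F282290 : act 1 n166031 = n181232 := d17_6 (iv1 D36314) (iv5 D17534) D17530 D36298 D79713 D166031 F282289 F261485 (iv4 D79737)
def n181233 : Q := act 1 n86543
theorem D181233 : act 1 n86543 = n181233 := rfl
theorem F282291 : act 1 n181233 = n166031 := d15_1 D181233 (iv7 F281850) F281849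
theorem F282292 : act 5 n181233 = n124591 := d17_7 (iv1 F118098) (iv5 D40111) (iv1 D18952) D18953 D40115 D86543 D181233 F199281 (iv4 D79735)
def n181234 : Q := act 4 n86543
theorem D181234 : act 4 n86543 = n181234 := rfl
theorem F282293 : act 5 n181234 = n166028 := d9_2 D86543 D181234 (iv4 D166028) (iv5 D79712) (iv4 D36297) D36298 D79713 D166031 (iv4 F282239) (iv5 D181207) (iv4 D86532) (iv5 D40101) F30262 D18953 D40115
theorem F282294 : act 0 n181234 = n166096 := d18_2 (iv1 D181233) D181234 (iv4 D166096) (iv5 D79741) (iv4 D36315) D36314 D79737 F199282 (iv5 F282292)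
theorem F282295 : act 1 n181234 = n166068 := d18_6 (iv1 F132761) (iv4 D86538) (iv1 D40114) D40115 D86543 D181234 (iv4 F282262) F282265 F261508
def n181235 : Q := act 6 n86543
theorem D181235 : act 6 n86543 = n181235 := rfl
theorem F282296 : act 5 n181235 = n161012 := d12_1 D181235 (iv6 D161012) (iv5 D77266) (iv6 F61005) D86543
def n181236 : Q := act 7 n86543
theorem D181236 : act 7 n86543 = n181236 := rfl
theorem F282297 : act 2 n181236 = n166031 := d4_1 D181236 (iv7 F281850) F281849
theorem F282298 : act 5 n181236 = n86544 := d13_1 D181236 (iv7 D86544) D86543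
def n181237 : Q := act 6 n86544
theorem D181237 : act 6 n86544 = n181237 := rfl
theorem F282300 : act 4 n181237 = n86545 := d10_1 D181237 (iv6 D86545) (iv4 F132772)
def n181243 : Q := act 6 n86548
theorem D181243 : act 6 n86548 = n181243 := rfl
theorem F282310 : act 2 n181243 = n164666 := d3_1 D181243 (iv6 D164666) (iv2 F132783)
theorem F282311 : act 3 n181243 = n86550 := d7_1 D181243 (iv6 D86550) D86548
theorem F282312 : act 4 n181243 = n173459 := d10_1 D181243 (iv6 D173459) (iv4 F132784)
def n181244 : Q := act 6 n86549
theorem D181244 : act 6 n86549 = n181244 := rfl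
theorem F282315 : act 4 n181244 = n86551 := d10_1 D181244 (iv6 D86551) (iv4 F132790)
def n181249 : Q := act 0 n86551
theorem D181249 : act 0 n86551 = n181249 := rfl
theorem F282317 : act 2 n86554 = n181249 := d15_3 (iv0 D181249) (iv0 F264957) F273997
theorem F282318 : act 7 n86555 = n181249 := d15_2 (iv0 D86554) D86555 (iv2 F282317)
theorem F282319 : act 2 n168099 = n86555 := d4_3 F282318 (iv2 F282317) (iv7 F273997)
def n181250 : Q := act 5 n86551
theorem D181250 : act 5 n86551 = n181250 := rfl
theorem F282322 : act 3 n181250 = n160004 := d6_1 D181250 (iv5 D160004) (iv3 F132793)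
def n181251 : Q := act 7 n86551
theorem D181251 : act 7 n86551 = n181251 := rfl
theorem F282325 : act 3 n181251 = n160005 := d8_1 D181251 (iv7 D160005) (iv3 F132793)
theorem F282327 : act 1 n86555 = n181251 := d15_1 D86555 (iv7 D181251) F132792
def n181252 : Q := act 0 n86552
theorem D181252 : act 0 n86552 = n181252 := rfl
theorem F282329 : act 3 n181252 = n119747 := d20_5 (iv4 F117837) (iv1 F121061) (iv4 F88071) (iv3 F132794) D181252 (iv4 D119747) (iv1 F87166) (iv4 F87178) F87177 (iv1 F88040)
def n181267 : Q := act 7 n86556
theorem D181267 : act 7 n86556 = n181267 := rfl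
theorem F282345 : act 3 n181267 = n86564 := d8_1 D181267 (iv7 D86564) (iv3 F132799)
def n181269 : Q := act 5 n86558
theorem D181269 : act 5 n86558 = n181269 := rfl
def n181270 : Q := act 6 n86558
theorem D181270 : act 6 n86558 = n181270 := rfl
theorem F282349 : act 4 n181270 = n88055 := d10_1 D181270 (iv6 D88055) (iv4 F232743)
def n181272 : Q := act 6 n86559
theorem D181272 : act 6 n86559 = n181272 := rfl
theorem F282350 : act 4 n181272 = n88060 := d10_1 D181272 (iv6 D88060) (iv4 F232746)
def n181279 : Q := act 0 n86563
theorem D181279 : act 0 n86563 = n181279 := rfl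
theorem F282353 : act 4 n181279 = n180995 := d18_3 F124751 D86563 D181279 F281805 F254673 (iv0 F249990) (iv4 F149117) (iv0 D80990) D80992
theorem F282356 : act 1 n162860 = n181279 := d18_6 D86442 F132541 (iv1 F61349) F121053 D78291 D162860 F282353 (iv0 D180995) (iv5 D86443)
def n181282 : Q := act 5 n86563
theorem D181282 : act 5 n86563 = n181282 := rfl
theorem F282361 : act 4 n181282 = n162912 := d16_2 D86563 D181282 F257231 (iv4 F121041) F90525 F121053 D78291 F121566 F90514
def n181285 : Q := act 6 n86565
theorem D181285 : act 6 n86565 = n181285 := rfl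
theorem F282368 : act 3 n181285 = n86566 := d7_1 D181285 (iv6 D86566) D86565
theorem F282369 : act 4 n181285 = n170696 := d10_1 D181285 (iv6 D170696) (iv4 F132807)
def n181286 : Q := act 0 n86566
theorem D181286 : act 0 n86566 = n181286 := rfl
def n181287 : Q := act 1 n86566
theorem D181287 : act 1 n86566 = n181287 := rfl
def n181288 : Q := act 5 n86566
theorem D181288 : act 5 n86566 = n181288 := rfl
theorem F282370 : act 6 n181288 = n128133 := d12_2 D86566 D181288 (iv5 D128133) (iv6 D60224) (iv5 F61019)
def n181289 : Q := act 7 n86566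
theorem D181289 : act 7 n86566 = n181289 := rfl
def n181290 : Q := act 0 n86567
theorem D181290 : act 0 n86567 = n181290 := rfl
def n181291 : Q := act 1 n86567
theorem D181291 : act 1 n86567 = n181291 := rfl
def n181292 : Q := act 5 n86567
theorem D181292 : act 5 n86567 = n181292 := rfl
theorem F282371 : act 6 n181292 = n151353 := d12_2 D86567 D181292 (iv5 D151353) (iv6 D71330) (iv5 F61022)
def n181293 : Q := act 7 n86567
theorem D181293 : act 7 n86567 = n181293 := rfl
def n181294 : Q := act 2 n86568
theorem D181294 : act 2 n86568 = n181294 := rfl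
theorem F282372 : act 7 n86569 = n181294 := d15_2 (iv0 D86568) D86569 (iv2 D181294)
def n181295 : Q := act 3 n86568
theorem D181295 : act 3 n86568 = n181295 := rfl
theorem F282373 : act 4 n181295 = n178004 := d20_6 (iv4 F132554) (iv1 D40308) F30581 (iv3 F61023) D86568 D181295 (iv1 D178004) (iv4 F132724) F132723 (iv1 F132552)
def n181299 : Q := act 7 n86568
theorem D181299 : act 7 n86568 = n181299 := rfl
theorem F282374 : act 2 n181299 = n86569 := d4_1 D181299 F282372 (iv2 D181294)
def n181300 : Q := act 3 n86569
theorem D181300 : act 3 n86569 = n181300 := rfl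
def n181301 : Q := act 4 n86569
theorem D181301 : act 4 n86569 = n181301 := rfl
def n181302 : Q := act 5 n86569
theorem D181302 : act 5 n86569 = n181302 := rfl
def n181303 : Q := act 6 n86569
theorem D181303 : act 6 n86569 = n181303 := rfl
def n181307 : Q := act 7 n86570
theorem D181307 : act 7 n86570 = n181307 := rfl
theorem F282377 : act 5 n181307 = n86571 := d13_1 D181307 (iv7 D86571) D86570
def n181308 : Q := act 5 n86572
theorem D181308 : act 5 n86572 = n181308 := rfl
def n181309 : Q := act 6 n86572
theorem D181309 : act 6 n86572 = n181309 := rfl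
theorem F282379 : act 3 n181309 = n164656 := d7_1 D181309 (iv6 D164656) (iv3 F233120)
theorem F282380 : act 4 n181309 = n88007 := d10_1 D181309 (iv6 D88007) (iv4 F233121)
def n181310 : Q := act 3 n86573
theorem D181310 : act 3 n86573 = n181310 := rfl
theorem F282381 : act 2 n181310 = n164657 := d0_1 D181310 (iv3 D164657) (iv2 F259640) F259635 (iv2 F233116)
theorem F282382 : act 4 n181310 = n167000 := d5_2 (iv4 F233117) D181310 (iv3 D167000) (iv4 F155408) (iv3 F155409)
def n181312 : Q := act 6 n86573
theorem D181312 : act 6 n86573 = n181312 := rfl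
theorem F282384 : act 4 n181312 = n88012 := d10_1 D181312 (iv6 D88012) (iv4 F233117)
def n181316 : Q := act 7 n86574
theorem D181316 : act 7 n86574 = n181316 := rfl
theorem F282387 : act 5 n181316 = n86575 := d13_1 D181316 (iv7 D86575) D86574
def n181317 : Q := act 3 n86576
theorem D181317 : act 3 n86576 = n181317 := rfl
theorem F282388 : act 5 n181317 = n150641 := d6_2 (iv5 F132817) D181317 F237185
theorem F282389 : act 7 n181317 = n150640 := d8_2 F194649 D181317 F237182
theorem F282390 : act 0 n86582 = n181317 := d17_2 (iv1 F131634) D86582 F282388 F237186 F107563 (iv0 F190056) (iv5 D40228) (iv0 F190023) D70113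
theorem F282391 : act 1 n166049 = n181317 := d15_0 (iv0 F282390) (iv7 F234760) (iv2 F261448)
def n181321 : Q := act 0 n86578
theorem D181321 : act 0 n86578 = n181321 := rfl
theorem F282394 : act 4 n181321 = n181002 := d18_3 (iv1 D86577) D86578 D181321 F281826 F281568 F196399 F125516 F194200 F132819
theorem F282395 : act 2 n181199 = n181321 := d1_3 F282394 (iv2 F281828) D181199
theorem F282397 : act 1 n166046 = n181321 := d18_6 D86444 F132548 (iv1 F64934) F120912 D79721 D166046 F282394 (iv0 D181002) (iv5 D86446)
def n181322 : Q := act 1 n86578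
theorem D181322 : act 1 n86578 = n181322 := rfl
theorem F282399 : act 7 n181322 = n181199 := d15_2 (iv0 D181321) D181322 F282395
theorem F282400 : act 4 n181322 = n181003 := d18_7 (iv1 F132552) (iv4 F132554) (iv1 D40308) F30581 D40134 D86578 D181322 F281830 F132741
theorem F282401 : act 2 n181202 = n181322 := d1_3 F282400 (iv2 F281833) D181202
def n181323 : Q := act 3 n86578
theorem D181323 : act 3 n86578 = n181323 := rfl
def n181324 : Q := act 5 n86578
theorem D181324 : act 5 n86578 = n181324 := rfl
theorem F282402 : act 4 n181324 = n166095 := d16_2 D86578 D181324 F261508 (iv4 F135354) F135355 F120912 D79721 (iv7 F132571) F132570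
def n181325 : Q := act 7 n86578
theorem D181325 : act 7 n86578 = n181325 := rfl
theorem F282404 : act 4 n181325 = n86579 := d11_1 D181325 (iv7 D86579) D86578
theorem F282405 : act 1 n181202 = n181325 := d15_1 (iv0 F282232) (iv7 D181325) (iv2 F281859)
theorem F282406 : act 1 n181325 = n181199 := d15_1 F282405 (iv7 F282399) (iv2 F282401)
def n181327 : Q := act 0 n86580
theorem D181327 : act 0 n86580 = n181327 := rfl
def n181328 : Q := act 1 n86580
theorem D181328 : act 1 n86580 = n181328 := rfl
theorem F282412 : act 4 n176963 = n181328 := d20_6 (iv4 D32695) (iv1 F41969) (iv4 F85931) (iv3 F185622) (iv1 F185625) D176963 (iv1 D181328) F132825 (iv3 D55141) F53204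
def n181330 : Q := act 0 n86581
theorem D181330 : act 0 n86581 = n181330 := rfl
theorem F282417 : act 1 n162862 = n181330 := d15_0 (iv0 D181330) (iv7 F235774) (iv2 F257156)
def n181331 : Q := act 4 n86581
theorem D181331 : act 4 n86581 = n181331 := rfl
def n181332 : Q := act 1 n86582
theorem D181332 : act 1 n86582 = n181332 := rfl
theorem F282420 : act 1 n181332 = n166049 := d15_1 D181332 F261449 F162814
theorem F282421 : act 5 n150628 = n181332 := d21_6 D18964 D40141 F61039 D69818 F185044 D150628 (iv1 D181332) (iv5 D86582) (iv6 D40138) (iv1 D18962)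
theorem F282422 : act 2 n181332 = n150640 := d2_1 F282421 (iv5 D150640) (iv2 F237168)
def n181334 : Q := act 0 n86583
theorem D181334 : act 0 n86583 = n181334 := rfl
def n181335 : Q := act 1 n86583
theorem D181335 : act 1 n86583 = n181335 := rfl
def n181336 : Q := act 5 n86583
theorem D181336 : act 5 n86583 = n181336 := rfl
def n181337 : Q := act 7 n86583
theorem D181337 : act 7 n86583 = n181337 := rfl
def n181338 : Q := act 4 n86584
theorem D181338 : act 4 n86584 = n181338 := rfl
theorem F282432 : act 2 n181338 = n86599 := d1_1 D181338 (iv4 D86599) (iv2 F132830)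
def n181340 : Q := act 1 n86585
theorem D181340 : act 1 n86585 = n181340 := rfl
theorem F282434 : act 3 n86603 = n181340 := d20_3 F151199 (iv1 F74433) (iv4 F232369) (iv1 D181340) F132832 (iv4 F128211) D173872 (iv4 F272523) (iv3 D165250) (iv1 F151203)
theorem F282436 : act 4 n181340 = n149814 := d20_6 (iv4 D16386) D16383 D33881 D73737 (iv1 F232367) F282434 (iv1 D149814) (iv4 F110127) F110126 F109937
def n181343 : Q := act 0 n86586
theorem D181343 : act 0 n86586 = n181343 := rfl
def n181344 : Q := act 1 n86586
theorem D181344 : act 1 n86586 = n181344 := rfl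
def n181345 : Q := act 5 n86586
theorem D181345 : act 5 n86586 = n181345 := rfl
def n181346 : Q := act 7 n86586
theorem D181346 : act 7 n86586 = n181346 := rfl
def n181347 : Q := act 2 n86587
theorem D181347 : act 2 n86587 = n181347 := rfl
def n181349 : Q := act 4 n86587
theorem D181349 : act 4 n86587 = n181349 := rfl
def n181350 : Q := act 5 n86587
theorem D181350 : act 5 n86587 = n181350 := rfl
def n181351 : Q := act 6 n86587
theorem D181351 : act 6 n86587 = n181351 := rfl
def n181352 : Q := act 7 n86587
theorem D181352 : act 7 n86587 = n181352 := rfl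
def n181358 : Q := act 1 n86589
theorem D181358 : act 1 n86589 = n181358 := rfl
def n181359 : Q := act 4 n86589
theorem D181359 : act 4 n86589 = n181359 := rfl
theorem F282453 : act 6 n181359 = n86599 := d10_2 (iv6 F132835) D181359 (iv4 D86599)
def n181364 : Q := act 6 n86591
theorem D181364 : act 6 n86591 = n181364 := rfl
theorem F282458 : act 3 n181364 = n86593 := d7_1 D181364 (iv6 D86593) D86591
theorem F282459 : act 4 n181364 = n179491 := d10_1 D181364 F279442 (iv4 F201301)
def n181365 : Q := act 0 n86592
theorem D181365 : act 0 n86592 = n181365 := rfl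
theorem F282460 : act 5 n181365 = n150354 := d17_3 D40144 D86592 D181365 F236646 (iv5 F131490) F191303 (iv5 D40234) (iv0 D18998) (iv4 F30283)
theorem F282461 : act 1 n86595 = n181365 := d15_0 (iv0 D181365) (iv7 F279581) F279580
theorem F282462 : act 2 n150365 = n181365 := d2_3 F282460 F236645 D150365
def n181366 : Q := act 1 n86592
theorem D181366 : act 1 n86592 = n181366 := rfl
theorem F282464 : act 1 n181366 = n86595 := d15_1 D181366 F132842 (iv2 F132837)
theorem F282465 : act 7 n181366 = n150365 := d15_2 (iv0 D181365) D181366 F282462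
def n181369 : Q := act 5 n86593
theorem D181369 : act 5 n86593 = n181369 := rfl
theorem F282471 : act 2 n181369 = n150295 := d2_1 D181369 (iv5 F236522) (iv2 F132838)
theorem F282472 : act 7 n181369 = n150294 := d13_2 (iv7 F234763) D181369 F236521
theorem F282473 : act 0 n181369 = n150275 := d17_2 F200231 D181369 (iv5 D150275) F107227 D70758 (iv0 F133092) (iv5 D86788) (iv0 F191198) D85804
def n181370 : Q := act 2 n86594
theorem D181370 : act 2 n86594 = n181370 := rfl
theorem F282475 : act 4 n181370 = n173898 := d1_2 (iv4 F132840) D181370 F272543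
theorem F282477 : act 1 n181370 = n173597 := d15_0 F274328 (iv7 F132841) D181370
theorem F282478 : act 1 n173602 = n181370 := d15_0 F282477 F274324 F274319
def n181371 : Q := act 5 n86594
theorem D181371 : act 5 n86594 = n181371 := rfl
theorem F282479 : act 3 n181371 = n86595 := d6_1 D181371 (iv5 D86595) D86594
def n181373 : Q := act 4 n86595
theorem D181373 : act 4 n86595 = n181373 := rfl
def n181374 : Q := act 6 n86595
theorem D181374 : act 6 n86595 = n181374 := rfl
def n181378 : Q := act 3 n86598
theorem D181378 : act 3 n86598 = n181378 := rfl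
def n181379 : Q := act 4 n86598
theorem D181379 : act 4 n86598 = n181379 := rfl
def n181380 : Q := act 6 n86598
theorem D181380 : act 6 n86598 = n181380 := rfl
def n181381 : Q := act 0 n86599
theorem D181381 : act 0 n86599 = n181381 := rfl
def n181382 : Q := act 1 n86599
theorem D181382 : act 1 n86599 = n181382 := rfl
def n181383 : Q := act 3 n86599
theorem D181383 : act 3 n86599 = n181383 := rfl
def n181384 : Q := act 5 n86599
theorem D181384 : act 5 n86599 = n181384 := rfl
def n181385 : Q := act 6 n86600
theorem D181385 : act 6 n86600 = n181385 := rfl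
theorem F282486 : act 3 n181385 = n87545 := d7_1 D181385 (iv6 D87545) (iv3 F132845)
def n181389 : Q := act 3 n86602
theorem D181389 : act 3 n86602 = n181389 := rfl
theorem F282502 : act 4 n181389 = n158383 := d5_2 (iv4 F232373) D181389 (iv3 D158383) (iv4 F184700) (iv3 F184701)
def n181395 : Q := act 1 n86604
theorem D181395 : act 1 n86604 = n181395 := rfl
theorem F282507 : act 5 n181309 = n181395 := d21_6 (iv5 F30179) F30181 D18959 D40131 D86572 D181309 (iv1 D181395) (iv5 D86604) (iv6 D40148) (iv1 F30286)
def n181397 : Q := act 7 n86604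
theorem D181397 : act 7 n86604 = n181397 := rfl
theorem F282509 : act 2 n181397 = n155249 := d4_1 D181397 F244157 F156048
theorem F282510 : act 5 n181397 = n86605 := d13_1 D181397 (iv7 D86605) D86604
def n181398 : Q := act 5 n86606
theorem D181398 : act 5 n86606 = n181398 := rfl
def n181399 : Q := act 6 n86606
theorem D181399 : act 6 n86606 = n181399 := rfl
def n181400 : Q := act 3 n86607
theorem D181400 : act 3 n86607 = n181400 := rfl
theorem F282515 : act 2 n181400 = n165029 := d0_1 D181400 (iv3 D165029) (iv2 F260240) F260235 (iv2 F232508)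
theorem F282516 : act 4 n181400 = n158420 := d5_2 (iv4 F232509) D181400 (iv3 D158420) (iv4 F155419) (iv3 F155420)
theorem F282517 : act 7 n181400 = n175424 := d8_2 (iv7 F232510) D181400 F274499
def n181401 : Q := act 5 n86607
theorem D181401 : act 5 n86607 = n181401 := rfl
def n181402 : Q := act 6 n86607
theorem D181402 : act 6 n86607 = n181402 := rfl
theorem F282518 : act 4 n181402 = n88085 := d10_1 D181402 (iv6 D88085) (iv4 F232509)
def n181404 : Q := act 1 n86608
theorem D181404 : act 1 n86608 = n181404 := rfl
theorem F282519 : act 5 n181270 = n181404 := d21_6 (iv5 D8888) D8885 D18956 D40123 D86558 D181270 (iv1 D181404) (iv5 D86608) (iv6 D40149) (iv1 D18967)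
def n181409 : Q := act 3 n86610
theorem D181409 : act 3 n86610 = n181409 := rfl
theorem F282525 : act 7 n181409 = n86616 := d8_2 F132856 D181409 (iv3 D86616)
def n181410 : Q := act 4 n86610
theorem D181410 : act 4 n86610 = n181410 := rfl
theorem F282526 : act 2 n181410 = n86612 := d1_1 D181410 (iv4 D86612) D86610
theorem F282527 : act 7 n181410 = n86617 := d11_2 F132856 D181410 (iv4 D86617)
def n181411 : Q := act 5 n86610
theorem D181411 : act 5 n86610 = n181411 := rfl
theorem F282528 : act 2 n181411 = n86613 := d2_1 D181411 (iv5 D86613) D86610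
theorem F282529 : act 7 n181411 = n86618 := d13_2 F132856 D181411 (iv5 D86618)
def n181412 : Q := act 6 n86610
theorem D181412 : act 6 n86610 = n181412 := rfl
theorem F282530 : act 2 n181412 = n86614 := d3_1 D181412 (iv6 D86614) D86610
def n181420 : Q := act 0 n86612
theorem D181420 : act 0 n86612 = n181420 := rfl
def n181421 : Q := act 1 n86612
theorem D181421 : act 1 n86612 = n181421 := rfl
theorem F282534 : act 1 n181421 = n86617 := d15_1 D181421 (iv7 F282527) F282526
def n181422 : Q := act 5 n86612
theorem D181422 : act 5 n86612 = n181422 := rfl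
def n181423 : Q := act 6 n86612
theorem D181423 : act 6 n86612 = n181423 := rfl
theorem F282535 : act 4 n181423 = n86614 := d10_1 D181423 (iv6 D86614) D86612
def n181424 : Q := act 7 n86612
theorem D181424 : act 7 n86612 = n181424 := rfl
theorem F282536 : act 2 n181424 = n86617 := d4_1 D181424 (iv7 F282527) F282526
theorem F282538 : act 1 n86617 = n181420 := d15_0 (iv0 D181420) D181424 F282536
def n181425 : Q := act 0 n86613
theorem D181425 : act 0 n86613 = n181425 := rfl
theorem F282539 : act 5 n181425 = n181312 := d21_2 D86613 D181425 (iv6 D181312) (iv1 D86573) (iv6 D40131) (iv5 D18959) (iv1 D8886) D8888 D18968 D40150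
def n181426 : Q := act 1 n86613
theorem D181426 : act 1 n86613 = n181426 := rfl
def n181427 : Q := act 4 n86613
theorem D181427 : act 4 n86613 = n181427 := rfl
def n181428 : Q := act 6 n86613
theorem D181428 : act 6 n86613 = n181428 := rfl
def n181429 : Q := act 7 n86613
theorem D181429 : act 7 n86613 = n181429 := rfl
theorem F282541 : act 2 n181429 = n86618 := d4_1 D181429 (iv7 F282529) F282528
theorem F282543 : act 1 n86618 = n181425 := d15_0 (iv0 D181425) D181429 F282541
def n181430 : Q := act 0 n86614
theorem D181430 : act 0 n86614 = n181430 := rfl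
def n181431 : Q := act 1 n86614
theorem D181431 : act 1 n86614 = n181431 := rfl
def n181432 : Q := act 5 n86614
theorem D181432 : act 5 n86614 = n181432 := rfl
theorem F282544 : act 0 n181432 = n86959 := d21_7 (iv5 D18959) (iv1 D8886) D8888 D18968 D40150 D86614 D181432 (iv5 D86959) (iv6 D40376) F30637
theorem F282545 : act 1 n181432 = n167666 := d15_1 (iv0 F282544) (iv7 D167666) (iv2 F133481)
def n181433 : Q := act 7 n86614
theorem D181433 : act 7 n86614 = n181433 := rfl
def n181441 : Q := act 3 n86617
theorem D181441 : act 3 n86617 = n181441 := rfl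
def n181442 : Q := act 5 n86617
theorem D181442 : act 5 n86617 = n181442 := rfl
def n181443 : Q := act 6 n86617
theorem D181443 : act 6 n86617 = n181443 := rfl
theorem F282549 : act 4 n181443 = n86619 := d10_1 D181443 (iv6 D86619) D86617
def n181448 : Q := act 5 n86619
theorem D181448 : act 5 n86619 = n181448 := rfl
theorem F282550 : act 0 n181269 = n181448 := d21_1 D181269 (iv5 D181448) (iv6 D86619) (iv1 D40151) (iv6 D18968) (iv5 D8888) D8885 D18956 D40123 D86558
def n181450 : Q := act 2 n86620
theorem D181450 : act 2 n86620 = n181450 := rfl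
theorem F282551 : act 7 n86621 = n181450 := d15_2 (iv0 D86620) D86621 (iv2 D181450)
def n181455 : Q := act 7 n86620
theorem D181455 : act 7 n86620 = n181455 := rfl
theorem F282552 : act 2 n181455 = n86621 := d4_1 D181455 F282551 (iv2 D181450)
def n181458 : Q := act 5 n86621
theorem D181458 : act 5 n86621 = n181458 := rfl
theorem F282553 : act 6 n181458 = n89212 := d21_3 (iv5 F156086) (iv1 F156088) D181458 (iv1 F136941) (iv6 F123692) (iv5 F263954) (iv1 F282545) (iv5 D181432) (iv6 D86614) (iv1 F74461)
def n181465 : Q := act 6 n86623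
theorem D181465 : act 6 n86623 = n181465 := rfl
def n181474 : Q := act 4 n86626
theorem D181474 : act 4 n86626 = n181474 := rfl
def n181479 : Q := act 4 n86627
theorem D181479 : act 4 n86627 = n181479 := rfl
theorem F282565 : act 2 n181479 = n88124 := d1_1 D181479 (iv4 D88124) (iv2 F132867)
theorem F282566 : act 6 n181479 = n86673 := d10_2 (iv6 F132868) D181479 (iv4 D86673)
def n181482 : Q := act 6 n86628
theorem D181482 : act 6 n86628 = n181482 := rfl
theorem F282570 : act 3 n181482 = n175864 := d7_1 D181482 (iv6 D175864) (iv3 F132869)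
def n181483 : Q := act 3 n86629
theorem D181483 : act 3 n86629 = n181483 := rfl
theorem F282571 : act 2 n181483 = n175852 := d0_1 D181483 (iv3 D175852) F274319 (iv3 F281879) F281889
def n181491 : Q := act 6 n86631
theorem D181491 : act 6 n86631 = n181491 := rfl
theorem F282581 : act 3 n181491 = n120787 := d7_1 D181491 (iv6 D120787) (iv3 F132870)
theorem F282585 : act 0 n181491 = n154921 := d20_4 F259956 (iv1 F129041) (iv4 F192632) (iv3 F282581) F243616 F110172 (iv1 F232533) (iv4 F200657) F200656 (iv1 F259960)
def n181501 : Q := act 4 n86634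
theorem D181501 : act 4 n86634 = n181501 := rfl
theorem F282595 : act 1 n181501 = n86683 := d18_6 (iv1 D167705) F123704 (iv1 F118527) (iv4 F132486) (iv5 F132875) D181501 (iv4 D86683) D86682 F263990
def n181514 : Q := act 2 n86641
theorem D181514 : act 2 n86641 = n181514 := rfl
theorem F282609 : act 7 n86642 = n181514 := d15_2 (iv0 D86641) D86642 (iv2 D181514)
def n181515 : Q := act 3 n86641
theorem D181515 : act 3 n86641 = n181515 := rfl
theorem F282610 : act 4 n181515 = n170707 := d20_6 F132603 (iv1 F116731) F44362 D40158 D86641 D181515 (iv1 D170707) (iv4 F132607) (iv3 D86471) D86470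
def n181518 : Q := act 7 n86641
theorem D181518 : act 7 n86641 = n181518 := rfl
theorem F282611 : act 2 n181518 = n86642 := d4_1 D181518 F282609 (iv2 D181514)
def n181519 : Q := act 3 n86642
theorem D181519 : act 3 n86642 = n181519 := rfl
def n181520 : Q := act 5 n86642
theorem D181520 : act 5 n86642 = n181520 := rfl
def n181521 : Q := act 6 n86642
theorem D181521 : act 6 n86642 = n181521 := rfl
def n181523 : Q := act 6 n86643
theorem D181523 : act 6 n86643 = n181523 := rfl
theorem F282613 : act 2 n181523 = n86645 := d3_1 D181523 (iv6 D86645) D86643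
def n181527 : Q := act 6 n86644
theorem D181527 : act 6 n86644 = n181527 := rfl
theorem F282614 : act 3 n181527 = n86647 := d7_1 D181527 (iv6 D86647) (iv3 F132892)
def n181528 : Q := act 0 n86645
theorem D181528 : act 0 n86645 = n181528 := rfl
def n181529 : Q := act 1 n86645
theorem D181529 : act 1 n86645 = n181529 := rfl
def n181531 : Q := act 6 n86646
theorem D181531 : act 6 n86646 = n181531 := rfl
theorem F282615 : act 4 n181531 = n86647 := d10_1 D181531 (iv6 D86647) D86646
def n181532 : Q := act 0 n86647
theorem D181532 : act 0 n86647 = n181532 := rfl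
def n181533 : Q := act 1 n86647
theorem D181533 : act 1 n86647 = n181533 := rfl
def n181534 : Q := act 7 n86647
theorem D181534 : act 7 n86647 = n181534 := rfl
def n181558 : Q := act 5 n86657
theorem D181558 : act 5 n86657 = n181558 := rfl
theorem F282632 : act 2 n181558 = n167673 := d2_1 D181558 (iv5 F281906) F281905
theorem F282633 : act 6 n181558 = n160340 := d12_2 D86657 D181558 (iv5 D160340) (iv6 F132898) (iv5 D86656)
def n181574 : Q := act 4 n86664
theorem D181574 : act 4 n86664 = n181574 := rfl
theorem F282638 : act 7 n181574 = n86673 := d11_2 (iv7 F132907) D181574 (iv4 D86673)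
def n181588 : Q := act 3 n86671
theorem D181588 : act 3 n86671 = n181588 := rfl
theorem F282648 : act 5 n181588 = n167887 := d6_2 F193990 D181588 (iv3 D167887)
def n181589 : Q := act 4 n86671
theorem D181589 : act 4 n86671 = n181589 := rfl
theorem F282649 : act 1 n181589 = n181079 := d18_6 F125705 F125704 D81782 F193988 F193990 D181589 (iv4 D181079) (iv0 F254647) (iv5 D161093)
def n181590 : Q := act 6 n86671
theorem D181590 : act 6 n86671 = n181590 := rfl
def n181591 : Q := act 3 n86672
theorem D181591 : act 3 n86672 = n181591 := rfl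
def n181592 : Q := act 4 n86672
theorem D181592 : act 4 n86672 = n181592 := rfl
def n181593 : Q := act 6 n86672
theorem D181593 : act 6 n86672 = n181593 := rfl
def n181594 : Q := act 0 n86673
theorem D181594 : act 0 n86673 = n181594 := rfl
theorem F282653 : act 4 n181594 = n167900 := d18_3 (iv1 D86672) D86673 D181594 (iv5 D167900) (iv4 D80584) (iv0 D36772) (iv4 F57662) D80575 F132912
def n181595 : Q := act 1 n86673
theorem D181595 : act 1 n86673 = n181595 := rfl
theorem F282654 : act 4 n181595 = n167902 := d18_7 (iv1 F132643) (iv4 D40211) (iv1 D18987) (iv4 F30302) D40168 D86673 D181595 F282022 F282021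
def n181596 : Q := act 3 n86673
theorem D181596 : act 3 n86673 = n181596 := rfl
def n181597 : Q := act 5 n86673
theorem D181597 : act 5 n86673 = n181597 := rfl
def n181604 : Q := act 3 n86676
theorem D181604 : act 3 n86676 = n181604 := rfl
theorem F282668 : act 7 n181604 = n124078 := d8_2 (iv7 F275620) D181604 (iv3 F198480)
theorem F282669 : act 4 n181604 = n123171 := d20_6 F13856 D8891 D18977 D40180 D86676 D181604 (iv1 D123171) F90494 (iv3 D40158) (iv1 D18971)
theorem E24902 : n124071 = n123171 := ((c11_2 (iv7 F282668) F282669 (iv7 F198474) D124078)).symm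
theorem F282671 : act 2 n123171 = n57815 := (sb E24902 (iv2 D124071))
theorem F282672 : act 7 n123171 = n57816 := (sb E24902 (iv7 F198474))
def n181605 : Q := act 5 n86676
theorem D181605 : act 5 n86676 = n181605 := rfl
def n181617 : Q := act 1 n86680
theorem D181617 : act 1 n86680 = n181617 := rfl
theorem F282693 : act 4 n176414 = n181617 := d20_6 (iv4 D38754) (iv1 D18427) D18428 D38758 D84114 D176414 (iv1 D181617) F132925 F127957 (iv1 F59541)
theorem F282694 : act 0 n178632 = n176414 := d20_10 F282693 (iv1 D181617) F132925 F127957 (iv1 F59541) D84107 F129104 (iv1 F130329) (iv4 F130430) (iv3 F278425)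
theorem F282695 : act 1 n178625 = n176414 := d15_0 (iv0 F282694) (iv7 D178632) (iv2 F278421)
def n181629 : Q := act 5 n86684
theorem D181629 : act 5 n86684 = n181629 := rfl
theorem F282708 : act 6 n181629 = n86686 := d12_2 D86684 D181629 (iv5 D86686) (iv6 D40182) D40181
def n181639 : Q := act 1 n86689
theorem D181639 : act 1 n86689 = n181639 := rfl
theorem F282733 : act 4 n178629 = n181639 := d20_0 (iv1 D181639) (iv4 F272067) F272066 (iv1 F127975) (iv3 F130280) F128785 (iv1 D39353) (iv4 F60310) (iv3 F130427) D178629
theorem E24904 : n178629 = n176335 := ((c20_6 F59476 (iv1 D18432) (iv4 F29585) (iv3 F59518) D84085 D176335 F282733 (iv1 D181639) (iv4 F272067) F272066 (iv1 F127975))).symm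
theorem F282734 : act 1 n176335 = n85083 := (sb E24904 (iv0 D178629))
theorem F282735 : act 4 n176335 = n181639 := (sb E24904 F282733)
def n181643 : Q := act 0 n86692
theorem D181643 : act 0 n86692 = n181643 := rfl
theorem F282742 : act 3 n181643 = n101567 := d20_5 D39707 F61172 D40195 D86692 D181643 F156470 (iv1 D85568) (iv4 F92414) (iv3 D58498) (iv1 F44945)
theorem F282743 : act 1 n170708 = n181643 := d15_0 (iv0 D181643) F132949 D170708
def n181644 : Q := act 1 n86692
theorem D181644 : act 1 n86692 = n181644 := rfl
def n181645 : Q := act 2 n86692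
theorem D181645 : act 2 n86692 = n181645 := rfl
theorem F282744 : act 3 n181645 = n89108 := d0_2 D86692 D181645 (iv2 F155177) (iv3 D81840) F117233
theorem F282746 : act 7 n181645 = n170708 := d4_2 (iv7 F132949) D181645 (iv2 D170708)
theorem F282747 : act 1 n181645 = n170706 := d15_0 (iv0 D170706) (iv7 F132949) D181645
theorem F282748 : act 1 n181644 = n170708 := d15_1 D181644 (iv7 F282746) (iv2 D181645)
theorem F282749 : act 1 n170707 = n181645 := d15_1 D170707 F282746 (iv2 D170708)
def n181646 : Q := act 5 n86692
theorem D181646 : act 5 n86692 = n181646 := rfl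
def n181647 : Q := act 6 n86692
theorem D181647 : act 6 n86692 = n181647 := rfl
theorem F282753 : act 4 n181647 = n86699 := d10_1 D181647 (iv6 D86699) (iv4 F132948)
def n181648 : Q := act 6 n86693
theorem D181648 : act 6 n86693 = n181648 := rfl
theorem F282755 : act 2 n181648 = n170717 := d3_1 D181648 (iv6 D170717) (iv2 F132950)
def n181651 : Q := act 6 n86697
theorem D181651 : act 6 n86697 = n181651 := rfl
theorem F282758 : act 2 n181651 = n86699 := d3_1 D181651 (iv6 D86699) D86697
def n181656 : Q := act 0 n86699
theorem D181656 : act 0 n86699 = n181656 := rfl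
def n181657 : Q := act 1 n86699
theorem D181657 : act 1 n86699 = n181657 := rfl
def n181658 : Q := act 5 n86699
theorem D181658 : act 5 n86699 = n181658 := rfl
def n181667 : Q := act 1 n86704
theorem D181667 : act 1 n86704 = n181667 := rfl
theorem F282766 : act 3 n178618 = n181667 := d20_3 F234762 (iv1 F227741) D178618 (iv1 D181667) (iv3 D86704) (iv4 D40201) F118534 (iv4 F88934) (iv3 F106498) D149333
def n181675 : Q := act 6 n86706
theorem D181675 : act 6 n86706 = n181675 := rfl
theorem F282780 : act 3 n181675 = n86708 := d7_1 D181675 (iv6 D86708) D86706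
theorem F282782 : act 7 n162921 = n181675 := d8_0 F282780 (iv7 F132971) D162921
def n181676 : Q := act 1 n86707
theorem D181676 : act 1 n86707 = n181676 := rfl
theorem F282783 : act 1 n181676 = n86714 := d15_1 D181676 (iv7 F281520) F281519
theorem F282785 : act 5 n181676 = n161092 := d17_7 (iv1 F123854) (iv5 F123919) (iv1 F123921) (iv5 D40207) D40206 D86707 D181676 (iv0 F264460) (iv4 D167856)
def n181679 : Q := act 1 n86709
theorem D181679 : act 1 n86709 = n181679 := rfl
theorem F282786 : act 1 n181679 = n86716 := d15_1 D181679 (iv7 F264553) F264551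
theorem F282787 : act 4 n181679 = n124172 := d18_7 (iv1 D40557) (iv4 F61684) F126126 (iv4 D40206) D40207 D86709 D181679 F198636 (iv5 D87305)
def n181680 : Q := act 3 n86709
theorem D181680 : act 3 n86709 = n181680 := rfl
def n181681 : Q := act 5 n86709
theorem D181681 : act 5 n86709 = n181681 := rfl
def n181682 : Q := act 6 n86709
theorem D181682 : act 6 n86709 = n181682 := rfl
theorem F282791 : act 4 n181682 = n86710 := d10_1 D181682 (iv6 D86710) D86709
theorem F282792 : act 7 n166331 = n181682 := d11_0 F282791 F140920 D166331
def n181683 : Q := act 4 n86711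
theorem D181683 : act 4 n86711 = n181683 := rfl
theorem F282794 : act 6 n181683 = n162166 := d10_2 F132980 D181683 (iv4 D162166)
theorem F282796 : act 1 n181683 = n124411 := d18_6 F124340 (iv4 F89557) (iv1 F89560) F124379 D86711 D181683 F198962 (iv0 F124342) (iv5 D27890)
theorem F282797 : act 0 n181683 = n125281 := d20_1 D181683 (iv4 D125281) D125280 (iv1 F201476) (iv3 F194369) (iv4 F256455) (iv1 D162018) F117637 (iv3 F117627) F132979
theorem F282798 : act 5 n170822 = n181683 := d17_7 F91768 (iv5 D37497) (iv1 D17999) D18000 D37501 D81895 D170822 F282796 F198962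
def n181684 : Q := act 5 n86713
theorem D181684 : act 5 n86713 = n181684 := rfl
theorem F282799 : act 3 n181684 = n86714 := d6_1 D181684 (iv5 D86714) D86713
def n181686 : Q := act 4 n86714
theorem D181686 : act 4 n86714 = n181686 := rfl
def n181687 : Q := act 6 n86714
theorem D181687 : act 6 n86714 = n181687 := rfl
def n181689 : Q := act 3 n86716
theorem D181689 : act 3 n86716 = n181689 := rfl
def n181690 : Q := act 5 n86716
theorem D181690 : act 5 n86716 = n181690 := rfl
def n181691 : Q := act 6 n86716
theorem D181691 : act 6 n86716 = n181691 := rfl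
theorem F282808 : act 4 n181691 = n86717 := d10_1 D181691 (iv6 D86717) D86716
theorem F282810 : act 0 n161006 = n181691 := d18_2 (iv1 F258407) (iv4 F254517) F282808 F132993 D168897 F281734 F281732 F270895 F267160
def n181692 : Q := act 3 n86718
theorem D181692 : act 3 n86718 = n181692 := rfl
theorem F282813 : act 0 n181692 = n163513 := d20_4 F56453 (iv1 F61355) (iv4 F132999) D181692 (iv3 D163513) (iv4 D78576) (iv1 D35793) (iv4 F56455) (iv3 D35786) D35784
def n181693 : Q := act 6 n86718
theorem D181693 : act 6 n86718 = n181693 := rfl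
theorem F282815 : act 4 n181693 = n86870 := d10_1 D181693 (iv6 D86870) (iv4 F132999)
theorem F282817 : act 0 n181693 = n91698 := d20_7 (iv4 F249049) (iv1 F249050) (iv4 D92187) D92186 (iv1 F192851) (iv3 F133274) (iv4 F282815) (iv4 D91698) F135976 (iv1 F135981)
def n181694 : Q := act 0 n86719
theorem D181694 : act 0 n86719 = n181694 := rfl
theorem F282818 : act 5 n181694 = n102931 := d19_1 D181694 (iv4 D102931) F75009 F36027 (iv5 D20367) (iv4 D9652) F6253 (iv1 F3378) (iv5 D2075) (iv4 F1913) (iv3 F2918) (iv1 F2919) F1716 (iv4 F2937) (iv3 F5919) D8895 D18988 D40214 D86719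
theorem F282819 : act 1 n163432 = n181694 := d15_0 (iv0 D181694) F133002 D163432
def n181695 : Q := act 1 n86719
theorem D181695 : act 1 n86719 = n181695 := rfl
def n181696 : Q := act 2 n86719
theorem D181696 : act 2 n86719 = n181696 := rfl
theorem F282820 : act 3 n181696 = n161009 := d0_2 D86719 D181696 (iv2 D161009) (iv3 D77265) (iv2 F61197)
theorem F282821 : act 4 n181696 = n88756 := d1_2 (iv4 F133001) D181696 (iv2 D88756)
theorem F282822 : act 7 n181696 = n163432 := d4_2 (iv7 F133002) D181696 (iv2 D163432)
theorem F282823 : act 1 n181696 = n163430 := d15_0 (iv0 D163430) (iv7 F133002) D181696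
theorem F282824 : act 1 n181695 = n163432 := d15_1 D181695 (iv7 F282822) (iv2 D181696)
theorem F282825 : act 1 n163431 = n181696 := d15_1 D163431 F282822 (iv2 D163432)
def n181697 : Q := act 5 n86719
theorem D181697 : act 5 n86719 = n181697 := rfl
theorem F282826 : act 3 n181697 = n86720 := d6_1 D181697 (iv5 D86720) D86719
theorem F282827 : act 7 n181697 = n163433 := d13_2 (iv7 F133002) D181697 (iv5 D163433)
def n181698 : Q := act 6 n86720
theorem D181698 : act 6 n86720 = n181698 := rfl
theorem F282828 : act 2 n181698 = n161012 := d3_1 D181698 (iv6 D161012) (iv2 F133003)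
def n181699 : Q := act 0 n86721
theorem D181699 : act 0 n86721 = n181699 := rfl
theorem F282830 : act 1 n161009 = n181699 := d15_0 (iv0 D181699) F133006 D161009
def n181700 : Q := act 1 n86721
theorem D181700 : act 1 n86721 = n181700 := rfl
theorem F282831 : act 3 n163502 = n181700 := d20_3 (iv4 F140954) (iv1 F258192) (iv4 F258255) (iv1 D181700) (iv3 D86721) (iv4 D40215) F30316 D20252 D42869 D91688
theorem F282832 : act 4 n157918 = n181700 := d20_6 (iv4 D34442) (iv1 D16706) D16707 D34446 D75229 D157918 (iv1 D181700) (iv4 F248790) (iv3 D157869) (iv1 F112760)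
theorem F282833 : act 7 n181700 = n161008 := d11_2 F280773 F282832 (iv4 F280772)
theorem F282834 : act 2 n161008 = n181699 := d15_3 (iv0 D181699) D181700 F282833
theorem F282835 : act 2 n181700 = n161007 := d15_3 (iv0 D161007) D161008 (iv7 F282833)
theorem F282836 : act 7 n161007 = n181699 := d4_2 (iv7 F282833) F282835 (iv2 F282834)
theorem F282837 : act 1 n181700 = n161009 := d15_0 F282830 (iv7 F282836) (iv2 F282835)
def n181701 : Q := act 2 n86721
theorem D181701 : act 2 n86721 = n181701 := rfl
theorem F282838 : act 3 n181701 = n163432 := d0_2 D86721 D181701 (iv2 D163432) (iv3 D78542) (iv2 F61199)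
theorem F282839 : act 7 n181701 = n161009 := d4_2 (iv7 F133006) D181701 (iv2 D161009)
theorem F282840 : act 1 n181701 = n161007 := d15_0 (iv0 D161007) (iv7 F133006) D181701
theorem F282841 : act 1 n161008 = n181701 := d15_0 F282840 F282836 (iv2 F282834)
def n181702 : Q := act 5 n86721
theorem D181702 : act 5 n86721 = n181702 := rfl
theorem F282842 : act 3 n181702 = n86722 := d6_1 D181702 (iv5 D86722) D86721
theorem F282843 : act 7 n181702 = n161010 := d13_2 (iv7 F133006) D181702 (iv5 D161010)
def n181703 : Q := act 6 n86721
theorem D181703 : act 6 n86721 = n181703 := rfl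
theorem F282844 : act 3 n181703 = n86723 := d7_1 D181703 (iv6 D86723) D86721
def n181704 : Q := act 6 n86722
theorem D181704 : act 6 n86722 = n181704 := rfl
theorem F282845 : act 2 n181704 = n163435 := d3_1 D181704 (iv6 D163435) (iv2 F133007)
def n181706 : Q := act 1 n86723
theorem D181706 : act 1 n86723 = n181706 := rfl
theorem F282854 : act 4 n181706 = n89999 := d18_7 (iv1 F141170) F258380 (iv1 D163417) F119713 (iv5 F61202) (iv4 F133011) D181706 F138255 (iv5 F141167)
theorem F282856 : act 6 n180021 = n181706 := d10_0 F282854 (iv6 F138259) D180021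
def n181707 : Q := act 5 n86723
theorem D181707 : act 5 n86723 = n181707 := rfl
def n181708 : Q := act 4 n86724
theorem D181708 : act 4 n86724 = n181708 := rfl
theorem F282858 : act 2 n181708 = n121791 := d1_1 D181708 (iv4 D121791) (iv2 F133015)
theorem F282859 : act 7 n181708 = n162855 := d11_2 (iv7 F133013) D181708 F257138
theorem F282860 : act 0 n181708 = n88392 := d18_2 (iv1 F133012) D181708 F135383 (iv5 F67264) (iv4 F119777) (iv0 F257697) (iv4 D163419) F122708 F122705
def n181715 : Q := act 6 n86744
theorem D181715 : act 6 n86744 = n181715 := rfl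
theorem F282873 : act 4 n181715 = n120364 := d10_1 D181715 (iv6 D120364) (iv4 F133027)
def n181716 : Q := act 5 n86745
theorem D181716 : act 5 n86745 = n181716 := rfl
theorem F282875 : act 3 n181716 = n86749 := d6_1 D181716 (iv5 D86749) (iv3 F133031)
def n181721 : Q := act 5 n86747
theorem D181721 : act 5 n86747 = n181721 := rfl
def n181722 : Q := act 6 n86747
theorem D181722 : act 6 n86747 = n181722 := rfl
def n181726 : Q := act 3 n86764
theorem D181726 : act 3 n86764 = n181726 := rfl
theorem F282885 : act 6 n181726 = n159393 := d7_2 (iv6 F133038) D181726 (iv3 D159393)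
def n181727 : Q := act 5 n86764
theorem D181727 : act 5 n86764 = n181727 := rfl
theorem F282887 : act 0 n181727 = n178614 := d17_2 (iv1 F279604) D181727 (iv5 D178614) (iv4 D85065) (iv5 D39338) (iv0 F232469) (iv5 F86521) (iv0 F232585) (iv4 F279602)
def n181728 : Q := act 6 n86773
theorem D181728 : act 6 n86773 = n181728 := rfl
theorem F282888 : act 3 n181728 = n86784 := d7_1 D181728 (iv6 D86784) (iv3 F133047)
theorem F282889 : act 5 n181728 = n146030 := d12_1 D181728 (iv6 D146030) (iv5 F200380) (iv6 D86774) D86773
theorem F282890 : act 0 n181728 = n116948 := d21_10 (iv5 D116948) F243167 D59904 F94385 F86054 D118310 F185882 F199686 D86773 D181728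
theorem F282891 : act 0 n116949 = n131614 := d21_10 (iv5 D131614) (iv1 F205886) (iv5 F227759) F227760 (iv1 F204849) D146030 (iv5 F282889) F282890 (iv5 D116948) D116949
theorem F282892 : act 0 n131615 = n133946 := d21_4 F247958 F282891 (iv5 D131614) D131615 (iv6 D133946) (iv5 F188446) F205839 D60335 (iv6 F206451) F247957
theorem F282893 : act 1 n131615 = n133951 := d15_1 (iv0 F282892) (iv7 D133951) (iv2 F215804)
theorem F282894 : act 0 n127554 = n181728 := d21_1 D127554 F282889 (iv6 D146030) (iv1 D68460) (iv6 D31857) F24632 D26050 F50824 D28453 D59902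
def n181731 : Q := act 5 n86777
theorem D181731 : act 5 n86777 = n181731 := rfl
theorem F282900 : act 3 n181731 = n86778 := d6_1 D181731 (iv5 D86778) D86777
def n181733 : Q := act 0 n86778
theorem D181733 : act 0 n86778 = n181733 := rfl
theorem F282902 : act 5 n181733 = n151882 := d17_3 F232550 D86778 D181733 F238820 (iv5 F233133) (iv0 D85063) (iv5 D39338) (iv0 F232469) (iv4 F130089)
theorem F282903 : act 1 n86795 = n181733 := d15_0 (iv0 D181733) (iv7 F279549) F279548
def n181734 : Q := act 1 n86778
theorem D181734 : act 1 n86778 = n181734 := rfl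
theorem F282904 : act 1 n181734 = n86795 := d15_1 D181734 (iv7 F279555) F279554
def n181738 : Q := act 3 n86783
theorem D181738 : act 3 n86783 = n181738 := rfl
def n181739 : Q := act 5 n86783
theorem D181739 : act 5 n86783 = n181739 := rfl
def n181740 : Q := act 6 n86783
theorem D181740 : act 6 n86783 = n181740 := rfl
theorem F282906 : act 4 n181740 = n86784 := d10_1 D181740 (iv6 D86784) D86783
theorem F282907 : act 0 n148014 = n181740 := d20_1 D148014 F282906 (iv3 F282888) F282890 F182783 D116950 (iv1 F231867) (iv4 D148057) (iv3 F278372) (iv1 D148013)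
def n181741 : Q := act 0 n86784
theorem D181741 : act 0 n86784 = n181741 := rfl
def n181742 : Q := act 1 n86784
theorem D181742 : act 1 n86784 = n181742 := rfl
def n181743 : Q := act 5 n86784
theorem D181743 : act 5 n86784 = n181743 := rfl
theorem F282908 : act 2 n181743 = n150314 := d2_1 D181743 (iv5 F279560) F279559
theorem F282909 : act 3 n181743 = n146030 := d6_1 D181743 (iv5 F282889) F282888
theorem F282910 : act 6 n181743 = n86788 := d12_2 D86784 D181743 (iv5 D86788) (iv6 D40235) D40234
theorem E24905 : n181742 = n125197 := ((c21_1 (iv5 F201279) (iv1 D181742) D181743 F282910 F133092 F107231 (iv5 D34964) D34962 D76530 (iv6 F251046) F251048)).symm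
theorem F282911 : act 0 n125197 = n86784 := (sb E24905 (iv1 D181742))
theorem F282912 : act 0 n181740 = n148030 := d18_2 F282911 (iv4 F282906) (iv4 D148030) (iv5 D69334) D69333 F231832 F252064 (iv0 F252066) (iv5 F201279)
theorem F282913 : act 0 n148025 = n124945 := d20_4 (iv4 F282906) F282912 (iv4 D148030) (iv3 F231838) F200675 (iv4 F200703) (iv1 F200706) F229377 D125197 F282911
theorem F282914 : act 5 n159431 = n146110 := d21_0 (iv1 D146110) D146111 F229346 F282911 (iv6 D86784) (iv5 D40234) (iv1 F60453) D85669 D179545 F279576
theorem E24906 : n181741 = n179632 := ((c15_4 (iv0 D181741) (iv0 F282911) F201280 D179632)).symm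
theorem F282915 : act 1 n179632 = n86784 := (sb E24906 (iv0 D181741))
theorem F282916 : act 2 n146110 = n144893 := d2_1 F282914 (iv5 F237591) F278910
theorem F282917 : act 6 n146110 = n144858 := d12_2 F278908 F282914 (iv5 F279858) (iv6 F279863) (iv5 F236990)
def n181744 : Q := act 7 n86784
theorem D181744 : act 7 n86784 = n181744 := rfl
def n181745 : Q := act 4 n86788
theorem D181745 : act 4 n86788 = n181745 := rfl
theorem F282918 : act 2 n181745 = n146496 := d1_1 D181745 F236507 (iv2 F191232)
theorem F282919 : act 7 n181745 = n146495 := d11_2 (iv7 F194687) D181745 F232612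
theorem F282920 : act 0 n181745 = n117351 := d18_2 (iv1 F133093) D181745 F183779 F85356 (iv4 F108035) (iv0 F236496) (iv4 D150278) F107228 (iv5 F107258)
theorem F282921 : act 1 n181745 = n146498 := d18_6 (iv1 F227741) D178618 F278408 F133051 D86788 D181745 F229825 F233148 D144831
def n181746 : Q := act 6 n86792
theorem D181746 : act 6 n86792 = n181746 := rfl
theorem F282922 : act 3 n181746 = n86798 := d7_1 D181746 (iv6 D86798) (iv3 F133095)
theorem F282923 : act 0 n145108 = n181746 := d21_4 F185787 (iv1 D68017) D68020 D145108 (iv6 D181746) (iv5 D86792) (iv1 F155121) D149070 F234444 (iv1 F185785)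
def n181747 : Q := act 0 n86793
theorem D181747 : act 0 n86793 = n181747 := rfl
def n181748 : Q := act 1 n86793
theorem D181748 : act 1 n86793 = n181748 := rfl
def n181749 : Q := act 5 n86794
theorem D181749 : act 5 n86794 = n181749 := rfl
theorem F282924 : act 3 n181749 = n86795 := d6_1 D181749 (iv5 D86795) D86794
def n181750 : Q := act 6 n86794
theorem D181750 : act 6 n86794 = n181750 := rfl
theorem F282925 : act 3 n181750 = n86796 := d7_1 D181750 (iv6 D86796) D86794
theorem F282926 : act 0 n161844 = n181750 := d20_4 (iv4 F196380) (iv1 F196382) D122609 (iv3 F255815) F282925 F133097 (iv1 F191306) (iv4 F194657) (iv3 D121939) D121938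
def n181751 : Q := act 4 n86795
theorem D181751 : act 4 n86795 = n181751 := rfl
def n181752 : Q := act 6 n86795
theorem D181752 : act 6 n86795 = n181752 := rfl
def n181753 : Q := act 0 n86796
theorem D181753 : act 0 n86796 = n181753 := rfl
def n181754 : Q := act 1 n86796
theorem D181754 : act 1 n86796 = n181754 := rfl
def n181755 : Q := act 5 n86796
theorem D181755 : act 5 n86796 = n181755 := rfl
def n181756 : Q := act 3 n86797
theorem D181756 : act 3 n86797 = n181756 := rfl
def n181757 : Q := act 5 n86797
theorem D181757 : act 5 n86797 = n181757 := rfl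
def n181758 : Q := act 6 n86797
theorem D181758 : act 6 n86797 = n181758 := rfl
theorem F282927 : act 4 n181758 = n86798 := d10_1 D181758 (iv6 D86798) D86797
def n181759 : Q := act 3 n86805
theorem D181759 : act 3 n86805 = n181759 := rfl
def n181760 : Q := act 5 n86805
theorem D181760 : act 5 n86805 = n181760 := rfl
def n181761 : Q := act 6 n86805
theorem D181761 : act 6 n86805 = n181761 := rfl
theorem F282928 : act 4 n181761 = n86807 := d10_1 D181761 (iv6 D86807) D86805
def n181763 : Q := act 2 n86809
theorem D181763 : act 2 n86809 = n181763 := rfl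
def n181764 : Q := act 6 n86809
theorem D181764 : act 6 n86809 = n181764 := rfl
theorem F282929 : act 3 n181764 = n86812 := d7_1 D181764 (iv6 D86812) D86809
def n181765 : Q := act 3 n86810
theorem D181765 : act 3 n86810 = n181765 := rfl
def n181766 : Q := act 5 n86810
theorem D181766 : act 5 n86810 = n181766 := rfl
def n181767 : Q := act 6 n86810
theorem D181767 : act 6 n86810 = n181767 := rfl
theorem F282930 : act 4 n181767 = n86812 := d10_1 D181767 (iv6 D86812) D86810
def n181768 : Q := act 1 n86812
theorem D181768 : act 1 n86812 = n181768 := rfl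
def n181769 : Q := act 5 n86812
theorem D181769 : act 5 n86812 = n181769 := rfl
theorem F282931 : act 2 n181769 = n148960 := d2_1 D181769 (iv5 F279598) F279596
theorem F282932 : act 6 n181769 = n148899 := d12_2 D86812 D181769 (iv5 D148899) (iv6 F236656) F236655
theorem F282933 : act 5 n107945 = n181768 := d21_0 (iv1 D181768) D181769 F282932 F233962 (iv6 F185649) (iv5 D118148) F124884 F191011 F247540 (iv1 F247537)
theorem F282934 : act 6 n181768 = n139205 := d12_2 F210944 F282933 (iv5 D139205) (iv6 D65344) D65343
theorem F282935 : act 5 n179597 = n139204 := d21_0 (iv1 D139204) D139205 (iv6 F282934) (iv1 D181768) (iv6 D86812) (iv5 F236655) (iv1 D70839) (iv5 F60475) D85757 D179597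
theorem F282936 : act 6 n139204 = n133819 := d21_3 (iv5 F131493) D179597 F282935 (iv1 D133819) (iv6 D62844) F47813 (iv1 F45546) F54343 D62775 F191372
theorem F282937 : act 0 n181769 = n145878 := d21_10 (iv5 F229045) (iv1 F244923) (iv5 F166790) (iv6 D107928) (iv1 D49851) D49853 F78847 D69795 D148899 (iv6 F282932)
def n181770 : Q := act 7 n86812
theorem D181770 : act 7 n86812 = n181770 := rfl
def n181772 : Q := act 5 n86813
theorem D181772 : act 5 n86813 = n181772 := rfl
theorem F282940 : act 1 n181772 = n179595 := d17_6 D85063 F233133 (iv1 F237933) (iv5 D151216) (iv4 F186103) D181772 (iv5 D179595) (iv0 F131491) (iv4 D85065)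
def n181779 : Q := act 2 n86815
theorem D181779 : act 2 n86815 = n181779 := rfl
theorem F282948 : act 4 n181779 = n86825 := d1_2 (iv4 F133102) D181779 (iv2 D86825)
theorem F282949 : act 6 n181779 = n159425 := d3_2 (iv6 F133103) D181779 (iv2 D159425)
def n181781 : Q := act 0 n86816
theorem D181781 : act 0 n86816 = n181781 := rfl
theorem F282951 : act 5 n181781 = n178600 := d17_3 (iv1 D86814) D86816 D181781 (iv4 D178600) (iv5 D85058) F232468 D118669 F232786 F133101
theorem F282952 : act 2 n178614 = n181781 := d2_3 F282951 F278359 D178614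
def n181782 : Q := act 1 n86816
theorem D181782 : act 1 n86816 = n181782 := rfl
theorem F282953 : act 7 n181782 = n178614 := d15_2 (iv0 D181781) D181782 F282952
def n181784 : Q := act 6 n86816
theorem D181784 : act 6 n86816 = n181784 := rfl
theorem F282955 : act 5 n181784 = n159428 := d12_1 D181784 (iv6 D159428) (iv5 D76262) (iv6 F61216) D86816
def n181786 : Q := act 5 n86819
theorem D181786 : act 5 n86819 = n181786 := rfl
theorem F282958 : act 1 n181786 = n179908 := d17_6 (iv1 F92475) (iv5 F155150) (iv1 F155465) F87908 D86819 D181786 (iv5 D179908) (iv0 F201195) (iv4 D125167)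
theorem F282959 : act 0 n181786 = n179906 := d21_1 D181786 (iv5 D179906) F233011 (iv1 D118245) F86002 D54476 D118281 F185821 D145113 F233179
def n181788 : Q := act 3 n86821
theorem D181788 : act 3 n86821 = n181788 := rfl
theorem F282961 : act 6 n181788 = n155947 := d7_2 (iv6 F133106) D181788 (iv3 D155947)
def n181790 : Q := act 2 n86823
theorem D181790 : act 2 n86823 = n181790 := rfl
theorem F282967 : act 7 n86824 = n181790 := d15_2 (iv0 D86823) D86824 (iv2 D181790)
def n181791 : Q := act 3 n86823
theorem D181791 : act 3 n86823 = n181791 := rfl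
def n181792 : Q := act 4 n86823
theorem D181792 : act 4 n86823 = n181792 := rfl
def n181793 : Q := act 5 n86823
theorem D181793 : act 5 n86823 = n181793 := rfl
def n181794 : Q := act 6 n86823
theorem D181794 : act 6 n86823 = n181794 := rfl
def n181795 : Q := act 7 n86823
theorem D181795 : act 7 n86823 = n181795 := rfl
theorem F282969 : act 2 n181795 = n86824 := d4_1 D181795 F282967 (iv2 D181790)
def n181796 : Q := act 3 n86824
theorem D181796 : act 3 n86824 = n181796 := rfl
def n181797 : Q := act 4 n86824
theorem D181797 : act 4 n86824 = n181797 := rfl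
def n181798 : Q := act 5 n86824
theorem D181798 : act 5 n86824 = n181798 := rfl
def n181799 : Q := act 6 n86824
theorem D181799 : act 6 n86824 = n181799 := rfl
def n181800 : Q := act 5 n86825
theorem D181800 : act 5 n86825 = n181800 := rfl
theorem F282970 : act 2 n181800 = n86826 := d2_1 D181800 (iv5 D86826) D86825
theorem F282971 : act 7 n181800 = n148875 := d13_2 F279621 D181800 (iv5 F279620)
theorem F282972 : act 1 n148874 = n181800 := d15_1 D148874 F282971 (iv2 D148875)
theorem F282973 : act 1 n181800 = n148873 := d15_0 (iv0 D148873) (iv7 F133111) (iv2 F282970)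
def n181801 : Q := act 0 n86826
theorem D181801 : act 0 n86826 = n181801 := rfl
theorem F282974 : act 1 n148875 = n181801 := d15_0 (iv0 D181801) F133111 D148875
def n181802 : Q := act 1 n86826
theorem D181802 : act 1 n86826 = n181802 := rfl
theorem F282975 : act 1 n181802 = n148875 := d15_1 D181802 (iv7 F282971) F282970
def n181803 : Q := act 4 n86826
theorem D181803 : act 4 n86826 = n181803 := rfl
theorem F282976 : act 3 n181803 = n147158 := d5_1 D181803 F230744 F106185 (iv4 F61219) (iv3 F133110)
theorem F282977 : act 7 n181803 = n147155 := d11_2 (iv7 F133111) D181803 F230743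
def n181804 : Q := act 6 n86826
theorem D181804 : act 6 n86826 = n181804 := rfl
theorem F282978 : act 3 n181804 = n86827 := d7_1 D181804 (iv6 D86827) (iv3 F133110)
theorem F282979 : act 5 n181804 = n127765 := d12_1 D181804 F205389 F94468 (iv6 F61218) D86826
theorem F282980 : act 7 n181804 = n145741 := d14_2 (iv7 F133111) D181804 (iv6 D145741) F104508 (iv6 F106191)
def n181810 : Q := act 3 n86830
theorem D181810 : act 3 n86830 = n181810 := rfl
theorem F282991 : act 5 n181810 = n167209 := d6_2 (iv5 F133123) D181810 (iv3 D167209)
theorem F282992 : act 6 n181810 = n167489 := d7_2 (iv6 F133121) D181810 (iv3 D167489)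
def n181811 : Q := act 1 n86831
theorem D181811 : act 1 n86831 = n181811 := rfl
theorem F282994 : act 7 n181811 = n172440 := d15_2 (iv0 F155441) D181811 (iv2 D172440)
theorem F282995 : act 4 n181029 = n181811 := d20_0 (iv1 D181811) (iv4 F281916) (iv3 D181058) (iv1 F132605) F60944 (iv4 D38663) D38660 D83932 D175852 F281872
theorem F282996 : act 0 n119220 = n181811 := d20_1 F282026 (iv4 F282995) (iv3 D181029) (iv1 F279565) (iv3 D179542) (iv4 D85668) (iv1 F60455) D40238 D86794 F282027
theorem F282997 : act 2 n98944 = n181811 := d15_3 (iv0 F282996) F187595 (iv7 F272697)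
theorem F282998 : act 3 n181811 = n172425 := d0_2 D98944 F282997 (iv2 D172425) (iv3 D82559) F272696
theorem E24907 : n172440 = n121440 := ((c15_2 (iv0 F152486) D121440 (iv7 F282994) (iv2 F282997))).symm
theorem F282999 : act 2 n121440 = n82564 := (sb E24907 (iv2 D172440))
theorem F283000 : act 7 n121440 = n181811 := (sb E24907 (iv7 F282994))
def n181812 : Q := act 2 n86831
theorem D181812 : act 2 n86831 = n181812 := rfl
theorem F283002 : act 6 n181812 = n161641 := d3_2 (iv6 F133126) D181812 F255650
theorem F283003 : act 7 n181812 = n119220 := d4_2 (iv7 F133127) D181812 F187593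
theorem F283004 : act 1 n181812 = n98944 := d15_0 (iv0 F152486) (iv7 F133127) D181812
theorem F283005 : act 1 n121440 = n181812 := d15_0 F283004 F272697 (iv2 F282999)
def n181813 : Q := act 5 n86831
theorem D181813 : act 5 n86831 = n181813 := rfl
theorem F283006 : act 3 n181813 = n86832 := d6_1 D181813 (iv5 D86832) D86831
theorem F283007 : act 7 n181813 = n121441 := d13_2 (iv7 F133127) D181813 (iv5 D121441)
def n181814 : Q := act 4 n86832
theorem D181814 : act 4 n86832 = n181814 := rfl
theorem F283009 : act 5 n181814 = n121997 := d9_2 D86832 D181814 (iv4 D121997) (iv5 D56437) F43931 (iv5 F33889) F33888 D35463 D77685 D161721 F255719 F123360 F57443 (iv5 F57705) (iv4 F116669)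
theorem F283011 : act 0 n181814 = n161719 := d18_2 (iv1 F133131) D181814 F255717 (iv5 F193710) F123247 (iv0 F129172) (iv4 F254687) (iv0 D161114) (iv5 F117112)
theorem F283012 : act 1 n181814 = n161718 := d18_6 (iv1 F91421) (iv4 D38227) (iv1 F116640) (iv4 F116669) D86832 D181814 F255713 (iv0 D121418) (iv5 D56035)
theorem F283013 : act 0 n181813 = n172456 := d20_4 (iv4 F255713) (iv1 F283012) (iv4 D181814) (iv3 F283006) (iv3 D172456) D172457 F270668 (iv4 D158425) F113409 D121418
def n181821 : Q := act 6 n86834
theorem D181821 : act 6 n86834 = n181821 := rfl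
theorem F283025 : act 5 n181821 = n161403 := d12_1 D181821 (iv6 D161403) (iv5 F255155) F255157 F194870
def n181828 : Q := act 6 n86838
theorem D181828 : act 6 n86838 = n181828 := rfl
theorem F283031 : act 2 n181828 = n167210 := d3_1 D181828 (iv6 D167210) (iv2 F133139)
theorem F283032 : act 5 n181828 = n167359 := d12_1 D181828 (iv6 D167359) (iv5 F123399) (iv6 F117121) D86838
def n181844 : Q := act 3 n86849
theorem D181844 : act 3 n86849 = n181844 := rfl
theorem F283066 : act 4 n181844 = n178993 := d5_2 D86849 D181844 (iv3 D178993) (iv4 D85392) (iv3 F61292)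
def n181855 : Q := act 4 n86855
theorem D181855 : act 4 n86855 = n181855 := rfl
theorem F283086 : act 7 n181855 = n155462 := d11_2 (iv7 F133209) D181855 (iv4 D155462)
def n181856 : Q := act 6 n86855
theorem D181856 : act 6 n86855 = n181856 := rfl
theorem F283087 : act 2 n181856 = n161544 := d3_1 D181856 (iv6 D161544) (iv2 F133207)
theorem F283088 : act 3 n181856 = n119853 := d7_1 D181856 (iv6 D119853) (iv3 F133208)
def n181857 : Q := act 0 n86857
theorem D181857 : act 0 n86857 = n181857 := rfl
theorem F283089 : act 4 n181857 = n161855 := d18_3 (iv1 F125931) D86857 D181857 F255838 F196404 F249207 F116132 F91363 (iv5 F123571)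
theorem F283090 : act 1 n121437 = n181857 := d15_0 (iv0 D181857) F133217 (iv2 F193772)
theorem F283091 : act 6 n161854 = n181857 := d21_3 D35544 D77901 (iv5 F255829) (iv1 F283090) F193773 D162223 F256359 (iv5 D162128) (iv6 D77895) (iv1 D35542)
def n181861 : Q := act 0 n86859
theorem D181861 : act 0 n86859 = n181861 := rfl
theorem F283105 : act 1 n155538 = n181861 := d15_0 (iv0 D181861) F133227 D155538
def n181863 : Q := act 2 n86859
theorem D181863 : act 2 n86859 = n181863 := rfl
theorem F283107 : act 5 n181863 = n180306 := d2_2 (iv5 F133226) D181863 (iv2 D180306)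
theorem F283108 : act 7 n181863 = n155538 := d4_2 (iv7 F133227) D181863 (iv2 D155538)
theorem F283111 : act 1 n155537 = n181863 := d15_1 D155537 F283108 (iv2 D155538)
def n181864 : Q := act 6 n86859
theorem D181864 : act 6 n86859 = n181864 := rfl
theorem F283112 : act 3 n181864 = n86860 := d7_1 D181864 (iv6 D86860) D86859
def n181875 : Q := act 2 n86865
theorem D181875 : act 2 n86865 = n181875 := rfl
theorem F283144 : act 3 n181875 = n155538 := d0_2 D86865 D181875 (iv2 D155538) (iv3 D73999) (iv2 F61335)
theorem F283146 : act 6 n181875 = n163396 := d3_2 (iv6 F133253) D181875 (iv2 D163396)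
theorem F283147 : act 7 n181875 = n155370 := d4_2 (iv7 F133254) D181875 (iv2 D155370)
theorem F283150 : act 1 n155369 = n181875 := d15_1 D155369 F283147 (iv2 D155370)
def n181876 : Q := act 4 n86867
theorem D181876 : act 4 n86867 = n181876 := rfl
theorem F283151 : act 2 n181876 = n123188 := d1_1 D181876 (iv4 D123188) (iv2 F133260)
theorem F283154 : act 1 n181876 = n121027 := d18_6 F118775 (iv4 F60902) D86442 F132541 D86867 D181876 (iv4 D121027) F88301 (iv5 D35688)
def n181878 : Q := act 7 n86870
theorem D181878 : act 7 n86870 = n181878 := rfl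
theorem F283161 : act 5 n181878 = n87530 := d13_1 D181878 (iv7 D87530) (iv5 F133275)
def n181879 : Q := act 0 n86871
theorem D181879 : act 0 n86871 = n181879 := rfl
theorem F283164 : act 1 n96296 = n181879 := d15_0 (iv0 D181879) F133277 D96296
def n181880 : Q := act 1 n86871
theorem D181880 : act 1 n86871 = n181880 := rfl
def n181881 : Q := act 2 n86871
theorem D181881 : act 2 n86871 = n181881 := rfl
theorem F283165 : act 3 n181881 = n91093 := d0_2 D86871 D181881 F140140 F66888 (iv2 F64936)
theorem F283166 : act 4 n181881 = n87177 := d1_2 (iv4 F133276) D181881 (iv2 D87177)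
theorem F283167 : act 7 n181881 = n96296 := d4_2 (iv7 F133277) D181881 (iv2 D96296)
theorem F283168 : act 1 n181881 = n96294 := d15_0 (iv0 D96294) (iv7 F133277) D181881
theorem F283169 : act 1 n181880 = n96296 := d15_1 D181880 (iv7 F283167) (iv2 D181881)
theorem F283170 : act 1 n96295 = n181881 := d15_1 D96295 F283167 (iv2 D96296)
def n181882 : Q := act 5 n86871
theorem D181882 : act 5 n86871 = n181882 := rfl
theorem F283172 : act 7 n181882 = n96297 := d13_2 (iv7 F133277) D181882 (iv5 D96297)
def n181883 : Q := act 6 n86872
theorem D181883 : act 6 n86872 = n181883 := rfl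
def n181884 : Q := act 1 n86873
theorem D181884 : act 1 n86873 = n181884 := rfl
theorem F283173 : act 4 n92558 = n181884 := d20_6 (iv4 D9414) F16824 D9710 D20448 D43305 D92558 (iv1 D181884) F133281 (iv3 D42252) (iv1 D19945)
theorem F283174 : act 2 n181884 = n88580 := d1_1 F283173 (iv4 F141494) (iv2 F142576)
theorem F283175 : act 7 n181884 = n91096 := d11_2 (iv7 F142577) F283173 (iv4 F140144)
theorem F283176 : act 0 n91093 = n181884 := d20_7 (iv4 F140081) (iv1 F140085) (iv4 F140157) (iv3 D91114) (iv1 F139077) F139074 D91093 (iv4 F283173) (iv3 D92558) (iv1 F67961)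
theorem F283177 : act 2 n91096 = n90073 := d4_1 F283175 F138431 (iv2 F283174)
def n181885 : Q := act 2 n86873
theorem D181885 : act 2 n86873 = n181885 := rfl
theorem F283178 : act 3 n181885 = n96296 := d0_2 D86873 D181885 (iv2 D96296) (iv3 D44958) (iv2 F61361)
theorem F283179 : act 4 n181885 = n90380 := d1_2 (iv4 F133281) D181885 (iv2 D90380)
theorem F283180 : act 7 n181885 = n91093 := d4_2 (iv7 F133282) D181885 F140140
theorem F283181 : act 1 n181885 = n88580 := d15_0 (iv0 F135733) (iv7 F133282) D181885
theorem F283182 : act 1 n91096 = n181885 := d15_0 F283181 (iv7 F138431) (iv2 F283177)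
def n181886 : Q := act 5 n86873
theorem D181886 : act 5 n86873 = n181886 := rfl
theorem F283184 : act 7 n181886 = n91097 := d13_2 (iv7 F133282) D181886 (iv5 D91097)
def n181887 : Q := act 6 n86874
theorem D181887 : act 6 n86874 = n181887 := rfl
theorem F283185 : act 2 n181887 = n96299 := d3_1 D181887 (iv6 D96299) (iv2 F133283)
def n181888 : Q := act 2 n86875
theorem D181888 : act 2 n86875 = n181888 := rfl
theorem F283186 : act 7 n86876 = n181888 := d15_2 (iv0 D86875) D86876 (iv2 D181888)
def n181889 : Q := act 3 n86875
theorem D181889 : act 3 n86875 = n181889 := rfl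
theorem F283187 : act 5 n181889 = n102808 := d6_2 (iv5 F276276) D181889 (iv3 F276275)
theorem F283188 : act 4 n181889 = n88705 := d20_6 (iv4 D9111) F13898 D19052 D40304 D86875 D181889 (iv1 F136047) F63860 (iv3 D41283) (iv1 D19419)
theorem F283189 : act 0 n88562 = n181889 := d20_10 F283188 (iv1 F136047) F63860 (iv3 D41283) (iv1 D19419) D19420 F31080 D19465 D41336 D88562
def n181890 : Q := act 4 n86875
theorem D181890 : act 4 n86875 = n181890 := rfl
theorem F283190 : act 0 n181890 = n89973 := d20_1 D181890 F138201 (iv3 D88447) (iv1 D41287) (iv3 D19420) (iv4 D9111) F13898 D19052 D40304 D86875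
def n181891 : Q := act 6 n86875
theorem D181891 : act 6 n86875 = n181891 := rfl
def n181892 : Q := act 7 n86875
theorem D181892 : act 7 n86875 = n181892 := rfl
theorem F283191 : act 2 n181892 = n86876 := d4_1 D181892 F283186 (iv2 D181888)
def n181893 : Q := act 3 n86876
theorem D181893 : act 3 n86876 = n181893 := rfl
def n181894 : Q := act 4 n86876
theorem D181894 : act 4 n86876 = n181894 := rfl
theorem F283192 : act 3 n181894 = n88706 := d20_9 (iv4 F135858) (iv1 F135862) (iv4 F158199) (iv3 D102892) (iv1 F137480) F137478 (iv4 F138307) (iv1 F138311) D181894 (iv1 D88706)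
theorem F283193 : act 0 n89973 = n181894 := d20_10 (iv4 D181894) (iv1 D86876) (iv4 F64566) (iv3 D41880) (iv1 D19715) D19716 F31473 D19828 D42048 D89973
theorem F283194 : act 1 n105112 = n181894 := d15_0 (iv0 F283193) F138202 D105112
def n181895 : Q := act 5 n86876
theorem D181895 : act 5 n86876 = n181895 := rfl
def n181896 : Q := act 6 n86876
theorem D181896 : act 6 n86876 = n181896 := rfl
def n181897 : Q := act 5 n86877
theorem D181897 : act 5 n86877 = n181897 := rfl
theorem F283195 : act 2 n181897 = n86878 := d2_1 D181897 (iv5 D86878) D86877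
def n181898 : Q := act 0 n86878
theorem D181898 : act 0 n86878 = n181898 := rfl
def n181899 : Q := act 1 n86878
theorem D181899 : act 1 n86878 = n181899 := rfl
def n181900 : Q := act 4 n86878
theorem D181900 : act 4 n86878 = n181900 := rfl
theorem F283196 : act 3 n181900 = n176726 := d5_1 D181900 F276105 (iv3 D163472) (iv4 F119747) (iv3 F133286)
theorem F283197 : act 5 n176724 = n181900 := d6_0 F283196 (iv5 D176726) D176724
def n181901 : Q := act 6 n86878
theorem D181901 : act 6 n86878 = n181901 := rfl
theorem F283198 : act 3 n181901 = n86881 := d7_1 D181901 (iv6 D86881) (iv3 F133286)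
def n181904 : Q := act 6 n86880
theorem D181904 : act 6 n86880 = n181904 := rfl
def n181905 : Q := act 0 n86881
theorem D181905 : act 0 n86881 = n181905 := rfl
def n181906 : Q := act 1 n86881
theorem D181906 : act 1 n86881 = n181906 := rfl
def n181907 : Q := act 7 n86881
theorem D181907 : act 7 n86881 = n181907 := rfl
def n181908 : Q := act 0 n86882
theorem D181908 : act 0 n86882 = n181908 := rfl
def n181909 : Q := act 1 n86882
theorem D181909 : act 1 n86882 = n181909 := rfl
def n181910 : Q := act 2 n86882
theorem D181910 : act 2 n86882 = n181910 := rfl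
theorem F283200 : act 4 n181910 = n86894 := d1_2 (iv4 F133291) D181910 (iv2 D86894)
def n181913 : Q := act 6 n86886
theorem D181913 : act 6 n86886 = n181913 := rfl
theorem F283212 : act 5 n181913 = n89999 := d12_1 D181913 (iv6 F138259) F131971 (iv6 F196397) F196396
def n181921 : Q := act 3 n86892
theorem D181921 : act 3 n86892 = n181921 := rfl
theorem F283223 : act 4 n181921 = n90941 := d20_6 (iv4 D20250) (iv1 F17549) D19056 D40313 D86892 D181921 (iv1 D90941) (iv4 F67282) (iv3 D42935) (iv1 F32175)
def n181922 : Q := act 4 n86892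
theorem D181922 : act 4 n86892 = n181922 := rfl
theorem F283224 : act 2 n181922 = n87232 := d1_1 D181922 F135388 F141632
def n181923 : Q := act 5 n86892
theorem D181923 : act 5 n86892 = n181923 := rfl
def n181924 : Q := act 6 n86892
theorem D181924 : act 6 n86892 = n181924 := rfl
def n181927 : Q := act 5 n86894
theorem D181927 : act 5 n86894 = n181927 := rfl
theorem F283225 : act 2 n181927 = n86895 := d2_1 D181927 (iv5 D86895) D86894
def n181928 : Q := act 0 n86895
theorem D181928 : act 0 n86895 = n181928 := rfl
def n181929 : Q := act 1 n86895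
theorem D181929 : act 1 n86895 = n181929 := rfl
def n181930 : Q := act 4 n86895
theorem D181930 : act 4 n86895 = n181930 := rfl
def n181931 : Q := act 6 n86895
theorem D181931 : act 6 n86895 = n181931 := rfl
theorem F283226 : act 3 n181931 = n86897 := d7_1 D181931 (iv6 D86897) (iv3 F133319)
def n181932 : Q := act 6 n86896
theorem D181932 : act 6 n86896 = n181932 := rfl
theorem F283227 : act 2 n181932 = n181883 := d3_1 D181932 (iv6 D181883) F133321
def n181933 : Q := act 0 n86897
theorem D181933 : act 0 n86897 = n181933 := rfl
def n181934 : Q := act 1 n86897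
theorem D181934 : act 1 n86897 = n181934 := rfl
def n181935 : Q := act 7 n86897
theorem D181935 : act 7 n86897 = n181935 := rfl
def n181936 : Q := act 6 n86898
theorem D181936 : act 6 n86898 = n181936 := rfl
theorem F283228 : act 2 n181936 = n100892 := d3_1 D181936 (iv6 D100892) (iv2 F133324)
theorem F283230 : act 4 n181936 = n86899 := d10_1 D181936 (iv6 D86899) D86898
def n181937 : Q := act 0 n86899
theorem D181937 : act 0 n86899 = n181937 := rfl
def n181938 : Q := act 1 n86899
theorem D181938 : act 1 n86899 = n181938 := rfl
theorem F283231 : act 1 n181938 = n100896 := d15_1 D181938 (iv7 D100896) (iv2 F133328)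
def n181939 : Q := act 5 n86899
theorem D181939 : act 5 n86899 = n181939 := rfl
theorem F283232 : act 2 n181939 = n100895 := d2_1 D181939 (iv5 D100895) (iv2 F133328)
theorem F283233 : act 3 n181939 = n86906 := d6_1 D181939 (iv5 D86906) (iv3 F133329)
theorem F283234 : act 6 n181939 = n86902 := d12_2 D86899 D181939 (iv5 D86902) (iv6 D40316) D40315
def n181940 : Q := act 7 n86899
theorem D181940 : act 7 n86899 = n181940 := rfl
theorem F283235 : act 2 n181940 = n100896 := d4_1 D181940 (iv7 D100896) (iv2 F133328)
theorem F283237 : act 1 n100896 = n181937 := d15_0 (iv0 D181937) D181940 F283235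
theorem F283238 : act 1 n100894 = n181940 := d15_1 D100894 (iv7 D181940) F133328
theorem F283239 : act 1 n181940 = n100893 := d15_0 (iv0 D100893) D100896 (iv2 F283235)
def n181941 : Q := act 2 n86900
theorem D181941 : act 2 n86900 = n181941 := rfl
theorem F283240 : act 7 n86901 = n181941 := d15_2 (iv0 D86900) D86901 (iv2 D181941)
def n181942 : Q := act 4 n86900
theorem D181942 : act 4 n86900 = n181942 := rfl
theorem F283241 : act 3 n181942 = n88914 := d5_1 D181942 F251693 (iv3 D159746) D159747 F251694
def n181943 : Q := act 5 n86900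
theorem D181943 : act 5 n86900 = n181943 := rfl
def n181944 : Q := act 7 n86900
theorem D181944 : act 7 n86900 = n181944 := rfl
theorem F283242 : act 2 n181944 = n86901 := d4_1 D181944 F283240 (iv2 D181941)
def n181945 : Q := act 4 n86901
theorem D181945 : act 4 n86901 = n181945 := rfl
theorem F283243 : act 3 n181945 = n98850 := d5_1 D181945 (iv4 F152403) (iv3 D97119) D97120 (iv3 F149855)
def n181946 : Q := act 5 n86901
theorem D181946 : act 5 n86901 = n181946 := rfl
def n181947 : Q := act 6 n86901
theorem D181947 : act 6 n86901 = n181947 := rfl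
def n181948 : Q := act 0 n86902
theorem D181948 : act 0 n86902 = n181948 := rfl
def n181949 : Q := act 1 n86902
theorem D181949 : act 1 n86902 = n181949 := rfl
theorem F283244 : act 5 n97959 = n181949 := d21_6 (iv5 F74232) (iv1 D38607) F29558 D21857 D45724 D97959 (iv1 D181949) (iv5 D86902) (iv6 D40316) (iv1 F31257)
def n181950 : Q := act 4 n86902
theorem D181950 : act 4 n86902 = n181950 := rfl
def n181951 : Q := act 7 n86902
theorem D181951 : act 7 n86902 = n181951 := rfl
theorem F283245 : act 3 n181951 = n86911 := d8_1 D181951 (iv7 D86911) (iv3 F133330)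
theorem F283246 : act 5 n181951 = n86903 := d13_1 D181951 (iv7 D86903) D86902
def n181955 : Q := act 5 n86904
theorem D181955 : act 5 n86904 = n181955 := rfl
def n181959 : Q := act 5 n86905
theorem D181959 : act 5 n86905 = n181959 := rfl
def n181960 : Q := act 6 n86905
theorem D181960 : act 6 n86905 = n181960 := rfl
def n181961 : Q := act 0 n86906
theorem D181961 : act 0 n86906 = n181961 := rfl
def n181962 : Q := act 4 n86906
theorem D181962 : act 4 n86906 = n181962 := rfl
theorem F283249 : act 2 n181962 = n86973 := d1_1 D181962 (iv4 D86973) (iv2 F133334)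
theorem F283250 : act 6 n181962 = n86910 := d10_2 (iv6 F133335) D181962 (iv4 D86910)
def n181963 : Q := act 7 n86906
theorem D181963 : act 7 n86906 = n181963 := rfl
theorem F283251 : act 2 n181963 = n86974 := d4_1 D181963 (iv7 D86974) (iv2 F133334)
theorem F283252 : act 5 n181963 = n86907 := d13_1 D181963 (iv7 D86907) D86906
theorem F283253 : act 1 n86974 = n181961 := d15_0 (iv0 D181961) D181963 F283251
theorem F283255 : act 1 n181963 = n86971 := d15_0 (iv0 D86971) D86974 (iv2 F283251)
def n181964 : Q := act 0 n86908
theorem D181964 : act 0 n86908 = n181964 := rfl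
theorem F283256 : act 1 n86977 = n181964 := d15_0 (iv0 D181964) F133342 D86977
def n181965 : Q := act 1 n86908
theorem D181965 : act 1 n86908 = n181965 := rfl
def n181966 : Q := act 2 n86908
theorem D181966 : act 2 n86908 = n181966 := rfl
theorem F283257 : act 3 n181966 = n86986 := d0_2 D86908 D181966 (iv2 D86986) (iv3 D40387) (iv2 F63519)
theorem F283258 : act 4 n181966 = n92457 := d1_2 (iv4 F133341) D181966 (iv2 D92457)
theorem F283259 : act 7 n181966 = n86977 := d4_2 (iv7 F133342) D181966 (iv2 D86977)
theorem F283260 : act 1 n181966 = n86975 := d15_0 (iv0 D86975) (iv7 F133342) D181966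
theorem F283261 : act 1 n181965 = n86977 := d15_1 D181965 (iv7 F283259) (iv2 D181966)
theorem F283262 : act 1 n86976 = n181966 := d15_1 D86976 F283259 (iv2 D86977)
def n181967 : Q := act 5 n86908
theorem D181967 : act 5 n86908 = n181967 := rfl
theorem F283263 : act 3 n181967 = n86909 := d6_1 D181967 (iv5 D86909) D86908
theorem F283264 : act 7 n181967 = n86978 := d13_2 (iv7 F133342) D181967 (iv5 D86978)
def n181968 : Q := act 4 n86909
theorem D181968 : act 4 n86909 = n181968 := rfl
theorem F283265 : act 2 n181968 = n86989 := d1_1 D181968 (iv4 D86989) (iv2 F133343)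
theorem F283266 : act 5 n181968 = n87708 := d9_2 D86909 D181968 (iv4 D87708) (iv5 F64443) (iv4 D41788) (iv5 D19664) D19663 D41784 D89491 F137172 (iv4 D87711) (iv5 F64343) (iv4 F70220) F70221 (iv4 F63774)
theorem F283267 : act 7 n181968 = n86982 := d11_2 (iv7 F133344) D181968 (iv4 D86982)
def n181969 : Q := act 6 n86909
theorem D181969 : act 6 n86909 = n181969 := rfl
theorem F283268 : act 2 n181969 = n86990 := d3_1 D181969 (iv6 D86990) (iv2 F133343)
theorem F283269 : act 5 n181969 = n91272 := d12_1 D181969 (iv6 D91272) (iv5 F69658) F69659 D86909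
def n181970 : Q := act 0 n86910
theorem D181970 : act 0 n86910 = n181970 := rfl
theorem F283270 : act 5 n181970 = n87726 := d17_3 (iv1 F134627) (iv5 F133347) D181970 (iv4 D87726) (iv5 D40865) F61968 D87717 F147068 F147066
theorem F283271 : act 4 n181970 = n87344 := d18_3 F62375 D86910 D181970 F134099 (iv4 D40864) (iv0 F62075) (iv4 F62156) F62379 D41171
theorem F283272 : act 2 n86997 = n181970 := d15_3 (iv0 D181970) (iv0 F135244) F135242
theorem F283273 : act 1 n87001 = n181970 := d15_0 (iv0 D181970) (iv7 F133348) (iv2 F133520)
theorem F283274 : act 7 n181970 = n86998 := d15_2 F135245 F283273 (iv2 F135241)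
theorem F283275 : act 3 n98349 = n87344 := d20_5 (iv4 F151799) (iv1 D98372) (iv4 D46022) (iv3 F72594) D98349 (iv4 F283271) (iv1 F283273) F133521 (iv3 F64418) F74664
theorem F283276 : act 5 n87725 = n98349 := d6_0 F283275 F134099 D87725
theorem F283277 : act 7 n88376 = n98349 := d8_0 F283275 F134101 (iv3 F135343)
def n181971 : Q := act 3 n86910
theorem D181971 : act 3 n86910 = n181971 := rfl
theorem F283278 : act 5 n181971 = n88281 := d6_2 (iv5 F133347) D181971 F135189
theorem F283279 : act 7 n181971 = n88280 := d8_2 F133348 D181971 F135188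
def n181972 : Q := act 6 n86911
theorem D181972 : act 6 n86911 = n181972 := rfl
theorem F283280 : act 2 n181972 = n87002 := d3_1 D181972 (iv6 D87002) (iv2 F133349)
theorem F283281 : act 4 n181972 = n88282 := d10_1 D181972 (iv6 D88282) (iv4 F133350)
def n181973 : Q := act 4 n86913
theorem D181973 : act 4 n86913 = n181973 := rfl
theorem F283282 : act 2 n181973 = n87014 := d1_1 D181973 (iv4 D87014) (iv2 F133359)
theorem F283283 : act 7 n181973 = n87028 := d11_2 (iv7 F133360) D181973 (iv4 D87028)
theorem F283284 : act 5 n181973 = n87714 := d16_1 D181973 (iv4 F137688) (iv5 D89713) F64634 F31488 D40326 D86915 F133366 (iv2 F133359)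
theorem F283285 : act 0 n181973 = n93448 := d17_0 F144147 F135146 F133510 F133509 (iv5 D41232) D41230 D88335 F135276 D181973
def n181974 : Q := act 6 n86913
theorem D181974 : act 6 n86913 = n181974 := rfl
theorem F283286 : act 2 n181974 = n87015 := d3_1 D181974 (iv6 D87015) (iv2 F133359)
def n181975 : Q := act 4 n86915
theorem D181975 : act 4 n86915 = n181975 := rfl
theorem F283287 : act 2 n181975 = n87028 := d1_1 D181975 (iv4 D87028) (iv2 F133365)
theorem F283288 : act 5 n181975 = n87713 := d9_2 D86915 D181975 (iv4 F147066) F147065 (iv4 D86914) (iv5 D40324) D40323 D86913 D181973 F283284 (iv4 F137688) (iv5 D89713) F64634 F31488 D40326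
theorem F283289 : act 7 n181975 = n87014 := d11_2 (iv7 F133366) D181975 (iv4 D87014)
theorem F283290 : act 1 n181975 = n93448 := d18_6 F31422 F30639 (iv1 F30590) D40326 D86915 D181975 (iv4 D93448) F68687 (iv5 D41784)
def n181976 : Q := act 6 n86915
theorem D181976 : act 6 n86915 = n181976 := rfl
theorem F283291 : act 2 n181976 = n87029 := d3_1 D181976 (iv6 D87029) (iv2 F133365)
def n181977 : Q := act 4 n86916
theorem D181977 : act 4 n86916 = n181977 := rfl
theorem F283292 : act 2 n181977 = n87345 := d1_1 D181977 (iv4 D87345) (iv2 F133367)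
theorem F283293 : act 5 n181977 = n88292 := d16_1 D181977 (iv4 D88292) (iv5 D41207) (iv4 F35319) (iv5 F61489) F61488 D87006 F133540 (iv2 F133367)
theorem F283294 : act 0 n181977 = n102395 := d18_2 (iv1 F133369) D181977 (iv4 D102395) (iv5 D47510) (iv4 D22826) D22825 (iv4 F62452) F62451 D41258
theorem F283295 : act 1 n181977 = n88220 := d18_6 (iv1 F61379) F63774 (iv1 D41363) (iv4 F61388) D86916 D181977 (iv4 D88220) F62376 F61464
def n181978 : Q := act 5 n86917
theorem D181978 : act 5 n86917 = n181978 := rfl
theorem F283296 : act 2 n181978 = n86919 := d2_1 D181978 (iv5 D86919) (iv2 F133370)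
theorem F283297 : act 3 n181978 = n87543 := d6_1 D181978 (iv5 D87543) (iv3 F133371)
theorem F283298 : act 6 n181978 = n118084 := d12_2 D86917 D181978 (iv5 D118084) (iv6 D54399) (iv5 F61391)
def n181979 : Q := act 5 n86918
theorem D181979 : act 5 n86918 = n181979 := rfl
def n181980 : Q := act 6 n86918
theorem D181980 : act 6 n86918 = n181980 := rfl
def n181981 : Q := act 0 n86919
theorem D181981 : act 0 n86919 = n181981 := rfl
def n181982 : Q := act 1 n86919
theorem D181982 : act 1 n86919 = n181982 := rfl
def n181983 : Q := act 4 n86919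
theorem D181983 : act 4 n86919 = n181983 := rfl
theorem F283299 : act 6 n181983 = n149096 := d10_2 (iv6 F133374) D181983 (iv4 D149096)
def n181984 : Q := act 2 n86920
theorem D181984 : act 2 n86920 = n181984 := rfl
theorem F283300 : act 4 n181984 = n165249 := d1_2 (iv4 F233193) D181984 (iv2 D165249)
theorem F283301 : act 7 n86921 = n181984 := d15_2 (iv0 D86920) D86921 (iv2 D181984)
theorem E24908 : n165255 = n86921 := (c11_4 F283301 F283300 (iv7 F260510) D165255)
theorem F283302 : act 3 n86921 = n89031 := (sb E24908 F260512)
theorem F283303 : act 4 n86921 = n79390 := (sb E24908 (iv4 D165255))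
def n181985 : Q := act 3 n86920
theorem D181985 : act 3 n86920 = n181985 := rfl
theorem F283305 : act 4 n181985 = n101467 := d20_6 (iv4 D73314) F232345 F51837 (iv3 F61398) D86920 D181985 (iv1 F188543) F188538 (iv3 F184580) F131169
theorem F283306 : act 3 n173872 = n101467 := d5_5 (iv4 F283305) (iv3 D181985) F233193 D165250 F272523
def n181986 : Q := act 5 n86920
theorem D181986 : act 5 n86920 = n181986 := rfl
def n181987 : Q := act 6 n86920
theorem D181987 : act 6 n86920 = n181987 := rfl
theorem F283308 : act 5 n181987 = n87901 := d21_6 F30943 (iv1 D19063) D19065 D40331 D86920 D181987 (iv1 D87901) (iv5 D41009) (iv6 D19310) (iv1 F30941)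
def n181989 : Q := act 5 n86921
theorem D181989 : act 5 n86921 = n181989 := rfl
def n181991 : Q := act 0 n86922
theorem D181991 : act 0 n86922 = n181991 := rfl
def n181992 : Q := act 1 n86922
theorem D181992 : act 1 n86922 = n181992 := rfl
theorem F283312 : act 1 n181992 = n87569 := d15_1 D181992 (iv7 D87569) (iv2 F133376)
theorem F283313 : act 5 n104179 = n181992 := d21_6 (iv5 D21203) F15967 D10967 D23345 D48206 D104179 (iv1 D181992) (iv5 D86922) (iv6 D40331) (iv1 F33444)
def n181993 : Q := act 4 n86922
theorem D181993 : act 4 n86922 = n181993 := rfl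
theorem F283314 : act 2 n181993 = n87568 := d1_1 D181993 (iv4 D87568) (iv2 F133376)
theorem F283315 : act 6 n181993 = n86931 := d10_2 (iv6 F133378) D181993 (iv4 D86931)
def n181994 : Q := act 7 n86922
theorem D181994 : act 7 n86922 = n181994 := rfl
theorem F283316 : act 2 n181994 = n87569 := d4_1 D181994 (iv7 D87569) (iv2 F133376)
theorem F283318 : act 5 n181994 = n86923 := d13_1 D181994 (iv7 D86923) D86922
theorem F283319 : act 1 n87569 = n181991 := d15_0 (iv0 D181991) D181994 F283316
theorem F283320 : act 1 n87567 = n181994 := d15_1 D87567 (iv7 D181994) F133376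
def n181995 : Q := act 0 n86924
theorem D181995 : act 0 n86924 = n181995 := rfl
theorem F283322 : act 3 n181995 = n98640 := d20_5 F31283 D19544 F62919 D86924 D181995 (iv4 D98640) (iv1 F72691) F62204 (iv3 D40807) (iv1 F62362)
theorem F283323 : act 2 n87578 = n181995 := d15_3 (iv0 D181995) (iv0 F157611) F157613
theorem F283324 : act 1 n87579 = n181995 := d15_0 (iv0 D181995) F133386 D87579
theorem F283325 : act 7 n181995 = n87334 := d15_2 F157612 F283324 (iv2 F147313)
theorem F283326 : act 6 n87407 = n181995 := d14_5 F283325 (iv6 D87334) F71571 D95632 F157244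
def n181997 : Q := act 6 n86924
theorem D181997 : act 6 n86924 = n181997 := rfl
theorem F283329 : act 3 n181997 = n86926 := d7_1 D181997 (iv6 D86926) D86924
theorem F283331 : act 5 n104192 = n181997 := d6_0 F283329 F133392 D104192
def n181998 : Q := act 1 n86925
theorem D181998 : act 1 n86925 = n181998 := rfl
theorem F283334 : act 5 n181998 = n91407 := d17_7 (iv1 F143992) F143990 (iv1 F72761) (iv5 D41508) F62919 D86925 D181998 (iv0 F140605) F75867
theorem F283336 : act 4 n94807 = n181998 := d18_3 (iv1 D44293) D44294 D94807 F283334 F140602 (iv0 F67042) (iv4 F68625) (iv0 F70683) F69709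
def n182000 : Q := act 6 n86925
theorem D182000 : act 6 n86925 = n182000 := rfl
theorem F283342 : act 5 n182000 = n104193 := d12_1 D182000 (iv6 D104193) (iv5 F133392) (iv6 D86926) D86925
def n182002 : Q := act 6 n86927
theorem D182002 : act 6 n86927 = n182002 := rfl
def n182005 : Q := act 6 n86929
theorem D182005 : act 6 n86929 = n182005 := rfl
def n182007 : Q := act 6 n86930
theorem D182007 : act 6 n86930 = n182007 := rfl
theorem F283359 : act 5 n182007 = n87909 := d12_1 D182007 (iv6 D87909) (iv5 D41014) D41015 (iv5 F133406)
def n182024 : Q := act 5 n86936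
theorem D182024 : act 5 n86936 = n182024 := rfl
theorem F283406 : act 2 n182024 = n149090 := d2_1 D182024 (iv5 D149090) (iv2 F133424)
theorem F283407 : act 3 n182024 = n86940 := d6_1 D182024 (iv5 D86940) (iv3 F133425)
theorem F283408 : act 6 n182024 = n86937 := d12_2 D86936 D182024 (iv5 D86937) (iv6 D40354) D40353
def n182025 : Q := act 4 n86937
theorem D182025 : act 4 n86937 = n182025 := rfl
def n182026 : Q := act 5 n86938
theorem D182026 : act 5 n86938 = n182026 := rfl
theorem F283409 : act 2 n182026 = n87396 := d2_1 D182026 (iv5 D87396) (iv2 F281940)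
theorem F283410 : act 3 n182026 = n177819 := d6_1 D182026 (iv5 D177819) F234472
theorem F283411 : act 7 n182026 = n87401 := d13_2 (iv7 F281941) D182026 (iv5 D87401)
def n182027 : Q := act 6 n86938
theorem D182027 : act 6 n86938 = n182027 := rfl
theorem F283412 : act 2 n182027 = n87397 := d3_1 D182027 (iv6 D87397) (iv2 F281940)
theorem F283413 : act 3 n182027 = n177820 := d7_1 D182027 (iv6 D177820) F234472
theorem F283414 : act 4 n182027 = n180903 := d10_1 D182027 (iv6 D180903) (iv4 F234471)
theorem F283415 : act 5 n182027 = n87795 := d21_6 F30937 F16002 D19073 D40355 D86938 D182027 (iv1 D87795) (iv5 D40904) (iv6 D19279) D19277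
theorem F283416 : act 2 n87795 = n104186 := d2_1 F283415 (iv5 F159710) (iv2 F283412)
theorem F283417 : act 3 n87795 = n100432 := d6_1 F283415 (iv5 F277345) (iv3 F283413)
theorem F283418 : act 7 n104185 = n87795 := d15_2 F159709 F159715 F283416
theorem F283419 : act 7 n87794 = n104186 := d15_2 F159716 F159717 (iv2 F283416)
theorem F283420 : act 2 n104185 = n87794 := d4_3 F283419 (iv2 F283416) (iv7 F283418)
def n182028 : Q := act 5 n86939
theorem D182028 : act 5 n86939 = n182028 := rfl
theorem F283421 : act 2 n182028 = n87401 := d2_1 D182028 (iv5 D87401) (iv2 F281944)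
theorem F283422 : act 7 n182028 = n87396 := d13_2 (iv7 F281945) D182028 (iv5 D87396)
def n182029 : Q := act 6 n86939
theorem D182029 : act 6 n86939 = n182029 := rfl
theorem F283423 : act 2 n182029 = n87402 := d3_1 D182029 (iv6 D87402) (iv2 F281944)
def n182030 : Q := act 0 n86940
theorem D182030 : act 0 n86940 = n182030 := rfl
def n182031 : Q := act 1 n86940
theorem D182031 : act 1 n86940 = n182031 := rfl
theorem F283425 : act 1 n182031 = n87406 := d15_1 D182031 (iv7 D87406) (iv2 F133429)
theorem F283426 : act 5 n104129 = n182031 := d21_6 (iv5 D23316) (iv1 D10958) D10959 D23319 D48187 D104129 (iv1 D182031) (iv5 D86940) (iv6 D40355) (iv1 F36429)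
def n182032 : Q := act 4 n86940
theorem D182032 : act 4 n86940 = n182032 := rfl
theorem F283427 : act 2 n182032 = n87405 := d1_1 D182032 (iv4 D87405) (iv2 F133429)
theorem F283428 : act 6 n182032 = n86946 := d10_2 (iv6 F133430) D182032 (iv4 D86946)
def n182033 : Q := act 7 n86940
theorem D182033 : act 7 n86940 = n182033 := rfl
theorem F283429 : act 2 n182033 = n87406 := d4_1 D182033 (iv7 D87406) (iv2 F133429)
theorem F283430 : act 5 n182033 = n86941 := d13_1 D182033 (iv7 D86941) D86940
theorem F283431 : act 1 n87406 = n182030 := d15_0 (iv0 D182030) D182033 F283429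
theorem F283432 : act 1 n87404 = n182033 := d15_1 D87404 (iv7 D182033) F133429
theorem F283433 : act 1 n182033 = n87403 := d15_0 (iv0 D87403) D87406 (iv2 F283429)
def n182034 : Q := act 4 n86942
theorem D182034 : act 4 n86942 = n182034 := rfl
theorem F283434 : act 2 n182034 = n87412 := d1_1 D182034 (iv4 D87412) (iv2 F133436)
theorem F283435 : act 7 n182034 = n87415 := d11_2 (iv7 F133437) D182034 (iv4 D87415)
theorem F283436 : act 0 n182034 = n88244 := d17_0 (iv5 F144939) F144940 (iv5 F134176) (iv4 D87420) (iv5 F72342) F72344 D87728 F134662 D182034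
theorem F283437 : act 1 n182034 = n94110 := d18_6 (iv1 F65821) F31392 D21883 (iv4 F66308) D86942 D182034 (iv4 D94110) (iv0 D43997) (iv5 D20886)
def n182035 : Q := act 6 n86942
theorem D182035 : act 6 n86942 = n182035 := rfl
theorem F283438 : act 2 n182035 = n87413 := d3_1 D182035 (iv6 D87413) (iv2 F133436)
theorem F283439 : act 5 n182035 = n104149 := d12_1 D182035 (iv6 D104149) (iv5 F133440) (iv6 D86943) D86942
def n182036 : Q := act 4 n86944
theorem D182036 : act 4 n86944 = n182036 := rfl
theorem F283440 : act 2 n182036 = n87420 := d1_1 D182036 (iv4 D87420) F133449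
theorem F283441 : act 7 n182036 = n87423 := d11_2 F133450 D182036 (iv4 D87423)
theorem F283442 : act 5 n182036 = n96107 := d16_1 D182036 (iv4 D96107) (iv5 D44844) (iv4 D21370) D21371 (iv4 F66269) (iv5 F133453) F133452 F133449
theorem F283443 : act 0 n182036 = n94107 := d18_2 D86944 D182036 (iv4 D94107) (iv5 D43996) F65808 F34356 (iv4 F66308) (iv0 D40356) D40358
theorem F283444 : act 1 n182036 = n89203 := d18_6 (iv1 F65971) (iv4 F70444) F72230 F72229 (iv5 F133447) D182036 (iv4 D89203) (iv0 F66932) (iv5 D42725)
def n182037 : Q := act 6 n86944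
theorem D182037 : act 6 n86944 = n182037 := rfl
theorem F283445 : act 2 n182037 = n87421 := d3_1 D182037 (iv6 D87421) F133449
def n182038 : Q := act 3 n86945
theorem D182038 : act 3 n86945 = n182038 := rfl
theorem F283446 : act 5 n182038 = n87801 := d6_2 (iv5 F133453) D182038 F134773
theorem F283447 : act 7 n182038 = n87419 := d8_2 (iv7 F133452) D182038 (iv3 D87419)
def n182039 : Q := act 4 n86945
theorem D182039 : act 4 n86945 = n182039 := rfl
theorem F283448 : act 2 n182039 = n87423 := d1_1 D182039 (iv4 D87423) F133454
theorem F283449 : act 5 n182039 = n182034 := d9_2 (iv5 F133453) D182039 (iv4 D182034) (iv5 D86942) F66308 D45768 F72229 (iv5 F133447) D182036 F283442 (iv4 D96107) (iv5 D44844) (iv4 D21370) D21371 (iv4 F66269)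
theorem F283450 : act 7 n182039 = n87420 := d11_2 (iv7 F133452) D182039 (iv4 D87420)
theorem F283451 : act 0 n182039 = n89203 := d18_2 (iv1 F133451) D182039 (iv4 D89203) (iv5 D41680) F31392 F65813 D21370 F66212 (iv5 F61734)
theorem F283452 : act 1 n182039 = n94107 := d18_6 (iv1 F66261) F62382 (iv1 F65766) (iv4 F66269) (iv5 F133453) D182039 (iv4 D94107) (iv0 F134207) (iv5 D87438)
def n182040 : Q := act 6 n86945
theorem D182040 : act 6 n86945 = n182040 := rfl
theorem F283453 : act 2 n182040 = n87424 := d3_1 D182040 (iv6 D87424) F133454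
theorem F283454 : act 5 n182040 = n87804 := d12_1 D182040 (iv6 D87804) (iv5 D40909) D40910 (iv5 F133453)
def n182041 : Q := act 3 n86946
theorem D182041 : act 3 n86946 = n182041 := rfl
def n182042 : Q := act 0 n86947
theorem D182042 : act 0 n86947 = n182042 := rfl
def n182043 : Q := act 1 n86947
theorem D182043 : act 1 n86947 = n182043 := rfl
def n182044 : Q := act 5 n86947
theorem D182044 : act 5 n86947 = n182044 := rfl
def n182045 : Q := act 7 n86947
theorem D182045 : act 7 n86947 = n182045 := rfl
theorem F283456 : act 3 n182045 = n172711 := d8_1 D182045 (iv7 D172711) (iv3 F133456)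
def n182046 : Q := act 0 n86948
theorem D182046 : act 0 n86948 = n182046 := rfl
def n182047 : Q := act 1 n86948
theorem D182047 : act 1 n86948 = n182047 := rfl
def n182048 : Q := act 5 n86948
theorem D182048 : act 5 n86948 = n182048 := rfl
def n182049 : Q := act 7 n86948
theorem D182049 : act 7 n86948 = n182049 := rfl
def n182050 : Q := act 2 n86949
theorem D182050 : act 2 n86949 = n182050 := rfl
theorem F283457 : act 7 n86950 = n182050 := d15_2 (iv0 D86949) D86950 (iv2 D182050)
def n182051 : Q := act 4 n86949
theorem D182051 : act 4 n86949 = n182051 := rfl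
theorem F283458 : act 0 n182051 = n159832 := d20_1 D182051 F251928 F151965 (iv1 D87578) (iv3 D40765) (iv4 F62621) (iv1 F62628) F31277 (iv3 F61454) D86949
theorem F283459 : act 0 n94223 = n182051 := d20_1 (iv4 F145274) (iv4 D182051) F150720 (iv1 F136860) F64281 F31388 F66161 F65815 D41598 (iv1 F157573)
def n182052 : Q := act 5 n86949
theorem D182052 : act 5 n86949 = n182052 := rfl
def n182053 : Q := act 6 n86949
theorem D182053 : act 6 n86949 = n182053 := rfl
theorem F283460 : act 3 n182053 = n101111 := d7_1 D182053 (iv6 F155774) (iv3 F150720)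
theorem F283461 : act 5 n182053 = n101109 := d21_6 D47125 F74367 F35261 D40370 D86949 D182053 (iv1 F155773) (iv5 D87969) (iv6 D41071) (iv1 F35233)
def n182054 : Q := act 7 n86949
theorem D182054 : act 7 n86949 = n182054 := rfl
def n182055 : Q := act 3 n86950
theorem D182055 : act 3 n86950 = n182055 := rfl
theorem F283463 : act 4 n182055 = n93994 := d5_2 F144568 D182055 F144817 (iv4 D93789) D93788
theorem F283464 : act 0 n182055 = n93830 := d20_4 (iv4 F251928) (iv1 F251931) F144568 D182055 (iv3 F149770) F149771 (iv1 F157622) F70361 (iv3 F72646) (iv1 F136748)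
def n182056 : Q := act 5 n86950
theorem D182056 : act 5 n86950 = n182056 := rfl
def n182057 : Q := act 6 n86950
theorem D182057 : act 6 n86950 = n182057 := rfl
def n182058 : Q := act 0 n86951
theorem D182058 : act 0 n86951 = n182058 := rfl
def n182059 : Q := act 1 n86951
theorem D182059 : act 1 n86951 = n182059 := rfl
def n182060 : Q := act 4 n86951
theorem D182060 : act 4 n86951 = n182060 := rfl
theorem F283465 : act 0 n182060 = n98606 := d20_7 (iv4 F72684) (iv1 F72686) F72683 F70516 F68623 (iv3 F133457) D182060 (iv4 D98606) (iv3 D46097) (iv1 F64205)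
def n182061 : Q := act 3 n86952
theorem D182061 : act 3 n86952 = n182061 := rfl
theorem F283466 : act 2 n182061 = n98662 := d0_1 D182061 F152100 F72707 F136400 (iv2 F136399)
theorem F283467 : act 5 n182061 = n98661 := d6_2 F135255 D182061 F152095
def n182062 : Q := act 6 n86952
theorem D182062 : act 6 n86952 = n182062 := rfl
def n182065 : Q := act 6 n86954
theorem D182065 : act 6 n86954 = n182065 := rfl
theorem F283469 : act 2 n182065 = n166900 := d3_1 D182065 (iv6 D166900) F133462
def n182067 : Q := act 0 n86956
theorem D182067 : act 0 n86956 = n182067 := rfl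
def n182068 : Q := act 1 n86956
theorem D182068 : act 1 n86956 = n182068 := rfl
def n182069 : Q := act 5 n86956
theorem D182069 : act 5 n86956 = n182069 := rfl
theorem F283474 : act 3 n182069 = n86959 := d6_1 D182069 (iv5 D86959) (iv3 F133478)
theorem F283475 : act 6 n182069 = n167643 := d12_2 D86956 D182069 (iv5 D167643) (iv6 D80455) (iv5 F61456)
def n182071 : Q := act 2 n86957
theorem D182071 : act 2 n86957 = n182071 := rfl
theorem F283478 : act 7 n86958 = n182071 := d15_2 (iv0 D86957) D86958 (iv2 D182071)
def n182073 : Q := act 4 n86957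
theorem D182073 : act 4 n86957 = n182073 := rfl
def n182076 : Q := act 7 n86957
theorem D182076 : act 7 n86957 = n182076 := rfl
theorem F283480 : act 2 n182076 = n86958 := d4_1 D182076 F283478 (iv2 D182071)
def n182078 : Q := act 4 n86958
theorem D182078 : act 4 n86958 = n182078 := rfl
def n182081 : Q := act 0 n86959
theorem D182081 : act 0 n86959 = n182081 := rfl
def n182082 : Q := act 4 n86959
theorem D182082 : act 4 n86959 = n182082 := rfl
theorem F283481 : act 2 n182082 = n167665 := d1_1 D182082 (iv4 D167665) (iv2 F133481)
theorem F283482 : act 6 n182082 = n167648 := d10_2 (iv6 F133482) D182082 (iv4 D167648)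
def n182083 : Q := act 7 n86959
theorem D182083 : act 7 n86959 = n182083 := rfl
theorem F283483 : act 2 n182083 = n167666 := d4_1 D182083 (iv7 D167666) (iv2 F133481)
theorem F283484 : act 5 n182083 = n86960 := d13_1 D182083 (iv7 D86960) D86959
theorem F283485 : act 1 n167666 = n182081 := d15_0 (iv0 D182081) D182083 F283483
def n182084 : Q := act 0 n86961
theorem D182084 : act 0 n86961 = n182084 := rfl
theorem F283488 : act 1 n86966 = n182084 := d15_0 (iv0 D182084) (iv7 F133488) (iv2 F133489)
def n182088 : Q := act 5 n86961
theorem D182088 : act 5 n86961 = n182088 := rfl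
theorem F283493 : act 2 n182088 = n86964 := d2_1 D182088 (iv5 D86964) D86961
theorem F283494 : act 7 n182088 = n86969 := d13_2 F133488 D182088 (iv5 D86969)
def n182089 : Q := act 6 n86961
theorem D182089 : act 6 n86961 = n182089 := rfl
theorem F283495 : act 2 n182089 = n86965 := d3_1 D182089 (iv6 D86965) D86961
def n182093 : Q := act 4 n86962
theorem D182093 : act 4 n86962 = n182093 := rfl
def n182095 : Q := act 6 n86962
theorem D182095 : act 6 n86962 = n182095 := rfl
theorem F283497 : act 3 n182095 = n86965 := d7_1 D182095 (iv6 D86965) D86962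
def n182101 : Q := act 6 n86963
theorem D182101 : act 6 n86963 = n182101 := rfl
theorem F283500 : act 4 n182101 = n86965 := d10_1 D182101 (iv6 D86965) D86963
def n182103 : Q := act 0 n86964
theorem D182103 : act 0 n86964 = n182103 := rfl
theorem F283504 : act 5 n182103 = n98097 := d21_2 D86964 D182103 (iv6 D98097) (iv1 D45806) (iv6 D21902) (iv5 D10446) F6912 D8939 D19081 D40377
def n182104 : Q := act 1 n86964
theorem D182104 : act 1 n86964 = n182104 := rfl
def n182106 : Q := act 6 n86964
theorem D182106 : act 6 n86964 = n182106 := rfl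
def n182107 : Q := act 7 n86964
theorem D182107 : act 7 n86964 = n182107 := rfl
theorem F283506 : act 2 n182107 = n86969 := d4_1 D182107 (iv7 F283494) F283493
theorem F283508 : act 1 n86969 = n182103 := d15_0 (iv0 D182103) D182107 F283506
def n182108 : Q := act 0 n86965
theorem D182108 : act 0 n86965 = n182108 := rfl
def n182109 : Q := act 1 n86965
theorem D182109 : act 1 n86965 = n182109 := rfl
def n182110 : Q := act 7 n86965
theorem D182110 : act 7 n86965 = n182110 := rfl
def n182111 : Q := act 6 n86966
theorem D182111 : act 6 n86966 = n182111 := rfl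
theorem F283509 : act 2 n182111 = n86970 := d3_1 D182111 (iv6 D86970) (iv2 F133489)
def n182122 : Q := act 6 n86969
theorem D182122 : act 6 n86969 = n182122 := rfl
def n182123 : Q := act 0 n86970
theorem D182123 : act 0 n86970 = n182123 := rfl
theorem F283513 : act 5 n182123 = n88100 := d21_0 (iv1 F156046) F156039 F74431 (iv1 F72309) D98097 (iv5 F283504) (iv1 F283508) (iv5 D86969) D86970 D182123
theorem F283514 : act 3 n101131 = n182123 := d6_3 F283513 (iv3 F156045) F155795
theorem F283515 : act 7 n99882 = n182123 := d13_0 F283513 F156044 (iv5 F156033)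
def n182124 : Q := act 1 n86970
theorem D182124 : act 1 n86970 = n182124 := rfl
def n182125 : Q := act 5 n86970
theorem D182125 : act 5 n86970 = n182125 := rfl
theorem F283516 : act 0 n101266 = n182125 := d21_1 D101266 (iv5 D182125) (iv6 D86970) (iv1 D40378) (iv6 D19081) (iv5 D8939) D8938 (iv5 F17270) D22689 D47154
theorem F283517 : act 1 n101270 = n182125 := d15_0 (iv0 F283516) F184708 (iv2 F184713)
def n182126 : Q := act 7 n86970
theorem D182126 : act 7 n86970 = n182126 := rfl
def n182127 : Q := act 2 n86971
theorem D182127 : act 2 n86971 = n182127 := rfl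
theorem F283518 : act 7 n86972 = n182127 := d15_2 (iv0 D86971) D86972 (iv2 D182127)
def n182128 : Q := act 3 n86971
theorem D182128 : act 3 n86971 = n182128 := rfl
def n182129 : Q := act 4 n86971
theorem D182129 : act 4 n86971 = n182129 := rfl
def n182130 : Q := act 5 n86971
theorem D182130 : act 5 n86971 = n182130 := rfl
def n182131 : Q := act 6 n86971
theorem D182131 : act 6 n86971 = n182131 := rfl
def n182132 : Q := act 7 n86971
theorem D182132 : act 7 n86971 = n182132 := rfl
theorem F283519 : act 2 n182132 = n86972 := d4_1 D182132 F283518 (iv2 D182127)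
def n182133 : Q := act 3 n86972
theorem D182133 : act 3 n86972 = n182133 := rfl
def n182134 : Q := act 4 n86972
theorem D182134 : act 4 n86972 = n182134 := rfl
def n182135 : Q := act 6 n86972
theorem D182135 : act 6 n86972 = n182135 := rfl
def n182136 : Q := act 0 n86973
theorem D182136 : act 0 n86973 = n182136 := rfl
def n182137 : Q := act 1 n86973
theorem D182137 : act 1 n86973 = n182137 := rfl
def n182138 : Q := act 3 n86973
theorem D182138 : act 3 n86973 = n182138 := rfl
theorem F283520 : act 6 n182138 = n86999 := d7_2 (iv6 F133490) D182138 (iv3 D86999)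
def n182139 : Q := act 5 n86973
theorem D182139 : act 5 n86973 = n182139 := rfl
def n182140 : Q := act 7 n86973
theorem D182140 : act 7 n86973 = n182140 := rfl
theorem F283521 : act 4 n182140 = n86974 := d11_1 D182140 (iv7 D86974) D86973
def n182141 : Q := act 6 n86974
theorem D182141 : act 6 n86974 = n182141 := rfl
theorem F283522 : act 7 n182141 = n87002 := d14_2 D86974 D182141 (iv6 D87002) (iv7 D40393) (iv6 F61459)
def n182142 : Q := act 2 n86975
theorem D182142 : act 2 n86975 = n182142 := rfl
theorem F283523 : act 7 n86976 = n182142 := d15_2 (iv0 D86975) D86976 (iv2 D182142)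
def n182143 : Q := act 4 n86975
theorem D182143 : act 4 n86975 = n182143 := rfl
theorem F283524 : act 3 n182143 = n159783 := d5_1 D182143 F251782 F137139 D89396 (iv3 F137076)
theorem F283525 : act 0 n159746 = n182143 := d20_1 F251693 (iv4 D182143) F137076 F137138 (iv3 D41775) (iv4 F61803) (iv1 D20416) (iv4 F31291) (iv3 F64049) D88914
theorem F283526 : act 5 n159781 = n182143 := d6_0 F283524 (iv5 D159783) D159781
theorem F283527 : act 0 n182143 = n159841 := d20_4 F67866 D89230 (iv4 F251782) (iv3 F283524) (iv3 D159841) (iv4 F138024) (iv1 F138025) F71646 F67730 F136300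
theorem F283528 : act 3 n88915 = n87338 := d20_3 D182143 F283527 F251975 (iv1 D87338) F61714 F30803 (iv1 F63497) F63499 D40382 D86975
theorem F283529 : act 7 n159746 = n93844 := d15_2 (iv0 F283527) (iv0 F283525) (iv2 F251974)
theorem F283530 : act 7 n159841 = n93853 := d4_2 F283529 (iv2 F251974) (iv2 F251692)
theorem E24910 : n93839 = n76422 := (c8_3 F283529 (iv3 D93844) F144667 D159746)
theorem E24911 : n159745 = n43865 := ((D159745).symm.trans (sb E24910 (iv2 D93839)))
theorem E24912 : n159750 = n43866 := ((D159750).symm.trans (sb E24910 (iv7 F144667)))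
theorem F283531 : act 2 n43865 = n76422 := (sb E24911 (iv2 D159745))
theorem E24913 : n93852 = n76505 := (((F138027).symm.trans (sb E24911 F251691))).symm
theorem E24914 : n93843 = n76423 := ((D93843).symm.trans (sb E24911 (iv7 F251690)))
theorem F283532 : act 7 n43866 = n76422 := (sb E24912 (iv7 D159750))
theorem E24915 : n159837 = n43871 := ((D159837).symm.trans (sb E24913 (iv2 D93852)))
theorem E24916 : n97158 = n89898 := (((F138026).symm.trans (sb E24913 (iv4 F149906)))).symm
theorem E24917 : n159840 = n43872 := ((D159840).symm.trans (sb E24913 (iv7 F144677)))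
theorem F283533 : act 2 n76423 = n43866 := (sb E24914 F144668)
theorem F283534 : act 7 n76423 = n43865 := (sb E24914 (iv7 D93843))
theorem F283535 : act 2 n43871 = n76505 := (sb E24915 (iv2 D159837))
theorem E24918 : n93856 = n76506 := ((D93856).symm.trans (sb E24915 (iv7 F251966)))
theorem F283536 : act 2 n89898 = n45409 := (sb E24916 (iv2 D97158))
theorem F283537 : act 7 n89898 = n45410 := (sb E24916 (iv7 F149907))
theorem F283538 : act 7 n43872 = n76505 := (sb E24917 (iv7 D159840))
theorem F283539 : act 2 n76506 = n43872 := (sb E24918 F144678)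
theorem E24919 : n97162 = n89897 := ((((iv4 F138024)).symm.trans (sb E24918 (iv4 F149910)))).symm
theorem F283540 : act 7 n76506 = n43871 := (sb E24918 (iv7 D93856))
theorem F283541 : act 2 n89897 = n45410 := (sb E24919 F149909)
theorem F283542 : act 7 n89897 = n45409 := (sb E24919 (iv7 D97162))
theorem F283543 : act 7 n93854 = n159842 := d13_2 F283540 D93854 (iv5 D159842)
theorem F283544 : act 2 n93857 = n159842 := d2_3 (iv5 D159842) F283539 D93857
theorem F283545 : act 2 n93858 = n159843 := d3_3 (iv6 D159843) F283539 D93858
theorem F283546 : act 2 n149998 = n164617 := d3_3 F259546 F283544 (iv6 F251976)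
theorem F283547 : act 7 n164618 = n149998 := d15_2 (iv0 D164617) D164618 F283546
theorem F283548 : act 7 n149999 = n164617 := d15_2 (iv0 D149998) D149999 (iv2 F283546)
theorem F283549 : act 2 n164618 = n149999 := d4_3 F283548 (iv2 F283546) (iv7 F283547)
theorem F283550 : act 7 n159838 = n93857 := d13_2 F283538 D159838 (iv5 D93857)
theorem F283551 : act 2 n93854 = n159838 := d4_3 F283550 F283544 (iv7 F283543)
theorem F283552 : act 7 n159752 = n93841 := d8_2 F283550 (iv3 F251697) (iv3 F251967)
theorem F283553 : act 1 n159842 = n90666 := d15_0 (iv0 F251968) F283550 F283544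
theorem E24920 : n97118 = n97100 := ((c8_2 F283537 F149814 (iv7 D97118) F138029)).symm
theorem F283554 : act 2 n97100 = n45394 := (sb E24920 F149854)
theorem F283555 : act 7 n97100 = n45393 := (sb E24920 (iv7 D97118))
theorem E24921 : n97114 = n97099 := (c15_4 (iv0 D97099) D97100 F283555 D97114)
theorem F283556 : act 2 n97099 = n45393 := (sb E24921 (iv2 D97114))
theorem F283557 : act 7 n97099 = n45394 := (sb E24921 (iv7 F149852))
theorem F283558 : act 2 n159839 = n93855 := d3_3 (iv6 D93855) F283535 D159839
theorem F283559 : act 2 n148750 = n90564 := d2_3 (iv5 F251970) F283558 F233526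
theorem F283560 : act 7 n90563 = n148750 := d15_2 F233531 F233532 F283559
theorem F283561 : act 7 n148749 = n90564 := d15_2 F233525 F233530 (iv2 F283559)
theorem F283562 : act 2 n90563 = n148749 := d4_3 F283561 (iv2 F283559) (iv7 F283560)
theorem F283563 : act 7 n93840 = n159751 := d11_2 F283534 D93840 (iv4 D159751)
theorem F283564 : act 2 n93845 = n159751 := d1_3 (iv4 D159751) F283533 D93845
theorem F283565 : act 2 n93846 = n159752 := d2_3 (iv5 D159752) F283533 D93846
theorem F283566 : act 2 n93847 = n159753 := d3_3 (iv6 D159753) F283533 D93847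
theorem E24922 : n118750 = n118702 := ((c3_3 F144670 F283565 F251698 (iv2 D118750))).symm
theorem F283567 : act 2 n118702 = n54673 := (sb E24922 (iv2 D118750))
theorem F283568 : act 7 n118702 = n54674 := (sb E24922 (iv7 F186808))
theorem E24923 : n149999 = n118755 := ((c8_2 F283568 D118755 F283548 (iv3 F259547))).symm
theorem F283569 : act 0 n118755 = n70565 := (sb E24923 (iv1 D149999))
theorem F283570 : act 1 n118755 = n164619 := (sb E24923 F259556)
theorem F283571 : act 2 n118755 = n164618 := (sb E24923 (iv2 F283549))
theorem F283572 : act 7 n118755 = n164617 := (sb E24923 F283548)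
theorem E24924 : n118754 = n118703 := (c15_4 F186701 F186708 F283568 (iv2 F186809))
theorem F283573 : act 2 n118703 = n54674 := (sb E24924 F186809)
theorem F283574 : act 7 n118703 = n54673 := (sb E24924 (iv7 D118754))
theorem F283575 : act 7 n118751 = n152479 := d8_2 F283574 D118751 (iv3 F239662)
theorem E24925 : n152472 = n152266 := (c11_3 F283575 (iv4 D152479) F239660 (iv4 F239329))
theorem F283576 : act 2 n152266 = n71921 := (sb E24925 (iv2 D152472))
theorem F283577 : act 7 n152266 = n71922 := (sb E24925 (iv7 F239660))
theorem E24926 : n152477 = n152267 := (c15_4 F239323 F239327 F283577 (iv2 F239661))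
theorem F283578 : act 2 n152267 = n71922 := (sb E24926 F239661)
theorem F283579 : act 7 n152267 = n71921 := (sb E24926 (iv7 D152477))
theorem F283580 : act 2 n152474 = n118751 := d1_3 F239329 F283576 D152474
theorem F283581 : act 7 n159747 = n93845 := d11_2 F283532 D159747 (iv4 D93845)
theorem F283582 : act 7 n159748 = n93846 := d13_2 F283532 D159748 (iv5 D93846)
theorem F283583 : act 2 n93841 = n159748 := d4_3 F283582 F283565 F283552
theorem F283584 : act 1 n93841 = n159683 := d15_0 (iv0 F251745) (iv7 F283582) (iv2 F283583)
theorem F283585 : act 2 n93840 = n159747 := d4_3 F283581 F283564 (iv7 F283563)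
theorem E24927 : n181944 = n88592 := ((c8_2 F283581 F144669 (iv7 D181944) (iv3 F251694))).symm
theorem F283586 : act 2 n88592 = n86901 := (sb E24927 F283242)
theorem F283587 : act 7 n88592 = n86900 := (sb E24927 (iv7 D181944))
theorem E24928 : n181941 = n88591 := (c15_4 (iv0 D88591) D88592 F283587 D181941)
theorem F283588 : act 2 n88591 = n86900 := (sb E24928 (iv2 D181941))
theorem F283589 : act 7 n88591 = n86901 := (sb E24928 (iv7 F283240))
theorem F283590 : act 2 n159749 = n93842 := d3_3 (iv6 D93842) F283531 D159749
theorem F283591 : act 2 n117340 = n90534 := d2_3 (iv5 F251695) F283590 F183749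
theorem F283592 : act 7 n90533 = n117340 := d15_2 F183755 F183756 F283591
theorem F283593 : act 7 n117339 = n90534 := d15_2 F183748 F183754 (iv2 F283591)
theorem F283594 : act 2 n90533 = n117339 := d4_3 F283593 (iv2 F283591) (iv7 F283592)
theorem F283595 : act 3 n148749 = n90533 := d8_3 F283592 (iv3 F251971) (iv7 F283561)
def n182144 : Q := act 5 n86975
theorem D182144 : act 5 n86975 = n182144 := rfl
def n182145 : Q := act 6 n86975
theorem D182145 : act 6 n86975 = n182145 := rfl
def n182146 : Q := act 7 n86975
theorem D182146 : act 7 n86975 = n182146 := rfl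
theorem F283596 : act 2 n182146 = n86976 := d4_1 D182146 F283523 (iv2 D182142)
def n182147 : Q := act 3 n86976
theorem D182147 : act 3 n86976 = n182147 := rfl
theorem F283597 : act 4 n92498 = n182147 := d20_2 (iv4 F67874) D92498 (iv3 D182147) (iv1 D86976) (iv3 D40382) (iv4 F63499) (iv1 F63780) (iv4 F133354) (iv3 F136684) (iv1 F136687)
theorem F283598 : act 0 n182147 = n93840 := d20_1 F283597 (iv4 D93840) F138027 (iv1 F114671) F68977 F32950 (iv1 F63703) (iv4 F35855) D43280 D92498
theorem F283600 : act 1 n182147 = n93845 := d15_1 (iv0 F283598) (iv7 F283581) (iv2 F283585)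
def n182148 : Q := act 4 n86976
theorem D182148 : act 4 n86976 = n182148 := rfl
theorem F283601 : act 3 n182148 = n90152 := d20_3 (iv4 F283258) (iv1 F283262) D182148 (iv1 D90152) (iv3 D42137) (iv4 D19879) (iv1 F15150) (iv4 F32471) (iv3 F67857) (iv1 F142255)
theorem F283602 : act 0 n159841 = n182148 := d20_10 (iv4 D182148) (iv1 D86976) (iv4 F65116) (iv3 D42183) (iv1 F32415) (iv3 F67735) F67736 D89897 F138024 D159841
theorem F283603 : act 1 n159746 = n182148 := d15_0 (iv0 F283602) F283530 (iv2 F251692)
def n182149 : Q := act 5 n86976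
theorem D182149 : act 5 n86976 = n182149 := rfl
theorem F283604 : act 0 n182149 = n86991 := d17_2 (iv1 F283262) D182149 (iv5 F135144) (iv4 F143469) F143470 (iv0 D52648) (iv5 F67852) F142256 (iv4 F283258)
def n182151 : Q := act 5 n86977
theorem D182151 : act 5 n86977 = n182151 := rfl
theorem F283605 : act 2 n182151 = n86978 := d2_1 D182151 (iv5 D86978) D86977
def n182152 : Q := act 6 n86977
theorem D182152 : act 6 n86977 = n182152 := rfl
theorem F283606 : act 2 n182152 = n86979 := d3_1 D182152 (iv6 D86979) D86977
theorem F283607 : act 4 n182152 = n92490 := d10_1 D182152 (iv6 D92490) (iv4 F133492)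
def n182153 : Q := act 0 n86978
theorem D182153 : act 0 n86978 = n182153 := rfl
def n182154 : Q := act 1 n86978
theorem D182154 : act 1 n86978 = n182154 := rfl
def n182155 : Q := act 4 n86978
theorem D182155 : act 4 n86978 = n182155 := rfl
def n182156 : Q := act 6 n86978
theorem D182156 : act 6 n86978 = n182156 := rfl
theorem F283608 : act 3 n182156 = n86983 := d7_1 D182156 (iv6 D86983) (iv3 F133493)
def n182157 : Q := act 0 n86979
theorem D182157 : act 0 n86979 = n182157 := rfl
def n182158 : Q := act 1 n86979
theorem D182158 : act 1 n86979 = n182158 := rfl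
theorem F283609 : act 5 n182158 = n101378 := d18_9 (iv1 D101378) D101379 F157418 (iv4 D102475) F74730 F72976 (iv0 F138819) F138818 D182158
def n182159 : Q := act 3 n86980
theorem D182159 : act 3 n86980 = n182159 := rfl
theorem F283610 : act 5 n182159 = n87931 := d6_2 (iv5 F133495) D182159 F134926
def n182160 : Q := act 4 n86980
theorem D182160 : act 4 n86980 = n182160 := rfl
theorem F283611 : act 2 n182160 = n93448 := d1_1 D182160 (iv4 D93448) F133497
theorem F283612 : act 5 n182160 = n94816 := d16_1 D182160 (iv4 D94816) (iv5 D44296) F33278 F62484 (iv4 F62373) (iv5 F133500) F133499 F133497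
theorem F283613 : act 0 n182160 = n87028 := d17_0 F133585 (iv1 F133519) (iv5 D87000) (iv4 D40392) (iv5 D19084) D19083 D40388 F133496 D182160
theorem F283614 : act 1 n182160 = n87014 := d18_6 (iv1 D41222) F31009 (iv1 F62076) (iv4 F62156) (iv5 F133495) D182160 (iv4 D87014) D87013 F133548
def n182161 : Q := act 6 n86980
theorem D182161 : act 6 n86980 = n182161 := rfl
theorem F283615 : act 2 n182161 = n93446 := d3_1 D182161 F144145 F133497
theorem F283616 : act 5 n182161 = n87933 := d12_1 D182161 (iv6 D87933) (iv5 D41049) D41050 (iv5 F133495)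
def n182162 : Q := act 4 n86981
theorem D182162 : act 4 n86981 = n182162 := rfl
theorem F283617 : act 5 n182162 = n102384 := d9_2 (iv5 F133500) D182162 (iv4 D102384) (iv5 F133555) (iv4 D87018) F61492 (iv4 F62156) (iv5 F133495) D182160 F283612 (iv4 D94816) (iv5 D44296) F33278 F62484 (iv4 F62373)
theorem F283618 : act 7 n182162 = n93448 := d11_2 (iv7 F133499) D182162 (iv4 D93448)
theorem F283619 : act 0 n182162 = n87014 := d17_0 F133549 (iv1 D41195) D41197 (iv4 F133350) F133351 F61384 D40384 D86981 D182162
theorem F283620 : act 1 n182162 = n87028 := d18_6 F63247 (iv4 D40864) (iv1 F31022) (iv4 F62373) (iv5 F133500) D182162 (iv4 D87028) F133546 F133545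
theorem F283621 : act 0 n100177 = n87026 := d20_4 D89465 (iv1 F154134) (iv4 D100186) (iv3 F154126) F133583 D87028 (iv1 F283620) (iv4 D182162) (iv3 F137133) (iv1 D89464)
def n182163 : Q := act 6 n86981
theorem D182163 : act 6 n86981 = n182163 := rfl
def n182164 : Q := act 0 n86982
theorem D182164 : act 0 n86982 = n182164 := rfl
theorem F283622 : act 5 n182164 = n88313 := d17_1 D182164 F135222 (iv5 F157216) (iv4 D102395) (iv5 D47510) F62157 (iv5 F133495) (iv0 D86980) D86982
theorem F283623 : act 4 n182164 = n88335 := d18_1 D182164 F135275 D181975 F283288 (iv4 F147066) (iv0 D95442) F135180 F135178 (iv5 F133501)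
theorem F283624 : act 1 n86989 = n182164 := d15_0 (iv0 D182164) (iv7 F283267) F283265
def n182165 : Q := act 1 n86982
theorem D182165 : act 1 n86982 = n182165 := rfl
theorem F283625 : act 1 n182165 = n86989 := d15_1 D182165 (iv7 F137171) F137170
theorem F283626 : act 5 n182165 = n88316 := d17_7 (iv1 F74688) (iv5 F133555) F133556 (iv5 D41192) D41191 (iv5 F133501) D182165 F135228 (iv4 D87705)
theorem F283627 : act 4 n182165 = n88332 := d18_7 F63561 F30803 (iv1 F63497) F63499 D40384 D86982 D182165 F135263 (iv5 D86915)
def n182166 : Q := act 3 n86982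
theorem D182166 : act 3 n86982 = n182166 := rfl
theorem F283628 : act 5 n182166 = n88265 := d6_2 (iv5 F133501) D182166 (iv3 D88265)
def n182167 : Q := act 6 n86982
theorem D182167 : act 6 n86982 = n182167 := rfl
theorem F283629 : act 4 n182167 = n86983 := d10_1 D182167 (iv6 D86983) D86982
def n182168 : Q := act 0 n86983
theorem D182168 : act 0 n86983 = n182168 := rfl
def n182169 : Q := act 1 n86983
theorem D182169 : act 1 n86983 = n182169 := rfl
def n182170 : Q := act 7 n86983
theorem D182170 : act 7 n86983 = n182170 := rfl
def n182171 : Q := act 2 n86984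
theorem D182171 : act 2 n86984 = n182171 := rfl
theorem F283630 : act 7 n86985 = n182171 := d15_2 (iv0 D86984) D86985 (iv2 D182171)
def n182172 : Q := act 3 n86984
theorem D182172 : act 3 n86984 = n182172 := rfl
theorem F283631 : act 4 n182172 = n95612 := d20_6 F133354 (iv1 F63779) F31273 D40387 D86984 D182172 (iv1 D95612) (iv4 F72592) F72591 D86912
def n182175 : Q := act 7 n86984
theorem D182175 : act 7 n86984 = n182175 := rfl
theorem F283632 : act 2 n182175 = n86985 := d4_1 D182175 F283630 (iv2 D182171)
def n182176 : Q := act 5 n86985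
theorem D182176 : act 5 n86985 = n182176 := rfl
def n182177 : Q := act 6 n86985
theorem D182177 : act 6 n86985 = n182177 := rfl
def n182178 : Q := act 5 n86986
theorem D182178 : act 5 n86986 = n182178 := rfl
theorem F283633 : act 2 n182178 = n86987 := d2_1 D182178 (iv5 D86987) D86986
def n182179 : Q := act 6 n86986
theorem D182179 : act 6 n86986 = n182179 := rfl
theorem F283634 : act 2 n182179 = n86988 := d3_1 D182179 (iv6 D86988) D86986
def n182180 : Q := act 0 n86987
theorem D182180 : act 0 n86987 = n182180 := rfl
def n182181 : Q := act 1 n86987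
theorem D182181 : act 1 n86987 = n182181 := rfl
def n182182 : Q := act 4 n86987
theorem D182182 : act 4 n86987 = n182182 := rfl
def n182183 : Q := act 6 n86987
theorem D182183 : act 6 n86987 = n182183 := rfl
theorem F283635 : act 3 n182183 = n86990 := d7_1 D182183 (iv6 D86990) (iv3 F133502)
def n182184 : Q := act 0 n86988
theorem D182184 : act 0 n86988 = n182184 := rfl
def n182185 : Q := act 1 n86988
theorem D182185 : act 1 n86988 = n182185 := rfl
def n182186 : Q := act 3 n86989
theorem D182186 : act 3 n86989 = n182186 := rfl
theorem F283636 : act 5 n182186 = n88253 := d6_2 (iv5 F133504) D182186 (iv3 D88253)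
def n182187 : Q := act 6 n86989
theorem D182187 : act 6 n86989 = n182187 := rfl
theorem F283637 : act 4 n182187 = n86990 := d10_1 D182187 (iv6 D86990) D86989
def n182188 : Q := act 0 n86990
theorem D182188 : act 0 n86990 = n182188 := rfl
def n182189 : Q := act 1 n86990
theorem D182189 : act 1 n86990 = n182189 := rfl
def n182190 : Q := act 7 n86990
theorem D182190 : act 7 n86990 = n182190 := rfl
def n182191 : Q := act 0 n86991
theorem D182191 : act 0 n86991 = n182191 := rfl
def n182192 : Q := act 2 n86991
theorem D182192 : act 2 n86991 = n182192 := rfl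
def n182193 : Q := act 4 n86991
theorem D182193 : act 4 n86991 = n182193 := rfl
def n182194 : Q := act 6 n86991
theorem D182194 : act 6 n86991 = n182194 := rfl
theorem F283638 : act 3 n182194 = n86993 := d7_1 D182194 (iv6 D86993) D86991
def n182195 : Q := act 0 n86992
theorem D182195 : act 0 n86992 = n182195 := rfl
theorem F283639 : act 5 n182195 = n88252 := d17_1 D182195 (iv1 D88252) (iv5 F133504) (iv4 D86989) (iv5 D40388) F61383 (iv5 F133351) F133353 D86992
theorem F283640 : act 4 n182195 = n88326 := d18_1 D182195 (iv1 D88326) D88327 F135243 (iv4 D87723) D87722 (iv4 F135154) F135153 (iv5 F133505)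
theorem F283641 : act 1 n86995 = n182195 := d15_0 (iv0 D182195) (iv7 F135159) F135158
theorem F283642 : act 7 n182195 = n181977 := d15_2 F134103 F283641 F283292
def n182196 : Q := act 3 n86992
theorem D182196 : act 3 n86992 = n182196 := rfl
theorem F283643 : act 5 n182196 = n88238 := d6_2 (iv5 F133505) D182196 (iv3 D88238)
def n182197 : Q := act 6 n86992
theorem D182197 : act 6 n86992 = n182197 := rfl
theorem F283644 : act 4 n182197 = n86993 := d10_1 D182197 (iv6 D86993) D86992
def n182198 : Q := act 0 n86993
theorem D182198 : act 0 n86993 = n182198 := rfl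
def n182199 : Q := act 1 n86993
theorem D182199 : act 1 n86993 = n182199 := rfl
def n182200 : Q := act 7 n86993
theorem D182200 : act 7 n86993 = n182200 := rfl
def n182201 : Q := act 0 n86994
theorem D182201 : act 0 n86994 = n182201 := rfl
def n182202 : Q := act 1 n86994
theorem D182202 : act 1 n86994 = n182202 := rfl
def n182203 : Q := act 2 n86994
theorem D182203 : act 2 n86994 = n182203 := rfl
theorem F283645 : act 5 n182203 = n102376 := d2_2 (iv5 F133506) D182203 F157182
def n182204 : Q := act 4 n86994
theorem D182204 : act 4 n86994 = n182204 := rfl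
def n182205 : Q := act 6 n86994
theorem D182205 : act 6 n86994 = n182205 := rfl
theorem F283646 : act 3 n182205 = n86996 := d7_1 D182205 (iv6 D86996) D86994
theorem F283647 : act 5 n182205 = n102380 := d12_1 D182205 (iv6 D102380) (iv5 D47502) D47503 (iv5 F133506)
def n182206 : Q := act 3 n86995
theorem D182206 : act 3 n86995 = n182206 := rfl
theorem F283648 : act 5 n182206 = n88214 := d6_2 (iv5 F133507) D182206 (iv3 D88214)
def n182207 : Q := act 6 n86995
theorem D182207 : act 6 n86995 = n182207 := rfl
theorem F283649 : act 4 n182207 = n86996 := d10_1 D182207 (iv6 D86996) D86995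
def n182209 : Q := act 1 n86996
theorem D182209 : act 1 n86996 = n182209 := rfl
def n182211 : Q := act 3 n86997
theorem D182211 : act 3 n86997 = n182211 := rfl
theorem F283651 : act 5 n182211 = n88364 := d6_2 F133510 D182211 (iv3 D88364)
def n182212 : Q := act 6 n86997
theorem D182212 : act 6 n86997 = n182212 := rfl
theorem F283652 : act 4 n182212 = n88341 := d10_1 D182212 (iv6 D88341) (iv4 F133509)
def n182213 : Q := act 3 n86998
theorem D182213 : act 3 n86998 = n182213 := rfl
theorem F283653 : act 5 n182213 = n88319 := d6_2 (iv5 F133514) D182213 (iv3 D88319)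
def n182214 : Q := act 6 n86998
theorem D182214 : act 6 n86998 = n182214 := rfl
def n182215 : Q := act 0 n86999
theorem D182215 : act 0 n86999 = n182215 := rfl
def n182216 : Q := act 1 n86999
theorem D182216 : act 1 n86999 = n182216 := rfl
def n182217 : Q := act 2 n86999
theorem D182217 : act 2 n86999 = n182217 := rfl
def n182218 : Q := act 5 n86999
theorem D182218 : act 5 n86999 = n182218 := rfl
theorem F283655 : act 3 n182218 = n87000 := d6_1 D182218 (iv5 D87000) D86999
theorem F283656 : act 7 n87715 = n182218 := d8_0 F283655 F133517 D87715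
def n182219 : Q := act 7 n86999
theorem D182219 : act 7 n86999 = n182219 := rfl
theorem F283657 : act 3 n182219 = n87001 := d8_1 D182219 (iv7 D87001) D86999
theorem F283658 : act 5 n182219 = n87715 := d13_1 D182219 F283656 (iv5 D182218)
def n182220 : Q := act 6 n87000
theorem D182220 : act 6 n87000 = n182220 := rfl
theorem F283659 : act 2 n182220 = n88283 := d3_1 D182220 (iv6 D88283) (iv2 F133515)
theorem F283660 : act 4 n182220 = n87716 := d10_1 D182220 (iv6 D87716) (iv4 F133516)
def n182221 : Q := act 6 n87001
theorem D182221 : act 6 n87001 = n182221 := rfl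
theorem F283661 : act 2 n182221 = n88282 := d3_1 D182221 (iv6 D88282) (iv2 F133520)
theorem F283662 : act 4 n182221 = n87002 := d10_1 D182221 (iv6 D87002) (iv4 F133521)
def n182222 : Q := act 0 n87002
theorem D182222 : act 0 n87002 = n182222 := rfl
def n182223 : Q := act 1 n87002
theorem D182223 : act 1 n87002 = n182223 := rfl
def n182224 : Q := act 5 n87005
theorem D182224 : act 5 n87005 = n182224 := rfl
theorem F283663 : act 3 n182224 = n87006 := d6_1 D182224 (iv5 D87006) D87005
theorem F283664 : act 7 n182224 = n87339 := d13_2 (iv7 F133539) D182224 (iv5 D87339)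
def n182225 : Q := act 4 n87006
theorem D182225 : act 4 n87006 = n182225 := rfl
theorem F283665 : act 2 n182225 = n182195 := d1_1 D182225 F283640 (iv2 F135240)
theorem F283666 : act 5 n182225 = n87747 := d9_2 D87006 D182225 (iv4 D87747) (iv5 D40889) F30928 (iv5 F31155) (iv4 F61388) D86916 D181977 F283293 (iv4 D88292) (iv5 D41207) (iv4 F35319) (iv5 F61489) F61488
theorem F283667 : act 7 n182225 = n87345 := d11_2 (iv7 F133540) D182225 (iv4 D87345)
theorem F283668 : act 0 n182225 = n88220 := d17_0 F135160 (iv1 F135223) (iv5 F283622) F283623 (iv5 D88335) F62451 D41258 (iv0 F133541) D182225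
theorem F283669 : act 1 n182225 = n102395 := d18_6 F31424 (iv4 D19663) D19660 F61488 D87006 D182225 (iv4 D102395) F74707 (iv5 D40319)
def n182226 : Q := act 6 n87006
theorem D182226 : act 6 n87006 = n182226 := rfl
def n182227 : Q := act 2 n87007
theorem D182227 : act 2 n87007 = n182227 := rfl
theorem F283670 : act 7 n87008 = n182227 := d15_2 (iv0 D87007) D87008 (iv2 D182227)
def n182228 : Q := act 4 n87007
theorem D182228 : act 4 n87007 = n182228 := rfl
theorem F283672 : act 0 n89706 = n182228 := d20_10 (iv4 D182228) (iv1 F137081) (iv4 D89399) (iv3 F136249) (iv1 F136253) D89357 (iv4 F147370) (iv1 F149592) F149590 (iv3 F137673)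
def n182229 : Q := act 5 n87007
theorem D182229 : act 5 n87007 = n182229 := rfl
def n182230 : Q := act 6 n87007
theorem D182230 : act 6 n87007 = n182230 := rfl
def n182231 : Q := act 7 n87007
theorem D182231 : act 7 n87007 = n182231 := rfl
theorem F283673 : act 2 n182231 = n87008 := d4_1 D182231 F283670 (iv2 D182227)
def n182232 : Q := act 3 n87008
theorem D182232 : act 3 n87008 = n182232 := rfl
def n182233 : Q := act 4 n87008
theorem D182233 : act 4 n87008 = n182233 := rfl
theorem F283674 : act 3 n182233 = n88886 := d20_9 (iv4 F137156) (iv1 F137161) (iv4 F137163) F137162 (iv1 F136251) F136249 D89399 (iv1 F137079) D182233 (iv1 F136351)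
theorem F283675 : act 0 n89470 = n182233 := d20_10 (iv4 D182233) (iv1 D87008) (iv4 F63926) (iv3 D41477) (iv1 F31266) (iv3 F31400) F31401 (iv1 F31478) D41891 (iv3 F137136)
theorem F283676 : act 0 n182232 = n181942 := d20_4 D89470 F283675 (iv4 D182233) D182232 F283241 F251693 F283525 (iv4 D182143) F137076 F137138
theorem F283677 : act 1 n89706 = n182233 := d15_0 (iv0 F283675) F137137 D89706
def n182236 : Q := act 5 n87009
theorem D182236 : act 5 n87009 = n182236 := rfl
theorem F283678 : act 2 n182236 = n87010 := d2_1 D182236 (iv5 D87010) D87009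
def n182237 : Q := act 6 n87009
theorem D182237 : act 6 n87009 = n182237 := rfl
theorem F283679 : act 2 n182237 = n87011 := d3_1 D182237 (iv6 D87011) D87009
def n182238 : Q := act 0 n87010
theorem D182238 : act 0 n87010 = n182238 := rfl
def n182239 : Q := act 1 n87010
theorem D182239 : act 1 n87010 = n182239 := rfl
def n182240 : Q := act 4 n87010
theorem D182240 : act 4 n87010 = n182240 := rfl
def n182241 : Q := act 6 n87010
theorem D182241 : act 6 n87010 = n182241 := rfl
theorem F283680 : act 3 n182241 = n87015 := d7_1 D182241 (iv6 D87015) (iv3 F133543)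
def n182242 : Q := act 0 n87011
theorem D182242 : act 0 n87011 = n182242 := rfl
def n182243 : Q := act 1 n87011
theorem D182243 : act 1 n87011 = n182243 := rfl
def n182244 : Q := act 5 n87011
theorem D182244 : act 5 n87011 = n182244 := rfl
theorem F283681 : act 3 n182244 = n87017 := d6_1 D182244 (iv5 D87017) (iv3 F133544)
def n182245 : Q := act 3 n87012
theorem D182245 : act 3 n87012 = n182245 := rfl
theorem F283682 : act 5 n182245 = n87914 := d6_2 (iv5 F133545) D182245 F134910
def n182246 : Q := act 4 n87012
theorem D182246 : act 4 n87012 = n182246 := rfl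
theorem F283683 : act 2 n182246 = n182164 := d1_1 D182246 F283623 F135273
theorem F283684 : act 7 n182246 = n182165 := d11_2 F135261 D182246 F283627
theorem F283685 : act 5 n182246 = n88212 := d16_1 D182246 F135151 F134643 F133401 (iv5 F64030) (iv4 F62418) (iv5 F133548) (iv7 F135274) F135273
theorem F283686 : act 0 n182246 = n181968 := d17_0 F283266 (iv1 F135207) (iv5 F283293) (iv4 D181977) (iv5 D86916) F63121 D40423 F133546 D182246
theorem F283687 : act 1 n182246 = n89491 := d18_6 F62421 F35399 D22828 (iv4 F63249) (iv5 F133545) D182246 (iv4 D89491) (iv0 F135250) (iv5 D88329)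
def n182247 : Q := act 6 n87012
theorem D182247 : act 6 n87012 = n182247 := rfl
theorem F283688 : act 5 n182247 = n87916 := d12_1 D182247 (iv6 D87916) (iv5 D41019) D41020 (iv5 F133545)
def n182248 : Q := act 3 n87013
theorem D182248 : act 3 n87013 = n182248 := rfl
theorem F283689 : act 5 n182248 = n88325 := d6_2 (iv5 F133548) D182248 (iv3 D88325)
def n182249 : Q := act 4 n87013
theorem D182249 : act 4 n87013 = n182249 := rfl
theorem F283690 : act 2 n182249 = n182165 := d1_1 D182249 F283627 F135260
theorem F283691 : act 5 n182249 = n88213 := d9_2 (iv5 F133548) D182249 F135154 F134649 F133558 F64438 (iv4 F63249) (iv5 F133545) D182246 F283685 F135151 F134643 F133401 (iv5 F64030) (iv4 F62418)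
theorem F283692 : act 7 n182249 = n182164 := d11_2 F135274 D182249 F283623
theorem F283693 : act 0 n182249 = n89491 := d17_0 F137172 (iv1 F134712) (iv5 F283666) (iv4 D182225) (iv5 D87006) (iv0 D40404) D40407 D87013 D182249
theorem F283694 : act 1 n182249 = n181968 := d18_6 F62472 F62378 (iv1 F35407) (iv4 F62418) (iv5 F133548) D182249 (iv4 D181968) F133345 (iv5 D43702)
def n182250 : Q := act 6 n87013
theorem D182250 : act 6 n87013 = n182250 := rfl
theorem F283695 : act 5 n182250 = n87586 := d12_1 D182250 (iv6 D87586) (iv5 F75866) (iv6 F75868) (iv5 F133548)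
def n182251 : Q := act 3 n87014
theorem D182251 : act 3 n87014 = n182251 := rfl
theorem F283696 : act 5 n182251 = n88275 := d6_2 (iv5 F133549) D182251 (iv3 D88275)
def n182252 : Q := act 6 n87014
theorem D182252 : act 6 n87014 = n182252 := rfl
theorem F283697 : act 4 n182252 = n87015 := d10_1 D182252 (iv6 D87015) D87014
def n182253 : Q := act 0 n87015
theorem D182253 : act 0 n87015 = n182253 := rfl
def n182254 : Q := act 1 n87015
theorem D182254 : act 1 n87015 = n182254 := rfl
def n182255 : Q := act 5 n87015
theorem D182255 : act 5 n87015 = n182255 := rfl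
theorem F283698 : act 6 n182255 = n87017 := d12_2 D87015 D182255 (iv5 D87017) (iv6 D40408) D40407
def n182256 : Q := act 7 n87015
theorem D182256 : act 7 n87015 = n182256 := rfl
def n182257 : Q := act 3 n87018
theorem D182257 : act 3 n87018 = n182257 := rfl
theorem F283699 : act 4 n182257 = n182257 := d5_2 D87018 D182257 (iv3 D182257) (iv4 D87018) F62183
theorem F283700 : act 5 n182257 = n102383 := d6_2 (iv5 F133555) D182257 (iv3 D102383)
theorem F283701 : act 7 n182257 = n87597 := d8_2 (iv7 F133554) D182257 F134469
def n182258 : Q := act 3 n87019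
theorem D182258 : act 3 n87019 = n182258 := rfl
theorem F283702 : act 4 n182258 = n89927 := d5_2 (iv4 F133558) D182258 (iv3 D89927) (iv4 D42019) F64439
theorem F283703 : act 7 n182258 = n87581 := d8_2 (iv7 F133560) D182258 F134464
def n182259 : Q := act 0 n87020
theorem D182259 : act 0 n87020 = n182259 := rfl
theorem F283704 : act 4 n182259 = n182243 := d20_0 (iv1 D182243) (iv4 F136230) F136229 F66327 F33631 F33278 (iv1 F62497) D40412 D87020 D182259
def n182260 : Q := act 1 n87020
theorem D182260 : act 1 n87020 = n182260 := rfl
theorem F283705 : act 4 n182242 = n182260 := d20_0 (iv1 D182260) (iv4 F152604) (iv3 D99081) (iv1 F73000) (iv3 F69214) F69215 F66190 (iv4 F61482) (iv3 F133544) D182242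
def n182261 : Q := act 2 n87020
theorem D182261 : act 2 n87020 = n182261 := rfl
def n182262 : Q := act 5 n87020
theorem D182262 : act 5 n87020 = n182262 := rfl
theorem F283706 : act 3 n182262 = n87021 := d6_1 D182262 (iv5 D87021) D87020
def n182263 : Q := act 6 n87020
theorem D182263 : act 6 n87020 = n182263 := rfl
theorem F283707 : act 3 n182263 = n87022 := d7_1 D182263 (iv6 D87022) D87020
theorem F283708 : act 4 n182263 = n96154 := d10_1 D182263 (iv6 F152606) F152604
def n182264 : Q := act 6 n87021
theorem D182264 : act 6 n87021 = n182264 := rfl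
theorem F283710 : act 4 n182264 = n88273 := d10_1 D182264 (iv6 D88273) (iv4 F133563)
def n182265 : Q := act 0 n87026
theorem D182265 : act 0 n87026 = n182265 := rfl
def n182266 : Q := act 4 n87026
theorem D182266 : act 4 n87026 = n182266 := rfl
def n182267 : Q := act 6 n87026
theorem D182267 : act 6 n87026 = n182267 := rfl
theorem F283711 : act 3 n182267 = n87029 := d7_1 D182267 (iv6 D87029) (iv3 F133583)
def n182268 : Q := act 0 n87027
theorem D182268 : act 0 n87027 = n182268 := rfl
theorem F283712 : act 2 n100563 = n182268 := d15_3 (iv0 D182268) (iv0 F136738) (iv7 F154634)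
theorem F283713 : act 5 n182268 = n100561 := d2_2 D100563 F283712 (iv2 D100561)
theorem F283714 : act 7 n182268 = n87551 := d4_2 (iv7 F154634) F283712 (iv2 F136735)
theorem F283715 : act 1 n100563 = n98348 := d15_0 F154639 (iv7 F283714) (iv2 F283712)
def n182269 : Q := act 3 n87028
theorem D182269 : act 3 n87028 = n182269 := rfl
theorem F283716 : act 5 n182269 = n88272 := d6_2 (iv5 F133585) D182269 (iv3 D88272)
def n182270 : Q := act 6 n87028
theorem D182270 : act 6 n87028 = n182270 := rfl
theorem F283717 : act 4 n182270 = n87029 := d10_1 D182270 (iv6 D87029) D87028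
def n182271 : Q := act 0 n87029
theorem D182271 : act 0 n87029 = n182271 := rfl
def n182272 : Q := act 1 n87029
theorem D182272 : act 1 n87029 = n182272 := rfl
def n182273 : Q := act 5 n87029
theorem D182273 : act 5 n87029 = n182273 := rfl
theorem F283718 : act 6 n182273 = n87032 := d12_2 D87029 D182273 (iv5 D87032) (iv6 D40424) D40423
def n182274 : Q := act 7 n87029
theorem D182274 : act 7 n87029 = n182274 := rfl
def n182275 : Q := act 3 n87030
theorem D182275 : act 3 n87030 = n182275 := rfl
theorem F283719 : act 4 n182275 = n90682 := d5_2 (iv4 F137307) D182275 F139596 F71740 D89562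
theorem F283720 : act 5 n182275 = n100398 := d6_2 (iv5 F133586) D182275 (iv3 F154441)
theorem F283721 : act 7 n182275 = n87572 := d8_2 F133587 D182275 F134454
theorem F283722 : act 0 n182275 = n96158 := d20_4 (iv4 F135828) (iv1 F137308) (iv4 F137307) D182275 (iv3 D96158) (iv4 D44878) (iv1 D21401) (iv4 F33588) F33587 D44265
theorem F283723 : act 1 n89036 = n96158 := d15_0 (iv0 F283722) F283721 (iv2 F136710)
theorem F283724 : act 2 n100450 = n182275 := d4_3 F283721 (iv2 F136710) (iv7 F154510)
theorem F283725 : act 1 n100450 = n89612 := d15_0 (iv0 F142412) (iv7 F283721) (iv2 F283724)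
theorem E24929 : n90679 = n90518 := ((c17_2 F177382 D90518 (iv1 D90679) D90682 (iv4 F283719) F283720 (iv0 D100398) (iv5 D46857) D46856 (iv4 F138917))).symm
theorem F283726 : act 0 n90518 = n42453 := (sb E24929 (iv1 D90679))
def n182276 : Q := act 2 n87033
theorem D182276 : act 2 n87033 = n182276 := rfl
theorem F283727 : act 6 n182276 = n87538 := d3_2 (iv6 F136477) D182276 (iv2 F136476)
def n182277 : Q := act 5 n87033
theorem D182277 : act 5 n87033 = n182277 := rfl
theorem F283728 : act 3 n182277 = n87034 := d6_1 D182277 (iv5 D87034) D87033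
theorem F283729 : act 0 n182277 = n87876 := d21_7 D46679 F73777 F34957 D41522 D88921 (iv6 F136477) D182277 (iv5 D87876) (iv6 D40999) (iv1 F34941)
theorem E24930 : n100560 = n99945 := ((c21_7 D182277 F283729 (iv5 D87876) (iv6 D40999) (iv1 F34941) D46680 D99945 (iv1 D100560) D100563 (iv6 F154636) F137248)).symm
theorem F283730 : act 0 n99945 = n46912 := (sb E24930 (iv1 D100560))
theorem F283731 : act 1 n182277 = n88354 := d15_1 (iv0 F283729) (iv7 F152853) F152851
theorem E24931 : n103813 = n103649 := (c17_7 (iv1 F140416) D99945 F283730 D100563 (iv4 F154635) F147604 D103813 (iv5 D103649) (iv0 F177391) F158964)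
theorem F283732 : act 0 n103649 = n48063 := (sb E24931 (iv1 D103813))
def n182278 : Q := act 6 n87034
theorem D182278 : act 6 n87034 = n182278 := rfl
theorem F283733 : act 4 n182278 = n88276 := d10_1 D182278 (iv6 D88276) (iv4 F133590)
def n182279 : Q := act 3 n87035
theorem D182279 : act 3 n87035 = n182279 := rfl
theorem F283734 : act 5 n182279 = n88497 := d6_2 (iv5 F133593) D182279 (iv3 D88497)
theorem F283735 : act 7 n182279 = n159683 := d8_2 F133613 D182279 F251565
theorem F283736 : act 0 n159748 = n182279 := d21_1 D159748 F283734 F135475 F157721 (iv6 D42362) F31825 (iv1 D16936) D16937 (iv6 F55273) D76422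
theorem F283737 : act 1 n159752 = n182279 := d15_0 (iv0 F283736) F283582 F283565
theorem F283738 : act 1 n151570 = n159752 := d15_0 F283737 F283735 F251564
theorem F283739 : act 1 n159748 = n151570 := d15_0 F283738 F283552 F283583
def n182280 : Q := act 4 n87035
theorem D182280 : act 4 n87035 = n182280 := rfl
theorem F283740 : act 2 n182280 = n92888 := d1_1 D182280 (iv4 D92888) F133595
theorem F283741 : act 5 n182280 = n88534 := d16_1 D182280 (iv4 D88534) F63679 (iv4 F62871) (iv5 F63348) F63631 (iv5 F133598) F133597 F133595
theorem F283742 : act 0 n182280 = n92459 := d17_0 F142259 (iv1 F139407) F135466 (iv4 D44065) (iv5 D20931) (iv0 F63211) D42191 F133594 D182280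
theorem F283743 : act 1 n182280 = n92453 := d18_6 F63633 (iv4 D22876) D22874 (iv4 F63625) (iv5 F133593) D182280 (iv4 D92453) (iv0 F135488) (iv5 D88502)
def n182281 : Q := act 6 n87035
theorem D182281 : act 6 n87035 = n182281 := rfl
theorem F283744 : act 2 n182281 = n92886 := d3_1 D182281 F143264 F133595
theorem F283745 : act 5 n182281 = n92604 := d12_1 D182281 (iv6 D92604) (iv5 D43321) F63628 (iv5 F133593)
def n182282 : Q := act 4 n87036
theorem D182282 : act 4 n87036 = n182282 := rfl
theorem F283746 : act 5 n182282 = n88531 := d9_2 (iv5 F133598) D182282 (iv4 D88531) (iv5 F133604) F133605 (iv5 D47578) (iv4 F63625) (iv5 F133593) D182280 F283741 (iv4 D88534) F63679 (iv4 F62871) (iv5 F63348) F63631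
theorem F283747 : act 6 n182282 = n120120 := d10_2 (iv6 F161640) D182282 (iv4 D120120)
theorem F283748 : act 7 n182282 = n92888 := d11_2 (iv7 F133597) D182282 (iv4 D92888)
theorem F283749 : act 0 n182282 = n92453 := d17_0 F142239 (iv1 D90576) D90578 F139414 F68972 (iv0 F63209) D40432 D87036 D182282
theorem F283750 : act 1 n182282 = n92459 := d18_6 D43524 (iv4 F69229) F69228 F63631 (iv5 F133598) D182282 (iv4 D92459) F68403 (iv5 D43525)
theorem F283751 : act 0 n120120 = n152462 := d21_4 F138820 (iv1 F135584) (iv5 F283746) F283747 (iv6 D152462) F108424 F109353 (iv5 F114402) F114403 (iv1 F138821)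
theorem E24932 : n159965 = n159589 := (c20_11 (iv4 F261851) F261854 F233981 F106222 (iv1 F56568) D55272 D120120 F283751 F239652 F177688 D159965)
theorem F283752 : act 0 n159589 = n152432 := (sb E24932 (iv1 F252316))
theorem F283753 : act 1 n159589 = n76588 := (sb E24932 (iv0 D159965))
theorem E24933 : n159984 = n159966 := ((c15_2 F283753 D159966 F259280 (iv2 F259279))).symm
theorem F283755 : act 3 n159966 = n76598 := (sb E24933 (iv3 D159984))
theorem F283757 : act 4 n120659 = n164212 := d20_0 (iv1 F258841) F239624 (iv3 F239616) (iv1 F252311) F283755 (iv4 F253051) (iv1 D151558) F107992 (iv3 F87971) D120659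
theorem F283758 : act 2 n164212 = n164511 := d1_1 F283757 (iv4 D164511) (iv2 F259273)
theorem F283759 : act 7 n164212 = n152436 := d11_2 (iv7 F259274) F283757 (iv4 F259277)
theorem E24934 : n120104 = n114566 := (c20_4 (iv4 F120061) D164212 (iv4 F283757) (iv3 F259275) (iv1 F178657) F87467 (iv4 F55217) (iv1 F55219) (iv4 F177837) D76359 F258961)
theorem F283760 : act 2 n114566 = n55263 := (sb E24934 (iv2 D120104))
theorem F283761 : act 3 n114566 = n120659 := (sb E24934 F259275)
theorem F283762 : act 7 n114566 = n55264 := (sb E24934 (iv7 F189725))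
theorem E24935 : n120109 = n114567 := (c15_4 F178655 F178657 F283762 (iv2 F189726))
theorem F283763 : act 2 n114567 = n55264 := (sb E24935 F189726)
theorem F283764 : act 4 n114567 = n150463 := (sb E24935 F236918)
theorem F283765 : act 7 n114567 = n55263 := (sb E24935 (iv7 D120109))
theorem F283766 : act 0 n150463 = n114570 := d20_1 F283764 F178663 F120118 (iv1 F193482) (iv3 D76354) (iv4 F177812) (iv1 F55220) F55217 (iv3 F87467) (iv1 F178655)
theorem F283767 : act 0 n147029 = n159617 := d20_4 F52030 D54027 (iv4 F131151) D147029 F251445 F189724 (iv1 F178655) F283764 (iv3 D150463) (iv1 D70907)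
theorem E24936 : n170425 = n159613 := ((c20_2 F251446 (iv1 F251435) (iv4 D170425) (iv3 D81708) (iv1 D37344) (iv3 F52029) F52030 D54027 (iv4 F131151) D147029 F283767)).symm
theorem F283768 : act 4 n159613 = n81708 := (sb E24936 (iv4 D170425))
theorem F283769 : act 2 n152436 = n164213 := d15_3 F258833 F258841 F283759
theorem F283770 : act 7 n164511 = n164213 := d4_2 (iv7 F283759) F283758 (iv2 F283769)
theorem E24937 : n164511 = n152435 := (c15_4 (iv0 D152435) D152436 (iv7 F283759) F283758)
theorem F283771 : act 2 n152435 = n164212 := (sb E24937 (iv2 F283758))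
theorem F283772 : act 4 n152435 = n79005 := (sb E24937 (iv4 D164511))
theorem F283773 : act 7 n152435 = n164213 := (sb E24937 F283770)
theorem F283774 : act 4 n164213 = n120660 := d11_1 F283773 F259271 (iv4 F283772)
theorem E24938 : n164456 = n164209 := ((c20_5 (iv4 F283774) (iv1 D164213) F120061 (iv3 F120058) D164209 (iv3 D164456) D164457 F259102 (iv4 F259000) F177958 (iv1 F192330))).symm
theorem F283775 : act 3 n164209 = n78982 := (sb E24938 (iv3 D164456))
def n182283 : Q := act 0 n87037
theorem D182283 : act 0 n87037 = n182283 := rfl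
theorem F283776 : act 5 n182283 = n88537 := d17_1 D182283 (iv1 D88537) D88539 F135596 F68970 F63626 (iv5 F133593) (iv0 D87035) D87037
theorem F283777 : act 4 n182283 = n88509 := d18_1 D182283 F135510 D89557 (iv5 F139292) (iv4 D90501) (iv0 D42358) D42360 D90507 (iv5 F139305)
theorem F283778 : act 1 n90264 = n182283 := d15_0 (iv0 D182283) (iv7 F133614) (iv2 F138831)
theorem F283779 : act 2 n93026 = n182283 := d1_3 F283777 F135508 D93026
def n182284 : Q := act 1 n87037
theorem D182284 : act 1 n87037 = n182284 := rfl
theorem F283780 : act 1 n182284 = n90264 := d15_1 D182284 (iv7 F142290) F142289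
theorem F283781 : act 7 n182284 = n93026 := d15_2 (iv0 D182283) D182284 F283779
theorem F283782 : act 5 n182284 = n88536 := d17_7 D41327 (iv5 F133604) (iv1 F133608) F65479 (iv4 F139304) (iv5 F139305) D182284 (iv0 D88536) (iv4 D41329)
theorem F283783 : act 4 n182284 = n88511 := d17_9 F135516 (iv5 D42184) (iv1 F32415) (iv5 F67776) (iv4 F139307) (iv5 D90509) D90507 (iv5 F139305) D182284
def n182285 : Q := act 3 n87037
theorem D182285 : act 3 n87037 = n182285 := rfl
def n182286 : Q := act 6 n87037
theorem D182286 : act 6 n87037 = n182286 := rfl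
theorem F283784 : act 4 n182286 = n87038 := d10_1 D182286 (iv6 D87038) D87037
def n182287 : Q := act 0 n87038
theorem D182287 : act 0 n87038 = n182287 := rfl
def n182289 : Q := act 7 n87038
theorem D182289 : act 7 n87038 = n182289 := rfl
theorem F283786 : act 2 n182289 = n114471 := d4_1 D182289 F178527 F142291
theorem F283787 : act 6 n182289 = n114441 := d14_1 D182289 F178475 F83486 F61525 D87038
theorem F283788 : act 1 n114471 = n182287 := d15_0 (iv0 D182287) D182289 F283786
theorem F283789 : act 1 n182289 = n113992 := d15_0 (iv0 F234991) (iv7 F178527) (iv2 F283786)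
def n182290 : Q := act 3 n87039
theorem D182290 : act 3 n87039 = n182290 := rfl
theorem F283790 : act 4 n182290 = n89929 := d5_2 D87039 D182290 (iv3 D89929) (iv4 F133571) F133573
theorem F283791 : act 6 n182290 = n90851 := d7_2 (iv6 F133600) D182290 (iv3 D90851)
theorem F283792 : act 7 n182290 = n94178 := d8_2 (iv7 F133601) D182290 F145194
theorem F283793 : act 0 n182290 = n90119 := d21_4 D76517 D159847 (iv5 F251995) (iv6 F283791) (iv6 D90119) D90118 (iv1 F205423) F205427 (iv6 F205432) (iv1 D76516)
theorem F283794 : act 1 n95800 = n89929 := d17_8 F283793 F138557 (iv1 D59841) (iv5 F68107) (iv4 F75101) D103111 F160600 (iv5 F160601) (iv4 F283790)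
theorem F283795 : act 0 n159815 = n89870 := d20_1 (iv4 F251851) F137955 F69032 D43911 (iv3 F69036) (iv4 D40435) D40434 D87039 D182290 F283793
theorem F283796 : act 1 n182290 = n127410 := d15_1 (iv0 F283793) F204777 F178272
theorem F283797 : act 1 n97352 = n95800 := d15_0 F283794 F138107 (iv2 F150104)
def n182291 : Q := act 3 n87040
theorem D182291 : act 3 n87040 = n182291 := rfl
theorem F283798 : act 5 n182291 = n88530 := d6_2 (iv5 F133604) D182291 (iv3 D88530)
theorem F283799 : act 6 n182291 = n90682 := d7_2 (iv6 F133606) D182291 F139596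
theorem F283800 : act 7 n182291 = n94154 := d8_2 (iv7 F133609) D182291 F145129
theorem F283801 : act 0 n182291 = n94234 := d21_10 (iv5 F177036) (iv1 F177038) (iv5 D92774) (iv6 D43402) (iv1 F32609) D42364 D90518 F283726 D90682 (iv6 F283799)
theorem E24939 : n159802 = n97358 := (c20_7 (iv4 D88870) F74826 (iv4 F133605) D182291 F283801 F145294 (iv4 F251819) (iv1 D97358) (iv4 F145195) F145194 (iv1 F136285))
theorem F283802 : act 2 n97358 = n95800 := (sb E24939 F251817)
theorem F283803 : act 3 n97358 = n95752 := (sb E24939 F251818)
theorem F283804 : act 4 n97358 = n76474 := (sb E24939 F251819)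
theorem F283805 : act 5 n97358 = n103120 := (sb E24939 F251820)
theorem F283806 : act 6 n97358 = n76472 := (sb E24939 (iv6 D159802))
theorem F283807 : act 0 n93941 = n113927 := d17_2 F251945 D93941 F177287 (iv4 F143143) D104786 F160589 F76222 D97358 F283804
def n182292 : Q := act 4 n87041
theorem D182292 : act 4 n87041 = n182292 := rfl
theorem F283808 : act 2 n182292 = n182282 := d1_1 D182292 (iv4 D182282) F133611
theorem F283809 : act 5 n182292 = n88486 := d9_2 (iv5 F133610) D182292 (iv4 D88486) (iv5 F69441) F69440 F67697 (iv4 F62983) D43460 D92888 F143265 (iv4 D88483) F69275 F69274 (iv5 F73620) F73621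
theorem F283810 : act 7 n182292 = n182280 := d11_2 (iv7 F133613) D182292 (iv4 D182280)
theorem F283811 : act 0 n182292 = n90251 := d17_0 (iv5 F139296) F139297 D92796 F143137 F69402 F63214 D43251 F133612 D182292
theorem F283812 : act 1 n182292 = n89557 := d18_6 (iv1 F73632) (iv4 D46618) D46617 F73621 (iv5 F133610) D182292 (iv4 D89557) (iv0 F135510) (iv5 D88509)
def n182293 : Q := act 0 n87042
theorem D182293 : act 0 n87042 = n182293 := rfl
theorem F283813 : act 5 n182293 = n88489 := d17_1 D182293 (iv1 D88489) D88491 F135470 (iv5 F69395) F63635 (iv5 F133610) (iv0 D87041) D87042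
theorem F283814 : act 4 n182293 = n88502 := d18_1 D182293 F135488 D92453 F142239 F139412 F68123 D88516 F142939 F142937
theorem F283816 : act 1 n92472 = n182293 := d15_0 (iv0 D182293) F133614 (iv2 F142289)
theorem F283817 : act 7 n182293 = n182283 := d15_2 F143480 F283816 (iv2 F283779)
def n182294 : Q := act 3 n87042
theorem D182294 : act 3 n87042 = n182294 := rfl
theorem F283818 : act 7 n182294 = n182285 := d8_2 (iv7 F133614) D182294 (iv3 D182285)
def n182295 : Q := act 4 n87043
theorem D182295 : act 4 n87043 = n182295 := rfl
theorem F283819 : act 2 n182295 = n90631 := d1_1 D182295 (iv4 D90631) (iv2 F133615)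
theorem F283821 : act 0 n182295 = n90345 := d18_2 (iv1 F133618) D182295 (iv4 D90345) (iv5 D42237) (iv4 D19937) F14618 (iv4 F14672) F31758 D42211
theorem F283822 : act 1 n182295 = n90331 := d18_6 (iv1 F137298) (iv4 D42562) F65127 (iv4 F61526) D87043 D182295 (iv4 D90331) D90330 F138972
theorem F283823 : act 0 n92974 = n90328 := d20_4 D92603 (iv1 F143392) (iv4 D92975) D92974 F138964 D90331 (iv1 F283822) (iv4 D182295) (iv3 F137767) F137769
def n182297 : Q := act 4 n87047
theorem D182297 : act 4 n87047 = n182297 := rfl
theorem F283830 : act 2 n182297 = n90219 := d1_1 D182297 F138789 (iv2 F254754)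
theorem F283831 : act 7 n182297 = n91997 := d11_2 (iv7 F254755) D182297 (iv4 F141496)
theorem F283833 : act 1 n182297 = n91998 := d15_0 F144521 (iv7 F254758) (iv2 F283830)
def n182298 : Q := act 6 n87047
theorem D182298 : act 6 n87047 = n182298 := rfl
def n182299 : Q := act 3 n87048
theorem D182299 : act 3 n87048 = n182299 := rfl
theorem F283835 : act 7 n182299 = n95414 := d8_2 (iv7 F254757) D182299 (iv3 D95414)
def n182300 : Q := act 5 n87048
theorem D182300 : act 5 n87048 = n182300 := rfl
theorem F283836 : act 2 n182300 = n95411 := d2_1 D182300 (iv5 D95411) (iv2 F254756)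
theorem F283837 : act 7 n182300 = n95415 := d13_2 (iv7 F254757) D182300 (iv5 D95415)
def n182301 : Q := act 6 n87048
theorem D182301 : act 6 n87048 = n182301 := rfl
def n182302 : Q := act 5 n87049
theorem D182302 : act 5 n87049 = n182302 := rfl
theorem F283839 : act 2 n182302 = n87050 := d2_1 D182302 (iv5 D87050) D87049
theorem F283840 : act 7 n182302 = n95417 := d13_2 (iv7 F133635) D182302 (iv5 D95417)
theorem F283841 : act 1 n95419 = n182302 := d15_1 D95419 F283840 F147037
theorem F283842 : act 1 n182302 = n95418 := d15_0 (iv0 D95418) (iv7 F133640) (iv2 F283839)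
def n182303 : Q := act 0 n87050
theorem D182303 : act 0 n87050 = n182303 := rfl
theorem F283843 : act 1 n95417 = n182303 := d15_0 (iv0 D182303) F133640 (iv2 F147037)
def n182304 : Q := act 1 n87050
theorem D182304 : act 1 n87050 = n182304 := rfl
def n182305 : Q := act 4 n87050
theorem D182305 : act 4 n87050 = n182305 := rfl
theorem F283845 : act 3 n182305 = n165725 := d5_1 D182305 F261082 F148286 F70739 (iv3 F133639)
theorem F283846 : act 7 n182305 = n95420 := d11_2 (iv7 F133640) D182305 (iv4 D95420)
theorem F283847 : act 5 n165723 = n182305 := d19_1 F261081 (iv4 D182305) F133639 (iv1 F70903) F70905 F61613 F31071 F17550 (iv5 D4319) D4318 F6200 F4108 (iv5 F5681) (iv4 F12894) (iv3 F28294) F254375 (iv5 F254376) D55918 D121195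
def n182309 : Q := act 7 n87051
theorem D182309 : act 7 n87051 = n182309 := rfl
theorem F283849 : act 6 n182309 = n95430 := d14_1 D182309 (iv7 D95430) (iv6 D44569) (iv7 F61538) D87051
def n182310 : Q := act 2 n87052
theorem D182310 : act 2 n87052 = n182310 := rfl
theorem F283850 : act 7 n87053 = n182310 := d15_2 (iv0 D87052) D87053 (iv2 D182310)
def n182311 : Q := act 3 n87052
theorem D182311 : act 3 n87052 = n182311 := rfl
theorem F283851 : act 4 n182311 = n89659 := d20_6 (iv4 D10108) F13939 D19117 D40448 D87052 D182311 (iv1 D89659) (iv4 F70076) (iv3 D44559) (iv1 D21198)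
def n182312 : Q := act 4 n87052
theorem D182312 : act 4 n87052 = n182312 := rfl
theorem F283852 : act 0 n182299 = n182312 := d20_10 (iv4 D182312) (iv1 F148504) F148502 F148501 (iv1 F76406) D87117 (iv4 F141500) F144520 F144519 D182299
def n182315 : Q := act 7 n87052
theorem D182315 : act 7 n87052 = n182315 := rfl
theorem F283853 : act 2 n182315 = n87053 := d4_1 D182315 F283850 (iv2 D182310)
def n182316 : Q := act 3 n87053
theorem D182316 : act 3 n87053 = n182316 := rfl
def n182317 : Q := act 4 n87053
theorem D182317 : act 4 n87053 = n182317 := rfl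
theorem F283854 : act 3 n182317 = n96462 := d20_3 F148502 (iv1 F148506) D182317 (iv1 F148553) (iv3 F148531) F148532 (iv1 F137481) (iv4 F283851) (iv3 D182311) (iv1 F148504)
def n182318 : Q := act 5 n87053
theorem D182318 : act 5 n87053 = n182318 := rfl
def n182319 : Q := act 6 n87053
theorem D182319 : act 6 n87053 = n182319 := rfl
def n182320 : Q := act 5 n87054
theorem D182320 : act 5 n87054 = n182320 := rfl
theorem F283855 : act 2 n182320 = n87055 := d2_1 D182320 (iv5 D87055) D87054
def n182321 : Q := act 0 n87055
theorem D182321 : act 0 n87055 = n182321 := rfl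
def n182322 : Q := act 1 n87055
theorem D182322 : act 1 n87055 = n182322 := rfl
def n182323 : Q := act 4 n87055
theorem D182323 : act 4 n87055 = n182323 := rfl
def n182324 : Q := act 6 n87055
theorem D182324 : act 6 n87055 = n182324 := rfl
theorem F283857 : act 3 n182324 = n87056 := d7_1 D182324 (iv6 D87056) (iv3 F133643)
def n182325 : Q := act 0 n87056
theorem D182325 : act 0 n87056 = n182325 := rfl
def n182326 : Q := act 1 n87056
theorem D182326 : act 1 n87056 = n182326 := rfl
theorem F283858 : act 1 n182326 = n87133 := d15_1 D182326 (iv7 D87133) (iv2 F133644)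
def n182327 : Q := act 7 n87056
theorem D182327 : act 7 n87056 = n182327 := rfl
theorem F283859 : act 2 n182327 = n87133 := d4_1 D182327 (iv7 D87133) (iv2 F133644)
theorem F283860 : act 1 n87133 = n182325 := d15_0 (iv0 D182325) D182327 F283859
theorem F283861 : act 1 n87132 = n182327 := d15_1 D87132 (iv7 D182327) F133644
theorem F283862 : act 1 n182327 = n87131 := d15_0 (iv0 D87131) D87133 (iv2 F283859)
def n182328 : Q := act 0 n87059
theorem D182328 : act 0 n87059 = n182328 := rfl
theorem F283863 : act 1 n180338 = n182328 := d15_0 (iv0 D182328) F133658 D180338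
def n182329 : Q := act 1 n87059
theorem D182329 : act 1 n87059 = n182329 := rfl
def n182330 : Q := act 2 n87059
theorem D182330 : act 2 n87059 = n182330 := rfl
theorem F283864 : act 3 n182330 = n180345 := d0_2 D87059 D182330 (iv2 D180345) (iv3 D86134) (iv2 F61545)
theorem F283865 : act 4 n182330 = n176718 := d1_2 (iv4 F133657) D182330 (iv2 D176718)
theorem F283866 : act 7 n182330 = n180338 := d4_2 (iv7 F133658) D182330 (iv2 D180338)
theorem F283867 : act 1 n182330 = n180336 := d15_0 (iv0 D180336) (iv7 F133658) D182330
theorem F283868 : act 1 n182329 = n180338 := d15_1 D182329 (iv7 F283866) (iv2 D182330)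
theorem F283869 : act 1 n180337 = n182330 := d15_1 D180337 F283866 (iv2 D180338)
def n182331 : Q := act 6 n87059
theorem D182331 : act 6 n87059 = n182331 := rfl
theorem F283870 : act 3 n182331 = n87060 := d7_1 D182331 (iv6 D87060) D87059
def n182334 : Q := act 1 n87064
theorem D182334 : act 1 n87064 = n182334 := rfl
theorem F283878 : act 4 n88774 = n182334 := d20_6 (iv4 D19501) F14317 D9190 D19519 D41446 D88774 (iv1 D182334) F133663 (iv3 D43173) (iv1 F32325)
def n182335 : Q := act 2 n87064
theorem D182335 : act 2 n87064 = n182335 := rfl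
theorem F283879 : act 4 n182335 = n92324 := d1_2 (iv4 F133663) D182335 (iv2 D92324)
def n182336 : Q := act 6 n87064
theorem D182336 : act 6 n87064 = n182336 := rfl
theorem F283881 : act 3 n182336 = n87065 := d7_1 D182336 (iv6 D87065) D87064
theorem F283882 : act 4 n182336 = n92325 := d10_1 D182336 (iv6 D92325) (iv4 F133663)
def n182342 : Q := act 5 n87068
theorem D182342 : act 5 n87068 = n182342 := rfl
theorem F283883 : act 2 n182342 = n87069 := d2_1 D182342 (iv5 D87069) D87068
def n182344 : Q := act 0 n87069
theorem D182344 : act 0 n87069 = n182344 := rfl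
def n182345 : Q := act 1 n87069
theorem D182345 : act 1 n87069 = n182345 := rfl
def n182346 : Q := act 4 n87069
theorem D182346 : act 4 n87069 = n182346 := rfl
theorem F283886 : act 3 n182346 = n165801 := d5_1 D182346 F261211 (iv3 D157807) F112734 (iv3 F133666)
theorem F283887 : act 5 n165799 = n182346 := d16_1 (iv4 F261278) (iv4 D182346) (iv5 D87069) F61552 D43618 D93242 (iv5 F261272) (iv7 F261274) F261280
def n182355 : Q := act 7 n87071
theorem D182355 : act 7 n87071 = n182355 := rfl
def n182367 : Q := act 7 n87077
theorem D182367 : act 7 n87077 = n182367 := rfl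
theorem F283912 : act 6 n182367 = n181878 := d14_1 D182367 (iv7 D181878) (iv6 D86870) (iv7 F61558) D87077
theorem F283913 : act 1 n157772 = n182367 := d15_1 D157772 (iv7 D182367) F133675
theorem F283914 : act 1 n182367 = n157771 := d15_1 F283913 (iv7 F256410) F256408
def n182369 : Q := act 1 n87078
theorem D182369 : act 1 n87078 = n182369 := rfl
def n182372 : Q := act 6 n87078
theorem D182372 : act 6 n87078 = n182372 := rfl
theorem F283924 : act 3 n182372 = n87080 := d7_1 D182372 (iv6 D87080) D87078
def n182373 : Q := act 6 n87079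
theorem D182373 : act 6 n87079 = n182373 := rfl
theorem F283926 : act 2 n182373 = n181904 := d3_1 D182373 (iv6 D181904) (iv2 F133680)
def n182382 : Q := act 5 n87086
theorem D182382 : act 5 n87086 = n182382 := rfl
theorem F283940 : act 2 n182382 = n87087 := d2_1 D182382 (iv5 D87087) D87086
def n182383 : Q := act 6 n87086
theorem D182383 : act 6 n87086 = n182383 := rfl
theorem F283941 : act 2 n182383 = n87088 := d3_1 D182383 (iv6 D87088) D87086
def n182384 : Q := act 0 n87087
theorem D182384 : act 0 n87087 = n182384 := rfl
def n182385 : Q := act 1 n87087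
theorem D182385 : act 1 n87087 = n182385 := rfl
def n182386 : Q := act 4 n87087
theorem D182386 : act 4 n87087 = n182386 := rfl
def n182387 : Q := act 6 n87087
theorem D182387 : act 6 n87087 = n182387 := rfl
theorem F283942 : act 3 n182387 = n87089 := d7_1 D182387 (iv6 D87089) (iv3 F133696)
def n182392 : Q := act 0 n87089
theorem D182392 : act 0 n87089 = n182392 := rfl
def n182393 : Q := act 1 n87089
theorem D182393 : act 1 n87089 = n182393 := rfl
def n182394 : Q := act 5 n87089
theorem D182394 : act 5 n87089 = n182394 := rfl
theorem F283945 : act 6 n182394 = n87092 := d12_2 D87089 D182394 (iv5 D87092) (iv6 D40465) D40464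
def n182395 : Q := act 7 n87089
theorem D182395 : act 7 n87089 = n182395 := rfl
def n182406 : Q := act 2 n87095
theorem D182406 : act 2 n87095 = n182406 := rfl
theorem F283952 : act 7 n87096 = n182406 := d15_2 (iv0 D87095) D87096 (iv2 D182406)
def n182407 : Q := act 4 n87095
theorem D182407 : act 4 n87095 = n182407 := rfl
def n182408 : Q := act 5 n87095
theorem D182408 : act 5 n87095 = n182408 := rfl
def n182409 : Q := act 6 n87095
theorem D182409 : act 6 n87095 = n182409 := rfl
def n182410 : Q := act 7 n87095
theorem D182410 : act 7 n87095 = n182410 := rfl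
theorem F283953 : act 2 n182410 = n87096 := d4_1 D182410 F283952 (iv2 D182406)
def n182411 : Q := act 3 n87096
theorem D182411 : act 3 n87096 = n182411 := rfl
def n182412 : Q := act 5 n87096
theorem D182412 : act 5 n87096 = n182412 := rfl
def n182413 : Q := act 6 n87096
theorem D182413 : act 6 n87096 = n182413 := rfl
def n182414 : Q := act 4 n87097
theorem D182414 : act 4 n87097 = n182414 := rfl
theorem F283954 : act 2 n182414 = n87098 := d1_1 D182414 (iv4 D87098) D87097
theorem F283955 : act 3 n182414 = n88680 := d5_1 D182414 F136020 F67962 (iv4 F138488) F138487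
theorem F283956 : act 7 n182414 = n88688 := d11_2 F160955 D182414 (iv4 F160954)
theorem F283957 : act 1 n88687 = n182414 := d15_1 D88687 F283956 (iv2 D88688)
theorem F283958 : act 0 n88686 = n182414 := d20_4 F36028 (iv1 F31624) D42053 (iv3 F136028) F283955 F136020 (iv1 F67966) (iv4 F137505) (iv3 D89673) (iv1 F64571)
theorem E24940 : n105146 = n88687 := (c15_4 F283957 (iv0 F283958) (iv7 F136029) D105146)
theorem F283959 : act 2 n88687 = n48622 := (sb E24940 (iv2 D105146))
def n182415 : Q := act 5 n87097
theorem D182415 : act 5 n87097 = n182415 := rfl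
theorem F283960 : act 2 n182415 = n87099 := d2_1 D182415 (iv5 D87099) D87097
def n182416 : Q := act 6 n87097
theorem D182416 : act 6 n87097 = n182416 := rfl
theorem F283961 : act 2 n182416 = n87100 := d3_1 D182416 (iv6 D87100) D87097
def n182417 : Q := act 1 n87098
theorem D182417 : act 1 n87098 = n182417 := rfl
theorem F283962 : act 1 n182417 = n88688 := d15_1 D182417 (iv7 F283956) F283954
theorem F283963 : act 7 n182417 = n88687 := d15_2 (iv0 F133702) D182417 F283959
theorem F283964 : act 4 n96471 = n182417 := d20_6 (iv4 D21507) (iv1 D10271) D10272 D21511 D45043 D96471 (iv1 D182417) (iv4 D87098) (iv3 D40469) (iv1 F33820)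
theorem F283965 : act 2 n88686 = n182417 := d4_3 F283963 F283959 F136029
theorem F283966 : act 3 n182417 = n105112 := d0_2 (iv3 F136028) F283965 (iv2 D105112) (iv3 D48602) (iv2 F133964)
def n182418 : Q := act 6 n87098
theorem D182418 : act 6 n87098 = n182418 := rfl
theorem F283967 : act 3 n182418 = n87298 := d7_1 D182418 F134017 (iv3 F133700)
def n182419 : Q := act 0 n87099
theorem D182419 : act 0 n87099 = n182419 := rfl
def n182420 : Q := act 1 n87099
theorem D182420 : act 1 n87099 = n182420 := rfl
def n182421 : Q := act 4 n87099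
theorem D182421 : act 4 n87099 = n182421 := rfl
def n182422 : Q := act 6 n87099
theorem D182422 : act 6 n87099 = n182422 := rfl
theorem F283969 : act 3 n182422 = n87101 := d7_1 D182422 (iv6 D87101) (iv3 F133703)
def n182426 : Q := act 7 n87100
theorem D182426 : act 7 n87100 = n182426 := rfl
theorem F283972 : act 6 n182426 = n104895 := d14_1 D182426 (iv7 F160784) F160783 F76401 D87100
def n182427 : Q := act 0 n87101
theorem D182427 : act 0 n87101 = n182427 := rfl
def n182428 : Q := act 1 n87101
theorem D182428 : act 1 n87101 = n182428 := rfl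
def n182429 : Q := act 5 n87101
theorem D182429 : act 5 n87101 = n182429 := rfl
theorem F283973 : act 6 n182429 = n87102 := d12_2 D87101 D182429 (iv5 D87102) (iv6 D40471) D40470
def n182430 : Q := act 7 n87101
theorem D182430 : act 7 n87101 = n182430 := rfl
def n182431 : Q := act 4 n87102
theorem D182431 : act 4 n87102 = n182431 := rfl
theorem F283974 : act 5 n182431 = n95828 := d16_3 (iv4 F61797) D87102 D182431 F147512 F70340 F33520 (iv5 F65026) (iv7 D42108) (iv2 F61794)
theorem F283975 : act 7 n95827 = n182431 := d13_0 F283974 (iv7 D95828) D95827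
def n182433 : Q := act 2 n87104
theorem D182433 : act 2 n87104 = n182433 := rfl
theorem F283980 : act 7 n87105 = n182433 := d15_2 (iv0 D87104) D87105 (iv2 D182433)
def n182434 : Q := act 3 n87104
theorem D182434 : act 3 n87104 = n182434 := rfl
theorem F283981 : act 4 n182434 = n181880 := d20_6 F33434 (iv1 D20746) F30736 D40472 D87104 D182434 (iv1 D181880) F133276 (iv3 D40497) (iv1 F33433)
def n182435 : Q := act 5 n87104
theorem D182435 : act 5 n87104 = n182435 := rfl
def n182436 : Q := act 6 n87104
theorem D182436 : act 6 n87104 = n182436 := rfl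
def n182437 : Q := act 7 n87104
theorem D182437 : act 7 n87104 = n182437 := rfl
theorem F283983 : act 2 n182437 = n87105 := d4_1 D182437 F283980 (iv2 D182433)
def n182438 : Q := act 3 n87105
theorem D182438 : act 3 n87105 = n182438 := rfl
def n182439 : Q := act 5 n87105
theorem D182439 : act 5 n87105 = n182439 := rfl
def n182440 : Q := act 6 n87105
theorem D182440 : act 6 n87105 = n182440 := rfl
def n182441 : Q := act 5 n87106
theorem D182441 : act 5 n87106 = n182441 := rfl
theorem F283985 : act 4 n182441 = n166889 := d16_2 (iv4 F133708) D182441 (iv5 D166889) D166888 F262733 (iv4 D90231) (iv5 D42173) (iv7 F32904) D43831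
def n182442 : Q := act 6 n87106
theorem D182442 : act 6 n87106 = n182442 := rfl
theorem F283986 : act 2 n182442 = n87108 := d3_1 D182442 (iv6 D87108) D87106
theorem F283987 : act 4 n182442 = n90475 := d10_1 D182442 F139241 (iv4 F133708)
def n182446 : Q := act 0 n87108
theorem D182446 : act 0 n87108 = n182446 := rfl
def n182447 : Q := act 1 n87108
theorem D182447 : act 1 n87108 = n182447 := rfl
def n182448 : Q := act 5 n87108
theorem D182448 : act 5 n87108 = n182448 := rfl
def n182451 : Q := act 5 n87109
theorem D182451 : act 5 n87109 = n182451 := rfl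
theorem F283990 : act 6 n182451 = n87110 := d12_2 D87109 D182451 (iv5 D87110) (iv6 D40474) D40473
def n182453 : Q := act 4 n87110
theorem D182453 : act 4 n87110 = n182453 := rfl
theorem F283991 : act 5 n182453 = n103104 := d9_2 D87110 D182453 F158389 F75097 (iv4 F58142) (iv5 F125261) F125260 (iv5 F160442) (iv4 F160444) (iv5 D103685) (iv4 D48022) (iv5 D23175) F17727 D19950 (iv4 F61573)
theorem F283992 : act 7 n182453 = n103103 := d11_2 F160747 D182453 F160750
def n182454 : Q := act 0 n87112
theorem D182454 : act 0 n87112 = n182454 := rfl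
def n182455 : Q := act 1 n87112
theorem D182455 : act 1 n87112 = n182455 := rfl
def n182456 : Q := act 2 n87112
theorem D182456 : act 2 n87112 = n182456 := rfl
theorem F283993 : act 4 n182456 = n89988 := d1_2 (iv4 F135402) D182456 (iv2 F138409)
def n182466 : Q := act 2 n87117
theorem D182466 : act 2 n87117 = n182466 := rfl
def n182476 : Q := act 6 n87120
theorem D182476 : act 6 n87120 = n182476 := rfl
theorem F284000 : act 2 n182476 = n87124 := d3_1 D182476 (iv6 D87124) (iv2 F133715)
def n182480 : Q := act 3 n87122
theorem D182480 : act 3 n87122 = n182480 := rfl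
theorem F284003 : act 4 n165902 = n182480 := d19_2 D79668 D165902 (iv3 D182480) (iv1 D87122) (iv5 D40478) F30737 (iv3 D8978) (iv1 F6131) F6130 (iv4 D4102) (iv3 F6008) F13898 (iv5 D8925) (iv4 F13897) (iv3 F30562) F30565 D35392 (iv4 F56103) D36280
def n182485 : Q := act 3 n87123
theorem D182485 : act 3 n87123 = n182485 := rfl
theorem F284008 : act 4 n182485 = n87129 := d5_2 D87123 D182485 (iv3 D87129) (iv4 D40481) (iv3 F61576)
def n182487 : Q := act 6 n87123
theorem D182487 : act 6 n87123 = n182487 := rfl
theorem F284011 : act 4 n182487 = n87124 := d10_1 D182487 (iv6 D87124) D87123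
def n182488 : Q := act 0 n87124
theorem D182488 : act 0 n87124 = n182488 := rfl
def n182489 : Q := act 1 n87124
theorem D182489 : act 1 n87124 = n182489 := rfl
def n182490 : Q := act 7 n87124
theorem D182490 : act 7 n87124 = n182490 := rfl
theorem F284012 : act 3 n182490 = n87133 := d8_1 D182490 (iv7 D87133) (iv3 F133717)
def n182491 : Q := act 0 n87125
theorem D182491 : act 0 n87125 = n182491 := rfl
def n182492 : Q := act 1 n87125
theorem D182492 : act 1 n87125 = n182492 := rfl
def n182493 : Q := act 2 n87125
theorem D182493 : act 2 n87125 = n182493 := rfl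
theorem F284013 : act 5 n182493 = n104982 := d2_2 (iv5 F133718) D182493 (iv2 D104982)
def n182494 : Q := act 4 n87125
theorem D182494 : act 4 n87125 = n182494 := rfl
def n182498 : Q := act 5 n87126
theorem D182498 : act 5 n87126 = n182498 := rfl
theorem F284015 : act 6 n182498 = n104984 := d12_2 D87126 D182498 (iv5 D104984) (iv6 D48519) (iv5 F61577)
def n182499 : Q := act 7 n87126
theorem D182499 : act 7 n87126 = n182499 := rfl
def n182503 : Q := act 4 n87127
theorem D182503 : act 4 n87127 = n182503 := rfl
theorem F284020 : act 5 n121576 = n182503 := d19_1 D121576 (iv4 D182503) (iv3 D87127) (iv1 D40480) (iv5 D19130) (iv4 D8977) F5941 (iv1 F3054) (iv5 D1794) F1771 (iv3 F1596) (iv1 F2269) F2266 (iv4 F2783) (iv3 F5671) (iv1 F12856) F21677 D27066 D56151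
def n182507 : Q := act 5 n87128
theorem D182507 : act 5 n87128 = n182507 := rfl
theorem F284026 : act 6 n182507 = n93117 := d12_2 D87128 D182507 (iv5 D93117) (iv6 D43570) (iv5 F61578)
def n182509 : Q := act 0 n87129
theorem D182509 : act 0 n87129 = n182509 := rfl
def n182510 : Q := act 1 n87129
theorem D182510 : act 1 n87129 = n182510 := rfl
def n182511 : Q := act 2 n87129
theorem D182511 : act 2 n87129 = n182511 := rfl
def n182512 : Q := act 6 n87129
theorem D182512 : act 6 n87129 = n182512 := rfl
theorem F284027 : act 3 n182512 = n87130 := d7_1 D182512 (iv6 D87130) D87129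
def n182513 : Q := act 0 n87130
theorem D182513 : act 0 n87130 = n182513 := rfl
def n182514 : Q := act 1 n87130
theorem D182514 : act 1 n87130 = n182514 := rfl
def n182515 : Q := act 5 n87130
theorem D182515 : act 5 n87130 = n182515 := rfl
def n182516 : Q := act 7 n87130
theorem D182516 : act 7 n87130 = n182516 := rfl
theorem F284028 : act 4 n182516 = n87133 := d11_1 D182516 (iv7 D87133) (iv4 F133720)
def n182517 : Q := act 2 n87131
theorem D182517 : act 2 n87131 = n182517 := rfl
theorem F284029 : act 7 n87132 = n182517 := d15_2 (iv0 D87131) D87132 (iv2 D182517)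
def n182518 : Q := act 3 n87131
theorem D182518 : act 3 n87131 = n182518 := rfl
def n182519 : Q := act 4 n87131
theorem D182519 : act 4 n87131 = n182519 := rfl
def n182520 : Q := act 5 n87131
theorem D182520 : act 5 n87131 = n182520 := rfl
def n182521 : Q := act 6 n87131
theorem D182521 : act 6 n87131 = n182521 := rfl
def n182522 : Q := act 7 n87131
theorem D182522 : act 7 n87131 = n182522 := rfl
theorem F284030 : act 2 n182522 = n87132 := d4_1 D182522 F284029 (iv2 D182517)
def n182523 : Q := act 3 n87132
theorem D182523 : act 3 n87132 = n182523 := rfl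
def n182524 : Q := act 4 n87132
theorem D182524 : act 4 n87132 = n182524 := rfl
def n182525 : Q := act 5 n87132
theorem D182525 : act 5 n87132 = n182525 := rfl
def n182526 : Q := act 6 n87132
theorem D182526 : act 6 n87132 = n182526 := rfl
def n182534 : Q := act 2 n87147
theorem D182534 : act 2 n87147 = n182534 := rfl
theorem F284039 : act 3 n182534 = n95403 := d0_2 D87147 D182534 (iv2 F148538) F148528 F135678
theorem F284040 : act 1 n182534 = n90225 := d15_0 (iv0 F140217) F140215 D182534
theorem F284041 : act 1 n90220 = n182534 := d15_0 F284040 (iv7 F254752) (iv2 F254765)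
def n182560 : Q := act 3 n87163
theorem D182560 : act 3 n87163 = n182560 := rfl
theorem F284057 : act 2 n182560 = n102856 := d0_1 D182560 (iv3 D102856) (iv2 F138398) (iv3 F137590) F135674
theorem F284058 : act 4 n182560 = n87165 := d5_2 D87163 D182560 (iv3 D87165) (iv4 D40490) D40489
theorem F284060 : act 0 n102924 = n88447 := d20_1 D102924 (iv4 F138201) (iv3 D89973) F133744 D182560 F284058 (iv1 F148534) F148532 (iv3 F137495) (iv1 F137500)
theorem E24943 : n102945 = n102923 := (c20_5 (iv4 D87163) F133738 (iv4 D47741) D47740 D102945 (iv3 D102923) D102924 F284060 (iv4 F138201) (iv3 D89973) F133744)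
theorem F284061 : act 0 n102923 = n92559 := (sb E24943 (iv1 F158237))
theorem F284062 : act 1 n102923 = n47740 := (sb E24943 (iv0 D102945))
def n182589 : Q := act 1 n87173
theorem D182589 : act 1 n87173 = n182589 := rfl
theorem F284082 : act 5 n182589 = n95249 := d17_7 (iv1 F148205) D180023 (iv1 F280407) (iv5 D169896) (iv4 F126193) (iv5 F133769) D182589 F146822 D95257
theorem F284083 : act 4 n182589 = n159072 := d17_9 (iv1 D159072) F148183 (iv1 D96313) (iv5 D44966) F33747 D21474 D44979 (iv5 F133769) D182589
def n182590 : Q := act 3 n87175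
theorem D182590 : act 3 n87175 = n182590 := rfl
theorem F284087 : act 2 n182590 = n105139 := d0_1 D182590 (iv3 D105139) F148576 (iv3 D96475) F138350
theorem F284088 : act 7 n182590 = n96471 := d8_2 (iv7 F138351) D182590 (iv3 D96471)
theorem F284089 : act 4 n182590 = n88687 := d20_6 (iv4 D19117) (iv1 F16808) D19137 D40497 D87175 D182590 (iv1 D88687) (iv4 F76400) (iv3 D48545) (iv1 F36833)
def n182591 : Q := act 4 n87175
theorem D182591 : act 4 n87175 = n182591 := rfl
theorem F284090 : act 2 n182591 = n90041 := d1_1 D182591 F138347 F138350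
theorem F284091 : act 7 n182591 = n96472 := d11_2 (iv7 F138351) D182591 (iv4 D96472)
def n182592 : Q := act 5 n87175
theorem D182592 : act 5 n87175 = n182592 := rfl
theorem F284093 : act 7 n182592 = n96473 := d13_2 (iv7 F138351) D182592 (iv5 D96473)
def n182593 : Q := act 6 n87175
theorem D182593 : act 6 n87175 = n182593 := rfl
theorem F284094 : act 2 n182593 = n96477 := d3_1 D182593 (iv6 D96477) F138350
def n182594 : Q := act 5 n87176
theorem D182594 : act 5 n87176 = n182594 := rfl
theorem F284095 : act 2 n182594 = n96473 := d2_1 D182594 (iv5 D96473) (iv2 F138349)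
def n182595 : Q := act 6 n87176
theorem D182595 : act 6 n87176 = n182595 := rfl
def n182596 : Q := act 5 n87177
theorem D182596 : act 5 n87177 = n182596 := rfl
theorem F284100 : act 2 n182596 = n87178 := d2_1 D182596 (iv5 D87178) D87177
theorem F284102 : act 7 n182596 = n96478 := d13_2 (iv7 F133783) D182596 (iv5 D96478)
theorem F284103 : act 1 n96480 = n182596 := d15_1 D96480 F284102 F148579
theorem F284104 : act 1 n182596 = n96479 := d15_0 (iv0 D96479) (iv7 F133788) (iv2 F284100)
def n182597 : Q := act 0 n87178
theorem D182597 : act 0 n87178 = n182597 := rfl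
theorem F284105 : act 1 n96478 = n182597 := d15_0 (iv0 D182597) F133788 (iv2 F148579)
def n182598 : Q := act 1 n87178
theorem D182598 : act 1 n87178 = n182598 := rfl
theorem F284106 : act 1 n182598 = n96478 := d15_1 D182598 (iv7 F284102) F284100
def n182599 : Q := act 4 n87178
theorem D182599 : act 4 n87178 = n182599 := rfl
theorem F284107 : act 7 n182599 = n96481 := d11_2 (iv7 F133788) D182599 (iv4 D96481)
def n182600 : Q := act 6 n87178
theorem D182600 : act 6 n87178 = n182600 := rfl
theorem F284108 : act 3 n182600 = n87179 := d7_1 D182600 (iv6 D87179) (iv3 F133787)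
def n182601 : Q := act 0 n87179
theorem D182601 : act 0 n87179 = n182601 := rfl
def n182602 : Q := act 1 n87179
theorem D182602 : act 1 n87179 = n182602 := rfl
def n182603 : Q := act 7 n87179
theorem D182603 : act 7 n87179 = n182603 := rfl
theorem F284111 : act 6 n182603 = n96491 := d14_1 D182603 (iv7 D96491) (iv6 D45050) (iv7 F61610) D87179
def n182604 : Q := act 2 n87180
theorem D182604 : act 2 n87180 = n182604 := rfl
theorem F284115 : act 7 n87181 = n182604 := d15_2 (iv0 D87180) D87181 (iv2 D182604)
def n182605 : Q := act 3 n87180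
theorem D182605 : act 3 n87180 = n182605 := rfl
theorem F284116 : act 4 n182605 = n92323 := d20_6 (iv4 D19121) F16842 D19138 D40499 D87180 D182605 (iv1 D92323) (iv4 F133663) (iv3 D87064) (iv1 D40453)
def n182606 : Q := act 4 n87180
theorem D182606 : act 4 n87180 = n182606 := rfl
def n182607 : Q := act 5 n87180
theorem D182607 : act 5 n87180 = n182607 := rfl
def n182608 : Q := act 6 n87180
theorem D182608 : act 6 n87180 = n182608 := rfl
def n182609 : Q := act 7 n87180
theorem D182609 : act 7 n87180 = n182609 := rfl
theorem F284117 : act 2 n182609 = n87181 := d4_1 D182609 F284115 (iv2 D182604)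
def n182610 : Q := act 3 n87181
theorem D182610 : act 3 n87181 = n182610 := rfl
def n182611 : Q := act 4 n87181
theorem D182611 : act 4 n87181 = n182611 := rfl
def n182612 : Q := act 5 n87181
theorem D182612 : act 5 n87181 = n182612 := rfl
def n182613 : Q := act 6 n87181
theorem D182613 : act 6 n87181 = n182613 := rfl
def n182614 : Q := act 5 n87182
theorem D182614 : act 5 n87182 = n182614 := rfl
theorem F284118 : act 2 n182614 = n87183 := d2_1 D182614 (iv5 D87183) D87182
def n182615 : Q := act 0 n87183
theorem D182615 : act 0 n87183 = n182615 := rfl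
def n182616 : Q := act 1 n87183
theorem D182616 : act 1 n87183 = n182616 := rfl
def n182617 : Q := act 4 n87183
theorem D182617 : act 4 n87183 = n182617 := rfl
def n182618 : Q := act 6 n87183
theorem D182618 : act 6 n87183 = n182618 := rfl
theorem F284120 : act 3 n182618 = n87184 := d7_1 D182618 (iv6 D87184) (iv3 F133792)
def n182619 : Q := act 0 n87184
theorem D182619 : act 0 n87184 = n182619 := rfl
def n182620 : Q := act 1 n87184
theorem D182620 : act 1 n87184 = n182620 := rfl
theorem F284121 : act 1 n182620 = n87248 := d15_1 D182620 (iv7 D87248) (iv2 F133793)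
def n182621 : Q := act 7 n87184
theorem D182621 : act 7 n87184 = n182621 := rfl
theorem F284122 : act 2 n182621 = n87248 := d4_1 D182621 (iv7 D87248) (iv2 F133793)
theorem F284123 : act 1 n87248 = n182619 := d15_0 (iv0 D182619) D182621 F284122
theorem F284124 : act 1 n87247 = n182621 := d15_1 D87247 (iv7 D182621) F133793
theorem F284125 : act 1 n182621 = n87246 := d15_0 (iv0 D87246) D87248 (iv2 F284122)
def n182624 : Q := act 2 n87185
theorem D182624 : act 2 n87185 = n182624 := rfl
theorem F284131 : act 1 n182624 = n181908 := d15_0 (iv0 D181908) (iv7 F133795) D182624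
def n182627 : Q := act 1 n87187
theorem D182627 : act 1 n87187 = n182627 := rfl
theorem F284137 : act 4 n102823 = n182627 := d20_6 (iv4 D20362) F17507 D10838 D22955 D47689 D102823 (iv1 D182627) F133798 (iv3 D43119) (iv1 F32320)
theorem F284138 : act 7 n182627 = n182334 := d11_2 (iv7 F158089) F284137 (iv4 F283878)
theorem F284139 : act 2 n182334 = n105022 := d15_3 (iv0 F160934) D182627 F284138
def n182628 : Q := act 2 n87187
theorem D182628 : act 2 n87187 = n182628 := rfl
theorem F284142 : act 3 n182628 = n181910 := d0_2 D87187 D182628 (iv2 D181910) (iv3 D86882) F61620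
theorem F284145 : act 1 n182628 = n87282 := d15_0 (iv0 F133978) (iv7 F133799) D182628
theorem F284146 : act 1 n182334 = n182628 := d15_0 F284145 (iv7 F160933) (iv2 F284139)
def n182629 : Q := act 4 n87188
theorem D182629 : act 4 n87188 = n182629 := rfl
def n182630 : Q := act 5 n87188
theorem D182630 : act 5 n87188 = n182630 := rfl
theorem F284154 : act 4 n182630 = n121000 := d19_2 D87188 D182630 (iv3 D121000) (iv1 D55803) (iv5 D26927) (iv4 D12883) F9484 (iv1 F5719) (iv5 D3715) (iv4 F2900) F2899 (iv1 F1742) F1740 (iv4 F2969) (iv3 F5942) (iv1 F13935) (iv5 F16900) D19139 D40503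
def n182631 : Q := act 6 n87188
theorem D182631 : act 6 n87188 = n182631 := rfl
def n182632 : Q := act 3 n87189
theorem D182632 : act 3 n87189 = n182632 := rfl
def n182633 : Q := act 5 n87189
theorem D182633 : act 5 n87189 = n182633 := rfl
theorem F284158 : act 2 n182633 = n165918 := d2_1 D182633 (iv5 F261285) F280760
theorem F284160 : act 4 n165910 = n182633 := d1_0 F284158 (iv4 D165918) (iv2 F261270)
def n182634 : Q := act 6 n87189
theorem D182634 : act 6 n87189 = n182634 := rfl
def n182635 : Q := act 5 n87190
theorem D182635 : act 5 n87190 = n182635 := rfl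
theorem F284162 : act 2 n182635 = n87191 := d2_1 D182635 (iv5 D87191) D87190
theorem F284163 : act 3 n182635 = n182382 := d6_1 D182635 (iv5 D182382) (iv3 F133801)
theorem F284164 : act 7 n182635 = n182342 := d13_2 (iv7 F133802) D182635 (iv5 D182342)
theorem F284165 : act 1 n182345 = n182635 := d15_1 D182345 F284164 F283883
theorem F284166 : act 1 n182635 = n182344 := d15_0 (iv0 D182344) (iv7 F133807) (iv2 F284162)
def n182636 : Q := act 6 n87190
theorem D182636 : act 6 n87190 = n182636 := rfl
theorem F284167 : act 2 n182636 = n87192 := d3_1 D182636 (iv6 D87192) D87190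
def n182637 : Q := act 0 n87191
theorem D182637 : act 0 n87191 = n182637 := rfl
theorem F284169 : act 1 n182342 = n182637 := d15_0 (iv0 D182637) F133807 (iv2 F283883)
def n182638 : Q := act 1 n87191
theorem D182638 : act 1 n87191 = n182638 := rfl
theorem F284170 : act 1 n182638 = n182342 := d15_1 D182638 (iv7 F284164) F284162
def n182639 : Q := act 4 n87191
theorem D182639 : act 4 n87191 = n182639 := rfl
theorem F284171 : act 7 n182639 = n182346 := d11_2 (iv7 F133807) D182639 (iv4 D182346)
def n182640 : Q := act 6 n87191
theorem D182640 : act 6 n87191 = n182640 := rfl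
theorem F284172 : act 3 n182640 = n87193 := d7_1 D182640 (iv6 D87193) (iv3 F133806)
def n182645 : Q := act 0 n87193
theorem D182645 : act 0 n87193 = n182645 := rfl
def n182646 : Q := act 1 n87193
theorem D182646 : act 1 n87193 = n182646 := rfl
theorem F284176 : act 1 n182646 = n182395 := d15_1 D182646 (iv7 D182395) (iv2 F133809)
def n182648 : Q := act 7 n87193
theorem D182648 : act 7 n87193 = n182648 := rfl
theorem F284179 : act 2 n182648 = n182395 := d4_1 D182648 (iv7 D182395) (iv2 F133809)
theorem F284180 : act 6 n182648 = n182355 := d14_1 D182648 (iv7 D182355) (iv6 D87071) (iv7 F61623) D87193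
theorem F284181 : act 1 n182395 = n182645 := d15_0 (iv0 D182645) D182648 F284179
theorem F284182 : act 1 n182393 = n182648 := d15_1 D182393 (iv7 D182648) F133809
theorem F284183 : act 1 n182648 = n182392 := d15_0 (iv0 D182392) D182395 (iv2 F284179)
def n182659 : Q := act 3 n87202
theorem D182659 : act 3 n87202 = n182659 := rfl
theorem F284210 : act 4 n182659 = n88760 := d20_6 (iv4 D21505) F16894 D19142 D40510 D87202 D182659 (iv1 D88760) F63888 (iv3 D40516) (iv1 F33814)
def n182669 : Q := act 4 n87205
theorem D182669 : act 4 n87205 = n182669 := rfl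
theorem F284228 : act 7 n182669 = n182386 := d11_2 (iv7 F133840) D182669 (iv4 D182386)
def n182678 : Q := act 7 n87207
theorem D182678 : act 7 n87207 = n182678 := rfl
theorem F284237 : act 6 n182678 = n182395 := d14_1 D182678 (iv7 D182395) (iv6 D87089) (iv7 F61638) D87207
def n182689 : Q := act 2 n87213
theorem D182689 : act 2 n87213 = n182689 := rfl
theorem F284267 : act 7 n87214 = n182689 := d15_2 (iv0 D87213) D87214 (iv2 D182689)
def n182690 : Q := act 4 n87213
theorem D182690 : act 4 n87213 = n182690 := rfl
def n182691 : Q := act 5 n87213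
theorem D182691 : act 5 n87213 = n182691 := rfl
def n182692 : Q := act 6 n87213
theorem D182692 : act 6 n87213 = n182692 := rfl
def n182693 : Q := act 7 n87213
theorem D182693 : act 7 n87213 = n182693 := rfl
theorem F284268 : act 2 n182693 = n87214 := d4_1 D182693 F284267 (iv2 D182689)
def n182694 : Q := act 3 n87214
theorem D182694 : act 3 n87214 = n182694 := rfl
def n182695 : Q := act 4 n87214
theorem D182695 : act 4 n87214 = n182695 := rfl
theorem F284269 : act 3 n182695 = n88667 := d20_3 (iv4 F160874) (iv1 F160878) D182695 (iv1 F141953) F141950 F67627 (iv1 F32345) D43148 (iv3 F136150) (iv1 F158049)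
def n182696 : Q := act 5 n87214
theorem D182696 : act 5 n87214 = n182696 := rfl
def n182697 : Q := act 6 n87214
theorem D182697 : act 6 n87214 = n182697 := rfl
def n182698 : Q := act 5 n87215
theorem D182698 : act 5 n87215 = n182698 := rfl
theorem F284270 : act 2 n182698 = n87216 := d2_1 D182698 (iv5 D87216) D87215
theorem F284272 : act 7 n182698 = n182493 := d13_2 F160875 D182698 F284013
theorem F284273 : act 1 n182492 = n182698 := d15_1 D182492 F284272 (iv2 D182493)
theorem F284274 : act 1 n182698 = n182491 := d15_0 (iv0 D182491) (iv7 F133871) (iv2 F284270)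
def n182699 : Q := act 6 n87215
theorem D182699 : act 6 n87215 = n182699 := rfl
def n182700 : Q := act 0 n87216
theorem D182700 : act 0 n87216 = n182700 := rfl
theorem F284276 : act 1 n182493 = n182700 := d15_0 (iv0 D182700) F133871 D182493
def n182701 : Q := act 1 n87216
theorem D182701 : act 1 n87216 = n182701 := rfl
theorem F284277 : act 1 n182701 = n182493 := d15_1 D182701 (iv7 F284272) F284270
def n182702 : Q := act 4 n87216
theorem D182702 : act 4 n87216 = n182702 := rfl
theorem F284278 : act 7 n182702 = n182494 := d11_2 (iv7 F133871) D182702 (iv4 D182494)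
def n182703 : Q := act 6 n87216
theorem D182703 : act 6 n87216 = n182703 := rfl
def n182707 : Q := act 7 n87217
theorem D182707 : act 7 n87217 = n182707 := rfl
theorem F284281 : act 3 n182707 = n87222 := d8_1 D182707 (iv7 D87222) (iv3 F133872)
def n182710 : Q := act 5 n87218
theorem D182710 : act 5 n87218 = n182710 := rfl
theorem F284284 : act 6 n182710 = n87221 := d12_2 D87218 D182710 (iv5 D87221) (iv6 D40518) D40517
def n182711 : Q := act 7 n87218
theorem D182711 : act 7 n87218 = n182711 := rfl
theorem F284286 : act 6 n182711 = n182499 := d14_1 D182711 (iv7 D182499) (iv6 D87126) (iv7 F61650) D87218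
def n182712 : Q := act 0 n87221
theorem D182712 : act 0 n87221 = n182712 := rfl
theorem F284290 : act 5 n182712 = n103886 := d17_3 F139766 D87221 D182712 F159311 F75566 (iv0 D40506) F30758 (iv0 F63354) D43216
def n182714 : Q := act 7 n87221
theorem D182714 : act 7 n87221 = n182714 := rfl
theorem F284291 : act 5 n182714 = n87222 := d13_1 D182714 (iv7 D87222) D87221
def n182715 : Q := act 2 n87223
theorem D182715 : act 2 n87223 = n182715 := rfl
theorem F284292 : act 7 n87224 = n182715 := d15_2 (iv0 D87223) D87224 (iv2 D182715)
def n182716 : Q := act 3 n87223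
theorem D182716 : act 3 n87223 = n182716 := rfl
theorem F284293 : act 4 n182716 = n182369 := d20_6 F61551 (iv1 D20103) F30765 D40519 D87223 D182716 (iv1 D182369) F133678 (iv3 D40463) (iv1 F61550)
def n182717 : Q := act 5 n87223
theorem D182717 : act 5 n87223 = n182717 := rfl
theorem F284294 : act 4 n182717 = n162440 := d19_2 D87223 D182717 (iv3 D162440) (iv1 D78016) (iv5 D35588) F28194 (iv3 D8126) (iv1 F12765) F12764 (iv4 D3938) (iv3 F5851) F12347 (iv5 D7811) (iv4 F12346) (iv3 F14548) F17524 D9472 F30765 D40519
def n182718 : Q := act 6 n87223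
theorem D182718 : act 6 n87223 = n182718 := rfl
def n182719 : Q := act 7 n87223
theorem D182719 : act 7 n87223 = n182719 := rfl
theorem F284295 : act 2 n182719 = n87224 := d4_1 D182719 F284292 (iv2 D182715)
def n182720 : Q := act 3 n87224
theorem D182720 : act 3 n87224 = n182720 := rfl
def n182721 : Q := act 5 n87224
theorem D182721 : act 5 n87224 = n182721 := rfl
def n182722 : Q := act 6 n87224
theorem D182722 : act 6 n87224 = n182722 := rfl
def n182723 : Q := act 5 n87225
theorem D182723 : act 5 n87225 = n182723 := rfl
theorem F284296 : act 2 n182723 = n87226 := d2_1 D182723 (iv5 D87226) D87225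
def n182725 : Q := act 0 n87226
theorem D182725 : act 0 n87226 = n182725 := rfl
def n182726 : Q := act 1 n87226
theorem D182726 : act 1 n87226 = n182726 := rfl
def n182727 : Q := act 6 n87226
theorem D182727 : act 6 n87226 = n182727 := rfl
def n182740 : Q := act 0 n87232
theorem D182740 : act 0 n87232 = n182740 := rfl
def n182761 : Q := act 3 n87242
theorem D182761 : act 3 n87242 = n182761 := rfl
theorem F284334 : act 4 n182761 = n87244 := d5_2 D87242 D182761 (iv3 D87244) (iv4 D40526) (iv3 F61660)
def n182765 : Q := act 7 n87243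
theorem D182765 : act 7 n87243 = n182765 := rfl
theorem F284336 : act 3 n182765 = n87248 := d8_1 D182765 (iv7 D87248) (iv3 F133889)
def n182766 : Q := act 0 n87244
theorem D182766 : act 0 n87244 = n182766 := rfl
def n182767 : Q := act 1 n87244
theorem D182767 : act 1 n87244 = n182767 := rfl
def n182768 : Q := act 2 n87244
theorem D182768 : act 2 n87244 = n182768 := rfl
def n182769 : Q := act 6 n87244
theorem D182769 : act 6 n87244 = n182769 := rfl
theorem F284337 : act 3 n182769 = n87245 := d7_1 D182769 (iv6 D87245) D87244
def n182770 : Q := act 0 n87245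
theorem D182770 : act 0 n87245 = n182770 := rfl
def n182771 : Q := act 1 n87245
theorem D182771 : act 1 n87245 = n182771 := rfl
def n182772 : Q := act 5 n87245
theorem D182772 : act 5 n87245 = n182772 := rfl
def n182773 : Q := act 7 n87245
theorem D182773 : act 7 n87245 = n182773 := rfl
theorem F284338 : act 4 n182773 = n87248 := d11_1 D182773 (iv7 D87248) (iv4 F133890)
def n182774 : Q := act 2 n87246
theorem D182774 : act 2 n87246 = n182774 := rfl
theorem F284339 : act 7 n87247 = n182774 := d15_2 (iv0 D87246) D87247 (iv2 D182774)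
def n182775 : Q := act 3 n87246
theorem D182775 : act 3 n87246 = n182775 := rfl
def n182776 : Q := act 4 n87246
theorem D182776 : act 4 n87246 = n182776 := rfl
def n182777 : Q := act 5 n87246
theorem D182777 : act 5 n87246 = n182777 := rfl
def n182778 : Q := act 6 n87246
theorem D182778 : act 6 n87246 = n182778 := rfl
def n182779 : Q := act 7 n87246
theorem D182779 : act 7 n87246 = n182779 := rfl
theorem F284340 : act 2 n182779 = n87247 := d4_1 D182779 F284339 (iv2 D182774)
def n182792 : Q := act 2 n87263
theorem D182792 : act 2 n87263 = n182792 := rfl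
theorem F284351 : act 3 n182792 = n182334 := d0_2 D87263 D182792 F284139 (iv3 D105022) F141296
theorem F284352 : act 1 n182792 = n93133 := d15_0 (iv0 F143849) F143847 D182792
theorem F284353 : act 1 n93128 = n182792 := d15_0 F284352 F280752 F280759
def n182847 : Q := act 2 n87289
theorem D182847 : act 2 n87289 = n182847 := rfl
theorem F284399 : act 7 n87290 = n182847 := d15_2 (iv0 D87289) D87290 (iv2 D182847)
def n182848 : Q := act 4 n87289
theorem D182848 : act 4 n87289 = n182848 := rfl
theorem F284400 : act 0 n181893 = n182848 := d20_10 (iv4 D182848) (iv1 F138244) F138242 F138241 (iv1 F64991) D88447 (iv4 F138201) F283193 (iv4 D181894) D181893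
def n182849 : Q := act 5 n87289
theorem D182849 : act 5 n87289 = n182849 := rfl
def n182850 : Q := act 6 n87289
theorem D182850 : act 6 n87289 = n182850 := rfl
def n182851 : Q := act 7 n87289
theorem D182851 : act 7 n87289 = n182851 := rfl
theorem F284401 : act 2 n182851 = n87290 := d4_1 D182851 F284399 (iv2 D182847)
def n182852 : Q := act 3 n87290
theorem D182852 : act 3 n87290 = n182852 := rfl
def n182853 : Q := act 4 n87290
theorem D182853 : act 4 n87290 = n182853 := rfl
theorem F284402 : act 3 n182853 = n181879 := d20_3 F138242 (iv1 F138246) D182853 (iv1 F283164) (iv3 F283178) F283179 (iv1 F139093) D91090 (iv3 F140139) (iv1 F138244)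
def n182854 : Q := act 5 n87290
theorem D182854 : act 5 n87290 = n182854 := rfl
def n182855 : Q := act 6 n87290
theorem D182855 : act 6 n87290 = n182855 := rfl
def n182856 : Q := act 5 n87291
theorem D182856 : act 5 n87291 = n182856 := rfl
theorem F284403 : act 2 n182856 = n87292 := d2_1 D182856 (iv5 D87292) D87291
theorem F284404 : act 3 n182856 = n88450 := d6_1 D182856 (iv5 D88450) (iv3 F133981)
def n182857 : Q := act 0 n87292
theorem D182857 : act 0 n87292 = n182857 := rfl
def n182858 : Q := act 1 n87292
theorem D182858 : act 1 n87292 = n182858 := rfl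
def n182859 : Q := act 4 n87292
theorem D182859 : act 4 n87292 = n182859 := rfl
theorem F284405 : act 3 n182859 = n166604 := d5_1 D182859 (iv4 D166604) F122746 (iv4 F61665) (iv3 F133983)
def n182860 : Q := act 6 n87292
theorem D182860 : act 6 n87292 = n182860 := rfl
theorem F284406 : act 3 n182860 = n87293 := d7_1 D182860 (iv6 D87293) (iv3 F133983)
def n182861 : Q := act 0 n87293
theorem D182861 : act 0 n87293 = n182861 := rfl
def n182862 : Q := act 1 n87293
theorem D182862 : act 1 n87293 = n182862 := rfl
theorem F284407 : act 1 n182862 = n88463 := d15_1 D182862 (iv7 D88463) (iv2 F133984)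
def n182863 : Q := act 7 n87293
theorem D182863 : act 7 n87293 = n182863 := rfl
theorem F284408 : act 2 n182863 = n88463 := d4_1 D182863 (iv7 D88463) (iv2 F133984)
theorem F284409 : act 4 n182863 = n166613 := d11_1 D182863 (iv7 D166613) (iv4 F133985)
theorem F284410 : act 1 n88463 = n182861 := d15_0 (iv0 D182861) D182863 F284408
theorem F284411 : act 1 n88462 = n182863 := d15_1 D88462 (iv7 D182863) F133984
theorem F284412 : act 1 n182863 = n88461 := d15_0 (iv0 D88461) D88463 (iv2 F284408)
def n182865 : Q := act 5 n87298
theorem D182865 : act 5 n87298 = n182865 := rfl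
theorem F284417 : act 2 n182865 = n88684 := d2_1 D182865 (iv5 D88684) (iv2 F134016)
theorem F284418 : act 0 n182865 = n89607 := d17_2 (iv1 F134019) D182865 (iv5 D89607) (iv4 D41849) (iv5 D19701) (iv0 D9247) D9249 D19708 D41863
theorem F284419 : act 1 n182865 = n89617 := d17_6 (iv1 F133990) (iv5 D87294) (iv1 D40541) D40542 D87298 D182865 (iv5 D89617) F137378 F137377
def n182869 : Q := act 7 n87302
theorem D182869 : act 7 n87302 = n182869 := rfl
theorem F284423 : act 2 n182869 = n165244 := d4_1 D182869 (iv7 D165244) (iv2 F134037)
theorem F284424 : act 4 n182869 = n87392 := d11_1 D182869 (iv7 D87392) (iv4 F134038)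
theorem F284427 : act 1 n165242 = n182869 := d15_1 D165242 (iv7 D182869) F134037
theorem F284428 : act 1 n182869 = n165241 := d15_0 (iv0 D165241) D165244 (iv2 F284423)
def n182872 : Q := act 3 n87309
theorem D182872 : act 3 n87309 = n182872 := rfl
theorem F284435 : act 6 n182872 = n87311 := d7_2 (iv6 F134047) D182872 (iv3 D87311)
def n182873 : Q := act 5 n87309
theorem D182873 : act 5 n87309 = n182873 := rfl
theorem F284436 : act 0 n182873 = n181681 := d17_2 (iv1 F134048) D182873 (iv5 D181681) (iv4 D86709) (iv5 D40207) (iv0 D18986) (iv5 F28282) D35813 D78622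
theorem F284437 : act 1 n182873 = n181690 := d17_6 F134045 (iv5 D87305) (iv1 D40557) D40558 D87309 D182873 (iv5 D181690) (iv0 F268071) (iv4 D170617)
def n182874 : Q := act 7 n87309
theorem D182874 : act 7 n87309 = n182874 := rfl
theorem F284440 : act 1 n161099 = n182874 := d15_1 (iv0 F254667) (iv7 D182874) (iv2 F148930)
theorem F284441 : act 1 n182874 = n163590 := d15_1 F284440 F257860 (iv2 F254664)
def n182877 : Q := act 5 n87311
theorem D182877 : act 5 n87311 = n182877 := rfl
theorem F284450 : act 3 n182877 = n87312 := d6_1 D182877 (iv5 D87312) D87311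
def n182878 : Q := act 6 n87312
theorem D182878 : act 6 n87312 = n182878 := rfl
theorem F284452 : act 4 n182878 = n181932 := d10_1 D182878 (iv6 D181932) (iv4 F134053)
def n182910 : Q := act 1 n87326
theorem D182910 : act 1 n87326 = n182910 := rfl
theorem F284489 : act 4 n182910 = n98061 := d18_7 (iv1 F118888) (iv4 D37392) (iv1 F121277) (iv4 F30793) D40574 D87326 D182910 F151206 F132417
def n182916 : Q := act 5 n87334
theorem D182916 : act 5 n87334 = n182916 := rfl
theorem F284504 : act 0 n87587 = n182916 := d21_7 (iv5 F74064) (iv1 F113357) F113355 D95432 F159078 D104141 (iv5 F159632) (iv5 D182916) (iv6 D87334) (iv1 F64173)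
def n182917 : Q := act 5 n87335
theorem D182917 : act 5 n87335 = n182917 := rfl
def n182918 : Q := act 0 n87336
theorem D182918 : act 0 n87336 = n182918 := rfl
def n182919 : Q := act 1 n87336
theorem D182919 : act 1 n87336 = n182919 := rfl
def n182920 : Q := act 5 n87336
theorem D182920 : act 5 n87336 = n182920 := rfl
theorem F284505 : act 3 n182920 = n87342 := d6_1 D182920 (iv5 D87342) (iv3 F134096)
theorem F284506 : act 6 n182920 = n87339 := d12_2 D87336 D182920 (iv5 D87339) (iv6 D40593) D40592
def n182922 : Q := act 2 n87337
theorem D182922 : act 2 n87337 = n182922 := rfl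
theorem F284508 : act 7 n87338 = n182922 := d15_2 (iv0 D87337) D87338 (iv2 D182922)
def n182923 : Q := act 3 n87337
theorem D182923 : act 3 n87337 = n182923 := rfl
theorem F284509 : act 4 n182923 = n88591 := d20_6 (iv4 F31273) F63558 (iv4 F30803) (iv3 F61714) D87337 D182923 (iv1 F135747) F133332 F133331 (iv1 F61383)
theorem F284510 : act 2 n181942 = n182923 := d1_3 F284509 F283588 D181942
theorem F284511 : act 7 n181945 = n182923 := d11_0 F284509 F283589 D181945
theorem F284512 : act 7 n87337 = n98850 := d8_2 F284511 (iv3 D182923) (iv3 F283243)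
theorem F284513 : act 1 n182232 = n181945 := d15_1 (iv0 F283676) F284511 (iv2 F284510)
theorem F284514 : act 2 n98850 = n87338 := d4_1 F284512 F284508 (iv2 D182922)
theorem E24944 : n182922 = n98849 := (c15_4 (iv0 D98849) D98850 (iv7 F284512) D182922)
theorem F284515 : act 2 n98849 = n87337 := (sb E24944 (iv2 D182922))
theorem F284516 : act 7 n98849 = n87338 := (sb E24944 (iv7 F284508))
def n182924 : Q := act 4 n87337
theorem D182924 : act 4 n87337 = n182924 := rfl
theorem F284517 : act 2 n182924 = n97159 := d1_1 D182924 (iv4 F152400) F284515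
theorem F284518 : act 7 n182924 = n97119 := d11_2 (iv7 F284512) D182924 F152403
theorem F284519 : act 3 n182924 = n97099 := d20_3 (iv4 F61715) D87337 D182924 (iv1 F149820) F71605 (iv4 F61800) (iv1 F61802) (iv4 F63473) D45345 F71457
def n182925 : Q := act 5 n87337
theorem D182925 : act 5 n87337 = n182925 := rfl
def n182926 : Q := act 6 n87337
theorem D182926 : act 6 n87337 = n182926 := rfl
def n182927 : Q := act 4 n87338
theorem D182927 : act 4 n87338 = n182927 := rfl
theorem F284520 : act 2 n182927 = n97119 := d1_1 D182927 F152403 F284514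
theorem F284521 : act 3 n182927 = n89897 := d5_1 D182927 F138024 D159841 F251975 F283528
theorem F284522 : act 7 n182927 = n97159 := d11_2 F284516 D182927 (iv4 F152400)
def n182928 : Q := act 5 n87338
theorem D182928 : act 5 n87338 = n182928 := rfl
def n182929 : Q := act 6 n87338
theorem D182929 : act 6 n87338 = n182929 := rfl
def n182930 : Q := act 0 n87339
theorem D182930 : act 0 n87339 = n182930 := rfl
def n182931 : Q := act 1 n87339
theorem D182931 : act 1 n87339 = n182931 := rfl
def n182932 : Q := act 4 n87339
theorem D182932 : act 4 n87339 = n182932 := rfl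
def n182943 : Q := act 0 n87342
theorem D182943 : act 0 n87342 = n182943 := rfl
def n182944 : Q := act 1 n87342
theorem D182944 : act 1 n87342 = n182944 := rfl
def n182945 : Q := act 4 n87342
theorem D182945 : act 4 n87342 = n182945 := rfl
theorem F284525 : act 6 n182945 = n87345 := d10_2 (iv6 F134098) D182945 (iv4 D87345)
def n182946 : Q := act 7 n87342
theorem D182946 : act 7 n87342 = n182946 := rfl
theorem F284526 : act 5 n182946 = n87343 := d13_1 D182946 (iv7 D87343) D87342
def n182947 : Q := act 6 n87344
theorem D182947 : act 6 n87344 = n182947 := rfl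
theorem F284527 : act 2 n182947 = n88341 := d3_1 D182947 (iv6 D88341) F134100
def n182948 : Q := act 3 n87345
theorem D182948 : act 3 n87345 = n182948 := rfl
def n182949 : Q := act 2 n87346
theorem D182949 : act 2 n87346 = n182949 := rfl
theorem F284528 : act 3 n182949 = n150152 := d0_2 (iv3 F275530) D182949 (iv2 D150152) (iv3 D70668) (iv2 F187181)
theorem F284529 : act 4 n182949 = n151860 := d1_2 (iv4 F275531) D182949 (iv2 D151860)
theorem F284530 : act 7 n182949 = n87347 := d4_2 (iv7 F275532) D182949 F275535
theorem F284532 : act 1 n150165 = n182949 := d15_1 D150165 F284530 F275535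
def n182950 : Q := act 5 n87346
theorem D182950 : act 5 n87346 = n182950 := rfl
def n182951 : Q := act 6 n87346
theorem D182951 : act 6 n87346 = n182951 := rfl
theorem F284535 : act 3 n182951 = n150058 := d7_1 D182951 (iv6 D150058) (iv3 F275530)
theorem F284536 : act 4 n182951 = n151862 := d10_1 D182951 (iv6 D151862) (iv4 F275531)
def n182952 : Q := act 3 n87347
theorem D182952 : act 3 n87347 = n182952 := rfl
theorem F284537 : act 2 n182952 = n150059 := d0_1 D182952 (iv3 D150059) F187204 D70673 (iv2 F275535)
theorem F284538 : act 7 n182952 = n150152 := d8_2 F284530 D182952 (iv3 F284528)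
theorem F284539 : act 4 n165202 = n182952 := d20_8 (iv4 F132654) F275522 F123989 (iv3 D37625) D37623 D82093 (iv4 F132459) (iv1 F260468) (iv3 D182952) (iv1 D87347)
theorem F284540 : act 0 n150150 = n182952 := d20_10 (iv4 F284539) (iv1 D165202) (iv4 F154902) F154901 D100805 (iv3 F236386) (iv4 F271075) F271076 (iv4 D171257) (iv3 F268980)
theorem F284541 : act 1 n150151 = n182952 := d15_1 D150151 F284538 (iv2 D150152)
def n182953 : Q := act 4 n87347
theorem D182953 : act 4 n87347 = n182953 := rfl
theorem F284542 : act 2 n182953 = n150167 := d1_1 D182953 (iv4 D150167) (iv2 F275535)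
theorem F284543 : act 7 n182953 = n151860 := d11_2 F284530 D182953 (iv4 F284529)
theorem F284548 : act 1 n171334 = n151860 := d15_1 (iv0 F269064) (iv7 F284543) F284542
def n182955 : Q := act 6 n87347
theorem D182955 : act 6 n87347 = n182955 := rfl
theorem F284551 : act 2 n182955 = n150169 := d3_1 D182955 (iv6 D150169) (iv2 F275535)
def n182958 : Q := act 4 n87348
theorem D182958 : act 4 n87348 = n182958 := rfl
theorem F284552 : act 6 n182958 = n87352 := d10_2 (iv6 F134104) D182958 (iv4 D87352)
def n182960 : Q := act 3 n87350
theorem D182960 : act 3 n87350 = n182960 := rfl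
theorem F284554 : act 5 n182960 = n91406 := d6_2 (iv5 F134105) D182960 (iv3 D91406)
theorem F284555 : act 7 n182960 = n104240 := d8_2 F134106 D182960 F159833
def n182962 : Q := act 3 n87351
theorem D182962 : act 3 n87351 = n182962 := rfl
theorem F284556 : act 5 n182962 = n91408 := d6_2 F134107 D182962 (iv3 D91408)
theorem F284557 : act 0 n102517 = n182962 := d20_4 D41760 D89426 F137098 D102517 (iv3 D182962) F137671 (iv1 D89253) (iv4 D41700) F31399 D19646
theorem F284558 : act 1 n87540 = n182962 := d15_0 (iv0 F284557) F157445 F136481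
theorem E24946 : n99024 = n98334 := ((c21_7 (iv5 F284556) (iv1 F284558) (iv5 D87540) (iv6 D40745) (iv1 F34486) D46008 D98334 (iv1 D99024) D99027 (iv6 F152559) F140607)).symm
theorem F284559 : act 0 n98334 = n46325 := (sb E24946 (iv1 D99024))
theorem E24947 : n97366 = n97095 := (c17_7 (iv1 F136556) D98334 F284559 D99027 (iv4 F152558) (iv5 D97369) D97366 (iv5 D97095) (iv0 F157276) F148731)
theorem F284560 : act 0 n97095 = n45471 := (sb E24947 (iv1 D97366))
def n182963 : Q := act 6 n87351
theorem D182963 : act 6 n87351 = n182963 := rfl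
theorem F284561 : act 2 n182963 = n104250 := d3_1 D182963 F159848 (iv2 F134108)
theorem F284562 : act 5 n182963 = n104206 := d12_1 D182963 (iv6 D104206) (iv5 D48217) (iv6 F67044) F134107
def n182964 : Q := act 0 n87352
theorem D182964 : act 0 n87352 = n182964 := rfl
theorem F284563 : act 4 n182964 = n89208 := d18_3 (iv1 D87351) D87352 D182964 (iv5 F140458) F140459 (iv0 D46659) (iv4 F66351) (iv0 F137635) F134107
theorem F284564 : act 2 n89247 = n182964 := d15_3 (iv0 D182964) (iv0 F156199) F156198
def n182965 : Q := act 3 n87352
theorem D182965 : act 3 n87352 = n182965 := rfl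
def n182966 : Q := act 5 n87352
theorem D182966 : act 5 n87352 = n182966 := rfl
def n182967 : Q := act 7 n87352
theorem D182967 : act 7 n87352 = n182967 := rfl
theorem F284566 : act 4 n182967 = n87353 := d11_1 D182967 (iv7 D87353) D87352
theorem F284567 : act 1 n89250 = n182967 := d15_1 F147323 (iv7 D182967) (iv2 F147321)
theorem F284568 : act 1 n182967 = n89247 := d15_1 F284567 (iv7 F156198) F156197
def n182968 : Q := act 6 n87353
theorem D182968 : act 6 n87353 = n182968 := rfl
def n182972 : Q := act 5 n87354
theorem D182972 : act 5 n87354 = n182972 := rfl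
def n182973 : Q := act 6 n87354
theorem D182973 : act 6 n87354 = n182973 := rfl
def n182979 : Q := act 0 n87356
theorem D182979 : act 0 n87356 = n182979 := rfl
def n182980 : Q := act 1 n87356
theorem D182980 : act 1 n87356 = n182980 := rfl
def n182981 : Q := act 4 n87356
theorem D182981 : act 4 n87356 = n182981 := rfl
theorem F284571 : act 6 n182981 = n118203 := d10_2 (iv6 F134112) D182981 (iv4 D118203)
def n182982 : Q := act 7 n87356
theorem D182982 : act 7 n87356 = n182982 := rfl
theorem F284572 : act 3 n182982 = n122410 := d8_1 D182982 (iv7 D122410) (iv3 F134111)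
theorem F284573 : act 5 n182982 = n87357 := d13_1 D182982 (iv7 D87357) D87356
def n182983 : Q := act 0 n87358
theorem D182983 : act 0 n87358 = n182983 := rfl
def n182984 : Q := act 1 n87358
theorem D182984 : act 1 n87358 = n182984 := rfl
theorem F284574 : act 1 n182984 = n170897 := d15_1 D182984 (iv7 D170897) (iv2 F134115)
def n182985 : Q := act 5 n87358
theorem D182985 : act 5 n87358 = n182985 := rfl
theorem F284577 : act 6 n182985 = n150054 := d12_2 D87358 D182985 (iv5 D150054) (iv6 D70599) (iv5 F61721)
def n182986 : Q := act 7 n87358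
theorem D182986 : act 7 n87358 = n182986 := rfl
theorem F284578 : act 2 n182986 = n170897 := d4_1 D182986 (iv7 D170897) (iv2 F134115)
theorem F284579 : act 3 n182986 = n87362 := d8_1 D182986 (iv7 D87362) (iv3 F134116)
theorem F284580 : act 4 n182986 = n170897 := d11_1 D182986 (iv7 D170897) (iv4 F134117)
theorem F284581 : act 1 n170897 = n182983 := d15_0 (iv0 D182983) D182986 F284578
theorem F284583 : act 1 n182986 = n170894 := d15_0 (iv0 D170894) D170897 (iv2 F284578)
def n182987 : Q := act 2 n87359
theorem D182987 : act 2 n87359 = n182987 := rfl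
theorem F284584 : act 7 n87360 = n182987 := d15_2 (iv0 D87359) D87360 (iv2 D182987)
def n182991 : Q := act 6 n87359
theorem D182991 : act 6 n87359 = n182991 := rfl
theorem F284585 : act 5 n182991 = n149108 := d21_6 (iv5 F41993) (iv1 F41996) (iv5 F30811) D40606 D87359 D182991 (iv1 D149108) (iv5 D69974) (iv6 D32485) (iv1 F30935)
def n182993 : Q := act 3 n87360
theorem D182993 : act 3 n87360 = n182993 := rfl
def n182994 : Q := act 4 n87360
theorem D182994 : act 4 n87360 = n182994 := rfl
def n182995 : Q := act 5 n87360
theorem D182995 : act 5 n87360 = n182995 := rfl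
def n182996 : Q := act 6 n87360
theorem D182996 : act 6 n87360 = n182996 := rfl
def n182997 : Q := act 0 n87361
theorem D182997 : act 0 n87361 = n182997 := rfl
def n182998 : Q := act 1 n87361
theorem D182998 : act 1 n87361 = n182998 := rfl
theorem F284587 : act 1 n182998 = n150149 := d15_1 D182998 (iv7 D150149) (iv2 F134119)
def n182999 : Q := act 4 n87361
theorem D182999 : act 4 n87361 = n182999 := rfl
theorem F284589 : act 6 n182999 = n150063 := d10_2 (iv6 F134120) D182999 (iv4 D150063)
def n183000 : Q := act 7 n87361
theorem D183000 : act 7 n87361 = n183000 := rfl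
theorem F284590 : act 2 n183000 = n150149 := d4_1 D183000 (iv7 D150149) (iv2 F134119)
theorem F284591 : act 5 n183000 = n87362 := d13_1 D183000 (iv7 D87362) D87361
theorem F284592 : act 1 n150149 = n182997 := d15_0 (iv0 D182997) D183000 F284590
def n183001 : Q := act 3 n87363
theorem D183001 : act 3 n87363 = n183001 := rfl
theorem F284595 : act 2 n183001 = n98418 := d0_1 D183001 (iv3 D98418) F152050 (iv3 F72621) (iv2 F152063)
theorem F284596 : act 4 n183001 = n98418 := d5_2 F134134 D183001 (iv3 D98418) (iv4 D46037) D46036
theorem F284597 : act 7 n183001 = n87376 := d8_2 (iv7 F152064) D183001 (iv3 D87376)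
theorem F284598 : act 0 n183001 = n99067 := d20_10 (iv4 D99067) (iv1 D46340) F62236 (iv3 D22191) (iv1 F35327) (iv3 F58833) (iv4 F61396) F72625 F134134 D183001
theorem F284599 : act 0 n88798 = n183001 := d20_4 D89118 (iv1 F270482) F149790 F147312 (iv3 D183001) (iv4 F134134) (iv1 F145980) (iv4 F150724) F150723 (iv1 F136815)
def n183002 : Q := act 5 n87363
theorem D183002 : act 5 n87363 = n183002 := rfl
theorem F284600 : act 2 n183002 = n87373 := d2_1 D183002 (iv5 D87373) (iv2 F152063)
theorem F284601 : act 7 n183002 = n87378 := d13_2 (iv7 F152064) D183002 (iv5 D87378)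
def n183003 : Q := act 6 n87363
theorem D183003 : act 6 n87363 = n183003 := rfl
theorem F284602 : act 2 n183003 = n87374 := d3_1 D183003 (iv6 D87374) (iv2 F152063)
theorem F284603 : act 4 n183003 = n98416 := d10_1 D183003 (iv6 D98416) F134134
theorem F284604 : act 5 n183003 = n101058 := d21_6 (iv5 D15379) D15377 F30814 D40607 D87363 D183003 (iv1 D101058) (iv5 D47080) (iv6 D22643) F24953
def n183004 : Q := act 5 n87364
theorem D183004 : act 5 n87364 = n183004 := rfl
theorem F284605 : act 2 n183004 = n87378 := d2_1 D183004 (iv5 D87378) (iv2 F152059)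
theorem F284606 : act 3 n183004 = n98437 := d6_1 D183004 (iv5 D98437) (iv3 F134127)
theorem F284607 : act 7 n183004 = n87373 := d13_2 (iv7 F152060) D183004 (iv5 D87373)
def n183005 : Q := act 6 n87364
theorem D183005 : act 6 n87364 = n183005 := rfl
theorem F284608 : act 2 n183005 = n87379 := d3_1 D183005 (iv6 D87379) (iv2 F152059)
theorem F284609 : act 3 n183005 = n98438 := d7_1 D183005 (iv6 D98438) (iv3 F134127)
theorem F284610 : act 4 n183005 = n181980 := d10_1 D183005 (iv6 D181980) (iv4 F134128)
def n183006 : Q := act 0 n87365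
theorem D183006 : act 0 n87365 = n183006 := rfl
def n183007 : Q := act 1 n87365
theorem D183007 : act 1 n87365 = n183007 := rfl
theorem F284611 : act 1 n183007 = n87383 := d15_1 D183007 (iv7 D87383) (iv2 F134129)
theorem F284612 : act 5 n87764 = n183007 := d21_6 F51890 F41986 (iv5 F27837) D19276 D40895 D87764 (iv1 D183007) (iv5 D87365) (iv6 D40607) (iv1 F51892)
theorem F284613 : act 3 n183007 = n171154 := d6_1 F284612 (iv5 F268895) F153004
def n183008 : Q := act 4 n87365
theorem D183008 : act 4 n87365 = n183008 := rfl
theorem F284614 : act 2 n183008 = n87382 := d1_1 D183008 (iv4 D87382) (iv2 F134129)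
theorem F284615 : act 6 n183008 = n149093 := d10_2 (iv6 F134130) D183008 (iv4 D149093)
def n183009 : Q := act 7 n87365
theorem D183009 : act 7 n87365 = n183009 := rfl
theorem F284616 : act 2 n183009 = n87383 := d4_1 D183009 (iv7 D87383) (iv2 F134129)
theorem F284617 : act 5 n183009 = n87366 := d13_1 D183009 (iv7 D87366) D87365
theorem F284618 : act 1 n87383 = n183006 := d15_0 (iv0 D183006) D183009 F284616
theorem F284619 : act 1 n87381 = n183009 := d15_1 D87381 (iv7 D183009) F134129
theorem F284620 : act 1 n183009 = n87380 := d15_0 (iv0 D87380) D87383 (iv2 F284616)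
def n183010 : Q := act 0 n87369
theorem D183010 : act 0 n87369 = n183010 := rfl
theorem F284621 : act 5 n183010 = n120638 := d17_3 F232487 D87369 D183010 F192268 F87908 (iv0 F155462) (iv5 D54397) (iv0 F155112) (iv4 F60583)
theorem F284622 : act 1 n125115 = n183010 := d15_0 (iv0 D183010) F232493 (iv2 F201015)
theorem F284623 : act 3 n120639 = n183010 := d6_3 F284621 (iv3 D120638) D120639
theorem F284624 : act 7 n149092 = n183010 := d13_0 F284621 F192269 F234481
theorem F284625 : act 2 n183010 = n149091 := d15_3 (iv0 D149091) D149092 F284624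
def n183011 : Q := act 1 n87369
theorem D183011 : act 1 n87369 = n183011 := rfl
theorem F284626 : act 1 n183011 = n125115 := d15_1 D183011 (iv7 F232561) (iv2 F134137)
theorem F284627 : act 7 n183011 = n149091 := d15_2 (iv0 D183010) D183011 (iv2 F284625)
theorem F284628 : act 5 n150094 = n183011 := d21_0 (iv1 D183011) (iv5 D87369) (iv6 D40608) F30820 D26312 D54402 D118096 F236345 F279965 (iv1 F279966)
theorem F284629 : act 2 n183011 = n149092 := d2_1 F284628 (iv5 F234481) (iv2 F236201)
def n183012 : Q := act 4 n87369
theorem D183012 : act 4 n87369 = n183012 := rfl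
theorem F284630 : act 2 n183012 = n149093 := d1_1 D183012 (iv4 D149093) (iv2 F134137)
theorem F284631 : act 6 n183012 = n87382 := d10_2 (iv6 F134139) D183012 (iv4 D87382)
theorem F284632 : act 7 n183012 = n179730 := d11_2 (iv7 F232493) D183012 (iv4 D179730)
def n183013 : Q := act 3 n87372
theorem D183013 : act 3 n87372 = n183013 := rfl
theorem F284633 : act 2 n183013 = n98398 := d0_1 D183013 (iv3 D98398) (iv2 F152043) D46036 (iv2 F152061)
theorem F284634 : act 4 n183013 = n98398 := d5_2 D87372 D183013 (iv3 D98398) (iv4 F72620) (iv3 F72621)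
theorem F284635 : act 7 n183013 = n98434 := d8_2 (iv7 F152062) D183013 F151855
theorem F284636 : act 0 n183013 = n98433 := d20_4 F31386 D40609 D87372 D183013 F151858 D98564 (iv1 F251924) (iv4 F251925) (iv3 D89169) (iv1 D41654)
theorem F284637 : act 0 n98377 = n183013 := d20_4 (iv4 F148707) (iv1 F270483) F147423 (iv3 F151805) (iv3 D183013) (iv4 D87372) (iv1 F134135) (iv4 F136859) (iv3 F147787) (iv1 F147791)
def n183014 : Q := act 5 n87372
theorem D183014 : act 5 n87372 = n183014 := rfl
theorem F284638 : act 2 n183014 = n98415 := d2_1 D183014 (iv5 D98415) (iv2 F152061)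
theorem F284639 : act 7 n183014 = n181979 := d13_2 (iv7 F152062) D183014 (iv5 D181979)
def n183015 : Q := act 6 n87372
theorem D183015 : act 6 n87372 = n183015 := rfl
theorem F284640 : act 2 n183015 = n98416 := d3_1 D183015 (iv6 D98416) (iv2 F152061)
theorem F284641 : act 4 n183015 = n87374 := d10_1 D183015 (iv6 D87374) D87372
theorem F284642 : act 5 n183015 = n87771 := d21_6 F30929 D26311 (iv5 F61391) D86917 F145035 D183015 (iv1 D87771) (iv5 D40897) (iv6 D19276) D19273
def n183016 : Q := act 0 n87373
theorem D183016 : act 0 n87373 = n183016 := rfl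
theorem F284643 : act 1 n87378 = n183016 := d15_0 (iv0 D183016) (iv7 F284607) F284605
def n183017 : Q := act 1 n87373
theorem D183017 : act 1 n87373 = n183017 := rfl
theorem F284644 : act 1 n183017 = n87378 := d15_1 D183017 (iv7 F284601) F284600
def n183018 : Q := act 4 n87373
theorem D183018 : act 4 n87373 = n183018 := rfl
def n183019 : Q := act 6 n87373
theorem D183019 : act 6 n87373 = n183019 := rfl
def n183020 : Q := act 0 n87374
theorem D183020 : act 0 n87374 = n183020 := rfl
def n183021 : Q := act 1 n87374
theorem D183021 : act 1 n87374 = n183021 := rfl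
def n183022 : Q := act 5 n87374
theorem D183022 : act 5 n87374 = n183022 := rfl
theorem F284645 : act 2 n183022 = n101058 := d2_1 D183022 (iv5 F284604) F284602
theorem F284646 : act 3 n183022 = n99981 := d6_1 D183022 (iv5 F153907) F136489
theorem F284647 : act 0 n183022 = n101036 := d21_7 (iv5 F30934) (iv1 F30818) (iv5 D19178) D19179 D40609 D87374 D183022 (iv5 D101036) (iv6 D47072) F35169
theorem F284648 : act 1 n183022 = n93321 := d15_1 (iv0 F284647) F143905 (iv2 F155639)
theorem F284649 : act 7 n100027 = n183022 := d8_0 F284646 (iv7 F153917) D100027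
def n183023 : Q := act 7 n87374
theorem D183023 : act 7 n87374 = n183023 := rfl
theorem F284651 : act 5 n183023 = n100027 := d13_1 D183023 F284649 (iv5 D183022)
def n183024 : Q := act 1 n87376
theorem D183024 : act 1 n87376 = n183024 := rfl
theorem F284652 : act 1 n183024 = n98418 := d15_1 D183024 F152066 F136492
theorem F284653 : act 7 n183024 = n88798 := d15_2 F157229 D183024 (iv2 F151693)
theorem F284654 : act 4 n88802 = n183024 := d20_0 (iv1 D183024) (iv4 F136493) (iv3 D88929) (iv1 D41525) F31298 F14372 D9205 D19562 D41546 (iv1 F157262)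
theorem F284655 : act 2 n183024 = n99067 := d1_1 F284654 (iv4 D99067) (iv2 F157263)
theorem F284656 : act 6 n183024 = n98640 := d10_2 (iv6 F157643) F284654 (iv4 D98640)
theorem F284657 : act 3 n183024 = n87407 := d20_3 F64106 (iv1 F157262) F284654 (iv1 F147739) F147736 (iv4 F144599) F157250 (iv4 F144666) F144665 F157239
def n183025 : Q := act 5 n87376
theorem D183025 : act 5 n87376 = n183025 := rfl
theorem F284658 : act 3 n183025 = n87378 := d6_1 D183025 (iv5 D87378) D87376
def n183026 : Q := act 6 n87376
theorem D183026 : act 6 n87376 = n183026 := rfl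
theorem F284659 : act 3 n183026 = n87379 := d7_1 D183026 (iv6 D87379) D87376
def n183027 : Q := act 5 n87377
theorem D183027 : act 5 n87377 = n183027 := rfl
theorem F284660 : act 2 n183027 = n181979 := d2_1 D183027 (iv5 D181979) (iv2 F152052)
theorem F284662 : act 7 n183027 = n98415 := d13_2 (iv7 F152053) D183027 (iv5 D98415)
def n183028 : Q := act 6 n87377
theorem D183028 : act 6 n87377 = n183028 := rfl
theorem F284663 : act 2 n183028 = n181980 := d3_1 D183028 (iv6 D181980) (iv2 F152052)
theorem F284664 : act 3 n183028 = n98403 := d7_1 D183028 (iv6 D98403) F134151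
theorem F284665 : act 4 n183028 = n87379 := d10_1 D183028 (iv6 D87379) D87377
def n183029 : Q := act 4 n87378
theorem D183029 : act 4 n87378 = n183029 := rfl
def n183030 : Q := act 6 n87378
theorem D183030 : act 6 n87378 = n183030 := rfl
theorem F284666 : act 0 n179739 = n183030 := d21_4 F284621 (iv1 F279964) (iv5 D179738) D179739 (iv6 D183030) (iv5 D87378) (iv1 D40610) D40611 (iv6 F134139) D183010
def n183031 : Q := act 0 n87379
theorem D183031 : act 0 n87379 = n183031 := rfl
def n183032 : Q := act 1 n87379
theorem D183032 : act 1 n87379 = n183032 := rfl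
def n183033 : Q := act 5 n87379
theorem D183033 : act 5 n87379 = n183033 := rfl
def n183034 : Q := act 7 n87379
theorem D183034 : act 7 n87379 = n183034 := rfl
def n183035 : Q := act 2 n87380
theorem D183035 : act 2 n87380 = n183035 := rfl
theorem F284667 : act 7 n87381 = n183035 := d15_2 (iv0 D87380) D87381 (iv2 D183035)
def n183036 : Q := act 3 n87380
theorem D183036 : act 3 n87380 = n183036 := rfl
def n183037 : Q := act 4 n87380
theorem D183037 : act 4 n87380 = n183037 := rfl
def n183038 : Q := act 5 n87380
theorem D183038 : act 5 n87380 = n183038 := rfl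
def n183039 : Q := act 6 n87380
theorem D183039 : act 6 n87380 = n183039 := rfl
def n183040 : Q := act 7 n87380
theorem D183040 : act 7 n87380 = n183040 := rfl
theorem F284668 : act 2 n183040 = n87381 := d4_1 D183040 F284667 (iv2 D183035)
def n183041 : Q := act 3 n87381
theorem D183041 : act 3 n87381 = n183041 := rfl
def n183042 : Q := act 4 n87381
theorem D183042 : act 4 n87381 = n183042 := rfl
def n183043 : Q := act 5 n87381
theorem D183043 : act 5 n87381 = n183043 := rfl
theorem F284669 : act 6 n183043 = n87757 := d21_3 (iv5 F284617) (iv1 F284619) D183043 (iv1 F134733) (iv6 F68582) D93321 (iv1 F284648) (iv5 D183022) (iv6 D87374) (iv1 F134135)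
theorem F284670 : act 2 n87764 = n183043 := d3_3 F284669 F154190 D87764
theorem E24948 : n183040 = n183007 := (c2_4 (iv5 F284612) F284670 (iv5 D183043) (iv2 F284668))
theorem F284672 : act 2 n183007 = n87381 := (sb E24948 F284668)
theorem F284673 : act 7 n183007 = n87380 := (sb E24948 (iv7 D183040))
theorem E24949 : n183036 = n88932 := (c8_2 F284673 D183036 F268906 (iv3 F284613))
theorem F284674 : act 3 n88932 = n87380 := (sb E24949 (iv3 D183036))
theorem F284675 : act 7 n183038 = n87764 := d13_2 F284673 D183038 F284612
theorem E24950 : n183035 = n183006 := (c15_4 (iv0 D183006) D183007 F284673 D183035)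
theorem F284676 : act 2 n183006 = n87380 := (sb E24950 (iv2 D183035))
theorem F284677 : act 7 n183006 = n87381 := (sb E24950 (iv7 F284667))
theorem F284678 : act 3 n177884 = n183038 := d8_3 F284675 (iv3 F153004) F277460
def n183044 : Q := act 6 n87381
theorem D183044 : act 6 n87381 = n183044 := rfl
def n183045 : Q := act 0 n87382
theorem D183045 : act 0 n87382 = n183045 := rfl
def n183046 : Q := act 1 n87382
theorem D183046 : act 1 n87382 = n183046 := rfl
def n183047 : Q := act 3 n87382
theorem D183047 : act 3 n87382 = n183047 := rfl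
theorem F284679 : act 4 n183047 = n87427 := d5_2 D87382 D183047 (iv3 D87427) (iv4 D40632) (iv3 F61728)
def n183048 : Q := act 5 n87382
theorem D183048 : act 5 n87382 = n183048 := rfl
def n183049 : Q := act 7 n87382
theorem D183049 : act 7 n87382 = n183049 := rfl
theorem F284680 : act 4 n183049 = n87383 := d11_1 D183049 (iv7 D87383) D87382
def n183050 : Q := act 6 n87383
theorem D183050 : act 6 n87383 = n183050 := rfl
theorem F284681 : act 3 n183050 = n87430 := d7_1 D183050 (iv6 D87430) (iv3 F134153)
theorem F284682 : act 7 n183050 = n179731 := d14_2 D87383 D183050 (iv6 D179731) (iv7 F232493) F134139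
def n183051 : Q := act 0 n87384
theorem D183051 : act 0 n87384 = n183051 := rfl
def n183052 : Q := act 1 n87384
theorem D183052 : act 1 n87384 = n183052 := rfl
def n183053 : Q := act 5 n87384
theorem D183053 : act 5 n87384 = n183053 := rfl
theorem F284683 : act 3 n183053 = n87387 := d6_1 D183053 (iv5 D87387) (iv3 F134155)
theorem F284684 : act 6 n183053 = n87744 := d12_2 D87384 D183053 (iv5 D87744) (iv6 D40882) (iv5 F61730)
def n183054 : Q := act 7 n87384
theorem D183054 : act 7 n87384 = n183054 := rfl
def n183058 : Q := act 5 n87385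
theorem D183058 : act 5 n87385 = n183058 := rfl
def n183059 : Q := act 6 n87385
theorem D183059 : act 6 n87385 = n183059 := rfl
def n183065 : Q := act 0 n87387
theorem D183065 : act 0 n87387 = n183065 := rfl
def n183066 : Q := act 1 n87387
theorem D183066 : act 1 n87387 = n183066 := rfl
theorem F284688 : act 5 n182951 = n183066 := d21_6 (iv5 D9038) (iv1 F14072) D19173 D40599 D87346 D182951 (iv1 D183066) (iv5 D87387) (iv6 D40614) (iv1 F30823)
theorem F284689 : act 3 n183066 = n118097 := d6_1 F284688 (iv5 F236092) (iv3 F284535)
def n183067 : Q := act 4 n87387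
theorem D183067 : act 4 n87387 = n183067 := rfl
theorem F284690 : act 6 n183067 = n87746 := d10_2 (iv6 F134156) D183067 (iv4 D87746)
def n183068 : Q := act 7 n87387
theorem D183068 : act 7 n87387 = n183068 := rfl
def n183069 : Q := act 2 n87389
theorem D183069 : act 2 n87389 = n183069 := rfl
theorem F284692 : act 7 n87390 = n183069 := d15_2 (iv0 D87389) D87390 (iv2 D183069)
def n183074 : Q := act 7 n87389
theorem D183074 : act 7 n87389 = n183074 := rfl
theorem F284693 : act 2 n183074 = n87390 := d4_1 D183074 F284692 (iv2 D183069)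
def n183075 : Q := act 3 n87390
theorem D183075 : act 3 n87390 = n183075 := rfl
def n183078 : Q := act 6 n87390
theorem D183078 : act 6 n87390 = n183078 := rfl
def n183081 : Q := act 4 n87391
theorem D183081 : act 4 n87391 = n183081 := rfl
def n183082 : Q := act 7 n87391
theorem D183082 : act 7 n87391 = n183082 := rfl
theorem F284696 : act 5 n183082 = n87392 := d13_1 D183082 (iv7 D87392) D87391
def n183083 : Q := act 5 n87394
theorem D183083 : act 5 n87394 = n183083 := rfl
theorem F284697 : act 3 n183083 = n87396 := d6_1 D183083 (iv5 D87396) D87394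
def n183084 : Q := act 6 n87394
theorem D183084 : act 6 n87394 = n183084 := rfl
def n183087 : Q := act 0 n87396
theorem D183087 : act 0 n87396 = n183087 := rfl
theorem F284708 : act 5 n183087 = n182955 := d21_2 D87396 D183087 (iv6 D182955) (iv1 D87347) (iv6 D40599) (iv5 D19173) (iv1 D9012) D9014 D19182 D40616
theorem F284709 : act 1 n87401 = n183087 := d15_0 (iv0 D183087) (iv7 F283422) F283421
theorem F284710 : act 2 n179740 = n183087 := d2_3 F284708 F284551 (iv5 F279967)
def n183088 : Q := act 1 n87396
theorem D183088 : act 1 n87396 = n183088 := rfl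
theorem F284711 : act 1 n183088 = n87401 := d15_1 D183088 (iv7 F283411) F283409
theorem F284712 : act 7 n183088 = n179740 := d15_2 (iv0 D183087) D183088 F284710
theorem F284713 : act 3 n125122 = n183088 := d8_3 F284712 (iv3 D179740) (iv7 F236104)
def n183089 : Q := act 4 n87396
theorem D183089 : act 4 n87396 = n183089 := rfl
def n183090 : Q := act 6 n87396
theorem D183090 : act 6 n87396 = n183090 := rfl
def n183093 : Q := act 7 n87397
theorem D183093 : act 7 n87397 = n183093 := rfl
theorem F284714 : act 5 n183093 = n87794 := d13_1 D183093 F283419 (iv5 F159710)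
def n183094 : Q := act 3 n87400
theorem D183094 : act 3 n87400 = n183094 := rfl
theorem F284715 : act 2 n183094 = n154817 := d0_1 D183094 (iv3 F275506) F281954 (iv3 D180905) (iv2 F281942)
def n183097 : Q := act 4 n87401
theorem D183097 : act 4 n87401 = n183097 := rfl
def n183098 : Q := act 6 n87401
theorem D183098 : act 6 n87401 = n183098 := rfl
def n183099 : Q := act 0 n87402
theorem D183099 : act 0 n87402 = n183099 := rfl
def n183100 : Q := act 1 n87402
theorem D183100 : act 1 n87402 = n183100 := rfl
def n183101 : Q := act 5 n87402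
theorem D183101 : act 5 n87402 = n183101 := rfl
def n183102 : Q := act 7 n87402
theorem D183102 : act 7 n87402 = n183102 := rfl
def n183103 : Q := act 2 n87403
theorem D183103 : act 2 n87403 = n183103 := rfl
theorem F284724 : act 7 n87404 = n183103 := d15_2 (iv0 D87403) D87404 (iv2 D183103)
def n183104 : Q := act 3 n87403
theorem D183104 : act 3 n87403 = n183104 := rfl
def n183105 : Q := act 4 n87403
theorem D183105 : act 4 n87403 = n183105 := rfl
def n183106 : Q := act 5 n87403
theorem D183106 : act 5 n87403 = n183106 := rfl
def n183107 : Q := act 6 n87403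
theorem D183107 : act 6 n87403 = n183107 := rfl
theorem F284725 : act 5 n183107 = n88367 := d21_6 (iv5 D40628) (iv1 D19184) D19185 (iv6 F61731) D87403 D183107 (iv1 D88367) D88368 F135328 (iv1 F70440)
def n183108 : Q := act 7 n87403
theorem D183108 : act 7 n87403 = n183108 := rfl
theorem F284726 : act 2 n183108 = n87404 := d4_1 D183108 F284724 (iv2 D183103)
def n183109 : Q := act 4 n87404
theorem D183109 : act 4 n87404 = n183109 := rfl
theorem F284727 : act 0 n183109 = n98100 := d18_2 (iv1 F283432) D183109 (iv4 D98100) (iv5 D45807) (iv4 F72308) (iv0 F281928) (iv4 D87400) F133434 (iv5 F283430)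
def n183110 : Q := act 6 n87404
theorem D183110 : act 6 n87404 = n183110 := rfl
def n183111 : Q := act 0 n87405
theorem D183111 : act 0 n87405 = n183111 := rfl
def n183112 : Q := act 1 n87405
theorem D183112 : act 1 n87405 = n183112 := rfl
theorem F284728 : act 4 n183112 = n88087 := d18_7 (iv1 F72317) (iv4 F232509) (iv1 D86607) F61053 D40618 D87405 D183112 F151244 F151242
def n183113 : Q := act 3 n87405
theorem D183113 : act 3 n87405 = n183113 := rfl
theorem F284729 : act 6 n183113 = n87427 := d7_2 (iv6 F134160) D183113 (iv3 D87427)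
def n183114 : Q := act 5 n87405
theorem D183114 : act 5 n87405 = n183114 := rfl
def n183115 : Q := act 7 n87405
theorem D183115 : act 7 n87405 = n183115 := rfl
theorem F284730 : act 4 n183115 = n87406 := d11_1 D183115 (iv7 D87406) D87405
def n183116 : Q := act 6 n87406
theorem D183116 : act 6 n87406 = n183116 := rfl
theorem F284731 : act 3 n183116 = n179731 := d7_1 D183116 (iv6 D179731) F233142
theorem F284732 : act 7 n183116 = n87430 := d14_2 D87406 D183116 (iv6 D87430) (iv7 D40633) (iv6 F61731)
def n183117 : Q := act 4 n87407
theorem D183117 : act 4 n87407 = n183117 := rfl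
theorem F284733 : act 7 n183117 = n97090 := d11_2 F157244 D183117 F149790
theorem F284734 : act 3 n183117 = n96564 := d20_3 F70174 D87407 D183117 (iv1 D96564) (iv3 D45086) (iv4 F62909) F62912 (iv4 F34011) (iv3 F64244) F70176
theorem F284735 : act 0 n96536 = n183117 := d20_10 (iv4 D183117) (iv1 F147739) F147737 F144755 F205491 (iv3 F147235) (iv4 F149542) F205507 (iv4 D96537) D96536
def n183118 : Q := act 5 n87407
theorem D183118 : act 5 n87407 = n183118 := rfl
def n183119 : Q := act 0 n87409
theorem D183119 : act 0 n87409 = n183119 := rfl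
def n183120 : Q := act 1 n87409
theorem D183120 : act 1 n87409 = n183120 := rfl
def n183121 : Q := act 4 n87409
theorem D183121 : act 4 n87409 = n183121 := rfl
def n183122 : Q := act 6 n87409
theorem D183122 : act 6 n87409 = n183122 := rfl
theorem F284736 : act 3 n183122 = n87413 := d7_1 D183122 (iv6 D87413) (iv3 F134162)
def n183123 : Q := act 0 n87410
theorem D183123 : act 0 n87410 = n183123 := rfl
def n183124 : Q := act 1 n87410
theorem D183124 : act 1 n87410 = n183124 := rfl
def n183125 : Q := act 7 n87410
theorem D183125 : act 7 n87410 = n183125 := rfl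
theorem F284737 : act 3 n183125 = n87414 := d8_1 D183125 (iv7 D87414) (iv3 F134163)
theorem F284738 : act 5 n183125 = n104147 := d13_1 D183125 F159649 F134917
def n183126 : Q := act 3 n87411
theorem D183126 : act 3 n87411 = n183126 := rfl
theorem F284739 : act 5 n183126 = n88340 := d6_2 (iv5 F134165) D183126 F135284
theorem F284740 : act 7 n183126 = n102089 := d8_2 F134660 D183126 F157031
def n183127 : Q := act 6 n87411
theorem D183127 : act 6 n87411 = n183127 := rfl
theorem F284741 : act 5 n183127 = n88341 := d12_1 D183127 (iv6 D88341) (iv5 D41232) D41233 (iv5 F134165)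
def n183128 : Q := act 3 n87412
theorem D183128 : act 3 n87412 = n183128 := rfl
def n183129 : Q := act 6 n87412
theorem D183129 : act 6 n87412 = n183129 := rfl
theorem F284742 : act 4 n183129 = n87413 := d10_1 D183129 (iv6 D87413) D87412
def n183130 : Q := act 0 n87413
theorem D183130 : act 0 n87413 = n183130 := rfl
def n183131 : Q := act 1 n87413
theorem D183131 : act 1 n87413 = n183131 := rfl
def n183132 : Q := act 7 n87413
theorem D183132 : act 7 n87413 = n183132 := rfl
def n183133 : Q := act 3 n87415
theorem D183133 : act 3 n87415 = n183133 := rfl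
def n183134 : Q := act 6 n87415
theorem D183134 : act 6 n87415 = n183134 := rfl
theorem F284743 : act 4 n183134 = n87416 := d10_1 D183134 (iv6 D87416) D87415
def n183135 : Q := act 0 n87416
theorem D183135 : act 0 n87416 = n183135 := rfl
def n183136 : Q := act 1 n87416
theorem D183136 : act 1 n87416 = n183136 := rfl
def n183137 : Q := act 5 n87416
theorem D183137 : act 5 n87416 = n183137 := rfl
theorem F284744 : act 2 n183137 = n104243 := d2_1 D183137 F159841 F147750
theorem F284745 : act 3 n183137 = n102596 := d6_1 D183137 F157699 F152463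
theorem F284746 : act 6 n183137 = n87418 := d12_2 D87416 D183137 (iv5 D87418) (iv6 D40629) D40628
def n183138 : Q := act 7 n87416
theorem D183138 : act 7 n87416 = n183138 := rfl
def n183139 : Q := act 0 n87419
theorem D183139 : act 0 n87419 = n183139 := rfl
def n183140 : Q := act 1 n87419
theorem D183140 : act 1 n87419 = n183140 := rfl
def n183141 : Q := act 4 n87419
theorem D183141 : act 4 n87419 = n183141 := rfl
theorem F284747 : act 0 n89123 = n183141 := d20_7 (iv4 F134181) (iv1 F134183) F134180 F66931 (iv1 D41644) (iv3 F64258) D89123 (iv4 D183141) (iv3 D87419) (iv1 F69184)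
def n183142 : Q := act 6 n87419
theorem D183142 : act 6 n87419 = n183142 := rfl
theorem F284748 : act 3 n183142 = n87421 := d7_1 D183142 (iv6 D87421) D87419
def n183143 : Q := act 3 n87420
theorem D183143 : act 3 n87420 = n183143 := rfl
theorem F284749 : act 5 n183143 = n183133 := d6_2 (iv5 F134176) D183143 (iv3 D183133)
def n183144 : Q := act 6 n87420
theorem D183144 : act 6 n87420 = n183144 := rfl
theorem F284750 : act 4 n183144 = n87421 := d10_1 D183144 (iv6 D87421) D87420
def n183145 : Q := act 0 n87421
theorem D183145 : act 0 n87421 = n183145 := rfl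
def n183146 : Q := act 1 n87421
theorem D183146 : act 1 n87421 = n183146 := rfl
def n183147 : Q := act 5 n87421
theorem D183147 : act 5 n87421 = n183147 := rfl
def n183148 : Q := act 7 n87421
theorem D183148 : act 7 n87421 = n183148 := rfl
def n183149 : Q := act 3 n87423
theorem D183149 : act 3 n87423 = n183149 := rfl
theorem F284751 : act 5 n183149 = n183128 := d6_2 (iv5 F134178) D183149 (iv3 D183128)
def n183150 : Q := act 6 n87423
theorem D183150 : act 6 n87423 = n183150 := rfl
theorem F284752 : act 4 n183150 = n87424 := d10_1 D183150 (iv6 D87424) D87423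
def n183151 : Q := act 0 n87424
theorem D183151 : act 0 n87424 = n183151 := rfl
def n183152 : Q := act 1 n87424
theorem D183152 : act 1 n87424 = n183152 := rfl
def n183153 : Q := act 7 n87424
theorem D183153 : act 7 n87424 = n183153 := rfl
def n183154 : Q := act 3 n87425
theorem D183154 : act 3 n87425 = n183154 := rfl
theorem F284753 : act 5 n183154 = n94113 := d6_2 F134210 D183154 (iv3 D94113)
def n183155 : Q := act 6 n87425
theorem D183155 : act 6 n87425 = n183155 := rfl
def n183156 : Q := act 3 n87426
theorem D183156 : act 3 n87426 = n183156 := rfl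
def n183158 : Q := act 0 n87427
theorem D183158 : act 0 n87427 = n183158 := rfl
def n183159 : Q := act 1 n87427
theorem D183159 : act 1 n87427 = n183159 := rfl
def n183160 : Q := act 2 n87427
theorem D183160 : act 2 n87427 = n183160 := rfl
def n183161 : Q := act 5 n87427
theorem D183161 : act 5 n87427 = n183161 := rfl
theorem F284755 : act 3 n183161 = n87428 := d6_1 D183161 (iv5 D87428) D87427
theorem F284756 : act 7 n182041 = n183161 := d8_0 F284755 F134182 D182041
def n183162 : Q := act 7 n87427
theorem D183162 : act 7 n87427 = n183162 := rfl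
theorem F284757 : act 3 n183162 = n87429 := d8_1 D183162 (iv7 D87429) D87427
theorem F284758 : act 5 n183162 = n182041 := d13_1 D183162 F284756 (iv5 D183161)
def n183163 : Q := act 6 n87428
theorem D183163 : act 6 n87428 = n183163 := rfl
theorem F284759 : act 4 n183163 = n94098 := d10_1 D183163 (iv6 D94098) (iv4 F134181)
def n183164 : Q := act 6 n87429
theorem D183164 : act 6 n87429 = n183164 := rfl
theorem F284760 : act 2 n183164 = n183163 := d3_1 D183164 (iv6 D183163) (iv2 F134184)
theorem F284761 : act 4 n183164 = n87430 := d10_1 D183164 (iv6 D87430) (iv4 F134185)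
def n183165 : Q := act 0 n87430
theorem D183165 : act 0 n87430 = n183165 := rfl
def n183166 : Q := act 1 n87430
theorem D183166 : act 1 n87430 = n183166 := rfl
def n183167 : Q := act 4 n87431
theorem D183167 : act 4 n87431 = n183167 := rfl
def n183168 : Q := act 6 n87431
theorem D183168 : act 6 n87431 = n183168 := rfl
theorem F284762 : act 3 n183168 = n87434 := d7_1 D183168 (iv6 D87434) (iv3 F134188)
def n183169 : Q := act 0 n87432
theorem D183169 : act 0 n87432 = n183169 := rfl
def n183170 : Q := act 1 n87432
theorem D183170 : act 1 n87432 = n183170 := rfl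
theorem F284763 : act 1 n183170 = n100287 := d15_1 D183170 F154283 F136599
def n183171 : Q := act 7 n87432
theorem D183171 : act 7 n87432 = n183171 := rfl
theorem F284764 : act 2 n183171 = n100287 := d4_1 D183171 F154283 F136599
theorem F284765 : act 3 n183171 = n87436 := d8_1 D183171 (iv7 D87436) (iv3 F134189)
theorem F284767 : act 5 n183171 = n99537 := d13_1 D183171 F157325 F135058
theorem F284768 : act 1 n100287 = n183169 := d15_0 (iv0 D183169) D183171 F284764
def n183172 : Q := act 3 n87433
theorem D183172 : act 3 n87433 = n183172 := rfl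
theorem F284769 : act 5 n183172 = n183156 := d6_2 (iv5 F134192) D183172 (iv3 D183156)
def n183173 : Q := act 6 n87433
theorem D183173 : act 6 n87433 = n183173 := rfl
theorem F284770 : act 2 n183173 = n94081 := d3_1 D183173 (iv6 D94081) (iv2 F134191)
theorem F284771 : act 4 n183173 = n87434 := d10_1 D183173 (iv6 D87434) D87433
def n183174 : Q := act 0 n87434
theorem D183174 : act 0 n87434 = n183174 := rfl
def n183175 : Q := act 1 n87434
theorem D183175 : act 1 n87434 = n183175 := rfl
theorem F284772 : act 1 n183175 = n94085 := d15_1 D183175 (iv7 D94085) (iv2 F134193)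
def n183176 : Q := act 7 n87434
theorem D183176 : act 7 n87434 = n183176 := rfl
theorem F284773 : act 2 n183176 = n94085 := d4_1 D183176 (iv7 D94085) (iv2 F134193)
theorem F284774 : act 1 n94085 = n183174 := d15_0 (iv0 D183174) D183176 F284773
theorem F284775 : act 1 n94083 = n183176 := d15_1 D94083 (iv7 D183176) F134193
theorem F284776 : act 1 n183176 = n94082 := d15_0 (iv0 D94082) D94085 (iv2 F284773)
def n183177 : Q := act 3 n87435
theorem D183177 : act 3 n87435 = n183177 := rfl
theorem F284778 : act 5 n183177 = n93434 := d6_2 (iv5 F134198) D183177 (iv3 D93434)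
theorem F284779 : act 6 n183177 = n88249 := d7_2 F134196 D183177 F135172
theorem F284780 : act 7 n183177 = n94086 := d8_2 (iv7 F134195) D183177 (iv3 D94086)
def n183178 : Q := act 0 n87437
theorem D183178 : act 0 n87437 = n183178 := rfl
theorem F284781 : act 1 n99094 = n183178 := d15_0 (iv0 D183178) F134792 (iv2 F152621)
def n183179 : Q := act 1 n87437
theorem D183179 : act 1 n87437 = n183179 := rfl
theorem F284782 : act 1 n183179 = n99094 := d15_1 D183179 (iv7 F157463) F157460
def n183180 : Q := act 5 n87437
theorem D183180 : act 5 n87437 = n183180 := rfl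
theorem F284783 : act 2 n183180 = n89139 := d2_1 D183180 F157464 F157460
theorem F284784 : act 3 n183180 = n87438 := d6_1 D183180 (iv5 D87438) D87437
theorem F284785 : act 7 n183180 = n98102 := d13_2 (iv7 F134792) D183180 F151246
theorem F284786 : act 1 n99068 = n183180 := d15_1 (iv0 F270983) F284785 (iv2 F270980)
theorem E24951 : n183179 = n87681 := ((c21_10 D183180 (iv1 F284786) (iv5 D99068) (iv6 F157315) F157596 D89081 (iv5 F157123) (iv1 F160580) (iv5 D87680) D87681 (iv1 D183179))).symm
theorem F284787 : act 0 n87681 = n87437 := (sb E24951 (iv1 D183179))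
theorem F284788 : act 1 n87681 = n99094 := (sb E24951 F284782)
theorem F284789 : act 7 n183178 = n97963 := d15_2 F284788 F284781 (iv2 F160581)
theorem F284790 : act 1 n183180 = n88801 := d15_0 (iv0 F270984) F270982 (iv2 F284783)
theorem E24952 : n100644 = n99579 := (c21_5 D88801 (iv1 F284790) (iv5 D183180) F157456 (iv1 F157457) (iv6 D99579) D99578 F157300 F74591 (iv6 D46342) F157260)
theorem F284791 : act 0 n99579 = n46941 := (sb E24952 (iv1 D100644))
theorem F284792 : act 1 n99579 = n102522 := (sb E24952 F157457)
theorem E24953 : n100643 = n99650 := (c15_2 F284792 F157454 (iv7 D99650) (iv2 F153430))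
theorem F284793 : act 0 n99650 = n102522 := (sb E24953 (iv1 F157454))
theorem F284794 : act 1 n99650 = n46941 := (sb E24953 (iv0 D100643))
def n183181 : Q := act 6 n87438
theorem D183181 : act 6 n87438 = n183181 := rfl
theorem F284795 : act 2 n183181 = n94092 := d3_1 D183181 (iv6 D94092) (iv2 F134205)
theorem F284796 : act 4 n183181 = n183155 := d10_1 D183181 (iv6 D183155) (iv4 F134209)
def n183186 : Q := act 5 n87441
theorem D183186 : act 5 n87441 = n183186 := rfl
theorem F284806 : act 2 n183186 = n98842 := d2_1 D183186 (iv5 F152388) (iv2 F152123)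
theorem F284808 : act 4 n98839 = n183186 := d1_0 F284806 (iv4 D98842) (iv2 F152382)
def n183191 : Q := act 4 n87443
theorem D183191 : act 4 n87443 = n183191 := rfl
theorem F284815 : act 3 n183191 = n172582 := d5_1 D183191 F270756 F134432 F61850 (iv3 F134221)
theorem F284817 : act 5 n172580 = n183191 := d16_1 (iv4 F270753) (iv4 D183191) (iv5 D87443) F61765 D82709 D172748 (iv5 F271019) F270765 (iv2 F270764)
def n183198 : Q := act 7 n87446
theorem D183198 : act 7 n87446 = n183198 := rfl
theorem F284828 : act 6 n183198 = n150540 := d14_1 D183198 F237050 (iv6 D81573) (iv7 F61780) D87446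
def n183201 : Q := act 5 n87447
theorem D183201 : act 5 n87447 = n183201 := rfl
theorem F284832 : act 6 n183201 = n87448 := d12_2 D87447 D183201 (iv5 D87448) (iv6 D40680) D40679
def n183202 : Q := act 7 n87447
theorem D183202 : act 7 n87447 = n183202 := rfl
theorem F284834 : act 4 n183202 = n95331 := d11_1 D183202 (iv7 D95331) (iv4 F134233)
theorem F284835 : act 6 n183202 = n169837 := d14_1 D183202 (iv7 D169837) (iv6 D81444) (iv7 F61783) D87447
def n183211 : Q := act 5 n87452
theorem D183211 : act 5 n87452 = n183211 := rfl
theorem F284865 : act 3 n183211 = n87453 := d6_1 D183211 (iv5 D87453) D87452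
def n183212 : Q := act 6 n87453
theorem D183212 : act 6 n87453 = n183212 := rfl
theorem F284867 : act 4 n183212 = n97565 := d10_1 D183212 (iv6 D97565) (iv4 F134251)
def n183213 : Q := act 6 n87457
theorem D183213 : act 6 n87457 = n183213 := rfl
theorem F284868 : act 3 n183213 = n131396 := d7_1 D183213 F210605 (iv3 F134269)
def n183214 : Q := act 0 n87458
theorem D183214 : act 0 n87458 = n183214 := rfl
def n183215 : Q := act 1 n87458
theorem D183215 : act 1 n87458 = n183215 := rfl
def n183216 : Q := act 5 n87458
theorem D183216 : act 5 n87458 = n183216 := rfl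
def n183217 : Q := act 7 n87458
theorem D183217 : act 7 n87458 = n183217 := rfl
def n183218 : Q := act 6 n87459
theorem D183218 : act 6 n87459 = n183218 := rfl
theorem F284869 : act 2 n183218 = n149263 := d3_1 D183218 (iv6 D149263) (iv2 F134272)
theorem F284870 : act 4 n183218 = n165197 := d10_1 D183218 (iv6 D165197) (iv4 F134273)
def n183219 : Q := act 0 n87460
theorem D183219 : act 0 n87460 = n183219 := rfl
def n183220 : Q := act 1 n87460
theorem D183220 : act 1 n87460 = n183220 := rfl
def n183221 : Q := act 5 n87460
theorem D183221 : act 5 n87460 = n183221 := rfl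
def n183222 : Q := act 7 n87460
theorem D183222 : act 7 n87460 = n183222 := rfl
def n183223 : Q := act 6 n87461
theorem D183223 : act 6 n87461 = n183223 := rfl
theorem F284871 : act 2 n183223 = n87465 := d3_1 D183223 (iv6 D87465) (iv2 F134275)
theorem F284872 : act 3 n183223 = n95456 := d7_1 D183223 (iv6 D95456) (iv3 F134276)
def n183224 : Q := act 5 n87462
theorem D183224 : act 5 n87462 = n183224 := rfl
theorem F284873 : act 2 n183224 = n87468 := d2_1 D183224 (iv5 D87468) (iv2 F134277)
theorem F284874 : act 3 n183224 = n95643 := d6_1 D183224 (iv5 D95643) (iv3 F134278)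
def n183225 : Q := act 6 n87463
theorem D183225 : act 6 n87463 = n183225 := rfl
def n183226 : Q := act 6 n87464
theorem D183226 : act 6 n87464 = n183226 := rfl
theorem F284875 : act 4 n183226 = n87465 := d10_1 D183226 (iv6 D87465) D87464
def n183227 : Q := act 0 n87465
theorem D183227 : act 0 n87465 = n183227 := rfl
def n183228 : Q := act 1 n87465
theorem D183228 : act 1 n87465 = n183228 := rfl
def n183229 : Q := act 5 n87465
theorem D183229 : act 5 n87465 = n183229 := rfl
theorem F284876 : act 3 n183229 = n87473 := d6_1 D183229 (iv5 D87473) (iv3 F134283)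
theorem F284877 : act 6 n183229 = n87468 := d12_2 D87465 D183229 (iv5 D87468) (iv6 D40694) D40693
def n183230 : Q := act 7 n87465
theorem D183230 : act 7 n87465 = n183230 := rfl
theorem F284878 : act 3 n183230 = n87474 := d8_1 D183230 (iv7 D87474) (iv3 F134283)
def n183231 : Q := act 4 n87466
theorem D183231 : act 4 n87466 = n183231 := rfl
theorem F284879 : act 3 n183231 = n96135 := d5_1 D183231 (iv4 F147785) (iv3 D95503) D95504 (iv3 F147135)
theorem F284880 : act 7 n183231 = n172223 := d11_2 (iv7 F270440) D183231 F270436
theorem F284881 : act 0 n183231 = n95959 := d20_1 D183231 (iv4 D95959) F144587 (iv1 D45465) (iv3 D21691) F62902 (iv1 D19209) (iv4 F30854) (iv3 F61809) D87466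
theorem F284882 : act 0 n95731 = n183231 := d20_10 (iv4 D183231) (iv1 F150147) F150144 (iv3 F145977) (iv1 F145981) (iv3 F151855) (iv4 F151856) (iv1 F157616) F151806 (iv3 F147424)
def n183232 : Q := act 5 n87466
theorem D183232 : act 5 n87466 = n183232 := rfl
def n183233 : Q := act 6 n87466
theorem D183233 : act 6 n87466 = n183233 := rfl
def n183234 : Q := act 5 n87467
theorem D183234 : act 5 n87467 = n183234 := rfl
def n183235 : Q := act 6 n87467
theorem D183235 : act 6 n87467 = n183235 := rfl
def n183236 : Q := act 0 n87468
theorem D183236 : act 0 n87468 = n183236 := rfl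
def n183237 : Q := act 1 n87468
theorem D183237 : act 1 n87468 = n183237 := rfl
def n183238 : Q := act 4 n87468
theorem D183238 : act 4 n87468 = n183238 := rfl
def n183239 : Q := act 0 n87469
theorem D183239 : act 0 n87469 = n183239 := rfl
theorem F284883 : act 5 n183239 = n95238 := d17_1 D183239 (iv1 F146789) (iv5 F235194) F235220 (iv5 F236860) (iv0 F249266) F249264 F235314 F235312
theorem F284884 : act 4 n183239 = n160624 := d18_1 D183239 (iv1 F253730) F239647 (iv5 F185453) D150436 (iv0 F236850) F235325 (iv0 D95228) (iv5 F134285)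
theorem F284885 : act 3 n183239 = n97231 := d20_5 (iv4 F29107) (iv1 F30853) D40695 D87469 D183239 (iv4 D97231) (iv1 D45432) F34135 (iv3 D21320) (iv1 F29105)
theorem F284887 : act 1 n149487 = n183239 := d15_0 (iv0 D183239) F134286 (iv2 F235109)
def n183240 : Q := act 6 n87469
theorem D183240 : act 6 n87469 = n183240 := rfl
theorem F284889 : act 3 n183240 = n87470 := d7_1 D183240 (iv6 D87470) D87469
def n183241 : Q := act 0 n87470
theorem D183241 : act 0 n87470 = n183241 := rfl
def n183242 : Q := act 1 n87470
theorem D183242 : act 1 n87470 = n183242 := rfl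
def n183243 : Q := act 5 n87470
theorem D183243 : act 5 n87470 = n183243 := rfl
def n183244 : Q := act 7 n87470
theorem D183244 : act 7 n87470 = n183244 := rfl
theorem F284893 : act 2 n183244 = n169837 := d4_1 D183244 (iv7 D169837) (iv2 F134287)
theorem F284894 : act 4 n183244 = n87474 := d11_1 D183244 (iv7 D87474) (iv4 F134288)
theorem F284895 : act 6 n183244 = n169833 := d14_1 D183244 (iv7 D169833) (iv6 D81443) (iv7 F61813) D87470
theorem F284896 : act 1 n169837 = n183241 := d15_0 (iv0 D183241) D183244 F284893
theorem F284897 : act 1 n169835 = n183244 := d15_1 D169835 (iv7 D183244) F134287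
theorem F284898 : act 1 n183244 = n169834 := d15_0 (iv0 D169834) D169837 (iv2 F284893)
def n183255 : Q := act 0 n87473
theorem D183255 : act 0 n87473 = n183255 := rfl
def n183256 : Q := act 1 n87473
theorem D183256 : act 1 n87473 = n183256 := rfl
def n183257 : Q := act 4 n87473
theorem D183257 : act 4 n87473 = n183257 := rfl
theorem F284901 : act 6 n183257 = n87476 := d10_2 (iv6 F134289) D183257 (iv4 D87476)
def n183258 : Q := act 7 n87473
theorem D183258 : act 7 n87473 = n183258 := rfl
theorem F284902 : act 5 n183258 = n87474 := d13_1 D183258 (iv7 D87474) D87473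
def n183259 : Q := act 3 n87475
theorem D183259 : act 3 n87475 = n183259 := rfl
theorem F284903 : act 5 n183259 = n104723 := d6_2 (iv5 F134290) D183259 F160424
theorem F284904 : act 0 n95559 = n183259 := d20_4 D95539 (iv1 F147233) (iv4 D95560) (iv3 F147231) (iv3 D183259) (iv4 F148753) (iv1 F148754) F71725 F34146 (iv1 F70161)
def n183261 : Q := act 3 n87476
theorem D183261 : act 3 n87476 = n183261 := rfl
def n183262 : Q := act 5 n87476
theorem D183262 : act 5 n87476 = n183262 := rfl
def n183271 : Q := act 4 n87484
theorem D183271 : act 4 n87484 = n183271 := rfl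
theorem F284929 : act 5 n183271 = n97371 := d16_3 D40713 D87484 D183271 F150112 (iv5 D96581) F71007 (iv5 F134226) (iv7 D87445) F61770
def n183292 : Q := act 6 n87493
theorem D183292 : act 6 n87493 = n183292 := rfl
theorem F284947 : act 3 n183292 = n87494 := d7_1 D183292 (iv6 D87494) D87493
theorem F284948 : act 4 n183292 = n171014 := d10_1 D183292 (iv6 D171014) (iv4 F134358)
def n183293 : Q := act 0 n87494
theorem D183293 : act 0 n87494 = n183293 := rfl
def n183294 : Q := act 1 n87494
theorem D183294 : act 1 n87494 = n183294 := rfl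
def n183295 : Q := act 5 n87494
theorem D183295 : act 5 n87494 = n183295 := rfl
theorem F284949 : act 6 n183295 = n127963 := d12_2 D87494 D183295 (iv5 D127963) (iv6 D60119) (iv5 F61832)
def n183296 : Q := act 7 n87494
theorem D183296 : act 7 n87494 = n183296 := rfl
def n183303 : Q := act 5 n87496
theorem D183303 : act 5 n87496 = n183303 := rfl
theorem F284953 : act 6 n183303 = n118681 := d12_2 D87496 D183303 (iv5 D118681) (iv6 D54644) (iv5 F61836)
def n183304 : Q := act 7 n87496
theorem D183304 : act 7 n87496 = n183304 := rfl
theorem F284954 : act 2 n183304 = n87500 := d4_1 D183304 (iv7 D87500) (iv2 F134361)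
theorem F284956 : act 6 n183304 = n151414 := d14_1 D183304 (iv7 D151414) (iv6 D71370) (iv7 F61837) D87496
def n183322 : Q := act 6 n87502
theorem D183322 : act 6 n87502 = n183322 := rfl
theorem F284972 : act 5 n183322 = n166038 := d12_1 D183322 (iv6 D166038) (iv5 D79715) D79716 F134369
def n183342 : Q := act 1 n87514
theorem D183342 : act 1 n87514 = n183342 := rfl
theorem F285026 : act 7 n183342 = n151793 := d15_2 (iv0 F233998) D183342 F238715
theorem F285028 : act 3 n151797 = n183342 := d8_3 F285026 F238716 D151797
theorem F285029 : act 6 n180855 = n183342 := d14_5 F285026 (iv6 D151793) (iv7 F123331) D167178 (iv7 F281572)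
def n183373 : Q := act 5 n87533
theorem D183373 : act 5 n87533 = n183373 := rfl
theorem F285079 : act 2 n183373 = n87534 := d2_1 D183373 (iv5 D87534) D87533
theorem F285081 : act 4 n172586 = n183373 := d1_0 F285079 (iv4 F270756) (iv2 F270774)
def n183380 : Q := act 6 n87536
theorem D183380 : act 6 n87536 = n183380 := rfl
theorem F285087 : act 2 n183380 = n100062 := d3_1 D183380 (iv6 D100062) (iv2 F134435)
theorem F285088 : act 3 n183380 = n167640 := d7_1 D183380 (iv6 D167640) (iv3 F134436)
theorem F285089 : act 4 n183380 = n87537 := d10_1 D183380 (iv6 D87537) D87536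
def n183382 : Q := act 1 n87537
theorem D183382 : act 1 n87537 = n183382 := rfl
theorem F285090 : act 1 n183382 = n100066 := d15_1 D183382 (iv7 D100066) (iv2 F134437)
def n183383 : Q := act 5 n87537
theorem D183383 : act 5 n87537 = n183383 := rfl
theorem F285091 : act 2 n183383 = n100065 := d2_1 D183383 (iv5 D100065) (iv2 F134437)
theorem F285092 : act 6 n183383 = n87540 := d12_2 D87537 D183383 (iv5 D87540) (iv6 D40745) D40744
def n183384 : Q := act 7 n87537
theorem D183384 : act 7 n87537 = n183384 := rfl
theorem F285093 : act 2 n183384 = n100066 := d4_1 D183384 (iv7 D100066) (iv2 F134437)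
theorem F285095 : act 1 n100064 = n183384 := d15_1 D100064 (iv7 D183384) F134437
theorem F285096 : act 1 n183384 = n100063 := d15_0 (iv0 D100063) D100066 (iv2 F285093)
def n183385 : Q := act 5 n87538
theorem D183385 : act 5 n87538 = n183385 := rfl
theorem F285097 : act 0 n183385 = n102536 := d21_1 D183385 (iv5 D102536) F74788 F73377 (iv6 D23343) D23342 (iv1 F61853) (iv5 D40744) D40745 D87538
def n183386 : Q := act 0 n87540
theorem D183386 : act 0 n87540 = n183386 := rfl
def n183387 : Q := act 4 n87540
theorem D183387 : act 4 n87540 = n183387 := rfl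
def n183388 : Q := act 7 n87540
theorem D183388 : act 7 n87540 = n183388 := rfl
theorem F285098 : act 2 n183388 = n102517 := d4_1 D183388 F157445 F136481
theorem F285099 : act 5 n183388 = n87541 := d13_1 D183388 (iv7 D87541) D87540
theorem F285100 : act 1 n102517 = n183386 := d15_0 (iv0 D183386) D183388 F285098
def n183389 : Q := act 5 n87542
theorem D183389 : act 5 n87542 = n183389 := rfl
theorem F285101 : act 2 n183389 = n87548 := d2_1 D183389 (iv5 D87548) (iv2 F134438)
theorem F285102 : act 3 n183389 = n118084 := d6_1 D183389 (iv5 D118084) (iv3 F134439)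
theorem F285103 : act 6 n183389 = n87543 := d12_2 D87542 D183389 (iv5 D87543) (iv6 D40747) D40746
def n183390 : Q := act 4 n87543
theorem D183390 : act 4 n87543 = n183390 := rfl
theorem F285104 : act 2 n183390 = n87554 := d1_1 D183390 (iv4 D87554) (iv2 F134441)
def n183391 : Q := act 0 n87544
theorem D183391 : act 0 n87544 = n183391 := rfl
def n183392 : Q := act 1 n87544
theorem D183392 : act 1 n87544 = n183392 := rfl
theorem F285105 : act 1 n183392 = n175564 := d15_1 D183392 F274895 F136515
theorem F285106 : act 3 n183392 = n88119 := d20_5 D47347 F272643 (iv4 F154538) D175564 (iv1 F285105) (iv4 D88119) (iv1 D41142) F30990 (iv3 F17287) D22749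
theorem F285107 : act 0 n170726 = n88135 := d20_7 (iv4 F132861) (iv1 F132863) D88119 (iv3 F285106) (iv1 D183392) (iv3 F151870) (iv4 F268249) (iv4 D88135) (iv3 D41146) (iv1 F61952)
def n183393 : Q := act 5 n87544
theorem D183393 : act 5 n87544 = n183393 := rfl
theorem F285108 : act 6 n183393 = n87876 := d12_2 D87544 D183393 (iv5 D87876) (iv6 D40999) (iv5 F64075)
def n183394 : Q := act 7 n87544
theorem D183394 : act 7 n87544 = n183394 := rfl
theorem F285109 : act 2 n183394 = n175564 := d4_1 D183394 F274895 F136515
theorem F285110 : act 1 n175564 = n183391 := d15_0 (iv0 D183391) D183394 F285109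
def n183395 : Q := act 0 n87545
theorem D183395 : act 0 n87545 = n183395 := rfl
theorem F285111 : act 2 n180829 = n183395 := d15_3 (iv0 D183395) (iv0 F233189) (iv7 F281517)
theorem F285113 : act 7 n183395 = n181158 := d4_2 (iv7 F281517) F285111 F282180
theorem F285114 : act 1 n181160 = n183395 := d15_1 F282184 F285113 F282180
def n183396 : Q := act 5 n87545
theorem D183396 : act 5 n87545 = n183396 := rfl
def n183397 : Q := act 7 n87545
theorem D183397 : act 7 n87545 = n183397 := rfl
theorem F285118 : act 4 n183397 = n87549 := d11_1 D183397 (iv7 D87549) (iv4 F134443)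
theorem F285119 : act 6 n183397 = n181060 := d14_1 D183397 F281927 (iv6 D86514) (iv7 F61862) D87545
theorem F285120 : act 1 n181158 = n183397 := d15_1 D181158 (iv7 D183397) F134442
theorem F285121 : act 1 n183397 = n180829 := d15_1 F285120 F281517 (iv2 F282180)
def n183398 : Q := act 4 n87546
theorem D183398 : act 4 n87546 = n183398 := rfl
def n183399 : Q := act 5 n87546
theorem D183399 : act 5 n87546 = n183399 := rfl
def n183400 : Q := act 6 n87546
theorem D183400 : act 6 n87546 = n183400 := rfl
def n183401 : Q := act 0 n87548
theorem D183401 : act 0 n87548 = n183401 := rfl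
def n183402 : Q := act 4 n87548
theorem D183402 : act 4 n87548 = n183402 := rfl
theorem F285122 : act 6 n183402 = n87554 := d10_2 (iv6 F134445) D183402 (iv4 D87554)
def n183403 : Q := act 7 n87548
theorem D183403 : act 7 n87548 = n183403 := rfl
theorem F285123 : act 3 n183403 = n87569 := d8_1 D183403 (iv7 D87569) (iv3 F134444)
theorem F285124 : act 5 n183403 = n87549 := d13_1 D183403 (iv7 D87549) D87548
def n183404 : Q := act 4 n87550
theorem D183404 : act 4 n87550 = n183404 := rfl
def n183405 : Q := act 6 n87550
theorem D183405 : act 6 n87550 = n183405 := rfl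
def n183406 : Q := act 5 n87551
theorem D183406 : act 5 n87551 = n183406 := rfl
theorem F285125 : act 2 n183406 = n99383 := d2_1 D183406 F153051 F136735
theorem F285126 : act 3 n183406 = n100574 := d6_1 D183406 F154644 F151969
theorem F285127 : act 7 n183406 = n100561 := d13_2 F283714 D183406 (iv5 F283713)
theorem F285128 : act 0 n183406 = n99945 := d21_7 (iv5 F34499) F34500 (iv5 D19226) D19227 D40751 D87551 D183406 (iv5 D99945) (iv6 D46680) (iv1 D22385)
theorem F285129 : act 0 n91343 = n183406 := d21_7 D98586 (iv1 F151977) D98617 (iv6 F152012) F73298 (iv6 F66958) D91343 (iv5 D183406) (iv6 D87551) (iv1 F72654)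
def n183407 : Q := act 4 n87552
theorem D183407 : act 4 n87552 = n183407 := rfl
def n183408 : Q := act 6 n87552
theorem D183408 : act 6 n87552 = n183408 := rfl
def n183409 : Q := act 0 n87554
theorem D183409 : act 0 n87554 = n183409 := rfl
def n183410 : Q := act 1 n87554
theorem D183410 : act 1 n87554 = n183410 := rfl
def n183411 : Q := act 3 n87554
theorem D183411 : act 3 n87554 = n183411 := rfl
theorem F285130 : act 4 n183411 = n87592 := d5_2 D87554 D183411 (iv3 D87592) (iv4 D40771) (iv3 F61866)
def n183412 : Q := act 5 n87554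
theorem D183412 : act 5 n87554 = n183412 := rfl
def n183415 : Q := act 0 n87556
theorem D183415 : act 0 n87556 = n183415 := rfl
theorem F285133 : act 1 n87561 = n183415 := d15_0 (iv0 D183415) (iv7 F134449) (iv2 F134450)
def n183417 : Q := act 3 n87556
theorem D183417 : act 3 n87556 = n183417 := rfl
theorem F285135 : act 7 n183417 = n87562 := d8_2 F134449 D183417 (iv3 D87562)
def n183419 : Q := act 5 n87556
theorem D183419 : act 5 n87556 = n183419 := rfl
theorem F285138 : act 2 n183419 = n87559 := d2_1 D183419 (iv5 D87559) D87556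
def n183420 : Q := act 6 n87556
theorem D183420 : act 6 n87556 = n183420 := rfl
theorem F285140 : act 2 n183420 = n87560 := d3_1 D183420 (iv6 D87560) D87556
def n183421 : Q := act 2 n87557
theorem D183421 : act 2 n87557 = n183421 := rfl
theorem F285141 : act 7 n124337 = n183421 := d15_2 F233188 D124337 (iv2 D183421)
def n183422 : Q := act 4 n87557
theorem D183422 : act 4 n87557 = n183422 := rfl
def n183423 : Q := act 5 n87557
theorem D183423 : act 5 n87557 = n183423 := rfl
theorem F285142 : act 3 n183423 = n87559 := d6_1 D183423 (iv5 D87559) D87557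
def n183424 : Q := act 6 n87557
theorem D183424 : act 6 n87557 = n183424 := rfl
def n183425 : Q := act 7 n87557
theorem D183425 : act 7 n87557 = n183425 := rfl
theorem F285144 : act 2 n183425 = n124337 := d4_1 D183425 F285141 (iv2 D183421)
theorem F285145 : act 3 n183425 = n87561 := d8_1 D183425 (iv7 D87561) D87557
def n183430 : Q := act 0 n87559
theorem D183430 : act 0 n87559 = n183430 := rfl
def n183431 : Q := act 1 n87559
theorem D183431 : act 1 n87559 = n183431 := rfl
def n183432 : Q := act 4 n87559
theorem D183432 : act 4 n87559 = n183432 := rfl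
def n183433 : Q := act 6 n87559
theorem D183433 : act 6 n87559 = n183433 := rfl
def n183434 : Q := act 7 n87559
theorem D183434 : act 7 n87559 = n183434 := rfl
theorem F285155 : act 5 n183434 = n87561 := d13_1 D183434 (iv7 D87561) D87559
def n183439 : Q := act 2 n87562
theorem D183439 : act 2 n87562 = n183439 := rfl
theorem F285158 : act 3 n183439 = n124337 := d0_2 D87562 D183439 (iv2 F285144) F285145 F134450
theorem F285159 : act 4 n101468 = n183439 := d5_0 F285158 (iv4 F241669) (iv3 D153811) D153812 F241670
theorem F285160 : act 2 n173881 = n101468 := d1_3 F285159 (iv2 D183439) (iv4 F272529)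
theorem F285161 : act 7 n101467 = n173881 := d15_2 F188542 F188543 F285160
theorem F285162 : act 7 n178422 = n101468 := d15_2 (iv0 F272530) F278013 (iv2 F285160)
theorem F285163 : act 2 n101467 = n178422 := d4_3 F285162 (iv2 F285160) (iv7 F285161)
theorem E24956 : n183417 = n181985 := (c11_3 F285161 F272529 (iv7 F285135) F283305)
theorem E24957 : n87556 = n86920 := ((((iv3 D181985)).symm.trans (sb E24956 (iv3 D183417)))).symm
theorem E24958 : n183415 = n40758 := ((((iv1 F133382)).symm.trans (sb E24957 D183415))).symm
theorem E24960 : n181984 = n40755 := ((D181984).symm.trans (sb E24957 (iv2 D87556)))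
theorem E24962 : n183419 = n181986 := (((D181986).symm.trans (sb E24957 D183419))).symm
theorem E24963 : n183420 = n181987 := (((D181987).symm.trans (sb E24957 D183420))).symm
theorem E24965 : n87561 = n86921 := ((((iv1 F133375)).symm.trans (sb E24958 (iv1 F285133)))).symm
theorem F285167 : act 2 n40755 = n86920 := (sb E24960 (iv2 D181984))
theorem F285168 : act 2 n181986 = n87559 := (sb E24962 F285138)
theorem F285170 : act 2 n181987 = n87560 := (sb E24963 F285140)
theorem E24968 : n183425 = n89031 := (((F283302).symm.trans (sb E24965 (iv3 F285145)))).symm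
theorem E24970 : n183434 = n181989 := (((D181989).symm.trans (sb E24965 (iv5 F285155)))).symm
theorem F285173 : act 7 n86921 = n40755 := (sb E24965 (iv7 D87561))
theorem F285177 : act 7 n89031 = n87557 := (sb E24968 (iv7 D183425))
theorem F285181 : act 7 n181989 = n87559 := (sb E24970 (iv7 D183434))
theorem E24972 : n183421 = n89030 := (c15_4 (iv0 D89030) D89031 F285177 D183421)
theorem F285185 : act 2 n89030 = n87557 := (sb E24972 (iv2 D183421))
theorem F285186 : act 7 n89030 = n124337 := (sb E24972 (iv7 F285141))
theorem F285190 : act 2 n104136 = n87901 := d2_3 (iv5 F283308) F285170 F159616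
theorem F285191 : act 7 n87900 = n104136 := d15_2 F159622 F159623 F285190
theorem F285192 : act 7 n104135 = n87901 := d15_2 F159615 F159621 (iv2 F285190)
theorem F285193 : act 2 n87900 = n104135 := d4_3 F285192 (iv2 F285190) (iv7 F285191)
def n183448 : Q := act 5 n87565
theorem D183448 : act 5 n87565 = n183448 := rfl
theorem F285205 : act 0 n182950 = n183448 := d21_1 D182950 (iv5 D183448) (iv6 D87565) (iv1 D40756) (iv6 D19228) (iv5 D9038) (iv1 F14072) D19173 D40599 D87346
def n183450 : Q := act 2 n87566
theorem D183450 : act 2 n87566 = n183450 := rfl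
theorem F285207 : act 7 n87567 = n183450 := d15_2 (iv0 D87566) D87567 (iv2 D183450)
def n183451 : Q := act 3 n87566
theorem D183451 : act 3 n87566 = n183451 := rfl
def n183452 : Q := act 4 n87566
theorem D183452 : act 4 n87566 = n183452 := rfl
def n183453 : Q := act 5 n87566
theorem D183453 : act 5 n87566 = n183453 := rfl
def n183454 : Q := act 6 n87566
theorem D183454 : act 6 n87566 = n183454 := rfl
def n183455 : Q := act 7 n87566
theorem D183455 : act 7 n87566 = n183455 := rfl
theorem F285208 : act 2 n183455 = n87567 := d4_1 D183455 F285207 (iv2 D183450)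
def n183456 : Q := act 3 n87567
theorem D183456 : act 3 n87567 = n183456 := rfl
def n183457 : Q := act 4 n87567
theorem D183457 : act 4 n87567 = n183457 := rfl
theorem F285209 : act 0 n183457 = n101274 := d18_2 (iv1 F283320) D183457 (iv4 D101274) (iv5 D47156) (iv4 F72265) (iv0 F233190) (iv4 D87563) F133383 (iv5 F283318)
def n183458 : Q := act 6 n87567
theorem D183458 : act 6 n87567 = n183458 := rfl
def n183459 : Q := act 0 n87568
theorem D183459 : act 0 n87568 = n183459 := rfl
theorem F285210 : act 4 n183459 = n88100 := d20_8 (iv4 F156343) (iv1 F184677) (iv4 D98556) D98555 F233166 F134444 D87568 D183459 (iv3 F156045) (iv1 F136887)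
def n183460 : Q := act 1 n87568
theorem D183460 : act 1 n87568 = n183460 := rfl
theorem F285211 : act 4 n183460 = n88101 := d18_7 (iv1 F74433) (iv4 F232369) (iv1 D86603) F61051 D40757 D87568 D183460 F156041 F156039
def n183461 : Q := act 3 n87568
theorem D183461 : act 3 n87568 = n183461 := rfl
theorem F285212 : act 6 n183461 = n87592 := d7_2 (iv6 F134451) D183461 (iv3 D87592)
def n183462 : Q := act 5 n87568
theorem D183462 : act 5 n87568 = n183462 := rfl
def n183463 : Q := act 7 n87568
theorem D183463 : act 7 n87568 = n183463 := rfl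
theorem F285213 : act 4 n183463 = n87569 := d11_1 D183463 (iv7 D87569) D87568
def n183465 : Q := act 1 n87571
theorem D183465 : act 1 n87571 = n183465 := rfl
theorem F285215 : act 1 n183465 = n102609 := d15_1 D183465 F157819 F136709
theorem F285216 : act 7 n183465 = n102589 := d15_2 (iv0 F135033) D183465 F157685
theorem F285217 : act 2 n102611 = n183465 := d4_3 F285216 F157685 D102611
theorem F285218 : act 5 n102590 = n183465 := d13_3 F285216 (iv5 D102589) D102590
theorem F285219 : act 5 n94291 = n92845 := d17_7 (iv1 F157691) F285218 (iv1 D183465) (iv5 D87571) (iv4 F62855) D44079 D94291 F157707 (iv4 D102607)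
def n183466 : Q := act 4 n87571
theorem D183466 : act 4 n87571 = n183466 := rfl
def n183467 : Q := act 6 n87571
theorem D183467 : act 6 n87571 = n183467 := rfl
theorem F285220 : act 3 n183467 = n87576 := d7_1 D183467 (iv6 D87576) (iv3 F134453)
theorem F285221 : act 5 n183467 = n100453 := d12_1 D183467 (iv6 D100453) F135031 (iv6 D87572) D87571
def n183468 : Q := act 1 n87572
theorem D183468 : act 1 n87572 = n183468 := rfl
theorem F285222 : act 1 n183468 = n100450 := d15_1 D183468 F154510 F136710
theorem F285223 : act 2 n96158 = n183468 := d15_3 F285222 F283725 (iv7 F147835)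
def n183469 : Q := act 3 n87573
theorem D183469 : act 3 n87573 = n183469 := rfl
theorem F285224 : act 5 n183469 = n93386 := d6_2 (iv5 F134456) D183469 (iv3 D93386)
def n183475 : Q := act 0 n87576
theorem D183475 : act 0 n87576 = n183475 := rfl
def n183476 : Q := act 1 n87576
theorem D183476 : act 1 n87576 = n183476 := rfl
def n183477 : Q := act 7 n87576
theorem D183477 : act 7 n87576 = n183477 := rfl
def n183478 : Q := act 4 n87578
theorem D183478 : act 4 n87578 = n183478 := rfl
theorem F285230 : act 3 n183478 = n94374 := d5_1 D183478 F157600 (iv3 F251927) F251928 F151965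
theorem F285231 : act 7 n183478 = n97148 := d11_2 F157613 D183478 F149885
theorem F285232 : act 0 n183478 = n96541 := d20_1 D183478 F148707 D172223 F270439 F149770 F144662 (iv1 F157568) F69421 D89034 (iv1 F136707)
theorem F285233 : act 0 n172219 = n183478 := d20_10 (iv4 D183478) (iv1 D87578) F63048 (iv3 D21732) (iv1 F62911) (iv3 F64244) F64245 D41635 D89113 (iv3 F270429)
def n183479 : Q := act 5 n87578
theorem D183479 : act 5 n87578 = n183479 := rfl
def n183480 : Q := act 5 n87579
theorem D183480 : act 5 n87579 = n183480 := rfl
theorem F285234 : act 2 n183480 = n87580 := d2_1 D183480 (iv5 D87580) D87579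
theorem F285235 : act 3 n183480 = n102609 := d6_1 D183480 F157818 F136692
def n183481 : Q := act 6 n87579
theorem D183481 : act 6 n87579 = n183481 := rfl
theorem F285236 : act 2 n183481 = n87581 := d3_1 D183481 (iv6 D87581) D87579
theorem F285237 : act 4 n183481 = n97471 := d10_1 D183481 (iv6 D97471) (iv4 F134462)
def n183482 : Q := act 0 n87580
theorem D183482 : act 0 n87580 = n183482 := rfl
def n183483 : Q := act 1 n87580
theorem D183483 : act 1 n87580 = n183483 := rfl
def n183484 : Q := act 4 n87580
theorem D183484 : act 4 n87580 = n183484 := rfl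
def n183485 : Q := act 6 n87580
theorem D183485 : act 6 n87580 = n183485 := rfl
theorem F285238 : act 3 n183485 = n87583 := d7_1 D183485 (iv6 D87583) (iv3 F134463)
def n183486 : Q := act 0 n87581
theorem D183486 : act 0 n87581 = n183486 := rfl
def n183487 : Q := act 1 n87581
theorem D183487 : act 1 n87581 = n183487 := rfl
def n183491 : Q := act 0 n87583
theorem D183491 : act 0 n87583 = n183491 := rfl
def n183492 : Q := act 1 n87583
theorem D183492 : act 1 n87583 = n183492 := rfl
def n183493 : Q := act 7 n87583
theorem D183493 : act 7 n87583 = n183493 := rfl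
def n183494 : Q := act 4 n87584
theorem D183494 : act 4 n87584 = n183494 := rfl
def n183495 : Q := act 6 n87584
theorem D183495 : act 6 n87584 = n183495 := rfl
theorem F285242 : act 3 n183495 = n87586 := d7_1 D183495 (iv6 D87586) D87584
def n183496 : Q := act 3 n87585
theorem D183496 : act 3 n87585 = n183496 := rfl
def n183497 : Q := act 5 n87585
theorem D183497 : act 5 n87585 = n183497 := rfl
theorem F285243 : act 4 n183497 = n87609 := d16_2 D87585 D183497 (iv5 D87609) F69628 D45536 (iv4 F75740) F75741 (iv7 F133410) (iv2 F133409)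
def n183498 : Q := act 6 n87585
theorem D183498 : act 6 n87585 = n183498 := rfl
theorem F285244 : act 4 n183498 = n87586 := d10_1 D183498 (iv6 D87586) D87585
def n183499 : Q := act 0 n87586
theorem D183499 : act 0 n87586 = n183499 := rfl
def n183500 : Q := act 1 n87586
theorem D183500 : act 1 n87586 = n183500 := rfl
def n183501 : Q := act 7 n87586
theorem D183501 : act 7 n87586 = n183501 := rfl
def n183502 : Q := act 1 n87587
theorem D183502 : act 1 n87587 = n183502 := rfl
def n183503 : Q := act 2 n87587
theorem D183503 : act 2 n87587 = n183503 := rfl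
def n183504 : Q := act 4 n87587
theorem D183504 : act 4 n87587 = n183504 := rfl
def n183505 : Q := act 6 n87587
theorem D183505 : act 6 n87587 = n183505 := rfl
theorem F285245 : act 3 n183505 = n87589 := d7_1 D183505 (iv6 D87589) D87587
def n183506 : Q := act 3 n87588
theorem D183506 : act 3 n87588 = n183506 := rfl
def n183507 : Q := act 5 n87588
theorem D183507 : act 5 n87588 = n183507 := rfl
theorem F285246 : act 4 n183507 = n87606 := d9_1 D183507 (iv5 D87606) (iv4 F72802) (iv5 F74710) (iv4 F75867) F75866 D87585 D183497 F285243 (iv5 D87609) F69628 D45536 (iv4 F75740) F75741 D87588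
def n183508 : Q := act 6 n87588
theorem D183508 : act 6 n87588 = n183508 := rfl
theorem F285247 : act 4 n183508 = n87589 := d10_1 D183508 (iv6 D87589) D87588
def n183509 : Q := act 0 n87589
theorem D183509 : act 0 n87589 = n183509 := rfl
def n183510 : Q := act 1 n87589
theorem D183510 : act 1 n87589 = n183510 := rfl
def n183511 : Q := act 7 n87589
theorem D183511 : act 7 n87589 = n183511 := rfl
def n183517 : Q := act 0 n87592
theorem D183517 : act 0 n87592 = n183517 := rfl
def n183518 : Q := act 1 n87592
theorem D183518 : act 1 n87592 = n183518 := rfl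
def n183519 : Q := act 2 n87592
theorem D183519 : act 2 n87592 = n183519 := rfl
def n183520 : Q := act 5 n87592
theorem D183520 : act 5 n87592 = n183520 := rfl
def n183521 : Q := act 7 n87592
theorem D183521 : act 7 n87592 = n183521 := rfl
theorem F285251 : act 3 n183521 = n87594 := d8_1 D183521 (iv7 D87594) D87592
def n183526 : Q := act 4 n87596
theorem D183526 : act 4 n87596 = n183526 := rfl
def n183527 : Q := act 6 n87596
theorem D183527 : act 6 n87596 = n183527 := rfl
theorem F285253 : act 3 n183527 = n87599 := d7_1 D183527 (iv6 D87599) (iv3 F134468)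
def n183528 : Q := act 0 n87597
theorem D183528 : act 0 n87597 = n183528 := rfl
theorem F285254 : act 5 n183528 = n87682 := d21_0 (iv1 F150993) F150990 F72129 (iv1 F73538) D99584 (iv5 F157663) (iv1 F152078) (iv5 D87596) D87597 D183528
def n183529 : Q := act 1 n87597
theorem D183529 : act 1 n87597 = n183529 := rfl
def n183531 : Q := act 6 n87598
theorem D183531 : act 6 n87598 = n183531 := rfl
theorem F285255 : act 2 n183531 = n94811 := d3_1 D183531 (iv6 D94811) (iv2 F134471)
theorem F285256 : act 4 n183531 = n87599 := d10_1 D183531 (iv6 D87599) D87598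
def n183532 : Q := act 0 n87599
theorem D183532 : act 0 n87599 = n183532 := rfl
def n183533 : Q := act 1 n87599
theorem D183533 : act 1 n87599 = n183533 := rfl
theorem F285257 : act 1 n183533 = n94815 := d15_1 D183533 (iv7 D94815) (iv2 F134472)
theorem F285258 : act 5 n88174 = n183533 := d21_6 (iv5 D19363) (iv1 D9091) D9092 (iv6 F30991) D41155 D88174 (iv1 D183533) (iv5 F135148) (iv6 D88209) (iv1 F62363)
def n183534 : Q := act 7 n87599
theorem D183534 : act 7 n87599 = n183534 := rfl
theorem F285259 : act 2 n183534 = n94815 := d4_1 D183534 (iv7 D94815) (iv2 F134472)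
theorem F285260 : act 1 n94815 = n183532 := d15_0 (iv0 D183532) D183534 F285259
theorem F285261 : act 1 n94813 = n183534 := d15_1 D94813 (iv7 D183534) F134472
theorem F285262 : act 1 n183534 = n94812 := d15_0 (iv0 D94812) D94815 (iv2 F285259)
def n183668 : Q := act 5 n87646
theorem D183668 : act 5 n87646 = n183668 := rfl
theorem F285418 : act 6 n183668 = n87647 := d12_2 D87646 D183668 (iv5 D87647) (iv6 D40836) D40835
def n183734 : Q := act 6 n87666
theorem D183734 : act 6 n87666 = n183734 := rfl
theorem F285501 : act 3 n183734 = n114728 := d7_1 D183734 (iv6 D114728) (iv3 F134577)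
theorem F285502 : act 4 n183734 = n99607 := d10_1 D183734 (iv6 D99607) (iv4 F134578)
def n183735 : Q := act 0 n87667
theorem D183735 : act 0 n87667 = n183735 := rfl
def n183736 : Q := act 1 n87667
theorem D183736 : act 1 n87667 = n183736 := rfl
theorem F285503 : act 1 n183736 = n175211 := d15_1 D183736 (iv7 D175211) (iv2 F134579)
def n183737 : Q := act 5 n87667
theorem D183737 : act 5 n87667 = n183737 := rfl
theorem F285504 : act 2 n183737 = n175210 := d2_1 D183737 (iv5 D175210) (iv2 F134579)
def n183738 : Q := act 7 n87667
theorem D183738 : act 7 n87667 = n183738 := rfl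
theorem F285505 : act 2 n183738 = n175211 := d4_1 D183738 (iv7 D175211) (iv2 F134579)
theorem F285507 : act 1 n175211 = n183735 := d15_0 (iv0 D183735) D183738 F285505
theorem F285508 : act 1 n175209 = n183738 := d15_1 D175209 (iv7 D183738) F134579
theorem F285509 : act 1 n183738 = n175208 := d15_0 (iv0 D175208) D175211 (iv2 F285505)
def n183739 : Q := act 2 n87668
theorem D183739 : act 2 n87668 = n183739 := rfl
theorem F285510 : act 7 n87669 = n183739 := d15_2 (iv0 D87668) D87669 (iv2 D183739)
def n183743 : Q := act 6 n87668
theorem D183743 : act 6 n87668 = n183743 := rfl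
def n183744 : Q := act 7 n87668
theorem D183744 : act 7 n87668 = n183744 := rfl
theorem F285511 : act 2 n183744 = n87669 := d4_1 D183744 F285510 (iv2 D183739)
def n183749 : Q := act 0 n87670
theorem D183749 : act 0 n87670 = n183749 := rfl
def n183750 : Q := act 1 n87670
theorem D183750 : act 1 n87670 = n183750 := rfl
theorem F285512 : act 1 n183750 = n175492 := d15_1 D183750 (iv7 D175492) (iv2 F134582)
def n183751 : Q := act 4 n87670
theorem D183751 : act 4 n87670 = n183751 := rfl
theorem F285513 : act 2 n183751 = n175491 := d1_1 D183751 (iv4 D175491) (iv2 F134582)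
theorem F285514 : act 6 n183751 = n87684 := d10_2 (iv6 F134584) D183751 (iv4 D87684)
def n183752 : Q := act 7 n87670
theorem D183752 : act 7 n87670 = n183752 := rfl
theorem F285515 : act 2 n183752 = n175492 := d4_1 D183752 (iv7 D175492) (iv2 F134582)
theorem F285518 : act 1 n175492 = n183749 := d15_0 (iv0 D183749) D183752 F285515
theorem F285519 : act 1 n175490 = n183752 := d15_1 D175490 (iv7 D183752) F134582
theorem F285520 : act 1 n183752 = n175489 := d15_0 (iv0 D175489) D175492 (iv2 F285515)
def n183753 : Q := act 0 n87673
theorem D183753 : act 0 n87673 = n183753 := rfl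
theorem F285521 : act 4 n183753 = n90430 := d20_0 (iv1 F143006) (iv4 F143010) (iv3 F151101) (iv1 F151105) D102657 F157889 F135213 (iv4 D87674) D87673 D183753
theorem F285522 : act 7 n88191 = n183753 := d11_0 F285521 F156152 F143001
theorem F285523 : act 3 n87701 = n183753 := d20_5 (iv4 F74871) (iv1 F73661) (iv4 F74676) F74675 (iv1 F134611) F285521 (iv1 F143006) (iv4 F143010) (iv3 F151101) (iv1 F151105)
def n183754 : Q := act 5 n87673
theorem D183754 : act 5 n87673 = n183754 := rfl
theorem F285524 : act 3 n183754 = n87675 := d6_1 D183754 (iv5 D87675) D87673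
def n183755 : Q := act 6 n87673
theorem D183755 : act 6 n87673 = n183755 := rfl
theorem F285525 : act 2 n183755 = n159740 := d3_1 D183755 F251685 (iv2 F160567)
theorem F285526 : act 3 n183755 = n87676 := d7_1 D183755 (iv6 D87676) D87673
theorem F285527 : act 4 n183755 = n159701 := d10_1 D183755 F251598 (iv4 F135458)
theorem F285528 : act 7 n159730 = n183755 := d11_0 F285527 (iv7 F251604) D159730
def n183756 : Q := act 5 n87674
theorem D183756 : act 5 n87674 = n183756 := rfl
theorem F285529 : act 3 n183756 = n99927 := d6_1 D183756 (iv5 D99927) F134591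
def n183757 : Q := act 6 n87674
theorem D183757 : act 6 n87674 = n183757 := rfl
theorem F285530 : act 3 n183757 = n99928 := d7_1 D183757 (iv6 D99928) F134591
theorem F285531 : act 4 n183757 = n87676 := d10_1 D183757 (iv6 D87676) D87674
def n183758 : Q := act 4 n87675
theorem D183758 : act 4 n87675 = n183758 := rfl
def n183759 : Q := act 6 n87675
theorem D183759 : act 6 n87675 = n183759 := rfl
def n183760 : Q := act 0 n87676
theorem D183760 : act 0 n87676 = n183760 := rfl
def n183761 : Q := act 1 n87676
theorem D183761 : act 1 n87676 = n183761 := rfl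
def n183762 : Q := act 5 n87676
theorem D183762 : act 5 n87676 = n183762 := rfl
theorem F285532 : act 2 n183762 = n181949 := d2_1 D183762 (iv5 F283244) F160575
theorem F285533 : act 0 n183762 = n88593 := d21_7 F74225 (iv1 F34810) (iv5 D19253) D19254 D40845 D87676 D183762 (iv5 D88593) (iv6 D41346) D41344
theorem F285535 : act 0 n181951 = n183762 := d21_7 (iv5 F150990) (iv1 F150992) (iv5 F136204) (iv6 D88824) (iv1 F136197) F136194 (iv5 F283246) (iv5 D183762) (iv6 D87676) (iv1 F72132)
def n183763 : Q := act 7 n87676
theorem D183763 : act 7 n87676 = n183763 := rfl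
theorem F285536 : act 3 n183763 = n159730 := d8_1 D183763 F285528 F285526
theorem F285537 : act 6 n183763 = n183178 := d14_1 D183763 F284789 (iv6 D97963) (iv7 F160540) D87676
theorem F285538 : act 5 n181948 = n183763 := d21_8 (iv5 F270981) F270984 (iv5 D88801) (iv6 D41458) (iv1 F31253) D40316 D86902 D181948 F285537 (iv1 F284781)
theorem F285539 : act 7 n183762 = n181948 := d13_0 F285538 (iv7 D183763) D183762
theorem F285540 : act 0 n87931 = n183763 := d20_4 F31009 (iv1 F62076) (iv4 F62156) (iv3 F134926) F285536 (iv4 D159730) F251567 F135491 (iv3 D88325) (iv1 D41222)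
theorem F285541 : act 1 n98663 = n183763 := d15_0 (iv0 F285540) (iv7 F135247) (iv2 F152102)
theorem F285542 : act 1 n97959 = n98663 := d15_0 F285541 (iv7 D183763) (iv2 F160575)
theorem F285543 : act 1 n87931 = n97959 := d15_0 F285542 (iv7 F152959) F152956
theorem F285544 : act 0 n88808 = n98662 := d21_1 D88808 (iv5 D98662) D98663 (iv1 F285542) (iv6 D97959) D97958 F157660 F135145 (iv6 D87597) F157592
def n183764 : Q := act 2 n87678
theorem D183764 : act 2 n87678 = n183764 := rfl
theorem F285545 : act 4 n183764 = n103085 := d1_2 (iv4 F134593) D183764 F160554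
theorem F285546 : act 7 n183764 = n103089 := d4_2 (iv7 F160571) D183764 F160568
theorem F285547 : act 1 n88222 = n183764 := d15_1 (iv0 F157378) F285546 F160568
def n183765 : Q := act 5 n87678
theorem D183765 : act 5 n87678 = n183765 := rfl
theorem F285548 : act 3 n183765 = n87680 := d6_1 D183765 (iv5 D87680) D87678
def n183766 : Q := act 6 n87678
theorem D183766 : act 6 n87678 = n183766 := rfl
theorem F285549 : act 3 n183766 = n87681 := d7_1 D183766 (iv6 D87681) D87678
theorem F285550 : act 4 n183766 = n103095 := d10_1 D183766 (iv6 D103095) (iv4 F134593)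
theorem F285551 : act 0 n103095 = n97369 := d20_7 (iv4 D94096) (iv1 F69176) D46351 D99094 (iv1 F284788) (iv3 F285549) F285550 F152558 F152556 (iv1 F145001)
def n183767 : Q := act 5 n87679
theorem D183767 : act 5 n87679 = n183767 := rfl
def n183768 : Q := act 6 n87679
theorem D183768 : act 6 n87679 = n183768 := rfl
theorem F285553 : act 4 n183768 = n87681 := d10_1 D183768 (iv6 D87681) D87679
def n183769 : Q := act 4 n87680
theorem D183769 : act 4 n87680 = n183769 := rfl
def n183770 : Q := act 6 n87680
theorem D183770 : act 6 n87680 = n183770 := rfl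
def n183771 : Q := act 5 n87681
theorem D183771 : act 5 n87681 = n183771 := rfl
theorem F285554 : act 2 n183771 = n99071 := d2_1 D183771 F157304 (iv2 F160581)
theorem F285555 : act 0 n88989 = n183771 := d21_1 D88989 (iv5 D183771) (iv6 D87681) (iv1 D40846) (iv6 D19254) D19253 (iv1 F34811) (iv5 F74235) D88590 F157239
theorem F285557 : act 7 n99070 = n183771 := d15_2 F152594 F152593 F285554
def n183772 : Q := act 7 n87681
theorem D183772 : act 7 n87681 = n183772 := rfl
theorem F285558 : act 2 n183772 = n183178 := d4_1 D183772 F284789 (iv2 F160581)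
theorem F285559 : act 5 n183772 = n99070 := d13_1 D183772 F285557 (iv5 D183771)
def n183773 : Q := act 2 n87682
theorem D183773 : act 2 n87682 = n183773 := rfl
theorem F285560 : act 7 n87683 = n183773 := d15_2 (iv0 D87682) D87683 (iv2 D183773)
def n183774 : Q := act 3 n87682
theorem D183774 : act 3 n87682 = n183774 := rfl
def n183775 : Q := act 4 n87682
theorem D183775 : act 4 n87682 = n183775 := rfl
def n183776 : Q := act 6 n87682
theorem D183776 : act 6 n87682 = n183776 := rfl
def n183777 : Q := act 7 n87682
theorem D183777 : act 7 n87682 = n183777 := rfl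
theorem F285561 : act 2 n183777 = n87683 := d4_1 D183777 F285560 (iv2 D183773)
def n183778 : Q := act 3 n87683
theorem D183778 : act 3 n87683 = n183778 := rfl
def n183779 : Q := act 4 n87683
theorem D183779 : act 4 n87683 = n183779 := rfl
def n183780 : Q := act 6 n87683
theorem D183780 : act 6 n87683 = n183780 := rfl
def n183781 : Q := act 0 n87684
theorem D183781 : act 0 n87684 = n183781 := rfl
def n183782 : Q := act 1 n87684
theorem D183782 : act 1 n87684 = n183782 := rfl
def n183783 : Q := act 3 n87684
theorem D183783 : act 3 n87684 = n183783 := rfl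
theorem F285562 : act 4 n183783 = n87715 := d5_2 D87684 D183783 (iv3 D87715) (iv4 D40858) (iv3 F61943)
def n183784 : Q := act 5 n87684
theorem D183784 : act 5 n87684 = n183784 := rfl
def n183785 : Q := act 7 n87684
theorem D183785 : act 7 n87684 = n183785 := rfl
theorem F285563 : act 4 n183785 = n87685 := d11_1 D183785 (iv7 D87685) D87684
def n183786 : Q := act 6 n87685
theorem D183786 : act 6 n87685 = n183786 := rfl
theorem F285564 : act 3 n183786 = n87716 := d7_1 D183786 (iv6 D87716) (iv3 F134594)
def n183789 : Q := act 3 n87686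
theorem D183789 : act 3 n87686 = n183789 := rfl
theorem F285567 : act 7 n183789 = n87692 := d8_2 F134596 D183789 (iv3 D87692)
def n183790 : Q := act 4 n87686
theorem D183790 : act 4 n87686 = n183790 := rfl
theorem F285568 : act 2 n183790 = n87688 := d1_1 D183790 (iv4 D87688) D87686
theorem F285569 : act 7 n183790 = n87693 := d11_2 F134596 D183790 (iv4 D87693)
def n183791 : Q := act 5 n87686
theorem D183791 : act 5 n87686 = n183791 := rfl
theorem F285570 : act 2 n183791 = n87689 := d2_1 D183791 (iv5 D87689) D87686
theorem F285571 : act 7 n183791 = n87694 := d13_2 F134596 D183791 (iv5 D87694)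
def n183792 : Q := act 6 n87686
theorem D183792 : act 6 n87686 = n183792 := rfl
theorem F285572 : act 2 n183792 = n87690 := d3_1 D183792 (iv6 D87690) D87686
def n183795 : Q := act 2 n87687
theorem D183795 : act 2 n87687 = n183795 := rfl
def n183799 : Q := act 7 n87687
theorem D183799 : act 7 n87687 = n183799 := rfl
def n183805 : Q := act 7 n87688
theorem D183805 : act 7 n87688 = n183805 := rfl
theorem F285578 : act 2 n183805 = n87693 := d4_1 D183805 (iv7 F285569) F285568
def n183806 : Q := act 0 n87689
theorem D183806 : act 0 n87689 = n183806 := rfl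
theorem F285581 : act 5 n183806 = n100942 := d21_2 D87689 D183806 (iv6 D100942) (iv1 F155086) (iv6 D22678) (iv5 D10736) (iv1 F7329) D9055 D19255 D40849
theorem F285582 : act 2 n88145 = n183806 := d2_3 F285581 F156899 (iv5 F135115)
theorem F285583 : act 3 n100950 = n183806 := d6_3 F285581 F155076 D100950
theorem F285584 : act 7 n88146 = n183806 := d15_2 (iv0 D88145) D88146 (iv2 F285582)
theorem F285585 : act 3 n101909 = n88146 := d8_3 F285584 (iv3 F285583) (iv7 F156853)
def n183807 : Q := act 1 n87689
theorem D183807 : act 1 n87689 = n183807 := rfl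
theorem F285586 : act 1 n183807 = n87694 := d15_1 D183807 (iv7 F285571) F285570
theorem F285587 : act 7 n183807 = n88145 := d15_2 (iv0 D183806) D183807 F285582
theorem F285588 : act 2 n88146 = n183807 := d4_3 F285587 F285582 (iv7 F285584)
theorem F285589 : act 1 n87694 = n183806 := d15_1 F285586 (iv7 F285584) F285588
def n183810 : Q := act 7 n87689
theorem D183810 : act 7 n87689 = n183810 := rfl
theorem F285590 : act 2 n183810 = n87694 := d4_1 D183810 (iv7 F285571) F285570
def n183813 : Q := act 7 n87690
theorem D183813 : act 7 n87690 = n183813 := rfl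
def n183817 : Q := act 2 n87692
theorem D183817 : act 2 n87692 = n183817 := rfl
def n183818 : Q := act 4 n87692
theorem D183818 : act 4 n87692 = n183818 := rfl
theorem F285593 : act 0 n183818 = n98462 := d20_7 (iv4 D38615) (iv1 F59076) F59072 F35301 (iv1 F61946) D87692 D183818 F151871 F72634 (iv1 F154535)
def n183822 : Q := act 5 n87693
theorem D183822 : act 5 n87693 = n183822 := rfl
def n183825 : Q := act 6 n87694
theorem D183825 : act 6 n87694 = n183825 := rfl
theorem F285597 : act 0 n88211 = n183825 := d21_4 (iv5 F64443) F68709 F68707 D88211 (iv6 D183825) (iv5 D87694) (iv1 D40850) D40851 F61948 D40856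
def n183826 : Q := act 0 n87695
theorem D183826 : act 0 n87695 = n183826 := rfl
theorem F285598 : act 5 n183826 = n88013 := d21_0 (iv1 F153800) F153796 F73704 F155087 D100942 (iv5 F285581) (iv1 F285589) (iv5 D87694) D87695 D183826
theorem F285599 : act 2 n88166 = n183826 := d2_3 F285598 (iv2 F156458) (iv5 F153799)
theorem F285600 : act 7 n88080 = n183826 := d13_0 F285598 F156457 (iv5 F153792)
theorem E24974 : n88167 = n88080 := (c15_2 (iv0 D88166) D88167 F285600 (iv2 F285599))
theorem F285601 : act 0 n88080 = n41154 := (sb E24974 (iv1 D88167))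
def n183827 : Q := act 5 n87695
theorem D183827 : act 5 n87695 = n183827 := rfl
theorem F285603 : act 0 n99881 = n183827 := d21_1 D99881 (iv5 D183827) (iv6 D87695) (iv1 D40850) (iv6 D19255) (iv5 D9055) F7324 D10643 D22358 D46645
def n183828 : Q := act 7 n87695
theorem D183828 : act 7 n87695 = n183828 := rfl
def n183829 : Q := act 2 n87696
theorem D183829 : act 2 n87696 = n183829 := rfl
theorem F285605 : act 7 n87697 = n183829 := d15_2 (iv0 D87696) D87697 (iv2 D183829)
theorem F285606 : act 5 n183829 = n182110 := d13_1 F285605 (iv7 D182110) F134599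
def n183830 : Q := act 3 n87696
theorem D183830 : act 3 n87696 = n183830 := rfl
def n183831 : Q := act 4 n87696
theorem D183831 : act 4 n87696 = n183831 := rfl
def n183832 : Q := act 5 n87696
theorem D183832 : act 5 n87696 = n183832 := rfl
theorem F285607 : act 2 n183832 = n182110 := d2_1 D183832 (iv5 F285606) (iv2 D183829)
theorem F285608 : act 7 n182089 = n183832 := d4_0 F285607 (iv7 D182110) (iv2 F283495)
theorem F285609 : act 1 n183832 = n182108 := d15_0 (iv0 D182108) D182110 (iv2 F285607)
theorem F285610 : act 6 n183832 = n182126 := d14_1 F285608 (iv7 D182126) (iv6 D86970) F133488 D182089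
theorem F285611 : act 1 n182109 = n183832 := d15_1 D182109 (iv7 F285608) F283495
theorem F285612 : act 0 n182126 = n99882 := d21_4 D40851 D87696 D183832 F285610 (iv6 D99882) D99881 F285603 (iv5 D183827) (iv6 D87695) (iv1 D40850)
theorem F285613 : act 1 n182111 = n99882 := d15_0 (iv0 F285612) (iv7 D182126) (iv2 F283509)
def n183833 : Q := act 6 n87696
theorem D183833 : act 6 n87696 = n183833 := rfl
theorem F285614 : act 5 n183833 = n94813 := d21_6 (iv5 D40854) (iv1 D19256) D19257 (iv6 F61948) D87696 D183833 (iv1 D94813) D94814 F146160 (iv1 F69720)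
def n183834 : Q := act 7 n87696
theorem D183834 : act 7 n87696 = n183834 := rfl
theorem F285615 : act 2 n183834 = n87697 := d4_1 D183834 F285605 (iv2 D183829)
theorem F285616 : act 5 n183834 = n182089 := d13_1 D183834 F285608 (iv5 D183832)
def n183835 : Q := act 3 n87697
theorem D183835 : act 3 n87697 = n183835 := rfl
theorem F285617 : act 5 n183835 = n182095 := d6_2 F134599 D183835 F283497
def n183836 : Q := act 4 n87697
theorem D183836 : act 4 n87697 = n183836 := rfl
def n183837 : Q := act 6 n87697
theorem D183837 : act 6 n87697 = n183837 := rfl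
theorem F285618 : act 5 n183837 = n182106 := d12_1 D183837 (iv6 D182106) (iv5 D86964) D86965 F134599
def n183840 : Q := act 3 n87698
theorem D183840 : act 3 n87698 = n183840 := rfl
theorem F285620 : act 6 n183840 = n87715 := d7_2 (iv6 F134601) D183840 (iv3 D87715)
def n183841 : Q := act 5 n87698
theorem D183841 : act 5 n87698 = n183841 := rfl
theorem F285621 : act 2 n183841 = n88183 := d2_1 D183841 (iv5 D88183) (iv2 F134600)
def n183842 : Q := act 7 n87698
theorem D183842 : act 7 n87698 = n183842 := rfl
theorem F285622 : act 2 n183842 = n88184 := d4_1 D183842 (iv7 D88184) (iv2 F134600)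
theorem F285625 : act 1 n88181 = n183842 := d15_1 D88181 (iv7 D183842) F134600
theorem F285626 : act 1 n183842 = n88180 := d15_0 (iv0 D88180) D88184 (iv2 F285622)
def n183843 : Q := act 6 n87699
theorem D183843 : act 6 n87699 = n183843 := rfl
theorem F285627 : act 2 n183843 = n88185 := d3_1 D183843 (iv6 D88185) (iv2 F134602)
theorem F285628 : act 7 n183843 = n87716 := d14_2 D87699 D183843 (iv6 D87716) (iv7 D40859) (iv6 F61948)
theorem F285629 : act 1 n88285 = n183843 := d15_1 D88285 F285628 F134629
theorem F285630 : act 1 n183843 = n88284 := d15_0 (iv0 D88284) (iv7 F135131) (iv2 F285627)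
def n183844 : Q := act 4 n87700
theorem D183844 : act 4 n87700 = n183844 := rfl
theorem F285632 : act 7 n183844 = n88187 := d11_2 (iv7 F156158) D183844 (iv4 D88187)
theorem F285633 : act 0 n183844 = n92800 := d20_1 D183844 (iv4 F153846) F158400 (iv1 D88289) (iv3 D41206) (iv4 F35319) F63111 F63102 D40853 D87700
theorem F285634 : act 0 n92780 = n183844 := d20_1 (iv4 F153849) (iv4 D183844) (iv3 F150997) (iv1 D97969) (iv3 D45728) (iv4 F34322) (iv1 F66562) (iv4 F34936) (iv3 F73770) (iv1 F153848)
def n183845 : Q := act 5 n87700
theorem D183845 : act 5 n87700 = n183845 := rfl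
theorem F285635 : act 2 n183845 = n88193 := d2_1 D183845 (iv5 D88193) (iv2 F156157)
theorem F285636 : act 7 n183845 = n88188 := d13_2 (iv7 F156158) D183845 (iv5 D88188)
def n183847 : Q := act 4 n87701
theorem D183847 : act 4 n87701 = n183847 := rfl
theorem F285638 : act 2 n183847 = n88187 := d1_1 D183847 (iv4 D88187) (iv2 F156162)
theorem F285639 : act 7 n183847 = n88192 := d11_2 (iv7 F156163) D183847 (iv4 D88192)
theorem F285640 : act 0 n183847 = n92780 := d20_1 D183847 F153849 (iv3 F153850) F157893 (iv3 D102657) (iv4 F74871) (iv1 F73661) (iv4 F74676) F74675 (iv1 F134611)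
theorem F285641 : act 3 n183847 = n88469 := d20_3 F68143 (iv1 F134611) D183847 (iv1 F135448) (iv3 D43392) (iv4 D20513) (iv1 D9735) (iv4 F15200) (iv3 F32583) D43377
theorem F285642 : act 0 n92800 = n183847 := d20_10 (iv4 D183847) (iv1 D87701) (iv4 F68113) (iv3 D43365) (iv1 D20483) (iv3 F32558) (iv4 F36070) D47803 (iv4 F135534) D92800
theorem F285643 : act 7 n88469 = n88518 := d8_2 (iv7 F285639) F285641 F135545
theorem F285644 : act 2 n88518 = n88470 := d15_3 F135449 F135448 F285643
theorem F285645 : act 2 n88469 = n88519 := d15_3 F135547 F135546 (iv7 F285643)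
theorem F285646 : act 7 n88519 = n88470 := d4_2 (iv7 F285643) F285645 (iv2 F285644)
def n183848 : Q := act 5 n87701
theorem D183848 : act 5 n87701 = n183848 := rfl
theorem F285647 : act 2 n183848 = n88188 := d2_1 D183848 (iv5 D88188) (iv2 F156162)
theorem F285648 : act 7 n183848 = n88193 := d13_2 (iv7 F156163) D183848 (iv5 D88193)
theorem F285649 : act 0 n183848 = n87710 := d17_2 (iv1 F134611) D183848 F136954 (iv4 F142391) (iv5 F142932) F183975 F183974 F142909 F68143
theorem F285650 : act 1 n183845 = n87710 := d15_0 (iv0 F285649) F285648 (iv2 F285635)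
theorem F285651 : act 1 n88247 = n183845 := d15_0 F285650 F134623 D88247
theorem F285652 : act 1 n183848 = n88247 := d15_0 F285651 F285636 (iv2 F285647)
theorem E24975 : n88245 = n88188 := ((c15_4 (iv0 D88245) (iv0 F183972) (iv7 F285648) F285647)).symm
theorem F285653 : act 1 n88188 = n41185 := (sb E24975 (iv0 D88245))
def n183849 : Q := act 6 n87701
theorem D183849 : act 6 n87701 = n183849 := rfl
theorem F285654 : act 2 n183849 = n88189 := d3_1 D183849 (iv6 D88189) (iv2 F156162)
def n183850 : Q := act 5 n87702
theorem D183850 : act 5 n87702 = n183850 := rfl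
theorem F285655 : act 2 n183850 = n87703 := d2_1 D183850 (iv5 D87703) D87702
theorem F285656 : act 3 n183850 = n88228 := d6_1 D183850 (iv5 D88228) (iv3 F134608)
theorem F285657 : act 7 n183850 = n88195 := d13_2 (iv7 F134609) D183850 (iv5 D88195)
theorem F285658 : act 1 n88200 = n183850 := d15_1 D88200 F285657 F135134
theorem F285659 : act 1 n183850 = n88199 := d15_0 (iv0 D88199) (iv7 F134614) (iv2 F285655)
def n183851 : Q := act 6 n87702
theorem D183851 : act 6 n87702 = n183851 := rfl
theorem F285660 : act 2 n183851 = n87704 := d3_1 D183851 (iv6 D87704) D87702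
theorem F285661 : act 3 n183851 = n88229 := d7_1 D183851 (iv6 D88229) (iv3 F134608)
def n183852 : Q := act 0 n87703
theorem D183852 : act 0 n87703 = n183852 := rfl
theorem F285662 : act 1 n88195 = n183852 := d15_0 (iv0 D183852) F134614 (iv2 F135134)
def n183853 : Q := act 1 n87703
theorem D183853 : act 1 n87703 = n183853 := rfl
theorem F285663 : act 1 n183853 = n88195 := d15_1 D183853 (iv7 F285657) F285655
def n183854 : Q := act 4 n87703
theorem D183854 : act 4 n87703 = n183854 := rfl
theorem F285664 : act 7 n183854 = n88201 := d11_2 (iv7 F134614) D183854 (iv4 D88201)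
def n183855 : Q := act 6 n87703
theorem D183855 : act 6 n87703 = n183855 := rfl
theorem F285665 : act 3 n183855 = n87706 := d7_1 D183855 (iv6 D87706) (iv3 F134613)
def n183858 : Q := act 3 n87705
theorem D183858 : act 3 n87705 = n183858 := rfl
theorem F285666 : act 7 n183858 = n88214 := d8_2 (iv7 F134617) D183858 (iv3 D88214)
def n183859 : Q := act 6 n87705
theorem D183859 : act 6 n87705 = n183859 := rfl
theorem F285667 : act 2 n183859 = n88239 := d3_1 D183859 (iv6 D88239) (iv2 F134616)
def n183860 : Q := act 0 n87706
theorem D183860 : act 0 n87706 = n183860 := rfl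
def n183861 : Q := act 1 n87706
theorem D183861 : act 1 n87706 = n183861 := rfl
theorem F285669 : act 1 n183861 = n88243 := d15_1 D183861 (iv7 D88243) (iv2 F134618)
def n183862 : Q := act 7 n87706
theorem D183862 : act 7 n87706 = n183862 := rfl
theorem F285670 : act 2 n183862 = n88243 := d4_1 D183862 (iv7 D88243) (iv2 F134618)
theorem F285671 : act 6 n183862 = n88219 := d14_1 D183862 (iv7 D88219) (iv6 D41168) (iv7 F61955) D87706
theorem F285672 : act 1 n88243 = n183860 := d15_0 (iv0 D183860) D183862 F285670
theorem F285673 : act 1 n88241 = n183862 := d15_1 D88241 (iv7 D183862) F134618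
theorem F285674 : act 1 n183862 = n88240 := d15_0 (iv0 D88240) D88243 (iv2 F285670)
def n183863 : Q := act 0 n87707
theorem D183863 : act 0 n87707 = n183863 := rfl
theorem F285675 : act 1 n88261 = n183863 := d15_0 (iv0 D183863) F134619 D88261
def n183864 : Q := act 1 n87707
theorem D183864 : act 1 n87707 = n183864 := rfl
def n183865 : Q := act 2 n87707
theorem D183865 : act 2 n87707 = n183865 := rfl
theorem F285676 : act 3 n183865 = n88247 := d0_2 D87707 D183865 (iv2 D88247) (iv3 D41185) (iv2 F64347)
theorem F285677 : act 7 n183865 = n88261 := d4_2 (iv7 F134619) D183865 (iv2 D88261)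
theorem F285678 : act 1 n183865 = n88259 := d15_0 (iv0 D88259) (iv7 F134619) D183865
theorem F285679 : act 1 n183864 = n88261 := d15_1 D183864 (iv7 F285677) (iv2 D183865)
def n183866 : Q := act 4 n87707
theorem D183866 : act 4 n87707 = n183866 := rfl
theorem F285681 : act 7 n183866 = n88262 := d11_2 (iv7 F134619) D183866 (iv4 D88262)
def n183867 : Q := act 6 n87707
theorem D183867 : act 6 n87707 = n183867 := rfl
theorem F285682 : act 3 n183867 = n87709 := d7_1 D183867 (iv6 D87709) D87707
def n183868 : Q := act 3 n87708
theorem D183868 : act 3 n87708 = n183868 := rfl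
theorem F285683 : act 7 n183868 = n88265 := d8_2 (iv7 F134621) D183868 (iv3 D88265)
def n183869 : Q := act 6 n87708
theorem D183869 : act 6 n87708 = n183869 := rfl
theorem F285685 : act 4 n183869 = n87709 := d10_1 D183869 (iv6 D87709) D87708
def n183870 : Q := act 0 n87709
theorem D183870 : act 0 n87709 = n183870 := rfl
def n183871 : Q := act 1 n87709
theorem D183871 : act 1 n87709 = n183871 := rfl
theorem F285686 : act 1 n183871 = n88258 := d15_1 D183871 (iv7 D88258) (iv2 F134622)
def n183872 : Q := act 7 n87709
theorem D183872 : act 7 n87709 = n183872 := rfl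
theorem F285687 : act 2 n183872 = n88258 := d4_1 D183872 (iv7 D88258) (iv2 F134622)
theorem F285688 : act 6 n183872 = n88270 := d14_1 D183872 (iv7 D88270) (iv6 D41193) (iv7 F64348) D87709
theorem F285689 : act 1 n88258 = n183870 := d15_0 (iv0 D183870) D183872 F285687
theorem F285690 : act 1 n88256 = n183872 := d15_1 D88256 (iv7 D183872) F134622
theorem F285691 : act 1 n183872 = n88255 := d15_0 (iv0 D88255) D88258 (iv2 F285687)
def n183873 : Q := act 2 n87710
theorem D183873 : act 2 n87710 = n183873 := rfl
theorem F285692 : act 3 n183873 = n88261 := d0_2 D87710 D183873 (iv2 D88261) (iv3 D41190) (iv2 F64344)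
theorem F285693 : act 7 n183873 = n88247 := d4_2 (iv7 F134623) D183873 (iv2 D88247)
theorem F285694 : act 1 n183873 = n88188 := d15_0 F285653 (iv7 F134623) D183873
theorem F285695 : act 1 n88193 = n183873 := d15_0 F285694 (iv7 F285636) F285635
def n183874 : Q := act 4 n87710
theorem D183874 : act 4 n87710 = n183874 := rfl
theorem F285696 : act 7 n183874 = n88248 := d11_2 (iv7 F134623) D183874 (iv4 D88248)
theorem F285697 : act 0 n183874 = n99936 := d18_2 F285649 D183874 (iv4 D99936) (iv5 D46674) F34935 (iv0 F68115) F68113 D87701 D183848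
def n183875 : Q := act 6 n87710
theorem D183875 : act 6 n87710 = n183875 := rfl
theorem F285698 : act 3 n183875 = n87712 := d7_1 D183875 (iv6 D87712) D87710
def n183876 : Q := act 3 n87711
theorem D183876 : act 3 n87711 = n183876 := rfl
theorem F285699 : act 7 n183876 = n88253 := d8_2 (iv7 F134625) D183876 (iv3 D88253)
def n183877 : Q := act 6 n87711
theorem D183877 : act 6 n87711 = n183877 := rfl
theorem F285700 : act 2 n183877 = n88266 := d3_1 D183877 (iv6 D88266) (iv2 F134624)
theorem F285701 : act 4 n183877 = n87712 := d10_1 D183877 (iv6 D87712) D87711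
def n183878 : Q := act 0 n87712
theorem D183878 : act 0 n87712 = n183878 := rfl
def n183879 : Q := act 1 n87712
theorem D183879 : act 1 n87712 = n183879 := rfl
theorem F285702 : act 1 n183879 = n88270 := d15_1 D183879 (iv7 D88270) (iv2 F134626)
def n183880 : Q := act 7 n87712
theorem D183880 : act 7 n87712 = n183880 := rfl
theorem F285703 : act 2 n183880 = n88270 := d4_1 D183880 (iv7 D88270) (iv2 F134626)
theorem F285704 : act 6 n183880 = n88258 := d14_1 D183880 (iv7 D88258) (iv6 D41188) (iv7 F64345) D87712
theorem F285705 : act 1 n88270 = n183878 := d15_0 (iv0 D183878) D183880 F285703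
theorem F285706 : act 1 n88268 = n183880 := d15_1 D88268 (iv7 D183880) F134626
def n183881 : Q := act 3 n87713
theorem D183881 : act 3 n87713 = n183881 := rfl
theorem F285708 : act 7 n183881 = n88275 := d8_2 (iv7 F137692) D183881 (iv3 D88275)
def n183882 : Q := act 6 n87713
theorem D183882 : act 6 n87713 = n183882 := rfl
theorem F285709 : act 2 n183882 = n88273 := d3_1 D183882 (iv6 D88273) (iv2 F137691)
def n183883 : Q := act 3 n87714
theorem D183883 : act 3 n87714 = n183883 := rfl
theorem F285710 : act 7 n183883 = n88272 := d8_2 (iv7 F137690) D183883 (iv3 D88272)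
def n183884 : Q := act 6 n87714
theorem D183884 : act 6 n87714 = n183884 := rfl
theorem F285711 : act 2 n183884 = n88276 := d3_1 D183884 (iv6 D88276) (iv2 F137689)
def n183885 : Q := act 0 n87715
theorem D183885 : act 0 n87715 = n183885 := rfl
def n183886 : Q := act 1 n87715
theorem D183886 : act 1 n87715 = n183886 := rfl
def n183887 : Q := act 2 n87715
theorem D183887 : act 2 n87715 = n183887 := rfl
theorem F285712 : act 3 n183887 = n88279 := d0_2 D87715 D183887 (iv2 D88279) (iv3 D41196) (iv2 F61958)
def n183888 : Q := act 0 n87716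
theorem D183888 : act 0 n87716 = n183888 := rfl
theorem F285713 : act 1 n88185 = n183888 := d15_0 (iv0 D183888) (iv7 F285628) F285627
def n183889 : Q := act 1 n87716
theorem D183889 : act 1 n87716 = n183889 := rfl
theorem F285714 : act 1 n183889 = n88185 := d15_1 D183889 F135131 (iv2 F134629)
def n183890 : Q := act 6 n87717
theorem D183890 : act 6 n87717 = n183890 := rfl
theorem F285715 : act 2 n183890 = n88293 := d3_1 D183890 (iv6 D88293) (iv2 F134630)
def n183891 : Q := act 5 n87718
theorem D183891 : act 5 n87718 = n183891 := rfl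
theorem F285716 : act 2 n183891 = n88354 := d2_1 D183891 (iv5 D88354) F134632
theorem F285717 : act 7 n183891 = n87876 := d13_2 (iv7 F134634) D183891 (iv5 D87876)
def n183892 : Q := act 5 n87719
theorem D183892 : act 5 n87719 = n183892 := rfl
theorem F285718 : act 2 n183892 = n87720 := d2_1 D183892 (iv5 D87720) D87719
theorem F285719 : act 3 n183892 = n88303 := d6_1 D183892 (iv5 D88303) (iv3 F134636)
theorem F285720 : act 7 n183892 = n88355 := d13_2 (iv7 F134637) D183892 (iv5 D88355)
theorem F285721 : act 0 n183892 = n88358 := d21_1 D183892 F151997 (iv6 D46090) F66245 (iv6 D19227) D19226 D40748 F64075 D40999 (iv1 F134638)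
theorem F285722 : act 1 n102670 = n88355 := d15_1 (iv0 F157918) (iv7 F285720) F285718
theorem F285723 : act 1 n183892 = n88357 := d15_0 (iv0 D88357) (iv7 F134642) (iv2 F285718)
def n183893 : Q := act 0 n87720
theorem D183893 : act 0 n87720 = n183893 := rfl
theorem F285724 : act 5 n183893 = n98588 := d21_2 D87720 D183893 (iv6 D98588) (iv1 F72657) (iv6 D40747) D40746 F64073 F64070 D46423 F73263
theorem F285725 : act 2 n88358 = n183893 := d15_3 (iv0 D183893) (iv0 F157918) F157912
theorem F285726 : act 1 n88355 = n183893 := d15_0 (iv0 D183893) F134642 (iv2 F135320)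
theorem F285727 : act 7 n183893 = n88357 := d15_2 F285722 F285726 (iv2 F157913)
def n183894 : Q := act 4 n87720
theorem D183894 : act 4 n87720 = n183894 := rfl
theorem F285728 : act 7 n183894 = n88359 := d11_2 (iv7 F134642) D183894 (iv4 D88359)
def n183895 : Q := act 6 n87720
theorem D183895 : act 6 n87720 = n183895 := rfl
theorem F285729 : act 3 n183895 = n87724 := d7_1 D183895 (iv6 D87724) (iv3 F134641)
def n183896 : Q := act 6 n87721
theorem D183896 : act 6 n87721 = n183896 := rfl
theorem F285730 : act 2 n183896 = n88314 := d3_1 D183896 (iv6 D88314) F134645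
theorem F285731 : act 5 n183896 = n182002 := d12_1 D183896 (iv6 D182002) (iv5 D86927) D86928 (iv5 F134643)
def n183897 : Q := act 3 n87722
theorem D183897 : act 3 n87722 = n183897 := rfl
theorem F285732 : act 5 n183897 = n182258 := d6_2 (iv5 F134649) D183897 (iv3 D182258)
theorem F285733 : act 7 n183897 = n88312 := d8_2 (iv7 F134648) D183897 (iv3 D88312)
def n183898 : Q := act 6 n87722
theorem D183898 : act 6 n87722 = n183898 := rfl
theorem F285734 : act 2 n183898 = n88318 := d3_1 D183898 (iv6 D88318) F134650
theorem F285735 : act 5 n183898 = n87812 := d12_1 D183898 (iv6 D87812) D87811 F134781 (iv5 F134649)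
def n183899 : Q := act 3 n87723
theorem D183899 : act 3 n87723 = n183899 := rfl
theorem F285736 : act 7 n183899 = n88364 := d8_2 (iv7 F134652) D183899 (iv3 D88364)
def n183900 : Q := act 6 n87723
theorem D183900 : act 6 n87723 = n183900 := rfl
theorem F285738 : act 4 n183900 = n87724 := d10_1 D183900 (iv6 D87724) D87723
def n183903 : Q := act 7 n87724
theorem D183903 : act 7 n87724 = n183903 := rfl
theorem F285740 : act 2 n183903 = n88324 := d4_1 D183903 (iv7 D88324) (iv2 F134653)
theorem F285741 : act 6 n183903 = n88369 := d14_1 D183903 (iv7 D88369) (iv6 D41252) (iv7 F61972) D87724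
theorem F285744 : act 1 n183903 = n88321 := d15_0 (iv0 D88321) D88324 (iv2 F285740)
def n183904 : Q := act 0 n87725
theorem D183904 : act 0 n87725 = n183904 := rfl
theorem F285745 : act 2 n88374 = n183904 := d15_3 (iv0 D183904) (iv0 F134655) (iv7 F135338)
theorem F285746 : act 1 n88375 = n183904 := d15_0 (iv0 D183904) F134654 D88375
theorem F285747 : act 6 n102634 = n183904 := d21_3 D40753 D87552 (iv5 F157833) (iv1 F285746) F135342 D183892 F285721 F151997 (iv6 D46090) F66245
theorem F285748 : act 7 n183904 = n88373 := d14_2 (iv7 F157834) F285747 F135340 F73866 D87885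
theorem E24976 : n100176 = n88375 := (c15_1 D100176 F285746 F285748 (iv2 F135339))
theorem F285749 : act 0 n88375 = n46753 := (sb E24976 (iv1 D100176))
def n183905 : Q := act 2 n87725
theorem D183905 : act 2 n87725 = n183905 := rfl
theorem F285750 : act 3 n183905 = n88338 := d0_2 D87725 D183905 (iv2 D88338) (iv3 D41231) (iv2 F61973)
theorem F285751 : act 6 n183905 = n100523 := d3_2 F135326 D183905 (iv2 F154577)
theorem F285752 : act 7 n183905 = n88375 := d4_2 (iv7 F134654) D183905 (iv2 D88375)
theorem F285753 : act 1 n183905 = n88373 := d15_0 (iv0 D88373) (iv7 F134654) D183905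
theorem F285754 : act 1 n88374 = n183905 := d15_0 F285753 (iv7 F285748) (iv2 F285745)
def n183906 : Q := act 3 n87726
theorem D183906 : act 3 n87726 = n183906 := rfl
theorem F285755 : act 7 n183906 = n88319 := d8_2 (iv7 F134657) D183906 (iv3 D88319)
def n183907 : Q := act 6 n87726
theorem D183907 : act 6 n87726 = n183907 := rfl
theorem F285756 : act 2 n183907 = n88365 := d3_1 D183907 (iv6 D88365) (iv2 F134656)
theorem F285757 : act 4 n183907 = n87727 := d10_1 D183907 (iv6 D87727) D87726
def n183908 : Q := act 0 n87727
theorem D183908 : act 0 n87727 = n183908 := rfl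
def n183909 : Q := act 1 n87727
theorem D183909 : act 1 n87727 = n183909 := rfl
theorem F285758 : act 1 n183909 = n88369 := d15_1 D183909 (iv7 D88369) (iv2 F134658)
def n183910 : Q := act 5 n87727
theorem D183910 : act 5 n87727 = n183910 := rfl
theorem F285759 : act 2 n183910 = n88368 := d2_1 D183910 (iv5 D88368) (iv2 F134658)
theorem F285760 : act 6 n183910 = n87728 := d12_2 D87727 D183910 (iv5 D87728) (iv6 D40866) D40865
def n183911 : Q := act 7 n87727
theorem D183911 : act 7 n87727 = n183911 := rfl
theorem F285761 : act 2 n183911 = n88369 := d4_1 D183911 (iv7 D88369) (iv2 F134658)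
theorem F285762 : act 6 n183911 = n88324 := d14_1 D183911 (iv7 D88324) (iv6 D41220) (iv7 F61976) D87727
theorem F285763 : act 1 n88369 = n183908 := d15_0 (iv0 D183908) D183911 F285761
theorem F285764 : act 1 n88367 = n183911 := d15_1 D88367 (iv7 D183911) F134658
theorem F285765 : act 1 n183911 = n88366 := d15_0 (iv0 D88366) D88369 (iv2 F285761)
def n183912 : Q := act 3 n87730
theorem D183912 : act 3 n87730 = n183912 := rfl
theorem F285768 : act 6 n183912 = n102681 := d7_2 (iv6 F134669) D183912 (iv3 D102681)
theorem F285769 : act 7 n183912 = n90800 := d8_2 (iv7 F134670) D183912 (iv3 D90800)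
def n183914 : Q := act 4 n87735
theorem D183914 : act 4 n87735 = n183914 := rfl
theorem F285773 : act 6 n183914 = n100681 := d10_2 (iv6 F159810) D183914 F159812
theorem F285775 : act 0 n183914 = n88607 := d18_2 F134695 D183914 (iv4 D88607) (iv5 D41354) D41353 (iv0 F63736) (iv4 F61670) F61674 D43257
def n183917 : Q := act 2 n87737
theorem D183917 : act 2 n87737 = n183917 := rfl
theorem F285779 : act 6 n183917 = n89670 := d3_2 (iv6 F134699) D183917 (iv2 D89670)
def n183920 : Q := act 5 n87740
theorem D183920 : act 5 n87740 = n183920 := rfl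
theorem F285783 : act 3 n183920 = n99521 := d6_1 D183920 (iv5 D99521) (iv3 F134706)
theorem F285784 : act 0 n87921 = n183920 := d21_7 (iv5 F129888) (iv1 F129891) F127855 D87335 F157233 D87410 (iv5 F134917) (iv5 D183920) (iv6 D87740) (iv1 F70101)
def n183921 : Q := act 5 n87741
theorem D183921 : act 5 n87741 = n183921 := rfl
def n183922 : Q := act 5 n87742
theorem D183922 : act 5 n87742 = n183922 := rfl
theorem F285785 : act 3 n183922 = n99639 := d6_1 D183922 (iv5 D99639) (iv3 F134707)
def n183923 : Q := act 6 n87742
theorem D183923 : act 6 n87742 = n183923 := rfl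
theorem F285786 : act 3 n183923 = n99640 := d7_1 D183923 (iv6 D99640) (iv3 F134707)
theorem F285787 : act 0 n183923 = n102637 := d20_10 (iv4 F158629) F158630 F156947 F74569 (iv1 F35425) D47553 F74756 F161652 (iv4 F153387) (iv3 F285786)
def n183924 : Q := act 5 n87743
theorem D183924 : act 5 n87743 = n183924 := rfl
def n183925 : Q := act 6 n87743
theorem D183925 : act 6 n87743 = n183925 := rfl
def n183926 : Q := act 0 n87744
theorem D183926 : act 0 n87744 = n183926 := rfl
def n183927 : Q := act 1 n87744
theorem D183927 : act 1 n87744 = n183927 := rfl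
def n183929 : Q := act 6 n87745
theorem D183929 : act 6 n87745 = n183929 := rfl
def n183930 : Q := act 3 n87746
theorem D183930 : act 3 n87746 = n183930 := rfl
def n183931 : Q := act 5 n87746
theorem D183931 : act 5 n87746 = n183931 := rfl
theorem F285793 : act 1 n183931 = n101413 := d17_6 (iv1 F134172) (iv5 D48220) F66874 D40885 D87746 D183931 (iv5 D101413) F156191 F156190
def n183932 : Q := act 3 n87747
theorem D183932 : act 3 n87747 = n183932 := rfl
def n183936 : Q := act 5 n87748
theorem D183936 : act 5 n87748 = n183936 := rfl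
theorem F285795 : act 0 n183936 = n183033 := d21_1 D183936 (iv5 D183033) (iv6 D87379) (iv1 D40610) (iv6 D19179) D19178 F30820 (iv5 F30929) D40891 D87748
def n183937 : Q := act 6 n87748
theorem D183937 : act 6 n87748 = n183937 := rfl
theorem F285796 : act 5 n183937 = n182998 := d21_6 D19178 F30820 (iv5 F30929) D40891 D87748 D183937 (iv1 D182998) (iv5 D87361) (iv6 D40606) (iv1 D19176)
def n183943 : Q := act 0 n87750
theorem D183943 : act 0 n87750 = n183943 := rfl
def n183944 : Q := act 1 n87750
theorem D183944 : act 1 n87750 = n183944 := rfl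
def n183945 : Q := act 4 n87750
theorem D183945 : act 4 n87750 = n183945 := rfl
theorem F285798 : act 6 n183945 = n118098 := d10_2 (iv6 F134714) D183945 (iv4 D118098)
def n183946 : Q := act 7 n87750
theorem D183946 : act 7 n87750 = n183946 := rfl
def n183947 : Q := act 0 n87752
theorem D183947 : act 0 n87752 = n183947 := rfl
def n183948 : Q := act 1 n87752
theorem D183948 : act 1 n87752 = n183948 := rfl
def n183949 : Q := act 5 n87752
theorem D183949 : act 5 n87752 = n183949 := rfl
theorem F285802 : act 2 n183949 = n177721 := d2_1 D183949 (iv5 D177721) (iv2 F134717)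
theorem F285803 : act 3 n183949 = n87755 := d6_1 D183949 (iv5 D87755) (iv3 F134718)
theorem F285804 : act 6 n183949 = n149044 := d12_2 D87752 D183949 (iv5 D149044) (iv6 D69906) (iv5 F61993)
def n183950 : Q := act 7 n87752
theorem D183950 : act 7 n87752 = n183950 := rfl
def n183955 : Q := act 6 n87753
theorem D183955 : act 6 n87753 = n183955 := rfl
theorem F285812 : act 5 n183955 = n182980 := d21_6 F61391 (iv1 F41926) F30934 D40893 D87753 D183955 (iv1 D182980) (iv5 D87356) (iv6 D40604) (iv1 F61393)
def n183960 : Q := act 6 n87754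
theorem D183960 : act 6 n87754 = n183960 := rfl
theorem F285814 : act 5 n183016 = n183960 := d21_2 D87373 D183016 (iv6 D183960) (iv1 D87754) (iv6 D40893) (iv5 F30934) (iv1 F30818) (iv5 D19178) D19179 D40609
def n183961 : Q := act 0 n87755
theorem D183961 : act 0 n87755 = n183961 := rfl
def n183962 : Q := act 1 n87755
theorem D183962 : act 1 n87755 = n183962 := rfl
theorem F285815 : act 1 n183962 = n149110 := d15_1 D183962 (iv7 D149110) (iv2 F134721)
theorem F285816 : act 5 n150140 = n183962 := d21_6 F27837 (iv1 D15687) D15688 D32772 D70663 D150140 (iv1 D183962) (iv5 D87755) (iv6 D40893) (iv1 D19274)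
def n183963 : Q := act 4 n87755
theorem D183963 : act 4 n87755 = n183963 := rfl
theorem F285817 : act 2 n183963 = n149109 := d1_1 D183963 (iv4 D149109) (iv2 F134721)
theorem F285818 : act 6 n183963 = n149053 := d10_2 (iv6 F134722) D183963 (iv4 D149053)
def n183964 : Q := act 7 n87755
theorem D183964 : act 7 n87755 = n183964 := rfl
theorem F285819 : act 2 n183964 = n149110 := d4_1 D183964 (iv7 D149110) (iv2 F134721)
theorem F285821 : act 1 n149110 = n183961 := d15_0 (iv0 D183961) D183964 F285819
theorem F285822 : act 1 n149108 = n183964 := d15_1 D149108 (iv7 D183964) F134721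
theorem F285823 : act 1 n183964 = n149107 := d15_0 (iv0 D149107) D149110 (iv2 F285819)
def n183965 : Q := act 3 n87757
theorem D183965 : act 3 n87757 = n183965 := rfl
theorem F285824 : act 2 n183965 = n99547 := d0_1 D183965 F177411 F154177 (iv3 F73805) (iv2 F154190)
theorem F285825 : act 4 n183965 = n99547 := d5_2 F134735 D183965 F177411 (iv4 D46702) D46701
theorem F285826 : act 7 n183965 = n87766 := d8_2 (iv7 F154191) D183965 (iv3 D87766)
theorem F285827 : act 0 n183965 = n99550 := d20_10 F153299 (iv1 F177421) F62235 (iv3 D22569) (iv1 F62714) (iv3 F17255) (iv4 F35207) F73820 F134735 D183965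
theorem F285828 : act 0 n97943 = n183965 := d20_4 D99485 (iv1 F177360) F159045 (iv3 F150960) (iv3 D183965) (iv4 F134735) (iv1 F143900) F143897 (iv3 F153237) (iv1 F153241)
def n183966 : Q := act 5 n87757
theorem D183966 : act 5 n87757 = n183966 := rfl
theorem F285829 : act 2 n183966 = n87763 := d2_1 D183966 (iv5 D87763) (iv2 F154190)
theorem F285830 : act 7 n183966 = n87768 := d13_2 (iv7 F154191) D183966 (iv5 D87768)
def n183967 : Q := act 5 n87758
theorem D183967 : act 5 n87758 = n183967 := rfl
theorem F285831 : act 2 n183967 = n87768 := d2_1 D183967 (iv5 D87768) (iv2 F154186)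
theorem F285832 : act 3 n183967 = n100019 := d6_1 D183967 (iv5 D100019) (iv3 F134729)
theorem F285833 : act 7 n183967 = n87763 := d13_2 (iv7 F154187) D183967 (iv5 D87763)
def n183968 : Q := act 6 n87758
theorem D183968 : act 6 n87758 = n183968 := rfl
theorem F285834 : act 2 n183968 = n87769 := d3_1 D183968 (iv6 D87769) (iv2 F154186)
theorem F285835 : act 3 n183968 = n100020 := d7_1 D183968 (iv6 D100020) (iv3 F134729)
theorem F285836 : act 4 n183968 = n101056 := d10_1 D183968 (iv6 D101056) (iv4 F134730)
def n183969 : Q := act 0 n87759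
theorem D183969 : act 0 n87759 = n183969 := rfl
def n183970 : Q := act 1 n87759
theorem D183970 : act 1 n87759 = n183970 := rfl
theorem F285837 : act 1 n183970 = n87773 := d15_1 D183970 (iv7 D87773) (iv2 F134731)
theorem F285838 : act 5 n98416 = n183970 := d21_6 (iv5 F41911) F41912 F30604 D40330 F72625 D98416 (iv1 D183970) (iv5 D87759) (iv6 D40894) (iv1 F35173)
theorem F285839 : act 2 n183970 = n87771 := d2_1 F285838 (iv5 F284642) F284640
theorem F285840 : act 3 n183970 = n98429 := d6_1 F285838 (iv5 D98429) (iv3 F151840)
theorem F285841 : act 4 n183970 = n101114 := d20_6 (iv4 F74130) (iv1 F153067) F153064 (iv3 F153013) (iv1 F153015) (iv3 F285840) (iv1 D101114) (iv4 D47100) F35218 D22669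
def n183971 : Q := act 4 n87759
theorem D183971 : act 4 n87759 = n183971 := rfl
theorem F285842 : act 2 n183971 = n87772 := d1_1 D183971 (iv4 D87772) (iv2 F134731)
def n183972 : Q := act 7 n87759
theorem D183972 : act 7 n87759 = n183972 := rfl
theorem F285843 : act 2 n183972 = n87773 := d4_1 D183972 (iv7 D87773) (iv2 F134731)
theorem F285844 : act 5 n183972 = n87760 := d13_1 D183972 (iv7 D87760) D87759
theorem F285845 : act 1 n87773 = n183969 := d15_0 (iv0 D183969) D183972 F285843
theorem F285846 : act 1 n87771 = n183972 := d15_1 D87771 (iv7 D183972) F134731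
theorem F285847 : act 7 n183969 = n87771 := d15_2 F285837 F285845 (iv2 F285839)
theorem F285848 : act 2 n183969 = n87770 := d15_3 (iv0 D87770) D87771 (iv7 F285847)
theorem F285849 : act 7 n87770 = n183970 := d4_2 (iv7 F285847) F285848 F285839
theorem F285850 : act 3 n99356 = n87770 := d8_3 F285849 F285840 (iv7 F277388)
theorem F285851 : act 1 n183972 = n87770 := d15_1 F285846 F285849 F285839
def n183973 : Q := act 5 n87762
theorem D183973 : act 5 n87762 = n183973 := rfl
theorem F285852 : act 2 n183973 = n99998 := d2_1 D183973 (iv5 D99998) (iv2 F154188)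
theorem F285853 : act 7 n183973 = n101055 := d13_2 (iv7 F154189) D183973 (iv5 D101055)
def n183974 : Q := act 6 n87762
theorem D183974 : act 6 n87762 = n183974 := rfl
theorem F285854 : act 2 n183974 = n99999 := d3_1 D183974 (iv6 D99999) (iv2 F154188)
theorem F285855 : act 4 n183974 = n87764 := d10_1 D183974 (iv6 D87764) D87762
theorem F285856 : act 5 n183974 = n181982 := d21_6 (iv5 D15688) D15686 F35170 D47072 (iv1 F143901) D183974 (iv1 D181982) (iv5 D86919) (iv6 D40330) F30603
def n183975 : Q := act 0 n87763
theorem D183975 : act 0 n87763 = n183975 := rfl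
theorem F285857 : act 1 n87768 = n183975 := d15_0 (iv0 D183975) (iv7 F285833) F285831
def n183976 : Q := act 1 n87763
theorem D183976 : act 1 n87763 = n183976 := rfl
theorem F285858 : act 1 n183976 = n87768 := d15_1 D183976 (iv7 F285830) F285829
def n183977 : Q := act 4 n87763
theorem D183977 : act 4 n87763 = n183977 := rfl
def n183978 : Q := act 6 n87763
theorem D183978 : act 6 n87763 = n183978 := rfl
def n183979 : Q := act 0 n87764
theorem D183979 : act 0 n87764 = n183979 := rfl
def n183980 : Q := act 1 n87764
theorem D183980 : act 1 n87764 = n183980 := rfl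
def n183981 : Q := act 1 n87766
theorem D183981 : act 1 n87766 = n183981 := rfl
theorem F285859 : act 1 n183981 = n99547 := d15_1 D183981 F177412 F153008
theorem F285860 : act 7 n183981 = n97943 := d15_2 (iv0 F177413) D183981 F150959
theorem F285861 : act 4 n91349 = n183981 := d20_0 (iv1 D183981) (iv4 F153009) (iv3 D99353) (iv1 D46459) F34735 F17139 D10613 D22269 D46474 (iv1 F140445)
theorem F285862 : act 2 n183981 = n99550 := d1_1 F285861 F153299 (iv2 F177422)
theorem F285863 : act 6 n183981 = n99522 := d10_2 (iv6 F177423) F285861 F153287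
theorem F285864 : act 3 n183981 = n87798 := d20_3 F73398 (iv1 F140445) F285861 (iv1 F154429) (iv3 D100396) (iv4 F138917) F177382 (iv4 F73531) F73530 (iv1 F177416)
def n183982 : Q := act 5 n87766
theorem D183982 : act 5 n87766 = n183982 := rfl
theorem F285865 : act 3 n183982 = n87768 := d6_1 D183982 (iv5 D87768) D87766
def n183983 : Q := act 6 n87766
theorem D183983 : act 6 n87766 = n183983 := rfl
theorem F285866 : act 3 n183983 = n87769 := d7_1 D183983 (iv6 D87769) D87766
def n183984 : Q := act 5 n87767
theorem D183984 : act 5 n87767 = n183984 := rfl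
theorem F285867 : act 2 n183984 = n101055 := d2_1 D183984 (iv5 D101055) (iv2 F154179)
theorem F285868 : act 3 n183984 = n99978 := d6_1 D183984 (iv5 D99978) F134741
theorem F285869 : act 7 n183984 = n99998 := d13_2 (iv7 F154180) D183984 (iv5 D99998)
def n183985 : Q := act 6 n87767
theorem D183985 : act 6 n87767 = n183985 := rfl
theorem F285870 : act 2 n183985 = n101056 := d3_1 D183985 (iv6 D101056) (iv2 F154179)
theorem F285871 : act 3 n183985 = n99979 := d7_1 D183985 (iv6 D99979) F134741
theorem F285872 : act 4 n183985 = n87769 := d10_1 D183985 (iv6 D87769) D87767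
def n183986 : Q := act 4 n87768
theorem D183986 : act 4 n87768 = n183986 := rfl
def n183987 : Q := act 6 n87768
theorem D183987 : act 6 n87768 = n183987 := rfl
def n183988 : Q := act 0 n87769
theorem D183988 : act 0 n87769 = n183988 := rfl
def n183989 : Q := act 1 n87769
theorem D183989 : act 1 n87769 = n183989 := rfl
def n183990 : Q := act 5 n87769
theorem D183990 : act 5 n87769 = n183990 := rfl
theorem F285873 : act 0 n150139 = n183990 := d21_1 D150139 (iv5 D183990) (iv6 D87769) (iv1 D40896) (iv6 D19276) F27837 (iv1 D15687) D15688 D32772 D70663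
def n183991 : Q := act 7 n87769
theorem D183991 : act 7 n87769 = n183991 := rfl
def n183992 : Q := act 4 n87770
theorem D183992 : act 4 n87770 = n183992 := rfl
theorem F285874 : act 7 n183992 = n101114 := d11_2 (iv7 F285849) D183992 (iv4 F285841)
theorem F285875 : act 0 n183992 = n101117 := d18_2 D87770 D183992 F155777 F74348 (iv4 F68581) (iv0 F134738) (iv4 D87762) (iv0 D40895) D40897
theorem F285876 : act 2 n183992 = n101113 := d15_3 (iv0 D101113) D101114 (iv7 F285874)
theorem F285877 : act 4 n101113 = n183969 := d1_2 D183992 F285876 F285848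
def n183993 : Q := act 5 n87770
theorem D183993 : act 5 n87770 = n183993 := rfl
theorem F285878 : act 3 n183993 = n98430 := d6_1 D183993 F277389 F285850
theorem F285879 : act 7 n183993 = n98416 := d13_2 (iv7 F285849) D183993 F285838
def n183994 : Q := act 6 n87770
theorem D183994 : act 6 n87770 = n183994 := rfl
def n183995 : Q := act 3 n87771
theorem D183995 : act 3 n87771 = n183995 := rfl
def n183996 : Q := act 4 n87771
theorem D183996 : act 4 n87771 = n183996 := rfl
theorem F285880 : act 2 n183996 = n101114 := d1_1 D183996 (iv4 F285841) F285839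
theorem F285881 : act 7 n183996 = n101113 := d11_2 F285847 D183996 F285877
theorem F285882 : act 0 n183996 = n101045 := d18_2 (iv1 F285846) D183996 (iv4 D101045) (iv5 D47075) (iv4 F74322) F134742 (iv4 D87767) F134734 (iv5 F285844)
theorem F285883 : act 1 n183996 = n101117 := d15_1 (iv0 F285882) (iv7 D101117) (iv2 F155704)
theorem F285884 : act 1 n183992 = n101045 := d15_0 (iv0 F285882) F285881 (iv2 F285876)
def n183997 : Q := act 6 n87771
theorem D183997 : act 6 n87771 = n183997 := rfl
def n183998 : Q := act 0 n87772
theorem D183998 : act 0 n87772 = n183998 := rfl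
def n183999 : Q := act 3 n87772
theorem D183999 : act 3 n87772 = n183999 := rfl
theorem F285885 : act 4 n183999 = n87818 := d5_2 D87772 D183999 (iv3 D87818) (iv4 D40918) (iv3 F61999)
def n184000 : Q := act 5 n87772
theorem D184000 : act 5 n87772 = n184000 := rfl
def n184001 : Q := act 7 n87772
theorem D184001 : act 7 n87772 = n184001 := rfl
theorem F285886 : act 4 n184001 = n87773 := d11_1 D184001 (iv7 D87773) D87772
def n184002 : Q := act 6 n87773
theorem D184002 : act 6 n87773 = n184002 := rfl
theorem F285887 : act 3 n184002 = n87821 := d7_1 D184002 (iv6 D87821) (iv3 F134743)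
def n184003 : Q := act 6 n87774
theorem D184003 : act 6 n87774 = n184003 := rfl
theorem F285888 : act 2 n184003 = n100811 := d3_1 D184003 (iv6 D100811) (iv2 F134745)
theorem F285889 : act 3 n184003 = n98192 := d7_1 D184003 (iv6 D98192) (iv3 F134746)
theorem F285890 : act 4 n184003 = n87775 := d10_1 D184003 (iv6 D87775) D87774
theorem F285891 : act 7 n172905 = n184003 := d8_0 F285889 F275514 D172905
def n184005 : Q := act 1 n87775
theorem D184005 : act 1 n87775 = n184005 := rfl
def n184007 : Q := act 7 n87775
theorem D184007 : act 7 n87775 = n184007 := rfl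
theorem F285894 : act 3 n184007 = n87779 := d8_1 D184007 (iv7 D87779) (iv3 F134750)
theorem F285895 : act 4 n184007 = n172905 := d11_1 D184007 F285891 F285890
theorem F285897 : act 0 n158371 = n184007 := d20_1 D158371 F285895 (iv3 D172905) (iv1 D82774) (iv3 D38043) (iv4 F118012) F118019 (iv4 F27523) (iv3 F54820) D75531
theorem E24977 : n172905 = n172804 := (c20_7 F107086 (iv1 F190479) F107073 (iv3 F275530) (iv1 F134758) (iv3 F285894) F285895 (iv1 F271066) F236410 (iv3 D70715) (iv1 F190485))
theorem F285898 : act 3 n172804 = n82774 := (sb E24977 (iv3 D172905))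
theorem F285900 : act 7 n172804 = n184003 := (sb E24977 F285891)
theorem E24978 : n172805 = n100811 := ((c15_4 F271067 F271066 F285900 F285888)).symm
theorem F285901 : act 0 n100811 = n82736 := (sb E24978 (iv1 D172805))
theorem E24979 : n171220 = n100402 := (((F154912).symm.trans (sb E24978 F271068))).symm
theorem F285903 : act 0 n100402 = n158371 := (sb E24979 F271069)
theorem E24980 : n82046 = n46861 := (((F154446).symm.trans (sb E24979 (iv3 D171220)))).symm
theorem E24981 : n100405 = n37598 := ((D100405).symm.trans (sb E24980 (iv1 D82046)))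
theorem E24982 : n170935 = n100406 := (((D100406).symm.trans (sb E24980 F268535))).symm
theorem E24984 : n171221 = n100404 := ((((iv4 F154453)).symm.trans (sb E24980 D171221))).symm
theorem E24988 : n98865 = n82045 := (((D82045).symm.trans (sb E24981 (iv1 F154459)))).symm
theorem F285904 : act 1 n37598 = n46861 := (sb E24981 (iv0 D100405))
theorem F285905 : act 2 n100406 = n81935 := (sb E24982 (iv2 D170935))
theorem F285906 : act 3 n100406 = n82062 := (sb E24982 F268531)
theorem E24989 : n122911 = n120297 := ((((iv3 F191554)).symm.trans (sb E24984 (iv3 F268946)))).symm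
theorem E24990 : n150165 = n87349 := ((F265291).symm.trans (sb E24988 F152416))
theorem E24992 : n171218 = n100414 := ((D171218).symm.trans (sb E24988 (iv6 F154473)))
theorem F285912 : act 1 n120297 = n57171 := (sb E24989 (iv0 D122911))
theorem E24993 : n87777 = n70673 := (((iv1 F134751)).symm.trans (sb E24990 (iv1 D150165)))
theorem E24994 : n182949 = n87776 := (((F134756).symm.trans (sb E24990 F284532))).symm
theorem F285913 : act 3 n87349 = n82045 := (sb E24990 (iv3 F265291))
theorem F285915 : act 6 n100414 = n82045 := (sb E24992 (iv6 D171218))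
theorem E24996 : n150164 = n40900 := ((D150164).symm.trans (sb E24993 (iv1 D87777)))
theorem F285917 : act 2 n87776 = n87346 := (sb E24994 (iv2 D182949))
theorem F285918 : act 3 n87776 = n150152 := (sb E24994 F284528)
theorem F285919 : act 4 n87776 = n151860 := (sb E24994 F284529)
theorem E25002 : n80797 = n80756 := ((((iv4 F124258)).symm.trans (sb E24996 F268575))).symm
theorem F285927 : act 1 n80756 = n36893 := (sb E25002 (iv0 D80797))
theorem E25003 : n168391 = n168256 := ((((iv3 F265217)).symm.trans (sb E25002 D168391))).symm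
theorem E25006 : n98785 = n98192 := (((F265218).symm.trans (sb E25003 F265323))).symm
theorem F285928 : act 0 n98192 = n46209 := (sb E25006 (iv1 D98785))
theorem F285932 : act 4 n158362 = n184005 := d20_0 (iv1 D184005) (iv4 F285890) F285889 F285928 (iv3 D46209) (iv4 D22109) (iv1 F34467) (iv4 F54826) (iv3 F113377) (iv1 F249514)
theorem F285934 : act 0 n180902 = n168410 := d21_1 D180902 (iv5 D168410) (iv6 D80802) (iv1 F285927) (iv6 D80756) F57816 (iv1 F30186) D18918 D40009 D86405
theorem F285945 : act 0 n171232 = n177809 := d21_7 (iv5 D19584) D19581 (iv5 F35068) D46861 (iv1 F285904) D82049 D171232 (iv5 D177809) (iv6 D84662) (iv1 F60114)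
def n184009 : Q := act 6 n87776
theorem D184009 : act 6 n87776 = n184009 := rfl
theorem F285950 : act 2 n184009 = n182951 := d3_1 D184009 (iv6 D182951) (iv2 F285917)
def n184014 : Q := act 2 n87780
theorem D184014 : act 2 n87780 = n184014 := rfl
theorem F285961 : act 7 n87781 = n184014 := d15_2 (iv0 D87780) D87781 (iv2 D184014)
def n184016 : Q := act 4 n87780
theorem D184016 : act 4 n87780 = n184016 := rfl
def n184019 : Q := act 7 n87780
theorem D184019 : act 7 n87780 = n184019 := rfl
theorem F285962 : act 2 n184019 = n87781 := d4_1 D184019 F285961 (iv2 D184014)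
def n184020 : Q := act 3 n87781
theorem D184020 : act 3 n87781 = n184020 := rfl
def n184021 : Q := act 4 n87781
theorem D184021 : act 4 n87781 = n184021 := rfl
def n184024 : Q := act 0 n87782
theorem D184024 : act 0 n87782 = n184024 := rfl
def n184025 : Q := act 1 n87782
theorem D184025 : act 1 n87782 = n184025 := rfl
theorem F285963 : act 1 n184025 = n182946 := d15_1 D184025 (iv7 D182946) (iv2 F134760)
theorem F285964 : act 5 n183059 = n184025 := d21_6 (iv5 D9064) D9061 (iv5 F30822) D40614 D87385 D183059 (iv1 D184025) (iv5 D87782) (iv6 D40901) (iv1 D19278)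
def n184026 : Q := act 4 n87782
theorem D184026 : act 4 n87782 = n184026 := rfl
theorem F285965 : act 2 n184026 = n182945 := d1_1 D184026 (iv4 D182945) (iv2 F134760)
theorem F285966 : act 6 n184026 = n181977 := d10_2 (iv6 F134761) D184026 (iv4 D181977)
def n184027 : Q := act 7 n87782
theorem D184027 : act 7 n87782 = n184027 := rfl
theorem F285967 : act 2 n184027 = n182946 := d4_1 D184027 (iv7 D182946) (iv2 F134760)
theorem F285968 : act 5 n184027 = n87783 := d13_1 D184027 (iv7 D87783) D87782
theorem F285969 : act 1 n182946 = n184024 := d15_0 (iv0 D184024) D184027 F285967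
theorem F285970 : act 1 n182944 = n184027 := d15_1 D182944 (iv7 D184027) F134760
theorem F285971 : act 5 n183099 = n184024 := d21_0 (iv1 F285969) F284526 (iv6 F134755) (iv1 F134757) D182955 (iv5 F284708) (iv1 F284709) (iv5 D87401) D87402 D183099
theorem F285972 : act 1 n184027 = n182943 := d15_0 (iv0 D182943) D182946 (iv2 F285967)
def n184030 : Q := act 5 n87784
theorem D184030 : act 5 n87784 = n184030 := rfl
theorem F285975 : act 2 n184030 = n87787 := d2_1 D184030 (iv5 D87787) D87784
theorem F285976 : act 7 n184030 = n87792 := d13_2 F134767 D184030 (iv5 D87792)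
def n184031 : Q := act 6 n87784
theorem D184031 : act 6 n87784 = n184031 := rfl
theorem F285977 : act 2 n184031 = n87788 := d3_1 D184031 (iv6 D87788) D87784
theorem F285978 : act 5 n183455 = n184031 := d2_0 F285977 F134768 (iv2 F285208)
theorem F285979 : act 7 n184031 = n183453 := d13_2 D183455 F285978 (iv5 D183453)
def n184032 : Q := act 0 n87785
theorem D184032 : act 0 n87785 = n184032 := rfl
theorem F285980 : act 4 n184032 = n158190 := d20_0 (iv1 D158190) (iv4 F195688) (iv3 D122358) (iv1 D56679) F44080 (iv4 F57823) D80758 F233091 D87785 D184032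
def n184033 : Q := act 1 n87785
theorem D184033 : act 1 n87785 = n184033 := rfl
def n184034 : Q := act 4 n87785
theorem D184034 : act 4 n87785 = n184034 := rfl
theorem F285981 : act 3 n184034 = n158717 := d5_1 D184034 (iv4 F265231) (iv3 D168266) F233091 D87785
theorem F285982 : act 4 n158189 = n184033 := d20_0 (iv1 D184033) D184034 F285981 (iv1 D158717) (iv3 D75713) F59784 (iv1 F57779) F59780 D75337 D158189
theorem F285984 : act 0 n99474 = n184034 := d20_7 (iv4 F159702) (iv1 F159705) F233117 F155409 (iv1 D46513) (iv3 F73487) (iv4 F153244) (iv4 D184034) (iv3 D87785) (iv1 F75772)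
def n184035 : Q := act 5 n87785
theorem D184035 : act 5 n87785 = n184035 := rfl
theorem F285985 : act 3 n184035 = n87787 := d6_1 D184035 (iv5 D87787) D87785
def n184036 : Q := act 6 n87785
theorem D184036 : act 6 n87785 = n184036 := rfl
theorem F285986 : act 3 n184036 = n87788 := d7_1 D184036 (iv6 D87788) D87785
theorem F285987 : act 5 n183456 = n184036 := d6_0 F285986 F134768 D183456
def n184037 : Q := act 7 n87785
theorem D184037 : act 7 n87785 = n184037 := rfl
theorem F285988 : act 3 n184037 = n87789 := d8_1 D184037 (iv7 D87789) D87785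
def n184038 : Q := act 0 n87787
theorem D184038 : act 0 n87787 = n184038 := rfl
theorem F285989 : act 5 n184038 = n183078 := d21_2 D87787 D184038 (iv6 D183078) (iv1 D87390) (iv6 D40615) F30825 (iv1 D9062) D9064 D19279 D40902
def n184039 : Q := act 1 n87787
theorem D184039 : act 1 n87787 = n184039 := rfl
theorem F285990 : act 1 n184039 = n87792 := d15_1 D184039 (iv7 F285976) F285975
def n184040 : Q := act 4 n87787
theorem D184040 : act 4 n87787 = n184040 := rfl
def n184041 : Q := act 6 n87787
theorem D184041 : act 6 n87787 = n184041 := rfl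
theorem F285991 : act 5 n184041 = n183458 := d12_1 D184041 (iv6 D183458) (iv5 F134768) (iv6 D87788) D87787
def n184042 : Q := act 7 n87787
theorem D184042 : act 7 n87787 = n184042 := rfl
theorem F285992 : act 2 n184042 = n87792 := d4_1 D184042 (iv7 F285976) F285975
theorem F285993 : act 5 n184042 = n87789 := d13_1 D184042 (iv7 D87789) D87787
theorem F285994 : act 1 n87792 = n184038 := d15_0 (iv0 D184038) D184042 F285992
def n184043 : Q := act 0 n87788
theorem D184043 : act 0 n87788 = n184043 := rfl
def n184044 : Q := act 1 n87788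
theorem D184044 : act 1 n87788 = n184044 := rfl
theorem F285995 : act 1 n184044 = n183453 := d15_1 D184044 (iv7 F285979) F285977
def n184045 : Q := act 7 n87788
theorem D184045 : act 7 n87788 = n184045 := rfl
theorem F285996 : act 2 n184045 = n183453 := d4_1 D184045 (iv7 F285979) F285977
theorem F285997 : act 5 n184045 = n183450 := d13_1 D184045 (iv7 F285207) (iv5 F134768)
theorem F285998 : act 1 n183453 = n184043 := d15_0 (iv0 D184043) D184045 F285996
def n184047 : Q := act 4 n87792
theorem D184047 : act 4 n87792 = n184047 := rfl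
def n184048 : Q := act 6 n87792
theorem D184048 : act 6 n87792 = n184048 := rfl
def n184051 : Q := act 5 n87793
theorem D184051 : act 5 n87793 = n184051 := rfl
theorem F286000 : act 0 n183058 = n184051 := d21_1 D183058 (iv5 D184051) (iv6 D87793) (iv1 D40903) (iv6 D19279) (iv5 D9064) D9061 (iv5 F30822) D40614 D87385
def n184052 : Q := act 7 n87793
theorem D184052 : act 7 n87793 = n184052 := rfl
theorem F286001 : act 6 n184052 = n183453 := d14_1 D184052 (iv7 F285979) (iv6 D184031) (iv7 F134767) D87793
theorem F286002 : act 0 n184052 = n182951 := d21_4 D40757 D87566 D183453 (iv6 F286001) (iv6 D182951) D182950 F285205 (iv5 D183448) (iv6 D87565) (iv1 D40756)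
def n184053 : Q := act 3 n87794
theorem D184053 : act 3 n87794 = n184053 := rfl
def n184054 : Q := act 4 n87794
theorem D184054 : act 4 n87794 = n184054 := rfl
def n184055 : Q := act 6 n87794
theorem D184055 : act 6 n87794 = n184055 := rfl
theorem F286004 : act 5 n184055 = n182272 := d21_6 (iv5 D40914) (iv1 D19281) D19282 (iv6 F62005) D87794 D184055 (iv1 D182272) D182273 F283718 (iv1 F133589)
def n184056 : Q := act 4 n87795
theorem D184056 : act 4 n87795 = n184056 := rfl
theorem F286005 : act 0 n184056 = n99890 := d18_2 (iv1 F159716) D184056 (iv4 D99890) (iv5 D46647) (iv4 F57823) D80759 (iv4 F265225) F75771 (iv5 F159714)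
def n184057 : Q := act 6 n87795
theorem D184057 : act 6 n87795 = n184057 := rfl
def n184058 : Q := act 0 n87796
theorem D184058 : act 0 n87796 = n184058 := rfl
def n184059 : Q := act 1 n87796
theorem D184059 : act 1 n87796 = n184059 := rfl
theorem F286006 : act 4 n184059 = n88014 := d18_7 (iv1 F73706) (iv4 F233117) (iv1 D86573) F61025 D40904 D87796 D184059 F153798 F153796
def n184060 : Q := act 3 n87796
theorem D184060 : act 3 n87796 = n184060 := rfl
theorem F286007 : act 6 n184060 = n87818 := d7_2 (iv6 F134770) D184060 (iv3 D87818)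
def n184061 : Q := act 5 n87796
theorem D184061 : act 5 n87796 = n184061 := rfl
def n184062 : Q := act 7 n87796
theorem D184062 : act 7 n87796 = n184062 := rfl
theorem F286008 : act 4 n184062 = n87797 := d11_1 D184062 (iv7 D87797) D87796
def n184063 : Q := act 6 n87797
theorem D184063 : act 6 n87797 = n184063 := rfl
theorem F286009 : act 7 n184063 = n87821 := d14_2 D87797 D184063 (iv6 D87821) (iv7 D40919) (iv6 F62005)
def n184064 : Q := act 4 n87798
theorem D184064 : act 4 n87798 = n184064 := rfl
theorem F286010 : act 7 n184064 = n103646 := d11_2 F177381 D184064 F159045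
theorem F286011 : act 3 n184064 = n103612 := d20_3 F75048 D87798 D184064 (iv1 D103612) (iv3 D47989) (iv4 F62947) (iv1 D40971) (iv4 F33681) (iv3 F70591) F75051
theorem F286012 : act 0 n103588 = n184064 := d20_10 (iv4 D184064) (iv1 F154429) F154425 F139564 F176020 (iv3 F146944) (iv4 F147980) F176036 (iv4 D103589) D103588
def n184065 : Q := act 5 n87798
theorem D184065 : act 5 n87798 = n184065 := rfl
def n184066 : Q := act 0 n87800
theorem D184066 : act 0 n87800 = n184066 := rfl
def n184067 : Q := act 1 n87800
theorem D184067 : act 1 n87800 = n184067 := rfl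
def n184068 : Q := act 4 n87800
theorem D184068 : act 4 n87800 = n184068 := rfl
def n184069 : Q := act 6 n87800
theorem D184069 : act 6 n87800 = n184069 := rfl
theorem F286013 : act 3 n184069 = n87804 := d7_1 D184069 (iv6 D87804) (iv3 F134772)
def n184070 : Q := act 0 n87801
theorem D184070 : act 0 n87801 = n184070 := rfl
theorem F286014 : act 3 n184070 = n183768 := d20_5 F62382 (iv1 F65766) (iv4 F66269) (iv3 F134773) D184070 F285553 F284787 F134204 (iv3 D87437) (iv1 F66261)
theorem F286015 : act 6 n88288 = n184070 := d7_0 F286014 (iv6 D183768) (iv3 F135201)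
theorem F286016 : act 5 n183119 = n184070 := d21_2 D87409 D183119 (iv6 F286015) F147050 (iv6 D95433) (iv5 F129888) (iv1 F129891) F127855 D87335 F157233
def n184071 : Q := act 1 n87801
theorem D184071 : act 1 n87801 = n184071 := rfl
def n184072 : Q := act 3 n87802
theorem D184072 : act 3 n87802 = n184072 := rfl
def n184073 : Q := act 6 n87802
theorem D184073 : act 6 n87802 = n184073 := rfl
def n184074 : Q := act 3 n87803
theorem D184074 : act 3 n87803 = n184074 := rfl
def n184075 : Q := act 5 n87803
theorem D184075 : act 5 n87803 = n184075 := rfl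
theorem F286017 : act 4 n184075 = n87842 := d16_2 D87803 D184075 F134811 (iv4 D46657) (iv5 D22371) F66124 D40914 (iv7 F75774) F75773
theorem F286019 : act 1 n184075 = n99898 := d17_6 (iv1 D40917) (iv5 D19282) D19280 D40909 D87803 D184075 (iv5 D99898) (iv0 F134785) (iv4 D87814)
def n184076 : Q := act 6 n87803
theorem D184076 : act 6 n87803 = n184076 := rfl
theorem F286020 : act 4 n184076 = n87804 := d10_1 D184076 (iv6 D87804) D87803
def n184077 : Q := act 0 n87804
theorem D184077 : act 0 n87804 = n184077 := rfl
def n184078 : Q := act 1 n87804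
theorem D184078 : act 1 n87804 = n184078 := rfl
def n184079 : Q := act 7 n87804
theorem D184079 : act 7 n87804 = n184079 := rfl
def n184080 : Q := act 3 n87805
theorem D184080 : act 3 n87805 = n184080 := rfl
def n184081 : Q := act 5 n87805
theorem D184081 : act 5 n87805 = n184081 := rfl
theorem F286021 : act 4 n184081 = n87841 := d9_1 D184081 F134810 (iv4 D46654) (iv5 D22366) F66125 D40909 D87803 D184075 F286017 F134811 (iv4 D46657) (iv5 D22371) F66124 D40914 D87805
theorem F286022 : act 0 n184081 = n99898 := d17_2 F140340 D184081 (iv5 D99898) (iv4 D46651) (iv5 D22361) (iv0 F65776) D42751 F66979 D91271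
def n184082 : Q := act 6 n87805
theorem D184082 : act 6 n87805 = n184082 := rfl
theorem F286024 : act 4 n184082 = n87806 := d10_1 D184082 (iv6 D87806) D87805
def n184083 : Q := act 0 n87806
theorem D184083 : act 0 n87806 = n184083 := rfl
def n184084 : Q := act 1 n87806
theorem D184084 : act 1 n87806 = n184084 := rfl
def n184085 : Q := act 5 n87806
theorem D184085 : act 5 n87806 = n184085 := rfl
theorem F286025 : act 6 n184085 = n87808 := d12_2 D87806 D184085 (iv5 D87808) (iv6 D40915) D40914
def n184086 : Q := act 7 n87806
theorem D184086 : act 7 n87806 = n184086 := rfl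
def n184087 : Q := act 4 n87808
theorem D184087 : act 4 n87808 = n184087 := rfl
theorem F286026 : act 0 n184087 = n89244 := d18_2 F137627 D184087 (iv4 D89244) (iv5 D41696) (iv4 F63426) F34382 (iv4 F61717) (iv0 F64592) D89692
theorem F286027 : act 1 n184087 = n89237 := d18_6 F70675 (iv4 F70674) (iv1 F72348) (iv4 F66351) D87808 D184087 (iv4 D89237) D89236 (iv5 F136961)
theorem E25009 : n100447 = n89567 := (c20_4 D89237 (iv1 F286027) (iv4 D184087) (iv3 F154508) (iv1 D89567) F64494 D41833 (iv1 F137061) (iv4 D89378) (iv3 F136962) (iv1 D89236))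
theorem F286028 : act 2 n89567 = n102639 := (sb E25009 (iv2 F157844))
theorem F286029 : act 3 n89567 = n87808 := (sb E25009 F154508)
theorem F286030 : act 5 n89567 = n46875 := (sb E25009 (iv5 D100447))
theorem F286031 : act 7 n89567 = n102641 := (sb E25009 (iv7 F157853))
theorem F286032 : act 2 n102641 = n89566 := d15_3 (iv0 D89566) D89567 F286031
theorem F286033 : act 7 n102639 = n89566 := d4_2 (iv7 F286031) F286028 (iv2 F286032)
theorem F286034 : act 5 n89566 = n99836 := d13_1 F286033 F153719 D102639
theorem F286035 : act 1 n102641 = n89564 := d15_0 F157846 F286033 (iv2 F286032)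
theorem F286036 : act 0 n94237 = n148918 := d17_2 (iv1 F145290) D94237 F233985 (iv4 D102640) D102641 F286035 (iv5 D89564) F136304 (iv4 F145287)
theorem E25010 : n98909 = n89565 := (c21_5 (iv5 F154500) (iv1 D98906) (iv5 D46284) D46285 D98909 (iv6 D89565) D89564 (iv1 F286035) (iv5 D102641) (iv6 F135329) (iv1 F154498))
theorem F286037 : act 1 n89565 = n46285 := (sb E25010 (iv0 D98909))
theorem E25011 : n98910 = n89573 := (c15_2 F286037 D98910 (iv7 D89573) (iv2 F137313))
theorem F286038 : act 0 n89573 = n46285 := (sb E25011 (iv1 D98910))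
theorem E25012 : n98912 = n89570 := ((c21_5 (iv5 F286030) (iv1 D89567) (iv5 D41831) D41832 D89570 F157698 (iv5 D102593) (iv1 F153687) (iv5 D99822) (iv6 F74858) (iv1 F153720))).symm
theorem F286039 : act 5 n89570 = n99299 := (sb E25012 F152904)
theorem F286040 : act 6 n89570 = n102593 := (sb E25012 F157698)
theorem F286041 : act 7 n89570 = n46285 := (sb E25012 (iv7 D98912))
def n184088 : Q := act 0 n87809
theorem D184088 : act 0 n87809 = n184088 := rfl
def n184089 : Q := act 1 n87809
theorem D184089 : act 1 n87809 = n184089 := rfl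
def n184090 : Q := act 4 n87809
theorem D184090 : act 4 n87809 = n184090 := rfl
theorem F286042 : act 0 n99490 = n184090 := d20_7 D91344 F140432 F134787 (iv3 F70476) F70478 (iv3 F73488) D99490 (iv4 D184090) (iv3 D87809) (iv1 F66964)
def n184091 : Q := act 5 n87809
theorem D184091 : act 5 n87809 = n184091 := rfl
theorem F286043 : act 3 n184091 = n87811 := d6_1 D184091 (iv5 D87811) D87809
theorem F286044 : act 7 n184091 = n181997 := d13_2 F159726 D184091 (iv5 F283331)
theorem F286045 : act 6 n182258 = n184091 := d14_5 F286044 (iv6 D181997) F133386 D87581 (iv7 F283703)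
def n184092 : Q := act 6 n87809
theorem D184092 : act 6 n87809 = n184092 := rfl
theorem F286046 : act 3 n184092 = n87812 := d7_1 D184092 (iv6 D87812) D87809
def n184093 : Q := act 3 n87810
theorem D184093 : act 3 n87810 = n184093 := rfl
def n184094 : Q := act 5 n87810
theorem D184094 : act 5 n87810 = n184094 := rfl
theorem F286047 : act 4 n184094 = n87834 := d16_2 D87810 D184094 (iv5 D87834) (iv4 F72768) (iv5 F72766) F72765 F62008 (iv7 F133395) (iv2 F133396)
def n184095 : Q := act 6 n87810
theorem D184095 : act 6 n87810 = n184095 := rfl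
theorem F286048 : act 4 n184095 = n87812 := d10_1 D184095 (iv6 D87812) D87810
def n184096 : Q := act 0 n87812
theorem D184096 : act 0 n87812 = n184096 := rfl
def n184097 : Q := act 1 n87812
theorem D184097 : act 1 n87812 = n184097 := rfl
def n184098 : Q := act 7 n87812
theorem D184098 : act 7 n87812 = n184098 := rfl
def n184099 : Q := act 3 n87814
theorem D184099 : act 3 n87814 = n184099 := rfl
def n184100 : Q := act 5 n87814
theorem D184100 : act 5 n87814 = n184100 := rfl
theorem F286049 : act 4 n184100 = n87832 := d9_1 D184100 (iv5 D87832) F66969 D46662 (iv4 F134778) (iv5 D87811) D87810 D184094 F286047 (iv5 D87834) (iv4 F72768) (iv5 F72766) F72765 F62008 D87814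
def n184101 : Q := act 6 n87814
theorem D184101 : act 6 n87814 = n184101 := rfl
theorem F286050 : act 4 n184101 = n87815 := d10_1 D184101 (iv6 D87815) D87814
def n184102 : Q := act 0 n87815
theorem D184102 : act 0 n87815 = n184102 := rfl
def n184103 : Q := act 1 n87815
theorem D184103 : act 1 n87815 = n184103 := rfl
def n184104 : Q := act 7 n87815
theorem D184104 : act 7 n87815 = n184104 := rfl
theorem F286051 : act 5 n184104 = n183477 := d13_1 D184104 (iv7 D183477) (iv5 F134786)
def n184106 : Q := act 6 n87816
theorem D184106 : act 6 n87816 = n184106 := rfl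
theorem F286052 : act 4 n184106 = n88018 := d10_1 D184106 (iv6 D88018) F134804
def n184110 : Q := act 0 n87818
theorem D184110 : act 0 n87818 = n184110 := rfl
def n184111 : Q := act 1 n87818
theorem D184111 : act 1 n87818 = n184111 := rfl
def n184112 : Q := act 2 n87818
theorem D184112 : act 2 n87818 = n184112 := rfl
def n184113 : Q := act 5 n87818
theorem D184113 : act 5 n87818 = n184113 := rfl
theorem F286056 : act 3 n184113 = n87819 := d6_1 D184113 (iv5 D87819) D87818
def n184114 : Q := act 7 n87818
theorem D184114 : act 7 n87818 = n184114 := rfl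
theorem F286057 : act 3 n184114 = n87820 := d8_1 D184114 (iv7 D87820) D87818
def n184116 : Q := act 6 n87820
theorem D184116 : act 6 n87820 = n184116 := rfl
theorem F286058 : act 4 n184116 = n87821 := d10_1 D184116 (iv6 D87821) (iv4 F134788)
def n184117 : Q := act 0 n87821
theorem D184117 : act 0 n87821 = n184117 := rfl
def n184118 : Q := act 1 n87821
theorem D184118 : act 1 n87821 = n184118 := rfl
def n184119 : Q := act 4 n87822
theorem D184119 : act 4 n87822 = n184119 := rfl
def n184120 : Q := act 6 n87822
theorem D184120 : act 6 n87822 = n184120 := rfl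
theorem F286059 : act 3 n184120 = n87825 := d7_1 D184120 (iv6 D87825) (iv3 F134789)
def n184121 : Q := act 0 n87823
theorem D184121 : act 0 n87823 = n184121 := rfl
theorem F286060 : act 1 n102524 = n184121 := d15_0 (iv0 D184121) (iv7 F134792) (iv2 F157460)
def n184122 : Q := act 1 n87823
theorem D184122 : act 1 n87823 = n184122 := rfl
theorem F286061 : act 1 n184122 = n102524 := d15_1 D184122 F157463 F152621
def n184123 : Q := act 3 n87824
theorem D184123 : act 3 n87824 = n184123 := rfl
def n184124 : Q := act 6 n87824
theorem D184124 : act 6 n87824 = n184124 := rfl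
theorem F286062 : act 2 n184124 = n91280 := d3_1 D184124 (iv6 D91280) (iv2 F134793)
theorem F286063 : act 4 n184124 = n87825 := d10_1 D184124 (iv6 D87825) D87824
def n184125 : Q := act 0 n87825
theorem D184125 : act 0 n87825 = n184125 := rfl
def n184126 : Q := act 1 n87825
theorem D184126 : act 1 n87825 = n184126 := rfl
theorem F286064 : act 1 n184126 = n91284 := d15_1 D184126 (iv7 D91284) (iv2 F134794)
def n184127 : Q := act 7 n87825
theorem D184127 : act 7 n87825 = n184127 := rfl
theorem F286065 : act 2 n184127 = n91284 := d4_1 D184127 (iv7 D91284) (iv2 F134794)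
theorem F286066 : act 1 n91284 = n184125 := d15_0 (iv0 D184125) D184127 F286065
theorem F286067 : act 1 n91282 = n184127 := d15_1 D91282 (iv7 D184127) F134794
theorem F286068 : act 1 n184127 = n91281 := d15_0 (iv0 D91281) D91284 (iv2 F286065)
def n184128 : Q := act 0 n87826
theorem D184128 : act 0 n87826 = n184128 := rfl
def n184129 : Q := act 1 n87826
theorem D184129 : act 1 n87826 = n184129 := rfl
def n184130 : Q := act 2 n87826
theorem D184130 : act 2 n87826 = n184130 := rfl
def n184131 : Q := act 5 n87826
theorem D184131 : act 5 n87826 = n184131 := rfl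
def n184132 : Q := act 6 n87827
theorem D184132 : act 6 n87827 = n184132 := rfl
theorem F286072 : act 2 n184132 = n91303 := d3_1 D184132 (iv6 D91303) (iv2 F134796)
def n184138 : Q := act 3 n87830
theorem D184138 : act 3 n87830 = n184138 := rfl
theorem F286077 : act 2 n184138 = n98652 := d0_1 D184138 F152081 F72701 F70479 (iv2 F134799)
theorem F286079 : act 5 n184138 = n88017 := d6_2 (iv5 F134802) D184138 (iv3 D88017)
theorem F286080 : act 6 n184138 = n182257 := d7_2 (iv6 F134800) D184138 (iv3 D182257)
theorem F286081 : act 7 n184138 = n94713 := d8_2 (iv7 F134801) D184138 F146002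
theorem F286082 : act 1 n98651 = n184138 := d15_1 D98651 F286081 F146001
theorem F286083 : act 1 n184138 = n98650 := d15_0 (iv0 D98650) D98652 (iv2 F286077)
def n184169 : Q := act 6 n87839
theorem D184169 : act 6 n87839 = n184169 := rfl
theorem F286106 : act 5 n184169 = n181901 := d12_1 D184169 (iv6 D181901) (iv5 D86878) (iv6 F62111) D87839
def n184180 : Q := act 7 n87844
theorem D184180 : act 7 n87844 = n184180 := rfl
theorem F286115 : act 5 n184180 = n181907 := d13_1 D184180 (iv7 D181907) (iv5 F134812)
def n184183 : Q := act 0 n87850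
theorem D184183 : act 0 n87850 = n184183 := rfl
def n184184 : Q := act 1 n87850
theorem D184184 : act 1 n87850 = n184184 := rfl
def n184185 : Q := act 5 n87850
theorem D184185 : act 5 n87850 = n184185 := rfl
def n184186 : Q := act 7 n87850
theorem D184186 : act 7 n87850 = n184186 := rfl
def n184187 : Q := act 0 n87851
theorem D184187 : act 0 n87851 = n184187 := rfl
def n184188 : Q := act 1 n87851
theorem D184188 : act 1 n87851 = n184188 := rfl
def n184189 : Q := act 5 n87851
theorem D184189 : act 5 n87851 = n184189 := rfl
def n184190 : Q := act 7 n87851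
theorem D184190 : act 7 n87851 = n184190 := rfl
def n184191 : Q := act 6 n87852
theorem D184191 : act 6 n87852 = n184191 := rfl
theorem F286117 : act 2 n184191 = n87856 := d3_1 D184191 (iv6 D87856) (iv2 F134835)
theorem F286118 : act 3 n184191 = n95449 := d7_1 D184191 (iv6 D95449) (iv3 F134836)
def n184192 : Q := act 5 n87853
theorem D184192 : act 5 n87853 = n184192 := rfl
theorem F286119 : act 2 n184192 = n87859 := d2_1 D184192 (iv5 D87859) (iv2 F134839)
theorem F286120 : act 3 n184192 = n95451 := d6_1 D184192 (iv5 D95451) (iv3 F134840)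
def n184193 : Q := act 6 n87854
theorem D184193 : act 6 n87854 = n184193 := rfl
theorem F286121 : act 2 n184193 = n183213 := d3_1 D184193 (iv6 D183213) (iv2 F134845)
theorem F286122 : act 3 n184193 = n183218 := d7_1 D184193 (iv6 D183218) F134844
def n184194 : Q := act 6 n87855
theorem D184194 : act 6 n87855 = n184194 := rfl
theorem F286123 : act 4 n184194 = n87856 := d10_1 D184194 (iv6 D87856) D87855
def n184195 : Q := act 0 n87856
theorem D184195 : act 0 n87856 = n184195 := rfl
def n184196 : Q := act 1 n87856
theorem D184196 : act 1 n87856 = n184196 := rfl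
def n184197 : Q := act 5 n87856
theorem D184197 : act 5 n87856 = n184197 := rfl
theorem F286124 : act 3 n184197 = n87862 := d6_1 D184197 (iv5 D87862) (iv3 F134847)
theorem F286125 : act 6 n184197 = n87859 := d12_2 D87856 D184197 (iv5 D87859) (iv6 D40978) D40977
def n184198 : Q := act 7 n87856
theorem D184198 : act 7 n87856 = n184198 := rfl
theorem F286126 : act 3 n184198 = n87863 := d8_1 D184198 (iv7 D87863) (iv3 F134847)
def n184199 : Q := act 5 n87857
theorem D184199 : act 5 n87857 = n184199 := rfl
def n184200 : Q := act 6 n87857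
theorem D184200 : act 6 n87857 = n184200 := rfl
def n184201 : Q := act 5 n87858
theorem D184201 : act 5 n87858 = n184201 := rfl
def n184202 : Q := act 6 n87858
theorem D184202 : act 6 n87858 = n184202 := rfl
def n184203 : Q := act 0 n87859
theorem D184203 : act 0 n87859 = n184203 := rfl
def n184204 : Q := act 1 n87859
theorem D184204 : act 1 n87859 = n184204 := rfl
def n184205 : Q := act 4 n87859
theorem D184205 : act 4 n87859 = n184205 := rfl
def n184209 : Q := act 5 n87860
theorem D184209 : act 5 n87860 = n184209 := rfl
def n184215 : Q := act 6 n87861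
theorem D184215 : act 6 n87861 = n184215 := rfl
def n184216 : Q := act 0 n87862
theorem D184216 : act 0 n87862 = n184216 := rfl
def n184217 : Q := act 1 n87862
theorem D184217 : act 1 n87862 = n184217 := rfl
def n184218 : Q := act 4 n87862
theorem D184218 : act 4 n87862 = n184218 := rfl
theorem F286129 : act 6 n184218 = n87865 := d10_2 (iv6 F134849) D184218 (iv4 D87865)
def n184219 : Q := act 7 n87862
theorem D184219 : act 7 n87862 = n184219 := rfl
theorem F286130 : act 5 n184219 = n87863 := d13_1 D184219 (iv7 D87863) D87862
def n184220 : Q := act 6 n87864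
theorem D184220 : act 6 n87864 = n184220 := rfl
def n184221 : Q := act 3 n87865
theorem D184221 : act 3 n87865 = n184221 := rfl
def n184222 : Q := act 5 n87865
theorem D184222 : act 5 n87865 = n184222 := rfl
theorem F286132 : act 1 n184222 = n103807 := d17_6 F149614 (iv5 D47996) F63075 D40982 D87865 D184222 (iv5 D103807) F159222 F159220
def n184226 : Q := act 3 n87869
theorem D184226 : act 3 n87869 = n184226 := rfl
theorem F286146 : act 6 n184226 = n90837 := d7_2 (iv6 F134862) D184226 (iv3 D90837)
def n184228 : Q := act 0 n87873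
theorem D184228 : act 0 n87873 = n184228 := rfl
def n184229 : Q := act 1 n87873
theorem D184229 : act 1 n87873 = n184229 := rfl
def n184230 : Q := act 2 n87873
theorem D184230 : act 2 n87873 = n184230 := rfl
theorem F286155 : act 4 n184230 = n87947 := d1_2 (iv4 F134883) D184230 (iv2 D87947)
theorem F286156 : act 6 n184230 = n181910 := d3_2 (iv6 F134884) D184230 (iv2 D181910)
def n184231 : Q := act 5 n87873
theorem D184231 : act 5 n87873 = n184231 := rfl
def n184232 : Q := act 4 n87874
theorem D184232 : act 4 n87874 = n184232 := rfl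
theorem F286158 : act 5 n184232 = n103817 := d16_3 D40996 D87874 D184232 F159238 F147699 F70595 (iv5 F134832) (iv7 D87849) F62115
def n184233 : Q := act 6 n87874
theorem D184233 : act 6 n87874 = n184233 := rfl
theorem F286161 : act 5 n184233 = n95423 := d12_1 D184233 (iv6 D95423) F70082 (iv6 F62130) D87874
def n184234 : Q := act 0 n87876
theorem D184234 : act 0 n87876 = n184234 := rfl
theorem F286162 : act 1 n88354 = n184234 := d15_0 (iv0 D184234) (iv7 F285717) F285716
def n184235 : Q := act 4 n87876
theorem D184235 : act 4 n87876 = n184235 := rfl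
def n184236 : Q := act 4 n87877
theorem D184236 : act 4 n87877 = n184236 := rfl
theorem F286163 : act 2 n184236 = n87888 := d1_1 D184236 (iv4 D87888) (iv2 F134887)
def n184237 : Q := act 6 n87878
theorem D184237 : act 6 n87878 = n184237 := rfl
theorem F286164 : act 2 n184237 = n98341 := d3_1 D184237 (iv6 D98341) (iv2 F134888)
theorem F286165 : act 3 n184237 = n161016 := d7_1 D184237 (iv6 D161016) (iv3 F134891)
theorem F286166 : act 4 n184237 = n87879 := d10_1 D184237 (iv6 D87879) D87878
def n184238 : Q := act 0 n87879
theorem D184238 : act 0 n87879 = n184238 := rfl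
def n184239 : Q := act 1 n87879
theorem D184239 : act 1 n87879 = n184239 := rfl
theorem F286167 : act 1 n184239 = n98345 := d15_1 D184239 (iv7 D98345) (iv2 F134892)
theorem F286168 : act 3 n184239 = n182078 := d20_5 (iv4 F271105) (iv1 F128286) F128282 (iv3 F151774) (iv1 F286167) (iv4 D182078) (iv1 D86958) F61458 (iv3 F31405) D41725
def n184240 : Q := act 5 n87879
theorem D184240 : act 5 n87879 = n184240 := rfl
theorem F286169 : act 2 n184240 = n98344 := d2_1 D184240 (iv5 D98344) (iv2 F134892)
theorem F286170 : act 6 n184240 = n98336 := d12_2 D87879 D184240 (iv5 D98336) (iv6 D46009) (iv5 F62134)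
def n184241 : Q := act 7 n87879
theorem D184241 : act 7 n87879 = n184241 := rfl
theorem F286171 : act 2 n184241 = n98345 := d4_1 D184241 (iv7 D98345) (iv2 F134892)
theorem F286172 : act 6 n184241 = n183384 := d14_1 D184241 (iv7 D183384) (iv6 D87537) (iv7 F62136) D87879
theorem F286173 : act 1 n98345 = n184238 := d15_0 (iv0 D184238) D184241 F286171
theorem F286174 : act 1 n98343 = n184241 := d15_1 D98343 (iv7 D184241) F134892
theorem F286175 : act 1 n184241 = n98342 := d15_0 (iv0 D98342) D98345 (iv2 F286171)
def n184242 : Q := act 4 n87880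
theorem D184242 : act 4 n87880 = n184242 := rfl
def n184243 : Q := act 5 n87880
theorem D184243 : act 5 n87880 = n184243 := rfl
def n184244 : Q := act 6 n87880
theorem D184244 : act 6 n87880 = n184244 := rfl
def n184245 : Q := act 0 n87882
theorem D184245 : act 0 n87882 = n184245 := rfl
def n184246 : Q := act 1 n87882
theorem D184246 : act 1 n87882 = n184246 := rfl
def n184247 : Q := act 4 n87882
theorem D184247 : act 4 n87882 = n184247 := rfl
theorem F286176 : act 6 n184247 = n87888 := d10_2 (iv6 F134894) D184247 (iv4 D87888)
def n184248 : Q := act 7 n87882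
theorem D184248 : act 7 n87882 = n184248 := rfl
theorem F286177 : act 3 n184248 = n87903 := d8_1 D184248 (iv7 D87903) (iv3 F134893)
theorem F286178 : act 5 n184248 = n87883 := d13_1 D184248 (iv7 D87883) D87882
def n184249 : Q := act 4 n87884
theorem D184249 : act 4 n87884 = n184249 := rfl
def n184250 : Q := act 6 n87884
theorem D184250 : act 6 n87884 = n184250 := rfl
def n184251 : Q := act 4 n87886
theorem D184251 : act 4 n87886 = n184251 := rfl
def n184252 : Q := act 5 n87886
theorem D184252 : act 5 n87886 = n184252 := rfl
theorem F286179 : act 2 n184252 = n89580 := d2_1 D184252 (iv5 F152925) F152928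
theorem F286180 : act 7 n184252 = n98989 := d13_2 F154143 D184252 (iv5 F154142)
theorem F286181 : act 1 n98993 = n184252 := d15_1 D98993 F286180 F152509
theorem F286182 : act 1 n184252 = n89724 := d15_0 (iv0 F139759) (iv7 F137325) (iv2 F286179)
theorem F286183 : act 2 n94095 = n98993 := d15_3 F286181 F286182 (iv7 F144994)
theorem F286184 : act 0 n102536 = n89723 := d21_7 (iv5 D184252) (iv1 F154102) (iv5 D100165) (iv6 F140423) (iv1 F140426) (iv6 F74788) D102536 (iv5 D89723) D89724 (iv1 F286182)
def n184253 : Q := act 6 n87886
theorem D184253 : act 6 n87886 = n184253 := rfl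
def n184254 : Q := act 0 n87888
theorem D184254 : act 0 n87888 = n184254 := rfl
def n184255 : Q := act 1 n87888
theorem D184255 : act 1 n87888 = n184255 := rfl
def n184256 : Q := act 3 n87888
theorem D184256 : act 3 n87888 = n184256 := rfl
theorem F286185 : act 4 n184256 = n87926 := d5_2 D87888 D184256 (iv3 D87926) (iv4 D41023) (iv3 F62138)
def n184257 : Q := act 5 n87888
theorem D184257 : act 5 n87888 = n184257 := rfl
def n184258 : Q := act 7 n87888
theorem D184258 : act 7 n87888 = n184258 := rfl
theorem F286186 : act 4 n184258 = n87889 := d11_1 D184258 (iv7 D87889) D87888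
def n184259 : Q := act 6 n87889
theorem D184259 : act 6 n87889 = n184259 := rfl
theorem F286187 : act 3 n184259 = n87929 := d7_1 D184259 (iv6 D87929) (iv3 F134896)
def n184262 : Q := act 3 n87890
theorem D184262 : act 3 n87890 = n184262 := rfl
theorem F286190 : act 7 n184262 = n87896 := d8_2 F134898 D184262 (iv3 D87896)
def n184264 : Q := act 5 n87890
theorem D184264 : act 5 n87890 = n184264 := rfl
theorem F286193 : act 2 n184264 = n87893 := d2_1 D184264 (iv5 D87893) D87890
theorem F286194 : act 7 n184264 = n87898 := d13_2 F134898 D184264 (iv5 D87898)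
def n184265 : Q := act 6 n87890
theorem D184265 : act 6 n87890 = n184265 := rfl
theorem F286195 : act 2 n184265 = n87894 := d3_1 D184265 (iv6 D87894) D87890
theorem F286196 : act 5 n183108 = n184265 := d2_0 F286195 F134899 (iv2 F284726)
theorem F286197 : act 7 n184265 = n183106 := d13_2 D183108 F286196 (iv5 D183106)
def n184268 : Q := act 7 n87892
theorem D184268 : act 7 n87892 = n184268 := rfl
theorem F286200 : act 4 n184268 = n87895 := d11_1 D184268 (iv7 D87895) D87892
def n184269 : Q := act 0 n87893
theorem D184269 : act 0 n87893 = n184269 := rfl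
theorem F286201 : act 5 n184269 = n181443 := d17_3 D41007 D87893 D184269 F282549 D181448 (iv0 F282550) (iv5 D181269) (iv0 D86558) F61018
theorem E25013 : n181421 = n40614 := (c21_5 D87893 D184269 F286201 (iv6 D181443) (iv1 F282534) (iv6 D40614) F30822 (iv1 F14141) D9074 D19310 D41007)
theorem E25014 : n87385 = n86612 := ((D87385).symm.trans (sb E25013 (iv1 D181421)))
theorem E25015 : n87386 = n86617 := ((D87386).symm.trans (sb E25013 F282534))
theorem E25016 : n181420 = n104119 := ((D181420).symm.trans (sb E25014 (iv1 F159597)))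
theorem F286202 : act 1 n86612 = n40614 := (sb E25014 (iv0 D87385))
theorem E25020 : n183058 = n181422 := (((D181422).symm.trans (sb E25014 D183058))).symm
theorem E25021 : n183059 = n181423 := (((D181423).symm.trans (sb E25014 D183059))).symm
theorem F286203 : act 0 n86617 = n40614 := (sb E25015 (iv1 D87386))
theorem F286204 : act 0 n104119 = n86617 := (sb E25016 (iv1 F282538))
theorem F286205 : act 1 n104119 = n86612 := (sb E25016 (iv0 D181420))
theorem F286206 : act 0 n181422 = n184051 := (sb E25020 F286000)
theorem F286207 : act 5 n181423 = n184025 := (sb E25021 F285964)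
theorem E25027 : n184016 = n86957 := (c17_10 (iv1 F133485) (iv5 F263954) (iv1 F282545) (iv5 D181432) (iv4 F282535) F286207 F285963 F284526 F134764 D184016)
theorem E25028 : n182073 = n87780 := ((D182073).symm.trans (sb E25027 (iv4 D184016)))
theorem F286208 : act 4 n87780 = n86957 := (sb E25028 (iv4 D182073))
theorem F286211 : act 4 n182076 = n184019 := d11_3 (iv7 D184019) F286208 D182076
theorem E25029 : n184021 = n86958 := (c1_3 F286211 F285962 D184021 (iv2 F283480))
theorem E25030 : n182078 = n87781 := ((D182078).symm.trans (sb E25029 (iv4 D184021)))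
theorem E25031 : n184239 = n184020 := (((D184020).symm.trans (sb E25030 (iv3 F286168)))).symm
theorem F286212 : act 4 n87781 = n86958 := (sb E25030 (iv4 D182078))
theorem F286213 : act 0 n184020 = n87879 := (sb E25031 (iv1 D184239))
theorem F286214 : act 1 n184020 = n98345 := (sb E25031 F286167)
theorem F286216 : act 4 n182137 = n184025 := d18_7 (iv1 F134759) F286212 (iv1 D86958) F61458 D40379 D86973 D182137 F285963 F284526
theorem F286217 : act 0 n99712 = n173866 := d20_7 (iv4 D86612) (iv1 F74461) F74457 F35281 (iv1 F34816) D46584 D99712 F272513 F134155 (iv1 F286202)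
theorem F286218 : act 1 n101724 = n173866 := d15_0 (iv0 F286217) F156714 (iv2 F156616)
def n184270 : Q := act 1 n87893
theorem D184270 : act 1 n87893 = n184270 := rfl
theorem F286219 : act 1 n184270 = n87898 := d15_1 D184270 (iv7 F286194) F286193
def n184271 : Q := act 4 n87893
theorem D184271 : act 4 n87893 = n184271 := rfl
def n184272 : Q := act 6 n87893
theorem D184272 : act 6 n87893 = n184272 := rfl
theorem F286220 : act 5 n184272 = n183110 := d12_1 D184272 (iv6 D183110) (iv5 F134899) (iv6 D87894) D87893
def n184273 : Q := act 7 n87893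
theorem D184273 : act 7 n87893 = n184273 := rfl
theorem F286221 : act 2 n184273 = n87898 := d4_1 D184273 (iv7 F286194) F286193
theorem F286222 : act 5 n184273 = n87895 := d13_1 D184273 (iv7 D87895) D87893
theorem F286223 : act 1 n87898 = n184269 := d15_0 (iv0 D184269) D184273 F286221
def n184276 : Q := act 7 n87894
theorem D184276 : act 7 n87894 = n184276 := rfl
theorem F286226 : act 5 n184276 = n183103 := d13_1 D184276 (iv7 F284724) (iv5 F134899)
def n184278 : Q := act 0 n87896
theorem D184278 : act 0 n87896 = n184278 := rfl
theorem F286229 : act 4 n184278 = n158671 := d20_0 (iv1 D158671) F155508 (iv3 F155500) (iv1 F89682) (iv3 F62341) (iv4 F132658) (iv1 F232738) (iv4 D87897) D87896 D184278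
def n184279 : Q := act 1 n87896
theorem D184279 : act 1 n87896 = n184279 := rfl
def n184280 : Q := act 4 n87896
theorem D184280 : act 4 n87896 = n184280 := rfl
theorem F286231 : act 0 n184280 = n100773 := d20_7 F232732 (iv1 F185495) (iv4 F155724) F155723 (iv1 F75733) D87896 D184280 F154863 F74206 D69884
def n184281 : Q := act 5 n87896
theorem D184281 : act 5 n87896 = n184281 := rfl
theorem F286233 : act 3 n184281 = n87898 := d6_1 D184281 (iv5 D87898) D87896
def n184282 : Q := act 6 n87896
theorem D184282 : act 6 n87896 = n184282 := rfl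
theorem F286234 : act 3 n184282 = n87899 := d7_1 D184282 (iv6 D87899) D87896
def n184283 : Q := act 3 n87897
theorem D184283 : act 3 n87897 = n184283 := rfl
theorem F286235 : act 4 n184283 = n98195 := d20_6 F117577 (iv1 F58433) (iv4 F89072) (iv3 F132657) (iv1 F232738) D184283 (iv1 D98195) F72479 F56790 D36041
theorem F286236 : act 3 n184280 = n98195 := d5_5 (iv4 F286235) (iv3 D184283) (iv4 D87897) D87896 D184280
theorem F286237 : act 4 n158670 = n184279 := d20_0 (iv1 D184279) D184280 F286236 (iv1 D98195) F72478 F34454 D21947 (iv4 F112808) D75686 D158670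
def n184286 : Q := act 4 n87898
theorem D184286 : act 4 n87898 = n184286 := rfl
def n184287 : Q := act 6 n87898
theorem D184287 : act 6 n87898 = n184287 := rfl
def n184290 : Q := act 5 n87899
theorem D184290 : act 5 n87899 = n184290 := rfl
def n184291 : Q := act 7 n87899
theorem D184291 : act 7 n87899 = n184291 := rfl
theorem F286240 : act 6 n184291 = n183106 := d14_1 D184291 (iv7 F286197) (iv6 D184265) (iv7 F134898) D87899
def n184292 : Q := act 3 n87900
theorem D184292 : act 3 n87900 = n184292 := rfl
def n184293 : Q := act 4 n87900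
theorem D184293 : act 4 n87900 = n184293 := rfl
def n184295 : Q := act 3 n87901
theorem D184295 : act 3 n87901 = n184295 := rfl
def n184296 : Q := act 4 n87901
theorem D184296 : act 4 n87901 = n184296 := rfl
theorem F286243 : act 0 n184296 = n101214 := d18_2 (iv1 F159622) D184296 (iv4 D101214) (iv5 D47136) (iv4 F74378) (iv0 F232737) (iv4 D87897) F75733 (iv5 F159620)
def n184297 : Q := act 6 n87901
theorem D184297 : act 6 n87901 = n184297 := rfl
def n184298 : Q := act 0 n87902
theorem D184298 : act 0 n87902 = n184298 := rfl
def n184299 : Q := act 1 n87902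
theorem D184299 : act 1 n87902 = n184299 := rfl
theorem F286244 : act 4 n184299 = n88062 := d18_7 (iv1 F74385) (iv4 F232746) (iv1 D86559) F61018 D41009 D87902 D184299 F155930 F155928
def n184300 : Q := act 3 n87902
theorem D184300 : act 3 n87902 = n184300 := rfl
theorem F286245 : act 6 n184300 = n87926 := d7_2 (iv6 F134901) D184300 (iv3 D87926)
def n184301 : Q := act 5 n87902
theorem D184301 : act 5 n87902 = n184301 := rfl
def n184302 : Q := act 7 n87902
theorem D184302 : act 7 n87902 = n184302 := rfl
theorem F286246 : act 4 n184302 = n87903 := d11_1 D184302 (iv7 D87903) D87902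
def n184303 : Q := act 6 n87903
theorem D184303 : act 6 n87903 = n184303 := rfl
theorem F286247 : act 7 n184303 = n87929 := d14_2 D87903 D184303 (iv6 D87929) (iv7 D41024) (iv6 F62140)
def n184306 : Q := act 6 n87905
theorem D184306 : act 6 n87905 = n184306 := rfl
theorem F286248 : act 3 n184306 = n87909 := d7_1 D184306 (iv6 D87909) (iv3 F134903)
def n184311 : Q := act 5 n87908
theorem D184311 : act 5 n87908 = n184311 := rfl
theorem F286250 : act 4 n184311 = n87951 := d16_2 D87908 D184311 F134943 (iv4 D48102) (iv5 D23224) F62578 D41019 (iv7 F75738) F75737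
theorem F286251 : act 1 n184311 = n101219 := d17_6 (iv1 D41022) (iv5 D19313) D19311 D41014 D87908 D184311 (iv5 D101219) (iv0 F134918) (iv4 D87922)
def n184312 : Q := act 6 n87908
theorem D184312 : act 6 n87908 = n184312 := rfl
theorem F286252 : act 4 n184312 = n87909 := d10_1 D184312 (iv6 D87909) D87908
def n184313 : Q := act 0 n87909
theorem D184313 : act 0 n87909 = n184313 := rfl
def n184314 : Q := act 1 n87909
theorem D184314 : act 1 n87909 = n184314 := rfl
def n184315 : Q := act 7 n87909
theorem D184315 : act 7 n87909 = n184315 := rfl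
def n184316 : Q := act 5 n87911
theorem D184316 : act 5 n87911 = n184316 := rfl
def n184317 : Q := act 5 n87912
theorem D184317 : act 5 n87912 = n184317 := rfl
theorem F286253 : act 2 n184317 = n87913 := d2_1 D184317 (iv5 D87913) D87912
def n184318 : Q := act 6 n87912
theorem D184318 : act 6 n87912 = n184318 := rfl
theorem F286254 : act 2 n184318 = n87914 := d3_1 D184318 (iv6 D87914) D87912
theorem F286255 : act 4 n184318 = n100799 := d10_1 D184318 (iv6 D100799) F143251
def n184319 : Q := act 0 n87913
theorem D184319 : act 0 n87913 = n184319 := rfl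
def n184320 : Q := act 1 n87913
theorem D184320 : act 1 n87913 = n184320 := rfl
def n184321 : Q := act 4 n87913
theorem D184321 : act 4 n87913 = n184321 := rfl
def n184322 : Q := act 6 n87913
theorem D184322 : act 6 n87913 = n184322 := rfl
theorem F286256 : act 3 n184322 = n87916 := d7_1 D184322 (iv6 D87916) (iv3 F134909)
def n184323 : Q := act 0 n87914
theorem D184323 : act 0 n87914 = n184323 := rfl
def n184324 : Q := act 1 n87914
theorem D184324 : act 1 n87914 = n184324 := rfl
def n184326 : Q := act 5 n87915
theorem D184326 : act 5 n87915 = n184326 := rfl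
theorem F286257 : act 4 n184326 = n87950 := d9_1 D184326 (iv5 F144001) F144000 (iv5 D46834) F62778 D41014 D87908 D184311 F286250 F134943 (iv4 D48102) (iv5 D23224) F62578 D41019 D87915
theorem F286258 : act 0 n184326 = n101219 := d17_2 F144129 D184326 (iv5 D101219) (iv4 D47139) (iv5 D22681) F62731 D20694 D43699 D93437
def n184327 : Q := act 6 n87915
theorem D184327 : act 6 n87915 = n184327 := rfl
theorem F286259 : act 4 n184327 = n87916 := d10_1 D184327 (iv6 D87916) D87915
def n184328 : Q := act 0 n87916
theorem D184328 : act 0 n87916 = n184328 := rfl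
def n184329 : Q := act 1 n87916
theorem D184329 : act 1 n87916 = n184329 := rfl
def n184330 : Q := act 7 n87916
theorem D184330 : act 7 n87916 = n184330 := rfl
def n184332 : Q := act 5 n87917
theorem D184332 : act 5 n87917 = n184332 := rfl
theorem F286261 : act 3 n184332 = n87919 := d6_1 D184332 (iv5 D87919) D87917
theorem F286262 : act 7 n184332 = n89571 := d13_2 (iv7 F152900) D184332 F152897
theorem F286263 : act 6 n184332 = n89585 := d21_9 D89587 F137346 (iv5 D46850) (iv6 D22505) (iv1 F34695) D46426 D99288 (iv1 F152903) D184332 (iv1 D89585)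
theorem F286264 : act 0 n89565 = n184332 := d21_10 (iv5 D184332) (iv1 F152908) F152906 F73286 (iv1 F74056) (iv6 F75840) D102639 (iv1 F157846) (iv5 D89564) D89565
theorem F286265 : act 4 n92893 = n184332 := d11_3 F286262 (iv4 F137316) (iv7 F143269)
theorem F286266 : act 1 n89573 = n184332 := d15_1 (iv0 F286038) F286262 (iv2 F137318)
theorem E25032 : n92890 = n92772 := ((c17_2 F157713 D92772 (iv1 D92890) D92893 F286265 (iv5 D184332) F152903 (iv5 D99288) D99287 (iv4 F152860))).symm
theorem F286267 : act 0 n92772 = n43462 := (sb E25032 (iv1 D92890))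
def n184335 : Q := act 5 n87918
theorem D184335 : act 5 n87918 = n184335 := rfl
theorem F286269 : act 4 n184335 = n87943 := d16_2 D87918 D184335 (iv5 D87943) F68591 F65883 (iv4 F66310) F62143 (iv7 F133445) (iv2 F133446)
def n184337 : Q := act 0 n87920
theorem D184337 : act 0 n87920 = n184337 := rfl
def n184338 : Q := act 1 n87920
theorem D184338 : act 1 n87920 = n184338 := rfl
def n184339 : Q := act 7 n87920
theorem D184339 : act 7 n87920 = n184339 := rfl
def n184340 : Q := act 1 n87921
theorem D184340 : act 1 n87921 = n184340 := rfl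
def n184341 : Q := act 2 n87921
theorem D184341 : act 2 n87921 = n184341 := rfl
theorem F286271 : act 3 n184341 = n98911 := d0_2 D87921 D184341 (iv2 F152898) F152899 F133441
theorem F286272 : act 5 n184341 = n98904 := d2_2 (iv5 F134917) D184341 F152458
theorem F286273 : act 4 n184341 = n100883 := d20_6 F73929 (iv1 F152950) F152947 (iv3 F152905) (iv1 F152907) (iv3 F286271) (iv1 D100883) (iv4 D47023) F35143 D22628
def n184342 : Q := act 4 n87921
theorem D184342 : act 4 n87921 = n184342 := rfl
theorem F286274 : act 2 n184342 = n100883 := d1_1 D184342 (iv4 F286273) (iv2 D184341)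
theorem F286275 : act 7 n184342 = n100882 := d11_2 F159649 D184342 F159650
theorem F286276 : act 0 n100886 = n184342 := d20_7 D41023 D87924 F134920 F73453 F73455 (iv3 F74257) (iv4 F155010) (iv4 D184342) (iv3 D87921) (iv1 D41022)
theorem F286277 : act 1 n100789 = n184342 := d15_0 (iv0 F286276) (iv7 D100886) (iv2 F154883)
theorem E25033 : n184340 = n184316 := (c18_9 (iv1 D87911) F63055 (iv1 F74220) F70743 D46993 D100789 F286277 (iv4 D184342) D184340 (iv5 D184316))
theorem F286278 : act 0 n184316 = n87921 := (sb E25033 (iv1 D184340))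
def n184343 : Q := act 6 n87921
theorem D184343 : act 6 n87921 = n184343 := rfl
theorem F286279 : act 3 n184343 = n87923 := d7_1 D184343 (iv6 D87923) D87921
theorem F286280 : act 5 n184343 = n183122 := d12_1 D184343 (iv6 D183122) (iv5 D87409) D87410 (iv5 F134917)
def n184344 : Q := act 3 n87922
theorem D184344 : act 3 n87922 = n184344 := rfl
def n184345 : Q := act 5 n87922
theorem D184345 : act 5 n87922 = n184345 := rfl
theorem F286281 : act 4 n184345 = n87940 := d9_1 D184345 (iv5 D87940) (iv4 F74014) (iv5 F137191) F137194 (iv5 D87919) D87918 D184335 F286269 (iv5 D87943) F68591 F65883 (iv4 F66310) F62143 D87922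
def n184346 : Q := act 6 n87922
theorem D184346 : act 6 n87922 = n184346 := rfl
theorem F286282 : act 4 n184346 = n87923 := d10_1 D184346 (iv6 D87923) D87922
def n184347 : Q := act 0 n87923
theorem D184347 : act 0 n87923 = n184347 := rfl
def n184348 : Q := act 1 n87923
theorem D184348 : act 1 n87923 = n184348 := rfl
def n184349 : Q := act 7 n87923
theorem D184349 : act 7 n87923 = n184349 := rfl
theorem F286283 : act 5 n184349 = n183132 := d13_1 D184349 (iv7 D183132) (iv5 F134919)
def n184350 : Q := act 3 n87924
theorem D184350 : act 3 n87924 = n184350 := rfl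
def n184351 : Q := act 5 n87924
theorem D184351 : act 5 n87924 = n184351 := rfl
theorem F286284 : act 2 n184351 = n93527 := d2_1 D184351 (iv5 F155934) F155932
theorem F286285 : act 4 n184351 = n87937 := d9_1 D184351 (iv5 D87937) (iv4 D41058) (iv5 F30966) (iv4 F61747) F66321 (iv4 F134923) (iv5 F144233) (iv4 D93493) (iv5 D43721) (iv4 D20707) D20708 D43723 F68736 (iv4 F134920)
def n184352 : Q := act 6 n87924
theorem D184352 : act 6 n87924 = n184352 := rfl
theorem F286286 : act 4 n184352 = n88065 := d10_1 D184352 (iv6 D88065) (iv4 F134920)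
def n184353 : Q := act 3 n87925
theorem D184353 : act 3 n87925 = n184353 := rfl
def n184354 : Q := act 6 n87925
theorem D184354 : act 6 n87925 = n184354 := rfl
theorem F286287 : act 4 n184354 = n88067 := d10_1 D184354 (iv6 D88067) (iv4 F134923)
def n184355 : Q := act 0 n87926
theorem D184355 : act 0 n87926 = n184355 := rfl
def n184356 : Q := act 1 n87926
theorem D184356 : act 1 n87926 = n184356 := rfl
def n184357 : Q := act 2 n87926
theorem D184357 : act 2 n87926 = n184357 := rfl
def n184359 : Q := act 7 n87926
theorem D184359 : act 7 n87926 = n184359 := rfl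
theorem F286289 : act 3 n184359 = n87928 := d8_1 D184359 (iv7 D87928) D87926
def n184361 : Q := act 6 n87928
theorem D184361 : act 6 n87928 = n184361 := rfl
theorem F286290 : act 4 n184361 = n87929 := d10_1 D184361 (iv6 D87929) (iv4 F134924)
def n184362 : Q := act 0 n87929
theorem D184362 : act 0 n87929 = n184362 := rfl
def n184363 : Q := act 1 n87929
theorem D184363 : act 1 n87929 = n184363 := rfl
def n184364 : Q := act 4 n87930
theorem D184364 : act 4 n87930 = n184364 := rfl
def n184365 : Q := act 6 n87930
theorem D184365 : act 6 n87930 = n184365 := rfl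
theorem F286291 : act 3 n184365 = n87933 := d7_1 D184365 (iv6 D87933) (iv3 F134925)
def n184367 : Q := act 6 n87932
theorem D184367 : act 6 n87932 = n184367 := rfl
theorem F286292 : act 2 n184367 = n93443 := d3_1 D184367 (iv6 D93443) (iv2 F134928)
theorem F286293 : act 4 n184367 = n87933 := d10_1 D184367 (iv6 D87933) D87932
def n184368 : Q := act 0 n87933
theorem D184368 : act 0 n87933 = n184368 := rfl
def n184369 : Q := act 1 n87933
theorem D184369 : act 1 n87933 = n184369 := rfl
theorem F286294 : act 1 n184369 = n93447 := d15_1 D184369 (iv7 D93447) (iv2 F134929)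
theorem F286295 : act 5 n182131 = n184369 := d21_6 (iv5 D40388) (iv1 D19083) D19084 (iv6 F61459) D86971 D182131 (iv1 D184369) (iv5 F283616) (iv6 D182161) (iv1 F133496)
def n184370 : Q := act 7 n87933
theorem D184370 : act 7 n87933 = n184370 := rfl
theorem F286296 : act 2 n184370 = n93447 := d4_1 D184370 (iv7 D93447) (iv2 F134929)
theorem F286297 : act 1 n93447 = n184368 := d15_0 (iv0 D184368) D184370 F286296
theorem F286298 : act 1 n93445 = n184370 := d15_1 D93445 (iv7 D184370) F134929
theorem F286299 : act 1 n184370 = n93444 := d15_0 (iv0 D93444) D93447 (iv2 F286296)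
def n184376 : Q := act 0 n87936
theorem D184376 : act 0 n87936 = n184376 := rfl
def n184377 : Q := act 1 n87936
theorem D184377 : act 1 n87936 = n184377 := rfl
def n184378 : Q := act 2 n87936
theorem D184378 : act 2 n87936 = n184378 := rfl
theorem F286306 : act 3 n184378 = n93524 := d0_2 D87936 D184378 (iv2 D93524) (iv3 D43735) F66335
def n184379 : Q := act 5 n87936
theorem D184379 : act 5 n87936 = n184379 := rfl
theorem F286308 : act 3 n184379 = n87937 := d6_1 D184379 (iv5 D87937) D87936
def n184380 : Q := act 6 n87936
theorem D184380 : act 6 n87936 = n184380 := rfl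
theorem F286309 : act 3 n184380 = n87938 := d7_1 D184380 (iv6 D87938) D87936
theorem F286310 : act 4 n184380 = n184380 := d10_1 D184380 (iv6 D184380) F134933
def n184381 : Q := act 6 n87937
theorem D184381 : act 6 n87937 = n184381 := rfl
theorem F286311 : act 2 n184381 = n93528 := d3_1 D184381 (iv6 D93528) (iv2 F134934)
def n184383 : Q := act 0 n87939
theorem D184383 : act 0 n87939 = n184383 := rfl
theorem F286315 : act 3 n184383 = n93538 := d20_5 F70667 F74015 F74014 D87939 D184383 (iv4 D93538) (iv1 D43739) (iv4 F68755) (iv3 D43735) (iv1 F70666)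
def n184384 : Q := act 1 n87939
theorem D184384 : act 1 n87939 = n184384 := rfl
def n184385 : Q := act 2 n87939
theorem D184385 : act 2 n87939 = n184385 := rfl
theorem F286316 : act 4 n184385 = n93066 := d1_2 (iv4 F134937) D184385 (iv2 D93066)
def n184386 : Q := act 5 n87939
theorem D184386 : act 5 n87939 = n184386 := rfl
theorem F286317 : act 3 n184386 = n87940 := d6_1 D184386 (iv5 D87940) D87939
def n184388 : Q := act 6 n87940
theorem D184388 : act 6 n87940 = n184388 := rfl
def n184392 : Q := act 2 n87942
theorem D184392 : act 2 n87942 = n184392 := rfl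
theorem F286321 : act 4 n184392 = n103939 := d1_2 (iv4 F134938) D184392 (iv2 D103939)
def n184394 : Q := act 6 n87942
theorem D184394 : act 6 n87942 = n184394 := rfl
theorem F286323 : act 3 n184394 = n87944 := d7_1 D184394 (iv6 D87944) D87942
theorem F286324 : act 4 n184394 = n103941 := d10_1 D184394 (iv6 D103941) (iv4 F134938)
def n184396 : Q := act 5 n87944
theorem D184396 : act 5 n87944 = n184396 := rfl
def n184397 : Q := act 0 n87945
theorem D184397 : act 0 n87945 = n184397 := rfl
theorem F286327 : act 2 n87949 = n184397 := d15_3 (iv0 D184397) (iv0 D87945) D87949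
theorem F286328 : act 7 n184397 = n87947 := d4_2 D87949 F286327 (iv2 D87947)
theorem F286329 : act 1 n87946 = n184397 := d15_1 D87946 F286328 (iv2 D87947)
def n184398 : Q := act 2 n87945
theorem D184398 : act 2 n87945 = n184398 := rfl
theorem F286330 : act 7 n87946 = n184398 := d15_2 (iv0 D87945) D87946 (iv2 D184398)
def n184399 : Q := act 3 n87945
theorem D184399 : act 3 n87945 = n184399 := rfl
def n184400 : Q := act 4 n87945
theorem D184400 : act 4 n87945 = n184400 := rfl
def n184401 : Q := act 5 n87945
theorem D184401 : act 5 n87945 = n184401 := rfl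
def n184402 : Q := act 6 n87945
theorem D184402 : act 6 n87945 = n184402 := rfl
def n184403 : Q := act 7 n87945
theorem D184403 : act 7 n87945 = n184403 := rfl
theorem F286331 : act 2 n184403 = n87946 := d4_1 D184403 F286330 (iv2 D184398)
def n184404 : Q := act 3 n87946
theorem D184404 : act 3 n87946 = n184404 := rfl
def n184405 : Q := act 4 n87946
theorem D184405 : act 4 n87946 = n184405 := rfl
theorem F286332 : act 3 n103972 = n184405 := d20_5 (iv4 D47997) (iv1 F36243) (iv4 F36335) (iv3 F75623) (iv1 F159425) (iv4 D184405) (iv1 D87946) (iv4 F134883) (iv3 D87873) (iv1 F75395)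
def n184406 : Q := act 5 n87946
theorem D184406 : act 5 n87946 = n184406 := rfl
def n184407 : Q := act 6 n87946
theorem D184407 : act 6 n87946 = n184407 := rfl
def n184408 : Q := act 0 n87947
theorem D184408 : act 0 n87947 = n184408 := rfl
theorem F286333 : act 1 n87949 = n184408 := d15_0 (iv0 D184408) (iv7 F286328) (iv2 F286327)
theorem F286334 : act 4 n103964 = n184408 := d20_6 (iv4 D23240) (iv1 D10929) D10930 D23244 D48130 D103964 (iv1 F286333) (iv4 F159353) (iv3 D103921) (iv1 F75594)
def n184409 : Q := act 1 n87947
theorem D184409 : act 1 n87947 = n184409 := rfl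
theorem F286335 : act 1 n184409 = n87949 := d15_1 D184409 (iv7 D87949) D87947
def n184410 : Q := act 5 n87947
theorem D184410 : act 5 n87947 = n184410 := rfl
theorem F286336 : act 2 n184410 = n87948 := d2_1 D184410 (iv5 D87948) D87947
def n184411 : Q := act 0 n87948
theorem D184411 : act 0 n87948 = n184411 := rfl
def n184412 : Q := act 1 n87948
theorem D184412 : act 1 n87948 = n184412 := rfl
def n184413 : Q := act 4 n87948
theorem D184413 : act 4 n87948 = n184413 := rfl
def n184414 : Q := act 6 n87948
theorem D184414 : act 6 n87948 = n184414 := rfl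
theorem F286337 : act 3 n184414 = n87953 := d7_1 D184414 (iv6 D87953) (iv3 F134941)
theorem F286338 : act 5 n184414 = n181931 := d12_1 D184414 (iv6 D181931) (iv5 D86895) (iv6 F62300) D87948
def n184415 : Q := act 7 n87948
theorem D184415 : act 7 n87948 = n184415 := rfl
theorem F286339 : act 3 n184415 = n87954 := d8_1 D184415 (iv7 D87954) (iv3 F134941)
theorem F286340 : act 5 n184415 = n87949 := d13_1 D184415 (iv7 D87949) D87948
def n184416 : Q := act 6 n87949
theorem D184416 : act 6 n87949 = n184416 := rfl
theorem F286341 : act 3 n184416 = n87955 := d7_1 D184416 (iv6 D87955) (iv3 F134942)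
def n184422 : Q := act 6 n87952
theorem D184422 : act 6 n87952 = n184422 := rfl
theorem F286345 : act 4 n184422 = n87953 := d10_1 D184422 (iv6 D87953) D87952
def n184423 : Q := act 0 n87953
theorem D184423 : act 0 n87953 = n184423 := rfl
def n184424 : Q := act 1 n87953
theorem D184424 : act 1 n87953 = n184424 := rfl
def n184425 : Q := act 7 n87953
theorem D184425 : act 7 n87953 = n184425 := rfl
theorem F286346 : act 5 n184425 = n181935 := d13_1 D184425 (iv7 D181935) (iv5 F134944)
def n184426 : Q := act 6 n87954
theorem D184426 : act 6 n87954 = n184426 := rfl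
def n184428 : Q := act 0 n87956
theorem D184428 : act 0 n87956 = n184428 := rfl
theorem F286348 : act 6 n184428 = n114692 := d21_5 F68960 (iv1 F83059) (iv5 F83058) D87956 D184428 (iv5 D114692) (iv1 D52934) D52935 F83652 (iv1 F69247)
def n184429 : Q := act 1 n87956
theorem D184429 : act 1 n87956 = n184429 := rfl
def n184430 : Q := act 7 n87956
theorem D184430 : act 7 n87956 = n184430 := rfl
theorem F286349 : act 4 n184430 = n87960 := d11_1 D184430 (iv7 D87960) (iv4 F134948)
def n184441 : Q := act 0 n87959
theorem D184441 : act 0 n87959 = n184441 := rfl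
def n184442 : Q := act 1 n87959
theorem D184442 : act 1 n87959 = n184442 := rfl
def n184443 : Q := act 4 n87959
theorem D184443 : act 4 n87959 = n184443 := rfl
def n184444 : Q := act 7 n87959
theorem D184444 : act 7 n87959 = n184444 := rfl
theorem F286352 : act 5 n184444 = n87960 := d13_1 D184444 (iv7 D87960) D87959
def n184445 : Q := act 0 n87961
theorem D184445 : act 0 n87961 = n184445 := rfl
def n184446 : Q := act 1 n87961
theorem D184446 : act 1 n87961 = n184446 := rfl
def n184447 : Q := act 5 n87961
theorem D184447 : act 5 n87961 = n184447 := rfl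
theorem F286353 : act 3 n184447 = n87965 := d6_1 D184447 (iv5 D87965) (iv3 F134949)
def n184448 : Q := act 7 n87961
theorem D184448 : act 7 n87961 = n184448 := rfl
def n184449 : Q := act 0 n87962
theorem D184449 : act 0 n87962 = n184449 := rfl
def n184450 : Q := act 1 n87962
theorem D184450 : act 1 n87962 = n184450 := rfl
def n184451 : Q := act 7 n87962
theorem D184451 : act 7 n87962 = n184451 := rfl
theorem F286356 : act 4 n184451 = n87966 := d11_1 D184451 (iv7 D87966) (iv4 F134951)
def n184462 : Q := act 0 n87965
theorem D184462 : act 0 n87965 = n184462 := rfl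
def n184463 : Q := act 1 n87965
theorem D184463 : act 1 n87965 = n184463 := rfl
def n184464 : Q := act 4 n87965
theorem D184464 : act 4 n87965 = n184464 := rfl
def n184465 : Q := act 7 n87965
theorem D184465 : act 7 n87965 = n184465 := rfl
theorem F286359 : act 5 n184465 = n87966 := d13_1 D184465 (iv7 D87966) D87965
def n184466 : Q := act 5 n87967
theorem D184466 : act 5 n87967 = n184466 := rfl
theorem F286360 : act 2 n184466 = n87986 := d2_1 D184466 (iv5 D87986) (iv2 F155679)
theorem F286361 : act 7 n184466 = n87991 := d13_2 (iv7 F155680) D184466 (iv5 D87991)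
def n184467 : Q := act 6 n87967
theorem D184467 : act 6 n87967 = n184467 := rfl
theorem F286362 : act 2 n184467 = n87987 := d3_1 D184467 (iv6 D87987) (iv2 F155679)
def n184468 : Q := act 0 n87969
theorem D184468 : act 0 n87969 = n184468 := rfl
def n184469 : Q := act 4 n87969
theorem D184469 : act 4 n87969 = n184469 := rfl
theorem F286363 : act 2 n184469 = n87995 := d1_1 D184469 (iv4 D87995) (iv2 F134953)
theorem F286364 : act 6 n184469 = n171100 := d10_2 (iv6 F134955) D184469 (iv4 D171100)
theorem F286365 : act 1 n184469 = n100575 := d18_6 (iv1 D46906) F62993 (iv1 F68395) F68139 D87969 D184469 (iv4 D100575) (iv0 F239752) (iv5 D100544)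
def n184470 : Q := act 7 n87969
theorem D184470 : act 7 n87969 = n184470 := rfl
theorem F286366 : act 2 n184470 = n87996 := d4_1 D184470 (iv7 D87996) (iv2 F134953)
theorem F286367 : act 3 n184470 = n171109 := d8_1 D184470 (iv7 D171109) (iv3 F134954)
theorem F286368 : act 5 n184470 = n87970 := d13_1 D184470 (iv7 D87970) D87969
theorem F286369 : act 1 n87996 = n184468 := d15_0 (iv0 D184468) D184470 F286366
theorem F286370 : act 1 n87994 = n184470 := d15_1 D87994 (iv7 D184470) F134953
theorem F286371 : act 1 n184470 = n87993 := d15_0 (iv0 D87993) D87996 (iv2 F286366)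
def n184471 : Q := act 1 n87972
theorem D184471 : act 1 n87972 = n184471 := rfl
theorem F286372 : act 1 n184471 = n152563 := d15_1 D184471 (iv7 D152563) (iv2 F134961)
theorem F286373 : act 7 n184471 = n152561 := d15_2 (iv0 F154353) D184471 (iv2 F239754)
theorem F286374 : act 2 n152562 = n184471 := d4_3 F286373 (iv2 F239754) F239753
theorem F286375 : act 3 n114358 = n184471 := d8_3 F286373 F239755 F205638
def n184472 : Q := act 4 n87972
theorem D184472 : act 4 n87972 = n184472 := rfl
theorem F286376 : act 2 n184472 = n152560 := d1_1 D184472 F239748 (iv2 F134961)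
theorem F286377 : act 6 n184472 = n152288 := d10_2 (iv6 F134963) D184472 (iv4 D152288)
def n184473 : Q := act 5 n87973
theorem D184473 : act 5 n87973 = n184473 := rfl
theorem F286380 : act 6 n184473 = n182044 := d12_2 D87973 D184473 (iv5 D182044) (iv6 D86947) (iv5 F62312)
def n184474 : Q := act 6 n87974
theorem D184474 : act 6 n87974 = n184474 := rfl
theorem F286382 : act 2 n184474 = n150241 := d3_1 D184474 (iv6 D150241) (iv2 F134967)
theorem F286383 : act 3 n184474 = n153590 := d7_1 D184474 (iv6 D153590) (iv3 F134968)
theorem F286384 : act 4 n184474 = n87975 := d10_1 D184474 (iv6 D87975) D87974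
def n184475 : Q := act 0 n87975
theorem D184475 : act 0 n87975 = n184475 := rfl
theorem F286385 : act 2 n122352 = n184475 := d15_3 (iv0 D184475) F195921 (iv7 F195671)
theorem F286388 : act 7 n184475 = n122459 := d4_2 (iv7 F195671) F286385 (iv2 D122459)
theorem E25034 : n171089 = n122459 := (c15_2 (iv0 F195672) D171089 (iv7 F286388) (iv2 F286385))
theorem F286389 : act 0 n122459 = n82002 := (sb E25034 (iv1 D171089))
def n184476 : Q := act 5 n87975
theorem D184476 : act 5 n87975 = n184476 := rfl
theorem F286391 : act 2 n184476 = n171090 := d2_1 D184476 (iv5 D171090) (iv2 F134973)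
theorem F286392 : act 6 n184476 = n182048 := d12_2 D87975 D184476 (iv5 D182048) (iv6 D86948) (iv5 F64305)
theorem F286393 : act 0 n179881 = n184476 := d21_7 (iv5 D19333) D19329 (iv5 F58369) D81865 F198824 F198822 D179881 (iv5 D184476) (iv6 D87975) (iv1 D41074)
def n184477 : Q := act 7 n87975
theorem D184477 : act 7 n87975 = n184477 := rfl
theorem F286395 : act 6 n184477 = n170952 := d14_1 D184477 F268569 (iv6 D82001) (iv7 F62317) D87975
theorem F286396 : act 1 n122459 = n184477 := d15_1 (iv0 F286389) (iv7 D184477) F134973
theorem F286397 : act 1 n184477 = n122352 := d15_1 F286396 F195671 D122459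
def n184478 : Q := act 6 n87976
theorem D184478 : act 6 n87976 = n184478 := rfl
theorem F286398 : act 2 n184478 = n100041 := d3_1 D184478 (iv6 D100041) F134978
theorem F286399 : act 4 n184478 = n100040 := d10_1 D184478 (iv6 D100040) (iv4 F134976)
theorem F286400 : act 0 n184478 = n182093 := d20_7 F133337 (iv1 F133480) (iv4 F286212) D184020 F286213 (iv3 F153972) (iv4 F286399) (iv4 D182093) (iv3 D86962) (iv1 F133340)
def n184479 : Q := act 6 n87977
theorem D184479 : act 6 n87977 = n184479 := rfl
theorem F286401 : act 2 n184479 = n146992 := d3_1 D184479 (iv6 D146992) (iv2 F134979)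
theorem F286402 : act 4 n184479 = n149067 := d10_1 D184479 (iv6 D149067) (iv4 F134981)
def n184480 : Q := act 0 n87978
theorem D184480 : act 0 n87978 = n184480 := rfl
theorem F286403 : act 4 n184480 = n99361 := d20_8 (iv4 F59353) (iv1 F123104) (iv4 F155408) (iv3 F155409) (iv1 D41084) (iv3 F62321) (iv4 F134985) D184480 (iv3 D99361) (iv1 F73369)
theorem F286404 : act 3 n174033 = n184480 := d5_5 F286403 (iv3 D99361) F195692 D83204 D174033
theorem F286405 : act 7 n100490 = n184480 := d11_0 F286403 F272813 D100490
theorem F286406 : act 0 n184480 = n158697 := d20_7 F117282 (iv1 D36510) (iv4 F29198) (iv3 F34738) D46462 D99361 (iv4 F286403) F249851 (iv3 D76069) (iv1 F117281)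
theorem F286407 : act 2 n184480 = n171078 := d15_3 (iv0 D171078) (iv0 F154553) F286405
def n184481 : Q := act 1 n87978
theorem D184481 : act 1 n87978 = n184481 := rfl
theorem F286408 : act 1 n184481 = n158697 := d15_1 D184481 F249852 (iv2 F134984)
theorem F286409 : act 7 n184481 = n171078 := d15_2 (iv0 D184480) D184481 (iv2 F286407)
theorem F286410 : act 2 n100490 = n184481 := d4_3 F286409 (iv2 F286407) (iv7 F286405)
theorem F286411 : act 4 n184481 = n100489 := d1_2 D100490 F286410 (iv2 D100489)
def n184482 : Q := act 5 n87978
theorem D184482 : act 5 n87978 = n184482 := rfl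
def n184483 : Q := act 7 n87978
theorem D184483 : act 7 n87978 = n184483 := rfl
theorem F286413 : act 2 n184483 = n158697 := d4_1 D184483 F249852 (iv2 F134984)
theorem F286414 : act 4 n184483 = n87982 := d11_1 D184483 (iv7 D87982) (iv4 F134985)
theorem F286415 : act 1 n100490 = n184483 := d15_1 (iv0 F154553) (iv7 D184483) F134984
theorem F286416 : act 1 n184483 = n171078 := d15_1 F286415 (iv7 F286409) (iv2 F286410)
def n184484 : Q := act 5 n87979
theorem D184484 : act 5 n87979 = n184484 := rfl
theorem F286417 : act 2 n184484 = n171093 := d2_1 D184484 (iv5 D171093) (iv2 F233092)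
theorem F286418 : act 3 n184484 = n150110 := d6_1 D184484 (iv5 D150110) F233067
theorem F286419 : act 7 n184484 = n171096 := d13_2 F233090 D184484 (iv5 D171096)
theorem F286420 : act 0 n184484 = n178077 := d21_1 D184484 (iv5 D178077) (iv6 D84764) (iv1 F199503) (iv6 D81864) F62305 (iv1 D19330) D19333 D41076 D87979
def n184485 : Q := act 6 n87979
theorem D184485 : act 6 n87979 = n184485 := rfl
theorem F286421 : act 2 n184485 = n171094 := d3_1 D184485 (iv6 D171094) (iv2 F233092)
theorem F286422 : act 3 n184485 = n150111 := d7_1 D184485 (iv6 D150111) F233067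
theorem F286423 : act 5 n184485 = n170763 := d21_6 F62305 (iv1 D19330) D19333 D41076 D87979 D184485 (iv1 D170763) (iv5 D81869) (iv6 D37483) D37480
def n184486 : Q := act 3 n87980
theorem D184486 : act 3 n87980 = n184486 := rfl
theorem F286424 : act 2 n184486 = n150112 := d0_1 D184486 (iv3 D150112) F192081 (iv3 F233089) F233088
theorem F286425 : act 7 n184486 = n171091 := d8_2 (iv7 F233093) D184486 (iv3 D171091)
def n184487 : Q := act 4 n87980
theorem D184487 : act 4 n87980 = n184487 := rfl
theorem F286426 : act 2 n184487 = n171095 := d1_1 D184487 (iv4 D171095) F233088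
theorem F286427 : act 7 n184487 = n171092 := d11_2 (iv7 F233093) D184487 (iv4 D171092)
def n184488 : Q := act 5 n87980
theorem D184488 : act 5 n87980 = n184488 := rfl
theorem F286428 : act 2 n184488 = n171096 := d2_1 D184488 (iv5 D171096) F233088
theorem F286429 : act 7 n184488 = n171093 := d13_2 (iv7 F233093) D184488 (iv5 D171093)
theorem F286430 : act 1 n184488 = n178077 := d15_0 (iv0 F286420) F286419 (iv2 F286428)
def n184489 : Q := act 6 n87980
theorem D184489 : act 6 n87980 = n184489 := rfl
theorem F286431 : act 2 n184489 = n171097 := d3_1 D184489 (iv6 D171097) F233088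
def n184490 : Q := act 0 n87981
theorem D184490 : act 0 n87981 = n184490 := rfl
def n184491 : Q := act 1 n87981
theorem D184491 : act 1 n87981 = n184491 := rfl
theorem F286432 : act 1 n184491 = n159129 := d15_1 D184491 F250545 (iv2 F134987)
def n184492 : Q := act 4 n87981
theorem D184492 : act 4 n87981 = n184492 := rfl
theorem F286433 : act 2 n184492 = n171100 := d1_1 D184492 (iv4 D171100) (iv2 F134987)
theorem F286434 : act 6 n184492 = n87995 := d10_2 (iv6 F134989) D184492 (iv4 D87995)
def n184493 : Q := act 7 n87981
theorem D184493 : act 7 n87981 = n184493 := rfl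
theorem F286435 : act 2 n184493 = n159129 := d4_1 D184493 F250545 (iv2 F134987)
theorem F286436 : act 3 n184493 = n88016 := d8_1 D184493 (iv7 D88016) (iv3 F134988)
theorem F286437 : act 5 n184493 = n87982 := d13_1 D184493 (iv7 D87982) D87981
theorem F286438 : act 1 n159129 = n184490 := d15_0 (iv0 D184490) D184493 F286435
theorem F286439 : act 1 n171099 = n184493 := d15_1 D171099 (iv7 D184493) F134987
theorem F286440 : act 1 n184493 = n171098 := d15_0 (iv0 D171098) (iv7 F250545) (iv2 F286435)
def n184494 : Q := act 5 n87985
theorem D184494 : act 5 n87985 = n184494 := rfl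
def n184495 : Q := act 6 n87985
theorem D184495 : act 6 n87985 = n184495 := rfl
theorem F286441 : act 4 n184495 = n87987 := d10_1 D184495 (iv6 D87987) D87985
def n184496 : Q := act 0 n87986
theorem D184496 : act 0 n87986 = n184496 := rfl
theorem F286442 : act 1 n87991 = n184496 := d15_0 (iv0 D184496) (iv7 F155766) F155764
def n184497 : Q := act 1 n87986
theorem D184497 : act 1 n87986 = n184497 := rfl
theorem F286443 : act 1 n184497 = n87991 := d15_1 D184497 (iv7 F286361) F286360
def n184498 : Q := act 4 n87986
theorem D184498 : act 4 n87986 = n184498 := rfl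
def n184499 : Q := act 6 n87986
theorem D184499 : act 6 n87986 = n184499 := rfl
def n184500 : Q := act 0 n87987
theorem D184500 : act 0 n87987 = n184500 := rfl
def n184501 : Q := act 1 n87987
theorem D184501 : act 1 n87987 = n184501 := rfl
def n184502 : Q := act 5 n87987
theorem D184502 : act 5 n87987 = n184502 := rfl
theorem F286444 : act 3 n184502 = n172721 := d6_1 D184502 (iv5 F270973) F155644
def n184503 : Q := act 7 n87987
theorem D184503 : act 7 n87987 = n184503 := rfl
def n184504 : Q := act 5 n87989
theorem D184504 : act 5 n87989 = n184504 := rfl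
theorem F286445 : act 3 n184504 = n87991 := d6_1 D184504 (iv5 D87991) D87989
def n184505 : Q := act 6 n87989
theorem D184505 : act 6 n87989 = n184505 := rfl
theorem F286446 : act 3 n184505 = n87992 := d7_1 D184505 (iv6 D87992) D87989
def n184506 : Q := act 5 n87990
theorem D184506 : act 5 n87990 = n184506 := rfl
theorem F286447 : act 3 n184506 = n92584 := d6_1 D184506 (iv5 D92584) F134997
def n184507 : Q := act 6 n87990
theorem D184507 : act 6 n87990 = n184507 := rfl
theorem F286448 : act 3 n184507 = n92585 := d7_1 D184507 (iv6 D92585) F134997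
theorem F286449 : act 4 n184507 = n87992 := d10_1 D184507 (iv6 D87992) D87990
def n184508 : Q := act 4 n87991
theorem D184508 : act 4 n87991 = n184508 := rfl
def n184509 : Q := act 6 n87991
theorem D184509 : act 6 n87991 = n184509 := rfl
def n184510 : Q := act 0 n87992
theorem D184510 : act 0 n87992 = n184510 := rfl
def n184511 : Q := act 1 n87992
theorem D184511 : act 1 n87992 = n184511 := rfl
def n184512 : Q := act 5 n87992
theorem D184512 : act 5 n87992 = n184512 := rfl
def n184513 : Q := act 7 n87992
theorem D184513 : act 7 n87992 = n184513 := rfl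
def n184514 : Q := act 2 n87993
theorem D184514 : act 2 n87993 = n184514 := rfl
theorem F286450 : act 7 n87994 = n184514 := d15_2 (iv0 D87993) D87994 (iv2 D184514)
def n184515 : Q := act 3 n87993
theorem D184515 : act 3 n87993 = n184515 := rfl
def n184516 : Q := act 4 n87993
theorem D184516 : act 4 n87993 = n184516 := rfl
def n184517 : Q := act 5 n87993
theorem D184517 : act 5 n87993 = n184517 := rfl
def n184518 : Q := act 6 n87993
theorem D184518 : act 6 n87993 = n184518 := rfl
def n184519 : Q := act 7 n87993
theorem D184519 : act 7 n87993 = n184519 := rfl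
theorem F286451 : act 2 n184519 = n87994 := d4_1 D184519 F286450 (iv2 D184514)
def n184520 : Q := act 3 n87994
theorem D184520 : act 3 n87994 = n184520 := rfl
def n184521 : Q := act 4 n87994
theorem D184521 : act 4 n87994 = n184521 := rfl
def n184522 : Q := act 5 n87994
theorem D184522 : act 5 n87994 = n184522 := rfl
theorem F286452 : act 6 n94720 = n184522 := d21_5 (iv5 F58369) (iv1 D37481) D37482 D81866 F146017 (iv5 D184522) (iv1 D87994) (iv5 D41079) (iv6 D19334) D19329
theorem F286453 : act 0 n94068 = n184502 := d21_7 (iv5 F286368) (iv1 F286370) D184522 (iv6 F286452) (iv1 D94720) F69649 D94068 (iv5 D184502) (iv6 D87987) (iv1 F134960)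
theorem F286454 : act 4 n172721 = n183046 := d20_6 D87420 (iv1 F144936) (iv4 D94069) (iv3 F144931) F286453 F286444 (iv1 D183046) (iv4 D87382) F61728 D40630
def n184523 : Q := act 6 n87994
theorem D184523 : act 6 n87994 = n184523 := rfl
def n184524 : Q := act 0 n87995
theorem D184524 : act 0 n87995 = n184524 := rfl
theorem F286455 : act 4 n184524 = n99381 := d20_8 (iv4 F74132) (iv1 F147828) (iv4 D96155) F70476 (iv1 D41098) (iv3 F62322) D87995 D184524 (iv3 D99381) (iv1 F73390)
theorem F286456 : act 7 n100575 = n184524 := d11_0 F286455 F153049 D100575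
def n184525 : Q := act 1 n87995
theorem D184525 : act 1 n87995 = n184525 := rfl
theorem F286457 : act 4 n100574 = n184525 := d20_6 F134804 (iv1 F140433) (iv4 D91344) (iv3 F140427) F285129 F285126 (iv1 D184525) (iv4 D87995) F62322 D41097
theorem F286458 : act 2 n184525 = n100575 := d1_1 F286457 (iv4 D100575) D100574
def n184526 : Q := act 3 n87995
theorem D184526 : act 3 n87995 = n184526 := rfl
theorem F286459 : act 4 n184526 = n88022 := d5_2 D87995 D184526 (iv3 D88022) (iv4 D41099) (iv3 F62322)
def n184527 : Q := act 5 n87995
theorem D184527 : act 5 n87995 = n184527 := rfl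
def n184528 : Q := act 7 n87995
theorem D184528 : act 7 n87995 = n184528 := rfl
theorem F286460 : act 4 n184528 = n87996 := d11_1 D184528 (iv7 D87996) D87995
theorem F286461 : act 1 n100575 = n184528 := d15_1 F286365 (iv7 D184528) (iv2 F286363)
def n184529 : Q := act 6 n87996
theorem D184529 : act 6 n87996 = n184529 := rfl
theorem F286462 : act 3 n184529 = n88025 := d7_1 D184529 (iv6 D88025) (iv3 F134998)
def n184530 : Q := act 6 n87997
theorem D184530 : act 6 n87997 = n184530 := rfl
theorem F286463 : act 2 n184530 = n88815 := d3_1 D184530 (iv6 D88815) (iv2 F135000)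
def n184531 : Q := act 0 n87998
theorem D184531 : act 0 n87998 = n184531 := rfl
def n184532 : Q := act 1 n87998
theorem D184532 : act 1 n87998 = n184532 := rfl
theorem F286466 : act 1 n184532 = n88819 := d15_1 D184532 (iv7 D88819) (iv2 F135003)
def n184533 : Q := act 5 n87998
theorem D184533 : act 5 n87998 = n184533 := rfl
theorem F286469 : act 6 n184533 = n88812 := d12_2 D87998 D184533 (iv5 D88812) (iv6 D41464) (iv5 F62325)
def n184534 : Q := act 7 n87998
theorem D184534 : act 7 n87998 = n184534 := rfl
theorem F286470 : act 2 n184534 = n88819 := d4_1 D184534 (iv7 D88819) (iv2 F135003)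
theorem F286471 : act 3 n184534 = n88002 := d8_1 D184534 (iv7 D88002) (iv3 F135004)
theorem F286472 : act 6 n184534 = n181940 := d14_1 D184534 (iv7 D181940) (iv6 D86899) (iv7 F62326) D87998
theorem F286473 : act 1 n88819 = n184531 := d15_0 (iv0 D184531) D184534 F286470
theorem F286474 : act 1 n88817 = n184534 := d15_1 D88817 (iv7 D184534) F135003
theorem F286475 : act 1 n184534 = n88816 := d15_0 (iv0 D88816) D88819 (iv2 F286470)
def n184535 : Q := act 2 n87999
theorem D184535 : act 2 n87999 = n184535 := rfl
theorem F286476 : act 7 n88000 = n184535 := d15_2 (iv0 D87999) D88000 (iv2 D184535)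
def n184539 : Q := act 7 n87999
theorem D184539 : act 7 n87999 = n184539 := rfl
theorem F286477 : act 2 n184539 = n88000 := d4_1 D184539 F286476 (iv2 D184535)
def n184542 : Q := act 5 n88000
theorem D184542 : act 5 n88000 = n184542 := rfl
def n184543 : Q := act 6 n88000
theorem D184543 : act 6 n88000 = n184543 := rfl
def n184544 : Q := act 0 n88001
theorem D184544 : act 0 n88001 = n184544 := rfl
def n184545 : Q := act 4 n88001
theorem D184545 : act 4 n88001 = n184545 := rfl
theorem F286479 : act 6 n184545 = n89209 := d10_2 (iv6 F135007) D184545 (iv4 D89209)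
def n184546 : Q := act 7 n88001
theorem D184546 : act 7 n88001 = n184546 := rfl
theorem F286480 : act 2 n184546 = n89229 := d4_1 D184546 (iv7 D89229) (iv2 F135006)
theorem F286481 : act 5 n184546 = n88002 := d13_1 D184546 (iv7 D88002) D88001
theorem F286483 : act 1 n89227 = n184546 := d15_1 D89227 (iv7 D184546) F135006
theorem F286484 : act 1 n184546 = n89226 := d15_0 (iv0 D89226) D89229 (iv2 F286480)
def n184547 : Q := act 4 n88004
theorem D184547 : act 4 n88004 = n184547 := rfl
theorem F286485 : act 3 n184547 = n164654 := d5_1 D184547 (iv4 D164654) (iv3 F233120) F233121 D88004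
def n184548 : Q := act 5 n88004
theorem D184548 : act 5 n88004 = n184548 := rfl
theorem F286486 : act 3 n184548 = n88006 := d6_1 D184548 (iv5 D88006) D88004
def n184549 : Q := act 6 n88004
theorem D184549 : act 6 n88004 = n184549 := rfl
theorem F286487 : act 3 n184549 = n88007 := d7_1 D184549 (iv6 D88007) D88004
def n184550 : Q := act 1 n88006
theorem D184550 : act 1 n88006 = n184550 := rfl
theorem F286488 : act 1 n184550 = n88011 := d15_1 D184550 F155830 F155828
def n184551 : Q := act 4 n88006
theorem D184551 : act 4 n88006 = n184551 := rfl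
def n184552 : Q := act 6 n88006
theorem D184552 : act 6 n88006 = n184552 := rfl
def n184553 : Q := act 0 n88007
theorem D184553 : act 0 n88007 = n184553 := rfl
def n184554 : Q := act 1 n88007
theorem D184554 : act 1 n88007 = n184554 := rfl
theorem F286489 : act 1 n184554 = n182123 := d15_1 D184554 (iv7 F283515) F155829
theorem F286490 : act 6 n88173 = n184554 := d21_3 D19357 D41155 D88173 (iv1 D184554) (iv6 D88007) D88006 F135125 (iv5 D88168) (iv6 D41154) (iv1 D19356)
theorem F286491 : act 2 n182126 = n184554 := d15_3 F286489 (iv0 D182123) D182126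
theorem E25035 : n182110 = n88173 := ((c3_3 F285610 F286491 (iv6 F286490) (iv2 F285607))).symm
theorem F286492 : act 2 n88173 = n183832 := (sb E25035 (iv2 F285607))
theorem E25036 : n183829 = n41155 := ((((iv5 D88173)).symm.trans (sb E25035 (iv5 F285606)))).symm
theorem F286493 : act 7 n88173 = n86965 := (sb E25035 (iv7 D182110))
theorem E25037 : n88170 = n87696 := ((D88170).symm.trans (sb E25036 (iv2 D183829)))
theorem E25038 : n88175 = n87697 := ((D88175).symm.trans (sb E25036 (iv7 F285605)))
theorem F286494 : act 2 n87696 = n41155 := (sb E25037 (iv2 D88170))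
theorem E25039 : n183834 = n41156 := ((D183834).symm.trans (sb E25037 (iv7 F135126)))
theorem F286495 : act 7 n87697 = n41155 := (sb E25038 (iv7 D88175))
theorem F286496 : act 2 n41156 = n87697 := (sb E25039 F285615)
theorem E25040 : n182089 = n88178 := (((D88178).symm.trans (sb E25039 F285616))).symm
theorem F286497 : act 7 n41156 = n87696 := (sb E25039 (iv7 D183834))
theorem F286498 : act 2 n88178 = n86965 := (sb E25040 F283495)
theorem E25041 : n86961 = n86904 := ((((iv6 F135128)).symm.trans (sb E25040 (iv6 D182089)))).symm
theorem F286499 : act 7 n88178 = n183832 := (sb E25040 F285608)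
theorem E25042 : n182084 = n40380 := ((((iv1 F133338)).symm.trans (sb E25041 D182084))).symm
theorem E25049 : n86966 = n86905 := ((((iv1 F133333)).symm.trans (sb E25042 (iv1 F283488)))).symm
theorem E25053 : n182111 = n181960 := (((D181960).symm.trans (sb E25049 D182111))).symm
theorem F286514 : act 1 n181960 = n99882 := (sb E25053 F285613)
theorem F286515 : act 2 n181960 = n86970 := (sb E25053 F283509)
theorem F286516 : act 7 n184554 = n181960 := d4_2 D182126 F286491 F286515
theorem E25054 : n182124 = n88007 := (c15_1 D182124 D184554 F286516 F286515)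
theorem E25055 : n184553 = n86970 := ((D184553).symm.trans (sb E25054 (iv1 D182124)))
theorem F286517 : act 1 n86970 = n88007 := (sb E25055 (iv0 D184553))
theorem F286518 : act 1 n100942 = n88178 := d15_1 (iv0 F156902) F286499 (iv2 F286492)
theorem F286519 : act 7 n183830 = n88176 := d8_2 F286497 D183830 (iv3 D88176)
theorem F286520 : act 7 n183831 = n88177 := d11_2 F286497 D183831 (iv4 D88177)
theorem F286521 : act 2 n183836 = n88177 := d1_3 (iv4 D88177) F286496 D183836
theorem F286522 : act 2 n183837 = n88179 := d3_3 (iv6 D88179) F286496 D183837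
theorem F286523 : act 7 n88171 = n183835 := d8_2 F286495 D88171 (iv3 D183835)
theorem F286524 : act 7 n88172 = n183836 := d11_2 F286495 D88172 (iv4 D183836)
theorem F286525 : act 2 n183831 = n88172 := d4_3 F286524 F286521 (iv7 F286520)
theorem F286526 : act 2 n88174 = n183833 := d3_3 (iv6 D183833) F286494 D88174
theorem F286527 : act 2 n94813 = n183533 := d2_3 (iv5 F285258) F286526 F285614
theorem F286528 : act 7 n183532 = n94813 := d15_2 F285257 F285260 F286527
theorem F286529 : act 7 n94812 = n183533 := d15_2 F285261 F285262 (iv2 F286527)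
theorem F286530 : act 2 n183532 = n94812 := d4_3 F286529 (iv2 F286527) (iv7 F286528)
def n184555 : Q := act 7 n88007
theorem D184555 : act 7 n88007 = n184555 := rfl
theorem F286531 : act 2 n184555 = n182123 := d4_1 D184555 (iv7 F283515) F155829
theorem F286532 : act 5 n184555 = n101272 := d13_1 D184555 F156042 (iv5 F135083)
theorem F286533 : act 1 n182126 = n184555 := d15_1 (iv0 F285612) (iv7 D184555) (iv2 F155829)
theorem F286534 : act 1 n184555 = n181960 := d15_1 F286533 (iv7 F286516) (iv2 F286491)
def n184556 : Q := act 4 n88011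
theorem D184556 : act 4 n88011 = n184556 := rfl
def n184557 : Q := act 6 n88011
theorem D184557 : act 6 n88011 = n184557 := rfl
theorem F286535 : act 0 n91275 = n184557 := d21_4 (iv5 F134802) F134803 (iv5 F69666) D91275 (iv6 D184557) (iv5 D88011) (iv1 D41084) D41085 F62329 D41097
def n184558 : Q := act 1 n88012
theorem D184558 : act 1 n88012 = n184558 := rfl
def n184559 : Q := act 5 n88012
theorem D184559 : act 5 n88012 = n184559 := rfl
theorem F286536 : act 2 n184559 = n101326 := d2_1 D184559 F156106 (iv2 F155825)
theorem F286537 : act 3 n184559 = n99700 := d6_1 D184559 F153506 F155413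
theorem F286538 : act 1 n184559 = n101223 := d17_6 D40150 D86613 D181425 F282539 F282384 D184559 (iv5 D101223) (iv0 D47140) F35250
theorem F286539 : act 7 n101772 = n184559 := d8_0 F286537 (iv7 F155834) D101772
theorem E25056 : n101772 = n101327 := ((c15_2 (iv0 D101326) D101327 F286539 F286536)).symm
theorem F286540 : act 3 n101327 = n47304 := (sb E25056 (iv3 D101772))
theorem F286541 : act 7 n101327 = n184559 := (sb E25056 F286539)
def n184560 : Q := act 7 n88012
theorem D184560 : act 7 n88012 = n184560 := rfl
theorem F286542 : act 3 n184560 = n89304 := d8_1 D184560 (iv7 F155815) F155413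
theorem F286543 : act 5 n184560 = n101327 := d13_1 D184560 F286541 (iv5 D184559)
theorem F286544 : act 6 n184560 = n182123 := d14_1 D184560 (iv7 F283515) (iv6 D99882) (iv7 F155809) D88012
theorem F286545 : act 0 n184560 = n89220 := d21_10 F155944 (iv1 D101231) (iv5 D47142) (iv6 D22683) F17266 D19352 D41135 D88100 (iv5 F283513) (iv6 F286544)
theorem F286546 : act 1 n99887 = n89220 := d15_0 (iv0 F286545) (iv7 D184560) F155825
def n184563 : Q := act 6 n88013
theorem D184563 : act 6 n88013 = n184563 := rfl
theorem F286547 : act 5 n184563 = n182189 := d21_6 (iv5 D20201) F65648 D19339 (iv6 F62329) D88013 D184563 (iv1 D182189) (iv5 F140500) (iv6 D91367) (iv1 D42758)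
def n184565 : Q := act 0 n88015
theorem D184565 : act 0 n88015 = n184565 := rfl
def n184566 : Q := act 1 n88015
theorem D184566 : act 1 n88015 = n184566 := rfl
theorem F286548 : act 4 n184566 = n104186 := d18_7 (iv1 F75765) (iv4 F233072) (iv1 D86522) F60999 D41085 D88015 D184566 F159709 F134771
theorem F286549 : act 2 n184056 = n184566 := d1_3 F286548 (iv2 F283416) D184056
theorem F286550 : act 7 n184054 = n184566 := d11_0 F286548 (iv7 F283419) D184054
theorem F286551 : act 2 n184054 = n184565 := d15_3 (iv0 D184565) D184566 (iv7 F286550)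
theorem F286552 : act 4 n184565 = n104185 := d1_2 D184054 F286551 F283420
theorem F286553 : act 7 n184565 = n184056 := d4_2 (iv7 F286550) F286551 F286549
theorem F286554 : act 1 n184054 = n99890 := d15_0 (iv0 F286005) (iv7 F286553) (iv2 F286551)
def n184567 : Q := act 3 n88015
theorem D184567 : act 3 n88015 = n184567 := rfl
theorem F286555 : act 6 n184567 = n88022 := d7_2 (iv6 F135018) D184567 (iv3 D88022)
def n184568 : Q := act 5 n88015
theorem D184568 : act 5 n88015 = n184568 := rfl
def n184569 : Q := act 7 n88015
theorem D184569 : act 7 n88015 = n184569 := rfl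
theorem F286556 : act 4 n184569 = n88016 := d11_1 D184569 (iv7 D88016) D88015
theorem F286557 : act 1 n184056 = n184569 := d15_1 (iv0 F286005) (iv7 D184569) (iv2 F153793)
theorem F286558 : act 1 n184569 = n184054 := d15_1 F286557 F286550 (iv2 F286549)
def n184570 : Q := act 6 n88016
theorem D184570 : act 6 n88016 = n184570 := rfl
theorem F286559 : act 7 n184570 = n88025 := d14_2 D88016 D184570 (iv6 D88025) (iv7 D41100) (iv6 F62329)
def n184571 : Q := act 4 n88017
theorem D184571 : act 4 n88017 = n184571 := rfl
def n184572 : Q := act 6 n88017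
theorem D184572 : act 6 n88017 = n184572 := rfl
theorem F286560 : act 3 n184572 = n88018 := d7_1 D184572 (iv6 D88018) D88017
def n184573 : Q := act 0 n88018
theorem D184573 : act 0 n88018 = n184573 := rfl
def n184574 : Q := act 1 n88018
theorem D184574 : act 1 n88018 = n184574 := rfl
def n184575 : Q := act 7 n88018
theorem D184575 : act 7 n88018 = n184575 := rfl
def n184579 : Q := act 3 n88020
theorem D184579 : act 3 n88020 = n184579 := rfl
theorem F286562 : act 7 n184579 = n184099 := d8_2 (iv7 F135026) D184579 (iv3 D184099)
def n184580 : Q := act 5 n88020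
theorem D184580 : act 5 n88020 = n184580 := rfl
theorem F286565 : act 4 n184580 = n103390 := d16_2 (iv4 F135025) D184580 (iv5 D103390) (iv4 D47910) F64025 (iv4 F133391) F133392 (iv7 F133394) F133396
def n184581 : Q := act 6 n88020
theorem D184581 : act 6 n88020 = n184581 := rfl
theorem F286566 : act 2 n184581 = n184095 := d3_1 D184581 (iv6 D184095) F135024
theorem F286567 : act 4 n184581 = n104191 := d10_1 D184581 (iv6 D104191) (iv4 F135025)
def n184582 : Q := act 3 n88021
theorem D184582 : act 3 n88021 = n184582 := rfl
theorem F286568 : act 7 n184582 = n184093 := d8_2 F135023 D184582 (iv3 D184093)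
def n184583 : Q := act 5 n88021
theorem D184583 : act 5 n88021 = n184583 := rfl
def n184584 : Q := act 6 n88021
theorem D184584 : act 6 n88021 = n184584 := rfl
theorem F286572 : act 2 n184584 = n184101 := d3_1 D184584 (iv6 D184101) F135022
theorem F286573 : act 4 n184584 = n104193 := d10_1 D184584 (iv6 D104193) (iv4 F135021)
def n184585 : Q := act 0 n88022
theorem D184585 : act 0 n88022 = n184585 := rfl
def n184586 : Q := act 1 n88022
theorem D184586 : act 1 n88022 = n184586 := rfl
def n184587 : Q := act 2 n88022
theorem D184587 : act 2 n88022 = n184587 := rfl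
def n184588 : Q := act 5 n88022
theorem D184588 : act 5 n88022 = n184588 := rfl
theorem F286574 : act 3 n184588 = n88023 := d6_1 D184588 (iv5 D88023) D88022
def n184589 : Q := act 7 n88022
theorem D184589 : act 7 n88022 = n184589 := rfl
theorem F286575 : act 3 n184589 = n88024 := d8_1 D184589 (iv7 D88024) D88022
def n184590 : Q := act 0 n88023
theorem D184590 : act 0 n88023 = n184590 := rfl
theorem F286576 : act 5 n184590 = n104189 := d17_3 (iv1 D88021) D88023 D184590 (iv4 D104189) (iv5 D48210) (iv0 D23346) D23348 D48212 (iv4 F135021)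
theorem F286577 : act 4 n184590 = n103346 := d18_1 D184590 F158610 D104202 F159745 F134788 F75775 (iv4 F135025) (iv0 D88020) D88023
theorem F286579 : act 7 n184081 = n184590 := d11_0 F286577 F158609 (iv4 F286021)
def n184591 : Q := act 1 n88023
theorem D184591 : act 1 n88023 = n184591 := rfl
theorem F286581 : act 5 n184591 = n103343 := d17_7 (iv1 D42758) (iv5 D20201) F65648 D19339 D41099 D88023 D184591 F158604 (iv4 D91366)
theorem F286582 : act 4 n184591 = n104201 := d17_9 (iv1 F159742) F134813 F75238 D103390 (iv4 F286565) (iv5 D184580) (iv0 D88020) D88023 D184591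
def n184593 : Q := act 6 n88024
theorem D184593 : act 6 n88024 = n184593 := rfl
theorem F286584 : act 4 n184593 = n88025 := d10_1 D184593 (iv6 D88025) (iv4 F135027)
def n184594 : Q := act 0 n88025
theorem D184594 : act 0 n88025 = n184594 := rfl
def n184595 : Q := act 1 n88025
theorem D184595 : act 1 n88025 = n184595 := rfl
def n184596 : Q := act 0 n88026
theorem D184596 : act 0 n88026 = n184596 := rfl
def n184597 : Q := act 1 n88026
theorem D184597 : act 1 n88026 = n184597 := rfl
def n184598 : Q := act 5 n88026
theorem D184598 : act 5 n88026 = n184598 := rfl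
theorem F286585 : act 3 n184598 = n88029 := d6_1 D184598 (iv5 D88029) (iv3 F135034)
theorem F286586 : act 6 n184598 = n181152 := d12_2 D88026 D184598 (iv5 D181152) (iv6 D86509) (iv5 F62333)
def n184599 : Q := act 7 n88026
theorem D184599 : act 7 n88026 = n184599 := rfl
theorem F286587 : act 3 n184599 = n88030 := d8_1 D184599 (iv7 D88030) (iv3 F135034)
def n184610 : Q := act 0 n88029
theorem D184610 : act 0 n88029 = n184610 := rfl
def n184611 : Q := act 1 n88029
theorem D184611 : act 1 n88029 = n184611 := rfl
def n184612 : Q := act 4 n88029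
theorem D184612 : act 4 n88029 = n184612 := rfl
theorem F286590 : act 6 n184612 = n177963 := d10_2 (iv6 F135035) D184612 F277516
def n184613 : Q := act 7 n88029
theorem D184613 : act 7 n88029 = n184613 := rfl
theorem F286591 : act 5 n184613 = n88030 := d13_1 D184613 (iv7 D88030) D88029
def n184624 : Q := act 0 n88033
theorem D184624 : act 0 n88033 = n184624 := rfl
def n184625 : Q := act 1 n88033
theorem D184625 : act 1 n88033 = n184625 := rfl
def n184626 : Q := act 4 n88033
theorem D184626 : act 4 n88033 = n184626 := rfl
def n184627 : Q := act 7 n88033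
theorem D184627 : act 7 n88033 = n184627 := rfl
theorem F286594 : act 5 n184627 = n88034 := d13_1 D184627 (iv7 D88034) D88033
def n184628 : Q := act 5 n88035
theorem D184628 : act 5 n88035 = n184628 := rfl
theorem F286595 : act 2 n184628 = n88045 := d2_1 D184628 (iv5 D88045) (iv2 F154984)
def n184629 : Q := act 6 n88035
theorem D184629 : act 6 n88035 = n184629 := rfl
theorem F286597 : act 2 n184629 = n88046 := d3_1 D184629 (iv6 D88046) (iv2 F154984)
theorem F286598 : act 4 n184629 = n171105 := d10_1 D184629 (iv6 D171105) F135037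
def n184630 : Q := act 0 n88036
theorem D184630 : act 0 n88036 = n184630 := rfl
def n184631 : Q := act 1 n88036
theorem D184631 : act 1 n88036 = n184631 := rfl
theorem F286599 : act 1 n184631 = n88050 := d15_1 D184631 (iv7 D88050) (iv2 F135039)
theorem F286600 : act 5 n98079 = n184631 := d21_6 F34906 (iv1 D17987) F16637 D21900 D45801 D98079 (iv1 D184631) (iv5 D88036) (iv6 D41104) (iv1 F34904)
def n184632 : Q := act 4 n88036
theorem D184632 : act 4 n88036 = n184632 := rfl
theorem F286601 : act 2 n184632 = n88049 := d1_1 D184632 (iv4 D88049) (iv2 F135039)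
theorem F286603 : act 1 n184632 = n100032 := d18_6 (iv1 F73803) D46707 (iv1 F73823) (iv4 F62335) D88036 D184632 (iv4 D100032) F153914 F153912
def n184633 : Q := act 7 n88036
theorem D184633 : act 7 n88036 = n184633 := rfl
theorem F286604 : act 2 n184633 = n88050 := d4_1 D184633 (iv7 D88050) (iv2 F135039)
theorem F286605 : act 5 n184633 = n88037 := d13_1 D184633 (iv7 D88037) D88036
theorem F286606 : act 1 n88050 = n184630 := d15_0 (iv0 D184630) D184633 F286604
theorem F286607 : act 1 n88048 = n184633 := d15_1 D88048 (iv7 D184633) F135039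
theorem F286608 : act 4 n100035 = n88048 := d18_7 (iv1 F135044) (iv4 F142704) (iv1 D46643) F34915 D22398 D46712 D100035 F286607 F286605
theorem F286609 : act 3 n100788 = n88048 := d20_5 D46761 (iv1 F74304) F74302 (iv3 F74257) (iv1 F154881) (iv4 F286608) (iv1 D100035) (iv4 D46712) F34952 D22418
theorem F286610 : act 7 n88048 = n100873 := d8_2 (iv7 F270477) F286609 (iv3 D100873)
theorem F286611 : act 2 n100873 = n88047 := d15_3 (iv0 D88047) D88048 F286610
def n184634 : Q := act 5 n88039
theorem D184634 : act 5 n88039 = n184634 := rfl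
theorem F286613 : act 3 n184634 = n88040 := d6_1 D184634 (iv5 D88040) D88039
def n184635 : Q := act 6 n88039
theorem D184635 : act 6 n88039 = n184635 := rfl
theorem F286614 : act 3 n184635 = n88041 := d7_1 D184635 (iv6 D88041) D88039
def n184640 : Q := act 0 n88041
theorem D184640 : act 0 n88041 = n184640 := rfl
def n184641 : Q := act 1 n88041
theorem D184641 : act 1 n88041 = n184641 := rfl
theorem F286617 : act 4 n184641 = n177887 := d17_9 F277465 F268895 (iv1 D171154) (iv5 D82029) F58463 D81873 D170774 (iv5 F268365) D184641
theorem F286618 : act 7 n177881 = n184641 := d11_0 F286617 (iv7 D177887) (iv4 F277458)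
theorem F286619 : act 2 n177881 = n184640 := d15_3 (iv0 D184640) D184641 (iv7 F286618)
theorem F286620 : act 4 n184640 = n177872 := d1_2 (iv4 F277458) F286619 F277455
theorem F286621 : act 6 n184640 = n177864 := d3_2 D177881 F286619 F277440
def n184642 : Q := act 7 n88041
theorem D184642 : act 7 n88041 = n184642 := rfl
def n184645 : Q := act 0 n88046
theorem D184645 : act 0 n88046 = n184645 := rfl
def n184646 : Q := act 1 n88046
theorem D184646 : act 1 n88046 = n184646 := rfl
def n184647 : Q := act 5 n88046
theorem D184647 : act 5 n88046 = n184647 := rfl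
def n184648 : Q := act 7 n88046
theorem D184648 : act 7 n88046 = n184648 := rfl
def n184651 : Q := act 5 n88047
theorem D184651 : act 5 n88047 = n184651 := rfl
def n184653 : Q := act 7 n88047
theorem D184653 : act 7 n88047 = n184653 := rfl
theorem F286622 : act 2 n184653 = n88048 := d4_1 D184653 F286610 F286611
def n184654 : Q := act 5 n88048
theorem D184654 : act 5 n88048 = n184654 := rfl
theorem F286623 : act 3 n184654 = n89115 := d6_1 D184654 F154882 F286609
theorem F286624 : act 4 n184654 = n170768 := d17_4 (iv1 F135045) (iv5 F286605) (iv1 F286607) D184654 F268358 F268841 F268839 F126437 F135046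
theorem F286625 : act 6 n184654 = n89112 := d21_3 (iv5 F286605) (iv1 F286607) D184654 F136830 (iv6 F69702) D94798 (iv1 F268364) (iv5 F268365) (iv6 D88041) (iv1 F135045)
theorem F286626 : act 2 n98079 = n184654 := d3_3 F286625 F270463 D98079
theorem E25057 : n184653 = n184631 := (c2_4 (iv5 F286600) F286626 (iv5 D184654) (iv2 F286622))
theorem F286628 : act 7 n184631 = n88047 := (sb E25057 (iv7 D184653))
theorem F286629 : act 7 n184651 = n98079 := d13_2 F286628 D184651 F286600
theorem E25058 : n184630 = n100873 := ((c15_4 (iv0 D184630) D184631 F286628 (iv2 F286611))).symm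
theorem F286630 : act 0 n100873 = n88050 := (sb E25058 (iv1 F286606))
theorem F286631 : act 1 n100873 = n88036 := (sb E25058 (iv0 D184630))
def n184657 : Q := act 1 n88049
theorem D184657 : act 1 n88049 = n184657 := rfl
theorem F286632 : act 4 n184657 = n99981 := d18_7 (iv1 F73797) F73798 (iv1 D46459) F34736 D41107 D88049 D184657 F153906 F73825
theorem F286633 : act 2 n100032 = n184657 := d1_3 F286632 F153908 D100032
theorem F286634 : act 7 n100028 = n184657 := d11_0 F286632 (iv7 F153917) D100028
def n184658 : Q := act 3 n88049
theorem D184658 : act 3 n88049 = n184658 := rfl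
theorem F286639 : act 4 n184658 = n88070 := d5_2 D88049 D184658 (iv3 D88070) (iv4 D41125) (iv3 F62336)
theorem F286640 : act 6 n184658 = n171046 := d7_2 (iv6 F135049) D184658 (iv3 D171046)
def n184660 : Q := act 7 n88049
theorem D184660 : act 7 n88049 = n184660 := rfl
theorem F286641 : act 4 n184660 = n88050 := d11_1 D184660 (iv7 D88050) D88049
theorem F286642 : act 1 n100032 = n184660 := d15_1 F286603 (iv7 D184660) (iv2 F286601)
theorem F286643 : act 1 n184660 = n100028 := d15_1 F286642 F286634 (iv2 F286633)
theorem E25059 : n101057 = n100027 := (c20_5 D94088 F144972 (iv4 D48197) (iv3 F74334) D101057 (iv3 D100027) D100028 (iv1 F286643) F286641 F135050 (iv1 F69151))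
theorem F286644 : act 1 n100027 = n47080 := (sb E25059 (iv0 D101057))
def n184662 : Q := act 0 n88054
theorem D184662 : act 0 n88054 = n184662 := rfl
theorem F286647 : act 5 n184662 = n101229 := d21_2 D88054 D184662 (iv6 D101229) (iv1 D47141) (iv6 D22683) (iv5 D10738) (iv1 F7334) D9084 D19345 D41109
theorem F286648 : act 1 n88059 = n184662 := d15_0 (iv0 D184662) F156900 F156898
theorem E25060 : n182108 = n88060 := ((c21_10 (iv5 D183832) (iv1 F134604) F62356 (iv6 F35282) (iv1 F74391) D101229 (iv5 F286647) (iv1 F286648) (iv5 D88059) D88060 (iv1 F285609))).symm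
theorem F286649 : act 0 n88060 = n183832 := (sb E25060 (iv1 F285609))
theorem F286650 : act 1 n88060 = n86965 := (sb E25060 (iv0 D182108))
theorem F286651 : act 7 n182109 = n100942 := d15_2 F286650 D182109 F156899
theorem F286652 : act 5 n101332 = n182104 := d21_6 (iv5 F135115) (iv1 F135119) (iv5 D41153) D41154 D88166 F156111 (iv1 D182104) (iv5 D86964) D86965 (iv1 F286650)
theorem F286653 : act 3 n182104 = n101785 := d6_1 F286652 (iv5 D101785) F156464
theorem F286654 : act 3 n100951 = n182109 := d8_3 F286651 F155076 D100951
theorem F286655 : act 5 n88146 = n182109 := d13_3 F286651 (iv5 F285581) (iv7 F285584)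
theorem F286656 : act 6 n88146 = n183861 := d21_3 D183832 (iv1 F285611) (iv5 F286655) (iv1 D183861) (iv6 D87706) (iv5 D40854) (iv1 D19256) D19257 (iv6 F61948) D87696
def n184663 : Q := act 1 n88054
theorem D184663 : act 1 n88054 = n184663 := rfl
theorem F286657 : act 1 n184663 = n88059 := d15_1 D184663 F156887 (iv2 F156890)
def n184664 : Q := act 4 n88054
theorem D184664 : act 4 n88054 = n184664 := rfl
def n184665 : Q := act 6 n88054
theorem D184665 : act 6 n88054 = n184665 := rfl
def n184667 : Q := act 1 n88055
theorem D184667 : act 1 n88055 = n184667 := rfl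
def n184668 : Q := act 7 n88055
theorem D184668 : act 7 n88055 = n184668 := rfl
theorem F286658 : act 3 n184668 = n89318 := d8_1 D184668 (iv7 F156872) F155504
theorem F286659 : act 5 n184668 = n98098 := d13_1 D184668 F156896 (iv5 F135077)
theorem F286660 : act 6 n184668 = n182109 := d14_1 D184668 F286651 (iv6 D100942) (iv7 F156866) D88055
def n184669 : Q := act 4 n88057
theorem D184669 : act 4 n88057 = n184669 := rfl
theorem F286661 : act 3 n184669 = n149776 := d5_1 D184669 (iv4 F264915) F264914 F232746 D88057
def n184670 : Q := act 5 n88057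
theorem D184670 : act 5 n88057 = n184670 := rfl
theorem F286662 : act 3 n184670 = n88059 := d6_1 D184670 (iv5 D88059) D88057
def n184671 : Q := act 6 n88057
theorem D184671 : act 6 n88057 = n184671 := rfl
theorem F286663 : act 3 n184671 = n88060 := d7_1 D184671 (iv6 D88060) D88057
def n184672 : Q := act 4 n88059
theorem D184672 : act 4 n88059 = n184672 := rfl
def n184673 : Q := act 6 n88059
theorem D184673 : act 6 n88059 = n184673 := rfl
theorem F286664 : act 0 n88257 = n184673 := d21_4 (iv5 F68736) (iv1 F134194) F134198 (iv6 F135182) (iv6 D184673) (iv5 D88059) (iv1 D41110) D41111 F62340 D41123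
def n184674 : Q := act 7 n88060
theorem D184674 : act 7 n88060 = n184674 := rfl
theorem F286666 : act 5 n184674 = n183807 := d13_1 D184674 F285587 F135115
theorem F286667 : act 1 n88178 = n184674 := d15_1 F286518 (iv7 D184674) (iv2 F156899)
theorem F286668 : act 1 n184674 = n88173 := d15_1 F286667 F286493 (iv2 F286498)
theorem F286669 : act 6 n183807 = n88241 := d21_3 D88173 (iv1 F286668) F286666 (iv1 D88241) (iv6 D41179) (iv5 D19363) (iv1 D9091) D9092 (iv6 F30991) D41155
theorem F286670 : act 2 n88241 = n183861 := d3_1 F286669 (iv6 F286656) F285588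
theorem F286671 : act 7 n183860 = n88241 := d15_2 F285669 F285672 F286670
theorem F286672 : act 7 n88240 = n183861 := d15_2 F285673 F285674 (iv2 F286670)
theorem F286673 : act 2 n183860 = n88240 := d4_3 F286672 (iv2 F286670) (iv7 F286671)
def n184679 : Q := act 0 n88063
theorem D184679 : act 0 n88063 = n184679 := rfl
def n184680 : Q := act 1 n88063
theorem D184680 : act 1 n88063 = n184680 := rfl
theorem F286674 : act 4 n184680 = n104136 := d18_7 (iv1 F75727) (iv4 F281642) (iv1 D86487) F60972 D41111 D88063 D184680 F159615 F134902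
theorem F286675 : act 2 n184296 = n184680 := d1_3 F286674 F285190 D184296
theorem F286676 : act 7 n184293 = n184680 := d11_0 F286674 (iv7 F285191) D184293
theorem F286677 : act 2 n184293 = n184679 := d15_3 (iv0 D184679) D184680 (iv7 F286676)
theorem F286678 : act 4 n184679 = n104135 := d1_2 D184293 F286677 (iv2 F285193)
theorem F286679 : act 7 n184679 = n184296 := d4_2 (iv7 F286676) F286677 F286675
theorem F286680 : act 1 n184293 = n101214 := d15_0 (iv0 F286243) (iv7 F286679) (iv2 F286677)
def n184681 : Q := act 3 n88063
theorem D184681 : act 3 n88063 = n184681 := rfl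
theorem F286681 : act 4 n184681 = n171046 := d5_2 D88063 D184681 (iv3 D171046) (iv4 D81983) (iv3 F62339)
theorem F286682 : act 6 n184681 = n88070 := d7_2 (iv6 F135055) D184681 (iv3 D88070)
def n184682 : Q := act 5 n88063
theorem D184682 : act 5 n88063 = n184682 := rfl
def n184683 : Q := act 7 n88063
theorem D184683 : act 7 n88063 = n184683 := rfl
theorem F286683 : act 4 n184683 = n88064 := d11_1 D184683 (iv7 D88064) D88063
theorem F286684 : act 1 n184296 = n184683 := d15_1 (iv0 F286243) (iv7 D184683) (iv2 F155925)
theorem F286685 : act 1 n184683 = n184293 := d15_1 F286684 F286676 (iv2 F286675)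
theorem E25061 : n184292 = n171135 := ((c20_5 (iv4 F268878) (iv1 D171143) (iv4 D82024) (iv3 F126442) D171135 (iv3 D184292) D184293 (iv1 F286685) F286683 F135056 (iv1 F195803))).symm
theorem F286686 : act 3 n171135 = n87900 := (sb E25061 (iv3 D184292))
def n184684 : Q := act 6 n88064
theorem D184684 : act 6 n88064 = n184684 := rfl
theorem F286688 : act 7 n184684 = n88073 := d14_2 D88064 D184684 (iv6 D88073) (iv7 D41126) (iv6 F62340)
def n184685 : Q := act 0 n88065
theorem D184685 : act 0 n88065 = n184685 := rfl
def n184686 : Q := act 1 n88065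
theorem D184686 : act 1 n88065 = n184686 := rfl
def n184687 : Q := act 7 n88065
theorem D184687 : act 7 n88065 = n184687 := rfl
def n184688 : Q := act 4 n88066
theorem D184688 : act 4 n88066 = n184688 := rfl
def n184689 : Q := act 6 n88066
theorem D184689 : act 6 n88066 = n184689 := rfl
theorem F286689 : act 3 n184689 = n88067 := d7_1 D184689 (iv6 D88067) D88066
theorem F286690 : act 5 n184689 = n183168 := d12_1 D184689 (iv6 D183168) (iv5 D87431) D87432 (iv5 F135058)
def n184690 : Q := act 0 n88067
theorem D184690 : act 0 n88067 = n184690 := rfl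
def n184691 : Q := act 1 n88067
theorem D184691 : act 1 n88067 = n184691 := rfl
def n184692 : Q := act 7 n88067
theorem D184692 : act 7 n88067 = n184692 := rfl
theorem F286691 : act 5 n184692 = n183176 := d13_1 D184692 (iv7 D183176) (iv5 F135059)
def n184693 : Q := act 3 n88068
theorem D184693 : act 3 n88068 = n184693 := rfl
theorem F286692 : act 7 n184693 = n184344 := d8_2 F135062 D184693 (iv3 D184344)
def n184694 : Q := act 5 n88068
theorem D184694 : act 5 n88068 = n184694 := rfl
theorem F286695 : act 4 n184694 = n104156 := d16_2 (iv4 F135060) D184694 (iv5 D104156) (iv4 F75753) F73351 (iv4 F133439) F133440 (iv7 F133444) F133446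
def n184695 : Q := act 6 n88068
theorem D184695 : act 6 n88068 = n184695 := rfl
theorem F286697 : act 4 n184695 = n104148 := d10_1 D184695 (iv6 D104148) (iv4 F135060)
def n184698 : Q := act 6 n88069
theorem D184698 : act 6 n88069 = n184698 := rfl
theorem F286702 : act 2 n184698 = n184346 := d3_1 D184698 (iv6 D184346) F135066
theorem F286703 : act 4 n184698 = n104149 := d10_1 D184698 (iv6 D104149) (iv4 F135065)
def n184699 : Q := act 0 n88070
theorem D184699 : act 0 n88070 = n184699 := rfl
def n184700 : Q := act 1 n88070
theorem D184700 : act 1 n88070 = n184700 := rfl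
def n184701 : Q := act 2 n88070
theorem D184701 : act 2 n88070 = n184701 := rfl
def n184702 : Q := act 5 n88070
theorem D184702 : act 5 n88070 = n184702 := rfl
theorem F286704 : act 3 n184702 = n88071 := d6_1 D184702 (iv5 D88071) D88070
def n184704 : Q := act 0 n88071
theorem D184704 : act 0 n88071 = n184704 := rfl
theorem F286706 : act 5 n184704 = n104143 := d17_3 (iv1 D88069) D88071 D184704 (iv4 D104143) (iv5 D48192) (iv0 D23320) D23322 D48196 (iv4 F135065)
theorem F286707 : act 4 n184704 = n104162 := d18_1 D184704 (iv1 D104162) D104163 F159686 F134924 F75744 (iv4 F135060) (iv0 D88068) D88071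
def n184705 : Q := act 1 n88071
theorem D184705 : act 1 n88071 = n184705 := rfl
theorem F286711 : act 5 n184705 = n104145 := d17_7 (iv1 F68621) (iv5 D41049) F62729 D19348 D41125 D88071 D184705 F159647 (iv4 D93343)
theorem F286712 : act 4 n184705 = n104161 := d17_9 (iv1 F159678) F134945 (iv1 F75751) D104156 (iv4 F286695) (iv5 D184694) (iv0 D88068) D88071 D184705
def n184707 : Q := act 7 n88071
theorem D184707 : act 7 n88071 = n184707 := rfl
theorem F286714 : act 4 n184707 = n91707 := d11_1 D184707 (iv7 F144026) (iv4 F144027)
theorem F286715 : act 5 n184707 = n88072 := d13_1 D184707 (iv7 D88072) D88071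
def n184709 : Q := act 0 n88073
theorem D184709 : act 0 n88073 = n184709 := rfl
def n184711 : Q := act 5 n88074
theorem D184711 : act 5 n88074 = n184711 := rfl
def n184712 : Q := act 4 n88075
theorem D184712 : act 4 n88075 = n184712 := rfl
def n184716 : Q := act 0 n88079
theorem D184716 : act 0 n88079 = n184716 := rfl
theorem F286725 : act 5 n184716 = n159168 := d17_3 D41129 D88079 D184716 F250616 D168410 (iv0 F285934) (iv5 D180902) (iv0 D86405) F60878
theorem E25062 : n168401 = n19624 := (c21_5 D88079 D184716 F286725 F250617 D168401 (iv6 D19624) (iv5 D9226) D9224 (iv5 F14417) D19351 D41129)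
theorem E25063 : n82097 = n41688 := (((D41688).symm.trans (sb E25062 (iv1 F265333)))).symm
theorem E25064 : n80800 = n41689 := (((D41689).symm.trans (sb E25062 (iv0 D168401)))).symm
theorem E25065 : n151859 = n41687 := ((((iv4 F64337)).symm.trans (sb E25062 F265332))).symm
theorem E25066 : n168402 = n88002 := ((((iv1 F135013)).symm.trans (sb E25063 (iv1 F265334)))).symm
theorem E25067 : n89216 = n37625 := ((D89216).symm.trans (sb E25063 (iv2 D82097)))
theorem E25070 : n171342 = n89219 := (((D89219).symm.trans (sb E25063 D171342))).symm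
theorem E25071 : n171343 = n89220 := (((D89220).symm.trans (sb E25063 D171343))).symm
theorem E25072 : n168398 = n89221 := (((D89221).symm.trans (sb E25063 (iv7 F265326)))).symm
theorem E25073 : n89222 = n37526 := ((D89222).symm.trans (sb E25064 F124511))
theorem E25075 : n168403 = n89224 := (((D89224).symm.trans (sb E25064 D168403))).symm
theorem E25076 : n159168 = n89225 := (((D89225).symm.trans (sb E25064 (iv6 F250617)))).symm
theorem E25077 : n89212 = n71592 := ((D89212).symm.trans (sb E25065 (iv1 D151859)))
theorem E25079 : n151858 = n77289 := (((F135009).symm.trans (sb E25066 (iv4 F265335)))).symm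
theorem F286726 : act 2 n37625 = n41688 := (sb E25067 (iv2 D89216))
theorem F286737 : act 2 n89219 = n82098 := (sb E25070 F269069)
theorem F286738 : act 2 n89220 = n82099 := (sb E25071 F269070)
theorem F286739 : act 0 n89221 = n82096 := (sb E25072 (iv1 F265327))
theorem F286740 : act 1 n89221 = n82095 := (sb E25072 F265329)
theorem F286743 : act 3 n37526 = n41689 := (sb E25073 (iv3 D89222))
theorem F286746 : act 7 n89224 = n82098 := (sb E25075 F265338)
theorem F286747 : act 3 n89225 = n76097 := (sb E25076 (iv3 D159168))
theorem F286749 : act 5 n89225 = n184716 := (sb E25076 (iv5 F286725))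
theorem E25080 : n181458 = n151862 := (((D151862).symm.trans (sb E25077 (iv6 F282553)))).symm
theorem F286756 : act 1 n77289 = n71592 := (sb E25079 (iv0 D151858))
theorem E25081 : n150287 = n80835 := (((iv3 F236518)).symm.trans (sb E25079 (iv3 F265336)))
theorem F286757 : act 5 n151862 = n86621 := (sb E25080 (iv5 D181458))
theorem E25082 : n168071 = n168013 := ((((iv1 F264802)).symm.trans (sb E25081 (iv1 F264905)))).symm
theorem F286758 : act 3 n80835 = n77289 := (sb E25081 F236518)
theorem E25085 : n168489 = n148933 := ((D168489).symm.trans (sb E25081 F236519))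
theorem E25087 : n80836 = n80678 := (((iv1 F264804)).symm.trans (sb E25082 (iv1 D168071)))
theorem F286760 : act 6 n148933 = n80835 := (sb E25085 (iv6 D168489))
theorem F286762 : act 0 n80678 = n36916 := (sb E25087 (iv1 D80836))
theorem E25089 : n168492 = n148907 := ((((iv4 F233977)).symm.trans (sb E25087 D168492))).symm
theorem F286764 : act 1 n148907 = n151833 := (sb E25089 (iv0 F265452))
theorem F286765 : act 1 n88084 = n184716 := d15_0 (iv0 D184716) F156449 (iv2 F156451)
theorem F286766 : act 0 n88085 = n182130 := d21_10 (iv5 D182130) (iv1 F283255) F283252 (iv6 F135010) (iv1 F135012) D89225 F286749 (iv1 F286765) (iv5 D88084) D88085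
theorem E25092 : n175065 = n118507 := (c20_8 F71294 (iv1 F85958) D118146 (iv3 F238755) (iv1 F286764) F233976 (iv4 F128684) D175065 (iv4 F244057) F244056 F110403)
theorem F286768 : act 0 n118507 = n120203 := (sb E25092 (iv1 F274038))
theorem F286769 : act 1 n118507 = n83604 := (sb E25092 (iv0 D175065))
theorem E25093 : n170085 = n96511 := ((c20_10 (iv4 F128684) (iv1 F286769) (iv4 F244057) F244056 F110403 F71293 F33983 (iv1 F33838) D45064 D96511 (iv1 D170085))).symm
theorem F286770 : act 0 n96511 = n81575 := (sb E25093 (iv1 D170085))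
theorem F286771 : act 5 n155195 = n119490 := d21_6 F42575 (iv1 F42445) (iv5 F59375) D83604 (iv1 F286769) (iv6 F244041) (iv1 D119490) (iv5 D54976) (iv6 D26588) D26585
theorem F286772 : act 3 n119490 = n155196 := d6_1 F286771 (iv5 D155196) D155195
theorem E25095 : n89313 = n54571 := (c20_10 F42141 D26391 D54575 D118507 F286768 F191400 F113469 (iv1 F63924) D41717 D89313 (iv1 D54571))
theorem E25096 : n118498 = n41717 := ((D118498).symm.trans (sb E25095 (iv3 D89313)))
theorem E25098 : n171252 = n38296 := (((F272779).symm.trans (sb E25096 F268977))).symm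
theorem E25099 : n171257 = n82519 := (((F272780).symm.trans (sb E25096 (iv0 F268979)))).symm
theorem F286775 : act 3 n41717 = n54571 := (sb E25096 (iv3 D118498))
theorem E25100 : n150072 = n19632 := ((((iv4 D41717)).symm.trans (sb E25096 (iv4 F236145)))).symm
theorem E25101 : n150189 = n82516 := (((F270620).symm.trans (sb E25096 (iv7 F236367)))).symm
theorem E25102 : n172810 = n41712 := (((F272778).symm.trans (sb E25098 F271077))).symm
theorem E25103 : n82060 = n21979 := (((F59161).symm.trans (sb E25098 (iv4 D171252)))).symm
theorem E25104 : n167167 = n122013 := (((iv3 F263331)).symm.trans (sb E25099 (iv3 F268981)))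
theorem E25105 : n82061 = n46726 := (((F127166).symm.trans (sb E25099 (iv4 D171257)))).symm
theorem E25106 : n70611 = n41716 := (((D41716).symm.trans (sb E25100 (iv3 D150072)))).symm
theorem E25107 : n70696 = n41473 := ((((iv7 F156379)).symm.trans (sb E25100 F236146))).symm
theorem F286776 : act 3 n82516 = n70690 := (sb E25101 (iv3 D150189))
theorem E25108 : n89294 = n82737 := ((D89294).symm.trans (sb E25102 (iv3 D172810)))
theorem E25109 : n150203 = n19631 := ((((iv4 D41712)).symm.trans (sb E25102 F271075))).symm
theorem E25110 : n170928 = n46002 := (((D46002).symm.trans (sb E25103 (iv1 F268517)))).symm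
theorem E25111 : n46003 = n37603 := ((D46003).symm.trans (sb E25103 (iv0 D82060)))
theorem F286777 : act 3 n122013 = n82519 := (sb E25104 F263331)
theorem F286778 : act 6 n122013 = n174013 := (sb E25104 (iv6 F272660))
theorem E25117 : n150150 = n100066 := ((((iv3 F154003)).symm.trans (sb E25105 (iv3 F268980)))).symm
theorem E25120 : n89307 = n47082 := ((D89307).symm.trans (sb E25106 F191036))
theorem E25121 : n150065 = n89308 := (((D89308).symm.trans (sb E25106 F236122))).symm
theorem E25122 : n89309 = n32784 := ((D89309).symm.trans (sb E25106 F155306))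
theorem E25123 : n89310 = n32752 := ((D89310).symm.trans (sb E25106 (iv4 D70611)))
theorem E25124 : n150073 = n89311 := (((D89311).symm.trans (sb E25106 D150073))).symm
theorem E25125 : n150074 = n89312 := (((D89312).symm.trans (sb E25106 D150074))).symm
theorem E25126 : n88835 = n32779 := (((iv7 F156380)).symm.trans (sb E25106 F155307))
theorem E25127 : n150201 = n19634 := ((((iv1 F63923)).symm.trans (sb E25107 D150201))).symm
theorem F286780 : act 3 n82737 = n41712 := (sb E25108 (iv3 D89294))
theorem E25132 : n100805 = n41711 := (((D41711).symm.trans (sb E25109 F236386))).symm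
theorem E25133 : n98317 = n81933 := ((D98317).symm.trans (sb E25110 (iv2 D170928)))
theorem E25135 : n122052 = n75629 := ((((iv4 F274508)).symm.trans (sb E25110 F268515))).symm
theorem F286781 : act 0 n37603 = n21979 := (sb E25111 (iv1 D46003))
theorem F286782 : act 1 n37603 = n46726 := (sb E25111 F73850)
theorem E25138 : n82063 = n75630 := ((D82063).symm.trans (sb E25111 (iv4 F274505)))
theorem E25139 : n98325 = n82064 := (((D82064).symm.trans (sb E25111 D98325))).symm
theorem E25140 : n98326 = n82065 := (((D82065).symm.trans (sb E25111 D98326))).symm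
theorem E25141 : n183382 = n182952 := (((iv1 F285090)).symm.trans (sb E25117 F284540))
theorem F286783 : act 1 n47082 = n41716 := (sb E25120 (iv0 D89307))
theorem F286784 : act 1 n89308 = n70606 := (sb E25121 (iv0 D150065))
theorem F286785 : act 2 n89308 = n70694 := (sb E25121 (iv2 F236121))
theorem F286786 : act 3 n89308 = n82126 := (sb E25121 F236125)
theorem F286787 : act 4 n89308 = n72375 := (sb E25121 F236120)
theorem F286788 : act 6 n89308 = n101068 := (sb E25121 (iv6 F236124))
theorem F286789 : act 7 n89308 = n70618 := (sb E25121 F236123)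
theorem F286790 : act 2 n32784 = n41716 := (sb E25122 (iv2 D89309))
theorem F286791 : act 4 n32752 = n41716 := (sb E25123 (iv4 D89310))
theorem F286792 : act 2 n89311 = n70716 := (sb E25124 F236147)
theorem F286793 : act 7 n89311 = n70697 := (sb E25124 F236148)
theorem F286794 : act 1 n89312 = n149013 := (sb E25125 F236441)
theorem F286795 : act 2 n89312 = n70717 := (sb E25125 F236149)
theorem F286796 : act 4 n89312 = n70613 := (sb E25125 F236150)
theorem F286797 : act 7 n89312 = n179899 := (sb E25125 (iv7 F280183))
theorem F286798 : act 3 n32779 = n41473 := (sb E25126 (iv3 D88835))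
theorem E25143 : n101857 = n70698 := (((D70698).symm.trans (sb E25126 F156814))).symm
theorem F286799 : act 7 n32779 = n41716 := (sb E25126 F156380)
theorem E25144 : n82095 = n41691 := ((((iv3 F64340)).symm.trans (sb E25127 (iv3 F268993)))).symm
theorem E25147 : n150229 = n89285 := (((D89285).symm.trans (sb E25132 F236428))).symm
theorem E25148 : n89286 = n47002 := ((D89286).symm.trans (sb E25132 (iv0 D100805)))
theorem E25149 : n150066 = n89287 := (((D89287).symm.trans (sb E25132 (iv2 F236323)))).symm
theorem E25150 : n89288 = n82736 := ((D89288).symm.trans (sb E25132 F236324))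
theorem E25151 : n150230 = n88839 := ((((iv7 F156372)).symm.trans (sb E25132 (iv7 F236431)))).symm
theorem F286804 : act 2 n81933 = n46002 := (sb E25133 (iv2 D98317))
theorem E25152 : n158553 = n56470 := (((F126278).symm.trans (sb E25133 F274507))).symm
theorem E25154 : n171260 = n158557 := (((D158557).symm.trans (sb E25135 (iv7 F268983)))).symm
theorem E25155 : n158558 = n37977 := ((D158558).symm.trans (sb E25138 F126475))
theorem F286807 : act 4 n75630 = n37603 := (sb E25138 (iv4 D82063))
theorem E25157 : n171266 = n158561 := (((D158561).symm.trans (sb E25138 D171266))).symm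
theorem E25158 : n171268 = n98547 := ((D171268).symm.trans (sb E25139 F274911))
theorem E25159 : n171271 = n100107 := ((D171271).symm.trans (sb E25140 (iv1 F275023)))
theorem E25160 : n171272 = n99307 := ((D171272).symm.trans (sb E25140 F275029))
theorem E25161 : n98948 = n85867 := ((((iv5 F131725)).symm.trans (sb E25140 (iv5 F152491)))).symm
theorem E25162 : n150151 = n87537 := (((iv1 F284541)).symm.trans (sb E25141 (iv1 D183382)))
theorem F286810 : act 3 n70698 = n47336 := (sb E25143 F156813)
theorem E25163 : n150211 = n47334 := ((D150211).symm.trans (sb E25143 (iv5 D101857)))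
theorem E25164 : n89221 = n88000 := ((((iv1 F135005)).symm.trans (sb E25144 (iv1 F286740)))).symm
theorem E25165 : n87999 = n37625 := ((F135011).symm.trans (sb E25144 (iv0 D82095)))
theorem E25167 : n171334 = n89215 := ((((iv4 F136939)).symm.trans (sb E25144 D171334))).symm
theorem F286813 : act 3 n89285 = n81941 := (sb E25147 (iv3 F236425))
theorem F286814 : act 4 n89285 = n75534 := (sb E25147 (iv4 F236426))
theorem F286815 : act 6 n89285 = n98162 := (sb E25147 F236427)
theorem F286816 : act 7 n89285 = n75529 := (sb E25147 F236424)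
theorem F286817 : act 0 n47002 = n41711 := (sb E25148 (iv1 D89286))
theorem F286818 : act 0 n89287 = n100808 := (sb E25149 (iv1 F236430))
theorem F286819 : act 1 n89287 = n75529 := (sb E25149 (iv0 F236131))
theorem F286820 : act 3 n89287 = n70606 := (sb E25149 (iv3 D150066))
theorem F286822 : act 7 n89287 = n70715 := (sb E25149 F236130)
theorem F286823 : act 4 n82736 = n41711 := (sb E25150 (iv4 D89288))
theorem F286824 : act 0 n88839 = n75529 := (sb E25151 (iv1 F236433))
theorem F286829 : act 7 n56470 = n75630 := (sb E25152 (iv7 F249746))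
theorem F286837 : act 4 n158557 = n82062 := (sb E25154 (iv4 D171260))
theorem F286838 : act 3 n37977 = n75630 := (sb E25155 (iv3 D158558))
theorem F286841 : act 3 n158561 = n82653 := (sb E25157 F268996)
theorem F286842 : act 4 n158561 = n82065 := (sb E25157 F268997)
theorem F286843 : act 0 n98547 = n82064 := (sb E25158 (iv1 D171268))
theorem F286844 : act 1 n100107 = n82065 := (sb E25159 (iv0 D171271))
theorem F286845 : act 0 n99307 = n82065 := (sb E25160 (iv1 D171272))
theorem E25172 : n179773 = n46300 := ((D179773).symm.trans (sb E25161 (iv1 F152495)))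
theorem E25173 : n179774 = n46295 := ((D179774).symm.trans (sb E25161 (iv0 D98948)))
theorem F286847 : act 1 n87537 = n182952 := (sb E25162 F284541)
theorem E25174 : n101853 = n72946 := ((D101853).symm.trans (sb E25163 F236394))
theorem F286848 : act 5 n47334 = n70698 := (sb E25163 (iv5 D150211))
theorem E25175 : n82096 = n41082 := ((((iv1 D88000)).symm.trans (sb E25164 F286739))).symm
theorem E25176 : n184539 = n41689 := (((iv2 F286477)).symm.trans (sb E25164 F136945))
theorem E25179 : n184535 = n41688 := ((F286476).symm.trans (sb E25164 (iv7 D89221)))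
theorem F286849 : act 0 n37625 = n41691 := (sb E25165 (iv1 F135011))
theorem E25183 : n101359 = n82099 := (((D82099).symm.trans (sb E25165 (iv6 F156124)))).symm
theorem E25184 : n150167 = n77287 := ((((iv1 F136942)).symm.trans (sb E25167 F269064))).symm
theorem E25185 : n151860 = n77286 := (((F136943).symm.trans (sb E25167 F284548))).symm
theorem F286851 : act 1 n46300 = n85867 := (sb E25172 (iv0 D179773))
theorem F286852 : act 0 n46295 = n85867 := (sb E25173 (iv1 D179774))
theorem F286853 : act 1 n72946 = n47334 := (sb E25174 (iv0 D101853))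
theorem F286854 : act 0 n41082 = n37625 := (sb E25175 (iv1 D82096))
theorem E25187 : n171339 = n35279 := (((F62328).symm.trans (sb E25175 D171339))).symm
theorem F286855 : act 2 n41689 = n88000 := (sb E25176 F286477)
theorem F286858 : act 7 n41688 = n88000 := (sb E25179 (iv7 F286476))
theorem E25190 : n171350 = n47180 := ((D171350).symm.trans (sb E25183 (iv5 D101359)))
theorem E25193 : n161045 = n70673 := ((D161045).symm.trans (sb E25184 (iv4 D150167)))
theorem E25195 : n161040 = n87776 := ((D161040).symm.trans (sb E25185 (iv4 F285919)))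
theorem E25196 : n168011 = n70763 := ((((iv3 F107248)).symm.trans (sb E25187 F269066))).symm
theorem E25197 : n101357 = n82105 := ((D101357).symm.trans (sb E25190 F269072))
theorem F286859 : act 5 n47180 = n82099 := (sb E25190 (iv5 D171350))
theorem F286863 : act 4 n70673 = n77287 := (sb E25193 (iv4 D161045))
theorem E25198 : n150152 = n100063 := ((F285918).symm.trans (sb E25195 (iv3 F270625)))
theorem F286866 : act 4 n87776 = n77286 := (sb E25195 (iv4 D161040))
theorem E25200 : n150285 = n80652 := ((D150285).symm.trans (sb E25196 (iv0 D168011)))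
theorem F286867 : act 3 n82105 = n47180 := (sb E25197 (iv3 D101357))
theorem F286869 : act 3 n100063 = n87776 := (sb E25198 (iv3 F285918))
theorem F286870 : act 4 n100063 = n86401 := (sb E25198 (iv4 F236320))
theorem F286871 : act 7 n100063 = n182952 := (sb E25198 (iv7 F284538))
theorem F286873 : act 0 n80652 = n70763 := (sb E25200 (iv1 D150285))
theorem E25202 : n150059 = n100064 := (c15_4 F285095 F285096 F286871 F284537)
theorem F286878 : act 2 n100064 = n182952 := (sb E25202 (iv2 F284537))
theorem F286879 : act 3 n100064 = n70601 := (sb E25202 (iv3 D150059))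
theorem F286880 : act 4 n100064 = n86402 := (sb E25202 F236095)
theorem F286881 : act 7 n100064 = n70668 := (sb E25202 F236096)
theorem F286882 : act 0 n167163 = n165047 := d20_4 (iv4 F286880) (iv1 D100064) (iv4 F154000) (iv3 F263327) (iv3 D165047) F192628 (iv1 F152253) F152249 (iv3 F260475) (iv1 F260476)
theorem F286883 : act 4 n180892 = n161039 := d5_2 F286870 D180892 (iv3 D161039) (iv4 F286866) (iv3 F286869)
theorem F286889 : act 3 n101351 = n159180 := d8_3 F250654 F286867 F156121
theorem F286890 : act 3 n98501 = n124322 := d20_9 (iv4 F198920) (iv1 F269092) (iv4 D171365) F286867 (iv1 D47180) F35279 D22746 D47338 (iv4 F156575) (iv1 F198814)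
theorem F286891 : act 7 n124381 = n98501 := d8_0 F286890 F198816 D124381
theorem F286892 : act 4 n101871 = n124381 := d11_3 F286891 F156575 D101871
theorem F286893 : act 2 n124381 = n98502 := d1_1 F286892 F274517 (iv2 F156822)
theorem F286894 : act 2 n98321 = n159165 := d2_3 F250609 F286893 (iv5 F151902)
theorem F286896 : act 2 n122054 = n101675 := d1_3 (iv4 F274509) F286894 F250608
theorem F286897 : act 5 n101672 = n122054 := d2_0 F286896 (iv5 D101675) (iv2 F156577)
theorem E25203 : n162088 = n101670 := ((c15_2 (iv0 F273767) (iv0 F275072) F256179 F286896)).symm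
theorem F286899 : act 7 n101670 = n122054 := (sb E25203 F256179)
theorem F286900 : act 7 n158561 = n174984 := d14_4 F286899 (iv6 D122054) F286829 D158561 (iv6 F273863)
theorem F286901 : act 3 n174984 = n158779 := d8_1 F286900 F249979 (iv3 F286841)
theorem E25204 : n159173 = n100106 := ((c11_2 F286900 F273862 F250634 (iv4 F286842))).symm
theorem F286902 : act 3 n100106 = n76106 := (sb E25204 (iv3 D159173))
theorem F286903 : act 5 n100106 = n125128 := (sb E25204 F250633)
theorem F286904 : act 7 n100106 = n82065 := (sb E25204 F250634)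
theorem F286905 : act 2 n158561 = n174983 := d15_3 (iv0 D174983) D174984 (iv7 F286900)
theorem E25205 : n171262 = n100105 := ((c1_3 (iv4 F286842) F286905 F274624 F268988)).symm
theorem F286907 : act 5 n100105 = n179775 := (sb E25205 (iv5 F280004))
theorem F286908 : act 6 n100105 = n82062 := (sb E25205 (iv6 D171262))
theorem F286909 : act 6 n174983 = n158557 := d3_2 D158561 F286905 F249747
theorem F286910 : act 0 n179775 = n88956 := d17_2 D100105 F286907 (iv5 D88956) F155439 D82566 F270656 F270652 F275041 F154032
theorem F286911 : act 1 n179775 = n88951 := d15_1 (iv0 F286910) F272714 (iv2 F272718)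
theorem F286912 : act 1 n88951 = n125128 := d15_1 F286911 F201036 D179775
theorem E25206 : n170927 = n22403 := (c21_5 D88951 (iv1 F286911) (iv5 F286907) F286908 (iv1 F268518) (iv6 D22403) F17212 (iv1 D9201) D9203 D19555 D41532)
theorem E25207 : n81933 = n46723 := (((D46723).symm.trans (sb E25206 (iv1 D170927)))).symm
theorem E25208 : n82062 = n46724 := (((D46724).symm.trans (sb E25206 F268518))).symm
theorem E25210 : n100067 = n46002 := ((D100067).symm.trans (sb E25207 F286804))
theorem E25211 : n100068 = n37516 := ((D100068).symm.trans (sb E25207 (iv3 D81933)))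
theorem E25212 : n56470 = n41706 := ((((iv4 F249738)).symm.trans (sb E25207 F126278))).symm
theorem E25213 : n170929 = n100070 := (((D100070).symm.trans (sb E25207 D170929))).symm
theorem E25214 : n159165 = n100071 := (((D100071).symm.trans (sb E25207 (iv6 F250610)))).symm
theorem E25215 : n100072 = n37603 := ((D100072).symm.trans (sb E25207 F126279))
theorem E25216 : n100406 = n100073 := (((D100073).symm.trans (sb E25208 (iv3 F285906)))).symm
theorem E25217 : n158557 = n41707 := ((((iv4 F249742)).symm.trans (sb E25208 (iv4 F286837)))).symm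
theorem E25218 : n171261 = n100075 := (((D100075).symm.trans (sb E25208 D171261))).symm
theorem E25219 : n100105 = n100076 := (((D100076).symm.trans (sb E25208 (iv6 F286908)))).symm
theorem F286913 : act 2 n46002 = n46723 := (sb E25210 (iv2 D100067))
theorem E25220 : n89266 = n75629 := ((((iv4 F274508)).symm.trans (sb E25210 F249739))).symm
theorem F286915 : act 3 n37516 = n46723 := (sb E25211 (iv3 D100068))
theorem E25223 : n89267 = n27174 := ((D89267).symm.trans (sb E25212 (iv3 D56470)))
theorem E25225 : n122054 = n89270 := (((D89270).symm.trans (sb E25212 D122054))).symm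
theorem E25226 : n89271 = n75630 := ((D89271).symm.trans (sb E25212 F286829))
theorem F286917 : act 7 n100070 = n82064 := (sb E25213 F268521)
theorem F286919 : act 3 n100071 = n76092 := (sb E25214 (iv3 D159165))
theorem F286920 : act 5 n100071 = n124381 := (sb E25214 F250609)
theorem F286921 : act 2 n37603 = n46724 := (sb E25215 F154006)
theorem F286923 : act 0 n100073 = n46861 := (sb E25216 (iv1 D100406))
theorem F286925 : act 2 n100073 = n81935 := (sb E25216 F285905)
theorem E25228 : n174983 = n89275 := (((D89275).symm.trans (sb E25217 (iv6 F286909)))).symm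
theorem F286927 : act 2 n100075 = n82064 := (sb E25218 F268987)
theorem F286928 : act 0 n100076 = n98976 := (sb E25219 (iv1 F154045))
theorem F286929 : act 1 n100076 = n46731 := (sb E25219 (iv0 D100105))
theorem F286931 : act 5 n100076 = n179775 := (sb E25219 F286907)
theorem F286932 : act 2 n75629 = n41706 := (sb E25220 (iv2 D89266))
theorem F286934 : act 3 n27174 = n41706 := (sb E25223 (iv3 D89267))
theorem F286937 : act 2 n89270 = n101675 := (sb E25225 F286896)
theorem F286938 : act 3 n89270 = n56472 := (sb E25225 F194903)
theorem E25229 : n101672 = n83885 := (((F136987).symm.trans (sb E25225 (iv5 F286897)))).symm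
theorem F286939 : act 7 n89270 = n101670 := (sb E25225 (iv7 F286899))
theorem F286940 : act 2 n75630 = n41707 := (sb E25226 F136988)
theorem F286947 : act 0 n89275 = n175438 := (sb E25228 (iv1 F274623))
theorem F286948 : act 1 n89275 = n83572 := (sb E25228 (iv0 D174983))
theorem E25230 : n175718 = n47281 := (((iv2 F275146)).symm.trans (sb E25229 F156577))
theorem E25231 : n175714 = n47280 := ((F275145).symm.trans (sb E25229 (iv7 D101672)))
theorem E25232 : n101667 = n83884 := ((F156576).symm.trans (sb E25230 (iv7 D175718)))
theorem F286951 : act 7 n47280 = n83885 := (sb E25231 (iv7 F275145))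
theorem F286952 : act 2 n83884 = n47280 := (sb E25232 (iv2 D101667))
theorem F286953 : act 7 n83884 = n47281 := (sb E25232 (iv7 F156576))
theorem F286954 : act 7 n101673 = n175715 := d8_2 F286953 D101673 (iv3 D175715)
theorem F286955 : act 7 n101674 = n175716 := d11_2 F286953 D101674 (iv4 D175716)
theorem F286956 : act 7 n101675 = n174868 := d13_2 F286953 D101675 F273764
theorem F286957 : act 2 n174868 = n101670 := d4_1 F286956 (iv7 F286939) F286937
theorem E25233 : n174869 = n89270 := (c15_2 (iv0 D174868) D174869 F286939 (iv2 F286957))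
theorem F286958 : act 0 n89270 = n83533 := (sb E25233 (iv1 D174869))
theorem E25234 : n100499 = n100071 := ((((iv4 F249740)).symm.trans (sb E25233 (iv4 F275132)))).symm
theorem F286959 : act 0 n100071 = n46889 := (sb E25234 (iv1 D100499))
theorem F286960 : act 1 n88940 = n124381 := d18_8 F286959 (iv4 F154556) (iv1 F272863) (iv4 D101849) (iv5 D47331) D47330 D101845 (iv4 F156808) (iv5 F286920)
theorem F286961 : act 0 n101842 = n171363 := d20_4 (iv4 F154556) (iv1 F272863) (iv4 D101849) (iv3 F156800) (iv3 D171363) (iv4 F194893) (iv1 D122049) F114077 (iv3 F286919) F286959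
theorem F286962 : act 1 n124381 = n98504 := d15_1 F286960 (iv7 D98504) (iv2 F136503)
theorem E25235 : n101871 = n99734 := ((c18_7 (iv1 F275095) (iv4 D83881) (iv1 D38629) F29564 D22321 D46590 D99734 F286892 F286962 F151904)).symm
theorem F286963 : act 2 n99734 = n47339 := (sb E25235 F156822)
theorem F286964 : act 4 n99734 = n124381 := (sb E25235 F286892)
theorem F286965 : act 7 n99734 = n47338 := (sb E25235 (iv7 D101871))
theorem E25236 : n101867 = n99733 := (c15_4 (iv0 D99733) D99734 F286965 D101867)
theorem F286966 : act 2 n99733 = n47338 := (sb E25236 (iv2 D101867))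
theorem F286967 : act 7 n99733 = n47339 := (sb E25236 (iv7 F156821))
theorem E25237 : n101351 = n101230 := (c20_4 D57985 D124384 (iv4 F250657) (iv3 F286889) (iv1 F155949) F74465 (iv4 F74551) (iv1 F153532) F286964 (iv3 D124381) (iv1 D57984))
theorem F286968 : act 2 n101230 = n47179 := (sb E25237 (iv2 D101351))
theorem F286969 : act 3 n101230 = n159180 := (sb E25237 F286889)
theorem F286970 : act 7 n101230 = n47180 := (sb E25237 (iv7 F156121))
theorem F286971 : act 5 n159179 = n101230 := d13_3 F286970 F286859 (iv7 F250653)
theorem E25238 : n101356 = n101231 := (c15_4 F155943 F155949 F286970 (iv2 F156123))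
theorem F286973 : act 7 n101231 = n47179 := (sb E25238 (iv7 D101356))
theorem F286974 : act 7 n101354 = n89220 := d13_2 F286973 D101354 F155944
theorem F286976 : act 1 n171349 = n101354 := d15_1 D171349 F286974 F286738
theorem F286978 : act 2 n184560 = n171349 := d15_3 F286976 (iv0 F156122) D184560
theorem F286979 : act 6 n171349 = n184555 := d3_2 (iv6 F286544) F286978 F286531
theorem F286980 : act 7 n171349 = n99887 := d4_2 D184560 F286978 (iv2 F155825)
theorem E25239 : n184558 = n82099 := (c15_1 D184558 D171349 F286980 (iv2 F155825))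
theorem E25240 : n171348 = n88012 := ((D171348).symm.trans (sb E25239 (iv1 D184558)))
theorem F286982 : act 1 n88012 = n82099 := (sb E25240 (iv0 D171348))
theorem F286983 : act 5 n171344 = n101271 := d21_8 D47156 D101272 (iv5 F286532) (iv6 F286979) (iv1 D171349) (iv6 D82099) D82098 D171344 (iv6 D101271) (iv1 D47155)
theorem E25241 : n184667 = n179835 := ((c21_4 D47142 D101230 (iv5 F286971) (iv6 F280061) (iv1 D184667) (iv6 D88055) D88054 D184662 F286647 (iv6 D101229) (iv1 D47141))).symm
theorem F286985 : act 0 n179835 = n88055 := (sb E25241 (iv1 D184667))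
theorem F286995 : act 2 n101669 = n175716 := d1_3 (iv4 D175716) F286952 D101669
theorem F286996 : act 2 n101671 = n175717 := d3_3 (iv6 D175717) F286952 D101671
theorem F286997 : act 7 n175719 = n101668 := d8_2 F286951 D175719 (iv3 D101668)
theorem F286998 : act 7 n175720 = n101669 := d11_2 F286951 D175720 (iv4 D101669)
theorem F286999 : act 2 n101674 = n175720 := d4_3 F286998 F286995 (iv7 F286955)
theorem F287000 : act 1 n175716 = n172402 := d15_0 (iv0 F275147) F286998 F286995
theorem F287001 : act 4 n100498 = n174868 := d18_3 (iv1 F272862) F154556 D100498 F273764 D175716 F287000 (iv4 D172402) D172401 (iv5 F270616)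
theorem F287002 : act 7 n98321 = n100498 := d11_0 F287001 (iv7 F286956) (iv4 F274509)
theorem E25243 : n175719 = n122060 := ((c6_3 (iv5 F136987) F286938 D122060 (iv3 D175719))).symm
theorem E25244 : n161510 = n101668 := ((F255506).symm.trans (sb E25243 F286997))
theorem F287011 : act 4 n101668 = n77768 := (sb E25244 F255504)
theorem E25245 : n172401 = n155138 := (c20_3 D175686 (iv1 F275071) F270633 (iv3 D155138) (iv1 D73636) F53192 D35486 D77768 (iv4 F287011) (iv3 D101668) (iv1 F128881))
theorem F287014 : act 0 n155138 = n82552 := (sb E25245 (iv1 D172401))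
theorem F287015 : act 1 n155138 = n101746 := (sb E25245 F270614)
theorem F287016 : act 4 n155138 = n101678 := (sb E25245 (iv4 F270633))
theorem F287017 : act 5 n155138 = n101862 := (sb E25245 (iv5 F270616))
theorem F287018 : act 3 n101862 = n150191 := d6_1 F287017 F236373 D155138
theorem E25246 : n167165 = n121971 := ((c20_4 F58813 (iv1 F58785) F118199 D121971 (iv1 D167165) F123320 F58747 D46723 (iv4 F249738) (iv3 F286934) F118015)).symm
theorem F287019 : act 0 n121971 = n80252 := (sb E25246 (iv1 D167165))
theorem F287022 : act 7 n98320 = n100075 := d15_2 (iv0 F286843) (iv0 F151934) F286927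
theorem F287023 : act 2 n98320 = n100070 := d4_3 F286917 (iv2 F286927) (iv7 F287022)
theorem F287025 : act 1 n98320 = n171267 := d15_0 (iv0 D171267) (iv7 F286917) (iv2 F287023)
theorem F287026 : act 5 n171267 = n175575 := d17_7 (iv1 F274568) D175592 F274962 (iv5 D158556) F274508 D98320 F287025 F274905 (iv4 F274566)
theorem F287027 : act 6 n89577 = n171267 := d12_0 F287026 (iv6 F274907) F268282 D100128 F154055
theorem F287028 : act 4 n98306 = n171392 := d20_6 F58437 (iv1 F118050) (iv4 F58397) F286915 (iv1 F73849) (iv3 F151727) (iv1 D171392) F126537 (iv3 D37645) (iv1 F118234)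
theorem F287029 : act 4 n184532 = n96498 := d20_0 (iv1 D96498) F70923 F58394 D37516 F286915 (iv4 F249738) (iv1 F113472) F113469 (iv3 F136202) (iv1 F286466)
theorem F287031 : act 7 n171392 = n98302 := d11_2 D98306 F287028 F151724
theorem E25248 : n171391 = n171077 := ((c15_4 (iv0 D171391) D171392 F287031 (iv2 F268797))).symm
theorem F287032 : act 1 n171077 = n82117 := (sb E25248 (iv0 D171391))
theorem F287033 : act 1 n125128 = n88956 := d15_1 F286912 F272719 (iv2 F272713)
theorem F287034 : act 6 n125128 = n99022 := d21_3 D98976 (iv1 F154042) F286903 (iv1 D99022) (iv6 D46323) (iv5 D22151) (iv1 D10556) D10557 (iv6 F34606) D46302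
theorem F287035 : act 3 n99022 = n125130 := d7_1 F287034 (iv6 D125130) D125128
theorem F287036 : act 0 n89225 = n184668 := d20_4 (iv4 D34769) D34767 D76097 (iv3 F286747) F286658 (iv4 F274618) F274621 F273862 F286902 (iv1 D76106)
theorem F287037 : act 3 n89315 = n118500 := d20_3 F155085 (iv1 F156395) (iv4 F137014) F236143 F130682 (iv4 D77329) D77328 (iv4 F249980) (iv3 F286901) (iv1 D174984)
theorem F287039 : act 4 n161042 = n184009 := d10_3 (iv6 D184009) F286866 D161042
theorem F287040 : act 2 n151862 = n161042 := d1_3 F287039 F285950 F284536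
theorem E25249 : n181455 = n101304 := ((c2_3 (iv5 F286757) F287040 F254583 F282552)).symm
theorem F287042 : act 7 n101304 = n86620 := (sb E25249 (iv7 D181455))
theorem E25250 : n181450 = n101303 := (c15_4 (iv0 D101303) D101304 F287042 D181450)
theorem F287045 : act 7 n101303 = n86621 := (sb E25250 (iv7 F282551))
theorem F287049 : act 4 n161047 = n150169 := d10_3 (iv6 D150169) F286863 D161047
theorem F287051 : act 0 n181270 = n161047 := d20_1 (iv4 F282349) F287049 F236350 F236356 (iv3 D120638) (iv4 D55573) (iv1 F114069) D85890 D179835 F286985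
theorem F287052 : act 3 n179899 = n89321 := d20_3 F192268 F155464 D179899 F153525 F155504 (iv4 F282349) F287051 F287049 F236350 F236356
theorem F287053 : act 3 n99727 = n150212 := d7_3 (iv6 F280182) F287052 (iv6 F153523)
theorem F287054 : act 5 n150212 = n99725 := d6_2 D99727 F287053 (iv3 D99725)
theorem F287055 : act 2 n99725 = n154072 := d2_1 F287054 F242127 (iv2 F236395)
theorem F287056 : act 0 n99725 = n154074 := d17_2 (iv1 F242142) F287054 F242129 F109459 (iv5 F109443) F109446 D72951 D154076 (iv4 F242141)
theorem F287057 : act 1 n99725 = n154059 := d17_6 (iv1 D26314) (iv5 F41916) D54387 F155324 (iv4 F236396) F287054 (iv5 D154059) F190676 (iv4 D54411)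
theorem F287058 : act 1 n101855 = n154074 := d15_0 (iv0 F287056) (iv7 F156410) D101855
theorem F287060 : act 5 n150068 = n101855 := d17_5 (iv1 F85874) F85870 (iv1 F85867) (iv5 F107077) (iv4 F236135) F287058 F242129 F190618 (iv4 D54406)
theorem F287061 : act 7 n101855 = n154072 := d13_2 F236136 F287060 F242127
theorem F287062 : act 1 n101854 = n154072 := d15_1 D101854 (iv7 F287061) (iv2 D101855)
theorem F287064 : act 5 n154060 = n101854 := d17_5 (iv1 F236399) (iv5 D119775) F190616 (iv5 F109443) (iv4 F242101) F287062 F242127 F236397 F236264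
theorem F287066 : act 3 n154072 = n101840 := d0_2 D99725 F287055 (iv2 D101840) (iv3 D47329) F156389
theorem F287067 : act 7 n184542 = n89219 := d13_2 F286858 D184542 (iv5 D89219)
theorem F287068 : act 2 n89224 = n184542 := d4_3 F287067 F286737 (iv7 F286746)
theorem F287071 : act 1 n184542 = n171344 := d15_0 (iv0 D171344) (iv7 F286746) F287068
theorem F287073 : act 0 n179776 = n101572 := d18_2 F286852 D179776 (iv4 D101572) (iv5 D47249) (iv4 F155153) F113416 F113413 F91585 D46295
theorem F287074 : act 7 n98949 = n179775 := d15_2 (iv0 F286852) D98949 (iv2 D179775)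
theorem F287075 : act 2 n125128 = n98949 := d4_3 F287074 (iv2 D179775) (iv7 F201036)
theorem F287076 : act 3 n98949 = n179761 := d0_2 D125128 F287075 (iv2 D179761) (iv3 D85863) F117533
theorem F287077 : act 0 n89529 = n171270 := d21_7 (iv5 D46300) (iv1 D22140) D22141 F34606 D22153 D46328 (iv5 F137243) (iv5 F280006) (iv6 D179777) (iv1 F286851)
theorem F287078 : act 5 n150209 = n101858 := d12_5 (iv6 D101858) F286848 (iv6 D70698) D70697 D150209
theorem E25251 : n168829 = n167640 := ((c20_4 F284539 (iv1 F286847) (iv4 F285089) F285088 (iv1 D168829) (iv3 D80974) (iv4 D36993) (iv1 F118053) (iv4 F60879) (iv3 F132458) (iv1 F260468))).symm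
theorem F287080 : act 0 n167640 = n80974 := (sb E25251 (iv1 D168829))
theorem F287081 : act 1 n167640 = n150352 := (sb E25251 F265899)
theorem F287082 : act 7 n168828 = n161014 := d15_2 F287081 F265895 (iv2 F263921)
theorem F287083 : act 1 n179776 = n101561 := d18_6 F153525 (iv4 F271826) (iv1 F274518) F286842 (iv5 F131725) D179776 (iv4 D101561) D101560 F156363
theorem E25252 : n96830 = n96682 := ((c20_7 F43932 (iv1 F43915) (iv4 F118207) F286838 (iv1 D75630) (iv3 F87540) (iv4 F149005) (iv1 D96830) (iv4 F149276) (iv3 D96821) F71316)).symm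
theorem F287084 : act 0 n96682 = n45259 := (sb E25252 (iv1 D96830))
theorem F287085 : act 3 n118474 = n120201 := d20_9 (iv4 F149005) F287084 (iv4 F149276) (iv3 D96821) F71316 (iv3 F86260) F86261 (iv1 F86228) D118474 (iv1 D120201)
theorem F287086 : act 4 n120201 = n96770 := d5_2 D118474 F287085 (iv3 D96770) (iv4 F107010) (iv3 F107009)
theorem F287087 : act 7 n120201 = n118507 := d8_2 (iv7 F186319) F287085 (iv3 D118507)
theorem F287088 : act 2 n118507 = n120200 := d15_3 (iv0 D120200) D120201 F287087
theorem F287089 : act 2 n120201 = n175066 := d15_3 F274032 (iv0 F286768) (iv7 F287087)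
theorem F287090 : act 7 n175066 = n120200 := d4_2 (iv7 F287087) F287089 (iv2 F287088)
theorem E25253 : n170087 = n96829 := ((c20_11 (iv4 F274036) (iv1 F274039) F287086 (iv3 D96770) (iv1 D45224) F33979 F16401 D10311 D21588 D45259 D96829)).symm
theorem F287091 : act 4 n96829 = n175068 := (sb E25253 (iv4 F274036))
theorem F287093 : act 4 n89290 = n172807 := d10_3 (iv6 D172807) F286823 D89290
theorem F287094 : act 3 n172812 = n89296 := d5_3 F287093 F271071 (iv4 F271078) F137002 (iv3 F136999)
theorem E25254 : n174782 = n99730 := ((c21_7 (iv5 F58709) (iv1 F58717) F58716 D47002 F286817 D89290 (iv5 F153530) (iv1 D174782) (iv5 D83502) (iv6 D38496) (iv1 F35288))).symm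
theorem F287095 : act 0 n99730 = n83502 := (sb E25254 (iv1 D174782))
theorem E25255 : n174781 = n101840 := ((c15_4 (iv0 D174781) (iv0 F287095) F156402 D101840)).symm
theorem F287096 : act 1 n101840 = n83502 := (sb E25255 (iv0 D174781))
theorem F287097 : act 3 n184005 = n98304 := d20_3 F286814 (iv1 F249514) F285932 (iv1 D98304) F72578 (iv4 F59161) F272778 (iv4 D41712) D41711 D89285
theorem F287098 : act 0 n98302 = n158237 := d20_1 (iv4 F151724) F249282 (iv3 D81942) D81941 (iv3 F286813) F286814 (iv1 F249514) F285932 F287097 (iv1 D98304)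
theorem F287103 : act 3 n150190 = n172293 := d6_3 (iv5 D172293) F286776 D150190
theorem F287104 : act 3 n89314 = n118499 := d8_3 (iv7 F236369) F287103 F270631
theorem E25256 : n181358 = n168503 := ((c21_7 F61039 (iv1 F51926) (iv5 F57746) D80678 F286762 D80839 D168503 (iv1 D181358) (iv5 D86589) (iv6 D40143) D40141)).symm
theorem F287106 : act 0 n168503 = n86589 := (sb E25256 (iv1 D181358))
def n184717 : Q := act 1 n88079
theorem D184717 : act 1 n88079 = n184717 := rfl
theorem F287113 : act 1 n184717 = n88084 := d15_1 D184717 F156466 F156454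
def n184718 : Q := act 4 n88079
theorem D184718 : act 4 n88079 = n184718 := rfl
def n184719 : Q := act 6 n88079
theorem D184719 : act 6 n88079 = n184719 := rfl
def n184720 : Q := act 1 n88080
theorem D184720 : act 1 n88080 = n184720 := rfl
theorem F287115 : act 7 n184720 = n88154 := d15_2 (iv0 F285601) D184720 F135121
theorem F287116 : act 2 n88169 = n184720 := d4_3 F287115 F135121 D88169
theorem F287117 : act 6 n88153 = n184720 := d14_5 F287115 (iv6 D88154) (iv7 D41150) D41149 D88153
theorem F287118 : act 5 n89226 = n88153 := d21_2 D41690 D89226 F287117 (iv1 D184720) (iv6 D88080) D88079 D184716 (iv5 F286749) (iv6 D89225) (iv1 D41689)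
theorem F287119 : act 7 n88152 = n89226 := d13_0 F287118 (iv7 D88153) D88152
theorem F287120 : act 0 n101271 = n88153 := d21_10 (iv5 F287118) (iv1 F286484) F286481 F135010 (iv1 F133339) D86970 D182125 (iv1 F283517) (iv5 D101270) D101271
theorem F287121 : act 5 n184720 = n184550 := d21_6 D182125 (iv1 F283517) (iv5 D101270) D101271 F287120 F287117 (iv1 D184550) (iv5 D88006) D88007 (iv1 F286517)
theorem F287122 : act 2 n89226 = n184544 := d15_3 (iv0 D184544) (iv0 F135120) F287119
theorem F287123 : act 2 n88152 = n89227 := d15_3 F286483 F286484 (iv7 F287119)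
theorem E25259 : n183792 = n41149 := (c2_4 D88152 F287123 (iv5 F136946) (iv2 F285572))
theorem E25260 : n88131 = n87690 := (((iv2 F135106)).symm.trans (sb E25259 F285572))
theorem E25261 : n87686 = n19355 := ((((iv6 D41149)).symm.trans (sb E25259 (iv6 D183792)))).symm
theorem E25262 : n41145 = n40849 := ((((iv6 D87690)).symm.trans (sb E25260 (iv6 D88131)))).symm
theorem E25265 : n183789 = n41146 := (((D41146).symm.trans (sb E25261 D183789))).symm
theorem E25266 : n183790 = n41147 := (((D41147).symm.trans (sb E25261 D183790))).symm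
theorem E25268 : n41150 = n40850 := ((D41150).symm.trans (sb E25261 (iv7 F134596)))
theorem E25271 : n88128 = n87687 := (((D87687).symm.trans (sb E25262 D88128))).symm
theorem E25272 : n88129 = n87688 := (((D87688).symm.trans (sb E25262 D88129))).symm
theorem E25273 : n88130 = n87689 := (((D87689).symm.trans (sb E25262 D88130))).symm
theorem E25274 : n87691 = n19356 := ((D87691).symm.trans (sb E25262 (iv7 F62353)))
theorem E25275 : n88138 = n87692 := ((D88138).symm.trans (sb E25265 F285567))
theorem E25276 : n88144 = n87693 := ((D88144).symm.trans (sb E25266 F285569))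
theorem E25278 : n88154 = n87695 := (((D87695).symm.trans (sb E25268 D88154))).symm
theorem E25279 : n183799 = n41151 := ((D183799).symm.trans (sb E25271 F135101))
theorem E25280 : n183805 = n41152 := ((D183805).symm.trans (sb E25272 F135103))
theorem E25281 : n183810 = n41153 := ((D183810).symm.trans (sb E25273 F135105))
theorem F287129 : act 2 n19356 = n40850 := (sb E25274 F134597)
theorem F287131 : act 7 n87692 = n41146 := (sb E25275 (iv7 D88138))
theorem F287132 : act 7 n87693 = n41147 := (sb E25276 (iv7 D88144))
theorem E25283 : n184720 = n183828 := (((D183828).symm.trans (sb E25278 (iv7 F287115)))).symm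
theorem F287134 : act 7 n41151 = n87687 := (sb E25279 (iv7 D183799))
theorem F287135 : act 2 n41152 = n87693 := (sb E25280 F285578)
theorem F287137 : act 2 n41153 = n87694 := (sb E25281 F285590)
theorem F287142 : act 2 n183828 = n88169 := (sb E25283 (iv2 F287116))
theorem F287143 : act 5 n183828 = n184550 := (sb E25283 F287121)
theorem F287144 : act 6 n183828 = n88153 := (sb E25283 (iv6 F287117))
theorem F287145 : act 7 n89227 = n184544 := d4_2 (iv7 F287119) F287123 (iv2 F287122)
theorem F287146 : act 5 n184544 = n183813 := d13_1 F287145 (iv7 D183813) F136946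
theorem F287147 : act 2 n183813 = n88153 := d2_1 F287146 (iv5 F287118) F287122
theorem F287148 : act 6 n88169 = n183813 := d3_0 F287147 (iv6 F287144) F287142
theorem F287156 : act 0 n88169 = n98092 := d21_10 F151235 (iv1 D88014) (iv5 D41085) (iv6 D19336) D19335 D41082 D88001 D184544 F287146 (iv6 F287148)
theorem F287157 : act 1 n88169 = n183826 := d15_1 (iv0 F287156) (iv7 F285600) (iv2 F156455)
theorem F287158 : act 7 n184550 = n183827 := d13_2 D183828 F287143 (iv5 D183827)
theorem F287159 : act 2 n183827 = n88168 := d15_3 (iv0 F135125) D184550 F287158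
theorem F287164 : act 2 n183825 = n88165 := d3_3 (iv6 D88165) F287137 D183825
theorem F287167 : act 2 n183822 = n88162 := d2_3 (iv5 D88162) F287135 D183822
theorem F287168 : act 7 n183795 = n88157 := d4_2 F287134 D183795 (iv2 D88157)
theorem F287172 : act 1 n88156 = n183795 := d15_1 D88156 F287168 (iv2 D88157)
theorem F287178 : act 7 n88142 = n183822 := d13_2 F287132 D88142 (iv5 D183822)
theorem F287180 : act 7 n88134 = n183817 := d4_2 F287131 D88134 (iv2 D183817)
theorem F287181 : act 7 n88135 = n183818 := d11_2 F287131 D88135 (iv4 D183818)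
theorem F287186 : act 3 n183817 = n88157 := d0_4 (iv3 D41151) F287129 D87692 D183817 (iv2 D88157)
theorem F287187 : act 3 n183795 = n88134 := d8_3 F287180 F287186 (iv7 F287168)
def n184721 : Q := act 4 n88084
theorem D184721 : act 4 n88084 = n184721 := rfl
def n184722 : Q := act 6 n88084
theorem D184722 : act 6 n88084 = n184722 := rfl
theorem F287190 : act 0 n94076 = n184722 := d21_4 (iv5 D87438) (iv1 F66261) (iv5 F69136) D94076 (iv6 D184722) (iv5 D88084) (iv1 D41130) D41131 (iv6 F64310) (iv1 F134208)
def n184723 : Q := act 1 n88085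
theorem D184723 : act 1 n88085 = n184723 := rfl
def n184724 : Q := act 5 n88085
theorem D184724 : act 5 n88085 = n184724 := rfl
theorem F287191 : act 2 n184724 = n182103 := d2_1 D184724 F283504 (iv2 F156452)
theorem F287192 : act 7 n184724 = n182104 := d13_2 F156463 D184724 (iv5 F286652)
theorem F287193 : act 0 n184724 = n181959 := d21_7 F286532 (iv1 F156040) F135084 (iv6 F72315) (iv1 F72317) D88085 D184724 (iv5 D181959) D181960 (iv1 F286534)
theorem F287194 : act 0 n181955 = n184724 := d21_1 D181955 (iv5 D184724) (iv6 D88085) (iv1 D41130) (iv6 D19351) F14417 (iv1 F14415) D19058 D40317 D86904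
def n184725 : Q := act 3 n88086
theorem D184725 : act 3 n88086 = n184725 := rfl
def n184726 : Q := act 4 n88086
theorem D184726 : act 4 n88086 = n184726 := rfl
def n184727 : Q := act 5 n88086
theorem D184727 : act 5 n88086 = n184727 := rfl
theorem F287195 : act 2 n184727 = n184668 := d2_1 D184727 F286659 F156894
theorem F287196 : act 7 n184727 = n101211 := d13_2 (iv7 F156893) D184727 F155922
theorem F287197 : act 6 n184727 = n184674 := d21_3 D41131 D88086 D184727 (iv1 F286667) (iv6 F135128) D181955 F287194 (iv5 D184724) (iv6 D88085) (iv1 D41130)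
theorem F287198 : act 0 n184543 = n184727 := d21_10 (iv5 D184727) (iv1 F151245) F151242 F72315 (iv1 F74427) D101271 (iv5 F286983) (iv1 F287071) (iv5 D184542) D184543
theorem F287200 : act 1 n89225 = n101211 := d15_1 (iv0 F287036) (iv7 F287196) F287195
def n184728 : Q := act 6 n88086
theorem D184728 : act 6 n88086 = n184728 := rfl
theorem F287201 : act 5 n184728 = n88241 := d12_1 D184728 (iv6 F286669) (iv5 F286666) (iv6 F287197) (iv5 D184727)
def n184729 : Q := act 6 n88087
theorem D184729 : act 6 n88087 = n184729 := rfl
theorem F287202 : act 5 n184729 = n184665 := d12_1 D184729 (iv6 D184665) (iv5 D88054) D88055 F135077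
def n184730 : Q := act 0 n88088
theorem D184730 : act 0 n88088 = n184730 := rfl
def n184731 : Q := act 1 n88088
theorem D184731 : act 1 n88088 = n184731 := rfl
theorem F287203 : act 4 n184731 = n182031 := d18_7 (iv1 F133428) F233167 (iv1 D86406) F60878 D41131 D88088 D184731 F283425 F134161
def n184732 : Q := act 3 n88088
theorem D184732 : act 3 n88088 = n184732 := rfl
def n184733 : Q := act 5 n88088
theorem D184733 : act 5 n88088 = n184733 := rfl
def n184734 : Q := act 7 n88088
theorem D184734 : act 7 n88088 = n184734 := rfl
theorem F287204 : act 4 n184734 = n88089 := d11_1 D184734 (iv7 D88089) D88088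
theorem F287205 : act 1 n183109 = n184734 := d15_1 (iv0 F284727) (iv7 D184734) (iv2 F151238)
theorem F287206 : act 0 n183105 = n184734 := d18_2 D87403 D183105 F287204 F135078 (iv4 F132462) (iv0 F233171) (iv4 D87395) (iv0 D40616) D40618
def n184735 : Q := act 6 n88089
theorem D184735 : act 6 n88089 = n184735 := rfl
theorem F287207 : act 7 n184735 = n94070 := d14_2 D88089 D184735 (iv6 D94070) F69132 F64310
def n184736 : Q := act 0 n88093
theorem D184736 : act 0 n88093 = n184736 := rfl
theorem F287208 : act 5 n184736 = n181960 := d21_2 D88093 D184736 (iv6 D181960) (iv1 D86905) (iv6 D40317) (iv5 D19058) (iv1 F14357) (iv5 F14358) D19352 D41133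
theorem F287210 : act 2 n182125 = n184736 := d2_3 F287208 F286515 D182125
def n184737 : Q := act 1 n88093
theorem D184737 : act 1 n88093 = n184737 := rfl
theorem F287212 : act 7 n184737 = n182125 := d15_2 (iv0 D184736) D184737 F287210
theorem F287213 : act 5 n182126 = n184737 := d13_3 F287212 (iv5 D182125) D182126
theorem F287214 : act 6 n184737 = n94813 := d12_2 F285610 F287213 (iv5 F285614) (iv6 D183833) D183832
def n184745 : Q := act 6 n88098
theorem D184745 : act 6 n88098 = n184745 := rfl
theorem F287220 : act 0 n94803 = n184745 := d21_4 F136397 F140521 F140520 D94803 (iv6 D184745) (iv5 D88098) (iv1 D41134) D41135 (iv6 F64021) D88901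
def n184747 : Q := act 6 n88100
theorem D184747 : act 6 n88100 = n184747 := rfl
def n184748 : Q := act 3 n88101
theorem D184748 : act 3 n88101 = n184748 := rfl
theorem F287225 : act 5 n184748 = n184549 := d6_2 F135083 D184748 F286487
def n184749 : Q := act 6 n88101
theorem D184749 : act 6 n88101 = n184749 := rfl
theorem F287226 : act 5 n184749 = n184552 := d12_1 D184749 (iv6 D184552) (iv5 D88006) D88007 F135083
def n184750 : Q := act 0 n88102
theorem D184750 : act 0 n88102 = n184750 := rfl
def n184751 : Q := act 1 n88102
theorem D184751 : act 1 n88102 = n184751 := rfl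
theorem F287227 : act 4 n184751 = n181992 := d18_7 (iv1 F133375) F283303 (iv1 D79390) F56889 D41135 D88102 D184751 F283312 F134452
def n184752 : Q := act 3 n88102
theorem D184752 : act 3 n88102 = n184752 := rfl
def n184753 : Q := act 5 n88102
theorem D184753 : act 5 n88102 = n184753 := rfl
def n184754 : Q := act 7 n88102
theorem D184754 : act 7 n88102 = n184754 := rfl
theorem F287228 : act 4 n184754 = n88103 := d11_1 D184754 (iv7 D88103) D88102
theorem F287229 : act 1 n183457 = n184754 := d15_1 (iv0 F285209) (iv7 D184754) (iv2 F156036)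
theorem F287230 : act 0 n183452 = n184754 := d18_2 D87566 D183452 F287228 F135084 (iv4 F121985) (iv0 F233185) (iv4 D87558) (iv0 D40755) D40757
theorem F287231 : act 0 n124338 = n183451 := d20_4 D170791 F268380 (iv4 D124341) (iv3 F198858) (iv3 D183451) D183452 F287230 F287228 (iv3 F195536) (iv1 F195539)
def n184756 : Q := act 0 n88104
theorem D184756 : act 0 n88104 = n184756 := rfl
def n184757 : Q := act 1 n88104
theorem D184757 : act 1 n88104 = n184757 := rfl
def n184758 : Q := act 5 n88104
theorem D184758 : act 5 n88104 = n184758 := rfl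
def n184759 : Q := act 7 n88104
theorem D184759 : act 7 n88104 = n184759 := rfl
def n184760 : Q := act 6 n88105
theorem D184760 : act 6 n88105 = n184760 := rfl
def n184767 : Q := act 5 n88107
theorem D184767 : act 5 n88107 = n184767 := rfl
theorem F287237 : act 2 n184767 = n88110 := d2_1 D184767 (iv5 D88110) (iv2 F135090)
def n184769 : Q := act 2 n88108
theorem D184769 : act 2 n88108 = n184769 := rfl
theorem F287245 : act 7 n88109 = n184769 := d15_2 (iv0 D88108) D88109 (iv2 D184769)
def n184774 : Q := act 7 n88108
theorem D184774 : act 7 n88108 = n184774 := rfl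
theorem F287246 : act 2 n184774 = n88109 := d4_1 D184774 F287245 (iv2 D184769)
def n184775 : Q := act 3 n88109
theorem D184775 : act 3 n88109 = n184775 := rfl
def n184776 : Q := act 4 n88109
theorem D184776 : act 4 n88109 = n184776 := rfl
def n184777 : Q := act 5 n88109
theorem D184777 : act 5 n88109 = n184777 := rfl
def n184778 : Q := act 6 n88109
theorem D184778 : act 6 n88109 = n184778 := rfl
def n184779 : Q := act 0 n88110
theorem D184779 : act 0 n88110 = n184779 := rfl
def n184780 : Q := act 1 n88110
theorem D184780 : act 1 n88110 = n184780 := rfl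
def n184781 : Q := act 4 n88110
theorem D184781 : act 4 n88110 = n184781 := rfl
def n184782 : Q := act 7 n88110
theorem D184782 : act 7 n88110 = n184782 := rfl
theorem F287248 : act 5 n184782 = n88111 := d13_1 D184782 (iv7 D88111) D88110
def n184787 : Q := act 5 n88112
theorem D184787 : act 5 n88112 = n184787 := rfl
theorem F287254 : act 2 n184787 = n88115 := d2_1 D184787 (iv5 D88115) D88112
theorem F287255 : act 7 n184787 = n88120 := d13_2 F135096 D184787 (iv5 D88120)
def n184793 : Q := act 5 n88113
theorem D184793 : act 5 n88113 = n184793 := rfl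
theorem F287257 : act 3 n184793 = n88115 := d6_1 D184793 (iv5 D88115) D88113
def n184803 : Q := act 1 n88115
theorem D184803 : act 1 n88115 = n184803 := rfl
theorem F287266 : act 1 n184803 = n88120 := d15_1 D184803 (iv7 F287255) F287254
def n184804 : Q := act 4 n88115
theorem D184804 : act 4 n88115 = n184804 := rfl
def n184805 : Q := act 6 n88115
theorem D184805 : act 6 n88115 = n184805 := rfl
def n184806 : Q := act 7 n88115
theorem D184806 : act 7 n88115 = n184806 := rfl
theorem F287267 : act 2 n184806 = n88120 := d4_1 D184806 (iv7 F287255) F287254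
theorem F287268 : act 5 n184806 = n88117 := d13_1 D184806 (iv7 D88117) D88115
def n184808 : Q := act 1 n88116
theorem D184808 : act 1 n88116 = n184808 := rfl
theorem F287270 : act 4 n184808 = n88151 := d17_9 (iv1 D88151) D88152 F135120 (iv5 D88001) F62328 D77288 D161049 (iv5 F254585) D184808
def n184811 : Q := act 0 n88118
theorem D184811 : act 0 n88118 = n184811 := rfl
def n184815 : Q := act 5 n88118
theorem D184815 : act 5 n88118 = n184815 := rfl
theorem F287272 : act 3 n184815 = n88120 := d6_1 D184815 (iv5 D88120) D88118
def n184818 : Q := act 6 n88119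
theorem D184818 : act 6 n88119 = n184818 := rfl
theorem F287274 : act 4 n184818 = n88121 := d10_1 D184818 (iv6 D88121) D88119
def n184819 : Q := act 4 n88120
theorem D184819 : act 4 n88120 = n184819 := rfl
def n184820 : Q := act 6 n88120
theorem D184820 : act 6 n88120 = n184820 := rfl
def n184823 : Q := act 5 n88121
theorem D184823 : act 5 n88121 = n184823 := rfl
theorem F287275 : act 0 n181308 = n184823 := d21_1 D181308 (iv5 D184823) (iv6 D88121) (iv1 D41142) (iv6 D19354) (iv5 F30179) F30181 D18959 D40131 D86572
theorem E25285 : n184818 = n183078 := (c17_5 D86572 D181308 F287275 (iv5 D184823) (iv4 F287274) (iv5 F285989) (iv0 D184038) (iv5 D87787) (iv0 D40902) (iv4 F61025))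
theorem E25286 : n88119 = n87390 := ((((iv6 D183078)).symm.trans (sb E25285 (iv6 D184818)))).symm
theorem E25290 : n183392 = n183075 := (((D183075).symm.trans (sb E25286 (iv3 F285106)))).symm
theorem F287278 : act 0 n183075 = n87544 := (sb E25290 (iv1 D183392))
theorem F287279 : act 1 n183075 = n175564 := (sb E25290 F285105)
def n184825 : Q := act 2 n88122
theorem D184825 : act 2 n88122 = n184825 := rfl
theorem F287285 : act 7 n88123 = n184825 := d15_2 (iv0 D88122) D88123 (iv2 D184825)
def n184826 : Q := act 3 n88122
theorem D184826 : act 3 n88122 = n184826 := rfl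
def n184827 : Q := act 4 n88122
theorem D184827 : act 4 n88122 = n184827 := rfl
def n184828 : Q := act 5 n88122
theorem D184828 : act 5 n88122 = n184828 := rfl
def n184829 : Q := act 6 n88122
theorem D184829 : act 6 n88122 = n184829 := rfl
theorem F287286 : act 5 n184829 = n167884 := d21_6 F264521 (iv1 D86365) D86366 F132367 D88122 D184829 (iv1 D167884) D167885 F264517 D167889
def n184830 : Q := act 7 n88122
theorem D184830 : act 7 n88122 = n184830 := rfl
theorem F287287 : act 2 n184830 = n88123 := d4_1 D184830 F287285 (iv2 D184825)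
def n184831 : Q := act 3 n88123
theorem D184831 : act 3 n88123 = n184831 := rfl
def n184832 : Q := act 4 n88123
theorem D184832 : act 4 n88123 = n184832 := rfl
def n184833 : Q := act 6 n88123
theorem D184833 : act 6 n88123 = n184833 := rfl
def n184834 : Q := act 0 n88124
theorem D184834 : act 0 n88124 = n184834 := rfl
def n184835 : Q := act 1 n88124
theorem D184835 : act 1 n88124 = n184835 := rfl
def n184836 : Q := act 3 n88124
theorem D184836 : act 3 n88124 = n184836 := rfl
def n184837 : Q := act 5 n88124
theorem D184837 : act 5 n88124 = n184837 := rfl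
def n184838 : Q := act 7 n88124
theorem D184838 : act 7 n88124 = n184838 := rfl
theorem F287288 : act 4 n184838 = n88125 := d11_1 D184838 (iv7 D88125) D88124
def n184850 : Q := act 4 n88134
theorem D184850 : act 4 n88134 = n184850 := rfl
theorem F287291 : act 2 n184850 = n88135 := d1_1 D184850 (iv4 D88135) D88134
theorem F287292 : act 1 n184850 = n98462 := d15_0 (iv0 F285593) (iv7 F287181) (iv2 F287291)
def n184853 : Q := act 0 n88135
theorem D184853 : act 0 n88135 = n184853 := rfl
theorem F287295 : act 4 n184853 = n98466 := d20_8 (iv4 D83025) (iv1 D38208) F29453 F17287 D19355 D41146 D88135 D184853 F151874 (iv1 F274514)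
theorem F287296 : act 7 n98462 = n184853 := d11_0 F287295 (iv7 D98466) (iv4 F151871)
def n184867 : Q := act 4 n88139
theorem D184867 : act 4 n88139 = n184867 := rfl
def n184880 : Q := act 0 n88142
theorem D184880 : act 0 n88142 = n184880 := rfl
theorem F287306 : act 1 n88162 = n184880 := d15_0 (iv0 D184880) F287178 F287167
def n184888 : Q := act 3 n88145
theorem D184888 : act 3 n88145 = n184888 := rfl
theorem F287310 : act 5 n184888 = n184671 := d6_2 (iv5 F135115) D184888 F286663
def n184890 : Q := act 6 n88145
theorem D184890 : act 6 n88145 = n184890 := rfl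
theorem F287311 : act 5 n184890 = n184673 := d12_1 D184890 (iv6 D184673) (iv5 D88059) D88060 (iv5 F135115)
def n184897 : Q := act 0 n88148
theorem D184897 : act 0 n88148 = n184897 := rfl
def n184898 : Q := act 1 n88148
theorem D184898 : act 1 n88148 = n184898 := rfl
def n184899 : Q := act 5 n88148
theorem D184899 : act 5 n88148 = n184899 := rfl
theorem F287315 : act 6 n184899 = n88152 := d12_2 D88148 D184899 (iv5 D88152) (iv6 D41149) D41148
def n184901 : Q := act 5 n88151
theorem D184901 : act 5 n88151 = n184901 := rfl
theorem F287317 : act 3 n184901 = n89299 := d6_1 D184901 F156737 F184728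
theorem F287319 : act 0 n184901 = n89219 := d21_7 (iv5 F156106) (iv1 F156110) (iv5 D47177) D47178 D101347 F156119 D184901 (iv5 D89219) D89220 (iv1 F286546)
theorem F287320 : act 1 n184901 = n89224 := d15_1 (iv0 F287319) F286746 (iv2 F286737)
def n184909 : Q := act 3 n88156
theorem D184909 : act 3 n88156 = n184909 := rfl
def n184910 : Q := act 4 n88156
theorem D184910 : act 4 n88156 = n184910 := rfl
theorem F287324 : act 0 n184910 = n175609 := d20_1 D184910 F274934 (iv3 D83848) F154536 (iv3 F72634) (iv4 F151871) (iv1 F287292) (iv4 D184850) (iv3 F287187) (iv1 F287172)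
theorem E25299 : n184909 = n101895 := ((c20_5 (iv4 F72403) F272644 (iv4 D47347) D47346 D101895 (iv3 D184909) D184910 F287324 F274934 (iv3 D83848) F154536)).symm
theorem F287325 : act 3 n101895 = n88156 := (sb E25299 (iv3 D184909))
def n184936 : Q := act 0 n88163
theorem D184936 : act 0 n88163 = n184936 := rfl
theorem F287336 : act 5 n184936 = n168273 := d17_1 D184936 (iv1 F282214) F282211 F132730 (iv5 F135019) F153797 (iv5 F153799) (iv0 D88166) (iv4 F135124)
theorem F287337 : act 4 n184936 = n183093 := d18_3 F285601 (iv4 F135124) D184936 F284714 D184054 F286554 (iv4 D99890) D99889 (iv5 F153792)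
theorem F287338 : act 5 n181094 = n184880 := d21_6 F287336 (iv1 F282214) F282211 (iv6 F155917) (iv1 F155919) D181094 (iv1 F287306) (iv5 D88162) D88163 D184936
theorem F287339 : act 0 n182101 = n181094 := d17_0 F287338 (iv1 F287306) (iv5 D88162) (iv4 D41152) D41153 F135119 F135115 F286650 (iv4 F283500)
theorem E25300 : n165241 = n41147 := (c21_11 D88142 D184880 (iv5 F287338) (iv6 D181094) (iv1 D86487) (iv6 D40068) (iv5 D18939) D18937 (iv5 F56882) D79387 D165241)
theorem E25301 : n182869 = n88139 := (((D88139).symm.trans (sb E25300 (iv1 F284428)))).symm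
theorem E25303 : n165242 = n41152 := ((((iv1 F135114)).symm.trans (sb E25301 (iv1 F284427)))).symm
theorem E25305 : n184867 = n87392 := ((D184867).symm.trans (sb E25301 F284424))
theorem F287341 : act 0 n41152 = n79387 := (sb E25303 (iv1 D165242))
theorem F287343 : act 4 n87392 = n88139 := (sb E25305 (iv4 D184867))
theorem E25312 : n177814 = n173572 := (c20_5 D41147 D88139 (iv4 F287343) (iv3 F152448) (iv1 F277336) (iv3 D173572) (iv4 D83025) (iv1 D38208) F29453 F17287 D19355)
theorem F287348 : act 0 n173572 = n84665 := (sb E25312 (iv1 D177814))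
theorem F287350 : act 0 n174375 = n101898 := d20_7 F59430 (iv1 F59068) D83025 D173572 F287348 (iv3 F277331) F277332 (iv4 D101898) (iv3 D47346) (iv1 F59434)
theorem E25313 : n177813 = n175568 := ((c15_4 (iv0 D177813) (iv0 F287348) (iv7 F274580) D175568)).symm
theorem F287352 : act 1 n175568 = n84665 := (sb E25313 (iv0 D177813))
def n184945 : Q := act 7 n88165
theorem D184945 : act 7 n88165 = n184945 := rfl
theorem F287361 : act 1 n88211 = n184945 := d15_1 (iv0 F285597) (iv7 D184945) (iv2 F287164)
def n184948 : Q := act 7 n88168
theorem D184948 : act 7 n88168 = n184948 := rfl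
theorem F287363 : act 5 n184948 = n88169 := d13_1 D184948 (iv7 D88169) D88168
theorem F287364 : act 1 n99881 = n184948 := d15_1 (iv0 F285603) (iv7 D184948) (iv2 F287159)
theorem F287366 : act 6 n184948 = n91374 := d21_3 (iv5 F285598) (iv1 F287157) (iv5 F287363) (iv1 D91374) (iv6 D42760) (iv5 D20201) F65648 D19339 (iv6 F62329) D88013
def n184949 : Q := act 0 n88171
theorem D184949 : act 0 n88171 = n184949 := rfl
def n184950 : Q := act 1 n88171
theorem D184950 : act 1 n88171 = n184950 := rfl
def n184951 : Q := act 2 n88171
theorem D184951 : act 2 n88171 = n184951 := rfl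
def n184952 : Q := act 4 n88171
theorem D184952 : act 4 n88171 = n184952 := rfl
def n184953 : Q := act 5 n88171
theorem D184953 : act 5 n88171 = n184953 := rfl
theorem F287367 : act 3 n184953 = n88173 := d6_1 D184953 (iv5 D88173) D88171
theorem F287368 : act 7 n184953 = n182095 := d13_2 (iv7 F286523) D184953 (iv5 F285617)
def n184954 : Q := act 6 n88171
theorem D184954 : act 6 n88171 = n184954 := rfl
theorem F287369 : act 3 n184954 = n88174 := d7_1 D184954 (iv6 D88174) D88171
def n184955 : Q := act 0 n88172
theorem D184955 : act 0 n88172 = n184955 := rfl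
theorem F287370 : act 4 n184955 = n183082 := d18_3 D41155 D88172 D184955 F284696 F287343 (iv0 D88139) (iv4 D41147) (iv0 D19355) D19357
theorem F287371 : act 1 n88177 = n184955 := d15_0 (iv0 D184955) F286524 F286521
theorem F287372 : act 7 n183081 = n184955 := d11_0 F287370 (iv7 D183082) D183081
def n184956 : Q := act 1 n88172
theorem D184956 : act 1 n88172 = n184956 := rfl
theorem F287373 : act 1 n184956 = n88177 := d15_1 D184956 (iv7 F286520) F286525
theorem F287375 : act 4 n95440 = n184956 := d18_5 (iv1 F61951) D41152 F287341 F121980 D95440 F287373 (iv4 D88177) F134605 F134603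
theorem F287376 : act 6 n184956 = n88252 := d10_2 (iv6 F147059) F287375 (iv4 F135180)
def n184957 : Q := act 3 n88172
theorem D184957 : act 3 n88172 = n184957 := rfl
def n184958 : Q := act 5 n88172
theorem D184958 : act 5 n88172 = n184958 := rfl
def n184959 : Q := act 6 n88172
theorem D184959 : act 6 n88172 = n184959 := rfl
theorem F287377 : act 4 n184959 = n88174 := d10_1 D184959 (iv6 D88174) D88172
def n184960 : Q := act 4 n88173
theorem D184960 : act 4 n88173 = n184960 := rfl
theorem F287378 : act 7 n184960 = n182101 := d11_2 (iv7 F286493) D184960 F283500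
def n184961 : Q := act 0 n88174
theorem D184961 : act 0 n88174 = n184961 := rfl
def n184962 : Q := act 1 n88174
theorem D184962 : act 1 n88174 = n184962 := rfl
def n184963 : Q := act 7 n88174
theorem D184963 : act 7 n88174 = n184963 := rfl
theorem F287379 : act 5 n184963 = n94812 := d13_1 D184963 F286529 (iv5 F285258)
def n184964 : Q := act 0 n88176
theorem D184964 : act 0 n88176 = n184964 := rfl
def n184965 : Q := act 1 n88176
theorem D184965 : act 1 n88176 = n184965 := rfl
def n184966 : Q := act 2 n88176
theorem D184966 : act 2 n88176 = n184966 := rfl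
def n184967 : Q := act 4 n88176
theorem D184967 : act 4 n88176 = n184967 := rfl
def n184968 : Q := act 5 n88176
theorem D184968 : act 5 n88176 = n184968 := rfl
theorem F287380 : act 3 n184968 = n88178 := d6_1 D184968 (iv5 D88178) D88176
def n184969 : Q := act 6 n88176
theorem D184969 : act 6 n88176 = n184969 := rfl
def n184973 : Q := act 4 n88178
theorem D184973 : act 4 n88178 = n184973 := rfl
def n184976 : Q := act 5 n88179
theorem D184976 : act 5 n88179 = n184976 := rfl
theorem F287386 : act 2 n184976 = n182106 := d2_1 D184976 (iv5 F285618) F286522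
theorem F287387 : act 6 n184976 = n181955 := d12_2 D88179 D184976 (iv5 D181955) F135128 (iv5 D88178)
def n184978 : Q := act 2 n88180
theorem D184978 : act 2 n88180 = n184978 := rfl
theorem F287388 : act 7 n88181 = n184978 := d15_2 (iv0 D88180) D88181 (iv2 D184978)
def n184979 : Q := act 3 n88180
theorem D184979 : act 3 n88180 = n184979 := rfl
def n184980 : Q := act 5 n88180
theorem D184980 : act 5 n88180 = n184980 := rfl
def n184981 : Q := act 6 n88180
theorem D184981 : act 6 n88180 = n184981 := rfl
def n184982 : Q := act 7 n88180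
theorem D184982 : act 7 n88180 = n184982 := rfl
theorem F287389 : act 2 n184982 = n88181 := d4_1 D184982 F287388 (iv2 D184978)
def n184983 : Q := act 3 n88181
theorem D184983 : act 3 n88181 = n184983 := rfl
def n184984 : Q := act 4 n88181
theorem D184984 : act 4 n88181 = n184984 := rfl
def n184985 : Q := act 5 n88181
theorem D184985 : act 5 n88181 = n184985 := rfl
def n184986 : Q := act 6 n88181
theorem D184986 : act 6 n88181 = n184986 := rfl
def n184987 : Q := act 0 n88182
theorem D184987 : act 0 n88182 = n184987 := rfl
def n184988 : Q := act 1 n88182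
theorem D184988 : act 1 n88182 = n184988 := rfl
def n184989 : Q := act 2 n88182
theorem D184989 : act 2 n88182 = n184989 := rfl
theorem F287390 : act 6 n184989 = n88279 := d3_2 (iv6 F135129) D184989 (iv2 D88279)
def n184990 : Q := act 5 n88182
theorem D184990 : act 5 n88182 = n184990 := rfl
theorem F287391 : act 3 n184990 = n88183 := d6_1 D184990 (iv5 D88183) D88182
def n184991 : Q := act 7 n88182
theorem D184991 : act 7 n88182 = n184991 := rfl
theorem F287392 : act 3 n184991 = n88184 := d8_1 D184991 (iv7 D88184) D88182
def n184992 : Q := act 0 n88183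
theorem D184992 : act 0 n88183 = n184992 := rfl
def n184993 : Q := act 1 n88183
theorem D184993 : act 1 n88183 = n184993 := rfl
def n184994 : Q := act 4 n88183
theorem D184994 : act 4 n88183 = n184994 := rfl
def n184995 : Q := act 6 n88183
theorem D184995 : act 6 n88183 = n184995 := rfl
theorem F287393 : act 5 n184995 = n88282 := d12_1 D184995 (iv6 D88282) (iv5 D41197) (iv6 F62355) D88183
def n184996 : Q := act 7 n88183
theorem D184996 : act 7 n88183 = n184996 := rfl
theorem F287394 : act 5 n184996 = n88184 := d13_1 D184996 (iv7 D88184) D88183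
def n184997 : Q := act 6 n88184
theorem D184997 : act 6 n88184 = n184997 := rfl
theorem F287396 : act 7 n184997 = n88283 := d14_2 D88184 D184997 (iv6 D88283) (iv7 D41198) (iv6 F62355)
def n184998 : Q := act 5 n88187
theorem D184998 : act 5 n88187 = n184998 := rfl
def n184999 : Q := act 6 n88187
theorem D184999 : act 6 n88187 = n184999 := rfl
theorem F287397 : act 4 n184999 = n88189 := d10_1 D184999 (iv6 D88189) D88187
def n185000 : Q := act 4 n88188
theorem D185000 : act 4 n88188 = n185000 := rfl
def n185001 : Q := act 6 n88188
theorem D185001 : act 6 n88188 = n185001 := rfl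
def n185016 : Q := act 4 n88195
theorem D185016 : act 4 n88195 = n185016 := rfl
theorem F287401 : act 2 n185016 = n88201 := d1_1 D185016 (iv4 D88201) (iv2 F135134)
def n185017 : Q := act 6 n88195
theorem D185017 : act 6 n88195 = n185017 := rfl
theorem F287402 : act 2 n185017 = n88202 := d3_1 D185017 (iv6 D88202) (iv2 F135134)
def n185018 : Q := act 0 n88196
theorem D185018 : act 0 n88196 = n185018 := rfl
def n185019 : Q := act 1 n88196
theorem D185019 : act 1 n88196 = n185019 := rfl
theorem F287403 : act 1 n185019 = n88206 := d15_1 D185019 (iv7 D88206) (iv2 F135135)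
def n185020 : Q := act 5 n88196
theorem D185020 : act 5 n88196 = n185020 := rfl
theorem F287404 : act 2 n185020 = n88205 := d2_1 D185020 (iv5 D88205) (iv2 F135135)
theorem F287405 : act 3 n185020 = n182203 := d6_1 D185020 F283645 F157183
theorem F287406 : act 1 n185020 = n182144 := d17_6 F67859 (iv5 F142381) (iv1 F142384) (iv5 F142963) F142962 D185020 (iv5 D182144) (iv0 D86975) (iv4 F65116)
theorem E25314 : n182145 = n89230 := ((c21_5 D183848 F285649 F136954 (iv6 D89234) D89230 (iv6 D182145) D182144 (iv1 F287406) (iv5 D185020) (iv6 D88196) (iv1 F134611))).symm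
theorem F287407 : act 6 n89230 = n86975 := (sb E25314 (iv6 D182145))
theorem E25315 : n89398 = n89396 := ((c7_2 F287407 F137076 (iv6 D89398) (iv3 F137139))).symm
theorem F287408 : act 6 n89396 = n41746 := (sb E25315 (iv6 D89398))
theorem F287409 : act 6 n182143 = n159783 := d10_2 F287407 D182143 F251782
theorem E25316 : n182191 = n182144 := ((c15_1 F287406 (iv0 D182191) F135142 (iv2 F287404))).symm
theorem F287410 : act 1 n182144 = n86991 := (sb E25316 (iv0 D182191))
theorem F287411 : act 7 n182192 = n185020 := d4_0 F287404 (iv7 F135142) D182192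
theorem F287412 : act 1 n182149 = n185020 := d15_1 (iv0 F283604) (iv7 F287411) (iv2 D182192)
def n185021 : Q := act 7 n88196
theorem D185021 : act 7 n88196 = n185021 := rfl
theorem F287413 : act 2 n185021 = n88206 := d4_1 D185021 (iv7 D88206) (iv2 F135135)
theorem F287414 : act 3 n185021 = n102393 := d8_1 D185021 F157209 F157183
theorem F287415 : act 4 n185021 = n90813 := d11_1 D185021 (iv7 F143229) F142962
theorem F287416 : act 5 n185021 = n182192 := d13_1 D185021 F287411 (iv5 D185020)
theorem F287417 : act 1 n88206 = n185018 := d15_0 (iv0 D185018) D185021 F287413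
theorem F287418 : act 1 n88204 = n185021 := d15_1 D88204 (iv7 D185021) F135135
theorem F287419 : act 1 n185021 = n88203 := d15_0 (iv0 D88203) D88206 (iv2 F287413)
def n185024 : Q := act 6 n88197
theorem D185024 : act 6 n88197 = n185024 := rfl
theorem F287420 : act 3 n185024 = n90499 := d7_1 D185024 (iv6 D90499) (iv3 F135136)
theorem F287421 : act 0 n185024 = n164252 := d21_10 (iv5 D164252) (iv1 D78903) D78904 F120092 F56601 D54129 F85441 F73768 D88197 D185024
def n185025 : Q := act 1 n88198
theorem D185025 : act 1 n88198 = n185025 := rfl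
theorem F287422 : act 1 n185025 = n90813 := d15_1 D185025 (iv7 F143229) F142961
theorem F287423 : act 7 n185025 = n90808 := d15_2 (iv0 F135139) D185025 F139791
theorem F287424 : act 2 n90815 = n185025 := d4_3 F287423 F139791 D90815
theorem F287425 : act 3 n159609 = n185025 := d8_3 F287423 (iv3 F177597) (iv7 F251421)
theorem F287426 : act 5 n159606 = n185025 := d13_3 F287423 (iv5 F239680) F251413
theorem F287427 : act 5 n88204 = n182154 := d17_1 (iv1 F287418) (iv1 D182154) (iv5 D86978) (iv4 F65116) D90249 (iv0 F251414) F287426 F287422 (iv4 F287415)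
def n185026 : Q := act 2 n88199
theorem D185026 : act 2 n88199 = n185026 := rfl
theorem F287428 : act 7 n88200 = n185026 := d15_2 (iv0 D88199) D88200 (iv2 D185026)
def n185027 : Q := act 3 n88199
theorem D185027 : act 3 n88199 = n185027 := rfl
def n185028 : Q := act 4 n88199
theorem D185028 : act 4 n88199 = n185028 := rfl
def n185029 : Q := act 5 n88199
theorem D185029 : act 5 n88199 = n185029 := rfl
def n185030 : Q := act 6 n88199
theorem D185030 : act 6 n88199 = n185030 := rfl
def n185031 : Q := act 7 n88199
theorem D185031 : act 7 n88199 = n185031 := rfl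
theorem F287429 : act 2 n185031 = n88200 := d4_1 D185031 F287428 (iv2 D185026)
def n185032 : Q := act 3 n88200
theorem D185032 : act 3 n88200 = n185032 := rfl
def n185033 : Q := act 4 n88200
theorem D185033 : act 4 n88200 = n185033 := rfl
def n185034 : Q := act 5 n88200
theorem D185034 : act 5 n88200 = n185034 := rfl
def n185035 : Q := act 6 n88200
theorem D185035 : act 6 n88200 = n185035 := rfl
def n185036 : Q := act 0 n88201
theorem D185036 : act 0 n88201 = n185036 := rfl
theorem F287430 : act 4 n185036 = n102667 := d20_8 D47637 (iv1 F157131) (iv4 D102310) (iv3 F74659) (iv1 D41166) (iv3 F62358) D88201 D185036 (iv3 D102667) (iv1 F74876)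
theorem F287431 : act 0 n185034 = n89234 := d18_0 (iv4 F142391) F142392 (iv4 F136754) (iv5 F157904) (iv4 F287430) (iv0 D185036) (iv4 D88201) D88200 D185034
def n185037 : Q := act 1 n88201
theorem D185037 : act 1 n88201 = n185037 := rfl
def n185038 : Q := act 3 n88201
theorem D185038 : act 3 n88201 = n185038 := rfl
theorem F287432 : act 4 n185038 = n88214 := d5_2 D88201 D185038 (iv3 D88214) (iv4 D41167) (iv3 F62358)
def n185039 : Q := act 5 n88201
theorem D185039 : act 5 n88201 = n185039 := rfl
def n185040 : Q := act 6 n88201
theorem D185040 : act 6 n88201 = n185040 := rfl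
theorem F287433 : act 4 n185040 = n88202 := d10_1 D185040 (iv6 D88202) D88201
def n185041 : Q := act 0 n88202
theorem D185041 : act 0 n88202 = n185041 := rfl
def n185042 : Q := act 1 n88202
theorem D185042 : act 1 n88202 = n185042 := rfl
def n185043 : Q := act 5 n88202
theorem D185043 : act 5 n88202 = n185043 := rfl
theorem F287434 : act 3 n185043 = n88218 := d6_1 D185043 (iv5 D88218) (iv3 F135140)
theorem F287435 : act 6 n185043 = n88205 := d12_2 D88202 D185043 (iv5 D88205) (iv6 D41164) D41163
def n185045 : Q := act 2 n88203
theorem D185045 : act 2 n88203 = n185045 := rfl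
theorem F287437 : act 7 n88204 = n185045 := d15_2 (iv0 D88203) D88204 (iv2 D185045)
def n185046 : Q := act 3 n88203
theorem D185046 : act 3 n88203 = n185046 := rfl
def n185047 : Q := act 4 n88203
theorem D185047 : act 4 n88203 = n185047 := rfl
def n185048 : Q := act 5 n88203
theorem D185048 : act 5 n88203 = n185048 := rfl
def n185049 : Q := act 6 n88203
theorem D185049 : act 6 n88203 = n185049 := rfl
def n185050 : Q := act 7 n88203
theorem D185050 : act 7 n88203 = n185050 := rfl
theorem F287438 : act 2 n185050 = n88204 := d4_1 D185050 F287437 (iv2 D185045)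
def n185051 : Q := act 3 n88204
theorem D185051 : act 3 n88204 = n185051 := rfl
def n185052 : Q := act 4 n88204
theorem D185052 : act 4 n88204 = n185052 := rfl
def n185053 : Q := act 6 n88204
theorem D185053 : act 6 n88204 = n185053 := rfl
def n185054 : Q := act 0 n88205
theorem D185054 : act 0 n88205 = n185054 := rfl
theorem F287439 : act 1 n182192 = n185054 := d15_0 (iv0 D185054) (iv7 F135142) D182192
theorem F287440 : act 5 n185054 = n181964 := d17_7 F67766 D43274 D92491 (iv5 F143228) (iv4 F287415) F287416 F287439 (iv0 D181964) F133341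
def n185055 : Q := act 1 n88205
theorem D185055 : act 1 n88205 = n185055 := rfl
theorem F287441 : act 1 n185055 = n182192 := d15_1 D185055 F287411 F287404
theorem F287442 : act 5 n185055 = n181965 := d17_7 (iv1 F142252) (iv5 F142250) (iv1 F142270) F142267 F135138 D88205 D185055 F283261 F133492
def n185056 : Q := act 4 n88205
theorem D185056 : act 4 n88205 = n185056 := rfl
theorem F287443 : act 7 n185056 = n182193 := d11_2 F135142 D185056 (iv4 D182193)
def n185057 : Q := act 4 n88207
theorem D185057 : act 4 n88207 = n185057 := rfl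
def n185058 : Q := act 6 n88207
theorem D185058 : act 6 n88207 = n185058 := rfl
theorem F287444 : act 3 n185058 = n88209 := d7_1 D185058 (iv6 D88209) D88207
theorem F287445 : act 5 n185058 = n183527 := d12_1 D185058 (iv6 D183527) (iv5 D87596) D87597 (iv5 F135145)
def n185059 : Q := act 3 n88208
theorem D185059 : act 3 n88208 = n185059 := rfl
def n185060 : Q := act 6 n88208
theorem D185060 : act 6 n88208 = n185060 := rfl
theorem F287446 : act 4 n185060 = n88209 := d10_1 D185060 (iv6 D88209) D88208
def n185061 : Q := act 0 n88209
theorem D185061 : act 0 n88209 = n185061 := rfl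
def n185062 : Q := act 1 n88209
theorem D185062 : act 1 n88209 = n185062 := rfl
def n185063 : Q := act 7 n88209
theorem D185063 : act 7 n88209 = n185063 := rfl
theorem F287447 : act 5 n185063 = n183534 := d13_1 D185063 (iv7 D183534) (iv5 F135148)
def n185064 : Q := act 3 n88210
theorem D185064 : act 3 n88210 = n185064 := rfl
def n185065 : Q := act 5 n88210
theorem D185065 : act 5 n88210 = n185065 := rfl
theorem F287448 : act 2 n185065 = n182162 := d2_1 D185065 F283617 F157190
theorem F287449 : act 4 n185065 = n88329 := d9_1 D185065 (iv5 D88329) (iv4 D41224) F31013 (iv4 F61898) (iv5 F62360) D88208 (iv5 F144147) (iv4 D93448) (iv5 D43702) F32820 D20701 D43711 F68707 D88210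
theorem F287450 : act 7 n185065 = n182160 := d13_2 F146163 D185065 F283612
theorem F287451 : act 0 n185065 = n181973 := d17_2 (iv1 F135150) D185065 F283284 (iv4 F137688) (iv5 D89713) (iv0 F135233) (iv5 D88317) F62414 D41251
theorem F287452 : act 1 n185065 = n181975 := d17_6 D40856 (iv5 F64443) F68709 F68707 D88210 D185065 F283288 (iv0 D87713) (iv4 D40858)
def n185066 : Q := act 6 n88210
theorem D185066 : act 6 n88210 = n185066 := rfl
theorem F287453 : act 4 n185066 = n88211 := d10_1 D185066 (iv6 D88211) D88210
def n185067 : Q := act 7 n88211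
theorem D185067 : act 7 n88211 = n185067 := rfl
def n185068 : Q := act 3 n88212
theorem D185068 : act 3 n88212 = n185068 := rfl
def n185069 : Q := act 6 n88212
theorem D185069 : act 6 n88212 = n185069 := rfl
theorem F287454 : act 4 n185069 = n183896 := d10_1 D185069 (iv6 D183896) (iv4 F135151)
def n185070 : Q := act 3 n88213
theorem D185070 : act 3 n88213 = n185070 := rfl
def n185071 : Q := act 6 n88213
theorem D185071 : act 6 n88213 = n185071 := rfl
theorem F287455 : act 4 n185071 = n183898 := d10_1 D185071 (iv6 D183898) (iv4 F135154)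
def n185072 : Q := act 0 n88214
theorem D185072 : act 0 n88214 = n185072 := rfl
def n185073 : Q := act 1 n88214
theorem D185073 : act 1 n88214 = n185073 := rfl
def n185074 : Q := act 2 n88214
theorem D185074 : act 2 n88214 = n185074 := rfl
def n185075 : Q := act 6 n88214
theorem D185075 : act 6 n88214 = n185075 := rfl
def n185080 : Q := act 2 n88216
theorem D185080 : act 2 n88216 = n185080 := rfl
theorem F287458 : act 7 n88217 = n185080 := d15_2 (iv0 D88216) D88217 (iv2 D185080)
def n185081 : Q := act 3 n88216
theorem D185081 : act 3 n88216 = n185081 := rfl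
def n185082 : Q := act 4 n88216
theorem D185082 : act 4 n88216 = n185082 := rfl
def n185083 : Q := act 5 n88216
theorem D185083 : act 5 n88216 = n185083 := rfl
theorem F287459 : act 0 n185083 = n184976 := d21_1 D185083 (iv5 D184976) (iv6 D88179) (iv1 D41156) F30991 (iv5 D9092) D9090 D19360 D41168 D88216
theorem F287460 : act 6 n184897 = n88216 := d21_5 (iv5 D19357) D19355 D41148 D88148 D184897 D185083 F287459 (iv5 D184976) (iv6 D88179) (iv1 D41156)
def n185084 : Q := act 7 n88216
theorem D185084 : act 7 n88216 = n185084 := rfl
theorem F287461 : act 2 n185084 = n88217 := d4_1 D185084 F287458 (iv2 D185080)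
def n185085 : Q := act 3 n88217
theorem D185085 : act 3 n88217 = n185085 := rfl
def n185086 : Q := act 4 n88217
theorem D185086 : act 4 n88217 = n185086 := rfl
def n185087 : Q := act 5 n88217
theorem D185087 : act 5 n88217 = n185087 := rfl
theorem F287462 : act 0 n184976 = n185087 := d21_10 (iv5 D185087) (iv1 D88217) D88218 F135157 F62375 (iv6 F133335) (iv5 D86906) D86904 D181955 (iv6 F287387)
def n185088 : Q := act 6 n88217
theorem D185088 : act 6 n88217 = n185088 := rfl
def n185089 : Q := act 0 n88218
theorem D185089 : act 0 n88218 = n185089 := rfl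
def n185090 : Q := act 1 n88218
theorem D185090 : act 1 n88218 = n185090 := rfl
def n185091 : Q := act 4 n88218
theorem D185091 : act 4 n88218 = n185091 := rfl
def n185092 : Q := act 7 n88218
theorem D185092 : act 7 n88218 = n185092 := rfl
theorem F287467 : act 5 n185092 = n88219 := d13_1 D185092 (iv7 D88219) D88218
theorem F287468 : act 6 n185092 = n182200 := d14_1 D185092 (iv7 D182200) (iv6 D86993) F63560 (iv6 F135157)
theorem F287470 : act 1 n182209 = n185092 := d15_1 D182209 (iv7 D185092) F135156
def n185093 : Q := act 3 n88220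
theorem D185093 : act 3 n88220 = n185093 := rfl
theorem F287473 : act 5 n185093 = n102386 := d6_2 (iv5 F135160) D185093 (iv3 D102386)
theorem F287474 : act 7 n185093 = n182196 := d8_2 (iv7 F135159) D185093 (iv3 D182196)
def n185096 : Q := act 0 n88223
theorem D185096 : act 0 n88223 = n185096 := rfl
theorem F287477 : act 1 n88226 = n185096 := d15_0 (iv0 D185096) (iv7 F157172) F157171
def n185097 : Q := act 1 n88223
theorem D185097 : act 1 n88223 = n185097 := rfl
theorem F287478 : act 1 n185097 = n88226 := d15_1 D185097 (iv7 F157175) F157174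
def n185104 : Q := act 4 n88226
theorem D185104 : act 4 n88226 = n185104 := rfl
def n185105 : Q := act 6 n88226
theorem D185105 : act 6 n88226 = n185105 := rfl
def n185110 : Q := act 4 n88228
theorem D185110 : act 4 n88228 = n185110 := rfl
theorem F287479 : act 2 n185110 = n88232 := d1_1 D185110 (iv4 D88232) (iv2 F135163)
def n185111 : Q := act 6 n88228
theorem D185111 : act 6 n88228 = n185111 := rfl
theorem F287480 : act 2 n185111 = n88233 := d3_1 D185111 (iv6 D88233) (iv2 F135163)
def n185112 : Q := act 0 n88229
theorem D185112 : act 0 n88229 = n185112 := rfl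
def n185113 : Q := act 1 n88229
theorem D185113 : act 1 n88229 = n185113 := rfl
theorem F287481 : act 1 n185113 = n88237 := d15_1 D185113 (iv7 D88237) (iv2 F135164)
def n185114 : Q := act 5 n88229
theorem D185114 : act 5 n88229 = n185114 := rfl
theorem F287482 : act 2 n185114 = n88236 := d2_1 D185114 (iv5 D88236) (iv2 F135164)
def n185115 : Q := act 7 n88229
theorem D185115 : act 7 n88229 = n185115 := rfl
theorem F287483 : act 2 n185115 = n88237 := d4_1 D185115 (iv7 D88237) (iv2 F135164)
theorem F287484 : act 4 n185115 = n102549 := d11_1 D185115 F157514 F153739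
theorem F287485 : act 6 n185115 = n102393 := d14_1 D185115 F157209 (iv6 D102376) F74677 D88229
theorem F287486 : act 1 n88237 = n185112 := d15_0 (iv0 D185112) D185115 F287483
theorem F287487 : act 1 n88235 = n185115 := d15_1 D88235 (iv7 D185115) F135164
theorem F287488 : act 1 n185115 = n88234 := d15_0 (iv0 D88234) D88237 (iv2 F287483)
theorem F287489 : act 4 n101410 = n88234 := d20_0 (iv1 F287488) F287484 (iv3 F157688) (iv1 F157690) F74844 (iv4 F73978) (iv1 F73980) F70682 (iv3 F74481) D101410
def n185116 : Q := act 2 n88230
theorem D185116 : act 2 n88230 = n185116 := rfl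
theorem F287490 : act 7 n88231 = n185116 := d15_2 (iv0 D88230) D88231 (iv2 D185116)
def n185117 : Q := act 3 n88230
theorem D185117 : act 3 n88230 = n185117 := rfl
def n185118 : Q := act 4 n88230
theorem D185118 : act 4 n88230 = n185118 := rfl
def n185119 : Q := act 5 n88230
theorem D185119 : act 5 n88230 = n185119 := rfl
def n185120 : Q := act 6 n88230
theorem D185120 : act 6 n88230 = n185120 := rfl
def n185121 : Q := act 7 n88230
theorem D185121 : act 7 n88230 = n185121 := rfl
theorem F287491 : act 2 n185121 = n88231 := d4_1 D185121 F287490 (iv2 D185116)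
def n185122 : Q := act 3 n88231
theorem D185122 : act 3 n88231 = n185122 := rfl
def n185123 : Q := act 4 n88231
theorem D185123 : act 4 n88231 = n185123 := rfl
def n185124 : Q := act 5 n88231
theorem D185124 : act 5 n88231 = n185124 := rfl
def n185125 : Q := act 6 n88231
theorem D185125 : act 6 n88231 = n185125 := rfl
def n185126 : Q := act 0 n88232
theorem D185126 : act 0 n88232 = n185126 := rfl
def n185127 : Q := act 1 n88232
theorem D185127 : act 1 n88232 = n185127 := rfl
theorem F287492 : act 4 n185127 = n102662 := d18_7 D47612 F74869 (iv1 D46630) F34884 D41176 D88232 D185127 (iv0 D102662) (iv5 D47615)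
theorem F287493 : act 3 n88305 = n102662 := d20_5 D88210 F135149 (iv4 D41219) (iv3 F62411) D88305 (iv4 F287492) (iv1 D185127) (iv4 D88232) F62380 (iv1 F62371)
def n185128 : Q := act 3 n88232
theorem D185128 : act 3 n88232 = n185128 := rfl
theorem F287494 : act 4 n185128 = n88238 := d5_2 D88232 D185128 (iv3 D88238) (iv4 D41178) (iv3 F62380)
def n185129 : Q := act 5 n88232
theorem D185129 : act 5 n88232 = n185129 := rfl
def n185130 : Q := act 6 n88232
theorem D185130 : act 6 n88232 = n185130 := rfl
theorem F287495 : act 4 n185130 = n88233 := d10_1 D185130 (iv6 D88233) D88232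
def n185131 : Q := act 0 n88233
theorem D185131 : act 0 n88233 = n185131 := rfl
def n185132 : Q := act 1 n88233
theorem D185132 : act 1 n88233 = n185132 := rfl
def n185133 : Q := act 5 n88233
theorem D185133 : act 5 n88233 = n185133 := rfl
theorem F287496 : act 3 n185133 = n88242 := d6_1 D185133 (iv5 D88242) (iv3 F135165)
theorem F287497 : act 6 n185133 = n88236 := d12_2 D88233 D185133 (iv5 D88236) (iv6 D41177) D41176
def n185134 : Q := act 7 n88233
theorem D185134 : act 7 n88233 = n185134 := rfl
theorem F287498 : act 3 n185134 = n88243 := d8_1 D185134 (iv7 D88243) (iv3 F135165)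
def n185135 : Q := act 2 n88234
theorem D185135 : act 2 n88234 = n185135 := rfl
theorem F287499 : act 7 n88235 = n185135 := d15_2 (iv0 D88234) D88235 (iv2 D185135)
def n185136 : Q := act 3 n88234
theorem D185136 : act 3 n88234 = n185136 := rfl
def n185137 : Q := act 5 n88234
theorem D185137 : act 5 n88234 = n185137 := rfl
def n185138 : Q := act 6 n88234
theorem D185138 : act 6 n88234 = n185138 := rfl
def n185139 : Q := act 7 n88234
theorem D185139 : act 7 n88234 = n185139 := rfl
theorem F287500 : act 2 n185139 = n88235 := d4_1 D185139 F287499 (iv2 D185135)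
def n185140 : Q := act 3 n88235
theorem D185140 : act 3 n88235 = n185140 := rfl
def n185141 : Q := act 4 n88235
theorem D185141 : act 4 n88235 = n185141 := rfl
def n185142 : Q := act 5 n88235
theorem D185142 : act 5 n88235 = n185142 := rfl
def n185143 : Q := act 6 n88235
theorem D185143 : act 6 n88235 = n185143 := rfl
def n185144 : Q := act 0 n88236
theorem D185144 : act 0 n88236 = n185144 := rfl
def n185145 : Q := act 1 n88236
theorem D185145 : act 1 n88236 = n185145 := rfl
def n185146 : Q := act 4 n88236
theorem D185146 : act 4 n88236 = n185146 := rfl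
def n185147 : Q := act 0 n88238
theorem D185147 : act 0 n88238 = n185147 := rfl
def n185148 : Q := act 1 n88238
theorem D185148 : act 1 n88238 = n185148 := rfl
def n185149 : Q := act 2 n88238
theorem D185149 : act 2 n88238 = n185149 := rfl
def n185150 : Q := act 6 n88238
theorem D185150 : act 6 n88238 = n185150 := rfl
theorem F287501 : act 3 n185150 = n88239 := d7_1 D185150 (iv6 D88239) D88238
def n185151 : Q := act 0 n88239
theorem D185151 : act 0 n88239 = n185151 := rfl
def n185152 : Q := act 1 n88239
theorem D185152 : act 1 n88239 = n185152 := rfl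
def n185153 : Q := act 5 n88239
theorem D185153 : act 5 n88239 = n185153 := rfl
def n185154 : Q := act 7 n88239
theorem D185154 : act 7 n88239 = n185154 := rfl
theorem F287502 : act 4 n185154 = n88243 := d11_1 D185154 (iv7 D88243) (iv4 F135170)
def n185155 : Q := act 3 n88240
theorem D185155 : act 3 n88240 = n185155 := rfl
def n185156 : Q := act 4 n88240
theorem D185156 : act 4 n88240 = n185156 := rfl
def n185157 : Q := act 5 n88240
theorem D185157 : act 5 n88240 = n185157 := rfl
def n185158 : Q := act 6 n88240
theorem D185158 : act 6 n88240 = n185158 := rfl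
def n185161 : Q := act 0 n88242
theorem D185161 : act 0 n88242 = n185161 := rfl
def n185162 : Q := act 1 n88242
theorem D185162 : act 1 n88242 = n185162 := rfl
def n185163 : Q := act 4 n88242
theorem D185163 : act 4 n88242 = n185163 := rfl
theorem F287503 : act 6 n185163 = n88244 := d10_2 (iv6 F135171) D185163 (iv4 D88244)
def n185164 : Q := act 7 n88242
theorem D185164 : act 7 n88242 = n185164 := rfl
theorem F287504 : act 5 n185164 = n88243 := d13_1 D185164 (iv7 D88243) D88242
def n185165 : Q := act 3 n88244
theorem D185165 : act 3 n88244 = n185165 := rfl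
def n185166 : Q := act 4 n88247
theorem D185166 : act 4 n88247 = n185166 := rfl
theorem F287505 : act 2 n185166 = n88248 := d1_1 D185166 (iv4 D88248) D88247
theorem F287506 : act 1 n185166 = n99936 := d15_0 (iv0 F285697) F285696 (iv2 F287505)
def n185167 : Q := act 5 n88247
theorem D185167 : act 5 n88247 = n185167 := rfl
theorem F287507 : act 2 n185167 = n88249 := d2_1 D185167 (iv5 D88249) D88247
theorem F287508 : act 4 n185167 = n94047 := d17_4 D87700 D183845 (iv1 F285651) D185167 F145646 (iv0 D92729) (iv5 D43378) (iv0 F68115) F68113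
def n185168 : Q := act 6 n88247
theorem D185168 : act 6 n88247 = n185168 := rfl
theorem F287509 : act 2 n185168 = n88250 := d3_1 D185168 (iv6 D88250) D88247
def n185169 : Q := act 0 n88248
theorem D185169 : act 0 n88248 = n185169 := rfl
theorem F287510 : act 4 n185169 = n99937 := d18_3 F183972 D88248 D185169 F153868 F73771 (iv0 F68147) (iv4 D41162) D41160 D88193
theorem F287511 : act 7 n99936 = n185169 := d11_0 F287510 (iv7 D99937) D99936
def n185170 : Q := act 1 n88248
theorem D185170 : act 1 n88248 = n185170 := rfl
theorem F287512 : act 4 n99923 = n185170 := d20_6 (iv4 F133516) (iv1 F133518) (iv4 F133590) (iv3 F283728) F283729 (iv3 F153852) (iv1 D185170) (iv4 D88248) (iv3 D41185) (iv1 F61963)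
theorem F287513 : act 2 n185170 = n99936 := d1_1 F287512 (iv4 D99936) (iv2 F153851)
def n185171 : Q := act 3 n88248
theorem D185171 : act 3 n88248 = n185171 := rfl
theorem F287514 : act 4 n185171 = n88253 := d5_2 D88248 D185171 (iv3 D88253) (iv4 D41186) D41185
def n185172 : Q := act 5 n88248
theorem D185172 : act 5 n88248 = n185172 := rfl
def n185173 : Q := act 6 n88248
theorem D185173 : act 6 n88248 = n185173 := rfl
theorem F287515 : act 4 n185173 = n88250 := d10_1 D185173 (iv6 D88250) D88248
def n185174 : Q := act 0 n88249
theorem D185174 : act 0 n88249 = n185174 := rfl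
def n185175 : Q := act 1 n88249
theorem D185175 : act 1 n88249 = n185175 := rfl
def n185176 : Q := act 0 n88250
theorem D185176 : act 0 n88250 = n185176 := rfl
def n185177 : Q := act 1 n88250
theorem D185177 : act 1 n88250 = n185177 := rfl
def n185178 : Q := act 5 n88250
theorem D185178 : act 5 n88250 = n185178 := rfl
theorem F287516 : act 3 n185178 = n88257 := d6_1 D185178 (iv5 D88257) (iv3 F135173)
theorem F287517 : act 6 n185178 = n93434 := d12_2 D88250 D185178 (iv5 F284778) F284779 (iv5 D88249)
def n185179 : Q := act 7 n88250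
theorem D185179 : act 7 n88250 = n185179 := rfl
theorem F287518 : act 3 n185179 = n88258 := d8_1 D185179 (iv7 D88258) (iv3 F135173)
def n185180 : Q := act 3 n88251
theorem D185180 : act 3 n88251 = n185180 := rfl
theorem F287519 : act 5 n185180 = n182948 := d6_2 (iv5 F135174) D185180 (iv3 D182948)
theorem F287520 : act 7 n185180 = n183932 := d8_2 F135177 D185180 (iv3 D183932)
def n185181 : Q := act 6 n88251
theorem D185181 : act 6 n88251 = n185181 := rfl
theorem F287521 : act 4 n185181 = n183890 := d10_1 D185181 (iv6 D183890) (iv4 F135175)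
def n185182 : Q := act 3 n88252
theorem D185182 : act 3 n88252 = n185182 := rfl
def n185183 : Q := act 0 n88253
theorem D185183 : act 0 n88253 = n185183 := rfl
def n185184 : Q := act 1 n88253
theorem D185184 : act 1 n88253 = n185184 := rfl
def n185185 : Q := act 2 n88253
theorem D185185 : act 2 n88253 = n185185 := rfl
def n185186 : Q := act 6 n88253
theorem D185186 : act 6 n88253 = n185186 := rfl
theorem F287522 : act 3 n185186 = n88254 := d7_1 D185186 (iv6 D88254) D88253
def n185190 : Q := act 7 n88254
theorem D185190 : act 7 n88254 = n185190 := rfl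
theorem F287523 : act 4 n185190 = n88258 := d11_1 D185190 (iv7 D88258) (iv4 F135181)
def n185191 : Q := act 2 n88255
theorem D185191 : act 2 n88255 = n185191 := rfl
theorem F287524 : act 7 n88256 = n185191 := d15_2 (iv0 D88255) D88256 (iv2 D185191)
def n185192 : Q := act 3 n88255
theorem D185192 : act 3 n88255 = n185192 := rfl
def n185193 : Q := act 4 n88255
theorem D185193 : act 4 n88255 = n185193 := rfl
def n185194 : Q := act 5 n88255
theorem D185194 : act 5 n88255 = n185194 := rfl
def n185195 : Q := act 6 n88255
theorem D185195 : act 6 n88255 = n185195 := rfl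
theorem F287525 : act 5 n185195 = n182209 := d21_6 (iv5 D44296) F63070 (iv5 D41187) D41188 D88255 D185195 (iv1 D182209) F133508 (iv6 D47506) (iv1 F69719)
def n185196 : Q := act 7 n88255
theorem D185196 : act 7 n88255 = n185196 := rfl
theorem F287526 : act 2 n185196 = n88256 := d4_1 D185196 F287524 (iv2 D185191)
def n185197 : Q := act 3 n88256
theorem D185197 : act 3 n88256 = n185197 := rfl
def n185198 : Q := act 4 n88256
theorem D185198 : act 4 n88256 = n185198 := rfl
def n185199 : Q := act 5 n88256
theorem D185199 : act 5 n88256 = n185199 := rfl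
theorem F287527 : act 6 n184709 = n185199 := d21_5 (iv5 D43655) F62726 (iv5 F62344) D88073 D184709 (iv5 D185199) (iv1 D88256) D88257 F135182 (iv1 F68682)
def n185200 : Q := act 6 n88256
theorem D185200 : act 6 n88256 = n185200 := rfl
def n185201 : Q := act 1 n88257
theorem D185201 : act 1 n88257 = n185201 := rfl
theorem F287528 : act 5 n185158 = n185201 := d21_6 F61960 (iv1 F30919) D19363 D41179 D88240 D185158 (iv1 D185201) (iv5 D88257) (iv6 D41188) (iv1 F61963)
def n185202 : Q := act 4 n88257
theorem D185202 : act 4 n88257 = n185202 := rfl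
theorem F287529 : act 6 n185202 = n93435 := d10_2 (iv6 F135182) D185202 (iv4 D93435)
def n185203 : Q := act 7 n88257
theorem D185203 : act 7 n88257 = n185203 := rfl
theorem F287530 : act 5 n185203 = n88258 := d13_1 D185203 (iv7 D88258) D88257
def n185214 : Q := act 4 n88261
theorem D185214 : act 4 n88261 = n185214 := rfl
theorem F287533 : act 2 n185214 = n88262 := d1_1 D185214 (iv4 D88262) D88261
def n185215 : Q := act 5 n88261
theorem D185215 : act 5 n88261 = n185215 := rfl
theorem F287534 : act 2 n185215 = n88263 := d2_1 D185215 (iv5 D88263) D88261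
def n185216 : Q := act 6 n88261
theorem D185216 : act 6 n88261 = n185216 := rfl
theorem F287535 : act 2 n185216 = n88264 := d3_1 D185216 (iv6 D88264) D88261
def n185217 : Q := act 0 n88262
theorem D185217 : act 0 n88262 = n185217 := rfl
def n185218 : Q := act 1 n88262
theorem D185218 : act 1 n88262 = n185218 := rfl
def n185219 : Q := act 3 n88262
theorem D185219 : act 3 n88262 = n185219 := rfl
theorem F287536 : act 4 n185219 = n88265 := d5_2 D88262 D185219 (iv3 D88265) (iv4 D41191) D41190
def n185220 : Q := act 5 n88262
theorem D185220 : act 5 n88262 = n185220 := rfl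
def n185221 : Q := act 6 n88262
theorem D185221 : act 6 n88262 = n185221 := rfl
theorem F287537 : act 4 n185221 = n88264 := d10_1 D185221 (iv6 D88264) D88262
def n185222 : Q := act 0 n88263
theorem D185222 : act 0 n88263 = n185222 := rfl
def n185223 : Q := act 1 n88263
theorem D185223 : act 1 n88263 = n185223 := rfl
def n185224 : Q := act 0 n88264
theorem D185224 : act 0 n88264 = n185224 := rfl
def n185225 : Q := act 1 n88264
theorem D185225 : act 1 n88264 = n185225 := rfl
def n185226 : Q := act 5 n88264
theorem D185226 : act 5 n88264 = n185226 := rfl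
theorem F287538 : act 3 n185226 = n88269 := d6_1 D185226 (iv5 D88269) (iv3 F135184)
def n185227 : Q := act 7 n88264
theorem D185227 : act 7 n88264 = n185227 := rfl
theorem F287539 : act 3 n185227 = n88270 := d8_1 D185227 (iv7 D88270) (iv3 F135184)
def n185228 : Q := act 0 n88265
theorem D185228 : act 0 n88265 = n185228 := rfl
def n185229 : Q := act 1 n88265
theorem D185229 : act 1 n88265 = n185229 := rfl
def n185230 : Q := act 2 n88265
theorem D185230 : act 2 n88265 = n185230 := rfl
def n185231 : Q := act 6 n88265
theorem D185231 : act 6 n88265 = n185231 := rfl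
theorem F287540 : act 3 n185231 = n88266 := d7_1 D185231 (iv6 D88266) D88265
def n185232 : Q := act 0 n88266
theorem D185232 : act 0 n88266 = n185232 := rfl
def n185233 : Q := act 1 n88266
theorem D185233 : act 1 n88266 = n185233 := rfl
def n185234 : Q := act 5 n88266
theorem D185234 : act 5 n88266 = n185234 := rfl
def n185235 : Q := act 7 n88266
theorem D185235 : act 7 n88266 = n185235 := rfl
theorem F287541 : act 4 n185235 = n88270 := d11_1 D185235 (iv7 D88270) (iv4 F135185)
def n185246 : Q := act 0 n88269
theorem D185246 : act 0 n88269 = n185246 := rfl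
theorem F287544 : act 5 n185246 = n184898 := d21_0 (iv1 D184898) D184899 F287315 F135120 F135007 (iv5 D41684) D41682 D89205 F136917 D185246
def n185247 : Q := act 1 n88269
theorem D185247 : act 1 n88269 = n185247 := rfl
theorem F287545 : act 5 n184897 = n185247 := d21_0 (iv1 D185247) (iv5 D88269) (iv6 D41193) (iv1 D19366) (iv6 F30991) (iv5 D19357) D19355 D41148 D88148 D184897
def n185248 : Q := act 4 n88269
theorem D185248 : act 4 n88269 = n185248 := rfl
def n185249 : Q := act 7 n88269
theorem D185249 : act 7 n88269 = n185249 := rfl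
theorem F287546 : act 5 n185249 = n88270 := d13_1 D185249 (iv7 D88270) D88269
def n185250 : Q := act 0 n88272
theorem D185250 : act 0 n88272 = n185250 := rfl
def n185251 : Q := act 1 n88272
theorem D185251 : act 1 n88272 = n185251 := rfl
def n185252 : Q := act 2 n88272
theorem D185252 : act 2 n88272 = n185252 := rfl
def n185253 : Q := act 4 n88272
theorem D185253 : act 4 n88272 = n185253 := rfl
def n185254 : Q := act 6 n88272
theorem D185254 : act 6 n88272 = n185254 := rfl
theorem F287547 : act 3 n185254 = n88273 := d7_1 D185254 (iv6 D88273) D88272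
def n185255 : Q := act 0 n88273
theorem D185255 : act 0 n88273 = n185255 := rfl
def n185256 : Q := act 1 n88273
theorem D185256 : act 1 n88273 = n185256 := rfl
def n185257 : Q := act 5 n88273
theorem D185257 : act 5 n88273 = n185257 := rfl
def n185258 : Q := act 7 n88273
theorem D185258 : act 7 n88273 = n185258 := rfl
def n185259 : Q := act 0 n88275
theorem D185259 : act 0 n88275 = n185259 := rfl
def n185260 : Q := act 1 n88275
theorem D185260 : act 1 n88275 = n185260 := rfl
def n185261 : Q := act 2 n88275
theorem D185261 : act 2 n88275 = n185261 := rfl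
def n185262 : Q := act 4 n88275
theorem D185262 : act 4 n88275 = n185262 := rfl
def n185263 : Q := act 6 n88275
theorem D185263 : act 6 n88275 = n185263 := rfl
theorem F287548 : act 3 n185263 = n88276 := d7_1 D185263 (iv6 D88276) D88275
def n185264 : Q := act 0 n88276
theorem D185264 : act 0 n88276 = n185264 := rfl
def n185265 : Q := act 1 n88276
theorem D185265 : act 1 n88276 = n185265 := rfl
def n185266 : Q := act 5 n88276
theorem D185266 : act 5 n88276 = n185266 := rfl
def n185267 : Q := act 7 n88276
theorem D185267 : act 7 n88276 = n185267 := rfl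
def n185268 : Q := act 0 n88277
theorem D185268 : act 0 n88277 = n185268 := rfl
theorem F287549 : act 2 n88281 = n185268 := d15_3 (iv0 D185268) (iv0 D88277) D88281
theorem F287550 : act 7 n185268 = n88279 := d4_2 D88281 F287549 (iv2 D88279)
theorem F287551 : act 1 n88278 = n185268 := d15_1 D88278 F287550 (iv2 D88279)
def n185269 : Q := act 2 n88277
theorem D185269 : act 2 n88277 = n185269 := rfl
theorem F287552 : act 7 n88278 = n185269 := d15_2 (iv0 D88277) D88278 (iv2 D185269)
def n185270 : Q := act 3 n88277
theorem D185270 : act 3 n88277 = n185270 := rfl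
def n185271 : Q := act 4 n88277
theorem D185271 : act 4 n88277 = n185271 := rfl
def n185272 : Q := act 5 n88277
theorem D185272 : act 5 n88277 = n185272 := rfl
def n185273 : Q := act 6 n88277
theorem D185273 : act 6 n88277 = n185273 := rfl
def n185274 : Q := act 7 n88277
theorem D185274 : act 7 n88277 = n185274 := rfl
theorem F287553 : act 2 n185274 = n88278 := d4_1 D185274 F287552 (iv2 D185269)
def n185275 : Q := act 3 n88278
theorem D185275 : act 3 n88278 = n185275 := rfl
def n185276 : Q := act 4 n88278
theorem D185276 : act 4 n88278 = n185276 := rfl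
def n185277 : Q := act 5 n88278
theorem D185277 : act 5 n88278 = n185277 := rfl
def n185278 : Q := act 6 n88278
theorem D185278 : act 6 n88278 = n185278 := rfl
def n185279 : Q := act 0 n88279
theorem D185279 : act 0 n88279 = n185279 := rfl
theorem F287554 : act 1 n88281 = n185279 := d15_0 (iv0 D185279) (iv7 F287550) (iv2 F287549)
def n185280 : Q := act 1 n88279
theorem D185280 : act 1 n88279 = n185280 := rfl
theorem F287555 : act 1 n185280 = n88281 := d15_1 D185280 (iv7 D88281) D88279
def n185281 : Q := act 5 n88279
theorem D185281 : act 5 n88279 = n185281 := rfl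
theorem F287556 : act 2 n185281 = n88280 := d2_1 D185281 (iv5 D88280) D88279
def n185282 : Q := act 0 n88280
theorem D185282 : act 0 n88280 = n185282 := rfl
def n185283 : Q := act 1 n88280
theorem D185283 : act 1 n88280 = n185283 := rfl
def n185284 : Q := act 4 n88280
theorem D185284 : act 4 n88280 = n185284 := rfl
def n185285 : Q := act 6 n88280
theorem D185285 : act 6 n88280 = n185285 := rfl
theorem F287557 : act 3 n185285 = n88282 := d7_1 D185285 (iv6 D88282) (iv3 F135188)
def n185286 : Q := act 6 n88281
theorem D185286 : act 6 n88281 = n185286 := rfl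
theorem F287558 : act 3 n185286 = n88283 := d7_1 D185286 (iv6 D88283) (iv3 F135189)
def n185287 : Q := act 0 n88282
theorem D185287 : act 0 n88282 = n185287 := rfl
def n185288 : Q := act 1 n88282
theorem D185288 : act 1 n88282 = n185288 := rfl
def n185289 : Q := act 7 n88282
theorem D185289 : act 7 n88282 = n185289 := rfl
def n185290 : Q := act 0 n88283
theorem D185290 : act 0 n88283 = n185290 := rfl
def n185291 : Q := act 1 n88283
theorem D185291 : act 1 n88283 = n185291 := rfl
def n185292 : Q := act 5 n88283
theorem D185292 : act 5 n88283 = n185292 := rfl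
def n185293 : Q := act 2 n88284
theorem D185293 : act 2 n88284 = n185293 := rfl
theorem F287559 : act 7 n88285 = n185293 := d15_2 (iv0 D88284) D88285 (iv2 D185293)
def n185294 : Q := act 3 n88284
theorem D185294 : act 3 n88284 = n185294 := rfl
def n185295 : Q := act 4 n88284
theorem D185295 : act 4 n88284 = n185295 := rfl
def n185296 : Q := act 5 n88284
theorem D185296 : act 5 n88284 = n185296 := rfl
def n185297 : Q := act 6 n88284
theorem D185297 : act 6 n88284 = n185297 := rfl
theorem F287560 : act 5 n185297 = n184574 := d21_6 (iv5 D22822) F17306 (iv5 F30992) D41199 D88284 D185297 (iv1 D184574) (iv5 F157195) (iv6 D102385) (iv1 D47504)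
def n185298 : Q := act 7 n88284
theorem D185298 : act 7 n88284 = n185298 := rfl
theorem F287561 : act 2 n185298 = n88285 := d4_1 D185298 F287559 (iv2 D185293)
def n185299 : Q := act 3 n88285
theorem D185299 : act 3 n88285 = n185299 := rfl
def n185300 : Q := act 4 n88285
theorem D185300 : act 4 n88285 = n185300 := rfl
def n185301 : Q := act 5 n88285
theorem D185301 : act 5 n88285 = n185301 := rfl
def n185302 : Q := act 6 n88285
theorem D185302 : act 6 n88285 = n185302 := rfl
def n185303 : Q := act 0 n88286
theorem D185303 : act 0 n88286 = n185303 := rfl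
theorem F287562 : act 1 n99747 = n185303 := d15_0 (iv0 D185303) F135193 (iv2 F153553)
def n185304 : Q := act 1 n88286
theorem D185304 : act 1 n88286 = n185304 := rfl
theorem F287563 : act 4 n185046 = n185304 := d20_6 F62450 (iv1 F35400) F35391 (iv3 F62359) D88203 D185046 (iv1 D185304) F135191 (iv3 D41231) D41229
theorem F287564 : act 0 n99747 = n185304 := d20_1 (iv4 F153555) (iv4 F287563) (iv3 D185046) (iv1 F287419) F287414 F157208 (iv1 F74798) D102467 (iv3 F157416) (iv1 F135277)
def n185305 : Q := act 2 n88286
theorem D185305 : act 2 n88286 = n185305 := rfl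
theorem F287565 : act 3 n185305 = n101969 := d0_2 D88286 D185305 F156940 F74569 (iv2 F62391)
theorem F287566 : act 4 n185305 = n88338 := d1_2 (iv4 F135191) D185305 (iv2 D88338)
theorem F287567 : act 6 n185305 = n102075 := d3_2 (iv6 F135192) D185305 F157020
theorem F287568 : act 7 n185305 = n99747 := d4_2 (iv7 F135193) D185305 F153553
theorem F287569 : act 1 n185305 = n99752 := d15_0 (iv0 D99752) (iv7 F135193) D185305
theorem F287570 : act 1 n99753 = n185305 := d15_1 D99753 F287568 F153553
def n185306 : Q := act 5 n88288
theorem D185306 : act 5 n88288 = n185306 := rfl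
theorem F287571 : act 3 n185306 = n183767 := d6_1 D185306 (iv5 D183767) (iv3 F135201)
def n185307 : Q := act 5 n88289
theorem D185307 : act 5 n88289 = n185307 := rfl
theorem F287572 : act 0 n185307 = n88312 := d17_2 (iv1 F147051) D185307 F135219 F134465 D97477 (iv0 F150262) (iv5 D96381) F76171 (iv4 F147048)
def n185308 : Q := act 6 n88289
theorem D185308 : act 6 n88289 = n185308 := rfl
theorem F287573 : act 5 n185308 = n182931 := d21_6 (iv5 F127860) F129892 F129888 D95433 (iv1 F147051) D185308 (iv1 D182931) (iv5 D87339) (iv6 D40593) D40590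
def n185309 : Q := act 5 n88290
theorem D185309 : act 5 n88290 = n185309 := rfl
theorem F287574 : act 2 n185309 = n88291 := d2_1 D185309 (iv5 D88291) D88290
def n185310 : Q := act 0 n88291
theorem D185310 : act 0 n88291 = n185310 := rfl
def n185311 : Q := act 1 n88291
theorem D185311 : act 1 n88291 = n185311 := rfl
def n185312 : Q := act 4 n88291
theorem D185312 : act 4 n88291 = n185312 := rfl
theorem F287575 : act 1 n185312 = n102337 := d18_6 (iv1 D47472) (iv4 F70771) F70773 (iv4 F62408) D88291 D185312 (iv4 D102337) (iv0 F160473) (iv5 D102296)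
def n185313 : Q := act 6 n88291
theorem D185313 : act 6 n88291 = n185313 := rfl
theorem F287576 : act 3 n185313 = n88293 := d7_1 D185313 (iv6 D88293) (iv3 F135203)
def n185314 : Q := act 3 n88292
theorem D185314 : act 3 n88292 = n185314 := rfl
theorem F287577 : act 7 n185314 = n185182 := d8_2 (iv7 F135205) D185314 (iv3 D185182)
def n185315 : Q := act 6 n88292
theorem D185315 : act 6 n88292 = n185315 := rfl
theorem F287578 : act 2 n185315 = n185181 := d3_1 D185315 (iv6 D185181) (iv2 F135204)
theorem F287579 : act 4 n185315 = n88293 := d10_1 D185315 (iv6 D88293) D88292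
def n185316 : Q := act 0 n88293
theorem D185316 : act 0 n88293 = n185316 := rfl
def n185317 : Q := act 1 n88293
theorem D185317 : act 1 n88293 = n185317 := rfl
def n185318 : Q := act 7 n88293
theorem D185318 : act 7 n88293 = n185318 := rfl
def n185323 : Q := act 4 n88296
theorem D185323 : act 4 n88296 = n185323 := rfl
def n185324 : Q := act 6 n88296
theorem D185324 : act 6 n88296 = n185324 := rfl
def n185330 : Q := act 6 n88299
theorem D185330 : act 6 n88299 = n185330 := rfl
theorem F287587 : act 3 n185330 = n88302 := d7_1 D185330 (iv6 D88302) D88299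
def n185331 : Q := act 5 n88300
theorem D185331 : act 5 n88300 = n185331 := rfl
theorem F287590 : act 7 n185331 = n102414 := d13_2 (iv7 F157345) D185331 (iv5 D102414)
def n185332 : Q := act 6 n88300
theorem D185332 : act 6 n88300 = n185332 := rfl
theorem F287591 : act 2 n185332 = n104233 := d3_1 D185332 (iv6 D104233) F157346
theorem F287592 : act 3 n185332 = n99840 := d7_1 D185332 (iv6 D99840) (iv3 F135211)
theorem F287593 : act 4 n185332 = n88302 := d10_1 D185332 (iv6 D88302) D88300
def n185339 : Q := act 4 n88303
theorem D185339 : act 4 n88303 = n185339 := rfl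
theorem F287594 : act 2 n185339 = n88307 := d1_1 D185339 (iv4 D88307) (iv2 F135215)
def n185340 : Q := act 6 n88303
theorem D185340 : act 6 n88303 = n185340 := rfl
theorem F287595 : act 2 n185340 = n88308 := d3_1 D185340 (iv6 D88308) (iv2 F135215)
def n185341 : Q := act 5 n88304
theorem D185341 : act 5 n88304 = n185341 := rfl
theorem F287596 : act 2 n185341 = n88311 := d2_1 D185341 (iv5 D88311) (iv2 F135216)
theorem F287597 : act 3 n185341 = n98350 := d6_1 D185341 (iv5 F151779) F135341
def n185342 : Q := act 2 n88305
theorem D185342 : act 2 n88305 = n185342 := rfl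
theorem F287598 : act 7 n88306 = n185342 := d15_2 (iv0 D88305) D88306 (iv2 D185342)
def n185343 : Q := act 4 n88305
theorem D185343 : act 4 n88305 = n185343 := rfl
theorem F287599 : act 0 n185343 = n102324 := d18_2 D88305 D185343 (iv4 D102324) (iv5 D47485) D47484 (iv0 F135209) (iv4 D88295) (iv0 D41212) D41215
def n185344 : Q := act 5 n88305
theorem D185344 : act 5 n88305 = n185344 := rfl
def n185345 : Q := act 6 n88305
theorem D185345 : act 6 n88305 = n185345 := rfl
def n185346 : Q := act 7 n88305
theorem D185346 : act 7 n88305 = n185346 := rfl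
theorem F287600 : act 2 n185346 = n88306 := d4_1 D185346 F287598 (iv2 D185342)
def n185347 : Q := act 3 n88306
theorem D185347 : act 3 n88306 = n185347 := rfl
def n185348 : Q := act 4 n88306
theorem D185348 : act 4 n88306 = n185348 := rfl
def n185349 : Q := act 5 n88306
theorem D185349 : act 5 n88306 = n185349 := rfl
def n185350 : Q := act 6 n88306
theorem D185350 : act 6 n88306 = n185350 := rfl
def n185353 : Q := act 3 n88307
theorem D185353 : act 3 n88307 = n185353 := rfl
theorem F287601 : act 4 n185353 = n88319 := d5_2 D88307 D185353 (iv3 D88319) (iv4 D41219) (iv3 F62411)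
def n185355 : Q := act 6 n88307
theorem D185355 : act 6 n88307 = n185355 := rfl
theorem F287602 : act 4 n185355 = n88308 := d10_1 D185355 (iv6 D88308) D88307
def n185356 : Q := act 0 n88308
theorem D185356 : act 0 n88308 = n185356 := rfl
def n185357 : Q := act 1 n88308
theorem D185357 : act 1 n88308 = n185357 := rfl
def n185358 : Q := act 5 n88308
theorem D185358 : act 5 n88308 = n185358 := rfl
theorem F287604 : act 6 n185358 = n88311 := d12_2 D88308 D185358 (iv5 D88311) (iv6 D41216) D41215
def n185359 : Q := act 7 n88308
theorem D185359 : act 7 n88308 = n185359 := rfl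
def n185360 : Q := act 2 n88309
theorem D185360 : act 2 n88309 = n185360 := rfl
theorem F287606 : act 7 n88310 = n185360 := d15_2 (iv0 D88309) D88310 (iv2 D185360)
def n185361 : Q := act 4 n88309
theorem D185361 : act 4 n88309 = n185361 := rfl
def n185362 : Q := act 5 n88309
theorem D185362 : act 5 n88309 = n185362 := rfl
def n185363 : Q := act 6 n88309
theorem D185363 : act 6 n88309 = n185363 := rfl
def n185364 : Q := act 7 n88309
theorem D185364 : act 7 n88309 = n185364 := rfl
def n185365 : Q := act 3 n88310
theorem D185365 : act 3 n88310 = n185365 := rfl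
def n185366 : Q := act 5 n88310
theorem D185366 : act 5 n88310 = n185366 := rfl
def n185367 : Q := act 6 n88310
theorem D185367 : act 6 n88310 = n185367 := rfl
def n185368 : Q := act 0 n88311
theorem D185368 : act 0 n88311 = n185368 := rfl
def n185369 : Q := act 1 n88311
theorem D185369 : act 1 n88311 = n185369 := rfl
def n185370 : Q := act 4 n88311
theorem D185370 : act 4 n88311 = n185370 := rfl
def n185371 : Q := act 0 n88312
theorem D185371 : act 0 n88312 = n185371 := rfl
def n185372 : Q := act 2 n88312
theorem D185372 : act 2 n88312 = n185372 := rfl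
theorem F287608 : act 5 n185372 = n183481 := d2_2 (iv5 F135219) D185372 F285236
def n185373 : Q := act 4 n88312
theorem D185373 : act 4 n88312 = n185373 := rfl
theorem F287609 : act 0 n102302 = n185373 := d20_7 D41251 (iv1 F135150) (iv4 D88210) F74659 (iv1 D47477) (iv3 F74650) D102302 (iv4 D185373) (iv3 D88312) (iv1 F62413)
theorem F287610 : act 5 n89370 = n102301 := d18_9 (iv1 D102301) D102302 F287609 (iv4 D185373) F135219 F134465 (iv0 F137038) F137037 D89370
def n185374 : Q := act 6 n88312
theorem D185374 : act 6 n88312 = n185374 := rfl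
theorem F287611 : act 3 n185374 = n88314 := d7_1 D185374 (iv6 D88314) D88312
theorem F287612 : act 5 n185374 = n183485 := d12_1 D185374 (iv6 D183485) (iv5 D87580) D87581 (iv5 F135219)
def n185375 : Q := act 3 n88313
theorem D185375 : act 3 n88313 = n185375 := rfl
theorem F287613 : act 7 n185375 = n185070 := d8_2 (iv7 F135221) D185375 (iv3 D185070)
def n185376 : Q := act 6 n88313
theorem D185376 : act 6 n88313 = n185376 := rfl
theorem F287614 : act 2 n185376 = n185069 := d3_1 D185376 (iv6 D185069) (iv2 F135220)
theorem F287615 : act 4 n185376 = n88314 := d10_1 D185376 (iv6 D88314) D88313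
def n185377 : Q := act 0 n88314
theorem D185377 : act 0 n88314 = n185377 := rfl
def n185378 : Q := act 1 n88314
theorem D185378 : act 1 n88314 = n185378 := rfl
def n185379 : Q := act 7 n88314
theorem D185379 : act 7 n88314 = n185379 := rfl
theorem F287616 : act 5 n185379 = n183493 := d13_1 D185379 (iv7 D183493) (iv5 F135224)
def n185380 : Q := act 1 n88315
theorem D185380 : act 1 n88315 = n185380 := rfl
def n185381 : Q := act 4 n88315
theorem D185381 : act 4 n88315 = n185381 := rfl
def n185382 : Q := act 5 n88315
theorem D185382 : act 5 n88315 = n185382 := rfl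
theorem F287617 : act 3 n185382 = n88317 := d6_1 D185382 (iv5 D88317) D88315
theorem F287618 : act 7 n185382 = n89038 := d13_2 F157957 D185382 F157956
theorem F287619 : act 4 n182291 = n185382 := d11_3 F287618 (iv4 F145130) (iv7 F283800)
theorem F287620 : act 6 n182275 = n185382 := d14_5 F287618 (iv6 D89038) F65960 D87572 (iv7 F283721)
theorem F287621 : act 0 n185382 = n88877 := d21_4 D46857 D100398 (iv5 F283720) F287620 (iv6 D88877) D88876 F157845 (iv5 D102639) F75840 (iv1 D46856)
theorem E25317 : n185380 = n100386 := ((c21_7 F154505 (iv1 D100440) (iv5 D46872) D46873 (iv1 F154504) (iv6 D100387) D100386 (iv1 D185380) D185382 (iv6 F287620) F283722)).symm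
theorem F287622 : act 0 n100386 = n88315 := (sb E25317 (iv1 D185380))
theorem F287623 : act 1 n88530 = n92782 := d17_6 (iv1 F151054) D100386 F287622 D185382 (iv4 F287619) F283798 (iv5 D92782) F135462 (iv4 F151052)
def n185383 : Q := act 6 n88315
theorem D185383 : act 6 n88315 = n185383 := rfl
theorem F287624 : act 3 n185383 = n88318 := d7_1 D185383 (iv6 D88318) D88315
def n185384 : Q := act 3 n88316
theorem D185384 : act 3 n88316 = n185384 := rfl
theorem F287625 : act 7 n185384 = n185068 := d8_2 (iv7 F135226) D185384 (iv3 D185068)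
def n185385 : Q := act 6 n88316
theorem D185385 : act 6 n88316 = n185385 := rfl
theorem F287626 : act 2 n185385 = n185071 := d3_1 D185385 (iv6 D185071) (iv2 F135225)
theorem F287627 : act 4 n185385 = n88318 := d10_1 D185385 (iv6 D88318) D88316
def n185386 : Q := act 0 n88318
theorem D185386 : act 0 n88318 = n185386 := rfl
def n185387 : Q := act 1 n88318
theorem D185387 : act 1 n88318 = n185387 := rfl
def n185388 : Q := act 7 n88318
theorem D185388 : act 7 n88318 = n185388 := rfl
def n185409 : Q := act 4 n88323
theorem D185409 : act 4 n88323 = n185409 := rfl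
theorem F287633 : act 6 n185409 = n88327 := d10_2 (iv6 F135236) D185409 (iv4 D88327)
def n185410 : Q := act 7 n88323
theorem D185410 : act 7 n88323 = n185410 := rfl
def n185411 : Q := act 1 n88325
theorem D185411 : act 1 n88325 = n185411 := rfl
def n185412 : Q := act 3 n88326
theorem D185412 : act 3 n88326 = n185412 := rfl
theorem F287635 : act 5 n185412 = n89026 := d6_2 (iv5 F135239) D185412 F136684
theorem F287636 : act 7 n185412 = n89025 := d8_2 (iv7 F135238) D185412 F136682
theorem F287637 : act 0 n185412 = n98369 := d20_4 D86992 D182195 F283640 D185412 (iv3 D98369) (iv4 F137145) (iv1 D89482) (iv4 D41780) F31413 D40390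
theorem F287638 : act 2 n98861 = n185412 := d4_3 F287636 F136681 D98861
theorem F287639 : act 1 n185412 = n98859 := d15_0 (iv0 D98859) D98861 F287638
def n185413 : Q := act 6 n88326
theorem D185413 : act 6 n88326 = n185413 := rfl
theorem F287640 : act 2 n185413 = n182226 := d3_1 D185413 (iv6 D182226) F135240
theorem F287641 : act 5 n185413 = n182968 := d12_1 D185413 (iv6 D182968) F134109 F133358 (iv5 F135239)
def n185414 : Q := act 3 n88327
theorem D185414 : act 3 n88327 = n185414 := rfl
theorem F287642 : act 5 n185414 = n183899 := d6_2 (iv5 F135243) D185414 (iv3 D183899)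
theorem F287643 : act 7 n185414 = n182211 := d8_2 (iv7 F135242) D185414 (iv3 D182211)
def n185415 : Q := act 0 n88328
theorem D185415 : act 0 n88328 = n185415 := rfl
theorem F287644 : act 1 n99329 = n185415 := d15_0 (iv0 D185415) F135247 (iv2 F152956)
def n185416 : Q := act 1 n88328
theorem D185416 : act 1 n88328 = n185416 := rfl
theorem F287645 : act 1 n185416 = n99329 := d15_1 D185416 F152959 F152102
def n185417 : Q := act 5 n88328
theorem D185417 : act 5 n88328 = n185417 := rfl
theorem F287646 : act 3 n185417 = n88329 := d6_1 D185417 (iv5 D88329) D88328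
theorem F287647 : act 7 n185417 = n182159 := d13_2 (iv7 F135247) D185417 F283610
def n185418 : Q := act 6 n88329
theorem D185418 : act 6 n88329 = n185418 := rfl
theorem F287648 : act 2 n185418 = n182163 := d3_1 D185418 (iv6 D182163) (iv2 F135248)
theorem F287649 : act 5 n185418 = n182062 := d12_1 D185418 (iv6 D182062) (iv5 F135255) (iv6 D88330) D88329
theorem F287650 : act 0 n185418 = n182122 := d21_4 (iv5 F63559) (iv1 F62422) D88329 D185418 (iv6 D182122) (iv5 D86969) (iv1 D40378) D40379 F61459 D40390
def n185419 : Q := act 0 n88331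
theorem D185419 : act 0 n88331 = n185419 := rfl
theorem F287651 : act 1 n184318 = n185419 := d15_0 (iv0 D185419) F135259 (iv2 F286254)
def n185420 : Q := act 1 n88331
theorem D185420 : act 1 n88331 = n185420 := rfl
def n185421 : Q := act 2 n88331
theorem D185421 : act 2 n88331 = n185421 := rfl
theorem F287652 : act 3 n185421 = n102608 := d0_2 D88331 D185421 F157816 (iv3 D88325) F63339
theorem F287653 : act 4 n185421 = n104721 := d1_2 (iv4 F135258) D185421 (iv2 D104721)
theorem F287654 : act 7 n185421 = n184318 := d4_2 (iv7 F135259) D185421 F286254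
theorem F287655 : act 1 n185421 = n184323 := d15_0 (iv0 D184323) (iv7 F135259) D185421
theorem F287656 : act 1 n185420 = n184318 := d15_1 D185420 (iv7 F287654) (iv2 D185421)
theorem F287657 : act 1 n184324 = n185421 := d15_1 D184324 F287654 F286254
theorem E25318 : n185308 = n184324 := (c17_8 (iv1 F160421) (iv5 F149618) F149620 (iv5 D45368) (iv4 F61715) D87339 D182931 (iv5 F287573) F287657 F287653)
theorem F287658 : act 5 n184324 = n182931 := (sb E25318 F287573)
theorem F287659 : act 6 n184324 = n88289 := (sb E25318 (iv6 D185308))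
theorem F287660 : act 6 n102606 = n185421 := d7_0 F287652 (iv6 D102608) D102606
def n185422 : Q := act 5 n88331
theorem D185422 : act 5 n88331 = n185422 := rfl
theorem F287661 : act 3 n185422 = n88332 := d6_1 D185422 (iv5 D88332) D88331
theorem F287662 : act 7 n185422 = n182245 := d13_2 (iv7 F135259) D185422 F283682
def n185423 : Q := act 6 n88331
theorem D185423 : act 6 n88331 = n185423 := rfl
theorem F287663 : act 2 n185423 = n102606 := d3_1 D185423 F287660 (iv2 D185421)
theorem F287664 : act 3 n185423 = n88333 := d7_1 D185423 (iv6 D88333) D88331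
def n185424 : Q := act 6 n88332
theorem D185424 : act 6 n88332 = n185424 := rfl
theorem F287668 : act 2 n185424 = n182250 := d3_1 D185424 (iv6 D182250) (iv2 F135260)
theorem F287669 : act 5 n185424 = n182005 := d12_1 D185424 (iv6 D182005) (iv5 F135267) (iv6 D88333) D88332
def n185425 : Q := act 0 n88334
theorem D185425 : act 0 n88334 = n185425 := rfl
theorem F287670 : act 3 n185425 = n90796 := d20_5 (iv4 F35391) (iv1 F35401) (iv4 F62452) D88334 D185425 F139742 (iv1 D44875) (iv4 F70491) F70490 (iv1 D41170)
theorem F287671 : act 1 n102608 = n185425 := d15_0 (iv0 D185425) F135272 (iv2 F157816)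
theorem F287672 : act 6 n100444 = n185425 := d7_0 F287670 F139743 (iv3 F154499)
theorem F287673 : act 7 n97994 = n185425 := d8_0 F287670 F139745 (iv3 F151068)
def n185426 : Q := act 1 n88334
theorem D185426 : act 1 n88334 = n185426 := rfl
def n185427 : Q := act 2 n88334
theorem D185427 : act 2 n88334 = n185427 := rfl
theorem F287674 : act 3 n185427 = n184318 := d0_2 D88334 D185427 F286254 F134910 F63342
theorem F287675 : act 4 n185427 = n159729 := d1_2 F135474 D185427 (iv2 F251654)
theorem F287676 : act 6 n185427 = n99287 := d3_2 (iv6 F135271) D185427 F152862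
theorem F287677 : act 7 n185427 = n102608 := d4_2 (iv7 F135272) D185427 F157816
theorem F287678 : act 1 n185427 = n97994 := d15_0 (iv0 F151070) (iv7 F135272) D185427
theorem F287679 : act 1 n185426 = n102608 := d15_1 D185426 (iv7 F287677) (iv2 D185427)
theorem F287680 : act 2 n97994 = n185426 := d15_3 F287679 F287671 (iv7 F287673)
theorem F287682 : act 6 n185426 = n97992 := d3_2 D97994 F287680 (iv2 D97992)
theorem F287683 : act 7 n185411 = n185426 := d15_2 (iv0 F151070) D185411 (iv2 F287680)
theorem F287684 : act 2 n185425 = n185411 := d4_3 F287683 (iv2 F287680) F287673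
theorem F287685 : act 1 n185411 = n185427 := d15_0 F287678 F287673 F287684
theorem F287686 : act 5 n98859 = n185411 := d17_7 (iv1 D159729) (iv5 D76415) (iv1 F114550) F114547 (iv4 F136685) (iv5 F287635) F287639 F287685 F287675
def n185428 : Q := act 5 n88334
theorem D185428 : act 5 n88334 = n185428 := rfl
theorem F287687 : act 3 n185428 = n88335 := d6_1 D185428 (iv5 D88335) D88334
theorem F287688 : act 7 n185428 = n182248 := d13_2 (iv7 F135272) D185428 F283689
theorem F287689 : act 1 n185428 = n98858 := d17_6 D76422 D159748 F283736 F283734 F135474 D185428 (iv5 D98858) (iv0 D46263) F55274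
theorem F287690 : act 0 n185428 = n89611 := d21_7 (iv5 D100450) (iv1 F154444) F154437 (iv6 F152872) (iv1 F152873) (iv6 F135271) D185428 (iv5 D89611) D89612 (iv1 F283725)
def n185429 : Q := act 6 n88335
theorem D185429 : act 6 n88335 = n185429 := rfl
theorem F287691 : act 2 n185429 = n182247 := d3_1 D185429 (iv6 D182247) (iv2 F135273)
theorem F287692 : act 5 n185429 = n104146 := d12_1 D185429 (iv6 D104146) (iv5 D48194) (iv6 F63343) D88335
def n185430 : Q := act 2 n88336
theorem D185430 : act 2 n88336 = n185430 := rfl
theorem F287693 : act 7 n88337 = n185430 := d15_2 (iv0 D88336) D88337 (iv2 D185430)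
def n185431 : Q := act 5 n88336
theorem D185431 : act 5 n88336 = n185431 := rfl
def n185432 : Q := act 6 n88336
theorem D185432 : act 6 n88336 = n185432 := rfl
def n185433 : Q := act 7 n88336
theorem D185433 : act 7 n88336 = n185433 := rfl
theorem F287694 : act 2 n185433 = n88337 := d4_1 D185433 F287693 (iv2 D185430)
def n185434 : Q := act 3 n88337
theorem D185434 : act 3 n88337 = n185434 := rfl
def n185435 : Q := act 5 n88337
theorem D185435 : act 5 n88337 = n185435 := rfl
def n185436 : Q := act 6 n88337
theorem D185436 : act 6 n88337 = n185436 := rfl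
def n185437 : Q := act 5 n88338
theorem D185437 : act 5 n88338 = n185437 := rfl
theorem F287695 : act 2 n185437 = n88339 := d2_1 D185437 (iv5 D88339) D88338
theorem F287696 : act 7 n185437 = n185341 := d13_2 (iv7 F135278) D185437 (iv5 D185341)
theorem F287697 : act 1 n185369 = n185437 := d15_1 D185369 F287696 F287596
theorem F287698 : act 1 n185437 = n185368 := d15_0 (iv0 D185368) (iv7 F135283) (iv2 F287695)
def n185438 : Q := act 6 n88338
theorem D185438 : act 6 n88338 = n185438 := rfl
theorem F287699 : act 2 n185438 = n88340 := d3_1 D185438 (iv6 D88340) D88338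
theorem F287700 : act 3 n185438 = n100523 := d7_1 D185438 (iv6 F285751) F285750
theorem F287701 : act 4 n185438 = n102075 := d10_1 D185438 (iv6 F287567) F287566
theorem F287702 : act 7 n185438 = n102069 := d14_2 (iv7 F135278) D185438 (iv6 D102069) F74611 D88304
theorem F287703 : act 1 n102088 = n185438 := d15_1 D102088 F287702 F157013
theorem E25319 : n102326 = n102111 := (c20_11 (iv4 D102111) (iv1 F157023) (iv4 F287701) F287700 (iv1 D100523) F74099 (iv4 F74107) (iv1 F74109) F68137 (iv3 F74670) D102326)
theorem F287704 : act 1 n102111 = n47486 := (sb E25319 (iv0 D102326))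
theorem F287705 : act 1 n185438 = n102087 := d15_0 (iv0 D102087) (iv7 F135286) (iv2 F287699)
def n185439 : Q := act 0 n88339
theorem D185439 : act 0 n88339 = n185439 := rfl
theorem F287706 : act 1 n185341 = n185439 := d15_0 (iv0 D185439) F135283 (iv2 F287596)
def n185440 : Q := act 1 n88339
theorem D185440 : act 1 n88339 = n185440 := rfl
theorem F287707 : act 1 n185440 = n185341 := d15_1 D185440 (iv7 F287696) F287695
def n185441 : Q := act 4 n88339
theorem D185441 : act 4 n88339 = n185441 := rfl
theorem F287708 : act 7 n185441 = n185370 := d11_2 (iv7 F135283) D185441 (iv4 D185370)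
def n185442 : Q := act 6 n88339
theorem D185442 : act 6 n88339 = n185442 := rfl
theorem F287709 : act 3 n185442 = n88341 := d7_1 D185442 (iv6 D88341) (iv3 F135282)
def n185443 : Q := act 0 n88340
theorem D185443 : act 0 n88340 = n185443 := rfl
theorem F287710 : act 1 n102069 = n185443 := d15_0 (iv0 D185443) F135286 (iv2 F157013)
def n185444 : Q := act 1 n88340
theorem D185444 : act 1 n88340 = n185444 := rfl
theorem F287711 : act 1 n185444 = n102069 := d15_1 D185444 (iv7 F287702) F287699
def n185445 : Q := act 0 n88341
theorem D185445 : act 0 n88341 = n185445 := rfl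
def n185446 : Q := act 1 n88341
theorem D185446 : act 1 n88341 = n185446 := rfl
def n185447 : Q := act 7 n88341
theorem D185447 : act 7 n88341 = n185447 := rfl
theorem F287712 : act 6 n185447 = n185410 := d14_1 D185447 (iv7 D185410) F135236 (iv7 F62455) D88341
def n185450 : Q := act 5 n88343
theorem D185450 : act 5 n88343 = n185450 := rfl
theorem F287713 : act 0 n185450 = n95486 := d17_2 (iv1 F148074) D185450 F149599 F149598 D182277 F283731 (iv5 D88354) F134639 (iv4 F148071)
def n185451 : Q := act 6 n88343
theorem D185451 : act 6 n88343 = n185451 := rfl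
def n185452 : Q := act 5 n88344
theorem D185452 : act 5 n88344 = n185452 := rfl
theorem F287714 : act 2 n185452 = n88345 := d2_1 D185452 (iv5 D88345) D88344
def n185453 : Q := act 6 n88344
theorem D185453 : act 6 n88344 = n185453 := rfl
theorem F287715 : act 2 n185453 = n88346 := d3_1 D185453 (iv6 D88346) D88344
theorem F287716 : act 4 n185453 = n88356 := d10_1 D185453 (iv6 D88356) (iv4 F135287)
def n185454 : Q := act 0 n88345
theorem D185454 : act 0 n88345 = n185454 := rfl
def n185455 : Q := act 1 n88345
theorem D185455 : act 1 n88345 = n185455 := rfl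
def n185456 : Q := act 4 n88345
theorem D185456 : act 4 n88345 = n185456 := rfl
def n185457 : Q := act 6 n88345
theorem D185457 : act 6 n88345 = n185457 := rfl
theorem F287717 : act 3 n185457 = n88350 := d7_1 D185457 (iv6 D88350) (iv3 F135288)
def n185458 : Q := act 0 n88346
theorem D185458 : act 0 n88346 = n185458 := rfl
def n185459 : Q := act 1 n88346
theorem D185459 : act 1 n88346 = n185459 := rfl
def n185460 : Q := act 3 n88347
theorem D185460 : act 3 n88347 = n185460 := rfl
theorem F287718 : act 5 n185460 = n89927 := d6_2 (iv5 F135292) D185460 (iv3 D89927)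
theorem F287719 : act 7 n185460 = n97477 := d8_2 F135295 D185460 F150261
theorem F287720 : act 0 n95355 = n185460 := d20_4 D104634 F160336 (iv4 D95357) (iv3 F146988) (iv3 D185460) F135293 (iv1 D48398) (iv4 D23532) (iv3 F36648) D48387
theorem F287721 : act 1 n95463 = n185460 := d15_0 (iv0 F287720) (iv7 F148340) F148338
theorem F287722 : act 0 n100798 = n103315 := d21_7 (iv5 F287718) (iv1 F287721) (iv5 D95463) D95464 (iv1 F158655) (iv6 D100799) D100798 F158555 F150188 F147770
def n185461 : Q := act 6 n88347
theorem D185461 : act 6 n88347 = n185461 := rfl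
theorem F287723 : act 4 n185461 = n104668 := d10_1 D185461 (iv6 D104668) (iv4 F135293)
def n185462 : Q := act 3 n88348
theorem D185462 : act 3 n88348 = n185462 := rfl
theorem F287724 : act 5 n185462 = n89926 := d6_2 (iv5 F135301) D185462 (iv3 D89926)
theorem F287725 : act 0 n104586 = n185462 := d21_1 D104586 F287724 F138099 (iv1 F178356) (iv6 D44637) (iv5 F55142) (iv1 F70612) (iv5 D44926) D44927 (iv1 F76032)
theorem F287726 : act 1 n104582 = n185462 := d15_0 (iv0 F287725) F160276 F160274
def n185463 : Q := act 6 n88348
theorem D185463 : act 6 n88348 = n185463 := rfl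
theorem F287727 : act 2 n185463 = n97482 := d3_1 D185463 F150264 F135302
theorem F287728 : act 4 n185463 = n104666 := d10_1 D185463 (iv6 D104666) F135303
theorem F287729 : act 5 n185463 = n96593 := d12_1 D185463 (iv6 D96593) (iv5 D45098) (iv6 F64863) (iv5 F135301)
def n185464 : Q := act 3 n88349
theorem D185464 : act 3 n88349 = n185464 := rfl
def n185465 : Q := act 6 n88349
theorem D185465 : act 6 n88349 = n185465 := rfl
theorem F287730 : act 4 n185465 = n88350 := d10_1 D185465 (iv6 D88350) D88349
def n185466 : Q := act 0 n88350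
theorem D185466 : act 0 n88350 = n185466 := rfl
def n185467 : Q := act 1 n88350
theorem D185467 : act 1 n88350 = n185467 := rfl
def n185468 : Q := act 7 n88350
theorem D185468 : act 7 n88350 = n185468 := rfl
def n185469 : Q := act 0 n88352
theorem D185469 : act 0 n88352 = n185469 := rfl
def n185470 : Q := act 1 n88352
theorem D185470 : act 1 n88352 = n185470 := rfl
def n185471 : Q := act 2 n88352
theorem D185471 : act 2 n88352 = n185471 := rfl
theorem F287731 : act 3 n185471 = n96363 := d0_2 D88352 D185471 F148322 F74564 F70126
theorem F287732 : act 4 n185471 = n88375 := d1_2 (iv4 F135313) D185471 (iv2 D88375)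
theorem F287733 : act 6 n185471 = n96272 := d3_2 (iv6 F135314) D185471 (iv2 D96272)
def n185472 : Q := act 4 n88354
theorem D185472 : act 4 n88354 = n185472 := rfl
def n185473 : Q := act 6 n88354
theorem D185473 : act 6 n88354 = n185473 := rfl
def n185474 : Q := act 4 n88355
theorem D185474 : act 4 n88355 = n185474 := rfl
theorem F287734 : act 2 n185474 = n88359 := d1_1 D185474 (iv4 D88359) (iv2 F135320)
def n185475 : Q := act 6 n88355
theorem D185475 : act 6 n88355 = n185475 := rfl
theorem F287735 : act 2 n185475 = n88360 := d3_1 D185475 (iv6 D88360) (iv2 F135320)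
def n185476 : Q := act 5 n88356
theorem D185476 : act 5 n88356 = n185476 := rfl
theorem F287736 : act 2 n185476 = n88362 := d2_1 D185476 (iv5 D88362) (iv2 F135321)
theorem F287737 : act 0 n98988 = n185476 := d21_1 D98988 (iv5 D185476) (iv6 D88356) (iv1 F134635) (iv6 D46423) (iv5 F64070) F64072 (iv5 D40353) D40354 (iv1 F72954)
theorem F287738 : act 7 n98990 = n185476 := d15_2 (iv0 F135324) D98990 F287736
theorem F287739 : act 5 n100523 = n98990 := d13_3 F287738 (iv5 D185476) (iv7 F154576)
def n185477 : Q := act 3 n88357
theorem D185477 : act 3 n88357 = n185477 := rfl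
theorem F287740 : act 4 n185477 = n185037 := d20_6 D88208 F135146 (iv4 D41251) (iv3 F63089) D88357 D185477 (iv1 D185037) (iv4 D88201) F62358 D41165
def n185478 : Q := act 4 n88357
theorem D185478 : act 4 n88357 = n185478 := rfl
def n185479 : Q := act 5 n88357
theorem D185479 : act 5 n88357 = n185479 := rfl
theorem F287741 : act 2 n185479 = n89536 := d2_1 D185479 (iv5 F157911) F157913
theorem F287742 : act 7 n185479 = n98588 := d13_2 F285727 D185479 (iv5 F285724)
theorem F287743 : act 0 n98593 = n185479 := d21_10 (iv5 D185479) (iv1 F285723) (iv5 D183892) (iv6 F135342) F285749 (iv6 D46753) D46752 D100172 (iv5 F154123) F151989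
theorem F287744 : act 6 n182268 = n185479 := d21_5 D100177 F283621 (iv5 D87026) D87027 D182268 (iv5 D185479) (iv1 F285723) (iv5 D183892) (iv6 F135342) F285749
theorem F287745 : act 0 n185479 = n182276 := d21_4 D48203 (iv1 F154632) (iv5 F283713) F287744 F283727 D183385 F285097 (iv5 D102536) F74788 F73377
theorem E25320 : n182276 = n98594 := ((c15_1 D98594 (iv0 F287745) F287742 F151981)).symm
theorem F287746 : act 1 n98594 = n185479 := (sb E25320 (iv0 F287745))
theorem F287747 : act 2 n98594 = n87033 := (sb E25320 (iv2 D182276))
theorem F287748 : act 6 n98594 = n87538 := (sb E25320 F283727)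
def n185480 : Q := act 6 n88357
theorem D185480 : act 6 n88357 = n185480 := rfl
def n185481 : Q := act 4 n88358
theorem D185481 : act 4 n88358 = n185481 := rfl
def n185482 : Q := act 6 n88358
theorem D185482 : act 6 n88358 = n185482 := rfl
theorem F287749 : act 3 n185482 = n98600 := d7_1 D185482 F151993 (iv3 F151996)
theorem F287750 : act 5 n185482 = n98592 := d12_1 D185482 (iv6 D98592) (iv5 D46089) D46090 (iv5 F151997)
def n185483 : Q := act 0 n88359
theorem D185483 : act 0 n88359 = n185483 := rfl
def n185484 : Q := act 1 n88359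
theorem D185484 : act 1 n88359 = n185484 := rfl
def n185485 : Q := act 3 n88359
theorem D185485 : act 3 n88359 = n185485 := rfl
theorem F287751 : act 4 n185485 = n88364 := d5_2 D88359 D185485 (iv3 D88364) (iv4 D41251) (iv3 F63089)
def n185486 : Q := act 5 n88359
theorem D185486 : act 5 n88359 = n185486 := rfl
def n185487 : Q := act 6 n88359
theorem D185487 : act 6 n88359 = n185487 := rfl
theorem F287752 : act 4 n185487 = n88360 := d10_1 D185487 (iv6 D88360) D88359
def n185488 : Q := act 0 n88360
theorem D185488 : act 0 n88360 = n185488 := rfl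
def n185489 : Q := act 1 n88360
theorem D185489 : act 1 n88360 = n185489 := rfl
def n185490 : Q := act 5 n88360
theorem D185490 : act 5 n88360 = n185490 := rfl
theorem F287753 : act 3 n185490 = n88368 := d6_1 D185490 (iv5 D88368) (iv3 F135322)
theorem F287754 : act 6 n185490 = n88362 := d12_2 D88360 D185490 (iv5 D88362) (iv6 D41250) D41249
def n185491 : Q := act 7 n88360
theorem D185491 : act 7 n88360 = n185491 := rfl
theorem F287755 : act 3 n185491 = n88369 := d8_1 D185491 (iv7 D88369) (iv3 F135322)
def n185492 : Q := act 3 n88361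
theorem D185492 : act 3 n88361 = n185492 := rfl
theorem F287756 : act 2 n185492 = n102531 := d0_1 D185492 F157479 F74782 (iv3 F152556) F152560
theorem F287757 : act 6 n185492 = n102529 := d7_2 F157443 D185492 F157472
def n185493 : Q := act 4 n88361
theorem D185493 : act 4 n88361 = n185493 := rfl
theorem F287758 : act 2 n185493 = n97369 := d1_1 D185493 F152558 F152560
theorem F287759 : act 6 n185493 = n104708 := d10_2 F157443 D185493 F160391
theorem F287760 : act 7 n185493 = n103777 := d11_2 (iv7 F154568) D185493 F159209
theorem F287761 : act 5 n185493 = n97367 := d17_5 F66332 D86937 (iv1 F152555) (iv5 F152561) D185493 F177430 (iv5 D95728) (iv0 F157285) F70991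
theorem F287762 : act 1 n103783 = n185493 := d15_1 D103783 F287760 F159208
theorem F287763 : act 5 n97323 = n103783 := d17_7 (iv1 F154575) F287739 (iv1 D98990) (iv5 D46308) F62907 D45455 D97323 F287762 (iv4 D185493)
def n185494 : Q := act 0 n88362
theorem D185494 : act 0 n88362 = n185494 := rfl
theorem F287765 : act 2 n88971 = n185494 := d15_3 (iv0 D185494) (iv0 F135324) (iv7 F136559)
theorem F287766 : act 3 n185494 = n99010 := d0_2 (iv3 F136558) F287765 F152548 F72974 (iv2 F64092)
theorem F287767 : act 5 n185494 = n88970 := d2_2 D88971 F287765 (iv2 D88970)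
theorem F287768 : act 7 n185494 = n98988 := d4_2 (iv7 F136559) F287765 F152508
theorem F287769 : act 1 n88971 = n185476 := d15_0 (iv0 F287737) (iv7 F287768) (iv2 F287765)
theorem F287770 : act 1 n98990 = n185494 := d15_1 D98990 F287768 F152508
def n185495 : Q := act 4 n88362
theorem D185495 : act 4 n88362 = n185495 := rfl
def n185496 : Q := act 7 n88362
theorem D185496 : act 7 n88362 = n185496 := rfl
theorem F287771 : act 2 n185496 = n98990 := d4_1 D185496 F287738 F287736
theorem F287773 : act 5 n185496 = n88363 := d13_1 D185496 (iv7 D88363) D88362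
theorem F287774 : act 1 n98988 = n185496 := d15_1 (iv0 F287737) (iv7 D185496) (iv2 F287736)
def n185497 : Q := act 0 n88364
theorem D185497 : act 0 n88364 = n185497 := rfl
def n185498 : Q := act 1 n88364
theorem D185498 : act 1 n88364 = n185498 := rfl
def n185499 : Q := act 2 n88364
theorem D185499 : act 2 n88364 = n185499 := rfl
def n185500 : Q := act 6 n88364
theorem D185500 : act 6 n88364 = n185500 := rfl
theorem F287776 : act 3 n185500 = n88365 := d7_1 D185500 (iv6 D88365) D88364
def n185501 : Q := act 0 n88365
theorem D185501 : act 0 n88365 = n185501 := rfl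
def n185502 : Q := act 1 n88365
theorem D185502 : act 1 n88365 = n185502 := rfl
def n185503 : Q := act 5 n88365
theorem D185503 : act 5 n88365 = n185503 := rfl
def n185504 : Q := act 7 n88365
theorem D185504 : act 7 n88365 = n185504 := rfl
theorem F287777 : act 4 n185504 = n88369 := d11_1 D185504 (iv7 D88369) (iv4 F135327)
def n185505 : Q := act 2 n88366
theorem D185505 : act 2 n88366 = n185505 := rfl
theorem F287778 : act 7 n88367 = n185505 := d15_2 (iv0 D88366) D88367 (iv2 D185505)
def n185506 : Q := act 3 n88366
theorem D185506 : act 3 n88366 = n185506 := rfl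
def n185507 : Q := act 4 n88366
theorem D185507 : act 4 n88366 = n185507 := rfl
def n185508 : Q := act 5 n88366
theorem D185508 : act 5 n88366 = n185508 := rfl
def n185509 : Q := act 6 n88366
theorem D185509 : act 6 n88366 = n185509 := rfl
def n185510 : Q := act 7 n88366
theorem D185510 : act 7 n88366 = n185510 := rfl
theorem F287779 : act 2 n185510 = n88367 := d4_1 D185510 F287778 (iv2 D185505)
def n185511 : Q := act 3 n88367
theorem D185511 : act 3 n88367 = n185511 := rfl
def n185512 : Q := act 4 n88367
theorem D185512 : act 4 n88367 = n185512 := rfl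
def n185513 : Q := act 6 n88367
theorem D185513 : act 6 n88367 = n185513 := rfl
theorem F287780 : act 5 n185513 = n184291 := d12_1 D185513 F286240 (iv5 D183106) D183107 F284725
theorem F287781 : act 7 n184290 = n185513 := d13_0 F287780 (iv7 D184291) D184290
def n185514 : Q := act 0 n88368
theorem D185514 : act 0 n88368 = n185514 := rfl
def n185515 : Q := act 1 n88368
theorem D185515 : act 1 n88368 = n185515 := rfl
def n185516 : Q := act 4 n88368
theorem D185516 : act 4 n88368 = n185516 := rfl
theorem F287782 : act 6 n185516 = n88371 := d10_2 (iv6 F135328) D185516 (iv4 D88371)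
def n185517 : Q := act 7 n88368
theorem D185517 : act 7 n88368 = n185517 := rfl
theorem F287783 : act 5 n185517 = n88369 := d13_1 D185517 (iv7 D88369) D88368
def n185518 : Q := act 3 n88371
theorem D185518 : act 3 n88371 = n185518 := rfl
def n185519 : Q := act 6 n88372
theorem D185519 : act 6 n88372 = n185519 := rfl
theorem F287784 : act 2 n185519 = n183127 := d3_1 D185519 (iv6 D183127) (iv2 F135332)
theorem F287785 : act 5 n185519 = n182947 := d12_1 D185519 (iv6 D182947) F134099 (iv6 F63567) (iv5 F135333)
theorem F287786 : act 0 n185519 = n183098 := d21_4 (iv5 F72342) F72343 (iv5 F135333) D185519 (iv6 D183098) (iv5 D87401) (iv1 D40617) D40618 F61731 D40630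
def n185520 : Q := act 3 n88373
theorem D185520 : act 3 n88373 = n185520 := rfl
theorem F287787 : act 2 n185520 = n90793 := d0_1 D185520 F139735 F66002 (iv3 F73872) F135339
theorem F287788 : act 6 n185520 = n90791 := d7_2 (iv6 F135340) D185520 F139727
theorem F287789 : act 4 n185520 = n90808 := d20_6 (iv4 D41224) (iv1 F31019) D19405 D41257 D88373 D185520 (iv1 F143477) F143469 F135143 (iv1 F62422)
def n185521 : Q := act 4 n88373
theorem D185521 : act 4 n88373 = n185521 := rfl
theorem F287790 : act 2 n185521 = n100171 := d1_1 D185521 F154120 F135339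
theorem F287791 : act 3 n185521 = n103234 := d5_1 D185521 F177595 F177597 (iv4 F287789) (iv3 D185520)
theorem F287792 : act 6 n185521 = n100166 := d10_2 (iv6 F135340) D185521 (iv4 D100166)
def n185522 : Q := act 5 n88373
theorem D185522 : act 5 n88373 = n185522 := rfl
theorem F287793 : act 2 n185522 = n100177 := d2_1 D185522 (iv5 D100177) F135339
theorem F287794 : act 0 n185522 = n98347 := d21_1 D185522 (iv5 D98347) D98348 (iv1 F283715) (iv6 F154636) (iv5 F157911) F157918 (iv5 D87720) (iv6 F63569) D88373
theorem F287795 : act 0 n98346 = n185522 := d21_1 D98346 (iv5 D185522) F135340 (iv1 F73868) (iv6 D41000) (iv5 F51885) F51886 (iv5 D21986) D21987 D46012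
def n185523 : Q := act 5 n88374
theorem D185523 : act 5 n88374 = n185523 := rfl
theorem F287796 : act 3 n185523 = n89599 := d6_1 D185523 (iv5 F137368) F135336
theorem F287797 : act 7 n185523 = n100177 := d13_2 (iv7 F135338) D185523 (iv5 D100177)
theorem F287798 : act 0 n98347 = n185523 := d21_7 F151985 (iv1 F151984) (iv5 D87550) D87551 (iv1 F154639) (iv6 D98348) D98347 (iv5 D185523) F135337 F144050
theorem F287799 : act 1 n98346 = n185523 := d15_1 (iv0 F287795) F287797 (iv2 F287793)
theorem F287800 : act 2 n185523 = n182265 := d15_3 (iv0 D182265) (iv0 F283621) (iv7 F287797)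
theorem F287801 : act 5 n182265 = n183904 := d2_2 D185523 F287800 (iv2 F285745)
theorem F287802 : act 7 n182265 = n185522 := d4_2 (iv7 F287797) F287800 F287793
def n185524 : Q := act 4 n88376
theorem D185524 : act 4 n88376 = n185524 := rfl
def n185525 : Q := act 6 n88376
theorem D185525 : act 6 n88376 = n185525 := rfl
theorem F287804 : act 5 n185525 = n183895 := d12_1 D185525 (iv6 D183895) (iv5 D87720) (iv6 F63569) D88376
def n185529 : Q := act 0 n88378
theorem D185529 : act 0 n88378 = n185529 := rfl
theorem F287811 : act 1 n163441 = n185529 := d15_0 (iv0 D185529) F135347 D163441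
def n185530 : Q := act 1 n88378
theorem D185530 : act 1 n88378 = n185530 := rfl
def n185531 : Q := act 2 n88378
theorem D185531 : act 2 n88378 = n185531 := rfl
theorem F287812 : act 3 n185531 = n163448 := d0_2 D88378 D185531 (iv2 D163448) (iv3 D78548) (iv2 F63575)
theorem F287813 : act 4 n185531 = n165797 := d1_2 (iv4 F135346) D185531 (iv2 D165797)
theorem F287814 : act 7 n185531 = n163441 := d4_2 (iv7 F135347) D185531 (iv2 D163441)
theorem F287815 : act 1 n185531 = n163439 := d15_0 (iv0 D163439) (iv7 F135347) D185531
theorem F287816 : act 1 n185530 = n163441 := d15_1 D185530 (iv7 F287814) (iv2 D185531)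
theorem F287817 : act 1 n163440 = n185531 := d15_1 D163440 F287814 (iv2 D163441)
def n185532 : Q := act 6 n88378
theorem D185532 : act 6 n88378 = n185532 := rfl
def n185533 : Q := act 5 n88379
theorem D185533 : act 5 n88379 = n185533 := rfl
theorem F287821 : act 2 n185533 = n163452 := d2_1 D185533 (iv5 D163452) (iv2 F135348)
theorem F287824 : act 1 n185533 = n121696 := d17_6 (iv1 F197849) (iv5 D58168) (iv1 F120717) (iv5 F63580) (iv4 F135349) D185533 (iv5 D121696) D121694 (iv4 F197846)
def n185534 : Q := act 1 n88381
theorem D185534 : act 1 n88381 = n185534 := rfl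
theorem F287825 : act 4 n91009 = n185534 := d20_6 (iv4 D9719) (iv1 F16827) D9494 D20122 D42632 D91009 (iv1 D185534) F135358 (iv3 D42593) F31924
def n185536 : Q := act 5 n88381
theorem D185536 : act 5 n88381 = n185536 := rfl
theorem F287835 : act 3 n185536 = n88382 := d6_1 D185536 (iv5 D88382) D88381
theorem F287836 : act 7 n185536 = n93210 := d13_2 (iv7 F135359) D185536 (iv5 D93210)
def n185537 : Q := act 6 n88381
theorem D185537 : act 6 n88381 = n185537 := rfl
theorem F287837 : act 3 n185537 = n88383 := d7_1 D185537 (iv6 D88383) D88381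
def n185541 : Q := act 3 n88384
theorem D185541 : act 3 n88384 = n185541 := rfl
theorem F287842 : act 5 n185541 = n88710 := d6_2 (iv5 F276232) D185541 (iv3 F276231)
theorem F287843 : act 4 n185541 = n89648 := d20_6 (iv4 D9577) (iv1 F17553) D19410 D41264 D88384 D185541 (iv1 D89648) (iv4 F67187) (iv3 D42877) (iv1 D20255)
def n185546 : Q := act 4 n88385
theorem D185546 : act 4 n88385 = n185546 := rfl
theorem F287847 : act 0 n92371 = n185546 := d20_10 (iv4 D185546) (iv1 D88385) (iv4 F67619) (iv3 D43175) (iv1 D20365) D20366 F32332 D20372 D43196 D92371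
theorem F287848 : act 3 n89647 = n185546 := d20_5 (iv4 D9652) (iv1 F17506) D19712 D41871 D89647 (iv4 D185546) (iv1 D88385) (iv4 F67619) (iv3 D43175) (iv1 D20365)
def n185549 : Q := act 5 n88386
theorem D185549 : act 5 n88386 = n185549 := rfl
theorem F287849 : act 2 n185549 = n88387 := d2_1 D185549 (iv5 D88387) D88386
theorem F287850 : act 3 n185549 = n181927 := d6_1 D185549 (iv5 D181927) (iv3 F135368)
def n185552 : Q := act 4 n88387
theorem D185552 : act 4 n88387 = n185552 := rfl
theorem F287851 : act 3 n185552 = n158050 := d5_1 D185552 F257888 (iv3 D163616) (iv4 F119792) (iv3 F135369)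
theorem F287852 : act 5 n158048 = n185552 := d19_1 F254195 (iv4 D185552) F135369 (iv1 F133280) (iv5 D86872) F61356 F30749 F16807 F7521 (iv4 F12252) F12251 (iv1 F5559) D6120 D12912 D26981 F254087 (iv5 D39928) D39927 D86286
def n185554 : Q := act 0 n88388
theorem D185554 : act 0 n88388 = n185554 := rfl
def n185555 : Q := act 1 n88388
theorem D185555 : act 1 n88388 = n185555 := rfl
theorem F287854 : act 1 n185555 = n181935 := d15_1 D185555 (iv7 D181935) (iv2 F135370)
def n185556 : Q := act 7 n88388
theorem D185556 : act 7 n88388 = n185556 := rfl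
theorem F287855 : act 2 n185556 = n181935 := d4_1 D185556 (iv7 D181935) (iv2 F135370)
theorem F287856 : act 1 n181935 = n185554 := d15_0 (iv0 D185554) D185556 F287855
theorem F287857 : act 1 n181934 = n185556 := d15_1 D181934 (iv7 D185556) F135370
theorem F287858 : act 1 n185556 = n181933 := d15_0 (iv0 D181933) D181935 (iv2 F287855)
def n185557 : Q := act 0 n88391
theorem D185557 : act 0 n88391 = n185557 := rfl
theorem F287859 : act 1 n163448 = n185557 := d15_0 (iv0 D185557) F135381 D163448
def n185558 : Q := act 1 n88391
theorem D185558 : act 1 n88391 = n185558 := rfl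
def n185559 : Q := act 2 n88391
theorem D185559 : act 2 n88391 = n185559 := rfl
theorem F287860 : act 3 n185559 = n163441 := d0_2 D88391 D185559 (iv2 D163441) (iv3 D78545) (iv2 F63587)
theorem F287861 : act 4 n185559 = n160406 := d1_2 (iv4 F135380) D185559 (iv2 D160406)
theorem F287862 : act 7 n185559 = n163448 := d4_2 (iv7 F135381) D185559 (iv2 D163448)
theorem F287863 : act 1 n185559 = n163446 := d15_0 (iv0 D163446) (iv7 F135381) D185559
theorem F287864 : act 1 n185558 = n163448 := d15_1 D185558 (iv7 F287862) (iv2 D185559)
theorem F287865 : act 1 n163447 = n185559 := d15_1 D163447 F287862 (iv2 D163448)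
def n185560 : Q := act 6 n88391
theorem D185560 : act 6 n88391 = n185560 := rfl
theorem F287866 : act 3 n185560 = n88392 := d7_1 D185560 (iv6 D88392) D88391
theorem F287867 : act 4 n185560 = n160408 := d10_1 D185560 (iv6 D160408) (iv4 F135380)
def n185561 : Q := act 5 n88392
theorem D185561 : act 5 n88392 = n185561 := rfl
theorem F287868 : act 2 n185561 = n163445 := d2_1 D185561 (iv5 D163445) (iv2 F135382)
def n185562 : Q := act 7 n88392
theorem D185562 : act 7 n88392 = n185562 := rfl
theorem F287870 : act 4 n185562 = n88394 := d11_1 D185562 (iv7 D88394) (iv4 F135383)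
theorem F287872 : act 1 n121791 = n185562 := d15_1 F257140 (iv7 D185562) F135382
def n185564 : Q := act 4 n88395
theorem D185564 : act 4 n88395 = n185564 := rfl
theorem F287877 : act 2 n185564 = n104985 := d1_1 D185564 F160882 F141633
theorem F287881 : act 1 n185564 = n182740 := d15_0 (iv0 D182740) (iv7 F160883) (iv2 F287877)
def n185565 : Q := act 5 n88395
theorem D185565 : act 5 n88395 = n185565 := rfl
theorem F287883 : act 7 n185565 = n181923 := d13_2 (iv7 F141634) D185565 (iv5 D181923)
def n185567 : Q := act 5 n88396
theorem D185567 : act 5 n88396 = n185567 := rfl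
theorem F287885 : act 2 n185567 = n181923 := d2_1 D185567 (iv5 D181923) (iv2 F141632)
def n185569 : Q := act 5 n88397
theorem D185569 : act 5 n88397 = n185569 := rfl
theorem F287889 : act 2 n185569 = n88398 := d2_1 D185569 (iv5 D88398) D88397
theorem F287890 : act 7 n185569 = n181927 := d13_2 (iv7 F135389) D185569 (iv5 D181927)
theorem F287891 : act 1 n181929 = n185569 := d15_1 D181929 F287890 F283225
theorem F287892 : act 1 n185569 = n181928 := d15_0 (iv0 D181928) (iv7 F135394) (iv2 F287889)
def n185570 : Q := act 6 n88397
theorem D185570 : act 6 n88397 = n185570 := rfl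
theorem F287893 : act 2 n185570 = n88399 := d3_1 D185570 (iv6 D88399) D88397
def n185571 : Q := act 0 n88398
theorem D185571 : act 0 n88398 = n185571 := rfl
theorem F287894 : act 1 n181927 = n185571 := d15_0 (iv0 D185571) F135394 (iv2 F283225)
def n185572 : Q := act 1 n88398
theorem D185572 : act 1 n88398 = n185572 := rfl
theorem F287895 : act 1 n185572 = n181927 := d15_1 D185572 (iv7 F287890) F287889
def n185573 : Q := act 4 n88398
theorem D185573 : act 4 n88398 = n185573 := rfl
theorem F287896 : act 7 n185573 = n181930 := d11_2 (iv7 F135394) D185573 (iv4 D181930)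
def n185581 : Q := act 7 n88400
theorem D185581 : act 7 n88400 = n185581 := rfl
theorem F287900 : act 6 n185581 = n181935 := d14_1 D185581 (iv7 D181935) (iv6 D86897) (iv7 F63593) D88400
def n185593 : Q := act 3 n88408
theorem D185593 : act 3 n88408 = n185593 := rfl
theorem F287915 : act 2 n185593 = n92032 := d0_1 D185593 (iv3 D92032) F135622 F138231 F138408
theorem F287916 : act 4 n185593 = n90211 := d20_6 (iv4 D19835) F14529 D19416 D41274 D88408 D185593 (iv1 D90211) F65098 (iv3 D41280) (iv1 F31638)
def n185594 : Q := act 4 n88408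
theorem D185594 : act 4 n88408 = n185594 := rfl
theorem F287917 : act 2 n185594 = n105043 := d1_1 D185594 F160959 F138408
theorem F287918 : act 7 n185594 = n182456 := d11_2 F138410 D185594 F283993
theorem F287919 : act 1 n182455 = n185594 := d15_1 D182455 F287918 (iv2 D182456)
theorem F287920 : act 3 n182466 = n185594 := d0_0 F287917 (iv3 D105043) F135644 D87117 D182466
theorem F287921 : act 1 n185594 = n182454 := d15_0 (iv0 D182454) (iv7 F160960) (iv2 F287917)
def n185595 : Q := act 5 n88408
theorem D185595 : act 5 n88408 = n185595 := rfl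
def n185596 : Q := act 6 n88408
theorem D185596 : act 6 n88408 = n185596 := rfl
def n185597 : Q := act 5 n88409
theorem D185597 : act 5 n88409 = n185597 := rfl
def n185598 : Q := act 6 n88409
theorem D185598 : act 6 n88409 = n185598 := rfl
def n185599 : Q := act 5 n88410
theorem D185599 : act 5 n88410 = n185599 := rfl
theorem F287923 : act 2 n185599 = n88411 := d2_1 D185599 (iv5 D88411) D88410
def n185600 : Q := act 6 n88410
theorem D185600 : act 6 n88410 = n185600 := rfl
theorem F287924 : act 2 n185600 = n88412 := d3_1 D185600 (iv6 D88412) D88410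
def n185601 : Q := act 0 n88411
theorem D185601 : act 0 n88411 = n185601 := rfl
def n185602 : Q := act 1 n88411
theorem D185602 : act 1 n88411 = n185602 := rfl
def n185603 : Q := act 4 n88411
theorem D185603 : act 4 n88411 = n185603 := rfl
def n185604 : Q := act 6 n88411
theorem D185604 : act 6 n88411 = n185604 := rfl
theorem F287925 : act 3 n185604 = n88413 := d7_1 D185604 (iv6 D88413) (iv3 F135403)
def n185609 : Q := act 0 n88413
theorem D185609 : act 0 n88413 = n185609 := rfl
def n185610 : Q := act 1 n88413
theorem D185610 : act 1 n88413 = n185610 := rfl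
def n185611 : Q := act 5 n88413
theorem D185611 : act 5 n88413 = n185611 := rfl
theorem F287929 : act 6 n185611 = n88416 := d12_2 D88413 D185611 (iv5 D88416) (iv6 D41276) D41275
def n185612 : Q := act 7 n88413
theorem D185612 : act 7 n88413 = n185612 := rfl
def n185619 : Q := act 1 n88416
theorem D185619 : act 1 n88416 = n185619 := rfl
theorem F287936 : act 5 n185619 = n104154 := d17_7 F68729 F68728 (iv1 D41272) (iv5 F31079) (iv4 F63597) D88416 D185619 (iv0 F159666) F75850
def n185625 : Q := act 2 n88427
theorem D185625 : act 2 n88427 = n185625 := rfl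
theorem F287945 : act 7 n88428 = n185625 := d15_2 (iv0 D88427) D88428 (iv2 D185625)
def n185626 : Q := act 4 n88427
theorem D185626 : act 4 n88427 = n185626 := rfl
def n185627 : Q := act 5 n88427
theorem D185627 : act 5 n88427 = n185627 := rfl
def n185628 : Q := act 6 n88427
theorem D185628 : act 6 n88427 = n185628 := rfl
def n185629 : Q := act 7 n88427
theorem D185629 : act 7 n88427 = n185629 := rfl
theorem F287946 : act 2 n185629 = n88428 := d4_1 D185629 F287945 (iv2 D185625)
def n185630 : Q := act 3 n88428
theorem D185630 : act 3 n88428 = n185630 := rfl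
def n185631 : Q := act 4 n88428
theorem D185631 : act 4 n88428 = n185631 := rfl
theorem F287947 : act 3 n185631 = n90187 := d20_3 F142542 (iv1 F138333) D185631 (iv1 F138651) F65274 F31975 F135634 D42989 (iv3 F138776) (iv1 F142544)
def n185632 : Q := act 5 n88428
theorem D185632 : act 5 n88428 = n185632 := rfl
def n185633 : Q := act 6 n88428
theorem D185633 : act 6 n88428 = n185633 := rfl
def n185634 : Q := act 5 n88429
theorem D185634 : act 5 n88429 = n185634 := rfl
theorem F287948 : act 2 n185634 = n88430 := d2_1 D185634 (iv5 D88430) D88429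
def n185635 : Q := act 6 n88429
theorem D185635 : act 6 n88429 = n185635 := rfl
theorem F287950 : act 3 n185635 = n99906 := d7_1 D185635 F153833 F135857
def n185636 : Q := act 0 n88430
theorem D185636 : act 0 n88430 = n185636 := rfl
def n185637 : Q := act 1 n88430
theorem D185637 : act 1 n88430 = n185637 := rfl
def n185638 : Q := act 4 n88430
theorem D185638 : act 4 n88430 = n185638 := rfl
def n185639 : Q := act 6 n88430
theorem D185639 : act 6 n88430 = n185639 := rfl
theorem F287951 : act 3 n185639 = n88432 := d7_1 D185639 (iv6 D88432) (iv3 F135419)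
def n185643 : Q := act 0 n88432
theorem D185643 : act 0 n88432 = n185643 := rfl
def n185644 : Q := act 1 n88432
theorem D185644 : act 1 n88432 = n185644 := rfl
def n185645 : Q := act 5 n88432
theorem D185645 : act 5 n88432 = n185645 := rfl
theorem F287954 : act 6 n185645 = n88433 := d12_2 D88432 D185645 (iv5 D88433) (iv6 D41282) D41281
def n185646 : Q := act 7 n88432
theorem D185646 : act 7 n88432 = n185646 := rfl
def n185647 : Q := act 4 n88433
theorem D185647 : act 4 n88433 = n185647 := rfl
theorem F287956 : act 5 n185647 = n91359 := d9_2 D88433 D185647 (iv4 D91359) (iv5 D42756) F65651 (iv5 F34930) F67079 (iv5 F140569) (iv4 F140571) (iv5 D88023) (iv4 D41099) (iv5 D19339) (iv4 F17183) D22353 (iv4 F63605)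
theorem F287957 : act 7 n185647 = n99898 := d11_2 (iv7 F140373) D185647 F153819
def n185648 : Q := act 2 n88434
theorem D185648 : act 2 n88434 = n185648 := rfl
theorem F287960 : act 7 n88435 = n185648 := d15_2 (iv0 D88434) D88435 (iv2 D185648)
def n185649 : Q := act 3 n88434
theorem D185649 : act 3 n88434 = n185649 := rfl
theorem F287961 : act 4 n185649 = n95397 := d20_6 F64935 F31699 F31180 D41283 D88434 D185649 (iv1 D95397) F70072 (iv3 D42060) D42059
def n185650 : Q := act 5 n88434
theorem D185650 : act 5 n88434 = n185650 := rfl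
theorem F287962 : act 4 n185650 = n102971 := d19_2 D88434 D185650 (iv3 D102971) (iv1 D47750) (iv5 D22975) F17636 (iv3 D5074) F3384 D4329 F6224 (iv3 F6347) F16839 (iv5 D4290) D4289 D9477 (iv1 F17490) (iv5 F31181) F31180 D41283
def n185651 : Q := act 6 n88434
theorem D185651 : act 6 n88434 = n185651 := rfl
def n185652 : Q := act 7 n88434
theorem D185652 : act 7 n88434 = n185652 := rfl
theorem F287963 : act 2 n185652 = n88435 := d4_1 D185652 F287960 (iv2 D185648)
def n185653 : Q := act 3 n88435
theorem D185653 : act 3 n88435 = n185653 := rfl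
theorem F287964 : act 0 n88444 = n185653 := d20_4 (iv4 D43018) D43015 F67376 D88444 (iv3 D185653) (iv4 F158199) F158200 (iv4 F138411) (iv3 D90064) F67378
theorem F287965 : act 1 n182591 = n185653 := d15_0 (iv0 F287964) (iv7 F138346) (iv2 F284090)
def n185654 : Q := act 5 n88435
theorem D185654 : act 5 n88435 = n185654 := rfl
def n185655 : Q := act 6 n88435
theorem D185655 : act 6 n88435 = n185655 := rfl
def n185656 : Q := act 5 n88436
theorem D185656 : act 5 n88436 = n185656 := rfl
theorem F287966 : act 2 n185656 = n88437 := d2_1 D185656 (iv5 D88437) D88436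
def n185657 : Q := act 6 n88436
theorem D185657 : act 6 n88436 = n185657 := rfl
theorem F287967 : act 2 n185657 = n88438 := d3_1 D185657 (iv6 D88438) D88436
def n185658 : Q := act 0 n88437
theorem D185658 : act 0 n88437 = n185658 := rfl
def n185659 : Q := act 1 n88437
theorem D185659 : act 1 n88437 = n185659 := rfl
def n185660 : Q := act 6 n88437
theorem D185660 : act 6 n88437 = n185660 := rfl
theorem F287968 : act 3 n185660 = n88439 := d7_1 D185660 (iv6 D88439) (iv3 F135424)
def n185665 : Q := act 0 n88439
theorem D185665 : act 0 n88439 = n185665 := rfl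
def n185666 : Q := act 1 n88439
theorem D185666 : act 1 n88439 = n185666 := rfl
def n185667 : Q := act 5 n88439
theorem D185667 : act 5 n88439 = n185667 := rfl
theorem F287973 : act 6 n185667 = n88442 := d12_2 D88439 D185667 (iv5 D88442) (iv6 D41285) D41284
def n185668 : Q := act 7 n88439
theorem D185668 : act 7 n88439 = n185668 := rfl
def n185670 : Q := act 1 n88442
theorem D185670 : act 1 n88442 = n185670 := rfl
theorem F287976 : act 5 n93486 = n185670 := d21_6 D19421 D41290 F63609 D42876 F70665 D93486 (iv1 D185670) (iv5 D88442) (iv6 D41285) (iv1 D19419)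
def n185673 : Q := act 1 n88444
theorem D185673 : act 1 n88444 = n185673 := rfl
theorem F287981 : act 4 n182316 = n185673 := d20_6 (iv4 D40485) (iv1 F36843) (iv4 F76403) (iv3 F148501) (iv1 F148506) D182316 (iv1 D185673) F135428 (iv3 F135673) (iv1 D87146)
def n185682 : Q := act 2 n88447
theorem D185682 : act 2 n88447 = n185682 := rfl
theorem F287985 : act 3 n185682 = n182591 := d0_2 D88447 D185682 F284090 (iv3 D90041) (iv2 F133950)
def n185683 : Q := act 5 n88447
theorem D185683 : act 5 n88447 = n185683 := rfl
def n185684 : Q := act 6 n88447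
theorem D185684 : act 6 n88447 = n185684 := rfl
def n185691 : Q := act 4 n88450
theorem D185691 : act 4 n88450 = n185691 := rfl
theorem F287988 : act 2 n185691 = n88453 := d1_1 D185691 (iv4 D88453) (iv2 F135429)
theorem F287989 : act 5 n185691 = n88453 := d16_1 D185691 (iv4 D88453) (iv5 D41289) F31080 (iv5 F14540) (iv4 F31655) D42083 F64993 (iv2 F135429)
def n185692 : Q := act 6 n88450
theorem D185692 : act 6 n88450 = n185692 := rfl
theorem F287990 : act 2 n185692 = n88454 := d3_1 D185692 (iv6 D88454) (iv2 F135429)
def n185696 : Q := act 3 n88452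
theorem D185696 : act 3 n88452 = n185696 := rfl
theorem F287993 : act 4 n176848 = n185696 := d19_2 D84307 D176848 (iv3 D185696) (iv1 D88452) (iv5 D41289) F31080 (iv3 D9143) F6013 (iv5 F7517) (iv4 D5069) (iv3 F7513) (iv1 F16843) (iv5 D8969) D8968 F17567 (iv1 F17565) D20361 (iv4 F32316) D38877
def n185699 : Q := act 0 n88453
theorem D185699 : act 0 n88453 = n185699 := rfl
def n185700 : Q := act 1 n88453
theorem D185700 : act 1 n88453 = n185700 := rfl
def n185701 : Q := act 3 n88453
theorem D185701 : act 3 n88453 = n185701 := rfl
theorem F287995 : act 4 n185701 = n88459 := d5_2 D88453 D185701 (iv3 D88459) (iv4 D41292) (iv3 F63608)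
def n185702 : Q := act 6 n88453
theorem D185702 : act 6 n88453 = n185702 := rfl
theorem F287996 : act 4 n185702 = n88454 := d10_1 D185702 (iv6 D88454) D88453
def n185703 : Q := act 0 n88454
theorem D185703 : act 0 n88454 = n185703 := rfl
def n185704 : Q := act 1 n88454
theorem D185704 : act 1 n88454 = n185704 := rfl
def n185705 : Q := act 7 n88454
theorem D185705 : act 7 n88454 = n185705 := rfl
theorem F287997 : act 3 n185705 = n88463 := d8_1 D185705 (iv7 D88463) (iv3 F135430)
def n185708 : Q := act 2 n88455
theorem D185708 : act 2 n88455 = n185708 := rfl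
theorem F287998 : act 5 n185708 = n91705 := d2_2 (iv5 F135431) D185708 (iv2 D91705)
def n185715 : Q := act 0 n88457
theorem D185715 : act 0 n88457 = n185715 := rfl
def n185716 : Q := act 1 n88457
theorem D185716 : act 1 n88457 = n185716 := rfl
def n185717 : Q := act 2 n88457
theorem D185717 : act 2 n88457 = n185717 := rfl
def n185718 : Q := act 6 n88457
theorem D185718 : act 6 n88457 = n185718 := rfl
def n185723 : Q := act 0 n88459
theorem D185723 : act 0 n88459 = n185723 := rfl
def n185724 : Q := act 1 n88459
theorem D185724 : act 1 n88459 = n185724 := rfl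
def n185725 : Q := act 2 n88459
theorem D185725 : act 2 n88459 = n185725 := rfl
theorem F288004 : act 3 n185725 = n166602 := d0_2 D88459 D185725 F262199 F122746 (iv2 F63611)
theorem F288005 : act 5 n185725 = n166555 := d2_2 (iv5 F135433) D185725 (iv2 D166555)
def n185726 : Q := act 6 n88459
theorem D185726 : act 6 n88459 = n185726 := rfl
theorem F288006 : act 3 n185726 = n88460 := d7_1 D185726 (iv6 D88460) D88459
def n185727 : Q := act 0 n88460
theorem D185727 : act 0 n88460 = n185727 := rfl
def n185728 : Q := act 1 n88460
theorem D185728 : act 1 n88460 = n185728 := rfl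
theorem F288007 : act 1 n185728 = n166613 := d15_1 D185728 (iv7 D166613) (iv2 F135434)
def n185729 : Q := act 5 n88460
theorem D185729 : act 5 n88460 = n185729 := rfl
theorem F288008 : act 2 n185729 = n166612 := d2_1 D185729 (iv5 D166612) (iv2 F135434)
theorem F288009 : act 6 n185729 = n166558 := d12_2 D88460 D185729 (iv5 D166558) (iv6 D79938) (iv5 F63612)
def n185730 : Q := act 7 n88460
theorem D185730 : act 7 n88460 = n185730 := rfl
theorem F288010 : act 2 n185730 = n166613 := d4_1 D185730 (iv7 D166613) (iv2 F135434)
theorem F288011 : act 4 n185730 = n88463 := d11_1 D185730 (iv7 D88463) (iv4 F135435)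
theorem F288012 : act 1 n166613 = n185727 := d15_0 (iv0 D185727) D185730 F288010
theorem F288013 : act 1 n166611 = n185730 := d15_1 D166611 (iv7 D185730) F135434
theorem F288014 : act 1 n185730 = n166610 := d15_0 (iv0 D166610) D166613 (iv2 F288010)
def n185731 : Q := act 2 n88461
theorem D185731 : act 2 n88461 = n185731 := rfl
theorem F288015 : act 7 n88462 = n185731 := d15_2 (iv0 D88461) D88462 (iv2 D185731)
def n185732 : Q := act 3 n88461
theorem D185732 : act 3 n88461 = n185732 := rfl
def n185733 : Q := act 4 n88461
theorem D185733 : act 4 n88461 = n185733 := rfl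
def n185734 : Q := act 5 n88461
theorem D185734 : act 5 n88461 = n185734 := rfl
def n185735 : Q := act 6 n88461
theorem D185735 : act 6 n88461 = n185735 := rfl
def n185736 : Q := act 7 n88461
theorem D185736 : act 7 n88461 = n185736 := rfl
theorem F288016 : act 2 n185736 = n88462 := d4_1 D185736 F288015 (iv2 D185731)
def n185737 : Q := act 3 n88462
theorem D185737 : act 3 n88462 = n185737 := rfl
def n185738 : Q := act 4 n88462
theorem D185738 : act 4 n88462 = n185738 := rfl
def n185739 : Q := act 5 n88462
theorem D185739 : act 5 n88462 = n185739 := rfl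
def n185740 : Q := act 6 n88462
theorem D185740 : act 6 n88462 = n185740 := rfl
def n185741 : Q := act 3 n88465
theorem D185741 : act 3 n88465 = n185741 := rfl
theorem F288017 : act 7 n185741 = n92699 := d8_2 (iv7 F160272) D185741 (iv3 D92699)
theorem F288018 : act 0 n102559 = n185741 := d20_4 (iv4 F73563) D99652 (iv4 F153401) D102559 (iv3 D185741) (iv4 F135438) F146956 F146952 F143145 (iv1 F139324)
def n185742 : Q := act 5 n88465
theorem D185742 : act 5 n88465 = n185742 := rfl
theorem F288019 : act 2 n185742 = n92696 := d2_1 D185742 (iv5 D92696) (iv2 F160271)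
theorem F288020 : act 7 n185742 = n92701 := d13_2 (iv7 F160272) D185742 (iv5 D92701)
theorem F288021 : act 0 n185742 = n102574 := d17_2 (iv1 F135444) D185742 F157533 F145195 (iv5 F76222) (iv0 F160588) (iv5 D104788) F76199 F75101
theorem F288022 : act 1 n113689 = n102574 := d15_0 (iv0 F288021) F288020 F176891
theorem F288023 : act 0 n113751 = n94178 := d21_10 (iv5 F157533) (iv1 F288022) F176890 F205474 (iv1 F144871) (iv6 F251420) (iv5 D159609) F193468 (iv5 D114092) (iv6 F177003)
theorem F288024 : act 4 n97357 = n93939 := d18_3 F288023 F145195 D97357 F251942 (iv4 F204763) (iv0 D113435) F82738 D52520 D113751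
theorem F288025 : act 0 n89863 = n96972 := d20_4 (iv4 D19778) D19776 D41980 D89863 F149569 F177004 F288023 F145195 F71720 F62929
theorem F288026 : act 1 n113746 = n94178 := d15_0 (iv0 F288023) (iv7 F204777) F204776
theorem F288027 : act 5 n97357 = n103119 := d17_1 D97357 (iv1 F160599) (iv5 D104790) (iv4 F135440) F135441 F94267 D113746 F288026 F145195
theorem F288028 : act 7 n95800 = n97357 := d13_0 F288027 F251823 (iv5 F160601)
theorem F288029 : act 5 n103676 = n97354 := d21_6 F288027 (iv1 F160599) (iv5 D104790) (iv6 F159105) (iv1 F159106) D103676 (iv1 D97354) (iv5 D45467) D45468 D97357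
theorem F288030 : act 3 n97354 = n95969 := d6_1 F288029 (iv5 F251253) F251252
theorem F288031 : act 1 n93855 = n94326 := d17_8 F288025 F160245 (iv1 F160244) (iv5 D96222) F70615 (iv5 F106078) D148750 (iv5 F233526) F145467
theorem F288032 : act 1 n94318 = n93855 := d15_0 F288031 (iv7 D94326) (iv2 F145462)
def n185743 : Q := act 6 n88465
theorem D185743 : act 6 n88465 = n185743 := rfl
theorem F288033 : act 2 n185743 = n92697 := d3_1 D185743 (iv6 D92697) (iv2 F160271)
theorem F288034 : act 4 n185743 = n95317 := d10_1 D185743 (iv6 D95317) F135438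
theorem F288035 : act 7 n185743 = n164484 := d14_2 (iv7 F160272) D185743 F259223 F205481 (iv6 D92702)
theorem F288036 : act 5 n185743 = n92440 := d21_6 (iv5 F40016) (iv1 F40019) (iv5 F32554) D43360 (iv1 F135444) D185743 (iv1 D92440) (iv5 D43233) (iv6 D20395) D20392
theorem F288037 : act 1 n88501 = n164484 := d15_1 (iv0 F161695) (iv7 F288035) F288033
theorem F288038 : act 0 n185743 = n88508 := d20_1 (iv4 F288034) F135505 F75520 F62974 D23549 F36658 F66744 (iv4 F70431) (iv3 F147721) F161615
def n185744 : Q := act 3 n88467
theorem D185744 : act 3 n88467 = n185744 := rfl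
theorem F288039 : act 5 n185744 = n90259 := d6_2 (iv5 F135447) D185744 (iv3 D90259)
theorem F288040 : act 7 n185744 = n92723 := d8_2 (iv7 F135446) D185744 (iv3 D92723)
def n185745 : Q := act 6 n88467
theorem D185745 : act 6 n88467 = n185745 := rfl
theorem F288041 : act 4 n185745 = n88468 := d10_1 D185745 (iv6 D88468) D88467
theorem F288042 : act 5 n185745 = n128182 := d12_1 D185745 (iv6 D128182) (iv5 F138813) F138811 (iv5 F135447)
def n185748 : Q := act 4 n88469
theorem D185748 : act 4 n88469 = n185748 := rfl
theorem F288043 : act 3 n185748 = n90430 := d5_1 D185748 (iv4 F285521) (iv3 F285523) D183847 F285641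
theorem F288044 : act 0 n185748 = n90419 := d20_1 D185748 (iv4 F142880) (iv3 D92699) (iv1 D43362) F32558 F15186 F35616 D19432 D41296 D88469
theorem F288045 : act 0 n185741 = n185748 := d20_10 (iv4 D185748) (iv1 F135448) F68189 (iv3 D43392) F66710 (iv3 F32626) (iv4 F33423) D44524 F135438 D185741
def n185749 : Q := act 5 n88469
theorem D185749 : act 5 n88469 = n185749 := rfl
def n185750 : Q := act 6 n88469
theorem D185750 : act 6 n88469 = n185750 := rfl
def n185751 : Q := act 5 n88470
theorem D185751 : act 5 n88470 = n185751 := rfl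
def n185753 : Q := act 0 n88471
theorem D185753 : act 0 n88471 = n185753 := rfl
theorem F288046 : act 1 n92756 = n185753 := d15_0 (iv0 D185753) (iv7 F135549) (iv2 F143043)
def n185754 : Q := act 1 n88471
theorem D185754 : act 1 n88471 = n185754 := rfl
theorem F288047 : act 1 n185754 = n92756 := d15_1 D185754 F143045 F139215
def n185755 : Q := act 4 n88471
theorem D185755 : act 4 n88471 = n185755 := rfl
def n185756 : Q := act 6 n88471
theorem D185756 : act 6 n88471 = n185756 := rfl
theorem F288048 : act 3 n185756 = n88474 := d7_1 D185756 (iv6 D88474) (iv3 F135450)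
def n185757 : Q := act 0 n88472
theorem D185757 : act 0 n88472 = n185757 := rfl
def n185758 : Q := act 1 n88472
theorem D185758 : act 1 n88472 = n185758 := rfl
def n185759 : Q := act 3 n88473
theorem D185759 : act 3 n88473 = n185759 := rfl
def n185760 : Q := act 6 n88473
theorem D185760 : act 6 n88473 = n185760 := rfl
theorem F288050 : act 4 n185760 = n88474 := d10_1 D185760 (iv6 D88474) D88473
def n185762 : Q := act 1 n88474
theorem D185762 : act 1 n88474 = n185762 := rfl
theorem F288052 : act 1 n185762 = n88496 := d15_1 D185762 (iv7 D88496) (iv2 F135454)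
theorem F288053 : act 5 n114449 = n185762 := d21_0 (iv1 D185762) (iv5 F145394) (iv6 D94262) (iv1 D44064) F33116 (iv5 D16900) D16897 (iv5 F65521) D52825 D114449
theorem F288054 : act 6 n182287 = n114449 := d21_5 (iv5 D20931) (iv1 F63210) D40432 D87038 D182287 F288053 (iv1 D185762) (iv5 F145394) (iv6 D94262) (iv1 D44064)
def n185763 : Q := act 7 n88474
theorem D185763 : act 7 n88474 = n185763 := rfl
def n185764 : Q := act 0 n88475
theorem D185764 : act 0 n88475 = n185764 := rfl
theorem F288059 : act 3 n185764 = n185052 := d20_5 (iv4 D41314) (iv1 F31100) D41299 D88475 D185764 (iv4 D185052) (iv1 D88204) (iv4 F135138) F135137 (iv1 F65432)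
theorem F288060 : act 1 n90457 = n185764 := d15_0 (iv0 D185764) F135456 (iv2 F139217)
def n185765 : Q := act 1 n88475
theorem D185765 : act 1 n88475 = n185765 := rfl
def n185766 : Q := act 2 n88475
theorem D185766 : act 2 n88475 = n185766 := rfl
theorem F288061 : act 3 n185766 = n88505 := d0_2 D88475 D185766 (iv2 D88505) (iv3 D41311) (iv2 F63621)
theorem F288063 : act 5 n185766 = n94242 := d2_2 F144671 D185766 F145314
theorem F288064 : act 7 n185766 = n90457 := d4_2 (iv7 F135456) D185766 F139217
theorem F288065 : act 1 n185766 = n185757 := d15_0 (iv0 D185757) (iv7 F135456) D185766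
theorem F288066 : act 1 n185765 = n90457 := d15_1 D185765 (iv7 F288064) (iv2 D185766)
theorem F288067 : act 1 n185758 = n185766 := d15_1 D185758 F288064 F139217
def n185767 : Q := act 4 n88476
theorem D185767 : act 4 n88476 = n185767 := rfl
theorem F288068 : act 2 n185767 = n92781 := d1_1 D185767 (iv4 D92781) (iv2 F160562)
theorem F288069 : act 3 n185767 = n183764 := d5_1 D185767 F285545 (iv3 F158374) (iv4 F143148) (iv3 F143149)
theorem F288070 : act 7 n185767 = n92777 := d11_2 (iv7 F160563) D185767 (iv4 D92777)
theorem F288071 : act 0 n185767 = n102049 := d20_1 D185767 F157000 (iv3 F153479) (iv1 D92704) (iv3 D43363) F35635 F63129 (iv4 F63138) D41300 D88476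
theorem F288072 : act 0 n183753 = n185767 := d20_10 (iv4 D185767) (iv1 F135457) (iv4 F73268) (iv3 F147047) (iv1 F147051) (iv3 F158400) F153846 F285642 (iv4 D183847) F285523
def n185768 : Q := act 5 n88476
theorem D185768 : act 5 n88476 = n185768 := rfl
theorem F288073 : act 2 n185768 = n92782 := d2_1 D185768 (iv5 D92782) (iv2 F160562)
theorem F288074 : act 3 n185768 = n92804 := d6_1 D185768 (iv5 D92804) (iv3 F143149)
theorem F288075 : act 7 n185768 = n92778 := d13_2 (iv7 F160563) D185768 (iv5 D92778)
def n185769 : Q := act 5 n88477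
theorem D185769 : act 5 n88477 = n185769 := rfl
theorem F288076 : act 2 n185769 = n92778 := d2_1 D185769 (iv5 D92778) (iv2 F160564)
theorem F288077 : act 7 n185769 = n92782 := d13_2 (iv7 F160565) D185769 (iv5 D92782)
theorem F288078 : act 0 n185769 = n88482 := d21_1 D185769 F145131 (iv6 D94154) F157569 (iv6 D43861) F47734 (iv1 F68224) (iv5 D43401) D43402 F135459
theorem F288079 : act 1 n185768 = n88482 := d15_0 (iv0 F288078) F288077 (iv2 F288073)
theorem F288080 : act 1 n92778 = n88530 := d15_0 F287623 (iv7 F288077) F288076
def n185770 : Q := act 5 n88478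
theorem D185770 : act 5 n88478 = n185770 := rfl
theorem F288081 : act 2 n185770 = n88479 := d2_1 D185770 (iv5 D88479) D88478
theorem F288082 : act 3 n185770 = n148751 := d6_1 D185770 F233528 F135559
theorem F288083 : act 6 n185770 = n146480 := d12_2 F139322 D185770 F229801 (iv6 F183753) F183752
theorem F288084 : act 7 n185770 = n92774 := d13_2 (iv7 F135460) D185770 (iv5 D92774)
theorem F288085 : act 1 n92785 = n185770 := d15_1 D92785 F288084 F143092
theorem F288086 : act 1 n185770 = n92784 := d15_0 (iv0 D92784) (iv7 F135464) (iv2 F288081)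
theorem F288087 : act 2 n113784 = n92785 := d15_3 F288085 F288086 (iv7 F204767)
def n185771 : Q := act 1 n88479
theorem D185771 : act 1 n88479 = n185771 := rfl
theorem F288088 : act 1 n185771 = n92774 := d15_1 D185771 (iv7 F288084) F288081
theorem F288089 : act 7 n185771 = n92785 := d15_2 (iv0 F177037) D185771 (iv2 F288087)
theorem F288090 : act 2 n92784 = n185771 := d4_3 F288089 (iv2 F288087) F204767
def n185772 : Q := act 4 n88479
theorem D185772 : act 4 n88479 = n185772 := rfl
theorem F288091 : act 3 n185772 = n164291 := d5_1 D185772 (iv4 D164291) F135467 (iv4 D88480) (iv3 F135463)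
theorem F288092 : act 7 n185772 = n92786 := d11_2 (iv7 F135464) D185772 (iv4 D92786)
def n185773 : Q := act 6 n88479
theorem D185773 : act 6 n88479 = n185773 := rfl
theorem F288093 : act 2 n185773 = n146480 := d3_1 D185773 (iv6 F288083) F288081
theorem F288094 : act 3 n185773 = n88481 := d7_1 D185773 (iv6 D88481) (iv3 F135463)
theorem F288095 : act 5 n185773 = n146398 := d12_1 D185773 F229719 F139334 F65450 D88479
theorem F288096 : act 7 n185773 = n117411 := d14_2 (iv7 F135464) D185773 (iv6 D117411) F85413 F76629
theorem F288097 : act 1 n146478 = n185773 := d15_1 D146478 F288096 F183894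
theorem F288098 : act 1 n185773 = n146477 := d15_0 (iv0 D146477) D146480 (iv2 F288093)
def n185774 : Q := act 6 n88480
theorem D185774 : act 6 n88480 = n185774 := rfl
theorem F288100 : act 4 n185774 = n88481 := d10_1 D185774 (iv6 D88481) D88480
theorem F288101 : act 5 n185774 = n123596 := d12_1 D185774 (iv6 D123596) F90753 (iv6 F69399) (iv5 F135466)
def n185777 : Q := act 7 n88481
theorem D185777 : act 7 n88481 = n185777 := rfl
theorem F288106 : act 6 n185777 = n92791 := d14_1 D185777 (iv7 D92791) F68249 (iv7 F63624) D88481
def n185778 : Q := act 2 n88482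
theorem D185778 : act 2 n88482 = n185778 := rfl
theorem F288108 : act 1 n185778 = n92778 := d15_0 F288080 F135574 D185778
theorem F288109 : act 1 n92782 = n185778 := d15_0 F288108 (iv7 F288075) F288073
def n185779 : Q := act 4 n88482
theorem D185779 : act 4 n88482 = n185779 := rfl
def n185780 : Q := act 6 n88482
theorem D185780 : act 6 n88482 = n185780 := rfl
theorem F288110 : act 3 n185780 = n88484 := d7_1 D185780 (iv6 D88484) D88482
def n185781 : Q := act 3 n88483
theorem D185781 : act 3 n88483 = n185781 := rfl
def n185782 : Q := act 6 n88483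
theorem D185782 : act 6 n88483 = n185782 := rfl
theorem F288111 : act 4 n185782 = n88484 := d10_1 D185782 (iv6 D88484) D88483
def n185783 : Q := act 0 n88484
theorem D185783 : act 0 n88484 = n185783 := rfl
def n185784 : Q := act 1 n88484
theorem D185784 : act 1 n88484 = n185784 := rfl
def n185785 : Q := act 7 n88484
theorem D185785 : act 7 n88484 = n185785 := rfl
def n185786 : Q := act 0 n88485
theorem D185786 : act 0 n88485 = n185786 := rfl
def n185787 : Q := act 1 n88485
theorem D185787 : act 1 n88485 = n185787 := rfl
def n185788 : Q := act 2 n88485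
theorem D185788 : act 2 n88485 = n185788 := rfl
def n185789 : Q := act 4 n88485
theorem D185789 : act 4 n88485 = n185789 := rfl
def n185790 : Q := act 6 n88485
theorem D185790 : act 6 n88485 = n185790 := rfl
theorem F288112 : act 3 n185790 = n88487 := d7_1 D185790 (iv6 D88487) D88485
def n185791 : Q := act 3 n88486
theorem D185791 : act 3 n88486 = n185791 := rfl
def n185792 : Q := act 6 n88486
theorem D185792 : act 6 n88486 = n185792 := rfl
theorem F288113 : act 4 n185792 = n88487 := d10_1 D185792 (iv6 D88487) D88486
def n185793 : Q := act 0 n88487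
theorem D185793 : act 0 n88487 = n185793 := rfl
theorem F288114 : act 6 n185793 = n92788 := d21_5 F68256 (iv1 F69443) F69441 D88487 D185793 (iv5 D92788) (iv1 D43409) D43410 F68249 D43412
theorem F288115 : act 4 n136714 = n185793 := d10_3 F288114 F143109 D136714
def n185794 : Q := act 1 n88487
theorem D185794 : act 1 n88487 = n185794 := rfl
def n185795 : Q := act 7 n88487
theorem D185795 : act 7 n88487 = n185795 := rfl
def n185796 : Q := act 3 n88488
theorem D185796 : act 3 n88488 = n185796 := rfl
def n185797 : Q := act 6 n88488
theorem D185797 : act 6 n88488 = n185797 := rfl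
theorem F288116 : act 4 n185797 = n102575 := d10_1 D185797 (iv6 D102575) (iv4 F135468)
def n185798 : Q := act 3 n88489
theorem D185798 : act 3 n88489 = n185798 := rfl
def n185799 : Q := act 6 n88489
theorem D185799 : act 6 n88489 = n185799 := rfl
theorem F288117 : act 4 n185799 = n102573 := d10_1 D185799 (iv6 D102573) (iv4 F135469)
theorem F288118 : act 0 n185799 = n136714 := d21_4 F142937 D182293 F283813 D185799 (iv6 D136714) (iv5 D64255) D64252 F100051 F82935 D92721
def n185800 : Q := act 0 n88490
theorem D185800 : act 0 n88490 = n185800 := rfl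
def n185802 : Q := act 2 n88490
theorem D185802 : act 2 n88490 = n185802 := rfl
def n185803 : Q := act 5 n88490
theorem D185803 : act 5 n88490 = n185803 := rfl
theorem F288119 : act 3 n185803 = n88491 := d6_1 D185803 (iv5 D88491) D88490
def n185804 : Q := act 6 n88490
theorem D185804 : act 6 n88490 = n185804 := rfl
theorem F288120 : act 3 n185804 = n88492 := d7_1 D185804 (iv6 D88492) D88490
def n185805 : Q := act 6 n88491
theorem D185805 : act 6 n88491 = n185805 := rfl
theorem F288121 : act 4 n185805 = n94262 := d10_1 D185805 (iv6 D94262) (iv4 F135470)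
def n185809 : Q := act 7 n88492
theorem D185809 : act 7 n88492 = n185809 := rfl
theorem F288122 : act 4 n185809 = n88496 := d11_1 D185809 (iv7 D88496) (iv4 F135472)
def n185810 : Q := act 3 n88493
theorem D185810 : act 3 n88493 = n185810 := rfl
theorem F288123 : act 2 n185810 = n159641 := d0_1 D185810 F251490 F193527 (iv3 F233487) F234992
theorem F288124 : act 5 n185810 = n159639 := d6_2 (iv5 F234993) D185810 F251484
def n185815 : Q := act 6 n88494
theorem D185815 : act 6 n88494 = n185815 := rfl
theorem F288127 : act 3 n185815 = n114000 := d7_1 D185815 F177491 (iv3 F234989)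
theorem F288128 : act 5 n185815 = n113993 := d12_1 D185815 (iv6 D113993) D113992 (iv6 F177487) F234988
def n185819 : Q := act 7 n88495
theorem D185819 : act 7 n88495 = n185819 := rfl
theorem F288131 : act 5 n185819 = n88496 := d13_1 D185819 (iv7 D88496) D88495
def n185820 : Q := act 0 n88497
theorem D185820 : act 0 n88497 = n185820 := rfl
def n185821 : Q := act 1 n88497
theorem D185821 : act 1 n88497 = n185821 := rfl
def n185822 : Q := act 3 n88500
theorem D185822 : act 3 n88500 = n185822 := rfl
theorem F288132 : act 5 n185822 = n185759 := d6_2 (iv5 F135485) D185822 (iv3 D185759)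
def n185823 : Q := act 2 n88501
theorem D185823 : act 2 n88501 = n185823 := rfl
theorem F288133 : act 4 n185823 = n104698 := d1_2 (iv4 F135487) D185823 (iv2 D104698)
theorem F288134 : act 1 n185743 = n185823 := d17_8 (iv1 F160382) F251668 (iv1 D97166) (iv5 D45411) F34119 D43233 D92440 (iv5 F288036) F288133
def n185824 : Q := act 5 n88501
theorem D185824 : act 5 n88501 = n185824 := rfl
theorem F288135 : act 3 n185824 = n88502 := d6_1 D185824 (iv5 D88502) D88501
theorem F288136 : act 6 n185824 = n114038 := d21_3 D164484 (iv1 F288037) D185824 (iv1 D114038) (iv6 D52631) (iv5 D25542) F26341 (iv5 F28371) D35953 D78994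
theorem F288137 : act 0 n185824 = n92432 := d20_4 D87042 D182293 F283814 (iv3 F288135) F142177 (iv4 F177917) (iv1 F178016) F178018 F143259 F68315
def n185825 : Q := act 6 n88502
theorem D185825 : act 6 n88502 = n185825 := rfl
theorem F288138 : act 2 n185825 = n164210 := d3_1 D185825 (iv6 F258829) F135514
theorem F288139 : act 3 n185825 = n114038 := d7_1 D185825 (iv6 F288136) F288135
theorem F288140 : act 0 n185825 = n114096 := d21_4 (iv5 F68398) (iv1 F68399) D88502 D185825 (iv6 D114096) (iv5 D52666) F40442 D42182 F65115 D42186
theorem F288141 : act 1 n185825 = n164211 := d15_1 (iv0 F288140) (iv7 D164211) (iv2 F177687)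
def n185826 : Q := act 2 n88503
theorem D185826 : act 2 n88503 = n185826 := rfl
theorem F288142 : act 3 n185826 = n159516 := d0_2 D88503 D185826 (iv2 F251242) F161616 F63634
theorem F288143 : act 4 n185826 = n102608 := d1_2 (iv4 F135491) D185826 F157816
theorem F288144 : act 5 n185826 = n151570 := d2_2 F251566 D185826 (iv2 F251564)
theorem F288145 : act 6 n185826 = n102607 := d3_2 F143214 D185826 F157705
theorem F288146 : act 7 n185826 = n159729 := d4_2 (iv7 F135492) D185826 (iv2 F251654)
theorem F288147 : act 1 n185826 = n185820 := d15_0 (iv0 D185820) (iv7 F135492) D185826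
theorem E25321 : n185820 = n159697 := ((c21_1 D159697 (iv1 F288147) F288144 (iv6 D151570) (iv1 D71449) (iv6 D33058) F35196 (iv1 F21466) D16929 D34911 D76403)).symm
theorem F288148 : act 0 n159697 = n185826 := (sb E25321 (iv1 F288147))
theorem F288149 : act 1 n159697 = n88497 := (sb E25321 (iv0 D185820))
theorem E25322 : n185821 = n159701 := (c15_2 F288149 D185821 (iv7 F251604) (iv2 F251614))
theorem F288150 : act 0 n159701 = n88497 := (sb E25322 (iv1 D185821))
theorem E25323 : n185415 = n87676 := (c20_5 (iv4 D19389) D19387 D41224 D88328 D185415 (iv3 F285526) F285527 F288150 F135474 (iv3 D88334) (iv1 D41230))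
theorem E25324 : n183760 = n99329 := ((D183760).symm.trans (sb E25323 (iv1 F287644)))
theorem E25325 : n183761 = n88328 := ((D183761).symm.trans (sb E25323 (iv0 D185415)))
theorem F288151 : act 1 n99329 = n87676 := (sb E25324 (iv0 D183760))
theorem F288152 : act 0 n88328 = n87676 := (sb E25325 (iv1 D183761))
theorem F288153 : act 1 n159701 = n185826 := d15_1 (iv0 F288150) F288146 (iv2 F251654)
theorem F288154 : act 0 n99928 = n185520 := d20_10 F287789 (iv1 F143477) F143469 F135143 (iv1 F62422) D88328 F135246 F288152 (iv4 F285531) F285530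
theorem F288155 : act 7 n185416 = n97959 := d15_2 (iv0 F288152) D185416 F160575
theorem F288156 : act 2 n183763 = n185416 := d4_3 F288155 F160575 D183763
theorem F288157 : act 6 n183772 = n185416 := d14_5 F288155 (iv6 D97959) F160538 D87681 D183772
theorem E25326 : n159753 = n94294 := ((c21_5 (iv5 F285219) (iv1 D94291) (iv5 D44079) D44080 D94294 (iv6 D159753) D159752 (iv1 F283738) (iv5 F288144) F288145 (iv1 F157707))).symm
theorem F288158 : act 2 n94294 = n93847 := (sb E25326 (iv2 F283566))
theorem F288159 : act 3 n94294 = n93858 := (sb E25326 F251699)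
theorem F288160 : act 5 n94294 = n90620 := (sb E25326 (iv5 F251700))
theorem F288161 : act 6 n94294 = n76423 := (sb E25326 (iv6 D159753))
theorem F288162 : act 7 n94295 = n93847 := d15_2 (iv0 D94294) D94295 (iv2 F288158)
def n185827 : Q := act 3 n88506
theorem D185827 : act 3 n88506 = n185827 := rfl
theorem F288163 : act 7 n185827 = n185822 := d8_2 (iv7 F135503) D185827 (iv3 D185822)
def n185828 : Q := act 6 n88506
theorem D185828 : act 6 n88506 = n185828 := rfl
theorem F288164 : act 4 n185828 = n88507 := d10_1 D185828 (iv6 D88507) D88506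
def n185829 : Q := act 0 n88507
theorem D185829 : act 0 n88507 = n185829 := rfl
def n185830 : Q := act 1 n88507
theorem D185830 : act 1 n88507 = n185830 := rfl
def n185831 : Q := act 7 n88507
theorem D185831 : act 7 n88507 = n185831 := rfl
theorem F288165 : act 6 n185831 = n185819 := d14_1 D185831 (iv7 D185819) F135473 (iv7 F63639) D88507
def n185832 : Q := act 0 n88508
theorem D185832 : act 0 n88508 = n185832 := rfl
theorem F288166 : act 3 n185832 = n105375 := d20_5 F31093 D19443 D41314 D88508 D185832 (iv4 F161623) (iv1 D104702) (iv4 F161617) F161616 (iv1 D41307)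
theorem F288167 : act 5 n185832 = n92439 := d21_0 (iv1 F142194) (iv5 F142170) F142171 (iv1 F83214) D90122 (iv5 F205420) F205421 (iv5 D92633) (iv6 F135506) D185832
theorem F288168 : act 2 n164484 = n185832 := d15_3 (iv0 D185832) (iv0 F288038) F288035
theorem F288169 : act 1 n185823 = n185832 := d15_0 (iv0 D185832) F135507 D185823
theorem F288170 : act 7 n185832 = n92697 := d15_2 F288134 F288169 (iv2 F288033)
theorem F288171 : act 5 n185823 = n164461 := d21_2 (iv5 F288167) (iv1 F288169) (iv6 D164461) (iv1 D78983) (iv6 D35948) (iv5 D17401) (iv1 F20158) (iv5 F40476) (iv6 F67734) D92439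
theorem F288172 : act 2 n164461 = n185824 := d2_1 F288171 (iv5 D185824) D185823
theorem E25327 : n164459 = n114038 := ((c3_3 D164461 F288172 F288136 F259108)).symm
theorem F288173 : act 2 n114038 = n78983 := (sb E25327 F259108)
theorem F288174 : act 4 n114038 = n97282 := (sb E25327 F259109)
theorem F288175 : act 7 n114038 = n78982 := (sb E25327 (iv7 D164459))
theorem F288176 : act 7 n164209 = n185825 := d8_2 F288175 (iv3 F283775) F288139
theorem E25328 : n164455 = n114037 := (c15_4 (iv0 D114037) D114038 F288175 D164455)
theorem F288177 : act 2 n114037 = n78982 := (sb E25328 (iv2 D164455))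
theorem E25329 : n97253 = n96550 := (((F261859).symm.trans (sb E25328 F259100))).symm
theorem F288178 : act 7 n114037 = n78983 := (sb E25328 (iv7 F259099))
theorem F288179 : act 2 n96550 = n164457 := (sb E25329 (iv2 F259101))
theorem E25330 : n45438 = n45082 := ((((iv3 D96550)).symm.trans (sb E25329 (iv3 D97253)))).symm
theorem F288180 : act 7 n96550 = n45444 := (sb E25329 F150011)
theorem E25331 : n97251 = n21684 := ((((iv1 F70988)).symm.trans (sb E25330 D97251))).symm
theorem E25333 : n96549 = n21681 := ((D96549).symm.trans (sb E25330 (iv2 D45438)))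
theorem E25334 : n97254 = n96551 := (((D96551).symm.trans (sb E25330 D97254))).symm
theorem E25335 : n97255 = n96552 := (((D96552).symm.trans (sb E25330 D97255))).symm
theorem E25336 : n97256 = n96553 := (((D96553).symm.trans (sb E25330 D97256))).symm
theorem E25337 : n96554 = n21682 := ((D96554).symm.trans (sb E25330 (iv7 F71704)))
theorem E25338 : n45443 = n45083 := ((((iv1 F70982)).symm.trans (sb E25331 (iv1 F150009)))).symm
theorem F288181 : act 2 n21681 = n45082 := (sb E25333 (iv2 D96549))
theorem F288182 : act 2 n96551 = n45440 := (sb E25334 F150012)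
theorem F288183 : act 7 n96551 = n45445 := (sb E25334 F150013)
theorem F288184 : act 2 n96552 = n45441 := (sb E25335 F150014)
theorem F288185 : act 7 n96552 = n45446 := (sb E25335 F150015)
theorem F288186 : act 2 n96553 = n45442 := (sb E25336 F150016)
theorem F288187 : act 7 n21682 = n45082 := (sb E25337 (iv7 D96554))
theorem F288188 : act 2 n45083 = n21682 := (sb E25338 F71705)
theorem E25339 : n97263 = n96555 := (((D96555).symm.trans (sb E25338 (iv3 F150019)))).symm
theorem E25340 : n97269 = n96556 := (((D96556).symm.trans (sb E25338 (iv4 F150024)))).symm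
theorem E25341 : n97274 = n96557 := (((D96557).symm.trans (sb E25338 (iv5 F150029)))).symm
theorem E25342 : n97279 = n96558 := (((D96558).symm.trans (sb E25338 D97279))).symm
theorem F288189 : act 7 n45083 = n21681 := (sb E25338 (iv7 D45443))
theorem F288190 : act 7 n96555 = n45439 := (sb E25339 (iv7 D97263))
theorem F288191 : act 2 n96556 = n45445 := (sb E25340 F150023)
theorem F288192 : act 7 n96556 = n45440 := (sb E25340 (iv7 D97269))
theorem F288193 : act 2 n96557 = n45446 := (sb E25341 F150028)
theorem F288194 : act 7 n96557 = n45441 := (sb E25341 (iv7 D97274))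
theorem F288195 : act 2 n96558 = n45447 := (sb E25342 F150034)
theorem E25343 : n103760 = n97277 := ((c2_3 (iv5 F148717) F288186 D97277 F159193)).symm
theorem F288196 : act 2 n97277 = n48043 := (sb E25343 F159193)
theorem F288197 : act 7 n97277 = n48042 := (sb E25343 (iv7 D103760))
theorem E25344 : n103758 = n97278 := (c13_2 F288197 D103758 (iv7 D97278) D97277)
theorem F288198 : act 5 n97278 = n48042 := (sb E25344 (iv5 D103758))
theorem E25345 : n103755 = n103608 := (c15_4 (iv0 D103608) (iv0 F150032) F288197 D103755)
theorem F288199 : act 2 n103608 = n48042 := (sb E25345 (iv2 D103755))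
theorem F288200 : act 7 n103608 = n48043 := (sb E25345 (iv7 F159192))
theorem F288201 : act 1 n97282 = n164488 := d15_0 (iv0 F261860) F288180 D97282
theorem F288202 : act 1 n95784 = n97282 := d15_0 F288201 (iv7 D164488) (iv2 F147474)
theorem F288203 : act 4 n106518 = n133420 := d18_1 (iv1 F176102) (iv1 D133420) F97672 (iv5 F83283) (iv4 F147475) F288202 (iv4 F288174) F177524 (iv5 F176099)
theorem F288204 : act 7 n164345 = n119067 := d8_2 F288178 F258975 F261861
theorem F288205 : act 2 n119067 = n164344 := d15_3 (iv0 D164344) D164345 F288204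
theorem F288206 : act 2 n164345 = n119068 := d15_3 F259009 F259010 (iv7 F288204)
theorem F288207 : act 3 n119068 = n164210 := d0_2 F258975 F288206 (iv2 F288138) F288139 F288173
theorem F288208 : act 7 n119068 = n164344 := d4_2 (iv7 F288204) F288206 (iv2 F288205)
theorem F288209 : act 6 n94033 = n185832 := d14_5 F288170 (iv6 D92697) (iv7 F160268) F205474 (iv7 F251875)
def n185833 : Q := act 2 n88508
theorem D185833 : act 2 n88508 = n185833 := rfl
theorem F288210 : act 3 n185833 = n93012 := d0_2 D88508 D185833 F143451 F68397 (iv2 F63643)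
theorem F288211 : act 4 n185833 = n103799 := d1_2 (iv4 F135505) D185833 F159232
theorem F288212 : act 6 n185833 = n92632 := d3_2 (iv6 F135506) D185833 (iv2 D92632)
theorem F288213 : act 7 n185833 = n185823 := d4_2 (iv7 F135507) D185833 (iv2 D185823)
theorem F288214 : act 1 n185833 = n92697 := d15_0 (iv0 F161695) (iv7 F135507) D185833
theorem F288215 : act 1 n164484 = n185833 := d15_0 F288214 (iv7 F288170) (iv2 F288168)
def n185834 : Q := act 5 n88508
theorem D185834 : act 5 n88508 = n185834 := rfl
theorem F288216 : act 3 n185834 = n88509 := d6_1 D185834 (iv5 D88509) D88508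
theorem F288217 : act 7 n185834 = n185824 := d13_2 (iv7 F135507) D185834 (iv5 D185824)
theorem F288218 : act 0 n185834 = n114303 := d20_4 D87037 D182283 F283777 (iv3 F288216) F178164 (iv4 F120146) (iv1 F178193) (iv4 F177771) F161639 (iv1 D87036)
theorem F288219 : act 1 n164461 = n114303 := d15_0 (iv0 F288218) F288217 (iv2 F288172)
def n185835 : Q := act 6 n88509
theorem D185835 : act 6 n88509 = n185835 := rfl
theorem F288220 : act 2 n185835 = n93023 := d3_1 D185835 F143468 (iv2 F135508)
theorem F288221 : act 5 n185835 = n92635 := d12_1 D185835 (iv6 D92635) (iv5 D43335) (iv6 F63644) D88509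
def n185836 : Q := act 2 n88510
theorem D185836 : act 2 n88510 = n185836 := rfl
theorem F288223 : act 4 n185836 = n102529 := d1_2 (iv4 F135512) D185836 (iv2 D102529)
theorem F288224 : act 7 n185836 = n93012 := d4_2 (iv7 F135513) D185836 F143451
theorem F288225 : act 1 n185836 = n93017 := d15_0 (iv0 D93017) (iv7 F135513) D185836
theorem F288226 : act 1 n92735 = n185836 := d15_0 F288225 F143462 (iv2 F142979)
def n185837 : Q := act 5 n88510
theorem D185837 : act 5 n88510 = n185837 := rfl
theorem F288227 : act 3 n185837 = n88511 := d6_1 D185837 (iv5 D88511) D88510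
theorem F288228 : act 7 n185837 = n93018 := d13_2 (iv7 F135513) D185837 (iv5 D93018)
theorem F288229 : act 6 n185837 = n119068 := d21_3 F142423 F139798 D185837 (iv1 D119068) (iv6 D54794) F42431 F24930 D32366 D69730 F144909
def n185838 : Q := act 6 n88510
theorem D185838 : act 6 n88510 = n185838 := rfl
theorem F288230 : act 3 n185838 = n88512 := d7_1 D185838 (iv6 D88512) D88510
theorem F288231 : act 4 n185838 = n102531 := d10_1 D185838 (iv6 D102531) (iv4 F135512)
theorem F288233 : act 5 n98705 = n185838 := d21_8 F233595 (iv1 D148785) F106107 (iv6 D42178) (iv1 F32450) D43224 D92417 F152171 (iv6 D185838) (iv1 F142986)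
theorem F288234 : act 0 n92713 = n185838 := d20_7 F74116 (iv1 D22561) (iv4 F35097) F62704 (iv1 F65971) (iv3 F134615) (iv4 F142918) F288231 F157479 F74785
def n185839 : Q := act 5 n88513
theorem D185839 : act 5 n88513 = n185839 := rfl
theorem F288235 : act 2 n185839 = n90438 := d2_1 D185839 (iv5 D90438) F135525
theorem F288236 : act 7 n185839 = n90490 := d13_2 (iv7 F135527) D185839 (iv5 D90490)
theorem F288237 : act 1 n185839 = n94450 := d15_0 (iv0 F145634) F142978 (iv2 F288235)
def n185840 : Q := act 4 n88515
theorem D185840 : act 4 n88515 = n185840 := rfl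
theorem F288238 : act 2 n185840 = n146887 := d1_1 D185840 F230271 (iv2 F135536)
theorem F288239 : act 7 n185840 = n90493 := d11_2 (iv7 F135538) D185840 (iv4 D90493)
theorem F288240 : act 1 n146885 = n185840 := d15_1 D146885 F288239 F139263
theorem F288241 : act 1 n185840 = n146884 := d15_0 (iv0 D146884) D146887 (iv2 F288238)
def n185841 : Q := act 6 n88515
theorem D185841 : act 6 n88515 = n185841 := rfl
theorem F288242 : act 2 n185841 = n113707 := d3_1 D185841 F176930 (iv2 F135536)
theorem F288243 : act 3 n185841 = n88517 := d7_1 D185841 (iv6 D88517) (iv3 F135537)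
theorem F288244 : act 5 n185841 = n117430 := d12_1 D185841 F183936 F142966 F68146 D88515
theorem F288245 : act 7 n185841 = n113696 := d14_2 (iv7 F135538) D185841 (iv6 D113696) F82879 (iv6 F65407)
theorem F288246 : act 1 n113705 = n185841 := d15_1 D113705 F288245 F176909
def n185842 : Q := act 3 n88516
theorem D185842 : act 3 n88516 = n185842 := rfl
theorem F288248 : act 5 n185842 = n92466 := d6_2 (iv5 F135543) D185842 (iv3 D92466)
theorem F288249 : act 7 n185842 = n90508 := d8_2 (iv7 F135542) D185842 (iv3 D90508)
def n185843 : Q := act 6 n88516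
theorem D185843 : act 6 n88516 = n185843 := rfl
theorem F288251 : act 4 n185843 = n88517 := d10_1 D185843 (iv6 D88517) D88516
theorem F288252 : act 5 n185843 = n123579 := d12_1 D185843 (iv6 D123579) (iv5 F142222) F142220 (iv5 F135543)
def n185846 : Q := act 7 n88517
theorem D185846 : act 7 n88517 = n185846 := rfl
theorem F288257 : act 6 n185846 = n90497 := d14_1 D185846 (iv7 D90497) F65422 (iv7 F63664) D88517
def n185847 : Q := act 4 n88518
theorem D185847 : act 4 n88518 = n185847 := rfl
theorem F288261 : act 2 n185847 = n102559 := d1_1 D185847 F157524 (iv2 F285644)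
theorem F288263 : act 7 n185847 = n185748 := d11_2 F285643 D185847 (iv4 D185748)
theorem F288264 : act 0 n92699 = n185847 := d20_10 (iv4 D185847) (iv1 F135546) F66687 (iv3 D42316) F66787 (iv3 F68268) (iv4 F70047) F142878 (iv4 D92700) D92699
def n185848 : Q := act 5 n88518
theorem D185848 : act 5 n88518 = n185848 := rfl
theorem F288267 : act 7 n185848 = n185749 := d13_2 F285643 D185848 (iv5 D185749)
def n185850 : Q := act 3 n88519
theorem D185850 : act 3 n88519 = n185850 := rfl
theorem F288270 : act 2 n185850 = n101368 := d0_1 D185850 F156132 (iv2 F285638) F285641 F285645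
theorem F288271 : act 7 n185850 = n101372 := d8_2 (iv7 F285646) D185850 F156169
theorem F288272 : act 4 n185850 = n101240 := d20_6 F14650 D9421 D19965 D42316 (iv1 F135547) D185850 (iv1 D101240) F74405 (iv3 D42294) (iv1 D19960)
theorem F288273 : act 0 n90556 = n185850 := d20_10 F288272 (iv1 D101240) F74405 (iv3 D42294) (iv1 D19960) (iv3 F31793) (iv4 F36276) D48016 F135565 D90556
theorem F288274 : act 0 n185850 = n90530 := d20_1 (iv4 F288272) F139332 F74712 (iv1 F153376) (iv3 D47524) D47525 (iv1 F74872) (iv4 F155955) F155954 (iv1 F155973)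
def n185851 : Q := act 4 n88519
theorem D185851 : act 4 n88519 = n185851 := rfl
theorem F288275 : act 2 n185851 = n185748 := d1_1 D185851 (iv4 D185748) F285645
theorem F288276 : act 7 n185851 = n102559 := d11_2 (iv7 F285646) D185851 F157524
theorem F288277 : act 0 n185851 = n92699 := d20_1 D185851 F142880 (iv3 D90419) (iv1 D42279) F31793 F14650 D9421 D19965 D42316 (iv1 F135547)
theorem F288278 : act 3 n185851 = n92703 := d20_3 F66687 (iv1 F135547) D185851 (iv1 F142883) (iv3 F142910) F142911 (iv1 F134612) D88192 (iv3 F135545) (iv1 F135546)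
def n185852 : Q := act 5 n88519
theorem D185852 : act 5 n88519 = n185852 := rfl
theorem F288279 : act 2 n185852 = n185749 := d2_1 D185852 (iv5 D185749) F285645
theorem F288280 : act 7 n185852 = n185751 := d13_2 (iv7 F285646) D185852 (iv5 D185751)
def n185853 : Q := act 6 n88519
theorem D185853 : act 6 n88519 = n185853 := rfl
theorem F288281 : act 2 n185853 = n185750 := d3_1 D185853 (iv6 D185750) F285645
def n185854 : Q := act 0 n88520
theorem D185854 : act 0 n88520 = n185854 := rfl
theorem F288282 : act 1 n90456 = n185854 := d15_0 (iv0 D185854) F135549 (iv2 F139215)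
def n185855 : Q := act 1 n88520
theorem D185855 : act 1 n88520 = n185855 := rfl
theorem F288283 : act 1 n185855 = n90456 := d15_1 D185855 (iv7 F143045) F143043
def n185856 : Q := act 4 n88520
theorem D185856 : act 4 n88520 = n185856 := rfl
theorem F288284 : act 7 n185856 = n185755 := d11_2 (iv7 F135549) D185856 (iv4 D185755)
def n185857 : Q := act 6 n88520
theorem D185857 : act 6 n88520 = n185857 := rfl
theorem F288285 : act 3 n185857 = n88523 := d7_1 D185857 (iv6 D88523) (iv3 F135548)
def n185858 : Q := act 0 n88521
theorem D185858 : act 0 n88521 = n185858 := rfl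
def n185859 : Q := act 1 n88521
theorem D185859 : act 1 n88521 = n185859 := rfl
def n185860 : Q := act 3 n88522
theorem D185860 : act 3 n88522 = n185860 := rfl
theorem F288286 : act 5 n185860 = n185827 := d6_2 (iv5 F135553) D185860 (iv3 D185827)
theorem F288287 : act 7 n185860 = n185759 := d8_2 (iv7 F135554) D185860 (iv3 D185759)
def n185861 : Q := act 6 n88522
theorem D185861 : act 6 n88522 = n185861 := rfl
theorem F288288 : act 2 n185861 = n88540 := d3_1 D185861 (iv6 D88540) (iv2 F135552)
theorem F288289 : act 4 n185861 = n88523 := d10_1 D185861 (iv6 D88523) D88522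
theorem F288290 : act 0 n113682 = n185861 := d21_4 (iv5 D64534) D64531 F100470 D113682 (iv6 D185861) F135553 (iv1 F139310) (iv5 D90509) (iv6 F139277) F139278
def n185862 : Q := act 0 n88523
theorem D185862 : act 0 n88523 = n185862 := rfl
def n185863 : Q := act 1 n88523
theorem D185863 : act 1 n88523 = n185863 := rfl
theorem F288291 : act 1 n185863 = n88544 := d15_1 D185863 (iv7 D88544) (iv2 F135557)
theorem F288292 : act 6 n105325 = n185863 := d21_3 F139397 (iv1 F114389) (iv5 F161516) (iv1 D185863) (iv6 D88523) (iv5 D41323) F63160 D20019 (iv6 F65471) D90569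
theorem F288293 : act 5 n93881 = n185863 := d21_6 (iv5 D20800) (iv1 D9880) D9881 (iv6 F32957) D43888 D93881 (iv1 D185863) (iv5 F144739) (iv6 D93911) (iv1 F69019)
theorem F288294 : act 2 n185863 = n88542 := d2_1 F288293 (iv5 F209186) F209184
theorem F288295 : act 3 n185863 = n105327 := d6_1 F288293 (iv5 F238536) F238535
def n185864 : Q := act 7 n88523
theorem D185864 : act 7 n88523 = n185864 := rfl
theorem F288296 : act 2 n185864 = n88544 := d4_1 D185864 (iv7 D88544) (iv2 F135557)
theorem F288297 : act 6 n185864 = n185763 := d14_1 D185864 (iv7 D185763) (iv6 D88474) (iv7 F63668) D88523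
theorem F288298 : act 1 n88544 = n185862 := d15_0 (iv0 D185862) D185864 F288296
theorem F288299 : act 1 n88542 = n185864 := d15_1 D88542 (iv7 D185864) F135557
theorem F288300 : act 7 n185862 = n88542 := d15_2 F288291 F288298 (iv2 F288294)
theorem F288301 : act 3 n148746 = n185862 := d8_3 F288300 F143117 D148746
theorem F288302 : act 2 n185862 = n88541 := d15_3 (iv0 D88541) D88542 (iv7 F288300)
theorem F288303 : act 7 n88541 = n185863 := d4_2 (iv7 F288300) F288302 F288294
theorem F288304 : act 1 n185864 = n88541 := d15_1 F288299 F288303 F288294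
def n185865 : Q := act 3 n88524
theorem D185865 : act 3 n88524 = n185865 := rfl
theorem F288305 : act 2 n185865 = n90530 := d0_1 D185865 (iv3 D90530) (iv2 F153433) F151059 (iv2 F153471)
theorem F288306 : act 4 n185865 = n90487 := d5_2 (iv4 F159097) D185865 (iv3 F154400) (iv4 F156920) F159098
theorem F288307 : act 7 n185865 = n90556 := d8_2 (iv7 F153472) D185865 (iv3 D90556)
theorem F288308 : act 0 n185865 = n101372 := d20_10 (iv4 D101372) (iv1 D47184) (iv4 F68154) (iv3 D43382) (iv1 F32590) (iv3 F65285) (iv4 F75444) (iv1 F159095) (iv4 F159097) D185865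
theorem F288309 : act 0 n101368 = n185865 := d20_4 (iv4 D41162) D41159 D88187 (iv3 F156132) (iv3 D185865) F159097 (iv1 D103670) F75441 (iv3 F68141) F73768
def n185866 : Q := act 5 n88524
theorem D185866 : act 5 n88524 = n185866 := rfl
theorem F288310 : act 2 n185866 = n90561 := d2_1 D185866 (iv5 D90561) (iv2 F153471)
theorem F288311 : act 7 n185866 = n90557 := d13_2 (iv7 F153472) D185866 (iv5 D90557)
theorem F288312 : act 6 n148744 = n185866 := d21_5 F55228 (iv1 F27749) D32357 D69712 D148744 (iv5 D185866) (iv1 F135558) (iv5 F106078) (iv6 D69714) (iv1 F55230)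
def n185867 : Q := act 6 n88524
theorem D185867 : act 6 n88524 = n185867 := rfl
theorem F288313 : act 2 n185867 = n90562 := d3_1 D185867 (iv6 D90562) (iv2 F153471)
theorem F288314 : act 7 n185867 = n159517 := d14_2 (iv7 F153472) D185867 (iv6 D159517) F153453 (iv6 F65461)
theorem F288315 : act 1 n131146 = n185867 := d15_1 F235283 F288314 F251245
theorem F288316 : act 1 n185867 = n88546 := d15_1 F288315 (iv7 F147663) (iv2 F210048)
theorem F288317 : act 0 n88533 = n185866 := d21_7 (iv5 D131146) (iv1 F157680) (iv5 D93927) (iv6 F157581) (iv1 D44087) D44091 (iv5 F135579) (iv5 D185866) D185867 (iv1 F288315)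
theorem F288318 : act 1 n185788 = n185866 := d15_0 (iv0 F288317) F135580 D185788
def n185868 : Q := act 5 n88525
theorem D185868 : act 5 n88525 = n185868 := rfl
theorem F288319 : act 2 n185868 = n90557 := d2_1 D185868 (iv5 D90557) (iv2 F153436)
theorem F288320 : act 3 n185868 = n90527 := d6_1 D185868 (iv5 D90527) (iv3 F145329)
theorem F288321 : act 6 n185868 = n148711 := d12_2 (iv6 F135564) D185868 F233479 (iv6 D76317) D76316
theorem F288322 : act 7 n185868 = n90561 := d13_2 (iv7 F153437) D185868 (iv5 D90561)
theorem F288323 : act 0 n185868 = n88533 := d17_2 (iv1 F135563) D185868 F135579 (iv4 F138098) (iv5 F287724) (iv0 F287725) (iv5 D104586) F76032 F70615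
theorem F288324 : act 1 n185868 = n185788 := d15_0 F288318 F288311 (iv2 F288319)
def n185869 : Q := act 4 n88527
theorem D185869 : act 4 n88527 = n185869 := rfl
theorem F288325 : act 7 n185869 = n90565 := d11_2 (iv7 F135569) D185869 (iv4 D90565)
def n185870 : Q := act 3 n88528
theorem D185870 : act 3 n88528 = n185870 := rfl
theorem F288326 : act 5 n185870 = n93850 := d6_2 (iv5 F135572) D185870 (iv3 D93850)
theorem F288327 : act 7 n185870 = n90577 := d8_2 (iv7 F135571) D185870 (iv3 D90577)
def n185871 : Q := act 6 n88528
theorem D185871 : act 6 n88528 = n185871 := rfl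
theorem F288329 : act 4 n185871 = n88529 := d10_1 D185871 (iv6 D88529) D88528
theorem F288330 : act 5 n185871 = n153941 := d12_1 D185871 (iv6 D153941) (iv5 F114402) F114403 (iv5 F135572)
def n185874 : Q := act 2 n88530
theorem D185874 : act 2 n88530 = n185874 := rfl
theorem F288333 : act 3 n185874 = n185788 := d0_2 D88530 D185874 (iv2 D185788) (iv3 D88485) F69281
theorem F288334 : act 7 n185874 = n185778 := d4_2 (iv7 F135574) D185874 (iv2 D185778)
theorem F288335 : act 1 n185874 = n185768 := d15_0 F288079 (iv7 F135574) D185874
theorem F288336 : act 1 n185769 = n185874 := d15_0 F288335 F288075 (iv2 F288076)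
def n185875 : Q := act 4 n88530
theorem D185875 : act 4 n88530 = n185875 := rfl
theorem F288337 : act 7 n185875 = n185779 := d11_2 (iv7 F135574) D185875 (iv4 D185779)
def n185876 : Q := act 6 n88530
theorem D185876 : act 6 n88530 = n185876 := rfl
theorem F288338 : act 3 n185876 = n88532 := d7_1 D185876 (iv6 D88532) D88530
theorem F288339 : act 5 n185876 = n90683 := d12_1 D185876 (iv6 D90683) D90682 (iv6 F283799) F283798
theorem F288340 : act 0 n185876 = n105337 := d21_7 (iv5 D59807) F55285 D76425 (iv6 F139318) F283726 D90683 (iv5 F288339) (iv5 F186816) (iv6 D118765) (iv1 F94180)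
def n185877 : Q := act 3 n88531
theorem D185877 : act 3 n88531 = n185877 := rfl
theorem F288341 : act 7 n185877 = n185781 := d8_2 (iv7 F135576) D185877 (iv3 D185781)
def n185878 : Q := act 6 n88531
theorem D185878 : act 6 n88531 = n185878 := rfl
theorem F288342 : act 2 n185878 = n185792 := d3_1 D185878 (iv6 D185792) (iv2 F135575)
theorem F288343 : act 4 n185878 = n88532 := d10_1 D185878 (iv6 D88532) D88531
def n185879 : Q := act 0 n88532
theorem D185879 : act 0 n88532 = n185879 := rfl
theorem F288344 : act 6 n185879 = n90568 := d21_5 F65475 D87040 F133604 D88532 D185879 (iv5 D90568) (iv1 D42394) D42395 F65471 D42397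
theorem F288345 : act 5 n185879 = n114481 := d21_8 (iv5 D42415) (iv1 D20026) D20027 F31865 D20039 D42456 (iv5 F135578) D185879 (iv6 D114481) F106584
theorem F288346 : act 2 n185793 = n185879 := d3_3 F288344 (iv2 F143106) (iv6 F288114)
theorem F288347 : act 7 n185794 = n185879 := d15_2 (iv0 D185793) D185794 (iv2 F288346)
def n185880 : Q := act 1 n88532
theorem D185880 : act 1 n88532 = n185880 := rfl
theorem F288348 : act 1 n185880 = n185795 := d15_1 D185880 (iv7 D185795) (iv2 F135577)
theorem F288349 : act 7 n185880 = n185793 := d15_2 (iv0 D185879) D185880 F288346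
theorem F288350 : act 2 n185794 = n185880 := d4_3 F288349 F288346 (iv7 F288347)
theorem F288351 : act 1 n185795 = n185879 := d15_1 F288348 (iv7 F288347) F288350
def n185881 : Q := act 7 n88532
theorem D185881 : act 7 n88532 = n185881 := rfl
theorem F288352 : act 2 n185881 = n185795 := d4_1 D185881 (iv7 D185795) (iv2 F135577)
theorem F288353 : act 5 n185881 = n90691 := d13_1 D185881 (iv7 D90691) (iv5 F135578)
theorem F288354 : act 6 n185881 = n185785 := d14_1 D185881 (iv7 D185785) (iv6 D88484) (iv7 F69280) D88532
theorem F288355 : act 1 n185794 = n185881 := d15_1 D185794 (iv7 D185881) F135577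
theorem F288356 : act 1 n185881 = n185793 := d15_1 F288355 (iv7 F288349) (iv2 F288350)
def n185882 : Q := act 2 n88533
theorem D185882 : act 2 n88533 = n185882 := rfl
theorem F288357 : act 3 n185882 = n185778 := d0_2 D88533 D185882 (iv2 D185778) (iv3 D88482) (iv2 F69276)
theorem F288358 : act 5 n185882 = n94318 := d2_2 (iv5 F135579) D185882 F145462
theorem F288359 : act 7 n185882 = n185788 := d4_2 (iv7 F135580) D185882 (iv2 D185788)
theorem F288360 : act 1 n185882 = n185786 := d15_0 (iv0 D185786) (iv7 F135580) D185882
theorem E25346 : n185786 = n90557 := ((c21_1 D90557 (iv1 F288360) F288358 (iv6 D94318) F157273 (iv6 D34942) (iv5 F28374) (iv1 F31843) (iv5 D20014) D20015 D42390)).symm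
theorem F288361 : act 0 n90557 = n185882 := (sb E25346 (iv1 F288360))
theorem F288362 : act 1 n90557 = n88485 := (sb E25346 (iv0 D185786))
theorem E25347 : n185787 = n90561 := (c15_2 F288362 D185787 (iv7 F288322) F288319)
theorem F288363 : act 0 n90561 = n88485 := (sb E25347 (iv1 D185787))
theorem F288364 : act 1 n90561 = n185882 := d15_1 (iv0 F288363) F288359 (iv2 D185788)
def n185883 : Q := act 4 n88533
theorem D185883 : act 4 n88533 = n185883 := rfl
theorem F288365 : act 7 n185883 = n185789 := d11_2 (iv7 F135580) D185883 (iv4 D185789)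
def n185884 : Q := act 6 n88533
theorem D185884 : act 6 n88533 = n185884 := rfl
theorem F288366 : act 3 n185884 = n88535 := d7_1 D185884 (iv6 D88535) D88533
theorem F288367 : act 5 n185884 = n94323 := d12_1 D185884 (iv6 D94323) (iv5 D44090) D44091 (iv5 F135579)
def n185885 : Q := act 3 n88534
theorem D185885 : act 3 n88534 = n185885 := rfl
theorem F288368 : act 7 n185885 = n185791 := d8_2 (iv7 F135582) D185885 (iv3 D185791)
def n185886 : Q := act 6 n88534
theorem D185886 : act 6 n88534 = n185886 := rfl
theorem F288369 : act 2 n185886 = n185782 := d3_1 D185886 (iv6 D185782) (iv2 F135581)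
theorem F288370 : act 4 n185886 = n88535 := d10_1 D185886 (iv6 D88535) D88534
def n185887 : Q := act 0 n88535
theorem D185887 : act 0 n88535 = n185887 := rfl
def n185888 : Q := act 1 n88535
theorem D185888 : act 1 n88535 = n185888 := rfl
theorem F288371 : act 1 n185888 = n185785 := d15_1 D185888 (iv7 D185785) (iv2 F135585)
def n185889 : Q := act 7 n88535
theorem D185889 : act 7 n88535 = n185889 := rfl
theorem F288372 : act 2 n185889 = n185785 := d4_1 D185889 (iv7 D185785) (iv2 F135585)
theorem F288373 : act 5 n185889 = n94332 := d13_1 D185889 (iv7 D94332) (iv5 F135586)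
theorem F288374 : act 6 n185889 = n185795 := d14_1 D185889 (iv7 D185795) (iv6 D88487) F69279 D88535
theorem F288375 : act 1 n185785 = n185887 := d15_0 (iv0 D185887) D185889 F288372
theorem F288376 : act 1 n185784 = n185889 := d15_1 D185784 (iv7 D185889) F135585
theorem F288377 : act 1 n185889 = n185783 := d15_0 (iv0 D185783) D185785 (iv2 F288372)
def n185890 : Q := act 3 n88536
theorem D185890 : act 3 n88536 = n185890 := rfl
theorem F288378 : act 7 n185890 = n185796 := d8_2 (iv7 F135593) D185890 (iv3 D185796)
def n185891 : Q := act 6 n88536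
theorem D185891 : act 6 n88536 = n185891 := rfl
theorem F288379 : act 2 n185891 = n185799 := d3_1 D185891 (iv6 D185799) F135592
def n185892 : Q := act 3 n88537
theorem D185892 : act 3 n88537 = n185892 := rfl
theorem F288380 : act 7 n185892 = n185798 := d8_2 F135591 D185892 (iv3 D185798)
def n185893 : Q := act 6 n88537
theorem D185893 : act 6 n88537 = n185893 := rfl
theorem F288381 : act 2 n185893 = n185797 := d3_1 D185893 (iv6 D185797) F135590
theorem F288382 : act 4 n185893 = n94455 := d10_1 D185893 F145637 (iv4 F135589)
def n185894 : Q := act 0 n88538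
theorem D185894 : act 0 n88538 = n185894 := rfl
theorem F288383 : act 1 n185802 = n185894 := d15_0 (iv0 D185894) F135594 D185802
def n185895 : Q := act 1 n88538
theorem D185895 : act 1 n88538 = n185895 := rfl
def n185896 : Q := act 2 n88538
theorem D185896 : act 2 n88538 = n185896 := rfl
theorem F288384 : act 7 n185896 = n185802 := d4_2 (iv7 F135594) D185896 (iv2 D185802)
theorem F288385 : act 1 n185896 = n185800 := d15_0 (iv0 D185800) (iv7 F135594) D185896
theorem F288386 : act 1 n185895 = n185802 := d15_1 D185895 (iv7 F288384) (iv2 D185896)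
def n185897 : Q := act 5 n88538
theorem D185897 : act 5 n88538 = n185897 := rfl
theorem F288389 : act 7 n185897 = n185803 := d13_2 (iv7 F135594) D185897 (iv5 D185803)
def n185898 : Q := act 6 n88538
theorem D185898 : act 6 n88538 = n185898 := rfl
theorem F288390 : act 3 n185898 = n88540 := d7_1 D185898 (iv6 D88540) D88538
def n185899 : Q := act 6 n88539
theorem D185899 : act 6 n88539 = n185899 := rfl
theorem F288392 : act 4 n185899 = n93849 := d10_1 D185899 (iv6 D93849) (iv4 F135596)
def n185900 : Q := act 0 n88540
theorem D185900 : act 0 n88540 = n185900 := rfl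
def n185901 : Q := act 1 n88540
theorem D185901 : act 1 n88540 = n185901 := rfl
theorem F288393 : act 6 n113674 = n185901 := d21_3 F176993 (iv1 F100477) (iv5 F176864) (iv1 D185901) (iv6 D88540) D88539 (iv1 F138827) F138825 (iv6 F82935) D113742
theorem F288394 : act 2 n185901 = n113682 := d3_1 F288393 (iv6 D113682) (iv2 F176863)
theorem F288395 : act 4 n185901 = n113675 := d10_1 F288393 (iv6 D113675) D113674
def n185902 : Q := act 5 n88540
theorem D185902 : act 5 n88540 = n185902 := rfl
def n185903 : Q := act 7 n88540
theorem D185903 : act 7 n88540 = n185903 := rfl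
theorem F288396 : act 4 n185903 = n88544 := d11_1 D185903 (iv7 D88544) (iv4 F135599)
theorem F288397 : act 6 n185903 = n185809 := d14_1 D185903 (iv7 D185809) (iv6 D88492) (iv7 F63680) D88540
theorem F288398 : act 1 n113682 = n185903 := d15_1 (iv0 F288290) (iv7 D185903) (iv2 F288288)
theorem E25348 : n126281 = n113687 := ((c20_1 D113687 (iv1 F203052) F176470 (iv3 F177283) (iv1 F177284) F160075 (iv4 F288396) (iv1 F288398) F176880 F82873 D52492)).symm
theorem F288399 : act 0 n113687 = n113273 := (sb E25348 (iv1 F203052))
theorem F288400 : act 1 n113687 = n59197 := (sb E25348 (iv0 D126281))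
theorem E25349 : n126282 = n113691 := (c15_2 F288400 D126282 (iv7 F204732) F204731)
theorem F288401 : act 0 n113691 = n59197 := (sb E25349 (iv1 D126282))
theorem F288402 : act 1 n113691 = n113273 := (sb E25349 F203046)
def n185904 : Q := act 3 n88541
theorem D185904 : act 3 n88541 = n185904 := rfl
theorem F288403 : act 7 n185904 = n105327 := d8_2 (iv7 F288303) D185904 (iv3 F288295)
def n185905 : Q := act 4 n88541
theorem D185905 : act 4 n88541 = n185905 := rfl
def n185906 : Q := act 5 n88541
theorem D185906 : act 5 n88541 = n185906 := rfl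
theorem F288404 : act 7 n185906 = n93881 := d13_2 (iv7 F288303) D185906 F288293
def n185907 : Q := act 6 n88541
theorem D185907 : act 6 n88541 = n185907 := rfl
def n185908 : Q := act 4 n88542
theorem D185908 : act 4 n88542 = n185908 := rfl
theorem F288405 : act 6 n185908 = n148741 := d10_2 F143113 D185908 (iv4 D148741)
theorem F288406 : act 0 n185908 = n102577 := d21_4 (iv5 F176988) F204075 (iv5 F233512) (iv6 F288405) (iv6 D102577) (iv5 F138820) (iv1 F143140) (iv5 D92796) (iv6 F143119) (iv1 F176862)
def n185909 : Q := act 0 n88543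
theorem D185909 : act 0 n88543 = n185909 := rfl
def n185910 : Q := act 1 n88543
theorem D185910 : act 1 n88543 = n185910 := rfl
def n185911 : Q := act 4 n88543
theorem D185911 : act 4 n88543 = n185911 := rfl
theorem F288407 : act 6 n185911 = n88547 := d10_2 (iv6 F135600) D185911 (iv4 D88547)
def n185912 : Q := act 7 n88543
theorem D185912 : act 7 n88543 = n185912 := rfl
theorem F288408 : act 5 n185912 = n88544 := d13_1 D185912 (iv7 D88544) D88543
def n185913 : Q := act 0 n88545
theorem D185913 : act 0 n88545 = n185913 := rfl
theorem F288409 : act 5 n185913 = n151664 := d21_2 (iv5 F135603) D185913 (iv6 D151664) (iv1 D71474) F52288 (iv5 D15949) D15947 D33069 D71480 F157251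
theorem F288410 : act 6 n185913 = n159697 := d21_5 D94237 F286036 F233985 F157848 D185913 (iv5 D159697) (iv1 F114548) (iv5 F114568) (iv6 F145288) (iv1 F145290)
theorem F288411 : act 1 n90617 = n185913 := d15_0 (iv0 D185913) F135604 (iv2 F139504)
theorem F288412 : act 1 n93900 = n151664 := d17_6 (iv1 F154498) (iv5 F154500) (iv1 D98906) (iv5 D46284) F69014 D93900 (iv5 F288409) (iv0 D185913) F135602
theorem F288413 : act 1 n151664 = n93807 := d15_1 F288412 F144605 (iv2 F144726)
theorem F288414 : act 0 n93901 = n94238 := d21_4 F288409 (iv1 F288412) (iv5 D93900) D93901 (iv6 D94238) D94237 F286036 F233985 F157848 D185913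
theorem F288415 : act 0 n159749 = n93808 := d21_4 F288144 (iv1 F283739) (iv5 D159748) D159749 (iv6 D93808) D93807 (iv1 F288413) (iv5 F288409) F288410 F288148
theorem F288416 : act 2 n90625 = n185913 := d3_3 F288410 F251614 F177435
theorem F288417 : act 7 n90624 = n185913 := d14_0 F288410 (iv7 F251621) (iv6 F114563) (iv7 F160563) (iv6 F251607)
theorem F288418 : act 7 n151664 = n93903 := d13_2 F288417 F288409 F251609
theorem F288419 : act 1 n92783 = n90617 := d15_0 F288411 (iv7 F288417) (iv2 F251606)
theorem F288420 : act 1 n88545 = n92783 := d15_1 (iv0 D185913) F251605 F288416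
def n185914 : Q := act 2 n88545
theorem D185914 : act 2 n88545 = n185914 := rfl
theorem F288422 : act 4 n185914 = n98919 := d1_2 (iv4 F135602) D185914 F152466
theorem F288423 : act 5 n185914 = n93952 := d2_2 (iv5 F135603) D185914 (iv2 D93952)
theorem F288424 : act 6 n185914 = n159763 := d3_2 F157848 D185914 (iv2 F251716)
theorem F288425 : act 7 n185914 = n90617 := d4_2 (iv7 F135604) D185914 F139504
def n185915 : Q := act 3 n88547
theorem D185915 : act 3 n88547 = n185915 := rfl
def n185920 : Q := act 3 n88560
theorem D185920 : act 3 n88560 = n185920 := rfl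
theorem F288430 : act 4 n185920 = n90210 := d5_2 F135631 D185920 F138776 (iv4 D42989) D42988
theorem F288431 : act 7 n185920 = n92032 := d8_2 (iv7 F135630) D185920 (iv3 D92032)
def n185921 : Q := act 5 n88560
theorem D185921 : act 5 n88560 = n185921 := rfl
theorem F288432 : act 7 n185921 = n92033 := d13_2 (iv7 F135630) D185921 (iv5 D92033)
def n185923 : Q := act 5 n88561
theorem D185923 : act 5 n88561 = n185923 := rfl
theorem F288437 : act 2 n185923 = n92033 := d2_1 D185923 (iv5 D92033) F135622
def n185925 : Q := act 1 n88562
theorem D185925 : act 1 n88562 = n185925 := rfl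
theorem F288442 : act 4 n88706 = n185925 := d20_0 (iv1 D185925) (iv4 F137595) (iv3 D89677) (iv1 D41883) (iv3 D19716) (iv4 D9253) (iv1 F14325) (iv4 F31237) (iv3 F63859) (iv1 F136048)
def n185926 : Q := act 2 n88562
theorem D185926 : act 2 n88562 = n185926 := rfl
theorem F288444 : act 1 n185926 = n88702 := d15_0 (iv0 F138413) F138412 D185926
def n185929 : Q := act 1 n88563
theorem D185929 : act 1 n88563 = n185929 := rfl
theorem F288447 : act 1 n185929 = n88581 := d15_1 D185929 (iv7 F138434) F138433
def n185956 : Q := act 5 n88580
theorem D185956 : act 5 n88580 = n185956 := rfl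
theorem F288461 : act 3 n185956 = n88581 := d6_1 D185956 (iv5 D88581) D88580
def n185957 : Q := act 6 n88580
theorem D185957 : act 6 n88580 = n185957 := rfl
def n185958 : Q := act 4 n88581
theorem D185958 : act 4 n88581 = n185958 := rfl
theorem F288463 : act 0 n185958 = n91865 := d18_2 F144467 D185958 (iv4 D91865) (iv5 D42942) F32182 D20289 D42963 F137533 D93718
theorem F288464 : act 0 n185536 = n185956 := d20_4 (iv4 F119712) (iv1 F254505) F254507 (iv3 F287835) F288461 D185958 F288463 (iv4 D91865) F67297 (iv1 F63603)
def n185959 : Q := act 6 n88581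
theorem D185959 : act 6 n88581 = n185959 := rfl
def n185978 : Q := act 5 n88589
theorem D185978 : act 5 n88589 = n185978 := rfl
theorem F288469 : act 2 n185978 = n88808 := d2_1 D185978 (iv5 D88808) (iv2 F135738)
theorem F288470 : act 6 n185978 = n99595 := d12_2 D88589 D185978 (iv5 D99595) (iv6 D46550) (iv5 F74225)
theorem F288471 : act 7 n185978 = n98641 := d13_2 (iv7 F157595) D185978 (iv5 D98641)
theorem F288472 : act 0 n185978 = n182061 := d21_1 D185978 F283467 (iv6 F152099) F288152 (iv6 D87676) D87675 F157644 F157123 (iv6 D89081) (iv1 F157594)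
theorem F288473 : act 0 n89192 = n185978 := d21_7 (iv5 F62325) (iv1 F75462) (iv5 D45722) D45723 (iv1 F157749) D46776 (iv5 F136890) (iv5 D185978) (iv6 D88589) (iv1 F63687)
def n185979 : Q := act 5 n88590
theorem D185979 : act 5 n88590 = n185979 := rfl
theorem F288474 : act 2 n185979 = n88801 := d2_1 D185979 (iv5 D88801) (iv2 F135739)
theorem F288475 : act 6 n185979 = n99601 := d12_2 D88590 D185979 (iv5 D99601) (iv6 D46555) (iv5 F74235)
theorem F288476 : act 7 n185979 = n99068 := d13_2 (iv7 F157241) D185979 (iv5 D99068)
theorem F288477 : act 0 n185979 = n89139 := d21_1 D185979 F157464 (iv6 D102524) F161652 (iv6 D46568) D46567 D99642 F157318 (iv6 D94100) (iv1 F157240)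
theorem F288478 : act 0 n98102 = n185979 := d21_7 (iv5 F35153) (iv1 F75473) (iv5 D45719) D45720 (iv1 F177419) D87823 (iv5 F151246) (iv5 D185979) (iv6 D88590) (iv1 D41345)
def n185980 : Q := act 3 n88591
theorem D185980 : act 3 n88591 = n185980 := rfl
theorem F288479 : act 2 n185980 = n97115 := d0_1 D185980 F149853 F283585 F251694 (iv2 F283588)
theorem F288480 : act 4 n185980 = n97099 := d5_2 F284509 D185980 (iv3 F284519) (iv4 D182924) D182923
theorem F288481 : act 7 n185980 = n97120 := d8_2 (iv7 F283589) D185980 (iv3 F149855)
theorem F288482 : act 0 n182172 = n185980 := d20_10 F288480 (iv1 F149820) (iv4 F72596) F72595 F63736 D88605 F135781 D89239 F137160 D182172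
def n185981 : Q := act 5 n88591
theorem D185981 : act 5 n88591 = n185981 := rfl
theorem F288483 : act 2 n185981 = n181943 := d2_1 D185981 (iv5 D181943) (iv2 F283588)
theorem F288484 : act 7 n185981 = n181946 := d13_2 (iv7 F283589) D185981 (iv5 D181946)
theorem F288485 : act 0 n185981 = n182159 := d21_1 D185981 F283610 (iv6 D87931) F157750 (iv6 D45723) D45722 F75461 F35153 D41346 D88591
def n185982 : Q := act 6 n88591
theorem D185982 : act 6 n88591 = n185982 := rfl
theorem F288486 : act 2 n185982 = n99673 := d3_1 D185982 F153486 (iv2 F283588)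
theorem F288487 : act 5 n185982 = n99586 := d21_6 D45722 F75461 F35153 D41346 D88591 D185982 (iv1 D99586) (iv5 D46544) (iv6 D22310) (iv1 F34311)
theorem F288488 : act 0 n89540 = n185982 := d21_4 D97953 F157302 (iv5 F154281) F154282 (iv6 D185982) D185981 F288485 F283610 (iv6 D87931) F157750
theorem F288489 : act 1 n94100 = n185982 := d15_0 (iv0 F288488) F137264 (iv2 F145010)
theorem E25350 : n99670 = n99586 := ((c2_1 F288487 F153485 D99673 (iv2 F288486))).symm
theorem F288490 : act 2 n99586 = n46575 := (sb E25350 F153485)
theorem F288491 : act 7 n99586 = n46574 := (sb E25350 (iv7 D99670))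
theorem F288492 : act 7 n99074 = n185982 := d13_0 F288487 F288491 (iv5 F157305)
theorem E25351 : n99665 = n99585 := (c15_4 (iv0 D99585) D99586 F288491 D99665)
theorem F288493 : act 2 n99585 = n46574 := (sb E25351 (iv2 D99665))
theorem F288494 : act 7 n99585 = n46575 := (sb E25351 (iv7 F153484))
def n185983 : Q := act 4 n88592
theorem D185983 : act 4 n88592 = n185983 := rfl
theorem F288495 : act 2 n185983 = n181945 := d1_1 D185983 (iv4 D181945) (iv2 F283586)
theorem F288496 : act 7 n185983 = n181942 := d11_2 (iv7 F283587) D185983 (iv4 D181942)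
def n185984 : Q := act 5 n88592
theorem D185984 : act 5 n88592 = n185984 := rfl
theorem F288497 : act 2 n185984 = n181946 := d2_1 D185984 (iv5 D181946) (iv2 F283586)
theorem F288498 : act 7 n185984 = n181943 := d13_2 (iv7 F283587) D185984 (iv5 D181943)
theorem F288499 : act 1 n185984 = n182159 := d15_0 (iv0 F288485) F288484 (iv2 F288497)
def n185985 : Q := act 6 n88592
theorem D185985 : act 6 n88592 = n185985 := rfl
theorem F288500 : act 2 n185985 = n181947 := d3_1 D185985 (iv6 D181947) (iv2 F283586)
theorem F288501 : act 5 n100640 = n185985 := d21_2 D87822 (iv1 F154736) (iv6 D185985) (iv1 D88592) (iv6 D41346) (iv5 F35153) (iv1 F75473) (iv5 D45719) D45720 (iv1 F177419)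
def n185986 : Q := act 0 n88593
theorem D185986 : act 0 n88593 = n185986 := rfl
theorem F288502 : act 2 n181948 = n185986 := d15_3 (iv0 D185986) (iv0 F285533) F285539
theorem F288503 : act 5 n185986 = n185416 := d2_2 (iv5 F285538) F288502 (iv2 F288156)
theorem F288504 : act 7 n185986 = n181949 := d4_2 F285539 F288502 (iv2 F285532)
theorem F288505 : act 1 n181951 = n185986 := d15_1 (iv0 F285535) F288504 (iv2 F285532)
theorem E25352 : n184122 = n183772 := ((c21_4 D88593 D185986 F288503 (iv6 F288157) (iv1 D184122) (iv6 D87823) D87822 (iv1 F154736) F288501 (iv6 D185985) (iv1 D88592))).symm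
theorem F288507 : act 1 n183772 = n102524 := (sb E25352 F286061)
theorem F288508 : act 0 n88828 = n102523 := d21_1 D88828 (iv5 D102523) D102524 (iv1 F288507) F288157 (iv5 F288503) (iv1 F288505) F283246 (iv6 F136194) (iv1 F136196)
theorem E25353 : n183169 = n88829 := (c21_5 F285559 (iv1 F152593) (iv5 D87431) D87432 D183169 (iv6 D88829) D88828 F288508 (iv5 D102523) D102524 (iv1 F288507))
theorem F288509 : act 0 n88829 = n100287 := (sb E25353 (iv1 F284768))
theorem F288510 : act 1 n88829 = n87432 := (sb E25353 (iv0 D183169))
theorem E25354 : n184121 = n97963 := (c15_2 F288507 F286060 (iv7 F284789) (iv2 F285558))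
theorem F288511 : act 0 n97963 = n102524 := (sb E25354 (iv1 F286060))
def n185987 : Q := act 4 n88593
theorem D185987 : act 4 n88593 = n185987 := rfl
theorem F288513 : act 2 n185987 = n181950 := d1_1 D185987 (iv4 D181950) (iv2 F135741)
def n185988 : Q := act 7 n88593
theorem D185988 : act 7 n88593 = n185988 := rfl
theorem F288514 : act 2 n185988 = n181951 := d4_1 D185988 (iv7 D181951) (iv2 F135741)
theorem F288515 : act 3 n185988 = n88601 := d8_1 D185988 (iv7 D88601) (iv3 F135742)
theorem F288516 : act 5 n185988 = n88594 := d13_1 D185988 (iv7 D88594) D88593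
theorem F288517 : act 1 n181949 = n185988 := d15_1 D181949 (iv7 D185988) F135741
theorem F288518 : act 1 n185988 = n181948 := d15_1 F288517 (iv7 F285539) F285532
def n185989 : Q := act 0 n88595
theorem D185989 : act 0 n88595 = n185989 := rfl
theorem F288519 : act 4 n185989 = n88847 := d20_0 (iv1 F136220) D89399 (iv3 F149748) (iv1 D46013) F34492 (iv4 F30773) (iv1 F63481) F63694 D88595 D185989
def n185990 : Q := act 1 n88595
theorem D185990 : act 1 n88595 = n185990 := rfl
theorem F288521 : act 4 n88848 = n185990 := d20_0 (iv1 D185990) F135750 (iv3 D41899) D41898 D89703 F137664 (iv1 F147292) F147290 F136249 (iv1 F136225)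
theorem F288522 : act 3 n185990 = n181964 := d20_3 (iv4 D89399) (iv1 F136225) F288521 (iv1 F283256) (iv3 F137155) F137156 (iv1 F136356) (iv4 F137357) (iv3 F137358) (iv1 F137081)
def n185991 : Q := act 2 n88595
theorem D185991 : act 2 n88595 = n185991 := rfl
theorem F288523 : act 3 n185991 = n89460 := d0_2 D88595 D185991 (iv2 D89460) (iv3 D41772) (iv2 F63696)
theorem F288524 : act 4 n185991 = n89706 := d1_2 (iv4 F135750) D185991 (iv2 D89706)
theorem F288525 : act 6 n185991 = n102200 := d3_2 (iv6 F135751) D185991 F157075
theorem F288526 : act 7 n185991 = n89469 := d4_2 (iv7 F135752) D185991 (iv2 D89469)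
theorem F288527 : act 1 n185991 = n89391 := d15_0 F151749 (iv7 F135752) D185991
theorem F288528 : act 1 n185990 = n89469 := d15_1 D185990 (iv7 F288526) (iv2 D185991)
theorem F288529 : act 1 n89396 = n185991 := d15_1 (iv0 F137138) F288526 (iv2 D89469)
def n185992 : Q := act 5 n88595
theorem D185992 : act 5 n88595 = n185992 := rfl
theorem F288530 : act 3 n185992 = n88596 := d6_1 D185992 (iv5 D88596) D88595
theorem F288531 : act 6 n185992 = n102211 := d12_2 (iv6 F135751) D185992 (iv5 D102211) (iv6 D47447) D47446
theorem F288532 : act 7 n185992 = n89471 := d13_2 (iv7 F135752) D185992 (iv5 D89471)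
def n185993 : Q := act 4 n88596
theorem D185993 : act 4 n88596 = n185993 := rfl
theorem F288533 : act 2 n185993 = n89465 := d1_1 D185993 (iv4 D89465) (iv2 F135753)
theorem F288534 : act 6 n185993 = n102233 := d10_2 (iv6 F135754) D185993 (iv4 D102233)
theorem F288535 : act 7 n185993 = n89473 := d11_2 (iv7 F135755) D185993 (iv4 D89473)
def n185994 : Q := act 0 n88597
theorem D185994 : act 0 n88597 = n185994 := rfl
theorem F288536 : act 1 n89460 = n185994 := d15_0 (iv0 D185994) F135758 D89460
def n185995 : Q := act 1 n88597
theorem D185995 : act 1 n88597 = n185995 := rfl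
def n185996 : Q := act 2 n88597
theorem D185996 : act 2 n88597 = n185996 := rfl
theorem F288537 : act 3 n185996 = n89469 := d0_2 D88597 D185996 (iv2 D89469) (iv3 D41775) (iv2 F63716)
theorem F288538 : act 4 n185996 = n89882 := d1_2 (iv4 F135757) D185996 (iv2 F137975)
theorem F288539 : act 7 n185996 = n89460 := d4_2 (iv7 F135758) D185996 (iv2 D89460)
theorem F288540 : act 1 n185996 = n89458 := d15_0 (iv0 D89458) (iv7 F135758) D185996
theorem F288541 : act 1 n185995 = n89460 := d15_1 D185995 (iv7 F288539) (iv2 D185996)
theorem F288542 : act 1 n89459 = n185996 := d15_1 D89459 F288539 (iv2 D89460)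
def n185997 : Q := act 5 n88597
theorem D185997 : act 5 n88597 = n185997 := rfl
theorem F288543 : act 3 n185997 = n88598 := d6_1 D185997 (iv5 D88598) D88597
theorem F288544 : act 7 n185997 = n89461 := d13_2 (iv7 F135758) D185997 (iv5 D89461)
def n185998 : Q := act 4 n88598
theorem D185998 : act 4 n88598 = n185998 := rfl
theorem F288545 : act 2 n185998 = n89473 := d1_1 D185998 (iv4 D89473) (iv2 F135759)
theorem F288546 : act 7 n185998 = n89465 := d11_2 (iv7 F135760) D185998 (iv4 D89465)
def n185999 : Q := act 6 n88598
theorem D185999 : act 6 n88598 = n185999 := rfl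
theorem F288547 : act 2 n185999 = n89474 := d3_1 D185999 (iv6 D89474) (iv2 F135759)
theorem F288548 : act 5 n185999 = n100602 := d12_1 D185999 (iv6 D100602) F74133 F73007 D88598
def n186000 : Q := act 3 n88599
theorem D186000 : act 3 n88599 = n186000 := rfl
theorem F288549 : act 7 n186000 = n89478 := d8_2 (iv7 F135763) D186000 (iv3 D89478)
def n186001 : Q := act 6 n88599
theorem D186001 : act 6 n88599 = n186001 := rfl
theorem F288550 : act 2 n186001 = n89477 := d3_1 D186001 (iv6 D89477) F135762
def n186002 : Q := act 0 n88600
theorem D186002 : act 0 n88600 = n186002 := rfl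
theorem F288553 : act 2 n89481 = n186002 := d15_3 (iv0 D186002) (iv0 F157924) F157923
theorem F288554 : act 7 n186002 = n89482 := d4_2 F157923 F288553 (iv2 F157922)
def n186003 : Q := act 3 n88600
theorem D186003 : act 3 n88600 = n186003 := rfl
def n186004 : Q := act 5 n88600
theorem D186004 : act 5 n88600 = n186004 := rfl
theorem F288556 : act 2 n186004 = n89484 := d2_1 D186004 (iv5 D89484) (iv2 F135765)
theorem F288557 : act 4 n186004 = n89591 := d16_2 D88600 D186004 (iv5 D89591) (iv4 D41843) (iv5 D19697) (iv4 F31411) D41771 F64419 (iv2 F63717)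
def n186005 : Q := act 7 n88600
theorem D186005 : act 7 n88600 = n186005 := rfl
theorem F288560 : act 4 n186005 = n88601 := d11_1 D186005 (iv7 D88601) D88600
theorem F288562 : act 1 n89482 = n186005 := d15_1 D89482 (iv7 D186005) F135765
def n186006 : Q := act 6 n88601
theorem D186006 : act 6 n88601 = n186006 := rfl
theorem F288564 : act 2 n186006 = n89456 := d3_1 D186006 F137120 (iv2 F135766)
theorem F288565 : act 5 n186006 = n88869 := d12_1 D186006 (iv6 D88869) F63946 (iv6 F63720) (iv5 F135767)
def n186007 : Q := act 5 n88602
theorem D186007 : act 5 n88602 = n186007 := rfl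
theorem F288566 : act 2 n186007 = n98858 := d2_1 D186007 (iv5 D98858) (iv2 F136451)
theorem F288567 : act 3 n186007 = n88603 := d6_1 D186007 (iv5 D88603) D88602
theorem F288568 : act 7 n186007 = n89611 := d13_2 (iv7 F135772) D186007 (iv5 D89611)
theorem F288569 : act 0 n182248 = n186007 := d21_7 (iv5 F153688) (iv1 F153689) (iv5 D47583) D47584 D102588 F157552 (iv5 F283689) (iv5 D186007) F135771 D89584
def n186008 : Q := act 1 n88603
theorem D186008 : act 1 n88603 = n186008 := rfl
theorem F288570 : act 1 n186008 = n88606 := d15_1 D186008 F135784 (iv2 F135774)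
theorem F288572 : act 5 n186008 = n90797 := d17_7 (iv1 F35547) (iv5 F35125) F63732 (iv5 D41352) D41351 D88603 D186008 F139751 F134007
theorem F288574 : act 6 n98613 = n186008 := d12_0 F288572 F139749 (iv5 D46099) D46100 D98613
def n186009 : Q := act 4 n88603
theorem D186009 : act 4 n88603 = n186009 := rfl
theorem F288575 : act 2 n186009 = n89600 := d1_1 D186009 (iv4 D89600) (iv2 F135774)
theorem F288576 : act 7 n186009 = n89613 := d11_2 (iv7 F135775) D186009 (iv4 D89613)
theorem F288577 : act 0 n186009 = n100269 := d18_2 (iv1 D186008) D186009 (iv4 D100269) (iv5 D46789) F34998 (iv0 F35546) (iv4 F72177) F139750 (iv5 F288572)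
def n186010 : Q := act 6 n88603
theorem D186010 : act 6 n88603 = n186010 := rfl
theorem F288578 : act 2 n186010 = n89601 := d3_1 D186010 (iv6 D89601) (iv2 F135774)
theorem F288579 : act 5 n186010 = n89588 := d12_1 D186010 (iv6 D89588) (iv5 D41840) (iv6 F63724) D88603
def n186011 : Q := act 3 n88604
theorem D186011 : act 3 n88604 = n186011 := rfl
theorem F288580 : act 6 n186011 = n89589 := d7_2 (iv6 F135778) D186011 (iv3 D89589)
def n186012 : Q := act 5 n88604
theorem D186012 : act 5 n88604 = n186012 := rfl
theorem F288582 : act 2 n186012 = n89607 := d2_1 D186012 (iv5 D89607) (iv2 F135777)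
theorem F288583 : act 7 n186012 = n89617 := d13_2 (iv7 F135779) D186012 (iv5 D89617)
def n186013 : Q := act 2 n88605
theorem D186013 : act 2 n88605 = n186013 := rfl
theorem F288585 : act 3 n186013 = n89024 := d0_2 D88605 D186013 (iv2 F136671) (iv3 D41852) (iv2 F63733)
theorem F288586 : act 4 n186013 = n89241 := d1_2 (iv4 F135781) D186013 (iv2 D89241)
theorem F288587 : act 7 n186013 = n89596 := d4_2 (iv7 F135782) D186013 (iv2 D89596)
theorem F288588 : act 1 n186013 = n89594 := d15_0 (iv0 D89594) (iv7 F135782) D186013
theorem F288589 : act 1 n89595 = n186013 := d15_1 D89595 F288587 (iv2 D89596)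
def n186014 : Q := act 5 n88605
theorem D186014 : act 5 n88605 = n186014 := rfl
theorem F288590 : act 3 n186014 = n88606 := d6_1 D186014 (iv5 D88606) D88605
theorem F288591 : act 7 n186014 = n89597 := d13_2 (iv7 F135782) D186014 (iv5 D89597)
def n186015 : Q := act 4 n88606
theorem D186015 : act 4 n88606 = n186015 := rfl
theorem F288592 : act 2 n186015 = n89613 := d1_1 D186015 (iv4 D89613) (iv2 F135783)
theorem F288593 : act 7 n186015 = n89600 := d11_2 (iv7 F135784) D186015 (iv4 D89600)
theorem F288594 : act 1 n186015 = n100269 := d18_6 F63693 F31411 (iv1 F31130) D41353 D88606 D186015 (iv4 D100269) (iv0 F135756) (iv5 D88596)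
def n186016 : Q := act 6 n88606
theorem D186016 : act 6 n88606 = n186016 := rfl
theorem F288595 : act 2 n186016 = n89614 := d3_1 D186016 (iv6 D89614) (iv2 F135783)
theorem F288596 : act 5 n186016 = n100528 := d12_1 D186016 (iv6 D100528) F74111 F70499 D88606
def n186017 : Q := act 3 n88607
theorem D186017 : act 3 n88607 = n186017 := rfl
theorem F288598 : act 7 n186017 = n89606 := d8_2 (iv7 F135789) D186017 (iv3 D89606)
def n186018 : Q := act 5 n88607
theorem D186018 : act 5 n88607 = n186018 := rfl
theorem F288599 : act 2 n186018 = n89617 := d2_1 D186018 (iv5 D89617) (iv2 F135787)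
theorem F288600 : act 7 n186018 = n89607 := d13_2 (iv7 F135789) D186018 (iv5 D89607)
def n186033 : Q := act 4 n88612
theorem D186033 : act 4 n88612 = n186033 := rfl
theorem F288634 : act 5 n186033 = n89457 := d9_2 D88612 D186033 (iv4 D89457) (iv5 D41771) F31411 D19697 D41843 D89591 (iv4 F288557) (iv5 D186004) (iv4 D88600) (iv5 D41349) F31127 D19472 D41357
theorem F288635 : act 7 n89484 = n186033 := d13_0 F288634 F137121 D89484
def n186034 : Q := act 7 n88612
theorem D186034 : act 7 n88612 = n186034 := rfl
theorem F288637 : act 4 n186034 = n89484 := d11_1 D186034 F288635 (iv4 D186033)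
theorem F288638 : act 5 n186034 = n88613 := d13_1 D186034 (iv7 D88613) D88612
def n186035 : Q := act 2 n88614
theorem D186035 : act 2 n88614 = n186035 := rfl
theorem F288641 : act 7 n88615 = n186035 := d15_2 (iv0 D88614) D88615 (iv2 D186035)
def n186036 : Q := act 3 n88614
theorem D186036 : act 3 n88614 = n186036 := rfl
theorem F288642 : act 4 n186036 = n105041 := d20_6 (iv4 D9180) F14247 D19474 D41359 D88614 D186036 (iv1 D105041) F76400 (iv3 D41408) (iv1 D19504)
def n186037 : Q := act 4 n88614
theorem D186037 : act 4 n88614 = n186037 := rfl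
def n186038 : Q := act 5 n88614
theorem D186038 : act 5 n88614 = n186038 := rfl
def n186039 : Q := act 6 n88614
theorem D186039 : act 6 n88614 = n186039 := rfl
def n186040 : Q := act 7 n88614
theorem D186040 : act 7 n88614 = n186040 := rfl
theorem F288643 : act 2 n186040 = n88615 := d4_1 D186040 F288641 (iv2 D186035)
def n186041 : Q := act 3 n88615
theorem D186041 : act 3 n88615 = n186041 := rfl
theorem F288644 : act 4 n186041 = n91146 := d20_6 (iv4 D42048) (iv1 F31619) (iv4 F36028) (iv3 F72219) (iv1 F135815) D186041 (iv1 D91146) F74984 F138395 (iv1 D89972)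
theorem F288645 : act 0 n102918 = n186041 := d20_10 F288644 (iv1 D91146) F74984 F138395 (iv1 D89972) D89973 F138201 F158221 (iv4 D102919) D102918
def n186042 : Q := act 4 n88615
theorem D186042 : act 4 n88615 = n186042 := rfl
theorem F288646 : act 3 n186042 = n91045 := d20_3 F72220 (iv1 F135815) D186042 (iv1 F140079) (iv3 F283955) (iv4 D182414) (iv1 F160957) (iv4 F288642) (iv3 D186036) (iv1 F135810)
def n186043 : Q := act 5 n88615
theorem D186043 : act 5 n88615 = n186043 := rfl
def n186044 : Q := act 6 n88615
theorem D186044 : act 6 n88615 = n186044 := rfl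
def n186045 : Q := act 3 n88617
theorem D186045 : act 3 n88617 = n186045 := rfl
theorem F288647 : act 2 n186045 = n105106 := d0_1 D186045 (iv3 D105106) F138200 (iv3 F138395) F138397
theorem F288648 : act 7 n186045 = n102856 := d8_2 F138399 D186045 (iv3 D102856)
def n186046 : Q := act 5 n88617
theorem D186046 : act 5 n88617 = n186046 := rfl
theorem F288650 : act 2 n186046 = n102860 := d2_1 D186046 (iv5 D102860) F138397
theorem F288651 : act 7 n186046 = n102858 := d13_2 F138399 D186046 (iv5 D102858)
def n186047 : Q := act 6 n88617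
theorem D186047 : act 6 n88617 = n186047 := rfl
theorem F288652 : act 2 n186047 = n102861 := d3_1 D186047 (iv6 D102861) F138397
def n186048 : Q := act 5 n88618
theorem D186048 : act 5 n88618 = n186048 := rfl
theorem F288653 : act 2 n186048 = n102858 := d2_1 D186048 (iv5 D102858) (iv2 F138398)
theorem F288654 : act 3 n186048 = n105109 := d6_1 D186048 (iv5 D105109) F137590
def n186049 : Q := act 6 n88618
theorem D186049 : act 6 n88618 = n186049 := rfl
theorem F288656 : act 2 n186049 = n102859 := d3_1 D186049 (iv6 D102859) (iv2 F138398)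
def n186050 : Q := act 5 n88619
theorem D186050 : act 5 n88619 = n186050 := rfl
theorem F288658 : act 2 n186050 = n88620 := d2_1 D186050 (iv5 D88620) D88619
theorem F288659 : act 3 n186050 = n88707 := d6_1 D186050 (iv5 D88707) (iv3 F135818)
theorem F288660 : act 7 n186050 = n102862 := d13_2 (iv7 F135819) D186050 (iv5 D102862)
theorem F288661 : act 1 n102865 = n186050 := d15_1 D102865 F288660 F158174
theorem F288662 : act 1 n186050 = n102864 := d15_0 (iv0 D102864) (iv7 F135824) (iv2 F288658)
def n186051 : Q := act 0 n88620
theorem D186051 : act 0 n88620 = n186051 := rfl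
theorem F288663 : act 1 n102862 = n186051 := d15_0 (iv0 D186051) F135824 (iv2 F158174)
def n186052 : Q := act 1 n88620
theorem D186052 : act 1 n88620 = n186052 := rfl
theorem F288664 : act 1 n186052 = n102862 := d15_1 D186052 (iv7 F288660) F288658
def n186053 : Q := act 4 n88620
theorem D186053 : act 4 n88620 = n186053 := rfl
theorem F288665 : act 7 n186053 = n102866 := d11_2 (iv7 F135824) D186053 (iv4 D102866)
def n186054 : Q := act 6 n88620
theorem D186054 : act 6 n88620 = n186054 := rfl
theorem F288666 : act 3 n186054 = n88621 := d7_1 D186054 (iv6 D88621) (iv3 F135823)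
def n186055 : Q := act 0 n88621
theorem D186055 : act 0 n88621 = n186055 := rfl
def n186056 : Q := act 1 n88621
theorem D186056 : act 1 n88621 = n186056 := rfl
theorem F288667 : act 1 n186056 = n88720 := d15_1 D186056 (iv7 D88720) (iv2 F135825)
def n186057 : Q := act 7 n88621
theorem D186057 : act 7 n88621 = n186057 := rfl
theorem F288668 : act 2 n186057 = n88720 := d4_1 D186057 (iv7 D88720) (iv2 F135825)
theorem F288669 : act 6 n186057 = n102875 := d14_1 D186057 (iv7 D102875) (iv6 D47707) (iv7 F63769) D88621
theorem F288670 : act 1 n88720 = n186055 := d15_0 (iv0 D186055) D186057 F288668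
theorem F288671 : act 1 n88719 = n186057 := d15_1 D88719 (iv7 D186057) F135825
theorem F288672 : act 1 n186057 = n88718 := d15_0 (iv0 D88718) D88720 (iv2 F288668)
def n186058 : Q := act 2 n88627
theorem D186058 : act 2 n88627 = n186058 := rfl
theorem F288673 : act 7 n88628 = n186058 := d15_2 (iv0 D88627) D88628 (iv2 D186058)
def n186059 : Q := act 3 n88627
theorem D186059 : act 3 n88627 = n186059 := rfl
theorem F288674 : act 4 n186059 = n96463 := d20_6 (iv4 F61360) (iv1 D19483) D19484 D41367 D88627 D186059 (iv1 D96463) F70889 (iv3 D41274) (iv1 F61359)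
def n186060 : Q := act 4 n88627
theorem D186060 : act 4 n88627 = n186060 := rfl
theorem F288675 : act 0 n89677 = n186060 := d20_10 (iv4 D186060) (iv1 F135856) (iv4 F136041) F136040 (iv1 F135821) (iv3 F137590) (iv4 F135670) F135668 F64572 D89677
theorem F288676 : act 1 n102957 = n186060 := d15_0 (iv0 F288675) F137596 D102957
def n186061 : Q := act 5 n88627
theorem D186061 : act 5 n88627 = n186061 := rfl
def n186062 : Q := act 6 n88627
theorem D186062 : act 6 n88627 = n186062 := rfl
def n186063 : Q := act 7 n88627
theorem D186063 : act 7 n88627 = n186063 := rfl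
theorem F288677 : act 2 n186063 = n88628 := d4_1 D186063 F288673 (iv2 D186058)
def n186064 : Q := act 3 n88628
theorem D186064 : act 3 n88628 = n186064 := rfl
def n186065 : Q := act 4 n88628
theorem D186065 : act 4 n88628 = n186065 := rfl
theorem F288678 : act 0 n186065 = n89677 := d20_1 D186065 F137595 (iv3 D88562) D88560 D185920 F288430 (iv1 F142544) F142542 F138329 (iv1 F135861)
theorem F288679 : act 3 n186065 = n89658 := d20_3 F136041 (iv1 F135861) D186065 (iv1 F137477) (iv3 F137495) F137496 (iv1 F138310) (iv4 F138304) (iv3 D88696) D88694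
theorem F288681 : act 0 n102957 = n186065 := d20_10 (iv4 D186065) (iv1 D88628) F63786 (iv3 D19505) D19503 D41405 F63851 D43305 D92559 (iv3 F158246)
def n186066 : Q := act 5 n88628
theorem D186066 : act 5 n88628 = n186066 := rfl
def n186067 : Q := act 6 n88628
theorem D186067 : act 6 n88628 = n186067 := rfl
def n186068 : Q := act 5 n88629
theorem D186068 : act 5 n88629 = n186068 := rfl
theorem F288683 : act 2 n186068 = n88630 := d2_1 D186068 (iv5 D88630) D88629
theorem F288684 : act 3 n186068 = n185634 := d6_1 D186068 (iv5 D185634) (iv3 F135857)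
theorem F288685 : act 7 n186068 = n185656 := d13_2 (iv7 F135859) D186068 (iv5 D185656)
theorem F288686 : act 1 n185659 = n186068 := d15_1 D185659 F288685 F287966
theorem F288687 : act 1 n186068 = n185658 := d15_0 (iv0 D185658) (iv7 F135864) (iv2 F288683)
def n186069 : Q := act 0 n88630
theorem D186069 : act 0 n88630 = n186069 := rfl
theorem F288688 : act 1 n185656 = n186069 := d15_0 (iv0 D186069) F135864 (iv2 F287966)
def n186070 : Q := act 1 n88630
theorem D186070 : act 1 n88630 = n186070 := rfl
theorem F288689 : act 1 n186070 = n185656 := d15_1 D186070 (iv7 F288685) F288683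
def n186071 : Q := act 4 n88630
theorem D186071 : act 4 n88630 = n186071 := rfl
theorem F288690 : act 7 n186071 = n102798 := d11_2 (iv7 F135864) D186071 F158064
theorem F288691 : act 5 n89647 = n186071 := d19_1 D89647 (iv4 D186071) F135863 F63790 (iv5 D20257) (iv4 D9577) F6203 F3086 (iv5 D968) F1160 F979 F1137 F1135 (iv4 F1771) (iv3 F3040) D4182 D9252 D19712 D41871
theorem E25355 : n102800 = n89647 := (c13_1 D102800 F288691 F288690 (iv5 D102798))
theorem F288692 : act 2 n89647 = n47678 := (sb E25355 F158065)
theorem F288693 : act 7 n89647 = n47677 := (sb E25355 (iv7 D102800))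
theorem F288694 : act 2 n102803 = n186071 := d2_3 (iv5 F288691) F288692 D102803
theorem E25356 : n102795 = n89648 := (c16_10 (iv4 F287843) F287842 (iv4 D88710) (iv5 D41414) (iv4 F63786) D88630 D186071 (iv5 F288691) F288693 D102795)
theorem F288695 : act 2 n89648 = n47677 := (sb E25356 (iv2 D102795))
theorem F288696 : act 7 n89648 = n47678 := (sb E25356 (iv7 F158060))
theorem F288697 : act 7 n102802 = n185541 := d11_2 F288696 D102802 F287843
theorem F288705 : act 4 n186068 = n102803 := d1_0 F288694 (iv4 D186071) (iv2 F288683)
def n186073 : Q := act 0 n88631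
theorem D186073 : act 0 n88631 = n186073 := rfl
def n186074 : Q := act 1 n88631
theorem D186074 : act 1 n88631 = n186074 := rfl
theorem F288707 : act 1 n186074 = n185646 := d15_1 D186074 (iv7 D185646) (iv2 F135865)
def n186075 : Q := act 7 n88631
theorem D186075 : act 7 n88631 = n186075 := rfl
theorem F288708 : act 2 n186075 = n185646 := d4_1 D186075 (iv7 D185646) (iv2 F135865)
theorem F288709 : act 6 n186075 = n185668 := d14_1 D186075 (iv7 D185668) (iv6 D88439) (iv7 F63789) D88631
theorem F288710 : act 1 n185646 = n186073 := d15_0 (iv0 D186073) D186075 F288708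
theorem F288711 : act 1 n185644 = n186075 := d15_1 D185644 (iv7 D186075) F135865
theorem F288712 : act 1 n186075 = n185643 := d15_0 (iv0 D185643) D185646 (iv2 F288708)
def n186080 : Q := act 3 n88638
theorem D186080 : act 3 n88638 = n186080 := rfl
theorem F288730 : act 4 n186080 = n157788 := d5_2 D88638 D186080 F248682 F112726 (iv3 F63795)
theorem F288731 : act 6 n186080 = n88640 := d7_2 (iv6 F135883) D186080 (iv3 D88640)
def n186081 : Q := act 5 n88638
theorem D186081 : act 5 n88638 = n186081 := rfl
theorem F288733 : act 0 n186081 = n158830 := d17_2 (iv1 F135884) D186081 (iv5 D158830) (iv4 D75779) (iv5 D34655) (iv0 D16785) D16787 D34662 D75797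
theorem F288734 : act 1 n186081 = n158840 := d17_6 (iv1 F135951) (iv5 D88634) (iv1 D41371) D41372 D88638 D186081 (iv5 D158840) F250070 F250069
def n186082 : Q := act 1 n88640
theorem D186082 : act 1 n88640 = n186082 := rfl
theorem F288735 : act 7 n186082 = n180679 := d15_2 (iv0 F135893) D186082 (iv2 D180679)
theorem F288736 : act 2 n98132 = n186082 := d4_3 F288735 (iv2 D180679) F254479
theorem E25359 : n180679 = n98133 := ((c15_2 (iv0 D98132) D98133 (iv7 F288735) (iv2 F288736))).symm
theorem F288737 : act 2 n98133 = n86306 := (sb E25359 (iv2 D180679))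
theorem F288738 : act 7 n98133 = n186082 := (sb E25359 (iv7 F288735))
theorem F288739 : act 3 n186082 = n180635 := d0_2 (iv3 F151333) F288736 (iv2 D180635) (iv3 D86286) F254284
theorem F288740 : act 1 n186082 = n98134 := d15_0 F151335 F254479 F288736
def n186083 : Q := act 2 n88640
theorem D186083 : act 2 n88640 = n186083 := rfl
theorem F288741 : act 3 n186083 = n158043 := d0_2 D88640 D186083 (iv2 D158043) (iv3 D75284) (iv2 F63804)
theorem F288742 : act 4 n186083 = n157787 := d1_2 (iv4 F135891) D186083 (iv2 D157787)
theorem F288743 : act 7 n186083 = n98134 := d4_2 (iv7 F135892) D186083 (iv2 D98134)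
theorem F288744 : act 1 n186083 = n98132 := d15_0 (iv0 D98132) (iv7 F135892) D186083
theorem F288745 : act 1 n98133 = n186083 := d15_0 F288744 (iv7 F254479) (iv2 F288737)
def n186084 : Q := act 4 n88641
theorem D186084 : act 4 n88641 = n186084 := rfl
theorem F288746 : act 2 n186084 = n170701 := d1_1 D186084 (iv4 D170701) (iv2 F135894)
theorem F288747 : act 6 n186084 = n184626 := d10_2 (iv6 F135896) D186084 (iv4 D184626)
theorem F288748 : act 1 n186084 = n171249 := d18_6 (iv1 F91689) (iv4 F118764) (iv1 D41377) (iv4 F63810) D88641 D186084 (iv4 D171249) F126474 F91741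
def n186086 : Q := act 7 n88647
theorem D186086 : act 7 n88647 = n186086 := rfl
theorem F288757 : act 3 n186086 = n162229 := d8_1 D186086 (iv7 D162229) (iv3 F135924)
theorem F288760 : act 6 n186086 = n162161 := d14_1 D186086 (iv7 D162161) (iv6 D77907) (iv7 F63816) D88647
def n186087 : Q := act 3 n88650
theorem D186087 : act 3 n88650 = n186087 := rfl
def n186088 : Q := act 3 n88652
theorem D186088 : act 3 n88652 = n186088 := rfl
theorem F288763 : act 4 n186088 = n120904 := d5_2 D88652 D186088 (iv3 D120904) (iv4 D55757) (iv3 F118783)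
def n186089 : Q := act 6 n88660
theorem D186089 : act 6 n88660 = n186089 := rfl
theorem F288767 : act 0 n88748 = n186089 := d21_4 (iv5 F122125) (iv1 F136120) (iv5 D88747) D88748 (iv6 D186089) (iv5 F152310) (iv1 F152311) D98816 F152354 F128516
def n186090 : Q := act 5 n88662
theorem D186090 : act 5 n88662 = n186090 := rfl
theorem F288771 : act 4 n186090 = n174611 := d17_4 (iv1 D88663) F63836 D88662 D186090 (iv5 F273468) (iv0 D164111) (iv5 D78840) D78839 (iv4 F135992)
def n186091 : Q := act 2 n88665
theorem D186091 : act 2 n88665 = n186091 := rfl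
theorem F288772 : act 4 n186091 = n176800 := d1_2 (iv4 F250145) D186091 (iv2 D176800)
theorem F288773 : act 7 n88666 = n186091 := d15_2 (iv0 D88665) D88666 (iv2 D186091)
theorem F288774 : act 3 n186091 = n121011 := d8_1 F288773 (iv7 F192963) (iv3 F254995)
theorem F288775 : act 2 n96339 = n95283 := d0_3 F288774 (iv2 D121011) (iv3 F261060) (iv3 F258388) D186091
theorem F288778 : act 7 n96340 = n95283 := d15_2 (iv0 D96339) D96340 (iv2 F288775)
theorem F288780 : act 7 n88665 = n92311 := d8_2 F288778 (iv3 F258388) F255023
theorem E25361 : n186091 = n92310 := (c15_4 (iv0 D92310) D92311 (iv7 F288780) D186091)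
theorem E25363 : n176800 = n158074 := (((F250028).symm.trans (sb E25361 F288772))).symm
theorem F288789 : act 2 n158074 = n84286 := (sb E25363 (iv2 D176800))
def n186092 : Q := act 5 n88665
theorem D186092 : act 5 n88665 = n186092 := rfl
def n186093 : Q := act 6 n88665
theorem D186093 : act 6 n88665 = n186093 := rfl
theorem F288806 : act 4 n186093 = n176803 := d10_1 D186093 (iv6 D176803) (iv4 F250145)
theorem F288808 : act 5 n186093 = n92311 := d21_6 F28516 (iv1 F17566) (iv5 F31225) D41399 D88665 D186093 (iv1 D92311) F67595 (iv6 D22954) F28518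
def n186095 : Q := act 6 n88666
theorem D186095 : act 6 n88666 = n186095 := rfl
theorem F288814 : act 3 n186095 = n121020 := d7_1 D186095 (iv6 D121020) (iv3 F254995)
theorem F288815 : act 4 n186095 = n176807 := d10_1 D186095 (iv6 D176807) F250029
theorem E25367 : n176807 = n176658 := ((c20_2 (iv4 F129300) D176658 (iv4 F288815) F288814 (iv1 F192971) F192928 D121177 (iv1 F193257) (iv4 D86081) (iv3 F255008) (iv1 D84230))).symm
theorem F288819 : act 6 n176658 = n84287 := (sb E25367 (iv6 D176807))
def n186102 : Q := act 4 n88668
theorem D186102 : act 4 n88668 = n186102 := rfl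
theorem F288823 : act 3 n186102 = n90990 := d20_3 F141951 (iv1 F141955) D186102 (iv1 F140020) (iv3 F158047) (iv4 F160874) (iv1 F160878) D182695 F284269 (iv1 F141953)
def n186109 : Q := act 4 n88670
theorem D186109 : act 4 n88670 = n186109 := rfl
theorem F288829 : act 3 n186109 = n164096 := d5_1 D186109 (iv4 D164096) F120004 (iv4 F63839) (iv3 F135998)
def n186118 : Q := act 7 n88672
theorem D186118 : act 7 n88672 = n186118 := rfl
theorem F288838 : act 4 n186118 = n164105 := d11_1 D186118 (iv7 D164105) (iv4 F136002)
def n186129 : Q := act 2 n88678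
theorem D186129 : act 2 n88678 = n186129 := rfl
theorem F288870 : act 7 n88679 = n186129 := d15_2 (iv0 D88678) D88679 (iv2 D186129)
def n186130 : Q := act 4 n88678
theorem D186130 : act 4 n88678 = n186130 := rfl
def n186131 : Q := act 5 n88678
theorem D186131 : act 5 n88678 = n186131 := rfl
def n186132 : Q := act 6 n88678
theorem D186132 : act 6 n88678 = n186132 := rfl
def n186133 : Q := act 7 n88678
theorem D186133 : act 7 n88678 = n186133 := rfl
theorem F288871 : act 2 n186133 = n88679 := d4_1 D186133 F288870 (iv2 D186129)
def n186134 : Q := act 3 n88679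
theorem D186134 : act 3 n88679 = n186134 := rfl
def n186135 : Q := act 5 n88679
theorem D186135 : act 5 n88679 = n186135 := rfl
def n186136 : Q := act 6 n88679
theorem D186136 : act 6 n88679 = n186136 := rfl
def n186137 : Q := act 5 n88680
theorem D186137 : act 5 n88680 = n186137 := rfl
theorem F288872 : act 2 n186137 = n88681 := d2_1 D186137 (iv5 D88681) D88680
def n186138 : Q := act 6 n88680
theorem D186138 : act 6 n88680 = n186138 := rfl
theorem F288873 : act 2 n186138 = n88682 := d3_1 D186138 (iv6 D88682) D88680
def n186139 : Q := act 0 n88681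
theorem D186139 : act 0 n88681 = n186139 := rfl
def n186140 : Q := act 1 n88681
theorem D186140 : act 1 n88681 = n186140 := rfl
def n186141 : Q := act 4 n88681
theorem D186141 : act 4 n88681 = n186141 := rfl
def n186142 : Q := act 6 n88681
theorem D186142 : act 6 n88681 = n186142 := rfl
theorem F288875 : act 3 n186142 = n88683 := d7_1 D186142 (iv6 D88683) (iv3 F136021)
def n186146 : Q := act 7 n88682
theorem D186146 : act 7 n88682 = n186146 := rfl
theorem F288879 : act 6 n186146 = n102722 := d14_1 D186146 F157991 (iv6 D91048) F66478 D88682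
def n186147 : Q := act 0 n88683
theorem D186147 : act 0 n88683 = n186147 := rfl
def n186148 : Q := act 1 n88683
theorem D186148 : act 1 n88683 = n186148 := rfl
def n186149 : Q := act 5 n88683
theorem D186149 : act 5 n88683 = n186149 := rfl
theorem F288880 : act 6 n186149 = n88684 := d12_2 D88683 D186149 (iv5 D88684) (iv6 D41407) D41406
def n186150 : Q := act 7 n88683
theorem D186150 : act 7 n88683 = n186150 := rfl
def n186151 : Q := act 4 n88684
theorem D186151 : act 4 n88684 = n186151 := rfl
theorem F288881 : act 5 n186151 = n98375 := d16_3 (iv4 F63854) D88684 D186151 F151801 F72601 (iv4 F61670) (iv5 F134021) (iv7 D87299) F61667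
theorem F288882 : act 7 n98374 = n186151 := d13_0 F288881 (iv7 D98375) D98374
def n186152 : Q := act 7 n88684
theorem D186152 : act 7 n88684 = n186152 := rfl
theorem F288883 : act 4 n186152 = n98374 := d11_1 D186152 F288882 (iv4 D186151)
theorem F288884 : act 5 n186152 = n88685 := d13_1 D186152 (iv7 D88685) D88684
theorem F288885 : act 1 n89617 = n186152 := d15_1 F284419 (iv7 D186152) (iv2 F284417)
theorem F288886 : act 1 n186152 = n89607 := d15_1 F288885 (iv7 F288600) F288599
def n186153 : Q := act 4 n88686
theorem D186153 : act 4 n88686 = n186153 := rfl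
theorem F288888 : act 3 n186153 = n89980 := d5_1 D186153 (iv4 D89980) (iv3 D42052) D42053 (iv3 F136028)
theorem F288889 : act 7 n186153 = n105139 := d11_2 F136029 D186153 F161060
theorem E25368 : n91162 = n91084 := ((c20_1 (iv4 F140137) (iv1 D91162) D91164 F140214 (iv1 F138217) (iv3 F288888) (iv4 D186153) F283958 (iv4 D182414) (iv3 F138487) (iv1 F138492))).symm
theorem F288890 : act 0 n91084 = n42685 := (sb E25368 (iv1 D91162))
theorem E25369 : n182454 = n182438 := (c20_5 (iv4 D89980) (iv1 F135647) F135648 D87112 D182454 (iv3 D182438) (iv4 F140137) F288890 D91164 F140214 (iv1 F138217))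
theorem F288891 : act 0 n182438 = n185594 := (sb E25369 (iv1 F287921))
theorem F288892 : act 1 n182438 = n87112 := (sb E25369 (iv0 D182454))
def n186154 : Q := act 5 n88686
theorem D186154 : act 5 n88686 = n186154 := rfl
theorem F288894 : act 7 n186154 = n105147 := d13_2 F136029 D186154 (iv5 D105147)
def n186156 : Q := act 3 n88687
theorem D186156 : act 3 n88687 = n186156 := rfl
theorem F288896 : act 2 n186156 = n89973 := d0_1 D186156 (iv3 D89973) F133954 D48622 (iv2 F283959)
theorem F288897 : act 4 n186156 = n185682 := d5_2 F284089 D186156 F287985 (iv4 D182591) D182590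
theorem F288898 : act 7 n186156 = n105112 := d8_2 F283963 D186156 (iv3 F283966)
theorem F288899 : act 1 n105111 = n186156 := d15_1 D105111 F288898 (iv2 D105112)
theorem F288900 : act 1 n181890 = n105112 := d15_1 (iv0 F283190) (iv7 F288898) F288896
theorem F288901 : act 1 n186156 = n88696 := d15_0 (iv0 F138305) (iv7 F138202) (iv2 F288896)
def n186157 : Q := act 5 n88687
theorem D186157 : act 5 n88687 = n186157 := rfl
theorem F288902 : act 2 n186157 = n105147 := d2_1 D186157 (iv5 D105147) (iv2 F283959)
def n186158 : Q := act 6 n88687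
theorem D186158 : act 6 n88687 = n186158 := rfl
theorem F288903 : act 2 n186158 = n105148 := d3_1 D186158 (iv6 D105148) (iv2 F283959)
def n186159 : Q := act 5 n88688
theorem D186159 : act 5 n88688 = n186159 := rfl
theorem F288904 : act 2 n186159 = n88689 := d2_1 D186159 (iv5 D88689) D88688
def n186160 : Q := act 6 n88688
theorem D186160 : act 6 n88688 = n186160 := rfl
theorem F288905 : act 2 n186160 = n88690 := d3_1 D186160 (iv6 D88690) D88688
def n186161 : Q := act 0 n88689
theorem D186161 : act 0 n88689 = n186161 := rfl
def n186162 : Q := act 1 n88689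
theorem D186162 : act 1 n88689 = n186162 := rfl
def n186163 : Q := act 4 n88689
theorem D186163 : act 4 n88689 = n186163 := rfl
def n186164 : Q := act 6 n88689
theorem D186164 : act 6 n88689 = n186164 := rfl
theorem F288906 : act 3 n186164 = n88691 := d7_1 D186164 (iv6 D88691) (iv3 F136031)
def n186165 : Q := act 0 n88690
theorem D186165 : act 0 n88690 = n186165 := rfl
theorem F288907 : act 3 n186165 = n104892 := d20_5 (iv4 F127090) (iv1 D82478) (iv4 F63857) (iv3 F136032) D186165 (iv4 D104892) (iv1 D48485) (iv4 F74862) (iv3 D47607) (iv1 F72203)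
def n186166 : Q := act 1 n88690
theorem D186166 : act 1 n88690 = n186166 := rfl
def n186167 : Q := act 5 n88690
theorem D186167 : act 5 n88690 = n186167 := rfl
def n186168 : Q := act 7 n88690
theorem D186168 : act 7 n88690 = n186168 := rfl
theorem F288909 : act 3 n186168 = n88693 := d8_1 D186168 (iv7 D88693) (iv3 F136032)
theorem F288910 : act 4 n186168 = n104895 := d11_1 D186168 (iv7 F160784) F160782
theorem F288911 : act 0 n186168 = n104942 := d20_4 F72216 (iv1 F127097) (iv4 F136036) (iv3 F288909) (iv3 D104942) (iv4 D48505) (iv1 D23666) (iv4 F35999) (iv3 D22944) D22942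
def n186169 : Q := act 0 n88691
theorem D186169 : act 0 n88691 = n186169 := rfl
def n186170 : Q := act 1 n88691
theorem D186170 : act 1 n88691 = n186170 := rfl
def n186171 : Q := act 5 n88691
theorem D186171 : act 5 n88691 = n186171 := rfl
theorem F288913 : act 6 n186171 = n88692 := d12_2 D88691 D186171 (iv5 D88692) (iv6 D41410) D41409
def n186172 : Q := act 7 n88691
theorem D186172 : act 7 n88691 = n186172 := rfl
def n186173 : Q := act 4 n88692
theorem D186173 : act 4 n88692 = n186173 := rfl
theorem F288914 : act 5 n186173 = n99942 := d16_1 D186173 F153870 F73773 F34936 (iv5 F66694) (iv4 F74932) (iv5 F157939) F157941 F140088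
theorem F288915 : act 7 n99941 = n186173 := d13_0 F288914 (iv7 D99942) D99941
def n186174 : Q := act 7 n88692
theorem D186174 : act 7 n88692 = n186174 := rfl
theorem F288917 : act 4 n186174 = n99941 := d11_1 D186174 F288915 (iv4 D186173)
theorem F288918 : act 5 n186174 = n88693 := d13_1 D186174 (iv7 D88693) D88692
def n186175 : Q := act 5 n88694
theorem D186175 : act 5 n88694 = n186175 := rfl
theorem F288921 : act 2 n186175 = n88712 := d2_1 D186175 F136052 F136039
theorem F288922 : act 3 n186175 = n102862 := d6_1 D186175 (iv5 D102862) (iv3 F136040)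
theorem F288923 : act 7 n186175 = n88707 := d13_2 (iv7 F136042) D186175 (iv5 D88707)
theorem F288924 : act 1 n88709 = n186175 := d15_1 D88709 F288923 F136049
def n186176 : Q := act 6 n88694
theorem D186176 : act 6 n88694 = n186176 := rfl
theorem F288926 : act 2 n186176 = n88713 := d3_1 D186176 (iv6 D88713) F136039
theorem F288927 : act 3 n186176 = n102863 := d7_1 D186176 (iv6 D102863) (iv3 F136040)
def n186177 : Q := act 0 n88695
theorem D186177 : act 0 n88695 = n186177 := rfl
theorem F288929 : act 1 n88700 = n186177 := d15_0 (iv0 D186177) (iv7 F136044) (iv2 F136046)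
def n186178 : Q := act 1 n88695
theorem D186178 : act 1 n88695 = n186178 := rfl
def n186179 : Q := act 3 n88695
theorem D186179 : act 3 n88695 = n186179 := rfl
theorem F288931 : act 7 n186179 = n88701 := d8_2 F136044 D186179 (iv3 D88701)
def n186180 : Q := act 4 n88695
theorem D186180 : act 4 n88695 = n186180 := rfl
theorem F288932 : act 2 n186180 = n88697 := d1_1 D186180 (iv4 D88697) D88695
theorem F288933 : act 7 n186180 = n88702 := d11_2 F136044 D186180 (iv4 D88702)
theorem F288934 : act 1 n88697 = n185926 := d15_0 F288444 (iv7 F288933) F288932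
def n186181 : Q := act 5 n88695
theorem D186181 : act 5 n88695 = n186181 := rfl
theorem F288935 : act 2 n186181 = n88698 := d2_1 D186181 (iv5 D88698) D88695
theorem F288936 : act 7 n186181 = n88703 := d13_2 F136044 D186181 (iv5 D88703)
theorem F288937 : act 4 n185717 = n186181 := d1_0 F288935 F136045 D185717
theorem E25370 : n186180 = n181889 := (c16_3 F288937 (iv5 D186181) D186180 F283187 (iv4 D102808) (iv5 D47680) (iv4 F67285) (iv5 F138381) F138382 D185717)
theorem F288938 : act 2 n181889 = n88697 := (sb E25370 F288932)
theorem E25371 : n88705 = n88695 := ((F283188).symm.trans (sb E25370 (iv4 D186180)))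
theorem F288939 : act 7 n181889 = n88702 := (sb E25370 F288933)
theorem E25372 : n186177 = n41415 := ((D186177).symm.trans (sb E25371 (iv1 F136047)))
theorem E25373 : n186178 = n41413 := ((D186178).symm.trans (sb E25371 (iv0 D88705)))
theorem F288940 : act 4 n88695 = n181889 := (sb E25371 (iv4 F283188))
theorem E25374 : n88706 = n88700 := (((iv1 F136048)).symm.trans (sb E25372 (iv1 F288929)))
theorem F288941 : act 1 n41415 = n88695 := (sb E25372 (iv0 D186177))
theorem F288942 : act 0 n41413 = n88695 := (sb E25373 (iv1 D186178))
theorem F288943 : act 0 n88700 = n41413 := (sb E25374 (iv1 D88706))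
theorem F288944 : act 1 n88700 = n41415 := (sb E25374 F136048)
theorem F288945 : act 3 n88700 = n181894 := (sb E25374 (iv3 F283192))
theorem F288946 : act 4 n88700 = n185925 := (sb E25374 F288442)
theorem F288947 : act 2 n185925 = n88702 := d1_1 F288946 (iv4 D88702) (iv2 F136046)
theorem F288948 : act 7 n185925 = n88697 := d11_2 D88700 F288946 (iv4 D88697)
theorem F288949 : act 7 n181894 = n88696 := d8_2 D88700 F288945 (iv3 D88696)
theorem E25375 : n181888 = n90015 := ((c11_2 F288949 F138304 (iv7 F283186) D181894)).symm
theorem F288950 : act 2 n90015 = n86875 := (sb E25375 (iv2 D181888))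
theorem F288951 : act 7 n90015 = n86876 := (sb E25375 (iv7 F283186))
theorem F288952 : act 2 n88696 = n181890 := d15_3 F288900 F283194 F288949
theorem F288953 : act 2 n181894 = n105111 := d15_3 F288899 F288901 (iv7 F288949)
theorem E25376 : n181892 = n90014 := ((c1_3 D181894 F288953 (iv4 F161043) F283191)).symm
theorem F288954 : act 2 n90014 = n86876 := (sb E25376 F283191)
theorem F288955 : act 7 n90014 = n86875 := (sb E25376 (iv7 D181892))
theorem F288956 : act 7 n105111 = n181890 := d4_2 (iv7 F288949) F288953 (iv2 F288952)
theorem F288957 : act 0 n186179 = n186037 := d20_10 (iv4 D186037) (iv1 F135810) F72220 F72219 (iv1 F64576) D89677 F137595 F283189 (iv4 F288940) D186179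
def n186182 : Q := act 6 n88695
theorem D186182 : act 6 n88695 = n186182 := rfl
theorem F288958 : act 2 n186182 = n88699 := d3_1 D186182 (iv6 D88699) D88695
def n186183 : Q := act 5 n88696
theorem D186183 : act 5 n88696 = n186183 := rfl
theorem F288959 : act 3 n186183 = n88698 := d6_1 D186183 (iv5 D88698) D88696
theorem F288960 : act 4 n186183 = n181697 := d19_2 F138305 D186183 F282826 (iv1 F148144) F148142 F116021 F60830 F30176 F22116 F12252 F5942 (iv1 F2972) D1835 D4344 D9654 D20372 (iv5 F137547) D23700 D48602
def n186184 : Q := act 6 n88696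
theorem D186184 : act 6 n88696 = n186184 := rfl
theorem F288961 : act 3 n186184 = n88699 := d7_1 D186184 (iv6 D88699) D88696
def n186185 : Q := act 3 n88697
theorem D186185 : act 3 n88697 = n186185 := rfl
theorem F288962 : act 0 n186185 = n182853 := d20_10 (iv4 D182853) (iv1 D87290) F61663 (iv3 D40538) (iv1 F31177) D41367 F63786 D41411 D88697 D186185
def n186186 : Q := act 5 n88697
theorem D186186 : act 5 n88697 = n186186 := rfl
theorem F288963 : act 2 n186186 = n102808 := d2_1 D186186 (iv5 F283187) F288938
theorem F288964 : act 4 n186186 = n102805 := d16_6 (iv4 F67187) (iv5 F135432) (iv4 F136045) (iv5 D88698) D88697 D186186 (iv5 D102805) (iv7 F137441) (iv2 D89649)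
def n186187 : Q := act 6 n88697
theorem D186187 : act 6 n88697 = n186187 := rfl
theorem F288965 : act 4 n186187 = n88699 := d10_1 D186187 (iv6 D88699) D88697
def n186188 : Q := act 0 n88698
theorem D186188 : act 0 n88698 = n186188 := rfl
def n186189 : Q := act 1 n88698
theorem D186189 : act 1 n88698 = n186189 := rfl
theorem F288966 : act 1 n186189 = n88703 := d15_1 D186189 (iv7 F288936) F288935
def n186190 : Q := act 6 n88698
theorem D186190 : act 6 n88698 = n186190 := rfl
theorem F288967 : act 4 n186190 = n185718 := d10_1 D186190 (iv6 D185718) (iv4 F136045)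
def n186191 : Q := act 7 n88698
theorem D186191 : act 7 n88698 = n186191 := rfl
theorem F288968 : act 2 n186191 = n88703 := d4_1 D186191 (iv7 F288936) F288935
theorem F288969 : act 4 n186191 = n90054 := d11_1 D186191 F138382 (iv4 F136045)
theorem F288970 : act 5 n186191 = n88700 := d13_1 D186191 (iv7 D88700) D88698
theorem F288971 : act 1 n88703 = n186188 := d15_0 (iv0 D186188) D186191 F288968
def n186192 : Q := act 0 n88699
theorem D186192 : act 0 n88699 = n186192 := rfl
def n186193 : Q := act 1 n88699
theorem D186193 : act 1 n88699 = n186193 := rfl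
def n186194 : Q := act 5 n88699
theorem D186194 : act 5 n88699 = n186194 := rfl
def n186195 : Q := act 7 n88699
theorem D186195 : act 7 n88699 = n186195 := rfl
def n186196 : Q := act 6 n88700
theorem D186196 : act 6 n88700 = n186196 := rfl
theorem F288972 : act 2 n186196 = n88704 := d3_1 D186196 (iv6 D88704) (iv2 F136046)
def n186197 : Q := act 1 n88701
theorem D186197 : act 1 n88701 = n186197 := rfl
def n186198 : Q := act 2 n88701
theorem D186198 : act 2 n88701 = n186198 := rfl
theorem F288973 : act 3 n186198 = n105111 := d0_2 D88701 D186198 (iv2 F288953) (iv3 F288945) F136046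
theorem F288974 : act 1 n186198 = n186037 := d15_0 (iv0 F288957) F288931 D186198
theorem F288975 : act 4 n186198 = n88701 := d20_2 D186037 (iv1 F288974) (iv3 D88701) (iv1 D41412) (iv3 D19505) (iv4 D9180) F14247 D19474 D41359 D88614
theorem E25377 : n186197 = n98035 := ((c20_1 D98035 (iv1 D186197) (iv4 F288975) F288973 (iv1 D105111) (iv3 D48602) (iv4 D23700) (iv1 F31623) (iv4 F64573) (iv3 F135811) (iv1 F135816))).symm
theorem F288976 : act 0 n98035 = n88701 := (sb E25377 (iv1 D186197))
theorem F288977 : act 0 n186198 = n186042 := d20_10 (iv4 D186042) (iv1 D88615) F63761 (iv3 D41359) (iv1 F31142) D22969 (iv4 F64972) D90014 F161043 (iv3 F288973)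
def n186199 : Q := act 5 n88701
theorem D186199 : act 5 n88701 = n186199 := rfl
theorem F288978 : act 3 n186199 = n88703 := d6_1 D186199 (iv5 D88703) D88701
def n186200 : Q := act 6 n88701
theorem D186200 : act 6 n88701 = n186200 := rfl
theorem F288979 : act 3 n186200 = n88704 := d7_1 D186200 (iv6 D88704) D88701
def n186201 : Q := act 5 n88702
theorem D186201 : act 5 n88702 = n186201 := rfl
theorem F288980 : act 7 n186201 = n102808 := d13_2 F288939 D186201 (iv5 F283187)
theorem F288981 : act 4 n186201 = n89650 := d16_2 D88702 D186201 (iv5 D89650) (iv4 F67187) (iv5 F135432) (iv4 F136045) (iv5 D88698) D88700 F136046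
def n186202 : Q := act 6 n88702
theorem D186202 : act 6 n88702 = n186202 := rfl
def n186203 : Q := act 4 n88703
theorem D186203 : act 4 n88703 = n186203 := rfl
theorem F288983 : act 2 n186203 = n90054 := d1_1 D186203 (iv4 F288969) F288968
theorem F288984 : act 5 n186203 = n91855 := d9_2 D88703 D186203 F141207 D102805 (iv4 F288964) (iv5 D186186) (iv4 D88697) D88698 F136045 F135432 F67187 D89650 (iv4 F288981) (iv5 D186201) (iv4 D88702)
theorem F288985 : act 7 n186203 = n185717 := d11_2 F288936 D186203 F288937
theorem F288986 : act 1 n185716 = n186203 := d15_1 D185716 F288985 (iv2 D185717)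
theorem F288987 : act 3 n185708 = n186203 := d6_3 F288984 F141206 (iv5 F287998)
theorem F288988 : act 1 n186203 = n185715 := d15_0 (iv0 D185715) (iv7 F138382) (iv2 F288983)
def n186204 : Q := act 6 n88703
theorem D186204 : act 6 n88703 = n186204 := rfl
def n186209 : Q := act 0 n88707
theorem D186209 : act 0 n88707 = n186209 := rfl
theorem F288989 : act 1 n88712 = n186209 := d15_0 (iv0 D186209) (iv7 F288923) F288921
def n186210 : Q := act 1 n88707
theorem D186210 : act 1 n88707 = n186210 := rfl
theorem F288990 : act 1 n186210 = n88712 := d15_1 D186210 (iv7 D88712) (iv2 F136049)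
def n186211 : Q := act 4 n88707
theorem D186211 : act 4 n88707 = n186211 := rfl
theorem F288991 : act 2 n186211 = n88710 := d1_1 D186211 (iv4 D88710) (iv2 F136049)
theorem F288992 : act 5 n186211 = n102797 := d16_1 D186211 (iv4 D102797) D102798 F158064 (iv5 D88437) (iv4 F63860) (iv5 F136052) (iv7 D88712) (iv2 F136049)
def n186212 : Q := act 6 n88707
theorem D186212 : act 6 n88707 = n186212 := rfl
theorem F288993 : act 2 n186212 = n88711 := d3_1 D186212 (iv6 D88711) (iv2 F136049)
def n186213 : Q := act 2 n88708
theorem D186213 : act 2 n88708 = n186213 := rfl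
theorem F288994 : act 7 n88709 = n186213 := d15_2 (iv0 D88708) D88709 (iv2 D186213)
def n186218 : Q := act 7 n88708
theorem D186218 : act 7 n88708 = n186218 := rfl
theorem F288995 : act 2 n186218 = n88709 := d4_1 D186218 F288994 (iv2 D186213)
def n186219 : Q := act 3 n88709
theorem D186219 : act 3 n88709 = n186219 := rfl
def n186220 : Q := act 4 n88709
theorem D186220 : act 4 n88709 = n186220 := rfl
def n186221 : Q := act 5 n88709
theorem D186221 : act 5 n88709 = n186221 := rfl
def n186222 : Q := act 6 n88709
theorem D186222 : act 6 n88709 = n186222 := rfl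
def n186223 : Q := act 0 n88710
theorem D186223 : act 0 n88710 = n186223 := rfl
def n186224 : Q := act 1 n88710
theorem D186224 : act 1 n88710 = n186224 := rfl
def n186225 : Q := act 6 n88710
theorem D186225 : act 6 n88710 = n186225 := rfl
theorem F288996 : act 4 n186225 = n88711 := d10_1 D186225 (iv6 D88711) D88710
def n186226 : Q := act 7 n88710
theorem D186226 : act 7 n88710 = n186226 := rfl
theorem F288997 : act 4 n186226 = n88712 := d11_1 D186226 (iv7 D88712) D88710
theorem F288998 : act 5 n186226 = n102802 := d13_1 D186226 F288697 F287842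
def n186227 : Q := act 0 n88711
theorem D186227 : act 0 n88711 = n186227 := rfl
def n186228 : Q := act 1 n88711
theorem D186228 : act 1 n88711 = n186228 := rfl
def n186229 : Q := act 7 n88711
theorem D186229 : act 7 n88711 = n186229 := rfl
theorem F288999 : act 3 n186229 = n88720 := d8_1 D186229 (iv7 D88720) (iv3 F136050)
def n186230 : Q := act 6 n88712
theorem D186230 : act 6 n88712 = n186230 := rfl
theorem F289000 : act 3 n186230 = n88721 := d7_1 D186230 (iv6 D88721) (iv3 F136051)
def n186243 : Q := act 0 n88716
theorem D186243 : act 0 n88716 = n186243 := rfl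
def n186244 : Q := act 1 n88716
theorem D186244 : act 1 n88716 = n186244 := rfl
def n186245 : Q := act 2 n88716
theorem D186245 : act 2 n88716 = n186245 := rfl
theorem F289005 : act 5 n186245 = n88761 := d2_2 (iv5 F136056) D186245 (iv2 D88761)
theorem F289006 : act 1 n186245 = n105147 := d15_0 (iv0 F161069) F158056 D186245
theorem E25378 : n182491 = n182408 := ((c17_2 D87095 D182408 (iv1 F284274) (iv5 D182698) (iv4 F136151) (iv5 F289005) F289006 (iv5 D105147) (iv0 F133702) (iv4 D87098))).symm
theorem F289007 : act 0 n182408 = n182698 := (sb E25378 (iv1 F284274))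
theorem F289008 : act 1 n182408 = n87125 := (sb E25378 (iv0 D182491))
def n186246 : Q := act 4 n88716
theorem D186246 : act 4 n88716 = n186246 := rfl
def n186247 : Q := act 6 n88716
theorem D186247 : act 6 n88716 = n186247 := rfl
theorem F289009 : act 3 n186247 = n88717 := d7_1 D186247 (iv6 D88717) D88716
def n186248 : Q := act 0 n88717
theorem D186248 : act 0 n88717 = n186248 := rfl
def n186249 : Q := act 1 n88717
theorem D186249 : act 1 n88717 = n186249 := rfl
def n186250 : Q := act 5 n88717
theorem D186250 : act 5 n88717 = n186250 := rfl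
theorem F289010 : act 6 n186250 = n88765 := d12_2 D88717 D186250 (iv5 D88765) (iv6 D41443) (iv5 F63864)
def n186251 : Q := act 7 n88717
theorem D186251 : act 7 n88717 = n186251 := rfl
def n186252 : Q := act 2 n88718
theorem D186252 : act 2 n88718 = n186252 := rfl
theorem F289011 : act 7 n88719 = n186252 := d15_2 (iv0 D88718) D88719 (iv2 D186252)
def n186253 : Q := act 3 n88718
theorem D186253 : act 3 n88718 = n186253 := rfl
def n186254 : Q := act 4 n88718
theorem D186254 : act 4 n88718 = n186254 := rfl
def n186255 : Q := act 5 n88718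
theorem D186255 : act 5 n88718 = n186255 := rfl
def n186256 : Q := act 6 n88718
theorem D186256 : act 6 n88718 = n186256 := rfl
def n186257 : Q := act 7 n88718
theorem D186257 : act 7 n88718 = n186257 := rfl
theorem F289012 : act 2 n186257 = n88719 := d4_1 D186257 F289011 (iv2 D186252)
def n186258 : Q := act 3 n88719
theorem D186258 : act 3 n88719 = n186258 := rfl
def n186259 : Q := act 4 n88719
theorem D186259 : act 4 n88719 = n186259 := rfl
def n186260 : Q := act 5 n88719
theorem D186260 : act 5 n88719 = n186260 := rfl
def n186261 : Q := act 6 n88719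
theorem D186261 : act 6 n88719 = n186261 := rfl
def n186262 : Q := act 6 n88720
theorem D186262 : act 6 n88720 = n186262 := rfl
theorem F289013 : act 2 n186262 = n102875 := d3_1 D186262 (iv6 F288669) F288668
theorem F289014 : act 7 n186262 = n88721 := d14_2 D88720 D186262 (iv6 D88721) (iv7 D41419) D41418
theorem F289015 : act 1 n102873 = n186262 := d15_1 D102873 F289014 F136057
theorem F289016 : act 1 n186262 = n102872 := d15_0 (iv0 D102872) D102875 (iv2 F289013)
def n186263 : Q := act 0 n88721
theorem D186263 : act 0 n88721 = n186263 := rfl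
theorem F289017 : act 1 n102875 = n186263 := d15_0 (iv0 D186263) (iv7 F289014) F289013
def n186264 : Q := act 1 n88721
theorem D186264 : act 1 n88721 = n186264 := rfl
theorem F289018 : act 1 n186264 = n102875 := d15_1 D186264 (iv7 D102875) (iv2 F136057)
def n186265 : Q := act 5 n88721
theorem D186265 : act 5 n88721 = n186265 := rfl
theorem F289019 : act 2 n186265 = n102874 := d2_1 D186265 (iv5 D102874) (iv2 F136057)
theorem F289020 : act 6 n186265 = n88724 := d12_2 D88721 D186265 (iv5 D88724) (iv6 D41420) (iv5 F63866)
def n186273 : Q := act 4 n88724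
theorem D186273 : act 4 n88724 = n186273 := rfl
theorem F289039 : act 2 n186273 = n102883 := d1_1 D186273 (iv4 D102883) (iv2 F136060)
def n186277 : Q := act 2 n88735
theorem D186277 : act 2 n88735 = n186277 := rfl
theorem F289049 : act 7 n88736 = n186277 := d15_2 (iv0 D88735) D88736 (iv2 D186277)
def n186278 : Q := act 3 n88735
theorem D186278 : act 3 n88735 = n186278 := rfl
def n186279 : Q := act 4 n88735
theorem D186279 : act 4 n88735 = n186279 := rfl
def n186280 : Q := act 5 n88735
theorem D186280 : act 5 n88735 = n186280 := rfl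
def n186281 : Q := act 6 n88735
theorem D186281 : act 6 n88735 = n186281 := rfl
def n186282 : Q := act 7 n88735
theorem D186282 : act 7 n88735 = n186282 := rfl
theorem F289051 : act 2 n186282 = n88736 := d4_1 D186282 F289049 (iv2 D186277)
def n186283 : Q := act 3 n88736
theorem D186283 : act 3 n88736 = n186283 := rfl
def n186284 : Q := act 4 n88736
theorem D186284 : act 4 n88736 = n186284 := rfl
def n186285 : Q := act 5 n88736
theorem D186285 : act 5 n88736 = n186285 := rfl
def n186286 : Q := act 6 n88736
theorem D186286 : act 6 n88736 = n186286 := rfl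
def n186287 : Q := act 5 n88737
theorem D186287 : act 5 n88737 = n186287 := rfl
theorem F289053 : act 2 n186287 = n88738 := d2_1 D186287 (iv5 D88738) D88737
def n186288 : Q := act 0 n88738
theorem D186288 : act 0 n88738 = n186288 := rfl
def n186289 : Q := act 1 n88738
theorem D186289 : act 1 n88738 = n186289 := rfl
def n186290 : Q := act 4 n88738
theorem D186290 : act 4 n88738 = n186290 := rfl
def n186291 : Q := act 6 n88738
theorem D186291 : act 6 n88738 = n186291 := rfl
theorem F289054 : act 3 n186291 = n88739 := d7_1 D186291 (iv6 D88739) (iv3 F136083)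
def n186292 : Q := act 0 n88739
theorem D186292 : act 0 n88739 = n186292 := rfl
def n186293 : Q := act 1 n88739
theorem D186293 : act 1 n88739 = n186293 := rfl
def n186294 : Q := act 7 n88739
theorem D186294 : act 7 n88739 = n186294 := rfl
def n186295 : Q := act 3 n88742
theorem D186295 : act 3 n88742 = n186295 := rfl
theorem F289056 : act 7 n186295 = n165572 := d8_2 (iv7 F136097) D186295 (iv3 D165572)
def n186296 : Q := act 6 n88742
theorem D186296 : act 6 n88742 = n186296 := rfl
theorem F289058 : act 4 n186296 = n88743 := d10_1 D186296 (iv6 D88743) D88742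
def n186297 : Q := act 3 n88746
theorem D186297 : act 3 n88746 = n186297 := rfl
theorem F289062 : act 4 n186297 = n177425 := d5_2 D88746 D186297 F276845 (iv4 F136111) F136107
theorem F289063 : act 6 n186297 = n173254 := d7_2 (iv6 F136115) D186297 (iv3 D173254)
def n186298 : Q := act 0 n88751
theorem D186298 : act 0 n88751 = n186298 := rfl
def n186299 : Q := act 1 n88751
theorem D186299 : act 1 n88751 = n186299 := rfl
def n186300 : Q := act 2 n88751
theorem D186300 : act 2 n88751 = n186300 := rfl
theorem F289064 : act 6 n186300 = n88756 := d3_2 (iv6 F136140) D186300 (iv2 D88756)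
def n186301 : Q := act 5 n88751
theorem D186301 : act 5 n88751 = n186301 := rfl
theorem F289065 : act 3 n186301 = n88752 := d6_1 D186301 (iv5 D88752) D88751
def n186302 : Q := act 7 n88751
theorem D186302 : act 7 n88751 = n186302 := rfl
theorem F289066 : act 3 n186302 = n88753 := d8_1 D186302 (iv7 D88753) D88751
theorem F289067 : act 4 n186302 = n166030 := d11_1 D186302 (iv7 F281848) F281846
def n186303 : Q := act 4 n88752
theorem D186303 : act 4 n88752 = n186303 := rfl
theorem F289068 : act 2 n186303 = n175035 := d1_1 D186303 F273946 F158043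
theorem F289069 : act 5 n186303 = n173381 := d9_2 D88752 D186303 F271862 F127886 (iv4 F63826) (iv5 F74950) (iv4 F128556) (iv5 F273478) F273479 (iv5 D83589) (iv4 D38543) (iv5 D18358) (iv4 F14330) D19514 D41438
theorem F289070 : act 0 n186303 = n175033 := d18_2 (iv1 F136142) D186303 F273944 F271765 (iv4 D88742) D88741 F136095 F128547 D83455
theorem F289071 : act 1 n186303 = n175032 := d18_6 (iv1 F127830) F127832 (iv1 D41437) D41438 D88752 D186303 F273939 F271769 F128580
theorem F289072 : act 7 n186303 = n173380 := d15_2 D175033 (iv0 F289070) F271860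
def n186304 : Q := act 6 n88752
theorem D186304 : act 6 n88752 = n186304 := rfl
theorem F289073 : act 2 n186304 = n176918 := d3_1 D186304 F276272 F158043
theorem F289074 : act 5 n186304 = n88758 := d12_1 D186304 (iv6 D88758) (iv5 D41441) (iv6 F63882) D88752
def n186305 : Q := act 7 n88752
theorem D186305 : act 7 n88752 = n186305 := rfl
theorem F289075 : act 2 n186305 = n174619 := d4_1 D186305 F273481 F158043
theorem F289076 : act 4 n186305 = n173380 := d11_1 D186305 (iv7 F289072) (iv4 D186303)
theorem F289077 : act 5 n186305 = n88753 := d13_1 D186305 (iv7 D88753) D88752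
theorem F289078 : act 1 n124642 = n186305 := d15_1 (iv0 F199387) (iv7 D186305) (iv2 F158043)
theorem F289079 : act 1 n186305 = n173318 := d15_1 F289078 F271743 (iv2 F199385)
def n186306 : Q := act 2 n88754
theorem D186306 : act 2 n88754 = n186306 := rfl
theorem F289080 : act 7 n88755 = n186306 := d15_2 (iv0 D88754) D88755 (iv2 D186306)
def n186307 : Q := act 3 n88754
theorem D186307 : act 3 n88754 = n186307 := rfl
theorem F289081 : act 4 n186307 = n176742 := d20_6 F59880 F31221 D19516 D41440 D88754 D186307 (iv1 D176742) F129336 (iv3 D38863) (iv1 F59878)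
def n186308 : Q := act 4 n88754
theorem D186308 : act 4 n88754 = n186308 := rfl
theorem F289082 : act 0 n163457 = n186308 := d20_10 (iv4 D186308) (iv1 F158078) (iv4 F257722) (iv3 F282838) (iv1 F282841) (iv3 F262507) (iv4 D166776) (iv1 F258226) F141802 D163457
def n186309 : Q := act 5 n88754
theorem D186309 : act 5 n88754 = n186309 := rfl
def n186310 : Q := act 6 n88754
theorem D186310 : act 6 n88754 = n186310 := rfl
def n186311 : Q := act 7 n88754
theorem D186311 : act 7 n88754 = n186311 := rfl
theorem F289083 : act 2 n186311 = n88755 := d4_1 D186311 F289080 (iv2 D186306)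
def n186312 : Q := act 3 n88755
theorem D186312 : act 3 n88755 = n186312 := rfl
def n186313 : Q := act 4 n88755
theorem D186313 : act 4 n88755 = n186313 := rfl
theorem F289084 : act 3 n163439 = n186313 := d20_5 (iv4 D75171) F54625 (iv4 F56453) D78545 D163439 (iv4 D186313) (iv1 D88755) (iv4 F133001) (iv3 D86719) (iv1 F112718)
def n186314 : Q := act 5 n88755
theorem D186314 : act 5 n88755 = n186314 := rfl
def n186315 : Q := act 6 n88755
theorem D186315 : act 6 n88755 = n186315 := rfl
def n186316 : Q := act 5 n88756
theorem D186316 : act 5 n88756 = n186316 := rfl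
theorem F289085 : act 2 n186316 = n88757 := d2_1 D186316 (iv5 D88757) D88756
theorem F289086 : act 3 n186316 = n176913 := d6_1 D186316 F276269 F158041
theorem F289087 : act 7 n186316 = n176922 := d13_2 F158077 D186316 F276274
theorem F289088 : act 1 n176921 = n186316 := d15_1 D176921 F289087 (iv2 D176922)
def n186317 : Q := act 0 n88757
theorem D186317 : act 0 n88757 = n186317 := rfl
def n186318 : Q := act 1 n88757
theorem D186318 : act 1 n88757 = n186318 := rfl
theorem F289091 : act 1 n186318 = n176922 := d15_1 D186318 (iv7 F289087) F289085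
def n186319 : Q := act 4 n88757
theorem D186319 : act 4 n88757 = n186319 := rfl
theorem F289092 : act 3 n186319 = n186201 := d5_1 D186319 F288981 F137445 F64541 (iv3 F136147)
theorem F289093 : act 7 n186319 = n176923 := d11_2 (iv7 F136148) D186319 (iv4 D176923)
theorem F289094 : act 5 n186319 = n90014 := d16_7 (iv4 F138304) D186183 F288960 (iv5 D181697) F133001 D88757 D186319 F288955 (iv2 F288950)
theorem F289095 : act 2 n181895 = n186319 := d2_3 F289094 F288954 D181895
theorem F289096 : act 4 n186316 = n181895 := d1_0 F289095 (iv4 D186319) (iv2 F289085)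
def n186320 : Q := act 6 n88757
theorem D186320 : act 6 n88757 = n186320 := rfl
theorem F289097 : act 3 n186320 = n88758 := d7_1 D186320 (iv6 D88758) (iv3 F136147)
def n186321 : Q := act 0 n88758
theorem D186321 : act 0 n88758 = n186321 := rfl
def n186322 : Q := act 1 n88758
theorem D186322 : act 1 n88758 = n186322 := rfl
theorem F289098 : act 1 n186322 = n176919 := d15_1 D186322 (iv7 D176919) (iv2 F136149)
def n186323 : Q := act 7 n88758
theorem D186323 : act 7 n88758 = n186323 := rfl
theorem F289099 : act 2 n186323 = n176919 := d4_1 D186323 (iv7 D176919) (iv2 F136149)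
theorem F289100 : act 6 n186323 = n176928 := d14_1 D186323 (iv7 D176928) (iv6 D84334) (iv7 F63885) D88758
theorem F289101 : act 1 n176919 = n186321 := d15_0 (iv0 D186321) D186323 F289099
theorem F289102 : act 1 n176917 = n186323 := d15_1 D176917 (iv7 D186323) F136149
theorem F289103 : act 1 n186323 = n176916 := d15_0 (iv0 D176916) D176919 (iv2 F289099)
def n186324 : Q := act 5 n88759
theorem D186324 : act 5 n88759 = n186324 := rfl
theorem F289104 : act 3 n186324 = n92272 := d6_1 D186324 (iv5 D92272) (iv3 F136150)
theorem F289105 : act 0 n88788 = n186324 := d20_4 (iv4 F59891) (iv1 F72391) F72389 D88788 F289104 F161039 (iv1 D102975) (iv4 D47751) F36029 D22976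
theorem F289106 : act 1 n186159 = n186324 := d15_0 (iv0 F289105) F136167 (iv2 F288904)
def n186326 : Q := act 3 n88760
theorem D186326 : act 3 n88760 = n186326 := rfl
theorem F289108 : act 2 n186326 = n92264 := d0_1 D186326 (iv3 D92264) F137561 D92380 F158053
theorem F289109 : act 1 n186326 = n185546 := d15_0 (iv0 F287847) F142055 (iv2 F289108)
def n186327 : Q := act 5 n88760
theorem D186327 : act 5 n88760 = n186327 := rfl
def n186328 : Q := act 6 n88760
theorem D186328 : act 6 n88760 = n186328 := rfl
def n186329 : Q := act 6 n88761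
theorem D186329 : act 6 n88761 = n186329 := rfl
theorem F289111 : act 2 n186329 = n88762 := d3_1 D186329 (iv6 D88762) D88761
theorem F289112 : act 4 n186329 = n182699 := d10_1 D186329 (iv6 D182699) (iv4 F136151)
def n186332 : Q := act 5 n88762
theorem D186332 : act 5 n88762 = n186332 := rfl
theorem F289113 : act 3 n186332 = n88765 := d6_1 D186332 (iv5 D88765) (iv3 F136152)
def n186333 : Q := act 7 n88762
theorem D186333 : act 7 n88762 = n186333 := rfl
theorem F289114 : act 3 n186333 = n88766 := d8_1 D186333 (iv7 D88766) (iv3 F136152)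
theorem F289115 : act 4 n186333 = n182707 := d11_1 D186333 (iv7 D182707) (iv4 F136153)
def n186335 : Q := act 1 n88765
theorem D186335 : act 1 n88765 = n186335 := rfl
theorem F289118 : act 5 n92368 = n186335 := d21_6 D41872 F64543 F63896 D42646 (iv1 F72202) (iv6 F142046) (iv1 D186335) (iv5 D88765) (iv6 D41443) (iv1 F31463)
def n186336 : Q := act 4 n88765
theorem D186336 : act 4 n88765 = n186336 := rfl
def n186337 : Q := act 7 n88765
theorem D186337 : act 7 n88765 = n186337 := rfl
theorem F289120 : act 5 n186337 = n88766 := d13_1 D186337 (iv7 D88766) D88765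
theorem F289121 : act 1 n102733 = n186337 := d15_1 (iv0 F158004) (iv7 D186337) (iv2 F140038)
def n186348 : Q := act 6 n88769
theorem D186348 : act 6 n88769 = n186348 := rfl
theorem F289127 : act 2 n186348 = n88770 := d3_1 D186348 (iv6 D88770) D88769
theorem F289128 : act 4 n186348 = n93171 := d10_1 D186348 (iv6 D93171) (iv4 F136154)
def n186357 : Q := act 0 n88774
theorem D186357 : act 0 n88774 = n186357 := rfl
def n186358 : Q := act 1 n88774
theorem D186358 : act 1 n88774 = n186358 := rfl
theorem F289136 : act 4 n182694 = n186358 := d20_6 (iv4 D93128) (iv1 F68490) (iv4 F133876) (iv3 F160873) (iv1 F160878) D182694 (iv1 D186358) F283878 (iv3 F284351) (iv1 F284353)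
def n186359 : Q := act 2 n88774
theorem D186359 : act 2 n88774 = n186359 := rfl
def n186360 : Q := act 5 n88774
theorem D186360 : act 5 n88774 = n186360 := rfl
theorem F289142 : act 3 n186360 = n88776 := d6_1 D186360 (iv5 D88776) D88774
def n186361 : Q := act 6 n88774
theorem D186361 : act 6 n88774 = n186361 := rfl
theorem F289143 : act 3 n186361 = n88777 := d7_1 D186361 (iv6 D88777) D88774
def n186362 : Q := act 0 n88775
theorem D186362 : act 0 n88775 = n186362 := rfl
def n186363 : Q := act 1 n88775
theorem D186363 : act 1 n88775 = n186363 := rfl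
def n186364 : Q := act 3 n88775
theorem D186364 : act 3 n88775 = n186364 := rfl
theorem F289148 : act 4 n186364 = n182792 := d5_2 D88775 D186364 F284351 (iv4 F283878) (iv3 D88774)
theorem F289150 : act 0 n186364 = n93197 := d20_10 F143774 (iv1 D87224) F61653 (iv3 D20109) (iv1 F31248) D41424 F63875 D41446 D88775 D186364
theorem E25379 : n182740 = n182720 := ((c20_10 (iv4 D185564) (iv1 F135387) (iv4 F283200) (iv3 F284142) (iv1 F284146) (iv3 F284351) (iv4 F289148) F289150 F143774 D182720 (iv1 F287881))).symm
theorem F289152 : act 1 n182720 = n87232 := (sb E25379 (iv0 D182740))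
def n186365 : Q := act 5 n88775
theorem D186365 : act 5 n88775 = n186365 := rfl
theorem F289155 : act 2 n186365 = n93258 := d2_1 D186365 (iv5 D93258) (iv2 F141310)
def n186366 : Q := act 6 n88775
theorem D186366 : act 6 n88775 = n186366 := rfl
def n186367 : Q := act 0 n88776
theorem D186367 : act 0 n88776 = n186367 := rfl
theorem F289158 : act 1 n88781 = n186367 := d15_0 (iv0 D186367) (iv7 F158096) F158095
def n186368 : Q := act 1 n88776
theorem D186368 : act 1 n88776 = n186368 := rfl
theorem F289159 : act 1 n186368 = n88781 := d15_1 D186368 (iv7 F158099) F158098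
def n186369 : Q := act 4 n88776
theorem D186369 : act 4 n88776 = n186369 := rfl
def n186370 : Q := act 6 n88776
theorem D186370 : act 6 n88776 = n186370 := rfl
def n186375 : Q := act 5 n88779
theorem D186375 : act 5 n88779 = n186375 := rfl
theorem F289161 : act 3 n186375 = n88781 := d6_1 D186375 (iv5 D88781) D88779
theorem F289164 : act 1 n186375 = n89982 := d17_6 F133738 (iv5 F141313) (iv1 F141316) F133974 F141038 D186375 (iv5 D89982) F133969 (iv4 D87163)
def n186378 : Q := act 4 n88781
theorem D186378 : act 4 n88781 = n186378 := rfl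
def n186379 : Q := act 6 n88781
theorem D186379 : act 6 n88781 = n186379 := rfl
def n186384 : Q := act 4 n88783
theorem D186384 : act 4 n88783 = n186384 := rfl
theorem F289170 : act 2 n186384 = n88786 := d1_1 D186384 (iv4 D88786) (iv2 F136164)
def n186385 : Q := act 6 n88783
theorem D186385 : act 6 n88783 = n186385 := rfl
theorem F289171 : act 2 n186385 = n88787 := d3_1 D186385 (iv6 D88787) (iv2 F136164)
def n186386 : Q := act 2 n88784
theorem D186386 : act 2 n88784 = n186386 := rfl
theorem F289172 : act 7 n88785 = n186386 := d15_2 (iv0 D88784) D88785 (iv2 D186386)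
def n186387 : Q := act 3 n88784
theorem D186387 : act 3 n88784 = n186387 := rfl
def n186388 : Q := act 4 n88784
theorem D186388 : act 4 n88784 = n186388 := rfl
def n186389 : Q := act 5 n88784
theorem D186389 : act 5 n88784 = n186389 := rfl
def n186390 : Q := act 6 n88784
theorem D186390 : act 6 n88784 = n186390 := rfl
def n186391 : Q := act 7 n88784
theorem D186391 : act 7 n88784 = n186391 := rfl
theorem F289173 : act 2 n186391 = n88785 := d4_1 D186391 F289172 (iv2 D186386)
def n186392 : Q := act 3 n88785
theorem D186392 : act 3 n88785 = n186392 := rfl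
def n186393 : Q := act 4 n88785
theorem D186393 : act 4 n88785 = n186393 := rfl
def n186394 : Q := act 5 n88785
theorem D186394 : act 5 n88785 = n186394 := rfl
def n186395 : Q := act 6 n88785
theorem D186395 : act 6 n88785 = n186395 := rfl
def n186396 : Q := act 0 n88786
theorem D186396 : act 0 n88786 = n186396 := rfl
def n186397 : Q := act 1 n88786
theorem D186397 : act 1 n88786 = n186397 := rfl
def n186398 : Q := act 3 n88786
theorem D186398 : act 3 n88786 = n186398 := rfl
theorem F289174 : act 4 n186398 = n88792 := d5_2 D88786 D186398 (iv3 D88792) (iv4 D41452) (iv3 F63891)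
theorem F289175 : act 7 n186398 = n176914 := d8_2 F158109 D186398 F276270
def n186399 : Q := act 5 n88786
theorem D186399 : act 5 n88786 = n186399 := rfl
def n186400 : Q := act 6 n88786
theorem D186400 : act 6 n88786 = n186400 := rfl
theorem F289176 : act 4 n186400 = n88787 := d10_1 D186400 (iv6 D88787) D88786
def n186401 : Q := act 0 n88787
theorem D186401 : act 0 n88787 = n186401 := rfl
def n186402 : Q := act 1 n88787
theorem D186402 : act 1 n88787 = n186402 := rfl
def n186403 : Q := act 7 n88787
theorem D186403 : act 7 n88787 = n186403 := rfl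
theorem F289177 : act 3 n186403 = n88796 := d8_1 D186403 (iv7 D88796) (iv3 F136165)
def n186404 : Q := act 1 n88788
theorem D186404 : act 1 n88788 = n186404 := rfl
def n186405 : Q := act 2 n88788
theorem D186405 : act 2 n88788 = n186405 := rfl
theorem F289178 : act 3 n186405 = n186137 := d0_2 D88788 D186405 F288872 F136021 F63893
theorem F289179 : act 5 n186405 = n182414 := d2_2 (iv5 F136166) D186405 F283954
theorem F289180 : act 7 n186405 = n186159 := d4_2 (iv7 F136167) D186405 F288904
theorem F289181 : act 1 n186405 = n186161 := d15_0 (iv0 D186161) (iv7 F136167) D186405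
theorem F289182 : act 1 n186404 = n186159 := d15_1 D186404 (iv7 F289180) (iv2 D186405)
theorem F289183 : act 1 n186162 = n186405 := d15_1 D186162 F289180 F288904
def n186406 : Q := act 4 n88788
theorem D186406 : act 4 n88788 = n186406 := rfl
theorem F289184 : act 7 n186406 = n186163 := d11_2 (iv7 F136167) D186406 (iv4 D186163)
def n186407 : Q := act 6 n88788
theorem D186407 : act 6 n88788 = n186407 := rfl
theorem F289185 : act 3 n186407 = n88789 := d7_1 D186407 (iv6 D88789) D88788
def n186408 : Q := act 0 n88789
theorem D186408 : act 0 n88789 = n186408 := rfl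
def n186409 : Q := act 1 n88789
theorem D186409 : act 1 n88789 = n186409 := rfl
theorem F289186 : act 1 n186409 = n186150 := d15_1 D186409 (iv7 D186150) (iv2 F136168)
def n186410 : Q := act 5 n88789
theorem D186410 : act 5 n88789 = n186410 := rfl
theorem F289188 : act 6 n186410 = n182865 := d12_2 D88789 D186410 (iv5 D182865) F134017 (iv5 F63892)
def n186411 : Q := act 7 n88789
theorem D186411 : act 7 n88789 = n186411 := rfl
theorem F289189 : act 2 n186411 = n186150 := d4_1 D186411 (iv7 D186150) (iv2 F136168)
theorem F289190 : act 6 n186411 = n186172 := d14_1 D186411 (iv7 D186172) (iv6 D88691) F63894 D88789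
theorem F289191 : act 1 n186150 = n186408 := d15_0 (iv0 D186408) D186411 F289189
theorem F289192 : act 1 n186148 = n186411 := d15_1 D186148 (iv7 D186411) F136168
theorem F289193 : act 1 n186411 = n186147 := d15_0 (iv0 D186147) D186150 (iv2 F289189)
def n186412 : Q := act 0 n88790
theorem D186412 : act 0 n88790 = n186412 := rfl
theorem F289194 : act 1 n186137 = n186412 := d15_0 (iv0 D186412) F136170 (iv2 F288872)
def n186413 : Q := act 1 n88790
theorem D186413 : act 1 n88790 = n186413 := rfl
def n186414 : Q := act 2 n88790
theorem D186414 : act 2 n88790 = n186414 := rfl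
theorem F289195 : act 3 n186414 = n186159 := d0_2 D88790 D186414 F288904 F136031 F63897
theorem F289196 : act 5 n186414 = n91047 := d2_2 (iv5 F136169) D186414 (iv2 D91047)
theorem F289197 : act 7 n186414 = n186137 := d4_2 (iv7 F136170) D186414 F288872
theorem F289198 : act 1 n186414 = n186139 := d15_0 (iv0 D186139) (iv7 F136170) D186414
theorem F289199 : act 1 n186413 = n186137 := d15_1 D186413 (iv7 F289197) (iv2 D186414)
theorem F289200 : act 1 n186140 = n186414 := d15_1 D186140 F289197 F288872
def n186415 : Q := act 4 n88790
theorem D186415 : act 4 n88790 = n186415 := rfl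
theorem F289201 : act 7 n186415 = n186141 := d11_2 (iv7 F136170) D186415 (iv4 D186141)
def n186416 : Q := act 6 n88790
theorem D186416 : act 6 n88790 = n186416 := rfl
theorem F289202 : act 3 n186416 = n88791 := d7_1 D186416 (iv6 D88791) D88790
def n186417 : Q := act 0 n88791
theorem D186417 : act 0 n88791 = n186417 := rfl
def n186418 : Q := act 1 n88791
theorem D186418 : act 1 n88791 = n186418 := rfl
theorem F289203 : act 1 n186418 = n186172 := d15_1 D186418 (iv7 D186172) (iv2 F136171)
def n186419 : Q := act 5 n88791
theorem D186419 : act 5 n88791 = n186419 := rfl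
theorem F289205 : act 6 n186419 = n91049 := d12_2 D88791 D186419 (iv5 D91049) (iv6 D42646) (iv5 F63896)
def n186420 : Q := act 7 n88791
theorem D186420 : act 7 n88791 = n186420 := rfl
theorem F289206 : act 2 n186420 = n186172 := d4_1 D186420 (iv7 D186172) (iv2 F136171)
theorem F289207 : act 6 n186420 = n186150 := d14_1 D186420 (iv7 D186150) (iv6 D88683) (iv7 F63895) D88791
theorem F289208 : act 1 n186172 = n186417 := d15_0 (iv0 D186417) D186420 F289206
theorem F289209 : act 1 n186170 = n186420 := d15_1 D186170 (iv7 D186420) F136171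
theorem F289210 : act 1 n186420 = n186169 := d15_0 (iv0 D186169) D186172 (iv2 F289206)
def n186421 : Q := act 0 n88792
theorem D186421 : act 0 n88792 = n186421 := rfl
theorem F289211 : act 1 n176913 = n186421 := d15_0 (iv0 D186421) F136173 D176913
def n186422 : Q := act 1 n88792
theorem D186422 : act 1 n88792 = n186422 := rfl
def n186423 : Q := act 2 n88792
theorem D186423 : act 2 n88792 = n186423 := rfl
theorem F289212 : act 3 n186423 = n176922 := d0_2 D88792 D186423 (iv2 D176922) (iv3 D84333) (iv2 F63898)
theorem F289213 : act 5 n186423 = n164085 := d2_2 (iv5 F136172) D186423 (iv2 D164085)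
theorem F289214 : act 7 n186423 = n176913 := d4_2 (iv7 F136173) D186423 (iv2 D176913)
theorem F289215 : act 1 n186423 = n176911 := d15_0 (iv0 D176911) (iv7 F136173) D186423
theorem F289216 : act 1 n186422 = n176913 := d15_1 D186422 (iv7 F289214) (iv2 D186423)
theorem F289217 : act 1 n176912 = n186423 := d15_1 D176912 F289214 (iv2 D176913)
def n186424 : Q := act 6 n88792
theorem D186424 : act 6 n88792 = n186424 := rfl
theorem F289218 : act 3 n186424 = n88793 := d7_1 D186424 (iv6 D88793) D88792
def n186425 : Q := act 0 n88793
theorem D186425 : act 0 n88793 = n186425 := rfl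
def n186426 : Q := act 1 n88793
theorem D186426 : act 1 n88793 = n186426 := rfl
theorem F289219 : act 1 n186426 = n176928 := d15_1 D186426 (iv7 D176928) (iv2 F136174)
def n186427 : Q := act 5 n88793
theorem D186427 : act 5 n88793 = n186427 := rfl
theorem F289220 : act 2 n186427 = n176927 := d2_1 D186427 (iv5 D176927) (iv2 F136174)
theorem F289221 : act 6 n186427 = n164087 := d12_2 D88793 D186427 (iv5 D164087) (iv6 D78831) (iv5 F63900)
def n186428 : Q := act 7 n88793
theorem D186428 : act 7 n88793 = n186428 := rfl
theorem F289222 : act 2 n186428 = n176928 := d4_1 D186428 (iv7 D176928) (iv2 F136174)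
theorem F289223 : act 4 n186428 = n88796 := d11_1 D186428 (iv7 D88796) (iv4 F136175)
theorem F289224 : act 6 n186428 = n176919 := d14_1 D186428 (iv7 D176919) (iv6 D84332) (iv7 F63899) D88793
theorem F289225 : act 1 n176928 = n186425 := d15_0 (iv0 D186425) D186428 F289222
theorem F289226 : act 1 n176926 = n186428 := d15_1 D176926 (iv7 D186428) F136174
theorem F289227 : act 1 n186428 = n176925 := d15_0 (iv0 D176925) D176928 (iv2 F289222)
def n186429 : Q := act 2 n88794
theorem D186429 : act 2 n88794 = n186429 := rfl
theorem F289228 : act 7 n88795 = n186429 := d15_2 (iv0 D88794) D88795 (iv2 D186429)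
def n186430 : Q := act 3 n88794
theorem D186430 : act 3 n88794 = n186430 := rfl
def n186431 : Q := act 4 n88794
theorem D186431 : act 4 n88794 = n186431 := rfl
def n186432 : Q := act 5 n88794
theorem D186432 : act 5 n88794 = n186432 := rfl
def n186433 : Q := act 6 n88794
theorem D186433 : act 6 n88794 = n186433 := rfl
theorem F289229 : act 5 n186433 = n100335 := d21_6 F63861 (iv1 D19518) D19520 D41453 D88794 D186433 (iv1 D100335) F73936 (iv6 D41418) D41416
def n186434 : Q := act 7 n88794
theorem D186434 : act 7 n88794 = n186434 := rfl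
theorem F289230 : act 2 n186434 = n88795 := d4_1 D186434 F289228 (iv2 D186429)
def n186435 : Q := act 3 n88795
theorem D186435 : act 3 n88795 = n186435 := rfl
def n186436 : Q := act 4 n88795
theorem D186436 : act 4 n88795 = n186436 := rfl
def n186437 : Q := act 5 n88795
theorem D186437 : act 5 n88795 = n186437 := rfl
def n186438 : Q := act 6 n88795
theorem D186438 : act 6 n88795 = n186438 := rfl
def n186439 : Q := act 0 n88797
theorem D186439 : act 0 n88797 = n186439 := rfl
theorem F289231 : act 3 n186439 = n89098 := d20_5 (iv4 F136493) (iv1 F157238) F136178 (iv3 F136176) D186439 (iv4 F148704) F284735 (iv4 D183117) (iv3 F284657) (iv1 D183024)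
theorem F289232 : act 4 n186439 = n96949 := d20_0 (iv1 F149509) F147666 (iv3 F136550) (iv1 F134133) D87376 (iv4 F136493) (iv1 F157238) F136178 (iv3 F136176) D186439
theorem F289233 : act 2 n98077 = n186439 := d1_3 F289232 (iv2 F270444) (iv4 F151226)
theorem F289234 : act 7 n89117 = n186439 := d11_0 F289232 (iv7 F270447) F147664
theorem F289235 : act 0 n186439 = n97312 := d20_1 (iv4 F289232) (iv4 D97312) F144801 (iv1 D44797) (iv3 D21332) (iv4 F32943) F66236 (iv4 F34009) (iv3 F71404) D96949
def n186440 : Q := act 1 n88797
theorem D186440 : act 1 n88797 = n186440 := rfl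
theorem F289236 : act 1 n186440 = n97312 := d15_1 D186440 (iv7 F157288) F147418
theorem F289237 : act 7 n186440 = n98077 := d15_2 (iv0 D186439) D186440 F289233
theorem F289238 : act 4 n96950 = n186440 := d20_0 (iv1 D186440) F136177 (iv3 F149789) F157254 (iv3 F270429) (iv4 D172219) (iv1 F147790) (iv4 F148773) F148772 (iv1 F149510)
theorem F289239 : act 3 n94104 = n186440 := d20_3 (iv4 F69701) (iv1 F125895) (iv4 F145025) (iv1 D186440) F136176 (iv4 F136178) F284599 F284596 (iv3 D98418) F72624
theorem F289240 : act 2 n186440 = n89117 := d0_1 F289239 (iv3 D89117) (iv2 F270469) F145034 (iv2 F270467)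
def n186441 : Q := act 5 n88797
theorem D186441 : act 5 n88797 = n186441 := rfl
theorem F289241 : act 3 n186441 = n88801 := d6_1 D186441 (iv5 D88801) (iv3 F136176)
def n186442 : Q := act 7 n88797
theorem D186442 : act 7 n88797 = n186442 := rfl
theorem F289242 : act 2 n186442 = n97312 := d4_1 D186442 (iv7 F157288) F147418
theorem F289243 : act 3 n186442 = n88802 := d8_1 D186442 (iv7 D88802) (iv3 F136176)
theorem F289245 : act 6 n186442 = n98639 := d14_1 D186442 (iv7 F157618) (iv6 D95731) F70289 D88797
theorem F289246 : act 1 n89117 = n186442 := d15_1 (iv0 F157292) (iv7 D186442) (iv2 F147418)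
theorem F289247 : act 1 n186442 = n98077 := d15_1 F289246 (iv7 F289237) F289240
def n186443 : Q := act 5 n88798
theorem D186443 : act 5 n88798 = n186443 := rfl
theorem F289248 : act 6 n186443 = n177712 := d12_2 D88798 D186443 (iv5 D177712) (iv6 D84624) (iv5 F71579)
def n186444 : Q := act 4 n88801
theorem D186444 : act 4 n88801 = n186444 := rfl
def n186445 : Q := act 7 n88801
theorem D186445 : act 7 n88801 = n186445 := rfl
theorem F289249 : act 2 n186445 = n99068 := d4_1 D186445 (iv7 F288476) F288474
theorem F289250 : act 5 n186445 = n88802 := d13_1 D186445 (iv7 D88802) D88801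
theorem F289251 : act 1 n98102 = n186445 := d15_1 (iv0 F288478) (iv7 D186445) (iv2 F288474)
theorem F289252 : act 1 n186445 = n89139 := d15_1 F289251 (iv7 F270982) F270980
def n186446 : Q := act 6 n88803
theorem D186446 : act 6 n88803 = n186446 := rfl
theorem F289253 : act 2 n186446 = n89146 := d3_1 D186446 (iv6 D89146) F136182
theorem F289254 : act 3 n186446 = n89198 := d7_1 D186446 (iv6 D89198) (iv3 F136181)
theorem F289255 : act 4 n186446 = n89013 := d10_1 D186446 (iv6 D89013) (iv4 F136180)
def n186447 : Q := act 0 n88804
theorem D186447 : act 0 n88804 = n186447 := rfl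
theorem F289256 : act 3 n186447 = n94720 := d20_5 F151856 (iv1 F157589) F136187 (iv3 F136185) D186447 (iv4 F146015) F151943 (iv4 D98564) (iv3 F151858) (iv1 D98433)
theorem F289257 : act 4 n186447 = n89016 := d20_0 (iv1 F144824) F144822 F136697 (iv1 F72619) D46041 F151856 (iv1 F157589) F136187 (iv3 F136185) D186447
theorem F289258 : act 0 n186447 = n94280 := d20_1 (iv4 F289257) (iv4 D94280) F144586 (iv1 D43904) (iv3 D20798) (iv4 F65907) (iv1 D19579) (iv4 F31342) (iv3 F64162) D89016
def n186448 : Q := act 1 n88804
theorem D186448 : act 1 n88804 = n186448 := rfl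
theorem F289259 : act 1 n186448 = n94280 := d15_1 D186448 F157635 F144661
theorem F289260 : act 3 n89157 = n186448 := d20_3 (iv4 F71979) D97783 F150717 (iv1 D186448) F136185 (iv4 F136187) F157588 (iv4 F284634) (iv3 D183013) F134148
theorem F289261 : act 4 n89017 = n186448 := d20_6 (iv4 D182051) (iv1 F146022) F146019 (iv3 F145537) (iv1 F145543) (iv3 F152162) (iv1 D186448) F136186 (iv3 F145273) F283459
def n186449 : Q := act 5 n88804
theorem D186449 : act 5 n88804 = n186449 := rfl
theorem F289262 : act 3 n186449 = n88808 := d6_1 D186449 (iv5 D88808) (iv3 F136185)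
def n186450 : Q := act 7 n88804
theorem D186450 : act 7 n88804 = n186450 := rfl
theorem F289263 : act 2 n186450 = n94280 := d4_1 D186450 F157635 F144661
theorem F289265 : act 4 n186450 = n94151 := d11_1 D186450 F157566 (iv4 F136186)
theorem F289266 : act 6 n186450 = n99066 := d14_1 D186450 (iv7 F157248) (iv6 D93835) F68962 D88804
theorem F289267 : act 1 n182055 = n186450 := d15_1 (iv0 F283464) (iv7 D186450) (iv2 F144661)
theorem F289268 : act 0 n89165 = n186450 := d20_10 F289265 (iv1 D94151) F69269 (iv3 F65959) (iv1 D40333) (iv3 F61395) F61396 D82685 F136863 D89165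
def n186451 : Q := act 5 n88805
theorem D186451 : act 5 n88805 = n186451 := rfl
theorem F289269 : act 6 n186451 = n177717 := d12_2 D88805 D186451 (iv5 D177717) (iv6 D84626) F74237
def n186452 : Q := act 1 n88808
theorem D186452 : act 1 n88808 = n186452 := rfl
theorem F289270 : act 1 n186452 = n98641 := d15_1 D186452 (iv7 F288471) F288469
theorem F289271 : act 7 n186452 = n182061 := d15_2 (iv0 F285544) D186452 F283466
theorem F289272 : act 5 n93329 = n186452 := d21_6 D19524 (iv1 F72918) (iv5 D22302) D22303 (iv1 F157766) D93329 (iv1 D186452) (iv5 D88808) (iv6 D41463) (iv1 D19522)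
theorem F289273 : act 2 n186452 = n89192 := d2_1 F289272 F136890 (iv2 F143924)
theorem F289275 : act 5 n88830 = n99650 := d21_8 F289272 (iv1 D186452) (iv5 D88808) (iv6 D41463) (iv1 D19522) D19525 D41471 D88830 F251753 (iv1 F152094)
theorem F289276 : act 7 n99649 = n88830 := d13_0 F289275 (iv7 D99650) D99649
def n186453 : Q := act 4 n88808
theorem D186453 : act 4 n88808 = n186453 := rfl
def n186454 : Q := act 7 n88808
theorem D186454 : act 7 n88808 = n186454 := rfl
theorem F289277 : act 2 n186454 = n98641 := d4_1 D186454 (iv7 F288471) F288469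
theorem F289278 : act 5 n186454 = n88809 := d13_1 D186454 (iv7 D88809) D88808
theorem F289279 : act 1 n89192 = n186454 := d15_1 (iv0 F288473) (iv7 D186454) (iv2 F288469)
theorem F289280 : act 1 n186454 = n182061 := d15_1 F289279 (iv7 F289271) F289273
theorem E25381 : n100238 = n99584 := ((c21_10 (iv5 F283467) (iv1 F289280) F289278 F157315 (iv1 D46340) D46342 (iv5 F74591) (iv1 F157301) (iv5 D99583) D99584 (iv1 F154223))).symm
theorem F289281 : act 0 n99584 = n98661 := (sb E25381 (iv1 F154223))
theorem F289282 : act 1 n99584 = n46776 := (sb E25381 (iv0 D100238))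
theorem E25382 : n100239 = n99664 := (c15_2 F289282 D100239 (iv7 D99664) (iv2 F153420))
theorem F289283 : act 0 n99664 = n46776 := (sb E25382 (iv1 D100239))
theorem F289284 : act 1 n99664 = n98661 := (sb E25382 F154224)
def n186455 : Q := act 3 n88810
theorem D186455 : act 3 n88810 = n186455 := rfl
theorem F289285 : act 2 n186455 = n94232 := d0_1 D186455 (iv3 F147446) F147445 (iv3 D88821) (iv2 F147452)
theorem F289286 : act 4 n186455 = n94228 := d5_2 F151729 D186455 (iv3 F151734) (iv4 D98308) D98307
theorem F289287 : act 7 n186455 = n88826 := d8_2 (iv7 F147453) D186455 (iv3 D88826)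
theorem F289288 : act 0 n89390 = n186455 := d20_10 F289286 (iv1 F145289) F69362 (iv3 F64491) F64602 (iv3 F137136) (iv4 D89470) (iv1 F151749) (iv4 D89391) D89390
def n186456 : Q := act 5 n88810
theorem D186456 : act 5 n88810 = n186456 := rfl
theorem F289289 : act 2 n186456 = n88823 := d2_1 D186456 (iv5 D88823) (iv2 F147452)
theorem F289290 : act 7 n186456 = n88828 := d13_2 (iv7 F147453) D186456 (iv5 D88828)
theorem F289291 : act 0 n186456 = n89375 := d21_1 D186456 F137056 (iv6 D46941) F177420 (iv6 D45720) D45719 F75472 F62325 D41464 D88810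
theorem F289292 : act 1 n88823 = n102523 := d15_0 (iv0 F288508) (iv7 F289290) F289289
theorem E25383 : n183529 = n88824 := ((c21_4 D102523 (iv1 F289292) (iv5 D88823) D88824 (iv1 D183529) (iv6 D87597) D87596 (iv1 F152079) (iv5 F157666) F161655 (iv1 D102521))).symm
theorem F289293 : act 0 n88824 = n87597 := (sb E25383 (iv1 D183529))
def n186457 : Q := act 6 n88810
theorem D186457 : act 6 n88810 = n186457 := rfl
theorem F289294 : act 2 n186457 = n88824 := d3_1 D186457 (iv6 D88824) (iv2 F147452)
theorem F289295 : act 5 n186457 = n97965 := d21_6 D45719 F75472 F62325 D41464 D88810 D186457 (iv1 D97965) (iv5 D45726) (iv6 D21857) D21855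
theorem F289296 : act 0 n182257 = n186457 := d21_4 D97947 F157661 (iv5 F286079) F286080 (iv6 D186457) D186456 F289291 F137056 (iv6 D46941) F177420
theorem F289297 : act 1 n89081 = n186457 := d15_0 (iv0 F289296) F283701 (iv2 F136790)
theorem E25384 : n183777 = n97965 := ((c2_1 F289295 F285561 (iv5 F136204) (iv2 F289294))).symm
theorem F289298 : act 2 n97965 = n87683 := (sb E25384 F285561)
theorem F289299 : act 7 n97965 = n87682 := (sb E25384 (iv7 D183777))
theorem F289300 : act 7 n183528 = n186457 := d13_0 F289295 F289299 (iv5 F285254)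
theorem E25385 : n183773 = n97964 := (c15_4 (iv0 D97964) D97965 F289299 D183773)
theorem F289301 : act 2 n97964 = n87682 := (sb E25385 (iv2 D183773))
theorem F289302 : act 7 n97964 = n87683 := (sb E25385 (iv7 F285560))
def n186458 : Q := act 4 n88811
theorem D186458 : act 4 n88811 = n186458 := rfl
theorem F289303 : act 2 n186458 = n88827 := d1_1 D186458 (iv4 D88827) (iv2 F147450)
theorem F289304 : act 7 n186458 = n88822 := d11_2 (iv7 F147451) D186458 (iv4 D88822)
def n186459 : Q := act 5 n88811
theorem D186459 : act 5 n88811 = n186459 := rfl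
theorem F289305 : act 2 n186459 = n88828 := d2_1 D186459 (iv5 D88828) (iv2 F147450)
theorem F289306 : act 7 n186459 = n88823 := d13_2 (iv7 F147451) D186459 (iv5 D88823)
theorem F289307 : act 1 n186459 = n89375 := d15_0 (iv0 F289291) F289290 (iv2 F289305)
def n186460 : Q := act 6 n88811
theorem D186460 : act 6 n88811 = n186460 := rfl
theorem F289308 : act 2 n186460 = n88829 := d3_1 D186460 (iv6 D88829) (iv2 F147450)
theorem F289309 : act 5 n186460 = n100234 := d21_6 (iv5 F285538) (iv1 F288518) F288516 F135746 (iv1 F136188) D186460 (iv1 F154220) (iv5 D87930) D87931 F285540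
theorem F289310 : act 7 n183170 = n186460 := d15_2 F288510 D183170 F289308
def n186461 : Q := act 0 n88812
theorem D186461 : act 0 n88812 = n186461 := rfl
theorem F289311 : act 5 n186461 = n102521 := d21_2 D88812 D186461 (iv6 F161655) F289283 (iv6 D46776) D46775 D100234 (iv5 F289309) (iv6 D186460) (iv1 D88811)
theorem F289312 : act 2 n88830 = n186461 := d15_3 (iv0 D186461) (iv0 F153396) F289276
theorem F289313 : act 7 n186461 = n88831 := d4_2 F289276 F289312 (iv2 F153473)
theorem F289314 : act 1 n88833 = n186461 := d15_1 F153398 F289313 (iv2 F153473)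
theorem F289315 : act 0 n181946 = n185417 := d21_1 D181946 (iv5 D185417) F152099 (iv1 F289284) F161655 (iv5 F289311) (iv1 F289314) F136208 (iv6 F135746) (iv1 F135748)
theorem E25386 : n181947 = n98650 := ((c21_5 F157666 (iv1 D98647) (iv5 D46113) D46114 D98650 (iv6 D181947) D181946 F289315 (iv5 D185417) F152099 (iv1 F289284))).symm
theorem F289316 : act 2 n98650 = n185985 := (sb E25386 (iv2 F288500))
theorem F289317 : act 6 n98650 = n86901 := (sb E25386 (iv6 D181947))
theorem F289318 : act 1 n181943 = n185417 := d15_0 (iv0 F289315) (iv7 F288484) F288483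
theorem E25387 : n99673 = n99075 := (c21_4 D185417 (iv1 F289318) (iv5 D181943) (iv6 F153486) (iv1 D99075) (iv6 D46342) D46341 D99070 (iv5 F285559) F288157 (iv1 D185416))
theorem F289319 : act 2 n99075 = n185982 := (sb E25387 (iv2 F288486))
theorem F289320 : act 5 n99075 = n46575 := (sb E25387 (iv5 D99673))
theorem F289321 : act 6 n99075 = n86900 := (sb E25387 F153486)
theorem F289322 : act 7 n98651 = n185985 := d15_2 (iv0 D98650) D98651 (iv2 F289316)
def n186462 : Q := act 4 n88812
theorem D186462 : act 4 n88812 = n186462 := rfl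
def n186463 : Q := act 7 n88812
theorem D186463 : act 7 n88812 = n186463 := rfl
theorem F289324 : act 2 n186463 = n88833 := d4_1 D186463 (iv7 D88833) (iv2 F136189)
theorem F289325 : act 3 n186463 = n89210 := d8_1 D186463 (iv7 D89210) (iv3 F136190)
theorem F289326 : act 5 n186463 = n88813 := d13_1 D186463 (iv7 D88813) D88812
theorem F289327 : act 1 n88831 = n186463 := d15_1 D88831 (iv7 D186463) F136189
theorem F289328 : act 1 n186463 = n88830 := d15_1 F289327 (iv7 F289276) F153473
def n186464 : Q := act 6 n88814
theorem D186464 : act 6 n88814 = n186464 := rfl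
theorem F289329 : act 3 n186464 = n148678 := d7_1 D186464 (iv6 D148678) (iv3 F136198)
def n186468 : Q := act 2 n88816
theorem D186468 : act 2 n88816 = n186468 := rfl
theorem F289331 : act 7 n88817 = n186468 := d15_2 (iv0 D88816) D88817 (iv2 D186468)
def n186469 : Q := act 3 n88816
theorem D186469 : act 3 n88816 = n186469 := rfl
def n186470 : Q := act 4 n88816
theorem D186470 : act 4 n88816 = n186470 := rfl
theorem F289332 : act 0 n186470 = n96500 := d20_1 D186470 F148611 F126268 (iv1 F58403) D37603 (iv4 F286807) (iv1 D75630) F54862 (iv3 F63915) D88816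
theorem E25388 : n186469 = n180880 := ((c20_5 D37604 F118209 (iv4 F60872) (iv3 F132441) D180880 (iv3 D186469) D186470 F289332 F148611 F126268 (iv1 F58403))).symm
theorem F289333 : act 3 n180880 = n88816 := (sb E25388 (iv3 D186469))
def n186471 : Q := act 5 n88816
theorem D186471 : act 5 n88816 = n186471 := rfl
def n186472 : Q := act 6 n88816
theorem D186472 : act 6 n88816 = n186472 := rfl
def n186473 : Q := act 7 n88816
theorem D186473 : act 7 n88816 = n186473 := rfl
theorem F289335 : act 2 n186473 = n88817 := d4_1 D186473 F289331 (iv2 D186468)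
def n186474 : Q := act 3 n88817
theorem D186474 : act 3 n88817 = n186474 := rfl
theorem F289336 : act 4 n186474 = n160111 := d20_6 F275531 (iv1 F286756) (iv4 F135009) (iv3 F286471) (iv1 F286474) D186474 (iv1 D160111) F115039 F72926 D87346
theorem F289337 : act 0 n150199 = n186474 := d20_10 F289336 (iv1 D160111) F115039 F72926 D87346 F275530 (iv4 F107073) D71584 (iv4 F190634) D150199
theorem F289338 : act 3 n160111 = n120397 := d20_3 (iv4 F236383) F289337 F289336 (iv1 D120397) F87720 (iv4 F44230) D56960 F120963 D57124 D122879
def n186475 : Q := act 4 n88817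
theorem D186475 : act 4 n88817 = n186475 := rfl
theorem F289341 : act 0 n96500 = n186475 := d20_10 (iv4 D186475) (iv1 D88817) (iv4 F136199) (iv3 F149004) F287084 (iv3 D45259) (iv4 D21588) (iv1 F33847) (iv4 F70928) (iv3 F148610)
def n186476 : Q := act 5 n88817
theorem D186476 : act 5 n88817 = n186476 := rfl
def n186477 : Q := act 6 n88817
theorem D186477 : act 6 n88817 = n186477 := rfl
def n186479 : Q := act 1 n88818
theorem D186479 : act 1 n88818 = n186479 := rfl
theorem F289342 : act 5 n183743 = n186479 := d21_6 (iv5 D22302) (iv1 F17162) D19253 D40844 D87668 D183743 (iv1 D186479) (iv5 D88818) (iv6 D41468) (iv1 F72918)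
def n186480 : Q := act 4 n88818
theorem D186480 : act 4 n88818 = n186480 := rfl
theorem F289343 : act 6 n186480 = n88832 := d10_2 (iv6 F136201) D186480 (iv4 D88832)
def n186481 : Q := act 7 n88818
theorem D186481 : act 7 n88818 = n186481 := rfl
theorem F289344 : act 3 n186481 = n88846 := d8_1 D186481 (iv7 D88846) (iv3 F136200)
theorem F289345 : act 5 n186481 = n88819 := d13_1 D186481 (iv7 D88819) D88818
def n186482 : Q := act 0 n88821
theorem D186482 : act 0 n88821 = n186482 := rfl
def n186483 : Q := act 1 n88821
theorem D186483 : act 1 n88821 = n186483 := rfl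
theorem F289346 : act 3 n89239 = n186483 := d20_9 F137892 (iv1 D89834) (iv4 F136295) (iv3 D88873) (iv1 F63956) D41498 F63987 D86984 (iv4 F137160) (iv1 D186483)
theorem F289347 : act 4 n186483 = n96996 := d20_6 F61717 (iv1 F34382) F63426 D41695 D89239 F289346 (iv1 D96996) (iv4 F136473) F136472 F64592
theorem F289348 : act 3 n95612 = n96996 := d5_5 (iv4 F289347) (iv3 F289346) F137160 D182172 F283631
def n186484 : Q := act 5 n88821
theorem D186484 : act 5 n88821 = n186484 := rfl
theorem F289349 : act 3 n186484 = n88823 := d6_1 D186484 (iv5 D88823) D88821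
def n186485 : Q := act 6 n88821
theorem D186485 : act 6 n88821 = n186485 := rfl
theorem F289350 : act 3 n186485 = n88824 := d7_1 D186485 (iv6 D88824) D88821
theorem F289351 : act 5 n183778 = n186485 := d6_0 F289350 F136204 D183778
def n186486 : Q := act 0 n88822
theorem D186486 : act 0 n88822 = n186486 := rfl
theorem F289352 : act 1 n88827 = n186486 := d15_0 (iv0 D186486) (iv7 F289304) F289303
def n186487 : Q := act 5 n88822
theorem D186487 : act 5 n88822 = n186487 := rfl
def n186488 : Q := act 6 n88822
theorem D186488 : act 6 n88822 = n186488 := rfl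
theorem F289354 : act 4 n186488 = n88824 := d10_1 D186488 (iv6 D88824) D88822
def n186489 : Q := act 0 n88823
theorem D186489 : act 0 n88823 = n186489 := rfl
theorem F289355 : act 5 n186489 = n91351 := d21_2 D88823 D186489 (iv6 D91351) F177417 (iv6 D22308) D22307 F72920 (iv5 D19524) D19525 D41469
theorem F289356 : act 2 n89375 = n186489 := d15_3 (iv0 D186489) F289292 F157459
theorem F289357 : act 1 n88828 = n186489 := d15_0 (iv0 D186489) (iv7 F289306) F289305
theorem F289358 : act 3 n186489 = n89235 := d0_2 D89375 F289356 (iv2 F136958) (iv3 F74773) F74772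
def n186490 : Q := act 4 n88823
theorem D186490 : act 4 n88823 = n186490 := rfl
def n186491 : Q := act 6 n88823
theorem D186491 : act 6 n88823 = n186491 := rfl
theorem F289359 : act 5 n186491 = n183780 := d12_1 D186491 (iv6 D183780) (iv5 F136204) (iv6 D88824) D88823
def n186492 : Q := act 1 n88824
theorem D186492 : act 1 n88824 = n186492 := rfl
theorem F289360 : act 1 n186492 = n183528 := d15_1 D186492 F289300 F289294
theorem F289361 : act 7 n186492 = n89081 := d15_2 (iv0 F289293) D186492 F136790
theorem F289363 : act 6 n98652 = n186492 := d21_3 D46538 (iv1 F157653) F153268 (iv1 D186492) (iv6 D88824) D88823 D186489 F289355 (iv6 D91351) F177417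
theorem F289364 : act 2 n186492 = n182257 := d3_1 F289363 (iv6 F286080) F286077
theorem F289365 : act 3 n186492 = n88854 := d7_1 F289363 (iv6 F136240) (iv3 F152081)
def n186493 : Q := act 7 n88824
theorem D186493 : act 7 n88824 = n186493 := rfl
theorem F289366 : act 2 n186493 = n183528 := d4_1 D186493 F289300 F289294
theorem F289367 : act 5 n186493 = n97964 := d13_1 D186493 F289302 (iv5 F136204)
theorem F289368 : act 6 n186493 = n183170 := d14_1 D186493 F289310 (iv6 D186460) F147451 D88824
theorem F289369 : act 1 n182257 = n186493 := d15_1 (iv0 F289296) (iv7 D186493) (iv2 F289294)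
theorem F289370 : act 1 n186493 = n89081 := d15_1 F289369 (iv7 F289361) F289364
def n186494 : Q := act 0 n88826
theorem D186494 : act 0 n88826 = n186494 := rfl
theorem F289371 : act 1 n94232 = n186494 := d15_0 (iv0 D186494) (iv7 F289287) F289285
theorem F289372 : act 4 n89552 = n186494 := d20_0 (iv1 F289371) (iv4 D94232) F136452 (iv1 F69392) F69386 F63215 (iv1 D19684) D19686 D41818 D89552
theorem F289373 : act 3 n89231 = n186494 := d20_3 (iv4 F114616) (iv1 F251798) F251799 (iv1 F289371) (iv3 F147446) (iv4 D95750) (iv1 F137896) F137894 (iv3 F137205) (iv1 F137209)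
def n186495 : Q := act 1 n88826
theorem D186495 : act 1 n88826 = n186495 := rfl
theorem F289374 : act 3 n88847 = n186495 := d20_9 F136206 (iv1 D44051) (iv4 F34600) F34599 (iv1 F63552) D41899 (iv4 F135750) D185989 F288519 (iv1 D186495)
theorem F289375 : act 4 n186495 = n89553 := d20_6 F31297 F35847 F31268 D41477 D88847 F289374 (iv1 D89553) F64484 (iv3 D19689) (iv1 F35660)
theorem F289376 : act 0 n94232 = n186495 := d20_10 F289375 (iv1 D89553) F64484 (iv3 D19689) (iv1 F35660) (iv3 F64058) F64059 D44720 D95750 F147446
theorem F289377 : act 3 n89553 = n92499 := d20_3 D94232 F289376 F289375 (iv1 D92499) (iv3 D43280) F35855 F63702 (iv4 F15684) (iv3 F33094) D44050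
def n186496 : Q := act 2 n88826
theorem D186496 : act 2 n88826 = n186496 := rfl
theorem F289378 : act 4 n186496 = n94229 := d1_2 (iv4 F136206) D186496 F145355
theorem F289379 : act 7 n186496 = n94232 := d4_2 F289287 D186496 (iv2 F289285)
theorem F289380 : act 1 n89390 = n186496 := d15_1 (iv0 F289288) F289379 (iv2 F289285)
theorem F289381 : act 3 n92449 = n90127 := d20_3 (iv4 F289378) (iv1 F289380) F142226 (iv1 D90127) (iv3 D42128) (iv4 F63475) (iv1 F32444) (iv4 F33098) (iv3 F69361) (iv1 F145283)
def n186497 : Q := act 5 n88826
theorem D186497 : act 5 n88826 = n186497 := rfl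
theorem F289382 : act 3 n186497 = n88828 := d6_1 D186497 (iv5 D88828) D88826
def n186498 : Q := act 6 n88826
theorem D186498 : act 6 n88826 = n186498 := rfl
theorem F289383 : act 3 n186498 = n88829 := d7_1 D186498 (iv6 D88829) D88826
theorem F289384 : act 4 n186498 = n94238 := d10_1 D186498 (iv6 D94238) (iv4 F136206)
theorem F289385 : act 0 n94238 = n92893 := d20_7 F133565 F61494 (iv4 F61747) (iv3 F134189) (iv1 F288510) (iv3 F289383) F289384 F286265 F286261 F134916
def n186499 : Q := act 5 n88827
theorem D186499 : act 5 n88827 = n186499 := rfl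
def n186500 : Q := act 6 n88827
theorem D186500 : act 6 n88827 = n186500 := rfl
theorem F289386 : act 4 n186500 = n88829 := d10_1 D186500 (iv6 D88829) D88827
def n186501 : Q := act 4 n88828
theorem D186501 : act 4 n88828 = n186501 := rfl
def n186502 : Q := act 6 n88828
theorem D186502 : act 6 n88828 = n186502 := rfl
def n186503 : Q := act 5 n88829
theorem D186503 : act 5 n88829 = n186503 := rfl
theorem F289387 : act 2 n186503 = n100234 := d2_1 D186503 (iv5 F289309) F289308
theorem F289388 : act 0 n186503 = n99328 := d21_1 D186503 (iv5 D99328) D99329 (iv1 F287645) (iv6 F288157) F285559 (iv1 F152593) (iv5 D87431) D87432 (iv1 F288510)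
theorem F289389 : act 0 n93328 = n186503 := d21_1 D93328 (iv5 D186503) (iv6 D88829) (iv1 D41470) (iv6 D19525) D19524 (iv1 F72918) (iv5 D22302) D22303 (iv1 F157766)
theorem F289390 : act 7 n100235 = n186503 := d15_2 (iv0 D100234) D100235 F289387
def n186504 : Q := act 7 n88829
theorem D186504 : act 7 n88829 = n186504 := rfl
theorem F289391 : act 2 n186504 = n183170 := d4_1 D186504 F289310 F289308
theorem F289392 : act 5 n186504 = n100235 := d13_1 D186504 F289390 (iv5 D186503)
theorem F289393 : act 6 n186504 = n183528 := d14_1 D186504 F289300 (iv6 D186457) F147453 D88829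
theorem F289394 : act 0 n186504 = n88990 := d21_4 D40847 D87682 (iv5 F285254) (iv6 F289393) (iv6 D88990) D88989 F285555 (iv5 D183771) (iv6 D87681) (iv1 D40846)
theorem F289395 : act 1 n186504 = n183171 := d15_1 (iv0 F289394) (iv7 D183171) (iv2 F136599)
theorem F289396 : act 1 n186460 = n88990 := d15_0 (iv0 F289394) (iv7 D186504) (iv2 F289308)
theorem F289397 : act 1 n183171 = n186460 := d15_0 F289396 (iv7 F154283) (iv2 F284764)
def n186505 : Q := act 3 n88830
theorem D186505 : act 3 n88830 = n186505 := rfl
def n186506 : Q := act 4 n88830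
theorem D186506 : act 4 n88830 = n186506 := rfl
def n186507 : Q := act 6 n88830
theorem D186507 : act 6 n88830 = n186507 := rfl
def n186508 : Q := act 3 n88831
theorem D186508 : act 3 n88831 = n186508 := rfl
def n186509 : Q := act 4 n88831
theorem D186509 : act 4 n88831 = n186509 := rfl
def n186510 : Q := act 6 n88831
theorem D186510 : act 6 n88831 = n186510 := rfl
def n186513 : Q := act 3 n88832
theorem D186513 : act 3 n88832 = n186513 := rfl
theorem F289398 : act 4 n186513 = n88868 := d5_2 D88832 D186513 (iv3 D88868) (iv4 D41484) (iv3 F63916)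
theorem F289399 : act 7 n102269 = n186513 := d11_0 F289398 F136278 D102269
def n186515 : Q := act 7 n88832
theorem D186515 : act 7 n88832 = n186515 := rfl
theorem F289401 : act 4 n186515 = n88833 := d11_1 D186515 (iv7 D88833) D88832
def n186516 : Q := act 6 n88833
theorem D186516 : act 6 n88833 = n186516 := rfl
theorem F289402 : act 3 n186516 = n88869 := d7_1 D186516 (iv6 D88869) (iv3 F136207)
def n186517 : Q := act 1 n88837
theorem D186517 : act 1 n88837 = n186517 := rfl
theorem F289403 : act 1 n186517 = n88841 := d15_1 D186517 F156376 (iv2 F156383)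
theorem F289405 : act 5 n175510 = n186517 := d21_6 (iv5 F153506) (iv1 F153510) (iv5 D46586) D46587 D99720 F274770 (iv1 D186517) (iv5 D88837) F74549 (iv1 F156332)
theorem F289407 : act 6 n186517 = n89417 := d12_2 F274770 F289405 (iv5 F155573) (iv6 D100955) (iv5 F153516)
def n186520 : Q := act 6 n88839
theorem D186520 : act 6 n88839 = n186520 := rfl
theorem F289414 : act 3 n186520 = n88842 := d7_1 D186520 (iv6 D88842) D88839
theorem F289415 : act 0 n186520 = n171421 := d20_4 (iv4 F154032) (iv1 F275041) F270624 (iv3 F289414) (iv3 D171421) (iv4 F248753) (iv1 F250639) (iv4 D159174) (iv3 F286902) (iv1 D100106)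
def n186522 : Q := act 6 n88841
theorem D186522 : act 6 n88841 = n186522 := rfl
theorem F289419 : act 0 n89379 = n186522 := d21_4 F63937 (iv1 F62394) F64377 D89379 (iv6 D186522) (iv5 D88841) (iv1 D41474) D41475 F63921 D41483
def n186525 : Q := act 6 n88843
theorem D186525 : act 6 n88843 = n186525 := rfl
theorem F289423 : act 2 n186525 = n89326 := d3_1 D186525 (iv6 D89326) (iv2 F274781)
theorem F289424 : act 5 n186525 = n104015 := d12_1 D186525 (iv6 F274859) (iv5 F274810) (iv6 F274780) (iv5 F274782)
theorem F289425 : act 2 n104015 = n100648 := d2_1 F289424 (iv5 F154739) (iv2 F289423)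
theorem F289426 : act 7 n100647 = n104015 := d15_2 F159483 F159484 F289425
theorem F289427 : act 7 n104014 = n100648 := d15_2 F159478 F159482 (iv2 F289425)
theorem F289428 : act 2 n100647 = n104014 := d4_3 F289427 (iv2 F289425) (iv7 F289426)
def n186526 : Q := act 3 n88844
theorem D186526 : act 3 n88844 = n186526 := rfl
theorem F289429 : act 5 n186526 = n101900 := d6_2 F136212 D186526 F156843
def n186527 : Q := act 4 n88844
theorem D186527 : act 4 n88844 = n186527 := rfl
def n186528 : Q := act 6 n88844
theorem D186528 : act 6 n88844 = n186528 := rfl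
theorem F289436 : act 5 n186528 = n101911 := d12_1 D186528 (iv6 D101911) (iv5 D47348) D47349 F136212
def n186529 : Q := act 0 n88845
theorem D186529 : act 0 n88845 = n186529 := rfl
theorem F289437 : act 4 n186529 = n98327 := d18_3 (iv1 D88844) D88845 D186529 (iv5 F274914) F274913 (iv0 F274527) F249556 F156742 F136212
theorem F289440 : act 1 n89335 = n186529 := d18_6 D46002 (iv4 F274508) (iv1 F113473) F64353 (iv5 F64357) (iv4 F137020) F289437 (iv0 D98327) (iv5 D46004)
def n186530 : Q := act 1 n88845
theorem D186530 : act 1 n88845 = n186530 := rfl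
theorem F289441 : act 1 n186530 = n89335 := d15_1 D186530 (iv7 D89335) (iv2 F136213)
theorem F289443 : act 4 n186530 = n98328 := d18_7 (iv1 F286782) (iv4 F286807) (iv1 D75630) F54862 D41475 D88845 D186530 F154014 F154012
def n186531 : Q := act 3 n88845
theorem D186531 : act 3 n88845 = n186531 := rfl
theorem F289445 : act 6 n186531 = n88868 := d7_2 (iv6 F136214) D186531 (iv3 D88868)
def n186532 : Q := act 5 n88845
theorem D186532 : act 5 n88845 = n186532 := rfl
theorem F289447 : act 6 n186532 = n102277 := d12_2 (iv6 F136214) D186532 (iv5 D102277) (iv6 D47466) (iv5 F63942)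
def n186533 : Q := act 7 n88845
theorem D186533 : act 7 n88845 = n186533 := rfl
theorem F289448 : act 2 n186533 = n89335 := d4_1 D186533 (iv7 D89335) (iv2 F136213)
theorem F289449 : act 4 n186533 = n88846 := d11_1 D186533 (iv7 D88846) D88845
theorem F289450 : act 6 n186533 = n102274 := d14_1 D186533 (iv7 D102274) (iv6 D47465) F63943 (iv6 F136214)
def n186534 : Q := act 6 n88846
theorem D186534 : act 6 n88846 = n186534 := rfl
theorem F289453 : act 2 n186534 = n89336 := d3_1 D186534 (iv6 D89336) (iv2 F136215)
theorem F289454 : act 4 n186534 = n102274 := d10_1 D186534 (iv6 F289450) F289449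
theorem F289455 : act 7 n186534 = n88869 := d14_2 D88846 D186534 (iv6 D88869) (iv7 D41485) (iv6 F63921)
theorem F289456 : act 1 n89455 = n186534 := d15_1 D89455 F289455 F136279
theorem F289457 : act 1 n186534 = n89454 := d15_0 (iv0 D89454) (iv7 F137021) (iv2 F289453)
def n186535 : Q := act 2 n88847
theorem D186535 : act 2 n88847 = n186535 := rfl
theorem F289458 : act 7 n88848 = n186535 := d15_2 (iv0 D88847) D88848 (iv2 D186535)
def n186536 : Q := act 5 n88847
theorem D186536 : act 5 n88847 = n186536 := rfl
def n186537 : Q := act 6 n88847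
theorem D186537 : act 6 n88847 = n186537 := rfl
def n186538 : Q := act 7 n88847
theorem D186538 : act 7 n88847 = n186538 := rfl
theorem F289459 : act 2 n186538 = n88848 := d4_1 D186538 F289458 (iv2 D186535)
def n186539 : Q := act 3 n88848
theorem D186539 : act 3 n88848 = n186539 := rfl
theorem F289460 : act 0 n89206 = n186539 := d20_4 F64628 (iv1 F34375) F64324 D89206 (iv3 D186539) F288521 (iv1 D185990) F135750 (iv3 D41899) D41898
theorem F289461 : act 1 n89232 = n186539 := d15_0 (iv0 F289460) F136921 D89232
def n186542 : Q := act 5 n88849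
theorem D186542 : act 5 n88849 = n186542 := rfl
theorem F289462 : act 2 n186542 = n88850 := d2_1 D186542 (iv5 D88850) D88849
theorem F289463 : act 3 n186542 = n89361 := d6_1 D186542 (iv5 D89361) (iv3 F136221)
theorem F289464 : act 7 n186542 = n89400 := d13_2 (iv7 F136223) D186542 (iv5 D89400)
theorem F289465 : act 1 n89407 = n186542 := d15_1 D89407 F289464 F137082
theorem F289466 : act 1 n186542 = n89406 := d15_0 (iv0 D89406) (iv7 F136228) (iv2 F289462)
def n186543 : Q := act 6 n88849
theorem D186543 : act 6 n88849 = n186543 := rfl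
theorem F289467 : act 2 n186543 = n88851 := d3_1 D186543 (iv6 D88851) D88849
theorem F289468 : act 3 n186543 = n89362 := d7_1 D186543 (iv6 D89362) (iv3 F136221)
theorem F289469 : act 4 n186543 = n182237 := d10_1 D186543 (iv6 D182237) (iv4 F136222)
theorem F289470 : act 5 n102348 = n186543 := d2_0 F289467 (iv5 F136231) D102348
def n186544 : Q := act 0 n88850
theorem D186544 : act 0 n88850 = n186544 := rfl
theorem F289471 : act 1 n89400 = n186544 := d15_0 (iv0 D186544) F136228 (iv2 F137082)
def n186545 : Q := act 1 n88850
theorem D186545 : act 1 n88850 = n186545 := rfl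
theorem F289472 : act 1 n186545 = n89400 := d15_1 D186545 (iv7 F289464) F289462
def n186546 : Q := act 4 n88850
theorem D186546 : act 4 n88850 = n186546 := rfl
theorem F289473 : act 7 n186546 = n89408 := d11_2 (iv7 F136228) D186546 (iv4 D89408)
def n186547 : Q := act 6 n88850
theorem D186547 : act 6 n88850 = n186547 := rfl
theorem F289474 : act 3 n186547 = n88853 := d7_1 D186547 (iv6 D88853) (iv3 F136227)
theorem F289475 : act 5 n186547 = n102350 := d12_1 D186547 (iv6 D102350) F136231 (iv6 D88851) D88850
def n186548 : Q := act 0 n88851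
theorem D186548 : act 0 n88851 = n186548 := rfl
def n186549 : Q := act 1 n88851
theorem D186549 : act 1 n88851 = n186549 := rfl
def n186550 : Q := act 7 n88851
theorem D186550 : act 7 n88851 = n186550 := rfl
theorem F289476 : act 3 n186550 = n88855 := d8_1 D186550 (iv7 D88855) (iv3 F136229)
theorem F289477 : act 4 n186550 = n94121 := d11_1 D186550 F145061 (iv4 F136230)
theorem F289478 : act 5 n186550 = n97983 := d13_1 D186550 F151033 F136231
theorem F289479 : act 6 n186550 = n89413 := d14_1 D186550 (iv7 D89413) (iv6 D41750) (iv7 F63927) D88851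
def n186551 : Q := act 3 n88852
theorem D186551 : act 3 n88852 = n186551 := rfl
theorem F289480 : act 5 n186551 = n99801 := d6_2 (iv5 F136234) D186551 (iv3 D99801)
theorem F289481 : act 7 n186551 = n89414 := d8_2 (iv7 F136233) D186551 (iv3 D89414)
def n186552 : Q := act 6 n88852
theorem D186552 : act 6 n88852 = n186552 := rfl
theorem F289482 : act 2 n186552 = n89383 := d3_1 D186552 (iv6 D89383) (iv2 F136232)
theorem F289483 : act 4 n186552 = n88853 := d10_1 D186552 (iv6 D88853) D88852
def n186553 : Q := act 0 n88853
theorem D186553 : act 0 n88853 = n186553 := rfl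
theorem F289484 : act 6 n186553 = n102040 := d21_5 (iv5 D19529) D19527 D41478 D88853 D186553 (iv5 D102040) (iv1 D47392) D47393 F74603 F35335
def n186554 : Q := act 1 n88853
theorem D186554 : act 1 n88853 = n186554 := rfl
theorem F289485 : act 1 n186554 = n89387 := d15_1 D186554 (iv7 D89387) (iv2 F136235)
def n186555 : Q := act 7 n88853
theorem D186555 : act 7 n88853 = n186555 := rfl
theorem F289486 : act 2 n186555 = n89387 := d4_1 D186555 (iv7 D89387) (iv2 F136235)
theorem F289487 : act 5 n186555 = n102356 := d13_1 D186555 (iv7 D102356) (iv5 F136236)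
theorem F289488 : act 6 n186555 = n89419 := d14_1 D186555 (iv7 D89419) (iv6 D41754) (iv7 F63929) D88853
theorem F289489 : act 1 n89387 = n186553 := d15_0 (iv0 D186553) D186555 F289486
theorem F289490 : act 1 n89385 = n186555 := d15_1 D89385 (iv7 D186555) F136235
theorem F289491 : act 1 n186555 = n89384 := d15_0 (iv0 D89384) D89387 (iv2 F289486)
def n186557 : Q := act 3 n88856
theorem D186557 : act 3 n88856 = n186557 := rfl
theorem F289493 : act 4 n186557 = n89487 := d20_6 F35657 (iv1 F58692) (iv4 F58693) D41480 D88856 D186557 (iv1 D89487) F64431 (iv3 D19669) D19667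
theorem F289494 : act 0 n186557 = n89204 := d20_1 (iv4 F289493) F136913 (iv3 D41845) (iv1 F64056) (iv3 F136461) F136462 (iv1 F142255) (iv4 F283258) F283257 (iv1 F137159)
theorem F289495 : act 3 n185994 = n89487 := d20_5 F64053 (iv1 F61666) F63715 D88597 D185994 (iv4 F289493) F289494 F136913 (iv3 D41845) (iv1 F64056)
theorem F289496 : act 0 n89241 = n186557 := d20_1 F288586 F289493 (iv3 F289495) (iv1 F288536) (iv3 F288523) F288524 F283672 (iv4 D182228) F137358 (iv1 F288588)
def n186559 : Q := act 6 n88856
theorem D186559 : act 6 n88856 = n186559 := rfl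
def n186561 : Q := act 3 n88857
theorem D186561 : act 3 n88857 = n186561 := rfl
theorem F289498 : act 4 n96995 = n186561 := d20_2 F136473 D96995 (iv3 D186561) (iv1 D88857) (iv3 D41480) F58693 (iv1 D37848) (iv4 F31297) (iv3 F64058) D88921
def n186562 : Q := act 4 n88857
theorem D186562 : act 4 n88857 = n186562 := rfl
theorem F289499 : act 3 n186562 = n89822 := d20_3 F70253 (iv1 F136252) D186562 (iv1 F137862) (iv3 D44696) (iv4 D21289) (iv1 D10164) (iv4 F16005) (iv3 F33502) D44679
theorem F289500 : act 0 n95798 = n186562 := d20_10 (iv4 D186562) (iv1 D88857) (iv4 F70203) (iv3 D44655) (iv1 D21255) (iv3 F33478) F33479 D44061 (iv4 F137982) D95798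
theorem F289501 : act 1 n95753 = n186562 := d15_0 (iv0 F289500) (iv7 F251835) F251833
def n186563 : Q := act 5 n88857
theorem D186563 : act 5 n88857 = n186563 := rfl
def n186564 : Q := act 6 n88857
theorem D186564 : act 6 n88857 = n186564 := rfl
def n186565 : Q := act 5 n88858
theorem D186565 : act 5 n88858 = n186565 := rfl
theorem F289502 : act 2 n186565 = n88859 := d2_1 D186565 (iv5 D88859) D88858
theorem F289503 : act 3 n186565 = n89400 := d6_1 D186565 (iv5 D89400) (iv3 F136249)
theorem F289504 : act 7 n186565 = n89361 := d13_2 (iv7 F136250) D186565 (iv5 D89361)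
theorem F289505 : act 1 n89366 = n186565 := d15_1 D89366 F289504 F137033
theorem F289506 : act 1 n186565 = n89365 := d15_0 (iv0 D89365) (iv7 F136255) (iv2 F289502)
def n186566 : Q := act 6 n88858
theorem D186566 : act 6 n88858 = n186566 := rfl
theorem F289507 : act 2 n186566 = n88860 := d3_1 D186566 (iv6 D88860) D88858
theorem F289508 : act 3 n186566 = n89401 := d7_1 D186566 (iv6 D89401) (iv3 F136249)
def n186567 : Q := act 0 n88859
theorem D186567 : act 0 n88859 = n186567 := rfl
theorem F289509 : act 1 n89361 = n186567 := d15_0 (iv0 D186567) F136255 (iv2 F137033)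
def n186568 : Q := act 1 n88859
theorem D186568 : act 1 n88859 = n186568 := rfl
theorem F289510 : act 1 n186568 = n89361 := d15_1 D186568 (iv7 F289504) F289502
def n186569 : Q := act 4 n88859
theorem D186569 : act 4 n88859 = n186569 := rfl
theorem F289511 : act 7 n186569 = n89367 := d11_2 (iv7 F136255) D186569 (iv4 D89367)
def n186570 : Q := act 6 n88859
theorem D186570 : act 6 n88859 = n186570 := rfl
theorem F289512 : act 3 n186570 = n88862 := d7_1 D186570 (iv6 D88862) (iv3 F136254)
def n186573 : Q := act 7 n88860
theorem D186573 : act 7 n88860 = n186573 := rfl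
theorem F289513 : act 3 n186573 = n88863 := d8_1 D186573 (iv7 D88863) (iv3 F136256)
theorem F289514 : act 4 n186573 = n97442 := d11_1 D186573 F150189 F147297
theorem F289515 : act 5 n186573 = n100240 := d13_1 D186573 (iv7 F158736) F158735
theorem F289516 : act 6 n186573 = n89372 := d14_1 D186573 (iv7 D89372) (iv6 D41733) (iv7 F63933) D88860
theorem E25389 : n100849 = n100240 := ((c17_6 (iv1 F148298) D100798 F287722 F158555 (iv4 F289514) F289515 F154953 (iv5 D47019) F74211 (iv4 F148296))).symm
theorem F289517 : act 0 n100240 = n47014 := (sb E25389 (iv1 D100849))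
theorem F289518 : act 1 n100240 = n47019 := (sb E25389 F154953)
theorem F289519 : act 2 n103444 = n100848 := d15_3 (iv0 D100848) (iv0 F289517) (iv7 F158736)
theorem F289520 : act 5 n100848 = n186566 := d2_2 (iv5 F158735) F289519 F289507
theorem E25390 : n89360 = n19600 := (c21_6 D47014 D100848 F289520 (iv6 D186566) (iv1 F136253) D89360 F58716 (iv1 D22601) (iv5 D10714) D10715 D22604)
theorem E25391 : n41729 = n41628 := (((D41628).symm.trans (sb E25390 (iv6 D89360)))).symm
theorem E25392 : n89093 = n19637 := ((D89093).symm.trans (sb E25391 (iv1 D41729)))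
theorem E25393 : n89094 = n88858 := ((D89094).symm.trans (sb E25391 F136253))
theorem E25395 : n89357 = n89090 := ((((iv3 F136801)).symm.trans (sb E25391 D89357))).symm
theorem E25396 : n89358 = n89092 := ((((iv4 F136808)).symm.trans (sb E25391 D89358))).symm
theorem E25399 : n172211 = n41728 := (((D41728).symm.trans (sb E25392 (iv1 F270413)))).symm
theorem F289521 : act 1 n19637 = n41628 := (sb E25392 (iv0 D89093))
theorem F289522 : act 0 n88858 = n41628 := (sb E25393 (iv1 D89094))
theorem F289523 : act 0 n89090 = n95750 := (sb E25395 F147447)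
theorem F289524 : act 1 n89090 = n95754 := (sb E25395 F147454)
theorem E25400 : n95678 = n87458 := (((F136802).symm.trans (sb E25395 (iv4 F147370)))).symm
theorem F289525 : act 1 n89092 = n159807 := (sb E25396 (iv0 F251836))
theorem E25401 : n89887 = n44611 := (((F136807).symm.trans (sb E25396 (iv3 F137991)))).symm
theorem F289526 : act 2 n41728 = n89096 := (sb E25399 F270408)
theorem E25402 : n98074 = n89240 := ((((iv3 F137162)).symm.trans (sb E25399 F270409))).symm
theorem E25403 : n89355 = n89089 := ((D89355).symm.trans (sb E25399 F270410))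
theorem F289527 : act 7 n41728 = n82483 := (sb E25399 (iv7 D172211))
theorem E25404 : n183214 = n96997 := ((D183214).symm.trans (sb E25400 (iv1 F149592)))
theorem E25405 : n183215 = n44689 := ((D183215).symm.trans (sb E25400 (iv0 D95678)))
theorem E25406 : n95492 = n45352 := ((D95492).symm.trans (sb E25401 (iv1 F137992)))
theorem E25407 : n95493 = n42000 := ((D95493).symm.trans (sb E25401 (iv0 D89887)))
theorem E25408 : n180884 = n41695 := ((((iv1 D89240)).symm.trans (sb E25402 (iv1 F281621)))).symm
theorem F289528 : act 1 n89240 = n180883 := (sb E25402 F281627)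
theorem F289529 : act 2 n89240 = n180886 := (sb E25402 (iv2 F281624))
theorem E25409 : n98166 = n86985 := (((F137163).symm.trans (sb E25402 (iv4 F151427)))).symm
theorem E25410 : n182177 = n89240 := ((D182177).symm.trans (iv6 (sb E25402 (tr (iv6 F151428) E25409))))
theorem F289530 : act 7 n89240 = n45799 := (sb E25402 (iv7 D98074))
theorem F289531 : act 6 n89089 = n41728 := (sb E25403 (iv6 D89355))
theorem F289532 : act 1 n96997 = n87458 := (sb E25404 (iv0 D183214))
theorem F289533 : act 0 n44689 = n87458 := (sb E25405 (iv1 D183215))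
theorem E25411 : n96529 = n89888 := ((((iv1 F137993)).symm.trans (sb E25406 (iv1 F148690)))).symm
theorem F289534 : act 1 n45352 = n44611 := (sb E25406 (iv0 D95492))
theorem F289535 : act 0 n42000 = n44611 := (sb E25407 (iv1 D95493))
theorem E25412 : n89239 = n86395 := ((D89239).symm.trans (sb E25408 (iv1 D180884)))
theorem E25415 : n182175 = n98070 := (((iv2 F283632)).symm.trans (sb E25409 F151425))
theorem E25416 : n89458 = n89089 := (((iv3 F137164)).symm.trans (sb E25409 F151426))
theorem E25417 : n182171 = n45855 := ((F283630).symm.trans (sb E25409 (iv7 D98166)))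
theorem F289536 : act 6 n89240 = n86985 := (sb E25410 (iv6 D182177))
theorem F289537 : act 2 n89888 = n95495 := (sb E25411 F148686)
theorem F289538 : act 6 n89888 = n95495 := (sb E25411 F148687)
theorem F289539 : act 7 n89888 = n45075 := (sb E25411 (iv7 D96529))
theorem F289540 : act 1 n86395 = n41695 := (sb E25412 (iv0 D89239))
theorem E25418 : n186483 = n180879 := ((((iv3 F281615)).symm.trans (sb E25412 F289346))).symm
theorem E25419 : n86984 = n45798 := (((F132445).symm.trans (sb E25412 F137160))).symm
theorem F289541 : act 2 n98070 = n86985 := (sb E25415 F283632)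
theorem E25420 : n185996 = n172214 := ((((iv1 F270417)).symm.trans (sb E25416 (iv1 F288540)))).symm
theorem E25421 : n172213 = n41772 := ((F270421).symm.trans (sb E25416 (iv0 D89458)))
theorem F289542 : act 3 n89089 = n86985 := (sb E25416 F137164)
theorem F289543 : act 7 n45855 = n86985 := (sb E25417 (iv7 F283630))
theorem F289544 : act 0 n180879 = n88821 := (sb E25418 (iv1 D186483))
theorem E25422 : n96996 = n96947 := (((F281616).symm.trans (sb E25418 F289347))).symm
theorem F289546 : act 1 n45798 = n40387 := (sb E25419 (iv0 D86984))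
theorem E25423 : n182172 = n98066 := ((((iv3 F151219)).symm.trans (sb E25419 D182172))).symm
theorem E25426 : n89459 = n82485 := ((((iv1 D172214)).symm.trans (sb E25420 (iv1 F288542)))).symm
theorem F289547 : act 2 n172214 = n88597 := (sb E25420 (iv2 D185996))
theorem F289548 : act 3 n172214 = n89469 := (sb E25420 F288537)
theorem F289549 : act 4 n172214 = n89882 := (sb E25420 F288538)
theorem F289550 : act 7 n172214 = n89460 := (sb E25420 F288539)
theorem F289551 : act 0 n41772 = n89089 := (sb E25421 (iv1 F270421))
theorem F289552 : act 0 n96947 = n45342 := (sb E25422 (iv1 D96996))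
theorem F289553 : act 1 n96947 = n95680 := (sb E25422 F149593)
theorem E25427 : n95612 = n87460 := (((F149501).symm.trans (sb E25422 (iv3 F289348)))).symm
theorem F289554 : act 0 n98066 = n185980 := (sb E25423 F288482)
theorem F289555 : act 0 n82485 = n41772 := (sb E25426 (iv1 D89459))
theorem E25428 : n183219 = n44652 := ((D183219).symm.trans (sb E25427 (iv1 D95612)))
theorem E25429 : n183220 = n97073 := ((D183220).symm.trans (sb E25427 F149746))
theorem F289556 : act 1 n44652 = n87460 := (sb E25428 (iv0 D183219))
theorem F289557 : act 0 n97073 = n87460 := (sb E25429 (iv1 D183220))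
theorem F289558 : act 0 n183221 = n95625 := d17_2 F289557 D183221 (iv5 F160403) F160402 F283276 (iv0 D98349) (iv5 D46014) D46013 F149749
theorem F289559 : act 7 n95611 = n96946 := d15_2 (iv0 F289557) F149744 F149498
theorem F289560 : act 2 n183222 = n95611 := d4_3 F289559 F149498 D183222
theorem F289561 : act 6 n183217 = n95611 := d14_5 F289559 (iv6 D96946) (iv7 F71393) D87458 D183217
theorem F289562 : act 0 n182927 = n96524 := d20_10 F148681 F289555 (iv4 F70259) (iv3 D44686) (iv1 F34035) (iv3 F71433) F71434 (iv1 F114672) (iv4 F138024) (iv3 F284521)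
theorem E25430 : n97071 = n96946 := (c20_2 (iv4 F71543) D97071 (iv4 F270416) F270415 F289555 (iv3 D41772) F63697 (iv1 F61674) F61670 (iv3 F72595) F72597)
theorem F289563 : act 0 n96946 = n95613 := (sb E25430 (iv1 F149740))
theorem F289564 : act 1 n96946 = n45375 := (sb E25430 (iv0 D97071))
theorem E25431 : n89823 = n45075 := (c20_5 F34031 (iv1 F16437) D21289 D44696 (iv1 F137863) (iv3 F148680) F148681 F289555 (iv4 F70259) (iv3 D44686) (iv1 F34035))
theorem E25432 : n96526 = n41960 := ((D96526).symm.trans (sb E25431 (iv1 D89823)))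
theorem E25433 : n96527 = n44696 := ((D96527).symm.trans (sb E25431 F137863))
theorem E25434 : n95495 = n89822 := (((D89822).symm.trans (sb E25432 (iv1 F148688)))).symm
theorem F289565 : act 1 n41960 = n45075 := (sb E25432 (iv0 D96526))
theorem F289566 : act 0 n44696 = n45075 := (sb E25433 (iv1 D96527))
theorem F289567 : act 2 n89822 = n89888 := (sb E25434 (iv2 F289537))
theorem F289568 : act 6 n89822 = n89888 := (sb E25434 (iv6 F289538))
theorem F289569 : act 7 n89822 = n44611 := (sb E25434 (iv7 D95495))
theorem E25435 : n99766 = n22289 := (c21_10 D22597 (iv1 F72417) F72415 D82485 F289555 D89462 (iv5 F137125) (iv1 F157051) (iv5 D99765) D99766 (iv1 F34782))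
theorem E25436 : n47367 = n10711 := (((F34912).symm.trans (sb E25435 (iv2 F156239)))).symm
theorem E25437 : n46600 = n46501 := (((D46501).symm.trans (sb E25435 (iv6 D99766)))).symm
theorem E25440 : n101955 = n22593 := (((D22593).symm.trans (sb E25436 (iv3 F156930)))).symm
theorem E25441 : n101957 = n22594 := (((D22594).symm.trans (sb E25436 (iv4 F156931)))).symm
theorem E25443 : n22753 = n22596 := (((D22596).symm.trans (sb E25436 (iv6 D47367)))).symm
theorem E25445 : n99460 = n22754 := ((D99460).symm.trans (sb E25437 (iv1 F73597)))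
theorem E25446 : n99461 = n22326 := ((D99461).symm.trans (sb E25437 (iv0 D46600)))
theorem E25447 : n99763 = n41103 := (((F73470).symm.trans (sb E25437 D99763))).symm
theorem E25448 : n99764 = n99459 := ((((iv4 F153208)).symm.trans (sb E25437 D99764))).symm
theorem E25449 : n99765 = n99462 := (((D99462).symm.trans (sb E25437 D99765))).symm
theorem E25450 : n99463 = n22752 := ((D99463).symm.trans (sb E25437 (iv7 F156215)))
theorem E25451 : n47364 = n46981 := (((D46981).symm.trans (sb E25440 (iv6 D101955)))).symm
theorem E25452 : n104768 = n23147 := ((((iv3 F36216)).symm.trans (sb E25441 (iv3 F160498)))).symm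
theorem E25453 : n47365 = n46983 := (((D46983).symm.trans (sb E25441 (iv6 D101957)))).symm
theorem E25454 : n46985 = n10759 := ((D46985).symm.trans (sb E25443 (iv1 D22753)))
theorem E25455 : n46986 = n46602 := ((D46986).symm.trans (sb E25443 F73602))
theorem E25456 : n47366 = n46987 := (((D46987).symm.trans (sb E25443 D47366))).symm
theorem E25457 : n46988 = n46601 := ((D46988).symm.trans (sb E25443 (iv7 F156211)))
theorem F289570 : act 1 n22754 = n46501 := (sb E25445 (iv0 D99460))
theorem F289571 : act 0 n22326 = n46501 := (sb E25446 (iv1 D99461))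
theorem E25458 : n88031 = n47144 := ((D88031).symm.trans (sb E25447 F153584))
theorem E25459 : n88032 = n47196 := ((D88032).symm.trans (sb E25447 (iv0 F153586)))
theorem E25460 : n47194 = n46640 := ((((iv2 F73694)).symm.trans (sb E25447 F156212))).symm
theorem E25461 : n47500 = n46641 := ((((iv4 F73698)).symm.trans (sb E25447 F153583))).symm
theorem E25462 : n88034 = n47195 := ((D88034).symm.trans (sb E25447 F156213))
theorem F289574 : act 7 n99459 = n47360 := (sb E25448 F156226)
theorem F289575 : act 0 n99462 = n47430 := (sb E25449 F157050)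
theorem F289576 : act 1 n99462 = n46610 := (sb E25449 F157051)
theorem F289577 : act 7 n99462 = n47361 := (sb E25449 F156227)
theorem E25463 : n47362 = n46979 := ((D47362).symm.trans (sb E25450 F153215))
theorem F289578 : act 7 n22752 = n46501 := (sb E25450 (iv7 D99463))
theorem E25464 : n100746 = n99634 := ((D100746).symm.trans (sb E25451 (iv1 F153731)))
theorem E25465 : n100747 = n99581 := ((D100747).symm.trans (sb E25451 (iv0 F153729)))
theorem E25466 : n99633 = n99512 := ((((iv2 F153278)).symm.trans (sb E25451 F156204))).symm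
theorem E25467 : n96385 = n96201 := ((((iv4 F147943)).symm.trans (sb E25451 (iv4 F148349)))).symm
theorem E25469 : n100749 = n99632 := ((D100749).symm.trans (sb E25451 (iv7 F157391)))
theorem E25470 : n104603 = n22980 := ((((iv2 F70969)).symm.trans (sb E25452 F160497))).symm
theorem E25471 : n48441 = n47979 := (((D47979).symm.trans (sb E25452 (iv6 D104768)))).symm
theorem E25472 : n101942 = n100751 := (((D100751).symm.trans (sb E25453 (iv1 F156922)))).symm
theorem E25473 : n101941 = n100752 := (((D100752).symm.trans (sb E25453 F156921))).symm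
theorem E25475 : n100754 = n99769 := ((D100754).symm.trans (sb E25453 F156231))
theorem F289579 : act 1 n10759 = n22596 := (sb E25454 (iv0 D46985))
theorem F289580 : act 0 n46602 = n22596 := (sb E25455 (iv1 D46986))
theorem E25486 : n100769 = n22785 := ((D100769).symm.trans (sb E25456 F159817))
theorem E25487 : n100770 = n99798 := ((D100770).symm.trans (sb E25456 (iv0 F159818)))
theorem E25490 : n100772 = n99770 := ((D100772).symm.trans (sb E25456 F156232))
theorem E25491 : n99771 = n99469 := ((D99771).symm.trans (sb E25457 (iv6 F153228)))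
theorem F289581 : act 7 n46601 = n22596 := (sb E25457 (iv7 D46988))
theorem E25492 : n101234 = n99864 := ((D101234).symm.trans (sb E25458 (iv1 F153771)))
theorem F289582 : act 1 n47144 = n41103 := (sb E25458 (iv0 D88031))
theorem F289583 : act 0 n47196 = n41103 := (sb E25459 (iv1 D88032))
theorem E25503 : n101235 = n99861 := (((D99861).symm.trans (sb E25460 (iv1 F155957)))).symm
theorem E25504 : n99862 = n22704 := ((D99862).symm.trans (sb E25460 (iv0 D47194)))
theorem E25505 : n41173 = n41102 := (((F73695).symm.trans (sb E25460 F74836))).symm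
theorem E25508 : n99865 = n22821 := ((D99865).symm.trans (sb E25461 (iv1 D47500)))
theorem E25509 : n99866 = n41175 := ((D99866).symm.trans (sb E25461 F74679))
theorem E25510 : n97976 = n22592 := (((F73697).symm.trans (sb E25461 (iv3 F153585)))).symm
theorem E25511 : n102373 = n99867 := (((D99867).symm.trans (sb E25461 D102373))).symm
theorem E25513 : n99868 = n41174 := ((D99868).symm.trans (sb E25461 F156217))
theorem E25514 : n184627 = n101402 := (((D101402).symm.trans (sb E25462 (iv5 F286594)))).symm
theorem E25515 : n101403 = n41174 := ((D101403).symm.trans (sb E25462 (tr (iv6 F153779) E25513)))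
theorem F289584 : act 7 n47195 = n41103 := (sb E25462 (iv7 D88034))
theorem E25518 : n101945 = n100726 := ((((iv4 F154827)).symm.trans (sb E25463 (iv4 F156926)))).symm
theorem F289585 : act 6 n46979 = n22752 := (sb E25463 (iv6 D47362))
theorem F289586 : act 1 n99634 = n46981 := (sb E25464 (iv0 D100746))
theorem F289587 : act 0 n99581 = n46981 := (sb E25465 (iv1 D100747))
theorem F289588 : act 0 n99512 = n46565 := (sb E25466 (iv1 D99633))
theorem F289589 : act 1 n99512 = n104618 := (sb E25466 (iv0 F160304))
theorem E25521 : n95347 = n87851 := (((F153280).symm.trans (sb E25466 F153381))).symm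
theorem F289590 : act 0 n96201 = n95348 := (sb E25467 (iv1 F148350))
theorem F289591 : act 1 n96201 = n45005 := (sb E25467 (iv0 D96385))
theorem E25522 : n104766 = n103579 := ((((iv3 F158891)).symm.trans (sb E25467 (iv3 F160491)))).symm
theorem F289592 : act 7 n96201 = n95346 := (sb E25467 (iv7 F156207))
theorem F289593 : act 7 n99632 = n46981 := (sb E25469 (iv7 D100749))
theorem E25523 : n48375 = n47763 := (((D47763).symm.trans (sb E25470 (iv6 D104603)))).symm
theorem E25524 : n103580 = n44544 := ((D103580).symm.trans (sb E25471 (iv1 F76183)))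
theorem E25525 : n103581 = n23609 := ((D103581).symm.trans (sb E25471 (iv0 D48441)))
theorem E25526 : n104767 = n103582 := (((D103582).symm.trans (sb E25471 D104767))).symm
theorem E25527 : n103583 = n48374 := ((D103583).symm.trans (sb E25471 (iv7 F156235)))
theorem F289594 : act 0 n100751 = n47360 := (sb E25472 (iv1 D101942))
theorem F289596 : act 3 n100751 = n48382 := (sb E25472 (iv3 F156924))
theorem F289597 : act 4 n100751 = n87742 := (sb E25472 (iv4 F156923))
theorem F289599 : act 1 n100752 = n47360 := (sb E25473 (iv0 D101941))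
theorem F289600 : act 2 n100752 = n103655 := (sb E25473 (iv2 F159065))
theorem F289601 : act 3 n100752 = n103670 := (sb E25473 F159098)
theorem F289602 : act 4 n100752 = n87743 := (sb E25473 F156920)
theorem F289603 : act 7 n100752 = n103673 := (sb E25473 (iv7 F159110))
theorem F289604 : act 7 n99769 = n46983 := (sb E25475 (iv7 D100754))
theorem F289605 : act 1 n22785 = n46987 := (sb E25486 (iv0 D100769))
theorem F289606 : act 0 n99798 = n46987 := (sb E25487 (iv1 D100770))
theorem F289607 : act 7 n99770 = n46987 := (sb E25490 (iv7 D100772))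
theorem F289608 : act 6 n99469 = n46601 := (sb E25491 (iv6 D99771))
theorem F289609 : act 0 n99864 = n47196 := (sb E25492 (iv1 F155953))
theorem F289610 : act 1 n99864 = n47144 := (sb E25492 (iv0 D101234))
theorem F289611 : act 2 n99864 = n47195 := (sb E25492 F156222)
theorem E25528 : n88030 = n47499 := ((F153767).symm.trans (sb E25492 F155952))
theorem F289612 : act 0 n99861 = n47195 := (sb E25503 (iv1 F155958))
theorem F289614 : act 3 n99861 = n47185 := (sb E25503 F155954)
theorem F289615 : act 4 n99861 = n47614 := (sb E25503 F155955)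
theorem F289616 : act 7 n99861 = n47196 := (sb E25503 F155956)
theorem F289617 : act 0 n22704 = n46640 := (sb E25504 (iv1 D99862))
theorem E25529 : n88027 = n47501 := ((D88027).symm.trans (sb E25505 (iv1 F74678)))
theorem E25530 : n88028 = n19362 := ((D88028).symm.trans (sb E25505 (iv0 D41173)))
theorem E25531 : n88222 = n88026 := ((((iv3 F135034)).symm.trans (sb E25505 D88222))).symm
theorem E25532 : n88223 = n88029 := (((D88029).symm.trans (sb E25505 D88223))).symm
theorem F289618 : act 1 n22821 = n46641 := (sb E25508 (iv0 D99865))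
theorem F289619 : act 0 n41175 = n46641 := (sb E25509 (iv1 D99866))
theorem E25534 : n47473 = n46976 := (((D46976).symm.trans (sb E25510 (iv1 F151017)))).symm
theorem E25535 : n46977 = n45731 := ((D46977).symm.trans (sb E25510 (iv0 D97976)))
theorem E25536 : n47472 = n46504 := ((((iv2 F73481)).symm.trans (sb E25510 F156223))).symm
theorem E25537 : n47471 = n46979 := (((D46979).symm.trans (sb E25510 (iv7 F156218)))).symm
theorem F289620 : act 7 n99867 = n88226 := (sb E25511 F157175)
theorem F289621 : act 7 n41174 = n46641 := (sb E25513 (iv7 D99868))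
theorem F289622 : act 7 n101402 = n88033 := (sb E25514 (iv7 D184627))
theorem E25538 : n88227 = n47195 := ((((iv4 F74682)).symm.trans (sb E25515 F156243))).symm
theorem F289623 : act 6 n100726 = n47360 := (sb E25518 (iv6 D101945))
theorem E25539 : n184187 = n44534 := ((D184187).symm.trans (sb E25521 (iv1 D95347)))
theorem E25540 : n184188 = n96387 := ((D184188).symm.trans (sb E25521 F148356))
theorem E25541 : n96271 = n96203 := ((((iv3 F147951)).symm.trans (sb E25521 (iv3 F153382)))).symm
theorem E25542 : n184190 = n96386 := ((D184190).symm.trans (sb E25521 (iv7 F156206)))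
theorem F289624 : act 1 n103579 = n96234 := (sb E25522 (iv0 F160493))
theorem E25543 : n104601 = n103017 := (((F158890).symm.trans (sb E25522 F160490))).symm
theorem F289625 : act 7 n103579 = n104598 := (sb E25522 F160492)
theorem E25544 : n103018 = n23517 := ((D103018).symm.trans (sb E25523 (iv1 D48375)))
theorem E25545 : n103019 = n45012 := ((D103019).symm.trans (sb E25523 F76039))
theorem E25546 : n102295 = n99465 := ((((iv3 F153223)).symm.trans (sb E25523 (iv3 F157115)))).symm
theorem E25547 : n104602 = n103020 := (((D103020).symm.trans (sb E25523 D104602))).symm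
theorem E25548 : n103021 = n48442 := ((D103021).symm.trans (sb E25523 (iv7 F156238)))
theorem F289626 : act 1 n44544 = n47979 := (sb E25524 (iv0 D103580))
theorem F289627 : act 0 n23609 = n47979 := (sb E25525 (iv1 D103581))
theorem F289628 : act 7 n103582 = n104599 := (sb E25526 F160496)
theorem E25549 : n104600 = n48442 := ((D104600).symm.trans (sb E25527 (tr F158898 E25548)))
theorem F289629 : act 7 n48374 = n47979 := (sb E25527 (iv7 D103583))
theorem E25550 : n184599 = n102370 := (((D102370).symm.trans (sb E25528 (iv3 F286587)))).symm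
theorem F289630 : act 4 n47499 = n99864 := (sb E25528 (iv4 F153767))
theorem E25551 : n184613 = n102371 := (((D102371).symm.trans (sb E25528 (iv5 F286591)))).symm
theorem E25552 : n102372 = n99864 := ((D102372).symm.trans (sb E25528 (iv6 F153768)))
theorem F289631 : act 7 n47499 = n41102 := (sb E25528 (iv7 D88030))
theorem F289632 : act 1 n47501 = n41102 := (sb E25529 (iv0 D88027))
theorem F289633 : act 0 n19362 = n41102 := (sb E25530 (iv1 D88028))
theorem E25563 : n184596 = n97956 := ((D184596).symm.trans (sb E25531 F157378))
theorem E25564 : n184597 = n183764 := ((D184597).symm.trans (sb E25531 F285547))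
theorem E25565 : n102294 = n99464 := ((((iv2 F153219)).symm.trans (sb E25531 (iv2 F157108)))).symm
theorem E25568 : n185096 = n184610 := (((D184610).symm.trans (sb E25532 D185096))).symm
theorem E25569 : n185097 = n184611 := (((D184611).symm.trans (sb E25532 D185097))).symm
theorem E25576 : n99469 = n97977 := (((iv1 F153231)).symm.trans (sb E25534 (iv1 F151022)))
theorem E25577 : n100731 = n22802 := ((D100731).symm.trans (sb E25534 (iv2 D47473)))
theorem E25578 : n100732 = n97970 := ((D100732).symm.trans (sb E25534 (iv3 F150998)))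
theorem E25579 : n100733 = n44597 := ((D100733).symm.trans (sb E25534 F74649))
theorem E25580 : n102298 = n100734 := (((D100734).symm.trans (sb E25534 D102298))).symm
theorem E25581 : n102299 = n100735 := (((D100735).symm.trans (sb E25534 D102299))).symm
theorem E25582 : n100736 = n97978 := ((D100736).symm.trans (sb E25534 (iv7 F151020)))
theorem F289634 : act 0 n45731 = n22592 := (sb E25535 (iv1 D46977))
theorem E25587 : n99466 = n22802 := ((D99466).symm.trans (sb E25536 (iv1 D47472)))
theorem E25588 : n99467 = n97978 := ((D99467).symm.trans (sb E25536 F151023))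
theorem E25589 : n102296 = n99468 := (((D99468).symm.trans (sb E25536 D102296))).symm
theorem F289635 : act 3 n46979 = n41174 := (sb E25537 F74683)
theorem E25591 : n101943 = n100726 := ((((iv4 F154827)).symm.trans (sb E25537 (iv4 F156925)))).symm
theorem E25592 : n102292 = n100744 := ((((iv5 F154840)).symm.trans (sb E25537 D102292))).symm
theorem F289636 : act 6 n47195 = n41174 := (sb E25538 (iv6 D88227))
theorem F289637 : act 1 n44534 = n87851 := (sb E25539 (iv0 D184187))
theorem F289638 : act 0 n96387 = n87851 := (sb E25540 (iv1 D184188))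
theorem F289639 : act 0 n96203 = n44943 := (sb E25541 (iv1 D96271))
theorem F289640 : act 1 n96203 = n88344 := (sb E25541 (iv0 F148069))
theorem E25598 : n88342 = n87850 := (((F147950).symm.trans (sb E25541 (iv2 F157110)))).symm
theorem F289641 : act 7 n96203 = n88343 := (sb E25541 (iv7 F157112))
theorem F289642 : act 7 n96386 = n87851 := (sb E25542 (iv7 D184190))
theorem F289643 : act 0 n103017 = n104585 := (sb E25543 F160281)
theorem F289644 : act 1 n103017 = n95319 := (sb E25543 (iv0 F160280))
theorem F289645 : act 7 n103017 = n104770 := (sb E25543 (iv7 F160505))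
theorem F289646 : act 1 n23517 = n47763 := (sb E25544 (iv0 D103018))
theorem F289647 : act 0 n45012 = n47763 := (sb E25545 (iv1 D103019))
theorem F289648 : act 1 n99465 = n104785 := (sb E25546 (iv0 F160530))
theorem F289649 : act 7 n99465 = n104769 := (sb E25546 (iv7 F160500))
theorem F289650 : act 7 n103020 = n104771 := (sb E25547 (iv7 F160509))
theorem F289651 : act 7 n48442 = n47763 := (sb E25548 (iv7 D103021))
theorem E25599 : n104772 = n48374 := ((((iv2 F156237)).symm.trans (sb E25549 (iv2 F160510)))).symm
theorem F289652 : act 7 n102370 = n88026 := (sb E25550 (iv7 D184599))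
theorem F289653 : act 7 n102371 = n88029 := (sb E25551 (iv7 D184613))
theorem F289654 : act 6 n99864 = n47499 := (sb E25552 (iv6 D102372))
theorem F289655 : act 1 n97956 = n88026 := (sb E25563 (iv0 D184596))
theorem F289656 : act 0 n183764 = n88026 := (sb E25564 (iv1 D184597))
theorem F289657 : act 0 n99464 = n103089 := (sb E25565 F158384)
theorem F289658 : act 1 n99464 = n87678 := (sb E25565 F157170)
theorem F289659 : act 0 n184610 = n88226 := (sb E25568 (iv1 F287477))
theorem F289660 : act 1 n184611 = n88226 := (sb E25569 F287478)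
theorem F289661 : act 1 n97977 = n46976 := (sb E25576 F153231)
theorem F289662 : act 2 n97977 = n46979 := (sb E25576 F153227)
theorem F289663 : act 6 n97977 = n46601 := (sb E25576 F289608)
theorem F289664 : act 7 n97977 = n46504 := (sb E25576 (iv7 D99469))
theorem F289665 : act 2 n22802 = n46976 := (sb E25577 (iv2 D100731))
theorem F289666 : act 3 n97970 = n46976 := (sb E25578 (iv3 D100732))
theorem F289667 : act 4 n44597 = n46976 := (sb E25579 (iv4 D100733))
theorem F289668 : act 2 n100734 = n47474 := (sb E25580 F157116)
theorem F289669 : act 2 n100735 = n47475 := (sb E25581 F157117)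
theorem F289670 : act 4 n100735 = n95464 := (sb E25581 F157118)
theorem F289671 : act 7 n97978 = n46976 := (sb E25582 (iv7 D100736))
theorem F289672 : act 0 n22802 = n46979 := (sb E25587 (iv1 F153229))
theorem F289673 : act 1 n22802 = n46504 := (sb E25587 (iv0 D99466))
theorem F289674 : act 0 n97978 = n46504 := (sb E25588 (iv1 D99467))
theorem F289675 : act 1 n97978 = n46979 := (sb E25588 F153225)
theorem F289676 : act 0 n99468 = n47489 := (sb E25589 F160473)
theorem F289677 : act 0 n100726 = n104785 := (sb E25591 F160531)
theorem F289678 : act 2 n100726 = n104769 := (sb E25591 (iv2 F160499))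
theorem F289679 : act 3 n100726 = n47360 := (sb E25591 (iv3 D101943))
theorem F289680 : act 3 n100744 = n88226 := (sb E25592 F157106)
theorem E25600 : n184183 = n96272 := ((D184183).symm.trans (sb E25598 (iv1 F148073)))
theorem E25601 : n184184 = n41237 := ((D184184).symm.trans (sb E25598 (iv0 D88342)))
theorem E25604 : n184186 = n96270 := ((D184186).symm.trans (sb E25598 (iv7 F157111)))
theorem F289681 : act 6 n48374 = n48442 := (sb E25599 (iv6 D104772))
theorem F289682 : act 1 n96272 = n87850 := (sb E25600 (iv0 D184183))
theorem F289683 : act 0 n41237 = n87850 := (sb E25601 (iv1 D184184))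
theorem F289684 : act 7 n96270 = n87850 := (sb E25604 (iv7 D184186))
theorem F289685 : act 6 n95346 = n96270 := d14_5 F289684 (iv6 D87850) F73475 D96201 F289592
theorem E25605 : n185451 = n96386 := (c3_3 F289685 F157113 D185451 F156208)
theorem F289686 : act 6 n96386 = n88343 := (sb E25605 (iv6 D185451))
theorem F289687 : act 6 n104770 = n104598 := d7_2 F289685 (iv3 F160507) F160253
theorem F289688 : act 6 n104769 = n99769 := d7_2 F289681 D104769 F153590
theorem E25606 : n103113 = n100723 := (c15_1 (iv0 F160502) (iv0 D100723) D100726 F289678)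
theorem F289689 : act 0 n100723 = n104769 := (sb E25606 F160502)
theorem F289690 : act 3 n100723 = n47803 := (sb E25606 (iv3 D103113))
theorem F289691 : act 4 n100723 = n88289 := (sb E25606 F158399)
theorem F289692 : act 7 n100723 = n104785 := (sb E25606 F160572)
theorem F289693 : act 0 n186573 = n89115 := d21_10 F154882 (iv1 D100788) (iv5 D46993) (iv6 D22598) (iv1 F34788) D46504 D99468 F289676 (iv5 F137043) (iv6 F289516)
theorem E25607 : n182185 = n170768 := ((c20_7 (iv4 F127416) (iv1 F139756) F139755 (iv3 F289513) F289693 (iv3 F286623) F286624 (iv1 D182185) (iv4 F136361) F136360 (iv1 F73877))).symm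
theorem F289694 : act 0 n170768 = n86988 := (sb E25607 (iv1 D182185))
theorem F289695 : act 1 n186566 = n89115 := d15_0 (iv0 F289693) (iv7 D186573) (iv2 F289507)
theorem F289696 : act 0 n102306 = n89088 := d21_7 F58709 (iv1 F64246) (iv5 F64250) D46504 (iv1 F289673) D47475 D102306 (iv5 D89088) (iv6 D41625) (iv1 F58711)
theorem E25608 : n103093 = n100724 := (c20_10 F74192 D46976 (iv4 F289667) (iv3 F146974) (iv1 F148355) F157114 (iv4 F157168) F157169 F134593 D103093 (iv1 D100724))
theorem F289697 : act 1 n100724 = n104769 := (sb E25608 (iv0 F160503))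
theorem F289698 : act 2 n100724 = n104785 := (sb E25608 (iv2 F160528))
theorem F289699 : act 3 n100724 = n47794 := (sb E25608 (iv3 D103093))
theorem F289700 : act 4 n100724 = n88288 := (sb E25608 F158386)
theorem F289701 : act 0 n95505 = n97329 := d21_1 D95505 F150071 (iv6 D96405) F289647 (iv6 D47763) (iv5 F70137) (iv1 F70139) (iv5 D21231) D21232 D44614
theorem F289702 : act 1 n95509 = n97329 := d15_0 (iv0 F289701) F270456 (iv2 F270484)
theorem F289703 : act 0 n97182 = n95494 := d21_7 D21231 D44612 F70137 D47763 (iv1 F289646) D48377 (iv5 F149926) (iv5 D95494) (iv6 D44611) (iv1 F33456)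
theorem F289704 : act 5 n104604 = n95510 := d21_2 D48376 D104604 (iv6 D95510) (iv1 D44615) (iv6 D21232) D21231 D44612 F70137 D47763 (iv1 F289646)
theorem F289705 : act 1 n97141 = n95494 := d15_0 (iv0 F289703) F149927 (iv2 F149870)
theorem F289706 : act 0 n95688 = n183216 := d21_7 (iv5 F148017) (iv1 F148020) F134280 D87851 (iv1 F289637) D95350 (iv5 F147378) (iv5 D183216) (iv6 D87458) (iv1 F71397)
theorem F289707 : act 5 n89112 = n185145 := d21_0 (iv1 D185145) (iv5 D88236) (iv6 D41177) F289633 (iv6 D41102) F30981 F30257 (iv5 F34389) D45800 F136908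
theorem E25609 : n185132 = n178032 := ((c21_4 F282165 F277283 F195902 D178032 (iv1 D185132) (iv6 D88233) (iv5 D41176) F289633 D88029 F135035 D181153)).symm
theorem F289708 : act 0 n178032 = n88233 := (sb E25609 (iv1 D185132))
theorem F289709 : act 2 n185145 = n98078 := d2_1 F289707 (iv5 D98078) (iv2 F270463)
theorem F289710 : act 3 n185145 = n89114 := d6_1 F289707 (iv5 D89114) D89112
theorem F289711 : act 7 n185145 = n98081 := d13_2 (iv7 F270464) F289707 (iv5 D98081)
theorem F289712 : act 1 n99853 = n98399 := d17_6 F136908 F289707 (iv1 D185145) (iv5 D88236) (iv4 F73671) D99853 (iv5 D98399) (iv0 D46031) (iv4 F72303)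
theorem F289713 : act 1 n98402 = n99853 := d15_0 F289712 F152045 (iv2 F152056)
theorem E25610 : n99840 = n13207 := (c21_6 D98399 (iv1 F289712) (iv5 D99853) (iv6 D46633) D46629 D99840 (iv5 D13207) D13205 (iv5 F21997) D21995 D46031)
theorem E25611 : n47527 = n10653 := (((F22004).symm.trans (sb E25610 F157362))).symm
theorem E25612 : n185332 = n19273 := ((((iv3 F30930)).symm.trans (sb E25610 (iv3 F287592)))).symm
theorem E25613 : n102659 = n18561 := ((((iv4 F29797)).symm.trans (sb E25610 (iv4 F157897)))).symm
theorem E25614 : n46629 = n27660 := (((D27660).symm.trans (sb E25610 (iv6 D99840)))).symm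
theorem E25617 : n102429 = n22392 := (((D22392).symm.trans (sb E25611 (iv3 F157393)))).symm
theorem E25618 : n102431 = n8726 := ((((iv4 F17197)).symm.trans (sb E25611 (iv4 F157396)))).symm
theorem E25620 : n22839 = n22393 := (((D22393).symm.trans (sb E25611 (iv6 D47527)))).symm
theorem E25622 : n104233 = n22641 := ((((iv2 F35176)).symm.trans (sb E25612 F287591))).symm
theorem E25623 : n88302 = n19274 := ((((iv4 F30932)).symm.trans (sb E25612 F287593))).symm
theorem E25624 : n88300 = n40891 := (((D40891).symm.trans (sb E25612 (iv6 D185332)))).symm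
theorem E25625 : n47613 = n39086 := (((D39086).symm.trans (sb E25613 (iv6 D102659)))).symm
theorem E25626 : n57973 = n22840 := ((D57973).symm.trans (sb E25614 (iv1 F73661)))
theorem E25627 : n57974 = n22348 := ((D57974).symm.trans (sb E25614 (iv0 D46629)))
theorem E25628 : n99839 = n57975 := (((D57975).symm.trans (sb E25614 D99839))).symm
theorem E25629 : n57976 = n22838 := ((D57976).symm.trans (sb E25614 (iv7 F157348)))
theorem E25630 : n47524 = n46687 := (((D46687).symm.trans (sb E25617 (iv6 D102429)))).symm
theorem E25631 : n102078 = n15379 := ((((iv3 F24952)).symm.trans (sb E25618 F157395))).symm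
theorem E25632 : n47525 = n18571 := (((D18571).symm.trans (sb E25618 (iv6 D102431)))).symm
theorem E25633 : n46688 = n10791 := ((D46688).symm.trans (sb E25620 (iv1 D22839)))
theorem E25634 : n46689 = n46631 := ((D46689).symm.trans (sb E25620 F73667))
theorem E25635 : n47526 = n46690 := (((D46690).symm.trans (sb E25620 D47526))).symm
theorem E25636 : n46691 = n46630 := ((D46691).symm.trans (sb E25620 (iv7 F157350)))
theorem E25637 : n48234 = n47077 := (((D47077).symm.trans (sb E25622 (iv6 D104233)))).symm
theorem E25640 : n185330 = n40892 := (((D40892).symm.trans (sb E25623 (iv3 F287587)))).symm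
theorem E25642 : n41213 = n40893 := (((D40893).symm.trans (sb E25623 (iv6 D88302)))).symm
theorem E25644 : n87748 = n48235 := ((D87748).symm.trans (sb E25624 (iv1 F135214)))
theorem E25645 : n87749 = n47484 := ((D87749).symm.trans (sb E25624 (iv0 F135212)))
theorem E25646 : n185331 = n87750 := (((D87750).symm.trans (sb E25624 D185331))).symm
theorem E25647 : n87751 = n47519 := ((D87751).symm.trans (sb E25624 F157345))
theorem E25648 : n84632 = n22910 := ((D84632).symm.trans (sb E25625 (iv1 D47613)))
theorem E25649 : n98004 = n84633 := (((D84633).symm.trans (sb E25625 F151105))).symm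
theorem E25650 : n102657 = n84627 := ((((iv3 F129802)).symm.trans (sb E25625 D102657))).symm
theorem E25651 : n102658 = n84634 := (((D84634).symm.trans (sb E25625 D102658))).symm
theorem E25652 : n84635 = n47520 := ((D84635).symm.trans (sb E25625 F157357))
theorem F289714 : act 1 n22840 = n27660 := (sb E25626 (iv0 D57973))
theorem E25657 : n124349 = n47529 := (((D47529).symm.trans (sb E25626 D124349))).symm
theorem F289715 : act 0 n22348 = n27660 := (sb E25627 (iv1 D57974))
theorem E25663 : n124358 = n47521 := ((D124358).symm.trans (sb E25628 F157360))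
theorem E25664 : n47522 = n39118 := ((D47522).symm.trans (sb E25629 F91736))
theorem F289716 : act 7 n22838 = n27660 := (sb E25629 (iv7 D57976))
theorem E25665 : n99956 = n46566 := ((D99956).symm.trans (sb E25630 F74725))
theorem E25666 : n99957 = n46571 := ((D99957).symm.trans (sb E25630 F153376))
theorem E25667 : n102427 = n99955 := ((((iv2 F153891)).symm.trans (sb E25630 D102427))).symm
theorem E25669 : n99959 = n99842 := ((D99959).symm.trans (sb E25630 (iv7 F157352)))
theorem E25670 : n47409 = n32485 := (((D32485).symm.trans (sb E25631 (iv6 D102078)))).symm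
theorem E25671 : n47614 = n39115 := (((D39115).symm.trans (sb E25632 (iv1 F74872)))).symm
theorem E25672 : n45744 = n39116 := (((D39116).symm.trans (sb E25632 (iv0 F74723)))).symm
theorem E25673 : n102430 = n39117 := (((D39117).symm.trans (sb E25632 D102430))).symm
theorem E25674 : n47612 = n39118 := (((D39118).symm.trans (sb E25632 F157353))).symm
theorem F289717 : act 1 n10791 = n22393 := (sb E25633 (iv0 D46688))
theorem E25679 : n99964 = n22842 := (((D22842).symm.trans (sb E25633 D99964))).symm
theorem F289718 : act 0 n46631 = n22393 := (sb E25634 (iv1 D46689))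
theorem E25684 : n99969 = n99846 := (((D99846).symm.trans (sb E25634 D99969))).symm
theorem E25685 : n102420 = n99970 := (((D99970).symm.trans (sb E25635 (iv1 F157383)))).symm
theorem E25686 : n102419 = n99971 := (((D99971).symm.trans (sb E25635 F157382))).symm
theorem E25689 : n99973 = n99843 := ((D99973).symm.trans (sb E25635 F157354))
theorem F289719 : act 7 n46630 = n22393 := (sb E25636 (iv7 D46691))
theorem E25691 : n101047 = n23390 := ((D101047).symm.trans (sb E25637 (iv1 D48234)))
theorem E25692 : n101048 = n99948 := ((D101048).symm.trans (sb E25637 (iv0 F153885)))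
theorem E25694 : n101050 = n88295 := ((D101050).symm.trans (sb E25637 F157344))
theorem E25695 : n88299 = n87752 := (((D87752).symm.trans (sb E25640 (iv6 D185330)))).symm
theorem E25696 : n87753 = n19383 := ((D87753).symm.trans (sb E25642 (iv1 D41213)))
theorem E25697 : n87754 = n47406 := ((D87754).symm.trans (sb E25642 F74612))
theorem E25698 : n88301 = n87755 := (((D87755).symm.trans (sb E25642 D88301))).symm
theorem E25699 : n87756 = n47410 := ((D87756).symm.trans (sb E25642 F157343))
theorem F289720 : act 1 n48235 = n40891 := (sb E25644 (iv0 D87748))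
theorem E25703 : n183936 = n104234 := (((D104234).symm.trans (sb E25644 D183936))).symm
theorem E25704 : n183937 = n104235 := (((D104235).symm.trans (sb E25644 D183937))).symm
theorem F289721 : act 0 n47484 = n40891 := (sb E25645 (iv1 D87749))
theorem E25710 : n183946 = n102414 := ((D183946).symm.trans (sb E25646 F287590))
theorem E25711 : n102415 = n69975 := ((D102415).symm.trans (sb E25647 F134716))
theorem F289722 : act 7 n47519 = n40891 := (sb E25647 (iv7 D87751))
theorem F289723 : act 1 n22910 = n39086 := (sb E25648 (iv0 D84632))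
theorem E25712 : n177737 = n39115 := (((E25671).symm.trans ((D47614).symm.trans (sb E25648 D177737)))).symm
theorem E25716 : n177741 = n47616 := (((D47616).symm.trans (sb E25648 D177741))).symm
theorem E25718 : n177743 = n46851 := ((D177743).symm.trans (sb E25649 F151101))
theorem E25719 : n177744 = n47196 := ((D177744).symm.trans (sb E25649 F151102))
theorem E25720 : n177719 = n97957 := ((D177719).symm.trans (sb E25650 F157891))
theorem E25721 : n177720 = n97961 := ((D177720).symm.trans (sb E25650 (iv0 F157893)))
theorem E25722 : n177722 = n102416 := ((D177722).symm.trans (sb E25650 F157890))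
theorem E25723 : n177749 = n102417 := ((D177749).symm.trans (sb E25651 F157895))
theorem F289724 : act 7 n47520 = n39086 := (sb E25652 (iv7 D84635))
theorem E25724 : n170923 = n102440 := (((D102440).symm.trans (sb E25657 F268505))).symm
theorem F289725 : act 7 n47521 = n57975 := (sb E25663 (iv7 D124358))
theorem F289726 : act 1 n39118 = n102424 := (sb E25664 D102424)
theorem F289727 : act 4 n39118 = n102418 := (sb E25664 (iv4 F157381))
theorem F289728 : act 6 n39118 = n22838 := (sb E25664 (iv6 D47522))
theorem F289729 : act 1 n46566 = n46687 := (sb E25665 (iv0 D99956))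
theorem F289730 : act 0 n46571 = n46687 := (sb E25666 (iv1 D99957))
theorem F289731 : act 0 n99955 = n99577 := (sb E25667 (iv1 F157387))
theorem F289732 : act 1 n99955 = n99582 := (sb E25667 F157386)
theorem F289733 : act 7 n99955 = n99638 := (sb E25667 F157385)
theorem F289734 : act 6 n99842 = n102416 := (sb E25669 (tr (iv6 F277177) E25722))
theorem F289735 : act 7 n99842 = n46687 := (sb E25669 (iv7 D99959))
theorem E25728 : n69972 = n41214 := ((D69972).symm.trans (sb E25670 (iv1 F74617)))
theorem E25729 : n69973 = n22774 := ((D69973).symm.trans (sb E25670 (iv0 D47409)))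
theorem E25730 : n102077 = n69974 := (((D69974).symm.trans (sb E25670 D102077))).symm
theorem E25731 : n69975 = n41212 := ((D69975).symm.trans (sb E25670 F157341))
theorem F289736 : act 0 n39115 = n47520 := (sb E25671 F151065)
theorem E25732 : n84678 = n22910 := ((D84678).symm.trans (sb E25671 (iv2 D47614)))
theorem E25733 : n97992 = n84679 := (((D84679).symm.trans (sb E25671 (iv3 F151060)))).symm
theorem E25734 : n99861 = n84680 := (((D84680).symm.trans (sb E25671 (iv4 F289615)))).symm
theorem E25736 : n102661 = n84682 := (((D84682).symm.trans (sb E25671 D102661))).symm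
theorem F289737 : act 1 n39116 = n47520 := (sb E25672 (iv0 F74721))
theorem E25737 : n84684 = n21869 := ((D84684).symm.trans (sb E25672 (iv3 D45744)))
theorem E25738 : n84685 = n22704 := ((D84685).symm.trans (sb E25672 F72190))
theorem E25740 : n98006 = n84687 := (((D84687).symm.trans (sb E25672 D98006))).symm
theorem E25741 : n102655 = n84691 := (((D84691).symm.trans (sb E25673 (iv7 F157884)))).symm
theorem E25742 : n102424 = n22910 := ((F289726).symm.trans (sb E25674 (iv0 D47612)))
theorem F289738 : act 2 n39118 = n47520 := (sb E25674 F157355)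
theorem E25743 : n102418 = n46630 := ((F289727).symm.trans (sb E25674 F74869))
theorem E25745 : n82042 = n47536 := (((D47536).symm.trans (sb E25679 F153897))).symm
theorem E25746 : n102554 = n46704 := ((F157521).symm.trans (sb E25684 F277401))
theorem F289739 : act 5 n99846 = n98422 := (sb E25684 (iv5 F153899))
theorem F289740 : act 0 n99970 = n47521 := (sb E25685 (iv1 D102420))
theorem F289741 : act 1 n99971 = n47521 := (sb E25686 (iv0 D102419))
theorem F289742 : act 0 n99843 = n124356 := (sb E25689 (iv1 F198885))
theorem F289743 : act 1 n99843 = n124355 := (sb E25689 F198891)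
theorem F289744 : act 7 n99843 = n46690 := (sb E25689 (iv7 D99973))
theorem F289745 : act 1 n23390 = n47077 := (sb E25691 (iv0 D101047))
theorem F289746 : act 0 n99948 = n47077 := (sb E25692 (iv1 D101048))
theorem F289748 : act 7 n88295 = n47077 := (sb E25694 (iv7 D101050))
theorem E25748 : n183947 = n87674 := ((D183947).symm.trans (sb E25695 F135213))
theorem E25749 : n183948 = n87679 := ((D183948).symm.trans (sb E25695 (iv0 F157892)))
theorem E25751 : n183950 = n102080 := ((D183950).symm.trans (sb E25695 (iv7 F157363)))
theorem F289749 : act 1 n19383 = n40893 := (sb E25696 (iv0 D87753))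
theorem E25756 : n183955 = n41216 := (((D41216).symm.trans (sb E25696 D183955))).symm
theorem F289750 : act 0 n47406 = n40893 := (sb E25697 (iv1 D87754))
theorem E25761 : n183960 = n102069 := (((D102069).symm.trans (sb E25697 D183960))).symm
theorem E25766 : n183964 = n102081 := ((D183964).symm.trans (sb E25698 (iv7 F157364)))
theorem F289751 : act 7 n47410 = n40893 := (sb E25699 (iv7 D87756))
theorem F289752 : act 0 n104234 = n183033 := (sb E25703 F285795)
theorem F289753 : act 5 n104235 = n182998 := (sb E25704 F285796)
theorem F289754 : act 7 n102414 = n87750 := (sb E25710 (iv7 D183946))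
theorem E25767 : n102415 = n41212 := (E25711).trans E25731
theorem E25768 : n102082 = n88295 := (((D88295).symm.trans (sb E25767 F157372))).symm
theorem E25769 : n88297 = n47519 := ((D88297).symm.trans (sb E25767 (iv6 D102415)))
theorem E25770 : n84683 = n84633 := ((D84683).symm.trans (sb E25712 (iv7 F277184)))
theorem E25771 : n122408 = n102666 := (((D102666).symm.trans (sb E25716 F277185))).symm
theorem F289755 : act 3 n46851 = n84633 := (sb E25718 (iv3 D177743))
theorem F289756 : act 4 n47196 = n84633 := (sb E25719 (iv4 D177744))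
theorem F289757 : act 1 n97957 = n84627 := (sb E25720 (iv0 D177719))
theorem F289758 : act 0 n97961 = n84627 := (sb E25721 (iv1 D177720))
theorem F289759 : act 7 n102416 = n84627 := (sb E25722 (iv7 D177722))
theorem F289760 : act 0 n102417 = n84689 := (sb E25723 (iv1 F277192))
theorem F289761 : act 1 n102417 = n84688 := (sb E25723 F277194)
theorem F289762 : act 7 n102417 = n84634 := (sb E25723 (iv7 D177749))
theorem E25772 : n102551 = n81931 := (((iv1 F157518)).symm.trans (sb E25724 (iv1 D170923)))
theorem E25773 : n102550 = n82044 := ((F157517).symm.trans (sb E25724 F268504))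
theorem F289763 : act 1 n41214 = n32485 := (sb E25728 (iv0 D69972))
theorem F289764 : act 0 n22774 = n32485 := (sb E25729 (iv1 D69973))
theorem E25784 : n149110 = n88296 := ((D149110).symm.trans (sb E25730 (iv7 F157367)))
theorem F289765 : act 3 n41212 = n39118 := (sb E25731 F106390)
theorem F289766 : act 7 n41212 = n32485 := (sb E25731 (iv7 D69975))
theorem F289767 : act 0 n22910 = n177846 := (sb E25732 D177846)
theorem F289768 : act 2 n22910 = n39115 := (sb E25732 (iv2 D84678))
theorem E25787 : n177849 = n47144 := ((((iv4 F74400)).symm.trans (sb E25732 D177849))).symm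
theorem E25788 : n177850 = n47615 := (((D47615).symm.trans (sb E25732 D177850))).symm
theorem E25789 : n177851 = n47616 := (((D47616).symm.trans (sb E25732 D177851))).symm
theorem F289769 : act 7 n22910 = n39116 := (sb E25732 (iv7 F129918))
theorem E25790 : n177852 = n46853 := ((D177852).symm.trans (sb E25733 (iv1 F151064)))
theorem E25791 : n177853 = n46425 := ((D177853).symm.trans (sb E25733 F151063))
theorem E25792 : n177854 = n45738 := ((D177854).symm.trans (sb E25733 (iv2 D97992)))
theorem E25793 : n177855 = n90432 := ((D177855).symm.trans (sb E25733 F151061))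
theorem E25794 : n185426 = n177857 := (((D177857).symm.trans (sb E25733 (iv6 F287682)))).symm
theorem E25795 : n177858 = n46851 := ((D177858).symm.trans (sb E25733 F151062))
theorem E25796 : n177859 = n47195 := ((D177859).symm.trans (sb E25734 F289612))
theorem E25797 : n177860 = n46640 := ((D177860).symm.trans (sb E25734 (iv0 D99861)))
theorem E25798 : n177861 = n47185 := ((D177861).symm.trans (sb E25734 F289614))
theorem E25799 : n177864 = n47196 := ((D177864).symm.trans (sb E25734 F289616))
theorem E25800 : n177870 = n102467 := ((D177870).symm.trans (sb E25736 F157900))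
theorem E25805 : n177877 = n45745 := (((D45745).symm.trans (sb E25737 D177877))).symm
theorem F289771 : act 4 n22704 = n39116 := (sb E25738 (iv4 D84685))
theorem E25809 : n177881 = n47198 := (((D47198).symm.trans (sb E25738 D177881))).symm
theorem E25810 : n177886 = n98995 := ((D177886).symm.trans (sb E25740 (iv5 F152519)))
theorem F289772 : act 2 n84691 = n102417 := (sb E25741 F157882)
theorem E25811 : n177846 = n39118 := ((F289767).symm.trans (sb E25742 (iv1 F289726)))
theorem F289773 : act 4 n46630 = n39118 := (sb E25743 (iv4 F289727))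
theorem F289774 : act 6 n46630 = n47520 := (sb E25743 (iv6 D102418))
theorem E25812 : n102470 = n37595 := ((D102470).symm.trans (sb E25745 (iv1 D82042)))
theorem E25813 : n170925 = n102471 := (((D102471).symm.trans (sb E25745 F268511))).symm
theorem F289775 : act 0 n46704 = n99846 := (sb E25746 (iv1 F157521))
theorem E25819 : n100011 = n47566 := ((D100011).symm.trans (sb E25746 (iv0 D102554)))
theorem F289776 : act 1 n87674 = n87752 := (sb E25748 (iv0 D183947))
theorem F289777 : act 0 n87679 = n87752 := (sb E25749 (iv1 D183948))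
theorem F289778 : act 7 n102080 = n87752 := (sb E25751 (iv7 D183950))
theorem E25820 : n182980 = n88311 := (((D88311).symm.trans (sb E25756 F285812))).symm
theorem F289779 : act 5 n102069 = n183016 := (sb E25761 (iv5 F285814))
theorem F289780 : act 0 n102081 = n149108 := (sb E25766 (iv1 F285822))
theorem F289781 : act 1 n102081 = n149107 := (sb E25766 F285823)
theorem F289782 : act 7 n102081 = n87755 := (sb E25766 (iv7 D183964))
theorem F289783 : act 6 n88295 = n47410 := (sb E25768 (iv6 D102082))
theorem F289784 : act 6 n47519 = n41212 := (sb E25769 (iv6 D88297))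
theorem F289785 : act 2 n84633 = n39116 := (sb E25770 F129919)
theorem E25825 : n177868 = n177745 := (((D177745).symm.trans (sb E25770 (iv5 F277445)))).symm
theorem E25826 : n177872 = n177746 := (((D177746).symm.trans (sb E25770 D177872))).symm
theorem F289786 : act 7 n84633 = n39115 := (sb E25770 (iv7 D84683))
theorem F289787 : act 0 n102666 = n56723 := (sb E25771 (iv1 D122408))
theorem F289788 : act 1 n102666 = n98396 := (sb E25771 F195852)
theorem E25827 : n170922 = n47565 := ((D170922).symm.trans (sb E25772 (iv1 D102551)))
theorem F289789 : act 1 n81931 = n102440 := (sb E25772 F157518)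
theorem F289790 : act 0 n82044 = n102440 := (sb E25773 (iv1 F157517))
theorem F289791 : act 0 n88296 = n183962 := (sb E25784 (iv1 F285815))
theorem F289792 : act 1 n88296 = n183961 := (sb E25784 F285821)
theorem F289793 : act 3 n88296 = n84691 := (sb E25784 F234487)
theorem F289794 : act 7 n88296 = n69974 := (sb E25784 (iv7 D149110))
theorem F289795 : act 2 n47144 = n84680 := (sb E25787 F277430)
theorem F289796 : act 2 n47615 = n84681 := (sb E25788 F277432)
theorem F289797 : act 7 n47615 = n84686 := (sb E25788 F277433)
theorem F289798 : act 2 n47616 = n84682 := (sb E25789 F277434)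
theorem E25828 : n100185 = n100023 := (((iv7 F154132)).symm.trans (sb E25789 (iv7 F277453)))
theorem F289799 : act 1 n46853 = n84679 := (sb E25790 (iv0 D177852))
theorem F289800 : act 0 n46425 = n84679 := (sb E25791 (iv1 D177853))
theorem F289801 : act 2 n45738 = n84679 := (sb E25792 (iv2 D177854))
theorem F289802 : act 4 n90432 = n84679 := (sb E25793 (iv4 D177855))
theorem F289803 : act 0 n177857 = n88334 := (sb E25794 (iv1 D185426))
theorem F289804 : act 1 n177857 = n102608 := (sb E25794 F287679)
theorem F289805 : act 2 n177857 = n97994 := (sb E25794 (iv2 F287680))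
theorem F289806 : act 7 n177857 = n185411 := (sb E25794 (iv7 F287683))
theorem F289807 : act 7 n46851 = n84679 := (sb E25795 (iv7 D177858))
theorem F289808 : act 1 n47195 = n84680 := (sb E25796 (iv0 D177859))
theorem F289809 : act 0 n46640 = n84680 := (sb E25797 (iv1 D177860))
theorem F289810 : act 3 n47185 = n84680 := (sb E25798 (iv3 D177861))
theorem E25829 : n184640 = n101405 := (((D101405).symm.trans (sb E25799 (iv6 F286621)))).symm
theorem F289811 : act 7 n47196 = n84680 := (sb E25799 (iv7 D177864))
theorem F289812 : act 0 n102467 = n84682 := (sb E25800 (iv1 D177870))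
theorem F289813 : act 2 n102467 = n100026 := (sb E25800 (iv2 F277449))
theorem F289814 : act 6 n102467 = n98448 := (sb E25800 (iv6 F277447))
theorem F289815 : act 7 n102467 = n99979 := (sb E25800 F277448)
theorem F289816 : act 3 n45745 = n84686 := (sb E25805 F277456)
theorem F289818 : act 4 n47198 = n84687 := (sb E25809 F277458)
theorem E25830 : n184641 = n93359 := ((((iv7 F143987)).symm.trans (sb E25809 F286618))).symm
theorem F289819 : act 0 n98995 = n98437 := (sb E25810 (iv1 F277462))
theorem F289820 : act 1 n98995 = n98419 := (sb E25810 (iv0 F277461))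
theorem F289821 : act 5 n98995 = n84687 := (sb E25810 (iv5 D177886))
theorem F289823 : act 1 n39118 = n22910 := (sb E25811 (iv0 F289767))
theorem E25831 : n102548 = n82041 := (((D82041).symm.trans (sb E25812 (iv1 F157512)))).symm
theorem F289824 : act 1 n37595 = n47536 := (sb E25812 (iv0 D102470))
theorem F289825 : act 2 n102471 = n82044 := (sb E25813 F268508)
theorem F289826 : act 5 n102471 = n81932 := (sb E25813 F268509)
theorem F289827 : act 7 n102471 = n81931 := (sb E25813 (iv7 D170925))
theorem F289828 : act 0 n47566 = n46704 := (sb E25819 (iv1 D100011))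
theorem E25832 : n185368 = n87356 := ((D185368).symm.trans (sb E25820 (iv1 D182980)))
theorem F289829 : act 2 n177745 = n84686 := (sb E25825 F277444)
theorem F289830 : act 7 n177745 = n84681 := (sb E25825 (iv7 D177868))
theorem F289831 : act 1 n177746 = n99351 := (sb E25826 F277466)
theorem F289833 : act 4 n177746 = n101405 := (sb E25826 (tr (iv4 F286620) E25829))
theorem F289834 : act 0 n47565 = n82044 := (sb E25827 (iv1 F268510))
theorem F289835 : act 1 n47565 = n81931 := (sb E25827 (iv0 D170922))
theorem F289836 : act 0 n100023 = n102467 := (sb E25828 F157415)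
theorem F289837 : act 3 n100023 = n46756 := (sb E25828 (iv3 D100185))
theorem E25833 : n98393 = n98367 := ((F268503).symm.trans (sb E25828 F154131))
theorem F289838 : act 7 n100023 = n47616 := (sb E25828 F154132)
theorem F289839 : act 1 n101405 = n88041 := (sb E25829 (iv0 D184640))
theorem F289840 : act 0 n93359 = n88041 := (sb E25830 (iv1 D184641))
theorem F289841 : act 4 n93359 = n177887 := (sb E25830 F286617)
theorem F289842 : act 0 n82041 = n102471 := (sb E25831 (iv1 F157511))
theorem F289843 : act 2 n82041 = n47565 := (sb E25831 F157509)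
theorem E25834 : n171203 = n47564 := ((D171203).symm.trans (sb E25831 (iv5 D102548)))
theorem F289844 : act 7 n82041 = n102440 := (sb E25831 F157510)
theorem E25835 : n185437 = n182979 := (((D182979).symm.trans (sb E25832 (iv1 F287698)))).symm
theorem F289845 : act 1 n87356 = n88311 := (sb E25832 (iv0 D185368))
theorem F289846 : act 0 n98367 = n122410 := (sb E25833 (iv1 F195859))
theorem F289847 : act 1 n98367 = n46029 := (sb E25833 (iv0 D98393))
theorem F289848 : act 5 n98367 = n100023 := (sb E25833 (iv5 F268503))
theorem F289849 : act 6 n98367 = n179808 := (sb E25833 F280028)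
theorem E25836 : n100020 = n47534 := (((F74796).symm.trans (sb E25834 F268939))).symm
theorem F289850 : act 5 n47564 = n82041 := (sb E25834 (iv5 D171203))
theorem F289851 : act 0 n182979 = n185369 := (sb E25835 (iv1 F287697))
theorem F289852 : act 2 n182979 = n88339 := (sb E25835 F287695)
theorem F289853 : act 5 n182979 = n88338 := (sb E25835 (iv5 D185437))
theorem F289854 : act 7 n182979 = n185341 := (sb E25835 F287696)
theorem E25837 : n102460 = n99355 := ((D102460).symm.trans (sb E25836 F154192))
theorem E25838 : n183968 = n102461 := (((D102461).symm.trans (sb E25836 (iv3 F285835)))).symm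
theorem E25839 : n102462 = n46709 := ((D102462).symm.trans (sb E25836 F153966))
theorem E25840 : n102464 = n46707 := ((D102464).symm.trans (sb E25836 (iv6 D100020)))
theorem F289855 : act 2 n99355 = n47534 := (sb E25837 (iv2 D102460))
theorem F289856 : act 7 n99355 = n47535 := (sb E25837 (iv7 F157411))
theorem F289857 : act 2 n102461 = n87769 := (sb E25838 F285834)
theorem E25841 : n101056 = n88337 := (((F157412).symm.trans (sb E25838 F285836))).symm
theorem F289858 : act 6 n102461 = n87758 := (sb E25838 (iv6 D183968))
theorem F289859 : act 4 n46709 = n47534 := (sb E25839 (iv4 D102462))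
theorem F289860 : act 6 n46707 = n47534 := (sb E25840 (iv6 D102464))
theorem E25842 : n185433 = n183985 := (((iv2 F287694)).symm.trans (sb E25841 (iv2 F285870)))
theorem E25843 : n185436 = n47079 := ((D185436).symm.trans (sb E25841 (iv6 D101056)))
theorem F289861 : act 2 n183985 = n88337 := (sb E25842 F287694)
theorem F289862 : act 7 n183985 = n88336 := (sb E25842 (iv7 D185433))
theorem F289863 : act 6 n47079 = n88337 := (sb E25843 (iv6 D185436))
theorem F289864 : act 6 n185434 = n100016 := d7_2 F289863 D185434 F153960
theorem F289865 : act 0 n182972 = n185435 := d21_1 D182972 (iv5 D185435) (iv6 F289863) (iv1 D47079) (iv6 D22643) D22642 F35182 (iv5 F30807) D40604 D87354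
theorem F289866 : act 2 n100018 = n185434 := d3_3 F289864 (iv2 D100016) D100018
theorem F289867 : act 4 n100018 = n185434 := d10_3 F289864 (iv4 F153961) D100018
theorem F289868 : act 0 n183757 = n100018 := d20_1 (iv4 F285531) F289867 (iv3 D185434) (iv1 D88337) (iv3 D41231) (iv4 D19389) D19387 D41224 D88328 F288152
theorem E25844 : n183991 = n104239 := ((c11_2 F289862 F159832 (iv7 D183991) (iv4 F285872))).symm
theorem F289869 : act 7 n104239 = n87769 := (sb E25844 (iv7 D183991))
theorem F289870 : act 7 n185432 = n99999 := d14_2 F289862 D185432 (iv6 D99999) (iv7 F154180) D183985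
theorem F289871 : act 3 n98448 = n185432 := d8_3 F289870 F153946 (iv7 F154201)
theorem F289872 : act 5 n185432 = n98446 := d6_2 D98448 F289871 (iv3 D98446)
theorem F289873 : act 6 n102465 = n177884 := d14_3 (iv7 F154178) F289860 D102465 (iv7 F277460) (iv6 D99351)
theorem F289874 : act 0 n170915 = n102463 := d21_1 D170915 (iv5 D102463) (iv6 F289860) (iv1 F73823) (iv6 D39114) F29814 (iv1 F21779) D18006 D37515 D81929
theorem F289875 : act 1 n170920 = n102463 := d15_0 (iv0 F289874) F277417 (iv2 F277408)
theorem F289876 : act 2 n177884 = n102469 := d3_1 F289873 (iv6 D102469) (iv2 F157414)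
theorem F289877 : act 5 n102465 = n171177 := d21_6 D98443 (iv1 F277446) (iv5 D84686) D84687 D177884 (iv6 F289873) (iv1 D171177) (iv5 D82034) D82035 (iv1 F277394)
theorem E25845 : n102465 = n47562 := (c21_10 D102440 (iv1 F289789) (iv5 D81931) (iv6 D37515) F29169 D19552 D41526 D88932 (iv5 F277459) (iv6 F289873) (iv1 F74794))
theorem E25846 : n102538 = n47535 := ((D102538).symm.trans (sb E25845 F157414))
theorem E25847 : n171177 = n102541 := (((D102541).symm.trans (sb E25845 F289877))).symm
theorem E25848 : n177884 = n102542 := (((D102542).symm.trans (sb E25845 F289873))).symm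
theorem E25849 : n102543 = n47534 := ((D102543).symm.trans (sb E25845 (iv7 D102465)))
theorem F289878 : act 2 n47535 = n47562 := (sb E25846 (iv2 D102538))
theorem E25850 : n99355 = n47563 := (((iv7 F289856)).symm.trans (sb E25846 (iv7 F157502)))
theorem F289879 : act 0 n102541 = n82034 := (sb E25847 (iv1 D171177))
theorem F289880 : act 1 n102541 = n82039 := (sb E25847 F268925)
theorem F289881 : act 1 n102542 = n84687 := (sb E25848 (iv0 D177884))
theorem F289882 : act 2 n102542 = n102469 := (sb E25848 F289876)
theorem F289883 : act 3 n102542 = n183038 := (sb E25848 F284678)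
theorem F289884 : act 5 n102542 = n88932 := (sb E25848 F277459)
theorem F289885 : act 7 n102542 = n99351 := (sb E25848 (iv7 F277460))
theorem F289886 : act 7 n47534 = n47562 := (sb E25849 (iv7 D102543))
theorem F289887 : act 2 n47563 = n47534 := (sb E25850 F289855)
theorem E25851 : n102545 = n99979 := ((D102545).symm.trans (sb E25850 (iv4 F153905)))
theorem E25852 : n171176 = n102546 := (((D102546).symm.trans (sb E25850 (iv5 F268924)))).symm
theorem E25853 : n102547 = n46459 := ((D102547).symm.trans (sb E25850 (iv6 D99355)))
theorem F289888 : act 7 n47563 = n47535 := (sb E25850 F289856)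
theorem F289889 : act 1 n99979 = n47616 := (sb E25851 (iv0 F157507))
theorem E25854 : n183985 = n88309 := (((iv3 F285871)).symm.trans (sb E25851 (iv3 F157508)))
theorem F289890 : act 4 n99979 = n47563 := (sb E25851 (iv4 D102545))
theorem F289891 : act 0 n102546 = n82039 := (sb E25852 (iv1 F268928))
theorem F289892 : act 1 n102546 = n82034 := (sb E25852 (iv0 D171176))
theorem F289893 : act 6 n46459 = n47563 := (sb E25853 (iv6 D102547))
theorem E25855 : n185360 = n88337 := ((D185360).symm.trans (sb E25854 F289861))
theorem F289894 : act 3 n88309 = n99979 := (sb E25854 F285871)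
theorem E25856 : n185361 = n87769 := ((D185361).symm.trans (sb E25854 F285872))
theorem E25857 : n185363 = n87767 := ((D185363).symm.trans (sb E25854 (iv6 D183985)))
theorem E25858 : n185364 = n88336 := ((D185364).symm.trans (sb E25854 F289862))
theorem F289895 : act 2 n88337 = n88309 := (sb E25855 (iv2 D185360))
theorem E25859 : n185430 = n88310 := ((F287693).symm.trans (sb E25855 (iv7 F287606)))
theorem F289896 : act 4 n87769 = n88309 := (sb E25856 (iv4 D185361))
theorem F289897 : act 6 n87767 = n88309 := (sb E25857 (iv6 D185363))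
theorem F289898 : act 7 n88336 = n88309 := (sb E25858 (iv7 D185364))
theorem F289899 : act 2 n88310 = n88336 := (sb E25859 (iv2 D185430))
theorem F289900 : act 7 n88310 = n88337 := (sb E25859 (iv7 F287693))
theorem F289901 : act 7 n185434 = n185365 := d8_2 F289900 D185434 (iv3 D185365)
theorem F289902 : act 7 n102461 = n102539 := d11_2 F289900 (iv4 F157412) F157503
theorem F289903 : act 7 n185435 = n185366 := d13_2 F289900 D185435 (iv5 D185366)
theorem F289904 : act 7 n183974 = n185367 := d14_4 F289900 (iv6 F289863) (iv7 F154189) D183974 (iv6 D185367)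
theorem F289905 : act 2 n185367 = n185432 := d4_1 F289904 F289870 (iv2 F285854)
theorem F289906 : act 4 n185367 = n183038 := d11_1 F289904 F284675 (iv4 F285855)
theorem F289907 : act 6 n183038 = n102539 := d10_2 D185367 F289906 F157503
theorem F289908 : act 2 n102539 = n104239 := d4_1 F289902 F289869 (iv2 F289857)
theorem E25860 : n183989 = n104235 := (c15_1 D183989 F159830 (iv7 F289902) F289857)
theorem F289909 : act 0 n104235 = n87769 := (sb E25860 (iv1 D183989))
theorem E25861 : n183988 = n91406 := ((c15_1 (iv0 F157504) (iv0 D183988) (iv7 F289869) (iv2 F289908))).symm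
theorem F289910 : act 1 n91406 = n87769 := (sb E25861 (iv0 D183988))
theorem F289911 : act 1 n183757 = n185365 := d15_1 (iv0 F289868) (iv7 F289901) (iv2 F289866)
theorem F289912 : act 2 n185431 = n185366 := d2_3 (iv5 D185366) F289899 D185431
theorem F289913 : act 7 n185362 = n185431 := d13_2 F289898 D185362 (iv5 D185431)
theorem F289914 : act 2 n185435 = n185362 := d4_3 F289913 F289912 (iv7 F289903)
theorem F289915 : act 1 n182972 = n185431 := d15_1 (iv0 F289865) (iv7 F289913) (iv2 F289914)
theorem F289916 : act 4 n102544 = n183983 := d5_4 F289896 F289894 F289890 D102544 F285866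
theorem F289917 : act 6 n99353 = n102544 := d10_0 F289916 (iv6 D183983) (iv4 F153009)
theorem F289918 : act 0 n99640 = n183983 := d20_1 (iv4 F153387) (iv4 F289916) (iv3 D102544) (iv1 D47563) (iv3 D22859) (iv4 D10797) D10795 D22852 D47553 F161652
theorem F289919 : act 2 n102544 = n183983 := d3_1 F289917 (iv6 D183983) (iv2 F153008)
theorem F289920 : act 7 n102469 = n100003 := d14_4 (iv7 F154182) F289893 F289888 D102469 (iv6 D100003)
theorem F289921 : act 4 n98448 = n102469 := d11_3 F289920 F153949 (iv7 F154201)
theorem F289922 : act 5 n171153 = n102469 := d13_3 F289920 F153950 (iv7 F268904)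
theorem F289923 : act 1 n177887 = n102469 := d15_1 (iv0 F277465) F289920 (iv2 F154198)
theorem E25862 : n99851 = n98448 := (c20_11 F289921 (iv1 F289923) (iv4 F289841) (iv3 D93359) (iv1 D43667) (iv3 F33635) (iv4 D21421) (iv1 F65689) (iv4 F34889) (iv3 F73670) D99851)
theorem F289924 : act 0 n98448 = n102549 := (sb E25862 (iv1 F157516))
theorem F289925 : act 1 n98448 = n46633 := (sb E25862 (iv0 D99851))
theorem F289926 : act 0 n93386 = n185432 := d20_4 F32770 D20666 D43679 D93386 (iv3 F289871) F289921 (iv1 F289923) (iv4 F289841) (iv3 D93359) (iv1 D43667)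
theorem F289927 : act 0 n170920 = n102468 := d21_1 D170920 (iv5 D102468) D102469 (iv1 F289923) F277464 (iv5 F289848) F289846 F195856 F89710 (iv1 F126269)
theorem F289928 : act 1 n170915 = n102468 := d15_0 (iv0 F289927) F277409 (iv2 F277416)
theorem F289929 : act 4 n185432 = n185444 := d20_0 (iv1 D185444) F135285 F74625 F66254 F33635 F32770 D20666 D43679 D93386 F289926
theorem F289930 : act 1 n93386 = n183974 := d15_1 (iv0 F289926) F289904 F289905
theorem E25863 : n185443 = n87764 := (c20_11 (iv4 F285855) (iv1 F289930) F144043 F74670 F69160 (iv3 D43982) (iv4 D20867) F66143 (iv4 F62456) (iv3 F135284) D185443)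
theorem E25864 : n183979 = n102069 := ((D183979).symm.trans (sb E25863 (iv1 F287710)))
theorem E25865 : n183980 = n88340 := ((D183980).symm.trans (sb E25863 (iv0 D185443)))
theorem F289931 : act 1 n102069 = n87764 := (sb E25864 (iv0 D183979))
theorem F289932 : act 0 n88340 = n87764 := (sb E25865 (iv1 D183980))
theorem F289933 : act 3 n94096 = n177887 := d20_3 F69157 D43987 D94096 F277465 F153004 (iv4 F285855) (iv1 F289930) F144043 F74670 F69160
theorem F289934 : act 3 n179809 = n88966 := d6_3 (iv5 F144999) F289933 (iv5 F280029)
theorem E25866 : n99852 = n98453 := ((c20_1 F153005 (iv1 D99852) F73671 F62381 (iv1 F65974) D43982 F69157 D43987 D94096 F289933 F277465)).symm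
theorem F289935 : act 0 n98453 = n46633 := (sb E25866 (iv1 D99852))
theorem F289936 : act 1 n98453 = n102549 := (sb E25866 F157515)
theorem E25867 : n185142 = n98084 := (c17_2 (iv1 F287487) D185142 (iv1 D98084) (iv5 D45803) F34392 D21998 D46046 D98453 F289936 (iv4 F287484))
theorem E25868 : n171102 = n88235 := (((iv5 F268826)).symm.trans (sb E25867 (iv5 D185142)))
theorem E25869 : n185139 = n99872 := (((iv2 F287500)).symm.trans (sb E25868 F268823))
theorem E25870 : n185140 = n99482 := ((D185140).symm.trans (sb E25868 F268824))
theorem E25871 : n185141 = n100841 := ((D185141).symm.trans (sb E25868 F268825))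
theorem F289937 : act 5 n88235 = n98084 := (sb E25868 F268826)
theorem E25872 : n185143 = n82006 := ((D185143).symm.trans (sb E25868 (iv6 D171102)))
theorem F289938 : act 2 n99872 = n88235 := (sb E25869 F287500)
theorem F289939 : act 7 n99872 = n88234 := (sb E25869 (iv7 D185139))
theorem F289940 : act 3 n99482 = n88235 := (sb E25870 (iv3 D185140))
theorem F289941 : act 4 n100841 = n88235 := (sb E25871 (iv4 D185141))
theorem F289942 : act 6 n82006 = n88235 := (sb E25872 (iv6 D185143))
theorem E25873 : n100854 = n96156 := ((c20_4 F72664 F74583 F74579 D96156 (iv1 D100854) (iv3 F154941) F289941 (iv1 D88235) (iv4 F73671) F73670 (iv1 F72665))).symm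
theorem F289943 : act 0 n96156 = n47015 := (sb E25873 (iv1 D100854))
theorem E25874 : n100853 = n99773 := (c20_5 (iv4 F287484) (iv1 F287487) (iv4 F289941) F154941 D100853 F153597 (iv4 F157015) (iv1 F287711) (iv4 F289929) (iv3 F289871) F289924)
theorem F289944 : act 1 n99773 = n47015 := (sb E25874 (iv0 D100853))
theorem E25875 : n89422 = n89095 := ((c21_1 D89095 (iv1 D89422) (iv5 F74570) (iv6 F147829) F289943 (iv6 D47015) D47014 D100848 F289520 (iv6 D186566) F289522)).symm
theorem F289945 : act 0 n89095 = n41759 := (sb E25875 (iv1 D89422))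
theorem F289946 : act 1 n89095 = n101968 := (sb E25875 F156939)
theorem F289947 : act 7 n89421 = n172210 := d15_2 F289946 F156938 F270405
theorem E25876 : n89421 = n89354 := ((c13_4 F289947 (iv5 D172210) (iv7 F289527) D89354)).symm
theorem F289948 : act 0 n89354 = n101968 := (sb E25876 (iv1 F156938))
theorem F289949 : act 1 n89354 = n41759 := (sb E25876 (iv0 D89421))
theorem F289950 : act 7 n89354 = n172210 := (sb E25876 F289947)
theorem F289951 : act 1 n97078 = n95645 := d17_6 F289522 D89095 F289945 (iv5 F74570) (iv4 F156947) F156948 (iv5 D95645) F147293 F147290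
theorem E25877 : n184642 = n101410 := ((c11_2 F289939 (iv4 F287489) (iv7 D184642) (iv4 F153785))).symm
theorem F289952 : act 7 n101410 = n88041 := (sb E25877 (iv7 D184642))
theorem F289953 : act 7 n185138 = n171105 := d14_2 F289939 D185138 (iv6 D171105) F154987 D99872
theorem F289954 : act 6 n88966 = n179806 := d7_2 D179809 F289934 (iv3 D179806)
theorem F289956 : act 5 n179806 = n98368 := d12_1 F289954 (iv6 D98368) (iv5 F134008) (iv6 F144997) F144999
theorem F289957 : act 0 n179806 = n98968 := d21_4 D46327 (iv1 F145001) F144999 F289954 (iv6 D98968) (iv5 D46300) (iv1 D22140) D22141 F34606 D22153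
theorem F289958 : act 3 n98368 = n179808 := d6_1 F289956 (iv5 D179808) D179806
theorem E25878 : n185440 = n150134 := ((c21_7 F284612 (iv1 D183007) (iv5 D87365) (iv6 D40607) (iv1 F51892) D70662 D150134 (iv1 D185440) (iv5 D88339) D88340 F289932)).symm
theorem F289959 : act 0 n150134 = n88339 := (sb E25878 (iv1 D185440))
theorem F289960 : act 1 n150134 = n185341 := (sb E25878 F287707)
theorem F289961 : act 7 n185444 = n183043 := d15_2 (iv0 F289932) D185444 (iv2 F284670)
theorem F289963 : act 5 n183006 = n185444 := d13_3 F289961 (iv5 D183043) (iv7 F284677)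
theorem F289964 : act 6 n104239 = n185444 := d14_5 F289961 F284669 F154191 D87769 (iv7 F289869)
theorem F289965 : act 5 n102442 = n183005 := d21_8 D87365 D183006 F289963 (iv6 F289964) (iv1 D104239) (iv6 D48237) D48236 F157403 (iv6 D183005) (iv1 D87364)
theorem E25879 : n150147 = n104240 := ((c21_1 D104240 (iv1 D150147) (iv5 D70665) (iv6 D32772) (iv1 F30813) D40607 D87365 D183006 F289963 (iv6 F289964) (iv1 D104239))).symm
theorem F289966 : act 0 n104240 = n70665 := (sb E25879 (iv1 D150147))
theorem F289968 : act 2 n182960 = n150146 := d15_3 (iv0 D150146) (iv0 F289966) (iv7 F284555)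
theorem F289969 : act 2 n183033 = n102442 := d2_3 F289965 F284608 D183033
theorem E25880 : n102444 = n98438 := ((c6_2 F289965 F284609 (iv5 D102444) D102442)).symm
theorem F289970 : act 5 n98438 = n47530 := (sb E25880 (iv5 D102444))
theorem F289971 : act 5 n181980 = n102084 := d17_5 (iv1 F289745) D48236 F157403 F289965 F284610 F157028 (iv5 D88303) F289763 (iv4 F74330)
theorem E25881 : n183038 = n102087 := ((c21_11 (iv5 D183038) (iv1 F284620) F284617 (iv6 F145978) (iv1 F145981) D181980 F289971 (iv1 D102084) (iv5 D47411) D47412 D102087)).symm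
theorem F289973 : act 3 n102087 = n102542 := (sb E25881 (iv3 F289883))
theorem F289974 : act 4 n102087 = n185367 := (sb E25881 (iv4 F289906))
theorem F289975 : act 5 n102087 = n87380 := (sb E25881 (iv5 D183038))
theorem F289976 : act 6 n102087 = n102539 := (sb E25881 F289907)
theorem F289977 : act 7 n102087 = n87764 := (sb E25881 F284675)
theorem E25882 : n181981 = n98446 := (c21_2 D86919 D181981 (iv5 F289872) (iv6 D185432) (iv1 F135277) (iv6 D88304) D88303 (iv1 F157028) (iv5 F289971) (iv6 D181980) (iv1 D86918))
theorem F289978 : act 1 n98446 = n86919 := (sb E25882 (iv0 D181981))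
theorem E25883 : n183043 = n102088 := (c15_4 F287703 F287705 F289977 F284670)
theorem F289979 : act 2 n102088 = n87764 := (sb E25883 (iv2 F284670))
theorem F289981 : act 5 n102088 = n87381 := (sb E25883 (iv5 D183043))
theorem F289982 : act 6 n102088 = n87757 := (sb E25883 F284669)
theorem E25884 : n102117 = n89174 := ((c17_7 (iv1 F287703) F289981 (iv1 D87381) (iv5 D40611) (iv4 F31386) D41655 D89174 (iv5 D102117) F157022 (iv4 F287701))).symm
theorem F289984 : act 5 n89174 = n47418 := (sb E25884 (iv5 D102117))
theorem E25885 : n102118 = n99422 := ((c21_5 F35211 (iv1 F35209) (iv5 F34763) D46487 D99422 (iv6 D102118) (iv5 F289984) (iv1 D89174) (iv5 D41655) (iv6 D19614) D19610)).symm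
theorem F289985 : act 6 n99422 = n47418 := (sb E25885 (iv6 D102118))
theorem E25886 : n102114 = n99429 := (c3_2 F289985 (iv2 F157040) (iv6 D99429) (iv2 F155655))
theorem F289986 : act 2 n99429 = n47418 := (sb E25886 F157040)
theorem F289987 : act 7 n99429 = n47417 := (sb E25886 (iv7 D102114))
theorem E25887 : n102115 = n101198 := (c7_2 F289985 D102115 (iv6 D101198) (iv3 F153145))
theorem F289988 : act 3 n101198 = n47418 := (sb E25887 (iv3 D102115))
theorem E25888 : n102116 = n101039 := (c10_2 F289985 D102116 (iv6 D101039) F153143)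
theorem F289989 : act 4 n101039 = n47418 := (sb E25888 (iv4 D102116))
theorem E25889 : n184501 = n94089 := ((c20_4 (iv4 D45812) D45811 F72323 D94089 (iv1 D184501) (iv3 F155644) F289989 (iv1 D47418) (iv4 F74622) F74621 (iv1 F72344))).symm
theorem F289990 : act 0 n94089 = n87987 := (sb E25889 (iv1 D184501))
theorem E25890 : n184500 = n183851 := ((c15_4 (iv0 D184500) (iv0 F289990) F144976 (iv2 F285660))).symm
theorem F289991 : act 1 n183851 = n87987 := (sb E25890 (iv0 D184500))
theorem F289992 : act 4 n102555 = n102542 := d20_8 F287701 (iv1 F157022) (iv4 F289989) F155644 (iv1 F289991) F285661 (iv4 F153739) (iv1 F157522) (iv3 F289973) (iv1 F287705)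
theorem F289994 : act 6 n102540 = n102555 := d10_0 F289992 (iv6 D102542) D102540
theorem F289995 : act 7 n98453 = n102555 := d11_0 F289992 F289885 F153005
theorem F289996 : act 5 n98404 = n102555 := d17_3 (iv1 D46032) D46033 D98404 F289992 F289884 (iv0 D88932) (iv5 D41526) D41525 (iv4 F72615)
theorem F289997 : act 6 n98579 = n180084 := d21_3 F289996 (iv1 D102555) (iv5 F151972) (iv1 D180084) (iv6 D86048) (iv5 D39827) (iv1 F125962) D57970 F91721 D98404
theorem F289998 : act 5 n102662 = n98403 := d21_8 D46033 D98404 F289996 (iv6 F289994) F157505 (iv6 D47616) D47615 D102662 (iv6 D98403) (iv1 D46032)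
theorem F289999 : act 2 n98443 = n102662 := d2_3 F289998 F152058 D98443
theorem E25891 : n185344 = n183028 := ((c6_2 F289998 (iv3 F284664) (iv5 D185344) F287493)).symm
theorem F290000 : act 5 n183028 = n88305 := (sb E25891 (iv5 D185344))
theorem F290001 : act 7 n177865 = n102662 := d13_0 F289998 (iv7 F277392) F277451
theorem F290002 : act 5 n88931 = n99848 := d17_5 (iv1 F289723) D47615 D102662 F289998 F151821 F153741 (iv5 D47528) F289714 (iv4 F60091)
theorem E25892 : n102441 = n99848 := ((c2_1 F290002 (iv2 D102441) (iv5 F289970) F152065)).symm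
theorem F290003 : act 2 n99848 = n47530 := (sb E25892 (iv2 D102441))
theorem F290004 : act 7 n99848 = n47531 := (sb E25892 (iv7 F157401))
theorem F290005 : act 7 n102449 = n88931 := d13_0 F290002 F290004 D102449
theorem F290006 : act 4 n171182 = n102449 := d11_3 F290005 (iv4 F151821) (iv7 F277392)
theorem F290007 : act 0 n102449 = n98387 := d17_0 F198886 (iv1 D124356) (iv5 D57975) (iv4 F60091) D84634 (iv0 F268930) (iv5 D171183) D171182 F290006
theorem F290008 : act 1 n98438 = n98387 := d15_0 (iv0 F290007) F290005 (iv2 F152065)
theorem E25893 : n102446 = n99847 := (c15_4 (iv0 D99847) D99848 F290004 (iv2 F157405))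
theorem F290009 : act 2 n99847 = n47531 := (sb E25893 F157405)
theorem F290010 : act 7 n99847 = n47530 := (sb E25893 (iv7 D102446))
theorem F290011 : act 3 n185346 = n177865 := d8_3 F290001 (iv3 F287493) D185346
theorem E25894 : n185342 = n102084 := (c2_2 F290000 D185342 (iv5 F289971) (iv2 F284663))
theorem F290012 : act 2 n102084 = n88305 := (sb E25894 (iv2 D185342))
theorem F290013 : act 7 n102084 = n88306 := (sb E25894 (iv7 F287598))
theorem F290014 : act 7 n185349 = n181980 := d13_2 F290013 D185349 F289971
theorem E25895 : n185346 = n102083 := (c15_4 (iv0 D102083) D102084 F290013 (iv2 F287600))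
theorem F290015 : act 2 n102083 = n88306 := (sb E25895 F287600)
theorem F290016 : act 3 n102083 = n177865 := (sb E25895 F290011)
theorem F290017 : act 7 n102083 = n88305 := (sb E25895 (iv7 D185346))
theorem F290018 : act 7 n102663 = n98443 := d15_2 (iv0 D102662) D102663 F289999
theorem F290019 : act 2 n102663 = n177865 := d4_3 F290001 (iv2 F289999) (iv7 F290018)
theorem F290020 : act 5 n98444 = n102663 := d2_0 F290019 (iv5 F277451) (iv2 F277393)
theorem F290022 : act 5 n180084 = n102553 := d12_1 F289997 (iv6 D102553) (iv5 D47565) D47566 (iv5 F151972)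
theorem E25896 : n102540 = n100026 := (c14_2 F289995 (iv6 F289994) (iv7 D100026) (iv6 D46709) F154174 F151865)
theorem F290023 : act 0 n100026 = n47616 := (sb E25896 F157505)
theorem F290024 : act 4 n100026 = n47562 := (sb E25896 (iv4 D102540))
theorem F290025 : act 6 n100026 = n102555 := (sb E25896 F289994)
theorem F290026 : act 1 n100026 = n177871 := d15_1 (iv0 F290023) (iv7 D177871) (iv2 F289798)
theorem F290027 : act 1 n177871 = n99979 := d15_1 F290026 (iv7 F289815) F289813
theorem F290028 : act 5 n122407 = n177871 := d17_7 (iv1 D47563) D47565 F289834 F126461 (iv4 F72613) (iv5 F151815) F195857 F290027 F289890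
theorem F290029 : act 2 n98367 = n122407 := d2_3 F290028 F277454 (iv5 F289848)
theorem F290030 : act 7 n98394 = n122407 := d13_0 F290028 (iv7 D177871) F151814
theorem F290031 : act 2 n102666 = n98394 := d4_3 F290030 (iv2 F290029) (iv7 F157903)
theorem E25897 : n102111 = n101093 := (c11_2 F289987 D102111 (iv7 D101093) (iv4 F153166))
theorem F290032 : act 1 n101093 = n47486 := (sb E25897 F287704)
theorem F290033 : act 4 n101093 = n47417 := (sb E25897 (iv4 D102111))
theorem F290034 : act 7 n104236 = n183033 := d15_2 (iv0 F157403) D104236 F289969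
theorem F290035 : act 5 n183034 = n104236 := d13_3 F290034 (iv5 D183033) D183034
theorem F290036 : act 6 n183126 = n179749 := d21_3 F289963 (iv1 D185444) (iv5 F284739) (iv1 D179749) (iv6 D85858) (iv5 D39713) (iv1 F232490) D69966 (iv6 F134130) D183006
theorem F290037 : act 3 n179749 = n183127 := d7_1 F290036 (iv6 D183127) D183126
theorem F290038 : act 5 n179749 = n185442 := d12_1 F290036 (iv6 D185442) (iv5 D88339) D88340 (iv5 F284739)
theorem E25898 : n185439 = n182982 := (c15_2 F289960 F287706 (iv7 D182982) (iv2 F236303))
theorem F290039 : act 0 n182982 = n185341 := (sb E25898 (iv1 F287706))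
theorem F290040 : act 1 n182982 = n88339 := (sb E25898 (iv0 D185439))
theorem F290041 : act 0 n183469 = n183027 := d17_2 (iv1 F289930) (iv5 F285224) (iv5 D183027) (iv4 D87377) D87378 F284643 (iv5 F289779) F289931 (iv4 F285855)
theorem F290042 : act 1 n183469 = n183014 := d15_1 (iv0 F290041) F284639 (iv2 F284660)
theorem F290043 : act 7 n102466 = n102544 := d8_2 F289888 D102466 (iv3 D102544)
theorem F290044 : act 7 n102468 = n102546 := d13_2 F289888 D102468 (iv5 D102546)
theorem F290045 : act 2 n102546 = n102463 := d15_3 (iv0 F289874) F289928 F290044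
theorem F290046 : act 2 n102468 = n102541 := d15_3 F289880 (iv0 F289891) (iv7 F290044)
theorem F290047 : act 7 n102541 = n102463 := d4_2 (iv7 F290044) F290046 (iv2 F290045)
theorem F290048 : act 1 n99640 = n102466 := d15_1 (iv0 F289918) F290043 F289919
theorem F290049 : act 1 n102469 = n177746 := d15_0 F289831 (iv7 F289885) F289882
theorem F290050 : act 0 n170775 = n98447 := d18_2 (iv1 D170774) D170775 (iv4 D98447) D98448 F289921 F290049 F289833 F289839 F268365
theorem F290051 : act 0 n102662 = n177745 := d21_7 (iv5 F289922) (iv1 F268902) F136495 F64065 (iv1 F72614) D98403 (iv5 F289998) (iv5 D177745) D177746 (iv1 F290049)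
theorem F290052 : act 0 n170916 = n98403 := d21_10 (iv5 F289998) F290051 (iv5 D177745) D177746 (iv1 F290049) (iv6 D102469) D102468 (iv1 F289928) (iv5 D170915) D170916
theorem F290053 : act 1 n102663 = n177745 := d15_0 (iv0 F290051) (iv7 F290001) (iv2 F290019)
theorem F290054 : act 1 n170916 = n98444 := d15_1 (iv0 F290052) (iv7 D98444) (iv2 F152058)
theorem F290055 : act 1 n171184 = n98403 := d15_0 (iv0 F290052) F277419 (iv2 F277395)
theorem F290056 : act 1 n98444 = n171184 := d15_0 F290055 (iv7 F277392) (iv2 F277393)
theorem F290057 : act 6 n102663 = n177954 := d21_3 F277423 (iv1 F290056) F290020 (iv1 D177954) (iv6 D84713) (iv5 D39127) (iv1 D18573) D18574 (iv6 F60130) D84688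
theorem E25899 : n98579 = n98423 := ((c21_2 D46043 (iv1 F151847) F151972 (iv6 D47566) D47562 D102542 F289884 (iv1 F268907) F268901 F126454 (iv1 F72619))).symm
theorem F290058 : act 3 n98423 = n46083 := (sb E25899 (iv3 D98579))
theorem F290059 : act 5 n98423 = n47566 := (sb E25899 F151972)
theorem F290060 : act 6 n98423 = n180084 := (sb E25899 F289997)
theorem F290061 : act 7 n98423 = n99853 := (sb E25899 (iv7 F153745))
theorem F290062 : act 2 n99853 = n98422 := d15_3 (iv0 D98422) D98423 F290061
theorem F290063 : act 3 n98422 = n102589 := d0_2 (iv3 F153744) F290062 F157685 F74846 (iv2 F73675)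
theorem F290064 : act 1 n94074 = n98081 := d17_6 (iv1 F72619) D46043 (iv1 F151847) F290059 (iv4 F135168) (iv5 F144944) (iv5 D98081) F145032 F145028
theorem F290065 : act 1 n98078 = n94074 := d15_0 F290064 (iv7 F289711) F289709
theorem F290066 : act 1 n185114 = n98078 := d15_0 F290065 F144945 (iv2 F287482)
theorem F290067 : act 2 n182982 = n185369 := d15_3 (iv0 F289851) (iv0 D182979) D182982
theorem F290068 : act 5 n185369 = n150135 := d2_2 (iv5 F284573) F290067 F236305
theorem F290069 : act 7 n185369 = n150134 := d4_2 D182982 F290067 F236303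
theorem E25900 : n182997 = n182960 := (c17_7 (iv1 F135279) (iv5 F289853) F289851 F290068 F236306 (iv5 F236315) F284592 F284554 F289910 F289896)
theorem F290070 : act 0 n182960 = n150149 := (sb E25900 (iv1 F284592))
theorem F290071 : act 1 n182960 = n87361 := (sb E25900 (iv0 D182997))
theorem F290072 : act 7 n182998 = n150146 := d15_2 F290071 D182998 (iv2 F289968)
theorem F290073 : act 2 n104240 = n182998 := d4_3 F290072 (iv2 F289968) F284555
theorem F290074 : act 5 n171201 = n99837 := d6_2 F289850 D171201 F153721
theorem F290075 : act 6 n102468 = n171277 := d21_3 (iv5 F289850) (iv1 F74798) D102468 (iv1 D171277) (iv6 D82069) (iv5 D37605) (iv1 D18035) D18036 (iv6 F58464) D82041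
theorem F290078 : act 1 n89563 = n171201 := d17_6 (iv1 F251712) (iv5 D159757) (iv1 F153470) F145313 F69362 D89563 F290074 F153723 D102638
theorem F290079 : act 0 n89023 = n171201 := d21_1 D89023 F290074 (iv6 F157689) (iv1 F157690) F74845 D87905 F137320 (iv5 D89572) (iv6 D41832) (iv1 F64493)
theorem F290080 : act 2 n102552 = n171202 := d1_3 (iv4 D171202) F289843 D102552
theorem F290081 : act 2 n102553 = n171204 := d3_3 (iv6 D171204) F289843 D102553
theorem E25901 : n185113 = n99872 := ((c20_1 (iv4 F153785) (iv1 D185113) (iv4 F153739) F153738 D102588 (iv3 F157549) F75867 (iv1 F143992) (iv4 D93360) D93359 F289840)).symm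
theorem F290082 : act 0 n99872 = n88229 := (sb E25901 (iv1 D185113))
theorem F290083 : act 1 n99872 = n88237 := (sb E25901 F287481)
theorem E25902 : n185135 = n185112 := ((c15_2 F290083 F287486 (iv7 F287499) (iv2 F289938))).symm
theorem F290084 : act 2 n185112 = n88234 := (sb E25902 (iv2 D185135))
theorem F290085 : act 7 n185112 = n88235 := (sb E25902 (iv7 F287499))
theorem F290087 : act 3 n185411 = n177871 := d0_4 F289837 F139744 (iv3 F287670) F287684 F277454
theorem F290088 : act 3 n122407 = n98859 := d6_3 F287686 F290087 (iv5 F290028)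
theorem F290089 : act 3 n100386 = n177745 := d0_0 F289829 (iv3 F289816) F72192 (iv3 F74917) (iv2 F154406)
theorem F290090 : act 7 n177856 = n100386 := d8_0 F290089 F289830 (iv3 F277435)
theorem F290091 : act 2 n97993 = n177856 := d4_3 F290090 F154406 (iv7 F151067)
theorem F290092 : act 1 n102699 = n177856 := d15_1 D102699 F290090 F154406
theorem F290093 : act 0 n185118 = n177866 := d20_1 D185118 (iv4 D177866) (iv3 F277435) (iv1 F290092) (iv3 F157955) (iv4 F135151) (iv1 F135152) (iv4 D41178) (iv3 F62380) D88230
theorem F290094 : act 1 n177856 = n102698 := d15_0 (iv0 D102698) (iv7 F151067) F290091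
theorem F290095 : act 5 n171170 = n182202 := d17_1 D171170 (iv1 D182202) F133506 F74687 D47536 D102471 F289826 F126277 D82033
theorem F290096 : act 0 n182204 = n98395 := d18_2 (iv1 D182202) D182204 (iv4 D98395) (iv5 D46029) F34494 D37594 D82038 F268923 F290095
theorem F290097 : act 5 n171245 = n102457 := d21_0 (iv1 D102457) D102458 F157409 (iv1 F289824) F58464 (iv5 D18036) D18034 D37600 D82055 D171245
theorem F290098 : act 1 n94804 = n170767 := d17_6 (iv1 F126455) D98419 (iv1 F289820) F289821 (iv4 F289818) (iv5 F146138) (iv5 D170767) (iv0 D81871) (iv4 F58463)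
theorem F290099 : act 3 n177883 = n98008 := d7_3 (iv6 D98008) F289816 D177883
theorem F290100 : act 7 n177862 = n101404 := d13_2 F289811 D177862 (iv5 D101404)
theorem F290101 : act 2 n101236 = n177862 := d4_3 F290100 F156244 (iv7 F155960)
theorem F290102 : act 1 n101407 = n177862 := d15_1 D101407 F290100 F156244
theorem F290103 : act 5 n101407 = n98082 := d21_2 D177862 (iv1 F290102) (iv6 D98082) (iv1 D45802) (iv6 D21900) (iv5 F16637) D17986 (iv5 F34899) D46640 F289809
theorem F290104 : act 4 n98082 = n185124 := d17_4 F289809 D177862 (iv1 F290102) F290103 (iv5 D185124) F157180 (iv5 D102375) F289632 (iv4 F73695)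
theorem F290105 : act 1 n98082 = n171174 := d17_8 (iv1 F277394) D98443 (iv1 F277446) (iv5 D84686) (iv4 F289771) D47197 D101407 F290103 F268920
theorem F290106 : act 0 n177866 = n185123 := d18_2 (iv1 D177865) D177866 (iv4 D185123) D185124 (iv4 F290104) F290105 F268920 D171182 F277451
theorem F290107 : act 6 n185124 = n88899 := d10_2 D98082 F290104 (iv4 F145033)
theorem F290108 : act 2 n170772 = n185124 := d3_3 F290107 F270461 D170772
theorem F290109 : act 5 n185121 = n170772 := d2_0 F290108 (iv5 D185124) (iv2 F287491)
theorem F290110 : act 7 n170772 = n185119 := d13_2 D185121 F290109 (iv5 D185119)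
theorem E25903 : n185121 = n102377 := ((c21_2 D47502 D102377 F290109 (iv6 D170772) (iv1 D81872) (iv6 D37484) (iv5 D17996) (iv1 F29153) (iv5 F34906) D46641 (iv1 F289618))).symm
theorem F290111 : act 2 n102377 = n88231 := (sb E25903 F287491)
theorem F290112 : act 5 n102377 = n170772 := (sb E25903 F290109)
theorem F290113 : act 7 n102377 = n88230 := (sb E25903 (iv7 D185121))
theorem E25904 : n185116 = n102378 := (c15_4 F157186 F157185 F290113 D185116)
theorem F290114 : act 2 n102378 = n88230 := (sb E25904 (iv2 D185116))
theorem F290115 : act 7 n102378 = n88231 := (sb E25904 (iv7 F287490))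
theorem F290116 : act 3 n177862 = n101375 := d0_2 (iv3 F155959) F290101 F156171 F74468 (iv2 F74402)
theorem F290117 : act 1 n177862 = n101406 := d15_0 (iv0 D101406) (iv7 F155960) F290101
theorem F290118 : act 3 n177863 = n101376 := d7_3 (iv6 D101376) F289810 D177863
theorem F290119 : act 2 n91379 = n177863 := d0_5 F290118 F156172 F74469 F67004 D91379
theorem F290120 : act 0 n177863 = n101995 := d20_10 F157207 (iv1 D102392) F74702 (iv3 D22859) D22857 D47557 (iv4 F135512) (iv1 F142986) (iv4 F156173) (iv3 F290118)
theorem F290121 : act 0 n177889 = n185104 := d18_2 D84688 D177889 (iv4 D185104) (iv5 D88226) (iv4 F74682) F289808 (iv4 D84680) (iv0 D39115) D39117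
theorem F290122 : act 7 n177882 = n102664 := d11_2 F289797 D177882 (iv4 D102664)
theorem F290123 : act 2 n177866 = n102664 := d1_3 (iv4 D102664) F289796 D177866
theorem F290124 : act 2 n177867 = n102665 := d3_3 (iv6 D102665) F289796 D177867
theorem F290125 : act 1 n185118 = n177882 := d15_1 (iv0 F290093) F290122 (iv2 F290123)
theorem F290126 : act 7 n149109 = n185323 := d11_2 F289794 D149109 (iv4 D185323)
theorem F290127 : act 7 n149150 = n185324 := d14_4 F289794 F106389 D69989 D149150 (iv6 D185324)
theorem F290128 : act 3 n185324 = n177899 := d8_1 F290127 F277469 (iv3 F234526)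
theorem F290129 : act 6 n102080 = n99638 := d7_2 F289783 D102080 (iv3 F153391)
theorem F290130 : act 2 n183016 = n102089 := d2_1 F289779 (iv5 D102089) (iv2 F157013)
theorem F290131 : act 3 n183016 = n185476 := d6_1 F289779 (iv5 D185476) (iv3 F157014)
theorem F290132 : act 0 n89166 = n102074 := d17_2 D41653 D89166 (iv5 D102074) (iv4 F157015) F289779 (iv0 D183016) (iv5 D87373) (iv0 D40609) (iv4 F31386)
theorem E25905 : n99745 = n22281 := (c21_6 D89166 F290132 (iv5 D102074) (iv6 D47408) (iv1 F73582) D99745 (iv5 F52906) F52908 (iv5 D19613) D19614 D41653)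
theorem E25906 : n47400 = n10723 := (((F44840).symm.trans (sb E25905 (iv2 F156165)))).symm
theorem E25907 : n46593 = n46486 := (((D46486).symm.trans (sb E25905 (iv6 D99745)))).symm
theorem E25910 : n102048 = n22633 := (((D22633).symm.trans (sb E25906 (iv3 F156998)))).symm
theorem E25911 : n102051 = n22280 := ((((iv4 F34759)).symm.trans (sb E25906 (iv4 F157002)))).symm
theorem E25913 : n22771 = n22634 := (((D22634).symm.trans (sb E25906 (iv6 D47400)))).symm
theorem E25915 : n99418 = n22323 := ((D99418).symm.trans (sb E25907 (iv1 D46593)))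
theorem E25916 : n99419 = n22773 := ((D99419).symm.trans (sb E25907 F73582))
theorem E25917 : n99743 = n41067 := (((F73435).symm.trans (sb E25907 D99743))).symm
theorem E25918 : n97969 = n22638 := (((F73436).symm.trans (sb E25907 F150996))).symm
theorem E25919 : n99744 = n99420 := (((D99420).symm.trans (sb E25907 D99744))).symm
theorem E25920 : n99421 = n22772 := ((D99421).symm.trans (sb E25907 F156143))
theorem E25921 : n47397 = n47059 := (((D47059).symm.trans (sb E25910 (iv6 D102048)))).symm
theorem E25922 : n47398 = n46485 := (((D46485).symm.trans (sb E25911 (iv6 D102051)))).symm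
theorem E25923 : n47060 = n46594 := ((D47060).symm.trans (sb E25913 (iv1 F73581)))
theorem E25924 : n47061 = n10764 := ((D47061).symm.trans (sb E25913 (iv0 D22771)))
theorem E25925 : n47399 = n47062 := (((D47062).symm.trans (sb E25913 D47399))).symm
theorem E25926 : n47063 = n46592 := ((D47063).symm.trans (sb E25913 F156141))
theorem F290133 : act 1 n22323 = n46486 := (sb E25915 (iv0 D99418))
theorem F290134 : act 0 n22773 = n46486 := (sb E25916 (iv1 D99419))
theorem E25927 : n87957 = n47185 := ((D87957).symm.trans (sb E25917 (iv1 F153547)))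
theorem E25928 : n87958 = n47146 := ((D87958).symm.trans (sb E25917 (iv0 F153546)))
theorem E25929 : n47184 = n47126 := ((((iv2 F74369)).symm.trans (sb E25917 F156144))).symm
theorem E25930 : n87960 = n47183 := ((D87960).symm.trans (sb E25917 F156145))
theorem E25931 : n47068 = n45728 := ((D47068).symm.trans (sb E25918 (iv1 D97969)))
theorem E25932 : n47483 = n47069 := (((D47069).symm.trans (sb E25918 F151002))).symm
theorem E25933 : n87700 = n47066 := ((((iv3 F74319)).symm.trans (sb E25918 F150997))).symm
theorem E25934 : n47403 = n47071 := (((D47071).symm.trans (sb E25918 (iv7 F156155)))).symm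
theorem F290135 : act 7 n99420 = n47404 := (sb E25919 (iv7 F156156))
theorem E25935 : n47405 = n47071 := ((D47405).symm.trans (sb E25920 F153137))
theorem F290136 : act 7 n22772 = n46486 := (sb E25920 (iv7 D99421))
theorem E25936 : n100994 = n99576 := ((D100994).symm.trans (sb E25921 F153324))
theorem E25937 : n100995 = n99654 := ((D100995).symm.trans (sb E25921 F153478))
theorem E25938 : n99652 = n99541 := ((((iv2 F153292)).symm.trans (sb E25921 F156137))).symm
theorem E25939 : n92704 = n92676 := ((((iv4 F142813)).symm.trans (sb E25921 F142884))).symm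
theorem E25941 : n100997 = n99653 := ((D100997).symm.trans (sb E25921 (iv7 F156139)))
theorem E25942 : n99414 = n97970 := ((D99414).symm.trans (sb E25922 (iv1 F151001)))
theorem E25943 : n99415 = n22807 := ((D99415).symm.trans (sb E25922 F134640))
theorem E25944 : n102049 = n99413 := ((((iv3 F153121)).symm.trans (sb E25922 D102049))).symm
theorem E25946 : n99417 = n97968 := ((D99417).symm.trans (sb E25922 (iv7 F156161)))
theorem F290137 : act 1 n46594 = n22634 := (sb E25923 (iv0 D47060))
theorem F290138 : act 0 n10764 = n22634 := (sb E25924 (iv1 D47061))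
theorem E25957 : n102052 = n101008 := (((D101008).symm.trans (sb E25925 D102052))).symm
theorem E25961 : n101011 = n99740 := ((D101011).symm.trans (sb E25925 (iv7 F156166)))
theorem E25962 : n99741 = n97968 := ((D99741).symm.trans (sb E25926 (tr (iv6 F153127) E25946)))
theorem F290139 : act 7 n46592 = n22634 := (sb E25926 (iv7 D47063))
theorem E25963 : n101240 = n101189 := (((iv1 F155973)).symm.trans (sb E25927 (iv1 F155898)))
theorem F290140 : act 1 n47185 = n41067 := (sb E25927 (iv0 D87957))
theorem F290141 : act 0 n47146 = n41067 := (sb E25928 (iv1 D87958))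
theorem E25974 : n101186 = n22699 := ((D101186).symm.trans (sb E25929 (iv1 D47184)))
theorem E25975 : n101241 = n101187 := (((D101187).symm.trans (sb E25929 F155974))).symm
theorem E25976 : n101372 = n90268 := ((((iv4 F138848)).symm.trans (sb E25929 D101372))).symm
theorem E25977 : n101373 = n101188 := (((D101188).symm.trans (sb E25929 D101373))).symm
theorem E25979 : n184430 = n101368 := (((D101368).symm.trans (sb E25930 (iv4 F286349)))).symm
theorem E25980 : n184444 = n101369 := (((D101369).symm.trans (sb E25930 (iv5 F286352)))).symm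
theorem E25981 : n101370 = n101017 := ((D101370).symm.trans (sb E25930 (iv6 F155631)))
theorem F290142 : act 7 n47183 = n41067 := (sb E25930 (iv7 D87960))
theorem F290143 : act 1 n45728 = n22638 := (sb E25931 (iv0 D47068))
theorem E25982 : n101022 = n97970 := (((D97970).symm.trans (sb E25931 D101022))).symm
theorem E25987 : n101027 = n22807 := (((F72134).symm.trans (sb E25931 D101027))).symm
theorem E25988 : n101028 = n97978 := ((D101028).symm.trans (sb E25932 (iv3 F151018)))
theorem E25989 : n101029 = n99948 := ((D101029).symm.trans (sb E25932 (iv4 F153883)))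
theorem E25990 : n102319 = n101030 := (((D101030).symm.trans (sb E25932 D102319))).symm
theorem E25991 : n102320 = n101031 := (((D101031).symm.trans (sb E25932 D102320))).symm
theorem E25992 : n101014 = n41161 := ((D101014).symm.trans (sb E25933 (iv1 F134607)))
theorem E25993 : n101015 = n40853 := ((D101015).symm.trans (sb E25933 (iv0 D87700)))
theorem E25994 : n41160 = n41070 := (((F74318).symm.trans (sb E25933 F156157))).symm
theorem E25995 : n183844 = n101012 := ((((iv4 F155621)).symm.trans (sb E25933 D183844))).symm
theorem E25996 : n183845 = n101016 := (((D101016).symm.trans (sb E25933 D183845))).symm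
theorem E25998 : n101017 = n41159 := ((D101017).symm.trans (sb E25933 F156158))
theorem F290144 : act 4 n47071 = n22772 := (sb E25934 (iv4 D47403))
theorem E25999 : n102060 = n101035 := ((((iv5 F155638)).symm.trans (sb E25934 D102060))).symm
theorem F290145 : act 6 n47071 = n102061 := (sb E25934 D102061)
theorem E26002 : n101370 = n41159 := (E25981).trans E25998
theorem E26003 : n102061 = n22772 := (((F290144).symm.trans (sb E25935 (iv4 F157007)))).symm
theorem F290146 : act 1 n99576 = n47059 := (sb E25936 (iv0 D100994))
theorem F290147 : act 0 n99654 = n47059 := (sb E25937 (iv1 D100995))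
theorem F290148 : act 0 n99541 = n90526 := (sb E25938 (iv1 F153400))
theorem F290149 : act 1 n99541 = n46570 := (sb E25938 (iv0 D99652))
theorem E26006 : n47569 = n46821 := (((F153294).symm.trans (sb E25938 (iv4 F153401)))).symm
theorem F290150 : act 0 n92676 = n43363 := (sb E25939 (iv1 D92704))
theorem F290151 : act 1 n92676 = n47571 := (sb E25939 (iv0 F142885))
theorem E26007 : n90431 = n46822 := (((F142812).symm.trans (sb E25939 F153479))).symm
theorem F290152 : act 7 n92676 = n47570 := (sb E25939 F156146)
theorem F290153 : act 7 n99653 = n47059 := (sb E25941 (iv7 D100997))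
theorem F290154 : act 0 n97970 = n47071 := (sb E25942 (iv1 F153128))
theorem F290155 : act 1 n97970 = n46485 := (sb E25942 (iv0 D99414))
theorem F290156 : act 0 n22807 = n46485 := (sb E25943 (iv1 D99415))
theorem F290157 : act 1 n22807 = n47071 := (sb E25943 F153123)
theorem F290158 : act 0 n99413 = n87673 := (sb E25944 F157001)
theorem F290159 : act 1 n99413 = n185767 := (sb E25944 (iv0 F288071))
theorem E26008 : n88191 = n87961 := (((F153120).symm.trans (sb E25944 F156999))).symm
theorem F290160 : act 0 n97968 = n47069 := (sb E25946 (iv1 F153129))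
theorem F290161 : act 2 n97968 = n47071 := (sb E25946 F153125)
theorem F290162 : act 7 n97968 = n46485 := (sb E25946 (iv7 D99417))
theorem F290163 : act 0 n101008 = n47404 := (sb E25957 (iv1 F157003))
theorem F290165 : act 7 n99740 = n47062 := (sb E25961 (iv7 D101011))
theorem F290166 : act 6 n97968 = n46592 := (sb E25962 (iv6 D99741))
theorem F290167 : act 0 n101189 = n47146 := (sb E25963 (iv1 D101240))
theorem F290168 : act 1 n101189 = n47185 := (sb E25963 F155973)
theorem F290169 : act 2 n101189 = n47183 := (sb E25963 F156153)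
theorem F290170 : act 4 n101189 = n185850 := (sb E25963 (iv4 F288272))
theorem F290171 : act 1 n22699 = n47126 := (sb E25974 (iv0 D101186))
theorem F290172 : act 1 n101187 = n47183 := (sb E25975 F155972)
theorem F290173 : act 2 n101187 = n47146 := (sb E25975 (iv2 D101241))
theorem F290174 : act 3 n101187 = n47196 := (sb E25975 F155969)
theorem F290175 : act 4 n101187 = n88513 := (sb E25975 F155970)
theorem F290176 : act 7 n101187 = n47185 := (sb E25975 F155971)
theorem F290177 : act 1 n90268 = n185865 := (sb E25976 (iv0 F288308))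
theorem E26009 : n88470 = n42199 := (((F138847).symm.trans (sb E25976 F156169))).symm
theorem F290178 : act 7 n90268 = n185850 := (sb E25976 (iv7 F288271))
theorem F290179 : act 0 n101188 = n47201 := (sb E25977 F156170)
theorem F290180 : act 7 n101368 = n87956 := (sb E25979 (iv7 D184430))
theorem F290181 : act 7 n101369 = n87959 := (sb E25980 (iv7 D184444))
theorem E26010 : n88189 = n47183 := ((D88189).symm.trans (sb E26002 (iv6 D101370)))
theorem F290182 : act 7 n97970 = n47069 := (sb E25982 (iv7 F155636))
theorem F290183 : act 2 n22807 = n47069 := (sb E25987 F155637)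
theorem F290184 : act 3 n97978 = n47069 := (sb E25988 (iv3 D101028))
theorem F290185 : act 4 n99948 = n47069 := (sb E25989 (iv4 D101029))
theorem F290186 : act 2 n101030 = n47485 := (sb E25990 F157139)
theorem F290187 : act 2 n101031 = n47486 := (sb E25991 F157140)
theorem E26011 : n87966 = n87701 := ((((iv1 F134611)).symm.trans (sb E25992 (iv1 F155632)))).symm
theorem F290188 : act 1 n41161 = n47066 := (sb E25992 (iv0 D101014))
theorem F290189 : act 0 n40853 = n47066 := (sb E25993 (iv1 D101015))
theorem E26012 : n87963 = n19359 := ((D87963).symm.trans (sb E25994 (iv1 D41160)))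
theorem E26013 : n87964 = n87702 := ((D87964).symm.trans (sb E25994 F134612))
theorem E26014 : n88192 = n87962 := ((((iv4 F134951)).symm.trans (sb E25994 D88192))).symm
theorem E26015 : n88193 = n87965 := (((D87965).symm.trans (sb E25994 D88193))).symm
theorem F290190 : act 0 n101012 = n92800 := (sb E25995 F285633)
theorem F290191 : act 1 n101012 = n92780 := (sb E25995 (iv0 F285634))
theorem F290192 : act 7 n101012 = n88187 := (sb E25995 F285632)
theorem F290193 : act 0 n101016 = n88247 := (sb E25996 (iv1 F285651))
theorem F290194 : act 1 n101016 = n87710 := (sb E25996 F285650)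
theorem F290195 : act 7 n101016 = n88188 := (sb E25996 F285636)
theorem F290196 : act 3 n41159 = n47071 := (sb E25998 F155630)
theorem F290197 : act 7 n41159 = n47066 := (sb E25998 (iv7 D101017))
theorem F290198 : act 3 n101035 = n88188 := (sb E25999 F157005)
theorem F290199 : act 6 n22772 = n47071 := (sb E26003 (iv6 F290145))
theorem E26017 : n100339 = n92705 := ((D100339).symm.trans (sb E26006 (iv1 F142889)))
theorem E26018 : n100340 = n22871 := ((D100340).symm.trans (sb E26006 (iv0 D47569)))
theorem E26019 : n102559 = n90269 := ((((iv3 F138849)).symm.trans (sb E26006 D102559))).symm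
theorem E26022 : n100342 = n92703 := ((D100342).symm.trans (sb E26006 F156149))
theorem E26023 : n100343 = n42289 := ((D100343).symm.trans (sb E26007 (iv1 D90431)))
theorem E26024 : n100344 = n92742 := ((D100344).symm.trans (sb E26007 F143008))
theorem E26025 : n92740 = n92675 := ((((iv2 F142808)).symm.trans (sb E26007 F156150))).symm
theorem E26026 : n100346 = n92741 := ((D100346).symm.trans (sb E26007 (iv7 F156147)))
theorem E26027 : n184445 = n92777 := ((D184445).symm.trans (sb E26008 F143100))
theorem E26028 : n184446 = n92781 := ((D184446).symm.trans (sb E26008 (iv0 F157375)))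
theorem E26031 : n184448 = n183753 := ((D184448).symm.trans (sb E26008 F285522))
theorem E26032 : n90272 = n41296 := ((D90272).symm.trans (sb E26009 (iv1 D88470)))
theorem E26033 : n90273 = n43392 := ((D90273).symm.trans (sb E26009 F135449))
theorem E26034 : n88518 = n43312 := ((((iv2 F67975)).symm.trans (sb E26009 (iv2 F285644)))).symm
theorem E26035 : n185751 = n90274 := (((D90274).symm.trans (sb E26009 D185751))).symm
theorem E26037 : n90275 = n88519 := ((D90275).symm.trans (sb E26009 (iv7 F285646)))
theorem E26040 : n183849 = n101189 := ((((iv2 F290169)).symm.trans (sb E26010 (iv2 F285654)))).symm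
theorem E26041 : n184999 = n101368 := (((D101368).symm.trans (sb E26010 (iv4 F287397)))).symm
theorem F290200 : act 6 n47183 = n41159 := (sb E26010 (iv6 D88189))
theorem E26044 : n184451 = n183847 := (((D183847).symm.trans (sb E26011 (iv4 F286356)))).symm
theorem E26045 : n184465 = n183848 := (((D183848).symm.trans (sb E26011 (iv5 F286359)))).symm
theorem F290201 : act 7 n87701 = n41070 := (sb E26011 (iv7 D87966))
theorem F290202 : act 1 n19359 = n41070 := (sb E26012 (iv0 D87963))
theorem F290203 : act 0 n87702 = n41070 := (sb E26013 (iv1 D87964))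
theorem E26056 : n184449 = n99926 := ((D184449).symm.trans (sb E26014 F157380))
theorem E26057 : n184450 = n99931 := ((D184450).symm.trans (sb E26014 (iv0 F153864)))
theorem E26060 : n184462 = n41185 := ((D184462).symm.trans (sb E26015 F183972))
theorem E26061 : n184463 = n183873 := ((D184463).symm.trans (sb E26015 F285695))
theorem F290204 : act 1 n92705 = n46821 := (sb E26017 (iv0 D100339))
theorem F290205 : act 0 n22871 = n46821 := (sb E26018 (iv1 D100340))
theorem F290206 : act 0 n90269 = n185741 := (sb E26019 F288018)
theorem F290207 : act 1 n90269 = n90419 := (sb E26019 (iv0 F157525))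
theorem E26068 : n185847 = n92572 := ((((iv2 F142603)).symm.trans (sb E26019 (iv2 F288261)))).symm
theorem F290208 : act 7 n90269 = n185851 := (sb E26019 (iv7 F288276))
theorem F290209 : act 7 n92703 = n46821 := (sb E26022 (iv7 D100342))
theorem F290210 : act 1 n42289 = n46822 := (sb E26023 (iv0 D100343))
theorem F290211 : act 0 n92742 = n46822 := (sb E26024 (iv1 D100344))
theorem F290212 : act 0 n92675 = n90432 := (sb E26025 (iv1 F143002))
theorem F290213 : act 1 n92675 = n43385 := (sb E26025 (iv0 D92740))
theorem F290214 : act 7 n92675 = n90430 := (sb E26025 (iv7 F156152))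
theorem F290215 : act 7 n92741 = n46822 := (sb E26026 (iv7 D100346))
theorem F290216 : act 1 n92777 = n87961 := (sb E26027 (iv0 D184445))
theorem F290217 : act 0 n92781 = n87961 := (sb E26028 (iv1 D184446))
theorem F290218 : act 7 n183753 = n87961 := (sb E26031 (iv7 D184448))
theorem E26069 : n92576 = n88469 := (((D88469).symm.trans (sb E26032 (iv1 F142611)))).symm
theorem F290219 : act 1 n41296 = n42199 := (sb E26032 (iv0 D90272))
theorem F290220 : act 0 n43392 = n42199 := (sb E26033 (iv1 D90273))
theorem E26070 : n92573 = n42316 := ((D92573).symm.trans (sb E26034 (iv1 F135546)))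
theorem E26071 : n92574 = n41322 := ((D92574).symm.trans (sb E26034 (iv0 D88518)))
theorem E26072 : n185848 = n92575 := (((D92575).symm.trans (sb E26034 D185848))).symm
theorem F290221 : act 7 n90274 = n185852 := (sb E26035 (iv7 F288280))
theorem E26074 : n185853 = n88469 := ((D185853).symm.trans (sb E26037 (tr (iv6 F142608) E26069)))
theorem F290222 : act 7 n88519 = n42199 := (sb E26037 (iv7 D90275))
theorem F290223 : act 6 n101189 = n87701 := (sb E26040 (iv6 D183849))
theorem F290224 : act 6 n101368 = n88187 := (sb E26041 (iv6 D184999))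
theorem F290225 : act 7 n183847 = n87962 := (sb E26044 (iv7 D184451))
theorem F290226 : act 7 n183848 = n87965 := (sb E26045 (iv7 D184465))
theorem F290227 : act 1 n99926 = n87962 := (sb E26056 (iv0 D184449))
theorem F290228 : act 0 n99931 = n87962 := (sb E26057 (iv1 D184450))
theorem F290229 : act 1 n41185 = n87965 := (sb E26060 (iv0 D184462))
theorem F290230 : act 0 n183873 = n87965 := (sb E26061 (iv1 D184463))
theorem F290231 : act 1 n92572 = n92699 := (sb E26068 (iv0 F288264))
theorem F290232 : act 7 n92572 = n185748 := (sb E26068 F288263)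
theorem F290233 : act 7 n88469 = n43312 := (sb E26069 (iv7 D92576))
theorem F290234 : act 1 n42316 = n43312 := (sb E26070 (iv0 D92573))
theorem F290235 : act 0 n41322 = n43312 := (sb E26071 (iv1 D92574))
theorem F290236 : act 7 n92575 = n185749 := (sb E26072 F288267)
theorem E26075 : n185750 = n88519 := (((F285645).symm.trans (sb E26074 F288281))).symm
theorem F290237 : act 6 n88519 = n88469 := (sb E26075 (iv6 D185750))
theorem F290238 : act 1 n89166 = n96142 := d15_1 (iv0 F290132) F147804 (iv2 F157019)
theorem F290239 : act 6 n183847 = n185850 := d7_2 F290237 (iv3 F285641) (iv3 D185850)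
theorem F290240 : act 6 n185748 = n185851 := d10_2 F290237 D185748 (iv4 D185851)
theorem F290241 : act 6 n92703 = n90430 := d7_2 F290240 F288278 (iv3 F288043)
theorem E26076 : n102563 = n92741 := ((c3_2 F290241 (iv2 F156151) (iv6 D102563) F156148)).symm
theorem F290242 : act 6 n92741 = n47570 := (sb E26076 (iv6 D102563))
theorem F290243 : act 0 n94133 = n93909 := d21_1 D94133 F144733 (iv6 D88521) F290235 (iv6 D43312) D43311 F77509 F32953 D20899 D44014
theorem E26077 : n114675 = n93863 := ((c21_7 (iv5 F32953) (iv1 F77510) (iv5 D43311) D43312 (iv1 F290234) D90457 (iv5 F144683) (iv1 D114675) F83645 (iv6 D44013) (iv1 F33054))).symm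
theorem F290244 : act 0 n93863 = n52929 := (sb E26077 (iv1 D114675))
theorem F290245 : act 5 n185855 = n94139 := d21_2 D90456 (iv1 F288283) (iv6 D94139) (iv1 D44015) (iv6 D20899) (iv5 F32953) (iv1 F77510) (iv5 D43311) D43312 (iv1 F290234)
theorem F290246 : act 5 n185858 = n93792 := d21_0 (iv1 F145101) F145098 F69261 (iv1 F69255) D94139 (iv5 F290245) (iv1 D185855) (iv5 D88520) D88521 D185858
theorem F290247 : act 7 n90284 = n185858 := d13_0 F290246 F155693 (iv5 F145094)
theorem F290248 : act 4 n114680 = n92506 := d20_8 (iv4 F138601) (iv1 F142443) F142445 D93863 F290244 F83644 (iv4 F83650) D114680 (iv3 D92506) (iv1 F67887)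
theorem E26078 : n120687 = n114079 := (c20_2 (iv4 F88000) D120687 (iv4 D114079) (iv3 D52653) (iv1 F76697) F76691 (iv4 F138601) (iv1 F142443) F142445 D93863 F290244)
theorem F290249 : act 0 n114079 = n131256 := (sb E26078 (iv1 F210339))
theorem F290250 : act 1 n114079 = n55629 := (sb E26078 (iv0 D120687))
theorem F290251 : act 2 n114079 = n157553 := (sb E26078 F248294)
theorem E26079 : n78941 = n76699 := ((F177589).symm.trans (sb E26078 F237543))
theorem F290252 : act 6 n114079 = n153740 := (sb E26078 (iv6 F241605))
theorem F290253 : act 7 n114079 = n157554 := (sb E26078 F248291)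
theorem E26082 : n164359 = n147304 := ((((iv2 F241201)).symm.trans (sb E26079 (iv2 F259015)))).symm
theorem F290254 : act 3 n76699 = n114079 := (sb E26079 (iv3 F177589))
theorem E26083 : n106312 = n35934 := ((F237537).symm.trans (sb E26079 (iv4 D78941)))
theorem E26086 : n147305 = n114162 := ((F241200).symm.trans (sb E26079 (iv7 F177908)))
theorem E26087 : n149525 = n78940 := (((iv4 F241206)).symm.trans (sb E26082 (iv4 D164359)))
theorem E26088 : n149527 = n78938 := (((D78938).symm.trans (sb E26083 (iv1 F235150)))).symm
theorem E26089 : n78939 = n49136 := ((D78939).symm.trans (sb E26083 (iv0 D106312)))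
theorem F290255 : act 4 n35934 = n76699 := (sb E26083 (iv4 F237537))
theorem F290257 : act 0 n114162 = n69062 := (sb E26086 (iv1 D147305))
theorem F290258 : act 1 n114162 = n76701 := (sb E26086 F230948)
theorem F290260 : act 3 n114162 = n157554 := (sb E26086 (iv3 F248290))
theorem F290261 : act 5 n114162 = n133306 := (sb E26086 (iv5 F230949))
theorem E26091 : n114160 = n106314 := (((iv1 F177906)).symm.trans (sb E26087 (iv1 F235148)))
theorem E26092 : n114159 = n70223 := ((F177902).symm.trans (sb E26087 (iv0 D149525)))
theorem F290263 : act 4 n78940 = n147304 := (sb E26087 F241206)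
theorem E26093 : n114161 = n106313 := (((iv7 F177904)).symm.trans (sb E26087 (iv7 F241205)))
theorem E26094 : n164349 = n106314 := ((D164349).symm.trans (sb E26088 F235143))
theorem E26095 : n164350 = n148887 := ((D164350).symm.trans (sb E26088 F235144))
theorem E26096 : n164351 = n70226 := ((D164351).symm.trans (sb E26088 F235145))
theorem E26097 : n164352 = n106314 := ((D164352).symm.trans (sb E26088 F235146))
theorem E26098 : n164353 = n106310 := ((D164353).symm.trans (sb E26088 F235147))
theorem E26099 : n164354 = n70223 := ((D164354).symm.trans (sb E26088 (iv7 D149527)))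
theorem F290264 : act 0 n49136 = n35934 := (sb E26089 (iv1 D78939))
theorem F290265 : act 0 n106314 = n52697 := (sb E26091 (iv1 D114160))
theorem F290266 : act 1 n106314 = n78940 := (sb E26091 F177906)
theorem F290267 : act 0 n70223 = n78940 := (sb E26092 (iv1 F177902))
theorem F290268 : act 1 n70223 = n52697 := (sb E26092 (iv0 D114159))
theorem F290271 : act 3 n106313 = n78956 := (sb E26093 F177903)
theorem F290273 : act 2 n106314 = n78938 := (sb E26094 (iv2 D164349))
theorem F290274 : act 3 n148887 = n78938 := (sb E26095 (iv3 D164350))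
theorem F290275 : act 4 n70226 = n78938 := (sb E26096 (iv4 D164351))
theorem F290276 : act 5 n106314 = n78938 := (sb E26097 (iv5 D164352))
theorem F290277 : act 6 n106310 = n78938 := (sb E26098 (iv6 D164353))
theorem F290278 : act 7 n70223 = n78938 := (sb E26099 (iv7 D164354))
theorem E26104 : n114674 = n93848 := ((c15_4 (iv0 D114674) (iv0 F290244) (iv7 F145315) F145314)).symm
theorem F290279 : act 1 n93848 = n52929 := (sb E26104 (iv0 D114674))
theorem F290281 : act 4 n148785 = n114681 := d20_0 (iv1 D114681) F83650 (iv3 F83644) (iv1 F290279) (iv3 D93848) (iv4 F135596) (iv1 F138827) F138824 (iv3 F138809) (iv1 F233593)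
theorem F290282 : act 0 n94031 = n90284 := d21_10 F145094 (iv1 D94141) (iv5 D44016) (iv6 D20899) D20898 D44013 (iv5 F83645) (iv1 F290279) F144671 (iv6 F144865)
theorem F290283 : act 1 n92757 = n90284 := d15_0 (iv0 F290282) F144866 (iv2 F143046)
theorem F290284 : act 4 n133622 = n114163 := d17_4 (iv1 F230955) F230951 (iv1 F109056) D133622 (iv5 D114163) (iv0 F290265) F290276 (iv0 D78938) F290255
theorem F290285 : act 6 n114163 = n106288 := d10_2 F230956 F290284 F251374
theorem E26105 : n164368 = n153468 := (c11_4 F241071 F290284 F177910 D164368)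
theorem F290286 : act 4 n153468 = n78942 := (sb E26105 (iv4 D164368))
theorem F290287 : act 4 n164360 = n133617 := d1_2 F290286 (iv2 F259016) (iv2 F241070)
theorem E26106 : n164369 = n149291 := (c10_3 (iv6 F241926) F290286 D164369 F261792)
theorem F290288 : act 3 n149291 = n78948 := (sb E26106 F259019)
theorem F290289 : act 6 n149291 = n78942 := (sb E26106 (iv6 D164369))
theorem F290290 : act 5 n164366 = n164367 := d17_1 D164366 (iv1 D164367) (iv5 D78942) F290255 (iv5 F239177) (iv0 D152128) (iv5 F188864) (iv0 F241072) F290286
theorem F290291 : act 6 n164367 = n146293 := d21_3 D78942 D164366 F290290 F229623 (iv6 D114017) (iv5 D52623) (iv1 F40370) (iv5 F54179) D49136 F290264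
theorem F290292 : act 4 n146294 = n164367 := d10_3 F290291 (iv4 D146293) D146294
theorem F290293 : act 3 n106288 = n106127 := d7_1 F290285 F163140 (iv3 F177909)
theorem F290294 : act 3 n159443 = n159587 := d8_3 (iv7 F251375) F290293 (iv7 F251074)
theorem F290295 : act 4 n149523 = n114831 := d20_2 (iv4 F290275) (iv1 F235136) (iv3 D114831) (iv1 D52986) F40636 F20211 D25556 (iv4 F83209) D35934 D78938
theorem F290296 : act 0 n114831 = n147303 := d20_1 F290295 F230946 (iv3 F184010) F243764 (iv3 D76691) D76692 F214978 F106689 (iv3 F106686) (iv1 F235136)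
theorem F290297 : act 1 n114831 = n160135 := d15_1 (iv0 F290296) (iv7 D160135) (iv2 F230944)
theorem F290298 : act 0 n149541 = n114852 := d20_7 F20211 D25556 (iv4 F83209) D35934 D78938 (iv3 F290274) (iv4 F235156) (iv4 D114852) (iv3 D52995) (iv1 D25722)
theorem E26107 : n159777 = n52932 := (c20_9 (iv4 D118006) (iv1 F85794) (iv4 F106689) (iv3 F235155) F290298 F178916 (iv4 D76459) D76456 D159777 (iv3 F85814) (iv1 F210388))
theorem E26108 : n76456 = n25698 := (((F83650).symm.trans (sb E26107 (iv4 D159777)))).symm
theorem E26109 : n159512 = n52933 := (((D52933).symm.trans (sb E26108 (iv1 F251220)))).symm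
theorem E26110 : n52934 = n34928 := ((D52934).symm.trans (sb E26108 (iv0 D76456)))
theorem E26112 : n159776 = n52929 := ((((iv3 F83644)).symm.trans (sb E26108 D159776))).symm
theorem E26113 : n159778 = n52935 := (((D52935).symm.trans (sb E26108 D159778))).symm
theorem E26116 : n114656 = n76457 := (((iv1 F178760)).symm.trans (sb E26109 (iv1 F251222)))
theorem E26117 : n114684 = n76309 := ((D114684).symm.trans (sb E26109 (iv2 D159512)))
theorem E26118 : n114685 = n76435 := ((D114685).symm.trans (sb E26109 F251218))
theorem E26119 : n114720 = n114686 := (((D114686).symm.trans (sb E26109 (iv4 F251223)))).symm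
theorem E26120 : n114689 = n76458 := ((D114689).symm.trans (sb E26109 F251219))
theorem F290299 : act 0 n34928 = n25698 := (sb E26110 (iv1 D52934))
theorem E26123 : n114692 = n76460 := (((D76460).symm.trans (sb E26110 D114692))).symm
theorem E26125 : n92469 = n44013 := (((F83645).symm.trans (sb E26112 F251801))).symm
theorem E26126 : n114694 = n98308 := ((D114694).symm.trans (sb E26113 F251797))
theorem E26127 : n114695 = n76476 := ((D114695).symm.trans (sb E26113 F251798))
theorem E26128 : n89231 = n89198 := ((((iv4 F136904)).symm.trans (sb E26113 F251799))).symm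
theorem F290300 : act 1 n76457 = n52933 := (sb E26116 F178760)
theorem F290301 : act 2 n76457 = n52936 := (sb E26116 F178756)
theorem E26129 : n159784 = n52945 := ((D159784).symm.trans (sb E26116 F178757))
theorem F290302 : act 7 n76457 = n52920 := (sb E26116 (iv7 D114656))
theorem F290303 : act 2 n76309 = n52933 := (sb E26117 (iv2 D114684))
theorem F290304 : act 3 n76435 = n52933 := (sb E26118 (iv3 D114685))
theorem F290305 : act 0 n114686 = n159788 := (sb E26119 (iv1 F251791))
theorem F290306 : act 1 n114686 = n52947 := (sb E26119 (iv0 D114720))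
theorem F290307 : act 2 n114686 = n159513 := (sb E26119 (iv2 F251224))
theorem F290308 : act 7 n114686 = n159785 := (sb E26119 (iv7 F251785))
theorem F290309 : act 7 n76458 = n52933 := (sb E26120 (iv7 D114689))
theorem E26130 : n184428 = n90556 := ((((iv6 F139379)).symm.trans (sb E26123 (iv6 F286348)))).symm
theorem E26131 : n94127 = n43250 := ((D94127).symm.trans (sb E26125 (iv1 D92469)))
theorem E26132 : n94128 = n43287 := ((D94128).symm.trans (sb E26125 F142282))
theorem F290310 : act 1 n98308 = n52935 := (sb E26126 (iv0 D114694))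
theorem F290311 : act 0 n76476 = n52935 := (sb E26127 (iv1 D114695))
theorem E26133 : n114631 = n114491 := (((F178548).symm.trans (sb E26127 (iv5 F178802)))).symm
theorem F290312 : act 0 n89198 = n41692 := (sb E26128 (iv1 D89231))
theorem E26134 : n186494 = n186446 := ((((iv3 F289254)).symm.trans (sb E26128 F289373))).symm
theorem F290313 : act 6 n52945 = n76457 := (sb E26129 (iv6 D159784))
theorem F290314 : act 1 n90556 = n87956 := (sb E26130 (iv0 D184428))
theorem E26135 : n93778 = n92468 := (((D92468).symm.trans (sb E26131 (iv1 F145085)))).symm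
theorem F290315 : act 1 n43250 = n44013 := (sb E26131 (iv0 D94127))
theorem F290316 : act 0 n43287 = n44013 := (sb E26132 (iv1 D94128))
theorem E26136 : n52910 = n52845 := ((((iv6 D114491)).symm.trans (sb E26133 (iv6 D114631)))).symm
theorem F290317 : act 0 n186446 = n94232 := (sb E26134 (iv1 F289371))
theorem F290318 : act 1 n186446 = n88826 := (sb E26134 (iv0 D186494))
theorem E26137 : n89552 = n89013 := (((F289255).symm.trans (sb E26134 (iv4 F289372)))).symm
theorem F290319 : act 2 n92468 = n94129 := (sb E26135 (iv2 F145083))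
theorem F290320 : act 6 n92468 = n94129 := (sb E26135 (iv6 F145084))
theorem F290321 : act 7 n92468 = n43836 := (sb E26135 (iv7 D93778))
theorem E26138 : n114590 = n114486 := (((D114486).symm.trans (sb E26136 (iv1 F178673)))).symm
theorem E26139 : n114487 = n25686 := ((D114487).symm.trans (sb E26136 (iv0 D52910)))
theorem E26142 : n114629 = n114489 := (((D114489).symm.trans (sb E26136 D114629))).symm
theorem F290322 : act 0 n89013 = n92450 := (sb E26137 (iv1 F142231))
theorem F290323 : act 1 n89013 = n41818 := (sb E26137 (iv0 D89552))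
theorem E26145 : n157724 = n52911 := (((iv1 F248575)).symm.trans (sb E26138 (iv1 F178672)))
theorem F290324 : act 2 n114486 = n52913 := (sb E26138 F178670)
theorem F290325 : act 3 n114486 = n149727 := (sb E26138 (iv3 F235475))
theorem F290328 : act 7 n114486 = n52894 := (sb E26138 F178671)
theorem F290329 : act 0 n25686 = n52845 := (sb E26139 (iv1 D114487))
theorem E26146 : n160247 = n114393 := (((F178544).symm.trans (sb E26142 (iv3 F253064)))).symm
theorem F290330 : act 1 n52911 = n114486 := (sb E26145 F248575)
theorem F290331 : act 2 n52911 = n75150 := (sb E26145 (iv2 D157724))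
theorem E26147 : n114633 = n105420 := ((D114633).symm.trans (sb E26145 F248573))
theorem F290333 : act 1 n114393 = n76788 := (sb E26146 (iv0 D160247))
theorem F290334 : act 3 n105420 = n52911 := (sb E26147 (iv3 D114633))
theorem F290336 : act 1 n114727 = n114852 := d15_0 (iv0 F290298) (iv7 D149541) (iv2 F178830)
theorem E26148 : n106289 = n105392 := ((c20_4 F76741 (iv1 F46018) (iv4 F161722) D105392 (iv1 D106289) (iv3 F114250) (iv4 F115254) (iv1 F290333) (iv4 D114393) (iv3 D52790) (iv1 F76745))).symm
theorem F290338 : act 0 n105392 = n49124 := (sb E26148 (iv1 D106289))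
theorem F290339 : act 1 n105392 = n159588 := (sb E26148 F251369)
theorem F290341 : act 4 n105392 = n147308 := (sb E26148 (iv4 F234709))
theorem F290342 : act 6 n105392 = n149292 := (sb E26148 (iv6 F241932))
theorem E26149 : n159586 = n52719 := (((F178227).symm.trans (sb E26148 (iv7 F251371)))).symm
theorem E26151 : n114218 = n76349 := ((D114218).symm.trans (sb E26149 (iv0 D159586)))
theorem E26152 : n114219 = n106288 := ((D114219).symm.trans (sb E26149 F251373))
theorem E26153 : n118033 = n114220 := (((D114220).symm.trans (sb E26149 (iv4 F251370)))).symm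
theorem F290344 : act 0 n76349 = n52719 := (sb E26151 (iv1 D114218))
theorem F290345 : act 2 n106288 = n52719 := (sb E26152 (iv2 D114219))
theorem F290347 : act 1 n114220 = n54371 := (sb E26153 (iv0 D118033))
theorem E26154 : n127772 = n70329 := (((iv3 F205402)).symm.trans (sb E26153 F235026))
theorem F290349 : act 6 n114220 = n153470 := (sb E26153 F241082)
theorem F290351 : act 3 n70329 = n114220 := (sb E26154 F205402)
theorem E26155 : n106297 = n60000 := ((F235025).symm.trans (sb E26154 (iv4 D127772)))
theorem E26156 : n124850 = n114317 := ((F235460).symm.trans (sb E26154 F205403))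
theorem E26157 : n149429 = n127769 := (((D127769).symm.trans (sb E26155 (iv1 F235024)))).symm
theorem E26158 : n127770 = n49129 := ((D127770).symm.trans (sb E26155 (iv0 D106297)))
theorem E26159 : n149426 = n127771 := (((D127771).symm.trans (sb E26155 F235465))).symm
theorem F290352 : act 4 n60000 = n70329 := (sb E26155 (iv4 F235025))
theorem E26160 : n149427 = n52757 := (((F178220).symm.trans (sb E26155 (iv7 F235462)))).symm
theorem F290353 : act 0 n114317 = n70327 := (sb E26156 F200530)
theorem F290354 : act 1 n114317 = n70332 := (sb E26156 F200531)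
theorem F290355 : act 2 n114317 = n70330 := (sb E26156 F200528)
theorem F290356 : act 3 n114317 = n147308 := (sb E26156 (iv3 F230959))
theorem F290358 : act 6 n114317 = n72906 := (sb E26156 F200529)
theorem E26161 : n114316 = n106298 := (((iv1 F205396)).symm.trans (sb E26157 (iv1 F235023)))
theorem F290361 : act 3 n127769 = n105911 := (sb E26157 F235019)
theorem F290362 : act 4 n127769 = n70169 := (sb E26157 F235020)
theorem F290365 : act 0 n49129 = n60000 := (sb E26158 (iv1 D127770))
theorem E26162 : n114315 = n106300 := (((iv1 F205401)).symm.trans (sb E26159 (iv1 F235022)))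
theorem E26163 : n114314 = n70166 := ((F205399).symm.trans (sb E26159 (iv0 D149426)))
theorem F290366 : act 4 n127771 = n149723 := (sb E26159 F235469)
theorem E26164 : n154037 = n114319 := (((D114319).symm.trans (sb E26160 (iv6 F242063)))).symm
theorem F290368 : act 2 n106298 = n52757 := (sb E26161 (iv2 D114316))
theorem F290369 : act 3 n106298 = n106133 := (sb E26161 F178200)
theorem F290370 : act 7 n106298 = n127771 := (sb E26161 (iv7 F205398))
theorem F290371 : act 0 n106300 = n52757 := (sb E26162 (iv1 D114315))
theorem F290372 : act 1 n106300 = n127771 := (sb E26162 F205401)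
theorem F290373 : act 0 n70166 = n127771 := (sb E26163 (iv1 F205399))
theorem F290374 : act 1 n70166 = n52757 := (sb E26163 (iv0 D114314))
theorem F290375 : act 4 n114319 = n72906 := (sb E26164 (iv4 D154037))
theorem F290376 : act 3 n149292 = n105394 := d5_3 F290375 (iv3 F241930) F241931 F161725 (iv3 F178202)
theorem E26165 : n157716 = n149436 := ((c20_8 F40548 (iv1 F76716) F161722 D52757 (iv1 F290374) F106616 (iv4 F106620) D149436 (iv4 D157716) (iv3 D75145) (iv1 F54602))).symm
theorem F290377 : act 4 n149436 = n75145 := (sb E26165 (iv4 D157716))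
theorem F290379 : act 3 n149431 = n90265 := d20_3 F106617 D70167 D149431 (iv1 F178477) F83489 F40548 (iv1 F76716) F161722 D52757 (iv1 F290374)
theorem F290380 : act 6 n90262 = n149431 := d7_0 F290379 (iv6 D90265) (iv3 F138828)
theorem F290381 : act 7 n114468 = n149431 := d8_0 F290379 (iv7 F138834) D114468
theorem F290382 : act 4 n149418 = n114468 := d11_3 F290381 (iv4 D149431) (iv7 F234975)
theorem F290384 : act 0 n114468 = n149722 := d20_1 F290382 F235452 F106791 (iv1 F186195) (iv3 D70316) D70317 F234923 F106621 (iv3 F106618) (iv1 F234974)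
theorem F290385 : act 3 n89558 = n159378 := d20_3 (iv4 F83485) D114462 (iv4 F178519) (iv1 F250933) (iv3 F290361) F290362 (iv1 F234974) F290382 (iv3 D114468) (iv1 D52835)
theorem F290386 : act 2 n159378 = n152271 := d0_1 F290385 (iv3 D152271) F239335 D71926 (iv2 F137289)
theorem F290387 : act 6 n159378 = n89555 := d7_2 D89558 F290385 F137286
theorem F290388 : act 0 n149439 = n114499 := d20_1 (iv4 F235034) (iv4 D114499) (iv3 D52850) (iv1 D25651) (iv3 F40543) (iv4 F83485) D114462 (iv4 F178519) F290385 (iv1 F250933)
theorem E26166 : n114401 = n25674 := (c20_8 (iv4 D76774) (iv1 F55745) (iv4 F106621) (iv3 F235033) F290388 F178558 (iv4 D114404) D114401 (iv4 F83582) (iv3 F85824) (iv1 F234873))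
theorem E26167 : n52891 = n52795 := ((D52891).symm.trans (sb E26166 (iv0 D114401)))
theorem F290389 : act 0 n52795 = n25674 := (sb E26167 (iv1 D52891))
theorem E26168 : n114548 = n114402 := (((D114402).symm.trans (sb E26167 F178621))).symm
theorem E26169 : n114581 = n114403 := (((D114403).symm.trans (sb E26167 (iv2 F178667)))).symm
theorem E26174 : n114576 = n105401 := ((((iv7 F161735)).symm.trans (sb E26167 F178666))).symm
theorem F290393 : act 6 n114402 = n52913 := (sb E26168 F178619)
theorem F290394 : act 7 n114402 = n52873 := (sb E26168 (iv7 D114548))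
theorem F290395 : act 7 n114403 = n52890 := (sb E26169 (iv7 D114581))
theorem F290396 : act 2 n105401 = n52890 := (sb E26174 (iv2 D114576))
theorem E26175 : n170382 = n76774 := (c20_6 (iv4 D114499) F248555 (iv4 F125626) F125625 D81698 D170382 (iv4 D76774) (iv1 F55745) (iv4 F106621) (iv3 F235033) F290388)
theorem E26176 : n160229 = n81698 := ((D160229).symm.trans (sb E26175 (iv3 D170382)))
theorem F290397 : act 3 n81698 = n76774 := (sb E26176 (iv3 D160229))
theorem E26177 : n170386 = n149452 := ((D170386).symm.trans (sb E26176 F252976))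
theorem F290399 : act 7 n149452 = n81698 := (sb E26177 (iv7 D170386))
theorem F290400 : act 1 n148906 = n114499 := d15_0 (iv0 F290388) (iv7 D149439) (iv2 F233974)
theorem F290402 : act 3 n160227 = n170383 := d5_5 (iv4 D170383) F290397 (iv4 D76774) D76773 D160227
theorem E26178 : n114577 = n114392 := (c0_3 D105401 F290396 D114577 (iv2 D114392) (iv3 D52790) (iv2 F145371))
theorem F290406 : act 3 n114392 = n52890 := (sb E26178 (iv3 D114577))
theorem E26179 : n159379 = n71931 := (c15_2 (iv0 D159378) D159379 F239340 (iv2 F290386))
theorem E26180 : n152499 = n76239 := ((D152499).symm.trans (sb E26179 (iv1 D159379)))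
theorem F290408 : act 1 n76239 = n71931 := (sb E26180 (iv0 D152499))
theorem F290410 : act 1 n114468 = n149727 := d15_1 (iv0 F290384) (iv7 D149727) (iv2 F235450)
theorem F290411 : act 4 n149296 = n90262 := d10_3 F290380 (iv4 D149431) F234668
theorem F290412 : act 4 n92518 = n131263 := d1_2 F290411 (iv2 F142466) F234666
theorem F290413 : act 4 n92470 = n131259 := d11_3 F234667 F290411 (iv7 F142285)
theorem F290414 : act 4 n90153 = n149297 := d16_0 (iv5 F234670) (iv4 F212342) (iv5 F234665) F290411 (iv5 D90262) F65119 D90262 (iv7 F142285) F142283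
theorem F290415 : act 6 n154038 = n90153 := d10_0 F290414 F261558 F261555
theorem F290416 : act 3 n90156 = n154038 := d7_3 F290415 F138604 D90156
theorem F290417 : act 4 n118014 = n93863 := d17_9 F290244 F83645 (iv1 F290315) D92470 F290413 (iv5 D131259) (iv0 D61591) (iv5 F85805) D118014
theorem E26182 : n149452 = n96194 := ((c20_5 F290377 (iv1 F248548) (iv4 F267861) F267860 (iv1 F147918) (iv3 D149452) (iv4 D70181) (iv1 D32563) (iv4 F51629) (iv3 F106619) D149436)).symm
theorem F290420 : act 7 n96194 = n81698 := (sb E26182 F290399)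
theorem E26183 : n170381 = n96193 := (c15_4 (iv0 D96193) D96194 F290420 D170381)
theorem F290421 : act 2 n96193 = n81698 := (sb E26183 (iv2 D170381))
theorem F290422 : act 7 n96193 = n81699 := (sb E26183 (iv7 F267864))
theorem F290423 : act 7 n97200 = n95860 := d11_2 F290422 (iv4 F248559) F259560
theorem E26184 : n95864 = n45422 := (c8_3 F290423 (iv3 D95860) D95864 D97200)
theorem E26185 : n97199 = n44760 := (((iv2 F149950)).symm.trans (sb E26184 F147541))
theorem E26186 : n97194 = n44759 := ((F149948).symm.trans (sb E26184 (iv7 D95864)))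
theorem F290424 : act 2 n44760 = n45422 := (sb E26185 F149950)
theorem E26187 : n95859 = n45421 := ((F147540).symm.trans (sb E26185 (iv7 D97199)))
theorem F290425 : act 7 n44759 = n45422 := (sb E26186 (iv7 F149948))
theorem F290426 : act 2 n45421 = n44759 := (sb E26187 (iv2 D95859))
theorem F290427 : act 7 n45421 = n44760 := (sb E26187 (iv7 F147540))
theorem F290428 : act 7 n95865 = n97195 := d8_2 F290427 D95865 (iv3 D97195)
theorem F290429 : act 7 n95866 = n97196 := d11_2 F290427 D95866 (iv4 D97196)
theorem F290430 : act 7 n95867 = n97197 := d13_2 F290427 D95867 (iv5 D97197)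
theorem F290431 : act 2 n95861 = n97196 := d1_3 (iv4 D97196) F290426 D95861
theorem F290432 : act 2 n95862 = n97197 := d2_3 (iv5 D97197) F290426 D95862
theorem F290433 : act 2 n95863 = n97198 := d3_3 (iv6 D97198) F290426 D95863
theorem F290434 : act 2 n95818 = n97138 := d2_3 (iv5 F149862) F290433 F149949
theorem F290435 : act 7 n97137 = n95818 := d15_2 F149861 F149867 F290434
theorem F290436 : act 7 n95817 = n97138 := d15_2 F149868 F149869 (iv2 F290434)
theorem F290437 : act 2 n97137 = n95817 := d4_3 F290436 (iv2 F290434) (iv7 F290435)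
theorem F290438 : act 7 n95863 = n97291 := d13_2 F290436 (iv5 F149862) F150038
theorem F290439 : act 7 n95923 = n97203 := d14_2 F290438 F150039 (iv6 D97203) (iv7 F290425) D95863
theorem F290440 : act 2 n97203 = n95922 := d15_3 (iv0 D95922) D95923 F290439
theorem E26188 : n95922 = n95868 := (c3_2 D97203 F290440 (iv6 D95868) F290424)
theorem F290441 : act 1 n95868 = n44775 := (sb E26188 (iv0 D95922))
theorem F290442 : act 2 n95868 = n97203 := (sb E26188 (iv2 F290440))
theorem F290443 : act 5 n103737 = n95918 := d21_6 (iv5 F158434) (iv1 F158438) (iv5 D47823) D47824 D103186 F159184 (iv1 D95918) (iv5 D44774) D44775 (iv1 F290441)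
theorem F290444 : act 7 n97201 = n95861 := d11_2 F290425 D97201 (iv4 D95861)
theorem F290445 : act 7 n97202 = n95862 := d13_2 F290425 D97202 (iv5 D95862)
theorem F290446 : act 2 n95867 = n97202 := d4_3 F290445 F290432 (iv7 F290430)
theorem F290447 : act 2 n104662 = n104816 := d3_3 F160652 F290446 (iv6 F160365)
theorem F290448 : act 1 n97202 = n103753 := d15_0 (iv0 F159191) (iv7 F290430) F290446
theorem F290449 : act 0 n97203 = n103193 := d21_10 (iv5 D103193) (iv1 F158283) F158280 (iv6 F75368) (iv1 F75370) D48041 D103753 (iv1 F290448) (iv5 D97202) D97203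
theorem F290450 : act 7 n104817 = n104662 := d15_2 (iv0 D104816) D104817 F290447
theorem F290451 : act 7 n104663 = n104816 := d15_2 (iv0 D104662) D104663 (iv2 F290447)
theorem F290452 : act 2 n104817 = n104663 := d4_3 F290451 (iv2 F290447) (iv7 F290450)
theorem F290453 : act 2 n95866 = n97201 := d4_3 F290444 F290431 (iv7 F290429)
theorem F290454 : act 2 n170383 = n95860 := d1_3 F259560 F290421 D170383
theorem E26189 : n149254 = n97195 := ((c0_5 F290402 F290454 (iv3 D95860) (iv2 F290426) D97195 (iv2 F252967))).symm
theorem F290455 : act 1 n97195 = n95497 := (sb E26189 (iv0 F234884))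
theorem F290457 : act 4 n97195 = n70055 := (sb E26189 (iv4 D149254))
theorem E26190 : n160258 = n95865 := ((((iv7 F290428)).symm.trans (sb E26189 (iv7 F253093)))).symm
theorem F290458 : act 0 n95865 = n96530 := (sb E26190 F253094)
theorem F290460 : act 4 n95865 = n76796 := (sb E26190 (iv4 D160258))
theorem F290461 : act 6 n95865 = n149176 := (sb E26190 F253092)
theorem F290462 : act 3 n149176 = n95868 := d7_1 F290461 (iv6 D95868) D95865
theorem F290463 : act 4 n95868 = n149303 := d5_2 D149176 F290462 (iv3 D149303) (iv4 D70096) (iv3 F155467)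
theorem E26191 : n160259 = n95866 := (c10_3 D95868 F290463 (iv6 F253095) (iv4 D95866))
theorem F290464 : act 3 n95866 = n76797 := (sb E26191 (iv3 D160259))
theorem E26192 : n149506 = n97196 := (((F290429).symm.trans (sb E26191 F253096))).symm
theorem F290466 : act 3 n97196 = n70212 := (sb E26192 (iv3 D149506))
theorem E26193 : n157722 = n52894 := (c20_2 (iv4 D157725) D157722 (iv4 F106812) F106811 (iv1 F234920) (iv3 F290466) (iv4 D97196) (iv1 F71673) (iv4 F125282) (iv3 F187576) F248580)
theorem E26194 : n114591 = n114488 := ((D114591).symm.trans (sb E26193 (iv1 F248572)))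
theorem E26195 : n114592 = n75150 := ((D114592).symm.trans (sb E26193 (iv0 D157722)))
theorem E26196 : n157723 = n52913 := (((iv1 F248576)).symm.trans (sb E26194 (iv1 F178674)))
theorem F290468 : act 1 n114488 = n52894 := (sb E26194 (iv0 D114591))
theorem F290469 : act 0 n75150 = n52894 := (sb E26195 (iv1 D114592))
theorem F290470 : act 0 n52913 = n75150 := (sb E26196 (iv1 D157723))
theorem F290471 : act 1 n52913 = n114488 := (sb E26196 F248576)
theorem F290472 : act 4 n152489 = n114609 := d20_2 D71927 D152489 F178698 F290470 (iv3 D75150) (iv4 F145381) (iv1 D48735) F37044 (iv3 F25580) D33234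
theorem F290473 : act 7 n114605 = n152489 := d11_0 F290472 (iv7 D114609) (iv4 F178695)
theorem E26197 : n152490 = n152408 := ((c15_4 F239673 F239672 (iv7 F290473) (iv2 F239600))).symm
theorem F290475 : act 1 n152408 = n71932 := (sb E26197 F239673)
theorem E26198 : n149736 = n119203 := (c20_2 (iv4 F106812) D149736 (iv4 D119203) (iv3 F138587) (iv1 F178063) F83343 (iv4 F40527) (iv1 F76737) F145381 D75150 F290469)
theorem F290476 : act 0 n119203 = n114626 := (sb E26198 (iv1 F235506))
theorem F290477 : act 1 n119203 = n70335 := (sb E26198 (iv0 D149736))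
theorem F290478 : act 4 n164499 = n152267 := d20_0 (iv1 D152267) F108280 (iv3 F83319) F138588 F138587 D119203 F290476 F178734 (iv3 F178698) (iv1 F259236)
theorem F290479 : act 2 n152479 = n164499 := d1_3 F290478 F283578 D152479
theorem F290480 : act 7 n152474 = n164499 := d11_0 F290478 F283579 D152474
theorem F290481 : act 3 n164499 = n164618 := d20_3 (iv4 F108434) (iv1 F239323) (iv4 F290478) (iv1 D164618) F120348 (iv4 F125626) D170377 F267856 (iv3 D152271) (iv1 F108285)
theorem F290482 : act 4 n164618 = n95856 := d20_6 D119203 F290476 F178734 (iv3 F178698) (iv1 F259236) F290481 (iv1 D95856) (iv4 F86797) F86796 D54855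
theorem E26199 : n164498 = n118751 := ((c15_4 (iv0 D164498) D164499 (iv7 F290480) F283580)).symm
theorem F290483 : act 0 n118751 = n114609 := (sb E26199 (iv1 F259241))
theorem F290484 : act 1 n118751 = n79001 := (sb E26199 (iv0 D164498))
theorem F290485 : act 0 n127952 = n118752 := d20_7 (iv4 F290472) (iv1 F239672) (iv4 D71932) D71931 (iv1 F290408) F114241 (iv4 F205912) (iv4 D118752) D118751 F290483
theorem E26200 : n119199 = n114634 := ((c20_1 D114634 (iv1 D119199) F86799 (iv3 F86796) F178286 (iv3 F205397) F290366 (iv1 F235456) (iv4 F235476) (iv3 F290325) (iv1 F290330))).symm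
theorem F290486 : act 0 n114634 = n54854 := (sb E26200 (iv1 D119199))
theorem F290487 : act 0 n90121 = n94126 := d21_7 (iv5 D49119) (iv1 F37436) D23972 D49129 F290365 D127774 (iv5 F205407) F145081 (iv6 D49134) (iv1 F77556)
theorem F290488 : act 4 n149728 = n127774 := d10_3 (iv6 D127774) F290352 D149728
theorem F290489 : act 4 n114222 = n153470 := d5_4 F290488 F205406 (iv4 F114628) (iv3 F178003) F241079
theorem E26201 : n164422 = n164360 := ((c11_4 F259071 F290489 F241080 (iv4 F290287))).symm
theorem F290491 : act 3 n164360 = n78969 := (sb E26201 F259070)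
theorem E26202 : n78967 = n78940 := ((((iv5 D164360)).symm.trans (sb E26201 (iv5 D164422)))).symm
theorem E26206 : n114148 = n35943 := (((iv3 F177759)).symm.trans (sb E26202 (iv3 D78967)))
theorem E26208 : n164423 = n164361 := (((D164361).symm.trans (sb E26202 D164423))).symm
theorem E26210 : n78955 = n52704 := ((((iv1 F83277)).symm.trans (sb E26206 (iv1 F177763)))).symm
theorem E26212 : n52701 = n52692 := ((F178249).symm.trans (sb E26206 (iv2 D114148)))
theorem F290493 : act 3 n35943 = n78940 := (sb E26206 F177759)
theorem E26213 : n78956 = n52702 := (((F178250).symm.trans (sb E26206 F177760))).symm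
theorem F290494 : act 3 n164361 = n78970 := (sb E26208 F259072)
theorem E26214 : n35944 = n35939 := (((iv1 F83276)).symm.trans (sb E26210 (iv1 D78955)))
theorem E26225 : n114146 = n35946 := ((D114146).symm.trans (sb E26212 (iv1 F83275)))
theorem E26226 : n114147 = n25578 := ((D114147).symm.trans (sb E26212 (iv0 D52701)))
theorem F290496 : act 2 n52692 = n35943 := (sb E26212 (iv2 F178249))
theorem E26228 : n114149 = n96966 := ((D114149).symm.trans (sb E26212 (iv4 F178263)))
theorem E26229 : n114170 = n114150 := (((D114150).symm.trans (sb E26212 D114170))).symm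
theorem E26230 : n114171 = n114151 := (((D114151).symm.trans (sb E26212 D114171))).symm
theorem F290497 : act 3 n52702 = n106313 := (sb E26213 (iv3 F290271))
theorem F290498 : act 0 n35939 = n17399 := (sb E26214 (iv1 D35944))
theorem F290499 : act 1 n35939 = n52704 := (sb E26214 F83276)
theorem F290500 : act 2 n35939 = n52702 := (sb E26214 (iv2 F178241))
theorem E26234 : n78972 = n17398 := ((((iv3 D35939)).symm.trans (sb E26214 D78972))).symm
theorem E26235 : n78973 = n78957 := (((D78957).symm.trans (sb E26214 D78973))).symm
theorem E26236 : n78974 = n78958 := (((D78958).symm.trans (sb E26214 D78974))).symm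
theorem E26237 : n78975 = n78959 := (((D78959).symm.trans (sb E26214 D78975))).symm
theorem F290501 : act 1 n35946 = n52692 := (sb E26225 (iv0 D114146))
theorem F290502 : act 0 n25578 = n52692 := (sb E26226 (iv1 D114147))
theorem F290503 : act 3 n96966 = n95570 := (sb E26228 F177764)
theorem F290504 : act 4 n96966 = n52692 := (sb E26228 (iv4 D114149))
theorem F290505 : act 0 n114150 = n114228 := (sb E26229 (iv1 F178016))
theorem F290506 : act 1 n114150 = n76331 := (sb E26229 F177918)
theorem F290507 : act 2 n114150 = n78969 := (sb E26229 (iv2 F178255))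
theorem F290508 : act 4 n114150 = n90118 := (sb E26229 F177917)
theorem F290509 : act 6 n114150 = n114242 := (sb E26229 (iv6 F178038))
theorem F290510 : act 2 n114151 = n78970 := (sb E26230 F178267)
theorem E26238 : n128519 = n127788 := ((((iv5 F205550)).symm.trans (sb E26230 F206688))).symm
theorem E26242 : n164433 = n25557 := (((F83205).symm.trans (sb E26234 D164433))).symm
theorem E26243 : n164434 = n35941 := (((D35941).symm.trans (sb E26234 D164434))).symm
theorem E26245 : n164400 = n53001 := ((D164400).symm.trans (sb E26235 F120145))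
theorem E26246 : n164401 = n96969 := ((D164401).symm.trans (sb E26235 F149565))
theorem F290511 : act 2 n78957 = n96967 := (sb E26235 (iv2 F178261))
theorem E26248 : n164437 = n164402 := (((D164402).symm.trans (sb E26235 D164437))).symm
theorem F290512 : act 7 n78957 = n96966 := (sb E26235 F178262)
theorem E26250 : n164404 = n114031 := ((D164404).symm.trans (sb E26236 (iv1 F178193)))
theorem E26251 : n164405 = n159548 := ((D164405).symm.trans (sb E26236 F251285))
theorem F290513 : act 2 n78958 = n52722 := (sb E26236 F178235)
theorem E26252 : n164406 = n52755 := ((D164406).symm.trans (sb E26236 F120146))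
theorem E26253 : n164407 = n48723 := ((D164407).symm.trans (sb E26236 F120147))
theorem E26254 : n164439 = n164408 := (((D164408).symm.trans (sb E26237 D164439))).symm
theorem F290514 : act 2 n78959 = n114174 := (sb E26237 F178291)
theorem E26256 : n164441 = n164410 := (((D164410).symm.trans (sb E26237 D164441))).symm
theorem F290515 : act 0 n127788 = n60449 := (sb E26238 (iv1 D128519))
theorem F290516 : act 1 n127788 = n115087 := (sb E26238 F206687)
theorem F290517 : act 2 n127788 = n115086 := (sb E26238 F206689)
theorem F290518 : act 6 n127788 = n159465 := (sb E26238 F251110)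
theorem E26258 : n115085 = n114322 := (((F205551).symm.trans (sb E26238 (iv7 F206699)))).symm
theorem E26259 : n102723 = n52660 := (((D52660).symm.trans (sb E26242 (iv5 F259076)))).symm
theorem E26260 : n105389 = n78961 := (((D78961).symm.trans (sb E26243 (iv6 F259078)))).symm
theorem F290519 : act 1 n53001 = n78957 := (sb E26245 (iv0 D164400))
theorem F290520 : act 0 n96969 = n78957 := (sb E26246 (iv1 D164401))
theorem F290521 : act 4 n164402 = n95575 := (sb E26248 F259080)
theorem F290522 : act 1 n114031 = n78958 := (sb E26250 (iv0 D164404))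
theorem F290523 : act 0 n159548 = n78958 := (sb E26251 (iv1 D164405))
theorem F290524 : act 4 n52755 = n78958 := (sb E26252 (iv4 D164406))
theorem E26261 : n102685 = n52663 := (((F83351).symm.trans (sb E26252 (iv5 F259047)))).symm
theorem F290525 : act 6 n48723 = n78958 := (sb E26253 (iv6 D164407))
theorem F290526 : act 5 n164408 = n106517 := (sb E26254 F259082)
theorem F290527 : act 0 n164410 = n164460 := (sb E26256 F259111)
theorem F290528 : act 1 n164410 = n164458 := (sb E26256 (iv0 F259107))
theorem F290529 : act 2 n164410 = n114226 := (sb E26256 F259083)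
theorem F290530 : act 6 n164410 = n105390 := (sb E26256 F259084)
theorem F290531 : act 0 n114322 = n128520 := (sb E26258 (iv1 F206700))
theorem F290532 : act 1 n114322 = n53104 := (sb E26258 (iv0 D115085))
theorem F290533 : act 2 n114322 = n128518 := (sb E26258 (iv2 F206698))
theorem E26262 : n94037 = n47647 := ((F161691).symm.trans (sb E26259 (iv0 D102723)))
theorem F290534 : act 3 n78961 = n48723 := (sb E26260 (iv3 D105389))
theorem E26263 : n106128 = n52724 := (((iv7 F163142)).symm.trans (sb E26260 F178232))
theorem E26264 : n47625 = n42126 := (((F83203).symm.trans (sb E26261 (iv0 D102685)))).symm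
theorem F290535 : act 0 n47647 = n52660 := (sb E26262 (iv1 F161691))
theorem E26265 : n102724 = n52655 := ((D102724).symm.trans (sb E26262 (iv0 F161625)))
theorem E26266 : n159609 = n102725 := (((D102725).symm.trans (sb E26262 (iv2 F251419)))).symm
theorem E26267 : n43952 = n22936 := ((((iv3 D47647)).symm.trans (sb E26262 F144876))).symm
theorem E26268 : n103242 = n102717 := ((((iv4 F157980)).symm.trans (sb E26262 (iv4 F158490)))).symm
theorem E26269 : n114049 = n102726 := (((D102726).symm.trans (sb E26262 (iv5 F177541)))).symm
theorem E26270 : n102727 = n43950 := ((D102727).symm.trans (sb E26262 (iv6 D94037)))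
theorem E26271 : n90344 = n89549 := ((((iv7 F137276)).symm.trans (sb E26262 F144877))).symm
theorem E26272 : n114231 = n49054 := ((D114231).symm.trans (sb E26263 (iv1 D106128)))
theorem E26273 : n159444 = n114232 := (((D114232).symm.trans (sb E26263 F251079))).symm
theorem E26274 : n159443 = n114233 := (((D114233).symm.trans (sb E26263 F251075))).symm
theorem F290536 : act 7 n52724 = n78961 := (sb E26263 F163142)
theorem E26277 : n22915 = n19876 := (((F65051).symm.trans (sb E26264 (iv3 D47625)))).symm
theorem E26278 : n102653 = n44741 := ((((iv4 F70334)).symm.trans (sb E26264 (iv4 F157877)))).symm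
theorem F290537 : act 0 n52655 = n47647 := (sb E26265 (iv1 D102724))
theorem F290538 : act 0 n102725 = n105379 := (sb E26266 F251422)
theorem F290539 : act 1 n102725 = n105375 := (sb E26266 F251423)
theorem F290540 : act 3 n102725 = n185025 := (sb E26266 F287425)
theorem F290541 : act 5 n102725 = n76362 := (sb E26266 (iv5 D159609))
theorem F290542 : act 6 n102725 = n94035 := (sb E26266 F251420)
theorem F290543 : act 7 n102725 = n114082 := (sb E26266 F251421)
theorem E26282 : n47646 = n42292 := ((D47646).symm.trans (sb E26267 F69097))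
theorem E26283 : n42534 = n41410 := (((F72201).symm.trans (sb E26267 F69098))).symm
theorem E26284 : n45748 = n42537 := (((iv2 F72199)).symm.trans (sb E26267 F69094))
theorem E26285 : n20828 = n10828 := ((((iv4 D22936)).symm.trans (sb E26267 F69095))).symm
theorem E26286 : n90130 = n47648 := (((D47648).symm.trans (sb E26267 (iv5 F138575)))).symm
theorem E26287 : n47649 = n20827 := ((D47649).symm.trans (sb E26267 (iv6 D43952)))
theorem E26288 : n42238 = n41815 := ((((iv7 F64479)).symm.trans (sb E26267 F69096))).symm
theorem F290544 : act 0 n102717 = n76465 := (sb E26268 F161624)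
theorem F290545 : act 1 n102717 = n76448 := (sb E26268 F161626)
theorem E26289 : n47847 = n47644 := ((((iv3 D102717)).symm.trans (sb E26268 F158489))).symm
theorem F290546 : act 6 n102717 = n93993 := (sb E26268 F158491)
theorem E26290 : n48281 = n47842 := ((F157981).symm.trans (sb E26268 (iv7 D103242)))
theorem F290547 : act 0 n102726 = n90118 := (sb E26269 F178021)
theorem F290548 : act 1 n102726 = n60003 := (sb E26269 F178011)
theorem F290549 : act 2 n102726 = n76362 := (sb E26269 (iv2 F193470))
theorem F290550 : act 4 n102726 = n76379 := (sb E26269 F177660)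
theorem F290551 : act 6 n102726 = n52633 := (sb E26269 (iv6 D114049))
theorem F290552 : act 7 n102726 = n114311 := (sb E26269 F178192)
theorem F290553 : act 6 n43950 = n47647 := (sb E26270 (iv6 D102727))
theorem F290554 : act 0 n89549 = n105375 := (sb E26271 F161638)
theorem F290555 : act 1 n89549 = n105379 := (sb E26271 (iv0 F161609))
theorem F290556 : act 2 n89549 = n114082 := (sb E26271 F177594)
theorem F290557 : act 5 n89549 = n114311 := (sb E26271 (iv5 F178189))
theorem E26291 : n104017 = n42236 := (((iv6 F159486)).symm.trans (sb E26271 (iv6 D90344)))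
theorem F290558 : act 1 n49054 = n52724 := (sb E26272 (iv0 D114231))
theorem F290559 : act 1 n114232 = n106127 := (sb E26273 F251080)
theorem F290560 : act 2 n114232 = n106129 := (sb E26273 F251076)
theorem F290561 : act 5 n114232 = n106743 := (sb E26273 F251077)
theorem F290562 : act 6 n114232 = n106134 := (sb E26273 F251078)
theorem F290563 : act 7 n114232 = n76270 := (sb E26273 (iv7 D159444))
theorem F290564 : act 0 n114233 = n76270 := (sb E26274 (iv1 D159443))

end Cfsg.Agent.Helper17.ONTC
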