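import Cfsg.Agent.Helper17.ONTC.Facts34

set_option autoImplicit false
set_option linter.all false

noncomputable section

namespace Cfsg.Agent.Helper17.ONTC

theorem F290565 : act 1 n114233 = n106129 := (sb E26274 F251073)
theorem F290566 : act 3 n114233 = n159587 := (sb E26274 F290294)
theorem F290567 : act 6 n114233 = n164385 := (sb E26274 (iv6 F259039))
theorem F290568 : act 7 n114233 = n106127 := (sb E26274 F251074)
theorem E26292 : n47623 = n20430 := ((((iv1 F32468)).symm.trans (sb E26277 D47623))).symm
theorem E26293 : n47624 = n20429 := (((F32473).symm.trans (sb E26277 D47624))).symm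
theorem E26294 : n45742 = n20432 := ((((iv2 F32470)).symm.trans (sb E26277 (iv2 F72184)))).symm
theorem E26295 : n10821 = n9359 := (((F31719).symm.trans (sb E26277 (iv4 D22915)))).symm
theorem E26296 : n47626 = n42136 := ((((iv5 F65053)).symm.trans (sb E26277 D47626))).symm
theorem E26297 : n47627 = n20402 := ((((iv6 F32412)).symm.trans (sb E26277 D47627))).symm
theorem E26298 : n45747 = n9355 := ((((iv7 D19876)).symm.trans (sb E26277 (iv7 F72198)))).symm
theorem E26299 : n47610 = n21315 := (((F70333).symm.trans (sb E26278 (iv3 D102653)))).symm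
theorem E26301 : n22940 = n20079 := (((F69099).symm.trans (sb E26282 (iv1 F74933)))).symm
theorem F290569 : act 1 n42292 = n22936 := (sb E26282 (iv0 D47646))
theorem E26302 : n88693 = n43384 := ((((iv2 F68160)).symm.trans (sb E26282 (iv2 F136035)))).symm
theorem E26303 : n102722 = n90434 := ((((iv3 F139192)).symm.trans (sb E26282 D102722))).symm
theorem E26304 : n44008 = n42649 := (((iv4 F69236)).symm.trans (sb E26282 F74932))
theorem E26305 : n102690 = n43284 := (((F67883).symm.trans (sb E26282 (iv5 F157939)))).symm
theorem E26306 : n88685 = n19959 := ((((iv6 D42292)).symm.trans (sb E26282 (iv6 F136025)))).symm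
theorem E26307 : n90142 = n42646 := (((iv7 F138595)).symm.trans (sb E26282 F74934))
theorem E26308 : n90822 = n88690 := ((((iv3 F136032)).symm.trans (sb E26283 D90822))).symm
theorem E26309 : n90096 = n37843 := (((F63857).symm.trans (sb E26283 (iv4 F138501)))).symm
theorem E26310 : n88692 = n43283 := ((D88692).symm.trans (sb E26283 (iv5 F67889)))
theorem E26311 : n43498 = n19504 := ((((iv6 D41410)).symm.trans (sb E26283 F68357))).symm
theorem F290570 : act 2 n42537 = n22936 := (sb E26284 F72199)
theorem E26312 : n98011 = n90815 := ((((iv3 F139795)).symm.trans (sb E26284 D98011))).symm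
theorem E26313 : n21872 = n20085 := (((F66010).symm.trans (sb E26284 (iv4 D45748)))).symm
theorem E26314 : n98012 = n90824 := ((((iv5 F139802)).symm.trans (sb E26284 D98012))).symm
theorem E26315 : n92368 = n43855 := ((((iv6 F68943)).symm.trans (sb E26284 (iv6 F142046)))).symm
theorem E26316 : n21874 = n19967 := (((iv1 F34336)).symm.trans (sb E26285 F32985))
theorem E26317 : n19446 = n4936 := ((((iv0 D10828)).symm.trans (sb E26285 F66515))).symm
theorem E26318 : n43932 = n22935 := (((D22935).symm.trans (sb E26285 (iv3 F69066)))).symm
theorem E26319 : n41933 = n19681 := ((((iv5 F63524)).symm.trans (sb E26285 (iv5 F64682)))).symm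
theorem E26320 : n22937 = n9886 := ((D22937).symm.trans (sb E26285 (iv6 D20828)))
theorem E26321 : n19939 = n19680 := ((((iv7 F63522)).symm.trans (sb E26285 F32989))).symm
theorem E26322 : n102728 = n42129 := ((D102728).symm.trans (sb E26286 (iv1 D90130)))
theorem E26323 : n102729 = n42131 := ((D102729).symm.trans (sb E26286 F138574))
theorem E26324 : n114046 = n102730 := (((D102730).symm.trans (sb E26286 (iv6 F177538)))).symm
theorem E26325 : n90347 = n89550 := ((((iv7 F137278)).symm.trans (sb E26286 (iv7 F139023)))).symm
theorem E26326 : n102731 = n43949 := (((D43949).symm.trans (sb E26287 D102731))).symm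
theorem E26328 : n102733 = n43951 := (((D43951).symm.trans (sb E26287 D102733))).symm
theorem F290571 : act 6 n20827 = n22936 := (sb E26287 (iv6 D47649))
theorem E26330 : n48152 = n19937 := (((iv6 F75669)).symm.trans (sb E26288 (iv6 D42238)))
theorem E26331 : n23529 = n23433 := (((F74928).symm.trans (sb E26289 F75129))).symm
theorem E26332 : n48415 = n23374 := ((((iv0 F74930)).symm.trans (sb E26289 F76123))).symm
theorem E26333 : n48414 = n23429 := (((F74926).symm.trans (sb E26289 F76116))).symm
theorem E26334 : n102718 = n89840 := ((D102718).symm.trans (sb E26289 (iv5 F137907)))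
theorem E26335 : n102719 = n43931 := ((D102719).symm.trans (sb E26289 F75128))
theorem E26336 : n23430 = n23021 := ((F74927).symm.trans (sb E26289 (iv7 D47847)))
theorem F290572 : act 4 n47842 = n89549 := (sb E26290 (iv4 F137275))
theorem F290573 : act 7 n47842 = n102717 := (sb E26290 (iv7 F157981))
theorem F290574 : act 6 n42236 = n89549 := (sb E26291 F159486)
theorem E26343 : n22930 = n9703 := ((((iv1 D20430)).symm.trans (sb E26292 (iv1 F74887)))).symm
theorem E26344 : n97999 = n19874 := (((F63547).symm.trans (sb E26292 F151087))).symm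
theorem E26345 : n102681 = n43280 := (((D43280).symm.trans (sb E26292 D102681))).symm
theorem E26346 : n43956 = n19703 := (((F35855).symm.trans (sb E26292 F74886))).symm
theorem E26347 : n102682 = n43281 := (((D43281).symm.trans (sb E26292 D102682))).symm
theorem E26348 : n87730 = n43282 := (((D43282).symm.trans (sb E26292 (iv6 F134669)))).symm
theorem E26349 : n98000 = n19873 := ((((iv7 F63545)).symm.trans (sb E26292 (iv7 F151090)))).symm
theorem E26350 : n102683 = n43277 := (((D43277).symm.trans (sb E26293 D102683))).symm
theorem E26351 : n48228 = n19860 := (((F63708).symm.trans (sb E26293 (iv4 F76264)))).symm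
theorem E26352 : n102684 = n43278 := (((D43278).symm.trans (sb E26293 D102684))).symm
theorem E26353 : n89654 = n43279 := (((D43279).symm.trans (sb E26293 (iv6 F137459)))).symm
theorem E26355 : n21865 = n9707 := (((F32471).symm.trans (sb E26294 (iv4 D45742)))).symm
theorem E26357 : n98003 = n19913 := (((F32472).symm.trans (sb E26294 D98003))).symm
theorem E26358 : n22443 = n9705 := ((((iv1 F15143)).symm.trans (sb E26295 F34989))).symm
theorem E26359 : n22914 = n9260 := (((F35666).symm.trans (sb E26295 D22914))).symm
theorem E26360 : n22905 = n19856 := ((((iv3 F31688)).symm.trans (sb E26295 (iv3 F35975)))).symm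
theorem E26361 : n19890 = n4934 := (((iv5 F31724)).symm.trans (sb E26295 (iv5 D10821)))
theorem E26362 : n22916 = n9680 := ((((iv6 F15082)).symm.trans (sb E26295 D22916))).symm
theorem E26363 : n21870 = n4243 := ((((iv7 D9359)).symm.trans (sb E26295 (iv7 F66819)))).symm
theorem E26364 : n102368 = n90150 := ((((iv4 F138601)).symm.trans (sb E26296 (iv4 F157166)))).symm
theorem E26367 : n99400 = n19686 := ((((iv1 F35823)).symm.trans (sb E26297 F153093))).symm
theorem E26368 : n100681 = n19910 := (((F32415).symm.trans (sb E26297 F154794))).symm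
theorem E26371 : n43135 = n4242 := ((((iv6 D9355)).symm.trans (sb E26298 F72197))).symm
theorem E26372 : n42733 = n19805 := ((((iv1 F35854)).symm.trans (sb E26299 F74867))).symm
theorem E26373 : n102652 = n21623 := ((((iv0 F63254)).symm.trans (sb E26299 D102652))).symm
theorem E26374 : n96288 = n21665 := ((((iv2 F34090)).symm.trans (sb E26299 (iv2 F148118)))).symm
theorem E26375 : n102654 = n44749 := ((((iv5 F70340)).symm.trans (sb E26299 D102654))).symm
theorem E26376 : n93496 = n19804 := ((((iv6 F35819)).symm.trans (sb E26299 (iv6 F144235)))).symm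
theorem E26377 : n96290 = n10172 := ((((iv7 D21315)).symm.trans (sb E26299 (iv7 F148127)))).symm
theorem F290575 : act 0 n20079 = n41410 := (sb E26301 F66635)
theorem F290576 : act 2 n20079 = n41815 := (sb E26301 (iv2 F64478))
theorem E26379 : n47652 = n42531 := ((((iv3 F66008)).symm.trans (sb E26301 D47652))).symm
theorem E26380 : n10829 = n9457 := (((F31898).symm.trans (sb E26301 (iv4 D22940)))).symm
theorem E26381 : n47653 = n42536 := (((D42536).symm.trans (sb E26301 D47653))).symm
theorem E26382 : n46932 = n9455 := ((((iv6 D20079)).symm.trans (sb E26301 (iv6 F74145)))).symm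
theorem F290577 : act 0 n43384 = n41815 := (sb E26302 (iv1 F136037))
theorem E26383 : n186168 = n92735 := ((((iv3 F142980)).symm.trans (sb E26302 (iv3 F288909)))).symm
theorem E26384 : n82479 = n43826 := ((((iv4 F68880)).symm.trans (sb E26302 F136036))).symm
theorem E26385 : n186174 = n42134 := (((F68161).symm.trans (sb E26302 (iv5 F288918)))).symm
theorem E26386 : n102694 = n20502 := ((((iv6 D43384)).symm.trans (sb E26302 F157948))).symm
theorem F290578 : act 7 n43384 = n41410 := (sb E26302 (iv7 D88693))
theorem E26387 : n97994 = n91067 := (((iv4 F151069)).symm.trans (sb E26303 F157990))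
theorem E26388 : n186146 = n42289 := ((((iv6 D90434)).symm.trans (sb E26303 (iv6 F288879)))).symm
theorem F290579 : act 7 n90434 = n91048 := (sb E26303 F157991)
theorem E26389 : n82478 = n46656 := (((iv1 F127085)).symm.trans (sb E26304 (iv1 F73733)))
theorem E26390 : n44818 = n23420 := ((((iv0 F74589)).symm.trans (sb E26304 (iv0 F70400)))).symm
theorem E26391 : n21866 = n20135 := (((F66693).symm.trans (sb E26304 F69235))).symm
theorem F290580 : act 4 n42649 = n42292 := (sb E26304 F69236)
theorem E26392 : n41862 = n20496 := (((F66694).symm.trans (sb E26304 F69237))).symm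
theorem E26393 : n43263 = n20895 := (((iv6 F67829)).symm.trans (sb E26304 (iv6 D44008)))
theorem E26394 : n90669 = n20129 := ((((iv7 D42649)).symm.trans (sb E26304 (iv7 F139591)))).symm
theorem E26395 : n47641 = n20431 := ((((iv1 D43284)).symm.trans (sb E26305 (iv1 F157940)))).symm
theorem E26396 : n91049 = n42133 := ((((iv7 F68166)).symm.trans (sb E26305 F157941))).symm
theorem E26399 : n186152 = n42291 := (((D42291).symm.trans (sb E26306 (iv5 F288884)))).symm
theorem E26400 : n41407 = n20503 := ((((iv7 F66842)).symm.trans (sb E26306 (iv7 D88685)))).symm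
theorem F290581 : act 0 n42646 = n42537 := (sb E26307 (iv1 F138597))
theorem E26401 : n92627 = n20128 := ((((iv6 D42646)).symm.trans (sb E26307 F142724))).symm
theorem F290582 : act 7 n42646 = n42292 := (sb E26307 F138595)
theorem E26402 : n186165 = n88510 := ((D186165).symm.trans (sb E26308 F139798))
theorem E26403 : n186166 = n93012 := ((D186166).symm.trans (sb E26308 F143463))
theorem E26404 : n186160 = n93017 := (((iv2 F288905)).symm.trans (sb E26308 F143460))
theorem E26405 : n104905 = n91377 := (((iv4 F160782)).symm.trans (sb E26308 (iv4 F140514)))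
theorem E26406 : n186167 = n92506 := ((D186167).symm.trans (sb E26308 (iv5 F142423)))
theorem E26407 : n92983 = n41408 := ((((iv6 D88690)).symm.trans (sb E26308 (iv6 F143396)))).symm
theorem E26408 : n47889 = n37185 := (((F58682).symm.trans (sb E26309 F138499))).symm
theorem E26409 : n42112 = n18141 := ((((iv5 D37843)).symm.trans (sb E26309 (iv5 D90096)))).symm
theorem E26410 : n48079 = n18142 := (((F58683).symm.trans (sb E26309 F138504))).symm
theorem E26411 : n186173 = n92507 := (((D92507).symm.trans (sb E26310 D186173))).symm
theorem F290583 : act 5 n43283 = n41410 := (sb E26310 (iv5 D88692))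
theorem E26412 : n186171 = n92508 := (((D92508).symm.trans (sb E26310 (iv6 F288913)))).symm
theorem E26413 : n20568 = n9180 := ((((iv1 D19504)).symm.trans (sb E26311 (iv1 D43498)))).symm
theorem E26414 : n88512 = n10841 := (((F31234).symm.trans (sb E26311 (iv0 F135521)))).symm
theorem E26415 : n44123 = n41409 := (((D41409).symm.trans (sb E26311 F69465))).symm
theorem F290584 : act 4 n90815 = n90468 := (sb E26312 F151119)
theorem E26417 : n10996 = n10817 := ((F66495).symm.trans (sb E26313 (iv1 F34334)))
theorem E26418 : n41319 = n10431 := (((iv0 F66518)).symm.trans (sb E26313 (iv0 D21872)))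
theorem F290585 : act 2 n20085 = n10828 := (sb E26313 F63525)
theorem E26419 : n43565 = n42526 := ((((iv3 F66006)).symm.trans (sb E26313 (iv3 F68455)))).symm
theorem E26420 : n41495 = n20602 := ((((iv5 F32934)).symm.trans (sb E26313 (iv5 F63976)))).symm
theorem E26421 : n43193 = n20769 := (((F32933).symm.trans (sb E26313 (iv6 F67647)))).symm
theorem F290586 : act 2 n90824 = n47648 := (sb E26314 F151121)
theorem E26423 : n186335 = n89020 := ((((iv5 F136658)).symm.trans (sb E26315 F289118))).symm
theorem F290587 : act 1 n19967 = n10828 := (sb E26316 F34336)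
theorem E26425 : n45753 = n42318 := ((((iv4 F65356)).symm.trans (sb E26316 (iv4 F72208)))).symm
theorem E26426 : n20443 = n10432 := ((F32479).symm.trans (sb E26316 F34333))
theorem E26427 : n41358 = n9421 := ((((iv6 D19967)).symm.trans (sb E26316 (iv6 F63757)))).symm
theorem E26428 : n9133 = n2073 := (((F7353).symm.trans (sb E26317 (iv3 D19446)))).symm
theorem E26429 : n41311 = n10830 := (((D10830).symm.trans (sb E26317 (iv4 F63637)))).symm
theorem E26430 : n19749 = n2031 := ((((iv5 D4936)).symm.trans (sb E26317 (iv5 F31513)))).symm
theorem E26432 : n44957 = n42264 := ((F72335).symm.trans (sb E26318 F69068))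
theorem E26433 : n90804 = n41366 := ((((iv0 F74929)).symm.trans (sb E26318 (iv0 F139781)))).symm
theorem E26434 : n88353 = n44955 := (((F70684).symm.trans (sb E26318 (iv2 F135315)))).symm
theorem E26435 : n87872 = n41793 := ((((iv5 F64452)).symm.trans (sb E26318 (iv5 F134878)))).symm
theorem E26436 : n47645 = n20816 := ((D47645).symm.trans (sb E26318 (iv6 D43932)))
theorem E26437 : n42235 = n41792 := (((F64449).symm.trans (sb E26318 F69067))).symm
theorem E26438 : n41494 = n19880 := (((iv1 F63971)).symm.trans (sb E26319 (iv1 F64684)))
theorem E26439 : n19746 = n10204 := (((F65754).symm.trans (sb E26319 (iv0 D41933)))).symm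
theorem E26440 : n89771 = n41808 := ((((iv4 F64465)).symm.trans (sb E26319 D89771))).symm
theorem E26441 : n41503 = n20466 := (((iv6 F64005)).symm.trans (sb E26319 (iv6 F64686)))
theorem E26444 : n47651 = n9139 := ((((iv0 F35648)).symm.trans (sb E26320 D47651))).symm
theorem E26445 : n43171 = n4490 := ((((iv5 D9886)).symm.trans (sb E26320 F67608))).symm
theorem F290588 : act 6 n9886 = n10828 := (sb E26320 (iv6 D22937))
theorem E26447 : n23293 = n9401 := ((F63003).symm.trans (sb E26321 (iv6 D19939)))
theorem F290589 : act 1 n42129 = n47648 := (sb E26322 (iv0 D102728))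
theorem F290590 : act 0 n42131 = n47648 := (sb E26323 (iv1 D102729))
theorem F290591 : act 0 n102730 = n52669 := (sb E26324 F177539)
theorem F290592 : act 1 n102730 = n114263 := (sb E26324 F178107)
theorem F290593 : act 2 n102730 = n114261 := (sb E26324 (iv2 F178101))
theorem F290594 : act 3 n102730 = n52633 := (sb E26324 (iv3 D114046))
theorem F290595 : act 5 n102730 = n94038 := (sb E26324 (iv5 F177537))
theorem F290596 : act 7 n102730 = n76354 := (sb E26324 (iv7 F193484))
theorem F290597 : act 3 n89550 = n114311 := (sb E26325 F178191)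
theorem E26448 : n91265 = n22879 := (((F69085).symm.trans (sb E26326 F158002))).symm
theorem E26451 : n90997 = n43936 := (((F69091).symm.trans (sb E26328 F158004))).symm
theorem E26452 : n186337 = n43225 := (((F69092).symm.trans (sb E26328 F289121))).symm
theorem E26455 : n92618 = n20475 := ((((iv1 F65692)).symm.trans (sb E26330 (iv1 F142692)))).symm
theorem E26456 : n93008 = n42225 := (((F65198).symm.trans (sb E26330 (iv0 F143444)))).symm
theorem E26457 : n100677 = n42237 := (((D42237).symm.trans (sb E26330 (iv5 F154785)))).symm
theorem F290598 : act 6 n19937 = n41815 := (sb E26330 F75669)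
theorem E26458 : n48224 = n47773 := (((iv1 F75806)).symm.trans (sb E26331 (iv1 F75130)))
theorem E26459 : n48227 = n44546 := (((iv2 F75813)).symm.trans (sb E26331 (iv2 F70060)))
theorem E26460 : n48287 = n11036 := (((iv3 F75897)).symm.trans (sb E26331 F36649))
theorem E26461 : n11047 = n10990 := (((F36540).symm.trans (sb E26331 F36650))).symm
theorem E26462 : n48292 = n45402 := (((iv5 F75900)).symm.trans (sb E26331 F71616))
theorem E26463 : n41926 = n11034 := (((iv6 F64672)).symm.trans (sb E26331 (iv6 D23529)))
theorem E26464 : n23549 = n10989 := ((((iv7 D23433)).symm.trans (sb E26331 (iv7 F36659)))).symm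
theorem E26465 : n104617 = n48225 := (((D48225).symm.trans (sb E26332 (iv3 F160294)))).symm
theorem E26466 : n23591 = n10975 := ((((iv4 D23374)).symm.trans (sb E26332 F76119))).symm
theorem E26467 : n48226 = n45401 := ((D48226).symm.trans (sb E26332 F76120))
theorem E26468 : n92941 = n19151 := (((F36498).symm.trans (sb E26332 F143327))).symm
theorem E26469 : n104709 = n48278 := (((D48278).symm.trans (sb E26333 D104709))).symm
theorem E26470 : n89903 = n48279 := (((D48279).symm.trans (sb E26333 (iv5 F138042)))).symm
theorem E26471 : n48280 = n23623 := ((D48280).symm.trans (sb E26333 F76115))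
theorem F290599 : act 5 n89840 = n47644 := (sb E26334 (iv5 D102718))
theorem E26474 : n48282 = n47846 := (((F137906).symm.trans (sb E26334 F157983))).symm
theorem E26475 : n92166 = n23551 := (((F69064).symm.trans (sb E26335 F157988))).symm
theorem E26476 : n91882 = n44625 := ((((iv5 F70157)).symm.trans (sb E26335 F157987))).symm
theorem F290600 : act 6 n43931 = n47644 := (sb E26335 (iv6 D102719))
theorem E26478 : n43674 = n10861 := ((((iv6 D23021)).symm.trans (sb E26336 (iv6 F75662)))).symm
theorem F290601 : act 7 n23021 = n47644 := (sb E26336 (iv7 F74927))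
theorem E26480 : n47640 = n20427 := ((((iv3 F32461)).symm.trans (sb E26343 D47640))).symm
theorem E26481 : n10826 = n4380 := (((F15142).symm.trans (sb E26343 (iv4 D22930)))).symm
theorem E26482 : n47642 = n4379 := ((((iv6 D9703)).symm.trans (sb E26343 D47642))).symm
theorem E26483 : n87301 = n20421 := (((F63550).symm.trans (sb E26344 F151085))).symm
theorem E26484 : n100888 = n42132 := (((D42132).symm.trans (sb E26344 (iv6 F155013)))).symm
theorem E26485 : n94063 = n41852 := (((F67874).symm.trans (sb E26345 F157932))).symm
theorem E26486 : n183912 = n92502 := (((D92502).symm.trans (sb E26345 (iv6 F285768)))).symm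
theorem E26487 : n82476 = n9348 := (((F63702).symm.trans (sb E26346 (iv1 F127074)))).symm
theorem E26489 : n20846 = n9248 := ((((iv3 D19703)).symm.trans (sb E26346 F69105))).symm
theorem E26490 : n41850 = n20839 := ((D41850).symm.trans (sb E26346 (iv5 D43956)))
theorem E26491 : n41851 = n40870 := ((D41851).symm.trans (sb E26346 F69106))
theorem E26492 : n48297 = n20420 := (((F63540).symm.trans (sb E26346 (iv7 F75912)))).symm
theorem F290602 : act 1 n43281 = n89550 := (sb E26347 F157934)
theorem E26493 : n92504 = n41841 := ((D92504).symm.trans (sb E26348 F134672))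
theorem E26494 : n46780 = n20823 := ((((iv0 F67881)).symm.trans (sb E26348 F134673))).symm
theorem E26495 : n46812 = n43494 := ((((iv5 F68353)).symm.trans (sb E26348 F134671))).symm
theorem E26496 : n92505 = n42521 := ((D92505).symm.trans (sb E26348 F134670))
theorem E26497 : n47696 = n41823 := ((((iv6 F64487)).symm.trans (sb E26349 (iv6 F151093)))).symm
theorem E26498 : n104864 = n41692 := (((F67866).symm.trans (sb E26350 (iv4 F160720)))).symm
theorem E26499 : n48253 = n21270 := ((((iv3 F63707)).symm.trans (sb E26351 (iv3 F76262)))).symm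
theorem E26500 : n87004 = n42111 := (((D42111).symm.trans (sb E26351 (iv5 F133533)))).symm
theorem E26501 : n84265 = n41816 := ((((iv6 F64482)).symm.trans (sb E26351 F133536))).symm
theorem F290603 : act 0 n43278 = n89550 := (sb E26352 F157935)
theorem E26502 : n44032 = n41873 := (((iv1 F69310)).symm.trans (sb E26353 (iv1 D89654)))
theorem E26503 : n46970 = n43528 := ((((iv0 F68405)).symm.trans (sb E26353 F137455))).symm
theorem E26505 : n21424 = n9264 := (((F35782).symm.trans (sb E26355 (iv1 F65687)))).symm
theorem E26506 : n45741 = n9356 := (((F15150).symm.trans (sb E26355 D45741))).symm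
theorem E26507 : n44007 = n20418 := ((((iv3 F32430)).symm.trans (sb E26355 (iv3 F69232)))).symm
theorem E26508 : n20445 = n10429 := (((iv5 F32483)).symm.trans (sb E26355 (iv5 D21865)))
theorem E26509 : n45743 = n9383 := (((F15147).symm.trans (sb E26355 D45743))).symm
theorem E26510 : n46956 = n20400 := ((((iv1 F32408)).symm.trans (sb E26357 F154783))).symm
theorem E26512 : n46785 = n20439 := (((D20439).symm.trans (sb E26358 (iv4 F73899)))).symm
theorem E26513 : n20440 = n19598 := ((D20440).symm.trans (sb E26358 F34986))
theorem E26514 : n20441 = n10667 := ((D20441).symm.trans (sb E26358 (iv6 D22443)))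
theorem E26515 : n11048 = n4189 := ((((iv3 D9260)).symm.trans (sb E26359 F65721))).symm
theorem E26516 : n47622 = n19739 := (((D19739).symm.trans (sb E26359 D47622))).symm
theorem E26517 : n19740 = n19679 := ((D19740).symm.trans (sb E26359 (iv5 F35985)))
theorem E26519 : n44849 = n19728 := ((((iv1 F63710)).symm.trans (sb E26360 F70450))).symm
theorem E26520 : n47609 = n40686 := (((F61801).symm.trans (sb E26360 D47609))).symm
theorem E26521 : n44951 = n40689 := ((((iv2 F61798)).symm.trans (sb E26360 (iv2 F70670)))).symm
theorem E26522 : n42108 = n10819 := (((iv5 F65026)).symm.trans (sb E26360 (iv5 D22905)))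
theorem E26523 : n47611 = n20384 := ((((iv6 F32364)).symm.trans (sb E26360 D47611))).symm
theorem E26524 : n44953 = n9342 := ((((iv7 D19856)).symm.trans (sb E26360 (iv7 F70678)))).symm
theorem E26525 : n42154 = n10820 := (((D10820).symm.trans (sb E26361 (iv4 F65068)))).symm
theorem F290604 : act 5 n4934 = n9359 := (sb E26361 F31724)
theorem E26526 : n19976 = n10822 := (((D10822).symm.trans (sb E26361 (iv6 F31805)))).symm
theorem E26527 : n10430 = n9358 := ((F66821).symm.trans (sb E26361 (iv7 D19890)))
theorem E26528 : n46478 = n9381 := ((((iv1 F15084)).symm.trans (sb E26362 F73411))).symm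
theorem E26529 : n46793 = n8945 := (((F35684).symm.trans (sb E26362 F73918))).symm
theorem E26532 : n20347 = n1804 := ((((iv6 D4243)).symm.trans (sb E26363 (iv6 F34328)))).symm
theorem E26533 : n92513 = n47498 := (((iv1 F142443)).symm.trans (sb E26364 (iv1 D102368)))
theorem E26534 : n92512 = n47665 := ((F142442).symm.trans (sb E26364 F157164))
theorem E26535 : n92541 = n47637 := (((iv5 F142526)).symm.trans (sb E26364 F157165))
theorem E26536 : n92636 = n9242 := ((((iv4 D19686)).symm.trans (sb E26367 F153092))).symm
theorem E26537 : n102882 = n41819 := (((D41819).symm.trans (sb E26367 (iv5 F158183)))).symm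
theorem E26538 : n46479 = n41820 := (((D41820).symm.trans (sb E26367 (iv6 D99400)))).symm
theorem E26541 : n183914 = n42185 := (((D42185).symm.trans (sb E26368 (iv6 F285773)))).symm
theorem E26546 : n47676 = n9352 := (((D9352).symm.trans (sb E26371 F74962))).symm
theorem E26548 : n91304 = n10342 := (((F35853).symm.trans (sb E26372 D91304))).symm
theorem E26549 : n48244 = n21289 := ((((iv2 F63263)).symm.trans (sb E26372 (iv2 F75842)))).symm
theorem E26550 : n91300 = n9303 := ((((iv3 D19805)).symm.trans (sb E26372 (iv3 F140370)))).symm
theorem E26551 : n20175 = n9306 := (((F31576).symm.trans (sb E26372 F66936))).symm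
theorem E26552 : n91305 = n42008 := (((D42008).symm.trans (sb E26372 D91305))).symm
theorem E26553 : n42009 = n20174 := ((D42009).symm.trans (sb E26372 (iv6 D42733)))
theorem E26555 : n48218 = n10328 := ((((iv4 D21623)).symm.trans (sb E26373 F157874))).symm
theorem E26556 : n104319 = n45353 := (((D45353).symm.trans (sb E26373 (iv5 F159946)))).symm
theorem E26557 : n88404 = n42003 := ((((iv6 F64815)).symm.trans (sb E26373 (iv6 F157876)))).symm
theorem E26558 : n48288 = n45404 := ((((iv5 F71625)).symm.trans (sb E26374 F148120))).symm
theorem E26559 : n48289 = n21314 := ((((iv7 D44749)).symm.trans (sb E26375 F157879))).symm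
theorem E26560 : n43722 = n9303 := ((((iv1 D19804)).symm.trans (sb E26376 (iv1 D93496)))).symm
theorem E26562 : n91683 = n4621 := ((((iv6 D10172)).symm.trans (sb E26377 F148126))).symm
theorem E26567 : n91075 = n90793 := ((((iv4 F139736)).symm.trans (sb E26379 (iv4 F140116)))).symm
theorem F290605 : act 0 n9457 = n4936 := (sb E26380 (iv1 D10829))
theorem F290606 : act 2 n9457 = n19680 := (sb E26380 (iv2 F63521))
theorem E26570 : n22939 = n20076 := ((((iv3 F31897)).symm.trans (sb E26380 D22939))).symm
theorem E26571 : n20084 = n19535 := ((D20084).symm.trans (sb E26380 (iv5 F31271)))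
theorem E26572 : n22556 = n4284 := ((((iv6 D9457)).symm.trans (sb E26380 (iv6 F63750)))).symm
theorem F290607 : act 2 n42536 = n89550 := (sb E26381 (iv2 F137277))
theorem E26573 : n102358 = n90823 := (((D90823).symm.trans (sb E26381 (iv4 F157157)))).symm
theorem E26575 : n100524 = n19952 := (((F65638).symm.trans (sb E26382 (iv1 F154582)))).symm
theorem E26576 : n43515 = n20056 := (((F31887).symm.trans (sb E26382 (iv0 F74146)))).symm
theorem E26577 : n100614 = n20078 := (((D20078).symm.trans (sb E26382 D100614))).symm
theorem E26579 : n104942 = n43521 := (((F142988).symm.trans (sb E26383 F288911))).symm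
theorem E26580 : n104895 = n47187 := (((F142981).symm.trans (sb E26383 F288910))).symm
theorem F290608 : act 7 n92735 = n88690 := (sb E26383 (iv7 D186168))
theorem E26581 : n42648 = n42445 := ((((iv1 F68882)).symm.trans (sb E26384 (iv1 F127096)))).symm
theorem E26582 : n47580 = n42647 := (((iv0 F74832)).symm.trans (sb E26384 F127097))
theorem F290609 : act 2 n43826 = n42649 := (sb E26384 F127093)
theorem E26583 : n81426 = n44952 := ((((iv3 F70673)).symm.trans (sb E26384 F127094))).symm
theorem E26584 : n43269 = n37844 := ((F68881).symm.trans (sb E26384 F127095))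
theorem E26585 : n87299 = n20748 := ((((iv6 D43826)).symm.trans (sb E26384 (iv6 F134022)))).symm
theorem F290610 : act 7 n43826 = n37843 := (sb E26384 (iv7 D82479))
theorem E26586 : n99941 = n90145 := (((D90145).symm.trans (sb E26385 F288917))).symm
theorem E26589 : n87298 = n19960 := (((F66847).symm.trans (sb E26386 F157945))).symm
theorem F290611 : act 0 n91067 = n185427 := (sb E26387 (iv1 F287678))
theorem F290612 : act 1 n91067 = n88325 := (sb E26387 (iv0 F151070))
theorem F290613 : act 2 n91067 = n177857 := (sb E26387 (iv2 F289805))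
theorem E26590 : n45740 = n42659 := (((F140107).symm.trans (sb E26387 F151068))).symm
theorem F290614 : act 4 n91067 = n90434 := (sb E26387 F151069)
theorem F290615 : act 5 n91067 = n98369 := (sb E26387 (iv5 F151788))
theorem E26591 : n92538 = n45738 := (((iv6 F142516)).symm.trans (sb E26387 (iv6 D97994)))
theorem E26592 : n185425 = n42654 := ((((iv7 D91067)).symm.trans (sb E26387 F287673))).symm
theorem E26593 : n88682 = n43385 := ((((iv7 F68170)).symm.trans (sb E26388 (iv7 D186146)))).symm
theorem F290616 : act 0 n46656 = n37843 := (sb E26389 (iv1 D82478))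
theorem F290617 : act 1 n46656 = n42649 := (sb E26389 F127085)
theorem E26594 : n42271 = n22372 := (((F73731).symm.trans (sb E26389 (iv3 F127087)))).symm
theorem E26595 : n45750 = n42215 := (((F73732).symm.trans (sb E26389 F127090))).symm
theorem E26596 : n92483 = n41736 := (((iv5 F142341)).symm.trans (sb E26389 (iv5 F127088)))
theorem E26597 : n43513 = n22369 := ((((iv6 D46656)).symm.trans (sb E26389 (iv6 F127092)))).symm
theorem E26598 : n21360 = n10987 := ((((iv3 D23420)).symm.trans (sb E26390 F70397))).symm
theorem E26599 : n45749 = n42451 := ((F72211).symm.trans (sb E26390 F70398))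
theorem E26600 : n46845 = n44003 := ((((iv5 F69219)).symm.trans (sb E26390 (iv5 F74029)))).symm
theorem E26601 : n48267 = n21348 := ((D48267).symm.trans (sb E26390 (iv6 D44818)))
theorem E26602 : n11012 = n10673 := (((iv1 F35690)).symm.trans (sb E26391 F35546))
theorem E26603 : n22042 = n19973 := (((F31969).symm.trans (sb E26391 (iv0 F34521)))).symm
theorem E26604 : n19708 = n9736 := (((F31966).symm.trans (sb E26391 F34325))).symm
theorem E26606 : n37842 = n19862 := (((iv1 F58680)).symm.trans (sb E26392 F67917))
theorem E26607 : n43270 = n10978 := (((F66562).symm.trans (sb E26392 F67918))).symm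
theorem E26608 : n43295 = n22384 := ((((iv4 F34936)).symm.trans (sb E26392 F67919))).symm
theorem E26609 : n89624 = n19375 := ((((iv6 F35622)).symm.trans (sb E26392 D89624))).symm
theorem E26610 : n43268 = n9730 := ((((iv7 D20496)).symm.trans (sb E26392 F67931))).symm
theorem E26611 : n87297 = n20751 := ((((iv1 F33051)).symm.trans (sb E26393 (iv1 F133998)))).symm
theorem F290618 : act 6 n20895 = n42649 := (sb E26393 F67829)
theorem E26613 : n20417 = n10824 := (((F66840).symm.trans (sb E26393 (iv7 D43263)))).symm
theorem E26614 : n46840 = n9499 := ((((iv6 D20129)).symm.trans (sb E26394 F139588))).symm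
theorem E26616 : n102367 = n43285 := (((D43285).symm.trans (sb E26395 (iv4 F157162)))).symm
theorem F290619 : act 5 n42133 = n42646 := (sb E26396 (iv5 D91049))
theorem E26618 : n186419 = n90143 := (((D90143).symm.trans (sb E26396 (iv6 F289205)))).symm
theorem E26626 : n89617 = n43967 := ((((iv1 F69118)).symm.trans (sb E26399 (iv1 F288885)))).symm
theorem E26627 : n90435 = n89607 := ((D90435).symm.trans (sb E26399 F288886))
theorem E26628 : n98374 = n90436 := (((D90436).symm.trans (sb E26399 F288883))).symm
theorem E26629 : n88684 = n43386 := ((((iv7 F68172)).symm.trans (sb E26399 (iv7 D186152)))).symm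
theorem E26630 : n43387 = n19503 := ((D43387).symm.trans (sb E26400 (iv6 D41407)))
theorem E26631 : n43331 = n19477 := (((F31958).symm.trans (sb E26401 (iv1 D92627)))).symm
theorem E26632 : n43500 = n19507 := (((F31959).symm.trans (sb E26401 F142721))).symm
theorem E26633 : n94166 = n41451 := ((((iv5 F63896)).symm.trans (sb E26401 (iv5 F145159)))).symm
theorem F290620 : act 1 n88510 = n88690 := (sb E26402 (iv0 D186165))
theorem E26634 : n104892 = n41315 := ((((iv3 D88510)).symm.trans (sb E26402 F288907))).symm
theorem F290621 : act 0 n93012 = n88690 := (sb E26403 (iv1 D186166))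
theorem F290622 : act 2 n93017 = n88690 := (sb E26404 F288905)
theorem F290623 : act 6 n93017 = n88688 := (sb E26404 (iv6 D186160))
theorem E26635 : n48495 = n42761 := ((((iv3 D91377)).symm.trans (sb E26405 (iv3 D104905)))).symm
theorem F290624 : act 4 n91377 = n88690 := (sb E26405 F160782)
theorem F290625 : act 6 n91377 = n48545 := (sb E26405 F160783)
theorem F290626 : act 5 n92506 = n88690 := (sb E26406 (iv5 D186167))
theorem E26636 : n88686 = n43969 := ((D88686).symm.trans (sb E26407 F143398))
theorem E26637 : n94411 = n88689 := (((D88689).symm.trans (sb E26407 (iv5 F145571)))).symm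
theorem E26639 : n81425 = n46661 := ((D81425).symm.trans (sb E26408 (iv1 F75197)))
theorem E26640 : n23425 = n23057 := (((iv0 F67686)).symm.trans (sb E26408 (iv0 D47889)))
theorem E26641 : n46659 = n19950 := (((F58139).symm.trans (sb E26408 (iv2 F75196)))).symm
theorem E26642 : n44669 = n17882 := ((((iv5 D37185)).symm.trans (sb E26408 F75195))).symm
theorem E26643 : n97467 = n17883 := (((F58140).symm.trans (sb E26408 (iv6 F150240)))).symm
theorem E26644 : n43294 = n22234 := ((((iv4 F34687)).symm.trans (sb E26409 (iv4 F67927)))).symm
theorem E26645 : n90097 = n8554 := ((((iv6 D18141)).symm.trans (sb E26409 D90097))).symm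
theorem E26646 : n23203 = n19046 := ((((iv1 F30554)).symm.trans (sb E26410 (iv1 D48079)))).symm
theorem E26647 : n46153 = n20419 := (((F32435).symm.trans (sb E26410 F75544))).symm
theorem E26648 : n45485 = n8555 := ((((iv5 D18142)).symm.trans (sb E26410 F75547))).symm
theorem F290627 : act 5 n92507 = n99942 := (sb E26411 F288914)
theorem E26650 : n94413 = n88691 := (((iv5 F145579)).symm.trans (sb E26412 (iv5 D186171)))
theorem E26651 : n43493 = n19505 := (((D19505).symm.trans (sb E26413 (iv3 F68352)))).symm
theorem E26652 : n9754 = n4131 := ((((iv4 D9180)).symm.trans (sb E26413 F32660))).symm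
theorem E26653 : n43499 = n19506 := (((D19506).symm.trans (sb E26413 D43499))).symm
theorem E26654 : n10676 = n9752 := (((iv6 F17219)).symm.trans (sb E26413 (iv6 D20568)))
theorem E26655 : n185838 = n22960 := (((D22960).symm.trans (sb E26414 (iv3 F288230)))).symm
theorem E26656 : n41316 = n4944 := ((((iv4 D10841)).symm.trans (sb E26414 F135519))).symm
theorem E26658 : n41315 = n22962 := (((D22962).symm.trans (sb E26414 (iv6 D88512)))).symm
theorem E26659 : n22951 = n20967 := ((F63855).symm.trans (sb E26415 (iv1 D44123)))
theorem E26660 : n22956 = n20986 := ((F63856).symm.trans (sb E26415 F69464))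
theorem E26661 : n94412 = n75309 := ((((iv4 F112910)).symm.trans (sb E26415 D94412))).symm
theorem F290628 : act 1 n10817 = n20085 := (sb E26417 (iv0 F66495))
theorem F290629 : act 2 n10817 = n19967 := (sb E26417 (iv2 F66492))
theorem E26663 : n5050 = n5009 := ((F17368).symm.trans (sb E26417 F17849))
theorem E26664 : n23450 = n22895 := (((D22895).symm.trans (sb E26417 (iv4 F36551)))).symm
theorem E26665 : n19752 = n4933 := ((((iv5 D10817)).symm.trans (sb E26417 (iv5 F31522)))).symm
theorem E26666 : n19697 = n5006 := (((iv6 F31447)).symm.trans (sb E26417 (iv6 D10996)))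
theorem F290630 : act 0 n10431 = n20085 := (sb E26418 F66518)
theorem E26667 : n88505 = n21873 := (((D21873).symm.trans (sb E26418 (iv4 F135498)))).symm
theorem E26668 : n19887 = n4724 := ((((iv5 D10431)).symm.trans (sb E26418 (iv5 F66544)))).symm
theorem E26669 : n43333 = n4725 := (((F16604).symm.trans (sb E26418 F68025))).symm
theorem F290631 : act 7 n10431 = n19967 := (sb E26418 F66520)
theorem E26670 : n43828 = n43372 := (((F134003).symm.trans (sb E26419 (iv1 F68891)))).symm
theorem E26671 : n42776 = n20609 := ((F134004).symm.trans (sb E26419 (iv0 D43565)))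
theorem E26672 : n48231 = n43827 := (((iv2 F75823)).symm.trans (sb E26419 F68884))
theorem E26673 : n90797 = n42336 := (((iv4 F139748)).symm.trans (sb E26419 F68454))
theorem E26674 : n88872 = n43543 := ((((iv5 F68437)).symm.trans (sb E26419 (iv5 F136292)))).symm
theorem E26675 : n92365 = n40547 := ((((iv6 F66297)).symm.trans (sb E26419 (iv6 F142041)))).symm
theorem F290632 : act 2 n20602 = n19681 := (sb E26420 F63975)
theorem E26676 : n88882 = n43546 := ((((iv4 F68441)).symm.trans (sb E26420 (iv4 F136333)))).symm
theorem E26677 : n19696 = n9761 := ((((iv6 D20602)).symm.trans (sb E26420 F63977))).symm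
theorem E26678 : n48493 = n19442 := ((((iv1 F35612)).symm.trans (sb E26421 (iv1 F138672)))).symm
theorem E26680 : n20370 = n9870 := ((((iv5 D20769)).symm.trans (sb E26421 (iv5 D43193)))).symm
theorem E26683 : n90769 = n88765 := (((iv1 F139692)).symm.trans (sb E26423 (iv1 D186335)))
theorem E26684 : n22943 = n20038 := (((F67897).symm.trans (sb E26425 (iv1 F72210)))).symm
theorem E26685 : n88504 = n22942 := ((F135496).symm.trans (sb E26425 F72218))
theorem E26687 : n98027 = n43876 := (((F68980).symm.trans (sb E26425 (iv5 F151155)))).symm
theorem E26688 : n88613 = n19965 := ((((iv6 D42318)).symm.trans (sb E26425 (iv6 F135807)))).symm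
theorem E26689 : n9706 = n4935 := ((((iv1 F16609)).symm.trans (sb E26426 (iv1 D20443)))).symm
theorem E26690 : n43292 = n21861 := ((((iv4 F34318)).symm.trans (sb E26426 D43292))).symm
theorem F290633 : act 5 n10432 = n19967 := (sb E26426 (iv5 F32479))
theorem E26692 : n19966 = n19473 := ((D19966).symm.trans (sb E26427 F63756))
theorem E26694 : n9545 = n5061 := (((D5061).symm.trans (sb E26428 F15269))).symm
theorem E26695 : n5062 = n4310 := ((D5062).symm.trans (sb E26428 F15270))
theorem E26696 : n5063 = n4096 := ((D5063).symm.trans (sb E26428 (iv4 D9133)))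
theorem E26697 : n9268 = n1028 := ((((iv5 D2073)).symm.trans (sb E26428 F15271))).symm
theorem E26698 : n9802 = n1030 := (((F3373).symm.trans (sb E26428 F15305))).symm
theorem E26699 : n22944 = n19441 := ((D22944).symm.trans (sb E26429 (iv3 D41311)))
theorem E26701 : n43449 = n4945 := (((F17372).symm.trans (sb E26429 F68305))).symm
theorem E26702 : n41939 = n4922 := ((((iv4 F7346)).symm.trans (sb E26430 D41939))).symm
theorem E26703 : n41940 = n1017 := ((((iv6 D2031)).symm.trans (sb E26430 D41940))).symm
theorem E26706 : n88625 = n87732 := (((F134682).symm.trans (sb E26432 (iv1 F135843)))).symm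
theorem F290634 : act 1 n42264 = n22935 := (sb E26432 (iv0 F72335))
theorem E26707 : n88626 = n81424 := ((((iv2 F125243)).symm.trans (sb E26432 (iv2 F135850)))).symm
theorem E26708 : n21503 = n20208 := (((F66621).symm.trans (sb E26432 F70688))).symm
theorem E26709 : n48268 = n44536 := ((((iv4 F70053)).symm.trans (sb E26432 (iv4 F75881)))).symm
theorem E26710 : n41919 = n21467 := (((iv5 F66623)).symm.trans (sb E26432 F70689))
theorem E26711 : n44672 = n19948 := ((((iv6 D42264)).symm.trans (sb E26432 F70690))).symm
theorem E26712 : n90085 = n21466 := (((iv7 F138474)).symm.trans (sb E26432 (iv7 D44957)))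
theorem E26713 : n42523 = n20750 := (((F63784).symm.trans (sb E26433 (iv3 D90804)))).symm
theorem E26714 : n48269 = n47898 := ((F75885).symm.trans (sb E26433 F139782))
theorem E26716 : n43485 = n19483 := ((((iv6 D41366)).symm.trans (sb E26433 F139784))).symm
theorem E26717 : n89720 = n44847 := ((((iv5 F72331)).symm.trans (sb E26434 (iv5 F137709)))).symm
theorem E26718 : n96291 = n41243 := ((D96291).symm.trans (sb E26434 (iv6 D88353)))
theorem E26719 : n42102 = n41987 := ((((iv1 F69726)).symm.trans (sb E26435 F134879))).symm
theorem E26720 : n42103 = n21916 := (((F72333).symm.trans (sb E26435 F134880))).symm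
theorem E26721 : n89494 = n48129 := (((iv4 F137181)).symm.trans (sb E26435 F134877))
theorem E26722 : n88885 = n40995 := (((iv6 F136349)).symm.trans (sb E26435 (iv6 D87872)))
theorem E26724 : n102720 = n41245 := ((((iv1 F66288)).symm.trans (sb E26436 D102720))).symm
theorem E26726 : n87082 = n9884 := ((((iv5 D20816)).symm.trans (sb E26436 F133689))).symm
theorem F290635 : act 6 n20816 = n22935 := (sb E26436 (iv6 D47645))
theorem F290636 : act 4 n41792 = n23021 := (sb E26437 F65226)
theorem E26728 : n48151 = n19936 := (((iv6 F75658)).symm.trans (sb E26437 (iv6 D42235)))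
theorem F290637 : act 1 n19880 = n19681 := (sb E26438 F63971)
theorem E26729 : n88854 = n42140 := (((D42140).symm.trans (sb E26438 (iv4 F136239)))).symm
theorem E26730 : n22045 = n20062 := (((F31889).symm.trans (sb E26438 (iv6 F63973)))).symm
theorem E26731 : n9266 = n4636 := (((F16042).symm.trans (sb E26439 F31507))).symm
theorem E26732 : n41934 = n21418 := ((((iv4 F33632)).symm.trans (sb E26439 D41934))).symm
theorem E26733 : n20125 = n4633 := ((((iv6 D10204)).symm.trans (sb E26439 (iv6 F35786)))).symm
theorem E26734 : n90777 = n88880 := ((((iv1 F136323)).symm.trans (sb E26440 F139714))).symm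
theorem E26736 : n88894 = n43339 := (((iv6 F136373)).symm.trans (sb E26440 F137772))
theorem E26738 : n19564 = n9715 := ((((iv1 D20466)).symm.trans (sb E26441 (iv1 F64006)))).symm
theorem E26739 : n19693 = n9763 := (((F32517).symm.trans (sb E26441 F64007))).symm
theorem E26740 : n22441 = n9887 := ((((iv5 F32518)).symm.trans (sb E26441 F64004))).symm
theorem F290638 : act 6 n20466 = n19681 := (sb E26441 F64005)
theorem E26741 : n19540 = n9760 := (((F35776).symm.trans (sb E26441 (iv7 D41503)))).symm
theorem E26745 : n23661 = n4101 := (((F14231).symm.trans (sb E26444 F138675))).symm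
theorem E26747 : n47715 = n4099 := ((((iv6 D9139)).symm.trans (sb E26444 (iv6 F74993)))).symm
theorem E26748 : n20363 = n9872 := ((((iv1 F15526)).symm.trans (sb E26445 (iv1 D43171)))).symm
theorem E26749 : n20371 = n1876 := ((((iv0 D4490)).symm.trans (sb E26445 F67605))).symm
theorem E26750 : n90996 = n9885 := (((D9885).symm.trans (sb E26445 F140034))).symm
theorem E26751 : n20369 = n9871 := ((((iv7 F35739)).symm.trans (sb E26445 F67606))).symm
theorem E26753 : n22270 = n4264 := ((((iv1 D9401)).symm.trans (sb E26447 (iv1 F62702)))).symm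
theorem E26754 : n10947 = n4286 := (((F14618).symm.trans (sb E26447 (iv0 D23293)))).symm
theorem E26755 : n19938 = n19676 := ((D19938).symm.trans (sb E26447 F63002))
theorem F290639 : act 6 n9401 = n19680 := (sb E26447 (iv6 F63003))
theorem E26756 : n90999 = n42431 := (((F65860).symm.trans (sb E26448 (iv1 F159496)))).symm
theorem E26757 : n42720 = n10816 := (((F35576).symm.trans (sb E26448 F140336))).symm
theorem E26759 : n42717 = n22338 := (((F35577).symm.trans (sb E26448 (iv6 D91265)))).symm
theorem E26764 : n42623 = n20819 := ((((iv5 D43936)).symm.trans (sb E26451 (iv5 D90997)))).symm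
theorem E26765 : n88766 = n20391 := ((((iv5 D43225)).symm.trans (sb E26452 F289120))).symm
theorem E26767 : n43326 = n10600 := (((F32537).symm.trans (sb E26455 (iv4 D92618)))).symm
theorem E26768 : n99408 = n43354 := (((D43354).symm.trans (sb E26455 (iv5 F153102)))).symm
theorem E26769 : n43512 = n42427 := (((F65869).symm.trans (sb E26456 (iv4 D93008)))).symm
theorem E26770 : n99409 = n90325 := (((D90325).symm.trans (sb E26456 (iv5 F153108)))).symm
theorem E26772 : n90330 = n46958 := (((iv1 F138970)).symm.trans (sb E26457 (iv1 F154786)))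
theorem E26773 : n90329 = n46955 := ((F138967).symm.trans (sb E26457 (iv0 D100677)))
theorem F290640 : act 0 n47773 = n23374 := (sb E26458 (iv1 D48224))
theorem F290641 : act 1 n47773 = n23433 := (sb E26458 F75806)
theorem E26774 : n104218 = n100171 := ((((iv3 F154119)).symm.trans (sb E26458 D104218))).symm
theorem E26775 : n104219 = n89839 := ((((iv5 F137902)).symm.trans (sb E26458 D104219))).symm
theorem E26776 : n43707 = n22983 := ((((iv6 D47773)).symm.trans (sb E26458 F75809))).symm
theorem F290642 : act 7 n47773 = n23429 := (sb E26458 F75807)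
theorem F290643 : act 1 n44546 = n23429 := (sb E26459 F75816)
theorem F290644 : act 2 n44546 = n23433 := (sb E26459 F75813)
theorem E26777 : n104224 = n95372 := ((((iv3 F147004)).symm.trans (sb E26459 (iv3 F159799)))).symm
theorem E26778 : n23375 = n21187 := (((F70061).symm.trans (sb E26459 F75814))).symm
theorem E26779 : n101453 = n44747 := (((F70339).symm.trans (sb E26459 (iv5 F156269)))).symm
theorem E26780 : n89700 = n21185 := ((((iv6 D44546)).symm.trans (sb E26459 (iv6 F137652)))).symm
theorem F290645 : act 7 n44546 = n23374 := (sb E26459 (iv7 D48227))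
theorem E26781 : n104339 = n23534 := (((D23534).symm.trans (sb E26460 (iv1 F159964)))).symm
theorem E26783 : n104327 = n23519 := ((((iv2 F36629)).symm.trans (sb E26460 F159955))).symm
theorem F290646 : act 3 n11036 = n23433 := (sb E26460 F75897)
theorem E26784 : n23499 = n5030 := (((F17901).symm.trans (sb E26460 F75898))).symm
theorem E26785 : n104345 = n23536 := (((D23536).symm.trans (sb E26460 (iv5 F159969)))).symm
theorem E26786 : n48367 = n5028 := ((((iv6 D11036)).symm.trans (sb E26460 (iv6 F76024)))).symm
theorem E26787 : n23431 = n11039 := ((((iv7 F17904)).symm.trans (sb E26460 (iv7 D48287)))).symm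
theorem E26788 : n23373 = n22993 := (((iv1 F36495)).symm.trans (sb E26461 (iv1 F66783)))
theorem E26789 : n23372 = n23066 := ((F36502).symm.trans (sb E26461 (iv0 F66784)))
theorem E26790 : n5036 = n5018 := (((F17844).symm.trans (sb E26461 F17912))).symm
theorem E26791 : n19825 = n5004 := (((F17845).symm.trans (sb E26461 (iv5 F31614)))).symm
theorem E26792 : n19735 = n5034 := (((iv6 F31493)).symm.trans (sb E26461 (iv6 D11047)))
theorem E26795 : n101254 = n97012 := ((((iv4 F149629)).symm.trans (sb E26462 (iv4 F156002)))).symm
theorem F290647 : act 5 n45402 = n23433 := (sb E26462 F75900)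
theorem E26797 : n44746 = n23432 := ((F71619).symm.trans (sb E26462 (iv7 D48292)))
theorem E26800 : n89755 = n23528 := (((D23528).symm.trans (sb E26463 (iv5 F137746)))).symm
theorem F290648 : act 6 n11034 = n23433 := (sb E26463 F64672)
theorem E26801 : n19734 = n11067 := ((((iv7 F17934)).symm.trans (sb E26463 (iv7 D41926)))).symm
theorem F290649 : act 1 n10989 = n23021 := (sb E26464 (iv0 F66681))
theorem E26802 : n48055 = n9111 := (((F17843).symm.trans (sb E26464 F75515))).symm
theorem E26803 : n104609 = n104220 := (((D104220).symm.trans (sb E26465 (iv1 F160300)))).symm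
theorem E26804 : n104608 = n104221 := (((D104221).symm.trans (sb E26465 F160298))).symm
theorem E26805 : n104222 = n48380 := ((D104222).symm.trans (sb E26465 (iv2 D104617)))
theorem E26806 : n104223 = n97141 := ((D104223).symm.trans (sb E26465 F160296))
theorem E26808 : n45016 = n8998 := (((F17834).symm.trans (sb E26466 (iv6 F70806)))).symm
theorem E26809 : n101455 = n97011 := ((((iv4 F149623)).symm.trans (sb E26467 (iv4 F156274)))).symm
theorem F290650 : act 5 n45401 = n23374 := (sb E26467 (iv5 D48226))
theorem E26810 : n104226 = n97142 := (((D97142).symm.trans (sb E26467 D104226))).symm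
theorem E26811 : n43479 = n19484 := ((((iv1 F31177)).symm.trans (sb E26468 (iv1 D92941)))).symm
theorem E26812 : n45473 = n19842 := (((F31653).symm.trans (sb E26468 F143324))).symm
theorem E26813 : n94378 = n40539 := (((D40539).symm.trans (sb E26468 (iv5 F145511)))).symm
theorem E26815 : n91072 = n88374 := (((iv4 F140110)).symm.trans (sb E26469 F160396))
theorem E26816 : n104318 = n48472 := ((D104318).symm.trans (sb E26469 F160397))
theorem F290651 : act 2 n48279 = n89840 := (sb E26470 (iv2 F138043))
theorem E26817 : n104320 = n96025 := ((D104320).symm.trans (sb E26470 (iv6 F147649)))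
theorem F290652 : act 6 n23623 = n23429 := (sb E26471 (iv6 D48280))
theorem E26822 : n103250 = n101424 := ((D103250).symm.trans (sb E26474 (iv4 F156251)))
theorem E26824 : n43096 = n11040 := (((F36662).symm.trans (sb E26475 F141751))).symm
theorem E26826 : n42948 = n21338 := ((((iv1 F70160)).symm.trans (sb E26476 (iv1 D91882)))).symm
theorem E26828 : n20664 = n4951 := ((((iv1 D10861)).symm.trans (sb E26478 (iv1 D43674)))).symm
theorem E26829 : n41051 = n22985 := (((F36042).symm.trans (sb E26478 F68631))).symm
theorem E26830 : n93373 = n23020 := (((D23020).symm.trans (sb E26478 D93373))).symm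
theorem E26834 : n102697 = n41519 := ((((iv4 F64050)).symm.trans (sb E26480 (iv4 F157953)))).symm
theorem E26836 : n22925 = n9696 := ((((iv3 F15129)).symm.trans (sb E26481 (iv3 F35991)))).symm
theorem E26837 : n22931 = n1844 := ((((iv6 D4380)).symm.trans (sb E26481 D22931))).symm
theorem E26839 : n41445 = n4815 := ((((iv0 F7308)).symm.trans (sb E26482 F136019))).symm
theorem E26844 : n90403 = n21894 := (((F63551).symm.trans (sb E26483 (iv3 F139119)))).symm
theorem E26845 : n43266 = n40553 := ((D43266).symm.trans (sb E26483 (iv5 D87301)))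
theorem E26846 : n47025 = n43267 := (((D43267).symm.trans (sb E26483 F134033))).symm
theorem E26847 : n47936 = n43539 := ((((iv1 F73955)).symm.trans (sb E26484 F155016))).symm
theorem E26848 : n47938 = n43547 := ((((iv0 F137196)).symm.trans (sb E26484 F155017))).symm
theorem E26849 : n99344 = n90139 := (((D90139).symm.trans (sb E26484 F155015))).symm
theorem E26850 : n87733 = n43946 := ((((iv7 F69078)).symm.trans (sb E26484 F155014))).symm
theorem E26852 : n90336 = n89612 := (((D89612).symm.trans (sb E26485 F144919))).symm
theorem F290653 : act 7 n92502 = n90800 := (sb E26486 F285769)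
theorem E26855 : n42268 = n10444 := ((((iv3 F16635)).symm.trans (sb E26487 F127072))).symm
theorem E26863 : n19705 = n9892 := ((D19705).symm.trans (sb E26489 (iv5 D20846)))
theorem E26864 : n19934 = n19706 := (((D19706).symm.trans (sb E26489 F32998))).symm
theorem E26866 : n89608 = n43954 := (((D43954).symm.trans (sb E26490 D89608))).symm
theorem E26867 : n89609 = n40402 := ((((iv0 F74584)).symm.trans (sb E26490 D89609))).symm
theorem E26868 : n89610 = n41601 := ((((iv4 F65934)).symm.trans (sb E26490 D89610))).symm
theorem F290654 : act 5 n20839 = n19703 := (sb E26490 (iv5 D41850))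
theorem E26869 : n42629 = n9889 := ((((iv6 D20839)).symm.trans (sb E26490 (iv6 F66465)))).symm
theorem E26870 : n43957 = n43265 := ((D43957).symm.trans (sb E26490 (iv7 F67836)))
theorem E26871 : n87729 = n46843 := ((D87729).symm.trans (sb E26491 (iv1 F74024)))
theorem E26872 : n42765 = n21349 := ((F75288).symm.trans (sb E26491 F70404))
theorem F290655 : act 4 n40870 = n43282 := (sb E26491 (iv4 F67880))
theorem E26873 : n48075 = n19266 := ((((iv5 D40870)).symm.trans (sb E26491 (iv5 F75525)))).symm
theorem F290656 : act 6 n40870 = n19703 := (sb E26491 (iv6 D41851))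
theorem E26874 : n44877 = n20075 := (((F66075).symm.trans (sb E26491 (iv7 F70503)))).symm
theorem E26875 : n43649 = n19687 := ((((iv6 F63477)).symm.trans (sb E26492 F75911))).symm
theorem F290657 : act 1 n41841 = n43282 := (sb E26493 (iv0 D92504))
theorem E26877 : n89590 = n46832 := ((D89590).symm.trans (sb E26493 (iv5 F142417)))
theorem E26878 : n88604 = n43968 := (((iv6 F135778)).symm.trans (sb E26493 F142414))
theorem E26879 : n100248 = n43941 := ((((iv3 F69073)).symm.trans (sb E26494 D100248))).symm
theorem E26881 : n99347 = n20587 := ((((iv1 F68354)).symm.trans (sb E26495 (iv1 F152998)))).symm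
theorem E26882 : n22473 = n20567 := ((((iv0 D43494)).symm.trans (sb E26495 (iv0 D46812)))).symm
theorem E26883 : n100179 = n92972 := (((D92972).symm.trans (sb E26495 (iv4 F154127)))).symm
theorem E26885 : n92624 = n90801 := (((iv7 F142715)).symm.trans (sb E26495 (iv7 F139769)))
theorem E26886 : n89653 = n88870 := ((F137452).symm.trans (sb E26496 F142420))
theorem F290658 : act 7 n42521 = n43282 := (sb E26496 (iv7 D92505))
theorem E26887 : n22957 = n20987 := (((F64488).symm.trans (sb E26497 (iv1 D47696)))).symm
theorem E26888 : n89656 = n87039 := ((((iv0 F133602)).symm.trans (sb E26497 F137465))).symm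
theorem E26891 : n48477 = n19625 := ((((iv3 D41692)).symm.trans (sb E26498 (iv3 D104864)))).symm
theorem E26893 : n81423 = n21896 := ((((iv1 F34383)).symm.trans (sb E26499 (iv1 F125242)))).symm
theorem E26895 : n48315 = n19699 := ((((iv2 F63544)).symm.trans (sb E26499 (iv2 F75943)))).symm
theorem E26896 : n104274 = n44665 := (((D44665).symm.trans (sb E26499 D104274))).symm
theorem E26897 : n90924 = n44666 := (((D44666).symm.trans (sb E26499 (iv6 F139934)))).symm
theorem E26898 : n90095 = n41806 := ((D90095).symm.trans (sb E26500 F133532))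
theorem E26899 : n89551 = n82492 := (((iv6 F137281)).symm.trans (sb E26500 (iv6 F133534)))
theorem E26900 : n38862 = n22086 := (((F64481).symm.trans (sb E26501 (iv1 D84265)))).symm
theorem E26901 : n90802 = n47578 := ((((iv0 F74825)).symm.trans (sb E26501 F139774))).symm
theorem F290659 : act 1 n41873 = n43279 := (sb E26502 F69310)
theorem E26904 : n94178 = n89651 := ((((iv3 F137447)).symm.trans (sb E26502 (iv3 F145194)))).symm
theorem E26905 : n20912 = n19713 := (((F64546).symm.trans (sb E26502 F69309))).symm
theorem E26906 : n89655 = n47575 := ((D89655).symm.trans (sb E26502 (iv5 F74819)))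
theorem E26907 : n20910 = n19712 := ((((iv6 D41873)).symm.trans (sb E26502 (iv6 D44032)))).symm
theorem E26908 : n100708 = n93032 := (((D93032).symm.trans (sb E26503 (iv3 F154816)))).symm
theorem E26909 : n22589 = n20591 := ((((iv4 D43528)).symm.trans (sb E26503 F74184))).symm
theorem E26911 : n89559 = n22588 := (((iv6 F137291)).symm.trans (sb E26503 (iv6 D46970)))
theorem E26914 : n10206 = n4190 := ((((iv3 D9264)).symm.trans (sb E26505 F33638))).symm
theorem E26915 : n44885 = n19745 := (((D19745).symm.trans (sb E26505 D44885))).symm
theorem F290660 : act 5 n9264 = n10204 := (sb E26505 (iv5 D21424))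
theorem E26916 : n19747 = n10882 := ((D19747).symm.trans (sb E26505 F33639))
theorem E26917 : n97998 = n19879 := (((D19879).symm.trans (sb E26506 D97998))).symm
theorem E26919 : n90629 = n40541 := ((((iv1 F61666)).symm.trans (sb E26507 (iv1 F139541)))).symm
theorem E26920 : n48475 = n19723 := ((((iv0 F63480)).symm.trans (sb E26507 F76253))).symm
theorem E26921 : n43825 = n40543 := ((((iv2 F61669)).symm.trans (sb E26507 F69231))).symm
theorem F290661 : act 5 n20418 = n20895 := (sb E26507 (iv5 D44007))
theorem E26923 : n94125 = n19901 := (((F32431).symm.trans (sb E26507 D94125))).symm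
theorem E26924 : n43298 = n21864 := (((D21864).symm.trans (sb E26508 (iv4 F67923)))).symm
theorem F290662 : act 5 n10429 = n9707 := (sb E26508 F32483)
theorem F290663 : act 6 n10429 = n20135 := (sb E26508 F32484)
theorem E26925 : n22579 = n8950 := (((F35662).symm.trans (sb E26509 F72189))).symm
theorem E26929 : n100675 = n43243 := (((D43243).symm.trans (sb E26510 (iv3 F154776)))).symm
theorem E26930 : n100680 = n43244 := (((D43244).symm.trans (sb E26510 D100680))).symm
theorem E26931 : n43245 = n22584 := ((D43245).symm.trans (sb E26510 (iv6 D46956)))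
theorem E26934 : n100258 = n43287 := (((D43287).symm.trans (sb E26512 (iv3 F154241)))).symm
theorem E26936 : n43289 = n22442 := ((D43289).symm.trans (sb E26512 (iv6 D46785)))
theorem F290664 : act 0 n19598 = n20602 := (sb E26513 F32935)
theorem E26937 : n43290 = n41623 := ((((iv4 F64233)).symm.trans (sb E26513 D43290))).symm
theorem F290665 : act 5 n19598 = n9705 := (sb E26513 (iv5 D20440))
theorem E26938 : n20618 = n9216 := ((((iv6 D19598)).symm.trans (sb E26513 (iv6 F32716)))).symm
theorem F290666 : act 7 n19598 = n19880 := (sb E26513 (iv7 F35788))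
theorem E26939 : n20570 = n4885 := ((((iv5 D10667)).symm.trans (sb E26514 (iv5 F32664)))).symm
theorem F290667 : act 6 n10667 = n9705 := (sb E26514 (iv6 D20441))
theorem E26942 : n5048 = n1789 := ((((iv0 D4189)).symm.trans (sb E26515 F17913))).symm
theorem E26943 : n23459 = n3989 := ((((iv4 F15292)).symm.trans (sb E26515 (iv4 F36565)))).symm
theorem E26944 : n9297 = n9262 := (((D9262).symm.trans (sb E26515 F17915))).symm
theorem E26945 : n11089 = n8952 := ((((iv6 F13929)).symm.trans (sb E26515 F17973))).symm
theorem E26948 : n48544 = n40440 := ((((iv6 F61528)).symm.trans (sb E26516 (iv6 F76398)))).symm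
theorem F290668 : act 1 n19679 = n20602 := (sb E26517 F35789)
theorem F290669 : act 2 n19679 = n19880 := (sb E26517 F35708)
theorem E26949 : n41929 = n41742 := ((((iv4 F64382)).symm.trans (sb E26517 D41929))).symm
theorem F290670 : act 5 n19679 = n9260 := (sb E26517 (iv5 D19740))
theorem E26950 : n21402 = n20178 := ((F65757).symm.trans (sb E26517 (iv6 F32003)))
theorem E26952 : n93753 = n19204 := (((F63709).symm.trans (sb E26519 (iv1 F144510)))).symm
theorem E26953 : n45817 = n19854 := (((F63469).symm.trans (sb E26519 (iv2 F72360)))).symm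
theorem E26954 : n21379 = n9256 := ((((iv3 D19728)).symm.trans (sb E26519 F70448))).symm
theorem E26955 : n48246 = n21280 := ((((iv4 F63429)).symm.trans (sb E26519 (iv4 F75846)))).symm
theorem E26956 : n41906 = n21372 := ((D41906).symm.trans (sb E26519 (iv5 D44849)))
theorem E26957 : n41907 = n22366 := ((D41907).symm.trans (sb E26519 F70449))
theorem E26958 : n48424 = n19853 := (((F63463).symm.trans (sb E26519 (iv7 F76151)))).symm
theorem E26959 : n47630 = n20415 := ((((iv3 F63698)).symm.trans (sb E26520 (iv3 F75949)))).symm
theorem E26960 : n48247 = n21279 := ((((iv4 F63701)).symm.trans (sb E26520 F75950))).symm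
theorem E26961 : n87454 = n41791 := ((D87454).symm.trans (sb E26520 (iv5 F74866)))
theorem E26962 : n89643 = n43219 := ((((iv6 F67689)).symm.trans (sb E26520 F137422))).symm
theorem E26963 : n87456 = n21464 := (((iv5 F134265)).symm.trans (sb E26521 (iv5 D44951)))
theorem E26965 : n89955 = n22684 := (((F35258).symm.trans (sb E26522 F138172))).symm
theorem F290671 : act 5 n10819 = n19856 := (sb E26522 F65026)
theorem E26966 : n42272 = n22906 := (((D22906).symm.trans (sb E26522 (iv6 F65282)))).symm
theorem E26967 : n21465 = n19855 := (((iv7 F66812)).symm.trans (sb E26522 (iv7 D42108)))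
theorem E26968 : n99348 = n19092 := ((((iv1 F61491)).symm.trans (sb E26523 F153001))).symm
theorem E26972 : n43134 = n4232 := ((((iv6 D9342)).symm.trans (sb E26524 (iv6 F70679)))).symm
theorem E26973 : n90172 = n22910 := (((D22910).symm.trans (sb E26525 (iv3 F138618)))).symm
theorem E26974 : n90177 = n22911 := (((D22911).symm.trans (sb E26525 (iv5 F138620)))).symm
theorem E26975 : n42340 = n22912 := (((D22912).symm.trans (sb E26525 (iv6 F65379)))).symm
theorem E26976 : n21869 = n19889 := (((iv7 F66817)).symm.trans (sb E26525 (iv7 D42154)))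
theorem E26977 : n22252 = n20134 := (((iv1 F35533)).symm.trans (sb E26526 (iv1 F31964)))
theorem E26978 : n21399 = n11008 := (((iv0 F65711)).symm.trans (sb E26526 (iv0 F35716)))
theorem F290672 : act 2 n10822 = n20135 := (sb E26526 (iv2 F31965))
theorem E26979 : n22918 = n9424 := ((D22918).symm.trans (sb E26526 F31804))
theorem E26980 : n22458 = n9423 := (((iv7 F66833)).symm.trans (sb E26526 (iv7 D19976)))
theorem E26981 : n21871 = n4247 := (((F14578).symm.trans (sb E26527 D21871))).symm
theorem F290673 : act 7 n9358 = n4934 := (sb E26527 (iv7 F66821))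
theorem E26982 : n99397 = n19921 := (((D19921).symm.trans (sb E26528 (iv4 F153086)))).symm
theorem E26983 : n22276 = n19922 := (((D19922).symm.trans (sb E26528 (iv6 D46478)))).symm
theorem E26984 : n23127 = n3989 := ((((iv3 D8945)).symm.trans (sb E26529 F73914))).symm
theorem E26986 : n22460 = n19106 := (((D19106).symm.trans (sb E26529 F73915))).symm
theorem E26993 : n9633 = n978 := (((F6922).symm.trans (sb E26532 (iv0 D20347)))).symm
theorem F290674 : act 1 n47498 = n90150 := (sb E26533 F142443)
theorem E26995 : n97988 = n90148 := (((iv2 F151041)).symm.trans (sb E26533 (iv2 F142446)))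
theorem E26996 : n98025 = n90147 := ((F151150).symm.trans (sb E26533 F142444))
theorem F290675 : act 0 n47665 = n90150 := (sb E26534 (iv1 F142442))
theorem E26997 : n98007 = n90175 := (((iv2 F151110)).symm.trans (sb E26535 F142525))
theorem E26998 : n43297 = n22928 := ((((iv4 D47637)).symm.trans (sb E26535 (iv4 D92541)))).symm
theorem F290676 : act 5 n47637 = n90150 := (sb E26535 F142526)
theorem E26999 : n97996 = n90149 := (((iv7 F151076)).symm.trans (sb E26535 (iv7 F142527)))
theorem E27001 : n43336 = n19688 := (((D19688).symm.trans (sb E26536 (iv6 D92636)))).symm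
theorem E27003 : n88511 = n47710 := (((iv1 F135517)).symm.trans (sb E26537 (iv1 D102882)))
theorem E27006 : n22278 = n20968 := ((((iv0 F64486)).symm.trans (sb E26538 (iv0 D46479)))).symm
theorem E27007 : n99398 = n89556 := ((((iv3 F137287)).symm.trans (sb E26538 D99398))).symm
theorem E27008 : n99399 = n42497 := ((((iv5 F65635)).symm.trans (sb E26538 D99399))).symm
theorem E27009 : n89560 = n22585 := ((D89560).symm.trans (sb E26538 (iv7 F73413)))
theorem E27012 : n88607 = n43859 := ((((iv1 F69122)).symm.trans (sb E26541 F285775))).symm
theorem E27021 : n102792 = n19866 := (((D19866).symm.trans (sb E26546 (iv3 F158057)))).symm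
theorem E27022 : n43588 = n4811 := (((F14575).symm.trans (sb E26546 F74960))).symm
theorem E27024 : n22949 = n19868 := (((D19868).symm.trans (sb E26546 (iv6 D47676)))).symm
theorem E27025 : n42886 = n4688 := ((((iv6 D10342)).symm.trans (sb E26548 F144513))).symm
theorem E27026 : n104253 = n44696 := (((D44696).symm.trans (sb E26549 D104253))).symm
theorem E27027 : n23394 = n10164 := ((((iv4 D21289)).symm.trans (sb E26549 (iv4 D48244)))).symm
theorem E27028 : n44698 = n40940 := ((D44698).symm.trans (sb E26549 F75843))
theorem E27029 : n42745 = n4199 := ((((iv4 D9303)).symm.trans (sb E26550 F140371))).symm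
theorem E27030 : n42731 = n19807 := (((D19807).symm.trans (sb E26550 (iv6 D91300)))).symm
theorem E27034 : n9530 = n4200 := ((((iv3 D9306)).symm.trans (sb E26551 F32000))).symm
theorem E27035 : n19818 = n9905 := ((D19818).symm.trans (sb E26551 F32001))
theorem E27036 : n19819 = n9518 := ((D19819).symm.trans (sb E26551 (iv6 D20175)))
theorem F290677 : act 0 n42008 = n48279 := (sb E26552 F140374)
theorem E27038 : n44795 = n42729 := (((D42729).symm.trans (sb E26553 (iv1 F75386)))).symm
theorem E27039 : n43930 = n42730 := (((D42730).symm.trans (sb E26553 (iv0 F69061)))).symm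
theorem E27040 : n89906 = n42732 := (((D42732).symm.trans (sb E26553 D89906))).symm
theorem F290678 : act 6 n20174 = n19805 := (sb E26553 (iv6 D42009))
theorem E27041 : n41983 = n20205 := ((((iv7 F32042)).symm.trans (sb E26553 F64844))).symm
theorem E27043 : n43994 = n21624 := (((D21624).symm.trans (sb E26555 (iv5 F75788)))).symm
theorem E27044 : n41272 = n19801 := (((F63238).symm.trans (sb E26555 F75791))).symm
theorem F290679 : act 1 n45353 = n48279 := (sb E26556 (iv0 D104319))
theorem E27045 : n42878 = n21693 := (((F64817).symm.trans (sb E26557 (iv1 F138298)))).symm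
theorem E27051 : n101413 = n97146 := ((((iv4 F149878)).symm.trans (sb E26558 (iv4 F156247)))).symm
theorem E27054 : n101392 = n44748 := (((D44748).symm.trans (sb E26559 (iv4 F156193)))).symm
theorem E27057 : n93486 = n19800 := ((((iv2 F31562)).symm.trans (sb E26560 (iv2 F144225)))).symm
theorem E27061 : n20707 = n19807 := (((D19807).symm.trans (sb E26560 (iv6 D43722)))).symm
theorem E27065 : n42866 = n4662 := ((((iv0 F6747)).symm.trans (sb E26562 (iv0 D91683)))).symm
theorem E27066 : n42657 = n42518 := (((F139735).symm.trans (sb E26567 (iv3 D91075)))).symm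
theorem F290680 : act 7 n90793 = n90468 := (sb E26567 F140117)
theorem E27068 : n43567 = n23386 := ((((iv0 F73907)).symm.trans (sb E26570 F68468))).symm
theorem E27069 : n43566 = n40875 := ((((iv2 F66070)).symm.trans (sb E26570 (iv2 F68462)))).symm
theorem E27070 : n42525 = n41487 := ((D42525).symm.trans (sb E26570 F63952))
theorem E27071 : n46837 = n9454 := ((((iv6 D20076)).symm.trans (sb E26570 (iv6 F73986)))).symm
theorem F290681 : act 1 n19535 = n19880 := (sb E26571 (iv0 F31900))
theorem E27072 : n42544 = n41491 := ((((iv4 F63963)).symm.trans (sb E26571 D42544))).symm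
theorem F290682 : act 5 n19535 = n9457 := (sb E26571 (iv5 D20084))
theorem E27073 : n42541 = n9194 := ((((iv6 D19535)).symm.trans (sb E26571 (iv6 F66012)))).symm
theorem F290683 : act 7 n19535 = n20602 := (sb E26571 F32938)
theorem E27074 : n10699 = n1816 := ((((iv1 D4284)).symm.trans (sb E26572 (iv1 D22556)))).symm
theorem E27075 : n10704 = n9403 := (((F14625).symm.trans (sb E26572 F35101))).symm
theorem E27076 : n21401 = n9456 := (((D9456).symm.trans (sb E26572 (iv5 F65802)))).symm
theorem E27077 : n23294 = n9400 := (((F35746).symm.trans (sb E26572 F63751))).symm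
theorem F290684 : act 5 n90823 = n47495 := (sb E26573 (iv5 D102358))
theorem E27078 : n46898 = n20385 := ((((iv4 F32367)).symm.trans (sb E26575 (iv4 D100524)))).symm
theorem E27079 : n46965 = n42275 := (((D42275).symm.trans (sb E26575 F154580))).symm
theorem E27081 : n93009 = n42485 := (((D42485).symm.trans (sb E26576 D93009))).symm
theorem E27082 : n22232 = n20584 := (((iv4 F65695)).symm.trans (sb E26576 (iv4 D43515)))
theorem E27083 : n46966 = n42486 := (((D42486).symm.trans (sb E26576 (iv5 F74181)))).symm
theorem E27084 : n22470 = n20564 := ((((iv6 F65973)).symm.trans (sb E26576 F68385))).symm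
theorem E27085 : n99402 = n42498 := ((((iv1 F65983)).symm.trans (sb E26577 F154682))).symm
theorem E27086 : n100678 = n42228 := ((((iv7 F65204)).symm.trans (sb E26577 (iv7 F154790)))).symm
theorem E27087 : n48505 = n20588 := (((F68397).symm.trans (sb E26579 (iv3 D104942)))).symm
theorem E27088 : n48487 = n22702 := (((F74469).symm.trans (sb E26580 (iv3 D104895)))).symm
theorem E27089 : n182426 = n22699 := ((((iv6 D47187)).symm.trans (sb E26580 (iv6 F283972)))).symm
theorem F290685 : act 0 n42445 = n20129 := (sb E26581 (iv1 D42648))
theorem F290686 : act 7 n42445 = n23420 := (sb E26581 (iv7 F66690))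
theorem F290687 : act 0 n42647 = n43826 := (sb E26582 F74832)
theorem E27091 : n91050 = n22877 := ((D91050).symm.trans (sb E26582 (iv6 D47580)))
theorem F290688 : act 7 n42647 = n46656 := (sb E26582 F74831)
theorem E27092 : n45813 = n42270 := (((iv0 F72347)).symm.trans (sb E26583 F125263))
theorem E27093 : n45794 = n37186 := ((F72285).symm.trans (sb E26583 F125261))
theorem F290689 : act 7 n44952 = n37185 := (sb E26583 (iv7 D81426))
theorem E27094 : n20495 = n20422 := (((iv1 F58688)).symm.trans (sb E26584 (iv1 D43269)))
theorem E27095 : n42114 = n20494 := (((F58689).symm.trans (sb E26584 F67841))).symm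
theorem E27096 : n45737 = n42151 := (((iv4 F72165)).symm.trans (sb E26584 (iv4 F67842)))
theorem F290690 : act 5 n37844 = n43826 := (sb E26584 (iv5 F68881))
theorem E27098 : n43262 = n20897 := ((((iv1 F33053)).symm.trans (sb E26585 (iv1 F134023)))).symm
theorem E27100 : n40542 = n20896 := ((((iv7 F66844)).symm.trans (sb E26585 (iv7 D87299)))).symm
theorem E27101 : n102313 = n43877 := (((F138598).symm.trans (sb E26586 (iv1 F157135)))).symm
theorem E27102 : n102329 = n94247 := (((F145323).symm.trans (sb E26586 (iv0 F157145)))).symm
theorem F290691 : act 5 n90145 = n46677 := (sb E26586 (iv5 D99941))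
theorem E27109 : n182418 = n42294 := (((D42294).symm.trans (sb E26589 (iv3 F283967)))).symm
theorem E27110 : n182865 = n42296 := (((D42296).symm.trans (sb E26589 D182865))).symm
theorem F290692 : act 6 n19960 = n41360 := (sb E26589 F134017)
theorem E27111 : n42337 = n22417 := (((iv1 F66703)).symm.trans (sb E26590 F135786))
theorem E27112 : n91080 = n46021 := (((iv5 F140129)).symm.trans (sb E26590 F72600))
theorem E27113 : n90796 = n20132 := ((((iv7 D42659)).symm.trans (sb E26590 (iv7 F139745)))).symm
theorem F290693 : act 6 n45738 = n91067 := (sb E26591 F142516)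
theorem E27114 : n43296 = n22927 := (((F72172).symm.trans (sb E26591 (iv7 D92538)))).symm
theorem E27115 : n102608 = n91064 := (((D91064).symm.trans (sb E26592 (iv1 F287671)))).symm
theorem E27116 : n91065 = n88334 := ((D91065).symm.trans (sb E26592 (iv0 D185425)))
theorem E27117 : n185411 = n91059 := ((((iv2 F140103)).symm.trans (sb E26592 F287684))).symm
theorem E27118 : n100444 = n20130 := ((((iv6 D42654)).symm.trans (sb E26592 (iv6 F287672)))).symm
theorem E27121 : n186138 = n92742 := (((D92742).symm.trans (sb E26593 (iv2 F288873)))).symm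
theorem E27123 : n92744 = n41405 := ((D92744).symm.trans (sb E26593 (iv6 D88682)))
theorem E27124 : n44552 = n40915 := ((((iv4 F66351)).symm.trans (sb E26594 F125255))).symm
theorem E27125 : n89374 = n46660 := (((D46660).symm.trans (sb E26594 (iv5 F137054)))).symm
theorem E27126 : n43481 = n10646 := ((((iv6 D22372)).symm.trans (sb E26594 F125256))).symm
theorem E27129 : n48155 = n19928 := ((((iv6 D42215)).symm.trans (sb E26595 (iv6 F75681)))).symm
theorem F290694 : act 5 n41736 = n46656 := (sb E26596 F142341)
theorem E27131 : n100374 = n19638 := ((((iv6 D41736)).symm.trans (sb E26596 (iv6 F154383)))).symm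
theorem E27132 : n82491 = n46655 := (((D46655).symm.trans (sb E26597 (iv5 F127129)))).symm
theorem E27134 : n44841 = n23421 := (((D23421).symm.trans (sb E26598 (iv4 F70431)))).symm
theorem E27135 : n42027 = n20888 := ((((iv5 F66192)).symm.trans (sb E26598 (iv5 F64893)))).symm
theorem E27136 : n23423 = n10184 := ((D23423).symm.trans (sb E26598 (iv6 D21360)))
theorem F290695 : act 4 n42451 = n23420 := (sb E26599 (iv4 F72211))
theorem E27140 : n88855 = n43553 := (((iv4 F136243)).symm.trans (sb E26600 F74028))
theorem E27141 : n82694 = n22501 := ((F127412).symm.trans (sb E26600 (iv6 D46845)))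
theorem F290696 : act 6 n21348 = n23420 := (sb E26601 (iv6 D48267))
theorem F290697 : act 1 n10673 = n20135 := (sb E26602 F35690)
theorem E27144 : n5016 = n4964 := ((((iv3 F65697)).symm.trans (sb E26602 (iv3 D11012)))).symm
theorem E27145 : n23490 = n22455 := ((((iv4 F34998)).symm.trans (sb E26602 D23490))).symm
theorem E27147 : n46122 = n42333 := (((D42333).symm.trans (sb E26603 (iv4 F72714)))).symm
theorem E27148 : n42334 = n22583 := ((D42334).symm.trans (sb E26603 (iv5 F35125)))
theorem E27149 : n42335 = n10501 := ((D42335).symm.trans (sb E26603 (iv6 D22042)))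
theorem E27150 : n9249 = n5011 := (((F66487).symm.trans (sb E26604 (iv1 D19708)))).symm
theorem F290698 : act 0 n19862 = n18141 := (sb E26606 (iv1 D37842))
theorem F290699 : act 1 n19862 = n20496 := (sb E26606 F58680)
theorem E27152 : n21895 = n19949 := (((iv3 F34377)).symm.trans (sb E26606 F66614))
theorem E27153 : n21859 = n20138 := ((((iv4 F31972)).symm.trans (sb E26606 (iv4 F66611)))).symm
theorem E27154 : n82477 = n9350 := (((F31701).symm.trans (sb E26606 D82477))).symm
theorem E27155 : n21634 = n5001 := ((((iv3 D10978)).symm.trans (sb E26607 F67844))).symm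
theorem F290700 : act 5 n10978 = n20423 := (sb E26607 F67845)
theorem E27157 : n20444 = n10825 := (((F66539).symm.trans (sb E26608 (iv1 D43295)))).symm
theorem E27161 : n42150 = n10650 := ((((iv7 D22384)).symm.trans (sb E26608 (iv7 F67932)))).symm
theorem E27163 : n102854 = n9095 := ((((iv0 D19375)).symm.trans (sb E26609 (iv0 F158159)))).symm
theorem E27164 : n92484 = n4397 := ((((iv6 D9730)).symm.trans (sb E26610 D92484))).symm
theorem E27165 : n43824 = n42106 := (((iv3 F68876)).symm.trans (sb E26611 (iv3 F133999)))
theorem E27171 : n22926 = n9698 := ((D22926).symm.trans (sb E26613 F32429))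
theorem E27172 : n22494 = n16721 := ((((iv1 F27433)).symm.trans (sb E26614 (iv1 D46840)))).symm
theorem E27174 : n45636 = n4415 := (((F16790).symm.trans (sb E26614 F73993))).symm
theorem F290701 : act 0 n43285 = n47665 := (sb E26616 (iv1 F157163))
theorem F290702 : act 1 n43285 = n47498 := (sb E26616 (iv0 D102367))
theorem E27175 : n92515 = n47619 := ((D92515).symm.trans (sb E26616 F157161))
theorem F290703 : act 5 n90143 = n88791 := (sb E26618 (iv5 D186419))
theorem E27182 : n186018 = n92736 := (((F142991).symm.trans (sb E26626 (iv2 F288599)))).symm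
theorem E27184 : n186012 = n92737 := ((((iv7 F142994)).symm.trans (sb E26626 (iv7 F288583)))).symm
theorem F290704 : act 0 n89607 = n42291 := (sb E26627 (iv1 D90435))
theorem F290705 : act 4 n89607 = n104409 := (sb E26627 (iv4 F160060))
theorem E27185 : n92455 = n41849 := ((((iv5 D89607)).symm.trans (sb E26627 F142246))).symm
theorem F290706 : act 5 n90436 = n46022 := (sb E26628 (iv5 D98374))
theorem E27186 : n186151 = n92745 := ((((iv7 F143016)).symm.trans (sb E26628 F288882))).symm
theorem E27187 : n186149 = n92746 := (((D92746).symm.trans (sb E26629 (iv6 F288880)))).symm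
theorem E27188 : n44122 = n41406 := (((D41406).symm.trans (sb E26630 (iv5 F69462)))).symm
theorem F290707 : act 6 n19503 = n20503 := (sb E26630 (iv6 D43387))
theorem E27189 : n92623 = n41361 := (((D41361).symm.trans (sb E26631 (iv3 F142712)))).symm
theorem E27190 : n20460 = n9150 := ((((iv4 D19477)).symm.trans (sb E26631 F68020))).symm
theorem E27191 : n90106 = n41362 := (((D41362).symm.trans (sb E26631 F138545))).symm
theorem E27192 : n22255 = n20458 := (((iv6 F34723)).symm.trans (sb E26631 (iv6 D43331)))
theorem E27193 : n92970 = n41415 := ((((iv3 F63859)).symm.trans (sb E26632 (iv3 F143379)))).symm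
theorem E27195 : n90105 = n41419 := ((((iv5 F63866)).symm.trans (sb E26632 (iv5 F138538)))).symm
theorem E27196 : n41420 = n41309 := ((D41420).symm.trans (sb E26632 F68360))
theorem E27197 : n44027 = n19520 := ((((iv1 D41451)).symm.trans (sb E26633 (iv1 D94166)))).symm
theorem E27198 : n44031 = n41872 := ((((iv0 F64543)).symm.trans (sb E26633 F145157))).symm
theorem E27200 : n104892 = n22962 := (E26634).trans E26658
theorem E27201 : n48485 = n10842 := (((F36019).symm.trans (sb E27200 (iv4 D104892)))).symm
theorem E27202 : n87439 = n44549 := (((iv1 F134215)).symm.trans (sb E26635 (iv1 F76321)))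
theorem E27203 : n23664 = n20202 := ((((iv0 D42761)).symm.trans (sb E26635 (iv0 D48495)))).symm
theorem E27204 : n91354 = n40474 := ((F140461).symm.trans (sb E26635 (iv2 F76322)))
theorem F290708 : act 4 n42761 = n37185 := (sb E26635 F76320)
theorem E27205 : n104872 = n41698 := (((F75202).symm.trans (sb E26635 (iv5 F160742)))).symm
theorem E27206 : n91378 = n23682 := ((D91378).symm.trans (sb E26635 (iv6 F76323)))
theorem E27207 : n182414 = n94058 := (((D94058).symm.trans (sb E26636 F283958))).symm
theorem F290709 : act 1 n43969 = n41408 := (sb E26636 (iv0 D88686))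
theorem E27208 : n182417 = n94059 := (((D94059).symm.trans (sb E26636 F283965))).symm
theorem E27209 : n42053 = n20843 := ((((iv3 D43969)).symm.trans (sb E26636 F136028))).symm
theorem E27210 : n186153 = n46745 := ((((iv4 F73860)).symm.trans (sb E26636 D186153))).symm
theorem E27211 : n186154 = n94060 := (((D94060).symm.trans (sb E26636 D186154))).symm
theorem E27213 : n93821 = n48622 := (((iv7 F144634)).symm.trans (sb E26636 (iv7 F136029)))
theorem E27214 : n186161 = n93817 := ((D186161).symm.trans (sb E26637 F145578))
theorem E27215 : n186159 = n94043 := (((iv2 F288904)).symm.trans (sb E26637 F145573))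
theorem F290710 : act 1 n46661 = n37185 := (sb E26639 (iv0 D81425))
theorem F290711 : act 3 n46661 = n42647 := (sb E26639 F125251)
theorem E27218 : n48242 = n45019 := ((F75835).symm.trans (sb E26639 F125250))
theorem E27219 : n94039 = n89592 := (((F137352).symm.trans (sb E26639 (iv5 F144880)))).symm
theorem F290712 : act 0 n23057 = n37185 := (sb E26640 F67686)
theorem E27221 : n10988 = n10873 := (((F36117).symm.trans (sb E26640 (iv3 D23425)))).symm
theorem E27222 : n47884 = n45020 := (((iv4 F75170)).symm.trans (sb E26640 (iv4 F70820)))
theorem E27223 : n47890 = n43218 := ((D47890).symm.trans (sb E26640 F67684))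
theorem E27224 : n43671 = n10870 := ((((iv6 D23057)).symm.trans (sb E26640 (iv6 F68627)))).symm
theorem F290713 : act 1 n19950 = n22372 := (sb E26641 (iv0 D46659))
theorem E27225 : n93360 = n9832 := (((F31787).symm.trans (sb E26641 (iv6 F143988)))).symm
theorem E27226 : n45796 = n37183 := (((D37183).symm.trans (sb E26642 (iv1 F72297)))).symm
theorem E27227 : n21272 = n10983 := ((((iv0 F66559)).symm.trans (sb E26642 (iv0 D44669)))).symm
theorem E27230 : n46835 = n19850 := (((F31676).symm.trans (sb E26643 F150244))).symm
theorem E27231 : n47507 = n19415 := (((F31077).symm.trans (sb E26643 F150243))).symm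
theorem E27232 : n45514 = n8436 := ((((iv5 D17883)).symm.trans (sb E26643 (iv5 D97467)))).symm
theorem E27236 : n92530 = n10601 := ((((iv6 D22234)).symm.trans (sb E26644 D92530))).symm
theorem E27237 : n90887 = n4906 := (((F13380).symm.trans (sb E26645 F139898))).symm
theorem E27239 : n44202 = n3828 := ((((iv5 D8554)).symm.trans (sb E26645 F138505))).symm
theorem E27241 : n10922 = n8925 := (((F30553).symm.trans (sb E26646 F36305))).symm
theorem E27242 : n43319 = n19715 := ((((iv4 F31468)).symm.trans (sb E26646 (iv4 F67991)))).symm
theorem E27243 : n22088 = n8918 := ((((iv5 D19046)).symm.trans (sb E26646 F62988))).symm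
theorem E27244 : n19268 = n10919 := (((iv6 F30924)).symm.trans (sb E26646 (iv6 D23203)))
theorem E27245 : n47511 = n20746 := (((F32897).symm.trans (sb E26647 (iv3 F74709)))).symm
theorem E27246 : n43451 = n19714 := (((F32433).symm.trans (sb E26647 F72806))).symm
theorem E27248 : n46617 = n43264 := (((D43264).symm.trans (sb E26647 (iv6 F73623)))).symm
theorem E27249 : n21707 = n7816 := (((F16786).symm.trans (sb E26648 (iv1 D45485)))).symm
theorem E27250 : n46128 = n9697 := (((F16787).symm.trans (sb E26648 (iv0 F72726)))).symm
theorem E27253 : n186169 = n52171 := ((D186169).symm.trans (sb E26650 F145580))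
theorem F290714 : act 5 n88691 = n92508 := (sb E26650 F145579)
theorem E27254 : n92967 = n41411 := (((D41411).symm.trans (sb E26651 D92967))).symm
theorem E27255 : n92968 = n41412 := (((D41412).symm.trans (sb E26651 D92968))).symm
theorem E27256 : n92962 = n41413 := (((D41413).symm.trans (sb E26651 (iv2 F143376)))).symm
theorem E27257 : n92937 = n41367 := ((((iv4 F63786)).symm.trans (sb E26651 (iv4 F143314)))).symm
theorem E27258 : n92969 = n41414 := (((D41414).symm.trans (sb E26651 D92969))).symm
theorem E27259 : n22472 = n20566 := (((iv6 F35020)).symm.trans (sb E26651 (iv6 D43493)))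
theorem E27260 : n20515 = n9146 := (((F14247).symm.trans (sb E26652 (iv1 F35852)))).symm
theorem E27261 : n20562 = n9158 := ((((iv3 F14273)).symm.trans (sb E26652 (iv3 F32657)))).symm
theorem E27262 : n20577 = n1773 := ((((iv5 D4131)).symm.trans (sb E26652 D20577))).symm
theorem E27263 : n4887 = n4405 := (((iv6 F7240)).symm.trans (sb E26652 (iv6 D9754)))
theorem E27264 : n41416 = n22075 := ((D41416).symm.trans (sb E26653 F68358))
theorem E27265 : n90108 = n41417 := (((D41417).symm.trans (sb E26653 F138551))).symm
theorem E27266 : n92984 = n38878 := ((((iv4 F59906)).symm.trans (sb E26653 D92984))).symm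
theorem E27268 : n22471 = n20477 := ((((iv0 F62744)).symm.trans (sb E26654 D22471))).symm
theorem F290715 : act 6 n9752 = n9180 := (sb E26654 F17219)
theorem E27270 : n92713 = n47703 := (((D47703).symm.trans (sb E26655 (iv0 F288234)))).symm
theorem E27271 : n102531 = n42164 := ((((iv4 F65094)).symm.trans (sb E26655 F288231))).symm
theorem E27272 : n98705 = n47705 := (((D47705).symm.trans (sb E26655 (iv5 F288233)))).symm
theorem E27273 : n88510 = n47706 := (((D47706).symm.trans (sb E26655 (iv6 D185838)))).symm
theorem E27274 : n82699 = n10840 := (((D10840).symm.trans (sb E26656 (iv3 F127438)))).symm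
theorem E27276 : n19444 = n10842 := (((D10842).symm.trans (sb E26656 (iv6 D41316)))).symm
theorem E27279 : n47708 = n42357 := ((D47708).symm.trans (sb E26658 F65431))
theorem F290716 : act 1 n22962 = n46618 := (sb E26658 (iv0 F73631))
theorem E27280 : n47711 = n20588 := ((D47711).symm.trans (sb E26658 F63647))
theorem F290717 : act 1 n20967 = n41409 := (sb E26659 (iv0 F63855))
theorem E27281 : n47680 = n44120 := ((((iv3 F69460)).symm.trans (sb E26659 (iv3 F74964)))).symm
theorem E27282 : n44124 = n38885 := ((D44124).symm.trans (sb E26659 F59915))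
theorem E27283 : n10835 = n9955 := ((((iv5 D20967)).symm.trans (sb E26659 (iv5 D22951)))).symm
theorem E27284 : n47681 = n44125 := (((D44125).symm.trans (sb E26659 D47681))).symm
theorem F290718 : act 0 n20986 = n41409 := (sb E26660 (iv1 F63856))
theorem E27285 : n47692 = n44141 := ((((iv3 F69481)).symm.trans (sb E26660 (iv3 F74978)))).symm
theorem E27286 : n44143 = n38884 := ((D44143).symm.trans (sb E26660 F59912))
theorem E27287 : n10838 = n9960 := ((((iv5 D20986)).symm.trans (sb E26660 (iv5 D22956)))).symm
theorem E27288 : n47694 = n44144 := (((D44144).symm.trans (sb E26660 D47694))).symm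
theorem E27289 : n94149 = n75805 := ((((iv1 F113676)).symm.trans (sb E26661 F145576))).symm
theorem E27290 : n94155 = n34481 := ((((iv0 D75309)).symm.trans (sb E26661 F145577))).symm
theorem F290719 : act 3 n5009 = n10817 := (sb E26663 (iv3 F17368))
theorem E27293 : n9269 = n2070 := ((F14460).symm.trans (sb E26663 (iv5 D5050)))
theorem F290720 : act 7 n5009 = n2073 := (sb E26663 F7496)
theorem F290721 : act 0 n22895 = n42215 := (sb E26664 (iv1 F70396))
theorem F290722 : act 1 n22895 = n42451 := (sb E26664 (iv0 F70395))
theorem F290723 : act 2 n22895 = n42318 := (sb E26664 F66682)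
theorem E27295 : n47607 = n19438 := ((D47607).symm.trans (sb E26664 F36550))
theorem E27296 : n47608 = n44055 := ((D47608).symm.trans (sb E26664 F69365))
theorem E27297 : n41843 = n10994 := (((iv6 F64509)).symm.trans (sb E26664 (iv6 D23450)))
theorem F290724 : act 0 n4933 = n9358 := (sb E26665 (iv1 F66524))
theorem E27298 : n41946 = n10772 := ((((iv4 F17293)).symm.trans (sb E26665 D41946))).symm
theorem E27300 : n10995 = n9246 := ((D10995).symm.trans (sb E26666 (iv5 D19697)))
theorem F290725 : act 6 n5006 = n10817 := (sb E26666 F31447)
theorem F290726 : act 0 n21873 = n42451 := (sb E26667 (iv1 F135502))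
theorem F290727 : act 1 n21873 = n42215 := (sb E26667 F135501)
theorem E27301 : n185766 = n45751 := (((D45751).symm.trans (sb E26667 (iv3 F288061)))).symm
theorem E27302 : n45752 = n44054 := ((D45752).symm.trans (sb E26667 F135499))
theorem F290728 : act 7 n21873 = n42318 := (sb E26667 F135500)
theorem F290729 : act 1 n4724 = n9358 := (sb E26668 (iv0 D19887))
theorem E27304 : n42143 = n10428 := ((((iv4 F16600)).symm.trans (sb E26668 D42143))).symm
theorem E27306 : n44028 = n1954 := ((((iv5 D4725)).symm.trans (sb E26669 F69298))).symm
theorem E27307 : n48324 = n22805 := (((F68132).symm.trans (sb E26670 (iv4 F75963)))).symm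
theorem F290730 : act 5 n43372 = n20751 := (sb E26670 F68888)
theorem F290731 : act 0 n20609 = n42526 := (sb E26671 (iv1 F134004))
theorem E27309 : n91403 = n20141 := (((F32689).symm.trans (sb E26671 D91403))).symm
theorem F290732 : act 2 n43827 = n42526 := (sb E26672 F75823)
theorem E27311 : n46759 = n42656 := (((F68883).symm.trans (sb E26672 F75821))).symm
theorem E27312 : n92416 = n89701 := (((iv5 F142135)).symm.trans (sb E26672 F137658))
theorem E27313 : n91007 = n37861 := (((iv6 F140061)).symm.trans (sb E26672 (iv6 F75822)))
theorem E27314 : n46756 = n19975 := ((((iv0 D42336)).symm.trans (sb E26673 F139751))).symm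
theorem F290733 : act 4 n42336 = n42526 := (sb E26673 F139748)
theorem E27315 : n186008 = n90469 := (((D90469).symm.trans (sb E26673 (iv5 F288572)))).symm
theorem E27316 : n90470 = n46099 := ((D90470).symm.trans (sb E26673 F139749))
theorem E27317 : n89497 = n43257 := (((F68439).symm.trans (sb E26674 F137201))).symm
theorem E27318 : n43259 = n41578 := ((F68440).symm.trans (sb E26674 (iv0 F136294)))
theorem E27319 : n90445 = n46959 := ((((iv4 F74177)).symm.trans (sb E26674 (iv4 F139202)))).symm
theorem E27320 : n41827 = n20599 := ((((iv6 D43543)).symm.trans (sb E26674 F136293))).symm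
theorem E27321 : n43191 = n19154 := ((((iv5 D40547)).symm.trans (sb E26675 (iv5 D92365)))).symm
theorem F290734 : act 2 n43546 = n41808 := (sb E26676 F136332)
theorem E27323 : n93062 = n46676 := ((D93062).symm.trans (sb E26676 (iv5 F136337)))
theorem E27324 : n41838 = n20600 := ((((iv6 D43546)).symm.trans (sb E26676 F136334))).symm
theorem E27325 : n10407 = n4407 := ((((iv1 D9761)).symm.trans (sb E26677 F63536))).symm
theorem E27326 : n22465 = n20468 := (((F32525).symm.trans (sb E26677 F63537))).symm
theorem E27327 : n23098 = n20601 := (((D20601).symm.trans (sb E26677 (iv5 F65675)))).symm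
theorem E27328 : n20465 = n9245 := (((iv7 F35779)).symm.trans (sb E26677 (iv7 D19696)))
theorem E27329 : n23660 = n9134 := (((F31097).symm.trans (sb E26678 (iv3 D48493)))).symm
theorem E27330 : n104904 = n41313 := ((((iv4 F63641)).symm.trans (sb E26678 D104904))).symm
theorem E27331 : n23697 = n9122 := ((((iv6 D19442)).symm.trans (sb E26678 F76317))).symm
theorem E27332 : n9653 = n4492 := ((((iv1 F15524)).symm.trans (sb E26680 (iv1 D20370)))).symm
theorem F290735 : act 0 n88765 = n42502 := (sb E26683 (iv1 D90769))
theorem F290737 : act 2 n88765 = n43936 := (sb E26683 (iv2 F139695))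
theorem E27338 : n186332 = n94442 := (((iv3 F289113)).symm.trans (sb E26683 (iv3 F145619)))
theorem E27339 : n186336 = n93955 := ((D186336).symm.trans (sb E26683 (iv4 F144775)))
theorem E27340 : n43226 = n41443 := ((((iv5 D88765)).symm.trans (sb E26683 F139694))).symm
theorem F290738 : act 7 n88765 = n43225 := (sb E26683 F139693)
theorem F290739 : act 0 n20038 = n10830 := (sb E26684 (iv1 D22943))
theorem E27341 : n47657 = n42443 := ((((iv3 F65560)).symm.trans (sb E26684 D47657))).symm
theorem E27342 : n47658 = n42450 := (((D42450).symm.trans (sb E26684 D47658))).symm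
theorem E27343 : n46934 = n9445 := ((((iv6 D20038)).symm.trans (sb E26684 (iv6 F74150)))).symm
theorem F290740 : act 0 n22942 = n42318 := (sb E26685 (iv1 F135496))
theorem F290741 : act 2 n22942 = n42451 := (sb E26685 (iv2 F135495))
theorem E27344 : n102640 = n47654 := (((D47654).symm.trans (sb E26685 (iv3 F157847)))).symm
theorem E27345 : n89767 = n47655 := (((D47655).symm.trans (sb E26685 (iv5 F137760)))).symm
theorem E27346 : n47656 = n41331 := ((D47656).symm.trans (sb E26685 F135494))
theorem F290742 : act 7 n22942 = n42215 := (sb E26685 F135497)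
theorem E27348 : n47664 = n20784 := ((((iv1 D43876)).symm.trans (sb E26687 (iv1 F151156)))).symm
theorem E27349 : n47663 = n44057 := (((F69375).symm.trans (sb E26687 F151157))).symm
theorem F290743 : act 4 n43876 = n47498 := (sb E26687 F151154)
theorem E27352 : n186034 = n42317 := (((D42317).symm.trans (sb E26688 (iv5 F288638)))).symm
theorem F290744 : act 2 n4935 = n9358 := (sb E26689 F15144)
theorem F290745 : act 5 n4935 = n4380 := (sb E26689 (iv5 D9706))
theorem E27354 : n10827 = n4383 := ((D10827).symm.trans (sb E26689 F15145))
theorem E27355 : n42251 = n10774 := ((((iv1 F34321)).symm.trans (sb E26690 F67909))).symm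
theorem E27356 : n42669 = n10773 := (((F34323).symm.trans (sb E26690 F67910))).symm
theorem E27365 : n42320 = n41350 := ((((iv4 F63719)).symm.trans (sb E26692 D42320))).symm
theorem F290746 : act 5 n19473 = n9421 := (sb E26692 (iv5 D19966))
theorem E27366 : n20514 = n9145 := ((((iv7 D19473)).symm.trans (sb E26692 F65344))).symm
theorem F290747 : act 0 n5061 = n5009 := (sb E26694 F14827)
theorem E27367 : n20210 = n11079 := (((D11079).symm.trans (sb E26694 (iv3 F32045)))).symm
theorem E27368 : n11014 = n5038 := (((iv4 F17876)).symm.trans (sb E26694 (iv4 F14828)))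
theorem E27369 : n9819 = n9293 := ((((iv5 F16082)).symm.trans (sb E26694 (iv5 F15433)))).symm
theorem E27370 : n11080 = n4496 := ((D11080).symm.trans (sb E26694 F14826))
theorem F290748 : act 0 n4310 = n2073 := (sb E26695 (iv1 D5062))
theorem E27371 : n11081 = n9539 := ((((iv3 F14820)).symm.trans (sb E26695 D11081))).symm
theorem E27372 : n11015 = n4988 := ((((iv4 F14801)).symm.trans (sb E26695 (iv4 F17879)))).symm
theorem E27373 : n9544 = n4197 := ((D9544).symm.trans (sb E26695 (iv5 F7501)))
theorem E27374 : n10939 = n1822 := ((((iv6 D4310)).symm.trans (sb E26695 F17753))).symm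
theorem F290749 : act 7 n4310 = n5061 := (sb E26695 (iv7 F16087))
theorem E27376 : n11013 = n4432 := ((((iv0 F15300)).symm.trans (sb E26696 (iv0 F17875)))).symm
theorem E27377 : n11082 = n9122 := ((((iv3 F14188)).symm.trans (sb E26696 D11082))).symm
theorem F290750 : act 4 n4096 = n2073 := (sb E26696 (iv4 D5063))
theorem E27379 : n9134 = n2077 := ((D9134).symm.trans (sb E26696 F7503))
theorem E27380 : n9271 = n2063 := ((((iv1 F16092)).symm.trans (sb E26697 (iv1 F14466)))).symm
theorem E27381 : n4191 = n2068 := (((F16088).symm.trans (sb E26697 (iv0 D9268)))).symm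
theorem E27383 : n19751 = n652 := ((((iv6 D1028)).symm.trans (sb E26697 D19751))).symm
theorem E27384 : n4427 = n1735 := ((((iv1 F2967)).symm.trans (sb E26698 (iv1 D9802)))).symm
theorem E27385 : n9803 = n2076 := (((D2076).symm.trans (sb E26698 (iv0 F15314)))).symm
theorem E27386 : n10020 = n653 := ((((iv5 D1030)).symm.trans (sb E26698 (iv5 F15832)))).symm
theorem E27387 : n5014 = n1794 := ((((iv7 F3053)).symm.trans (sb E26698 F15307))).symm
theorem E27388 : n47659 = n41310 := (((D41310).symm.trans (sb E26699 D47659))).symm
theorem E27390 : n47661 = n41299 := ((((iv2 F63621)).symm.trans (sb E26699 D47661))).symm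
theorem F290751 : act 3 n19441 = n10830 := (sb E26699 (iv3 D22944))
theorem E27391 : n47662 = n41312 := (((D41312).symm.trans (sb E26699 D47662))).symm
theorem E27392 : n41313 = n10845 := ((D41313).symm.trans (sb E26699 F36000))
theorem E27394 : n20541 = n10843 := (((D10843).symm.trans (sb E26701 (iv1 D43449)))).symm
theorem E27395 : n88499 = n10844 := (((D10844).symm.trans (sb E26701 (iv0 F135481)))).symm
theorem E27396 : n44082 = n10846 := (((D10846).symm.trans (sb E26701 F69427))).symm
theorem E27400 : n89781 = n2027 := ((((iv6 D4922)).symm.trans (sb E26702 D89781))).symm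
theorem E27401 : n42243 = n2009 := ((((iv1 F3310)).symm.trans (sb E26703 F66651))).symm
theorem E27403 : n21013 = n647 := (((F1893).symm.trans (sb E26703 (iv5 F66556)))).symm
theorem F290752 : act 0 n87732 = n41366 := (sb E26706 (iv1 D88625))
theorem F290753 : act 2 n87732 = n41792 := (sb E26706 F135847)
theorem E27409 : n90081 = n41782 := (((iv5 F138450)).symm.trans (sb E26706 F135845))
theorem E27410 : n48101 = n40872 := ((((iv6 D87732)).symm.trans (sb E26706 F135848))).symm
theorem F290754 : act 7 n87732 = n44955 := (sb E26706 F135844)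
theorem F290755 : act 0 n81424 = n41792 := (sb E26707 (iv1 F135854))
theorem F290756 : act 1 n81424 = n44955 := (sb E26707 F135855)
theorem F290757 : act 7 n81424 = n41366 := (sb E26707 (iv7 D88626))
theorem E27412 : n40654 = n21193 := ((F66105).symm.trans (sb E26708 F33805))
theorem E27413 : n21196 = n10981 := (((F66591).symm.trans (sb E26708 F33799))).symm
theorem E27414 : n45023 = n42779 := (((D42779).symm.trans (sb E26708 (iv4 F70824)))).symm
theorem E27415 : n19733 = n10260 := ((F66106).symm.trans (sb E26708 F33800))
theorem E27416 : n21295 = n10973 := (((F66107).symm.trans (sb E26708 F33801))).symm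
theorem E27417 : n42754 = n10259 := (((iv7 F66990)).symm.trans (sb E26708 (iv7 D21503)))
theorem E27418 : n23426 = n23060 := ((((iv1 F75068)).symm.trans (sb E26709 (iv1 F75882)))).symm
theorem E27419 : n104294 = n95350 := ((((iv3 F146976)).symm.trans (sb E26709 D104294))).symm
theorem E27420 : n104266 = n44693 := (((F70267).symm.trans (sb E26709 (iv5 F159872)))).symm
theorem E27422 : n95354 = n44956 := ((D95354).symm.trans (sb E26709 (iv7 F75883)))
theorem E27423 : n43823 = n40688 := (((iv1 F68870)).symm.trans (sb E26710 F66624))
theorem E27424 : n44703 = n23388 := ((((iv4 F66739)).symm.trans (sb E26710 (iv4 F70280)))).symm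
theorem F290758 : act 5 n21467 = n42264 := (sb E26710 F66623)
theorem E27426 : n42105 = n10243 := ((((iv7 D21467)).symm.trans (sb E26710 F71506))).symm
theorem E27427 : n42263 = n21273 := ((D42263).symm.trans (sb E26711 F70241))
theorem F290759 : act 7 n21466 = n42264 := (sb E26712 F138474)
theorem F290760 : act 1 n20750 = n20076 := (sb E26713 (iv0 D42523))
theorem E27429 : n46788 = n42254 := ((((iv4 F65273)).symm.trans (sb E26713 F73903))).symm
theorem E27430 : n90805 = n9839 := (((F32902).symm.trans (sb E26713 D90805))).symm
theorem F290761 : act 7 n20750 = n43372 := (sb E26713 (iv7 F73904))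
theorem E27431 : n104295 = n103365 := (((D103365).symm.trans (sb E26714 D104295))).symm
theorem F290762 : act 4 n47898 = n41366 := (sb E26714 (iv4 F75885))
theorem E27433 : n48091 = n40303 := ((F75560).symm.trans (sb E26714 F75887))
theorem E27436 : n48255 = n40496 := (((F61606).symm.trans (sb E26716 F75858))).symm
theorem E27437 : n44110 = n9835 := (((F31172).symm.trans (sb E26716 F71969))).symm
theorem E27438 : n42269 = n19859 := ((((iv7 F31698)).symm.trans (sb E26716 F72017))).symm
theorem E27439 : n89942 = n44000 := ((((iv4 F72337)).symm.trans (sb E26717 (iv4 F138146)))).symm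
theorem E27440 : n96109 = n87848 := ((D96109).symm.trans (sb E26717 (iv6 F137711)))
theorem E27442 : n104902 = n19401 := ((((iv0 D41243)).symm.trans (sb E26718 (iv0 F160773)))).symm
theorem E27443 : n88623 = n20814 := ((((iv5 F66248)).symm.trans (sb E26718 F148137))).symm
theorem F290763 : act 6 n41243 = n44955 := (sb E26718 (iv6 D96291))
theorem E27445 : n41890 = n19781 := ((((iv3 D41987)).symm.trans (sb E26719 F65019))).symm
theorem E27446 : n90082 = n89872 := (((D89872).symm.trans (sb E26719 D90082))).symm
theorem E27447 : n45814 = n42478 := (((iv6 F72350)).symm.trans (sb E26719 F66369))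
theorem E27448 : n87294 = n45815 := ((((iv3 F72352)).symm.trans (sb E26720 (iv3 F133987)))).symm
theorem E27449 : n90083 = n40629 := ((((iv4 F66305)).symm.trans (sb E26720 D90083))).symm
theorem E27450 : n90084 = n10449 := ((((iv6 D21916)).symm.trans (sb E26720 D90084))).symm
theorem E27451 : n44002 = n41991 := ((((iv1 F134881)).symm.trans (sb E26721 (iv1 F137184)))).symm
theorem E27452 : n44699 = n43992 := ((F134882).symm.trans (sb E26721 F137185))
theorem F290764 : act 4 n48129 = n41793 := (sb E26721 F137181)
theorem E27453 : n103961 = n47148 := ((D103961).symm.trans (sb E26721 F137182))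
theorem E27454 : n44266 = n23243 := ((((iv6 D48129)).symm.trans (sb E26721 F137183))).symm
theorem E27455 : n89943 = n41785 := (((iv7 F138152)).symm.trans (sb E26721 (iv7 D89494)))
theorem E27456 : n41509 = n19304 := ((((iv1 D40995)).symm.trans (sb E26722 (iv1 F136350)))).symm
theorem E27457 : n89562 = n87849 := (((F134833).symm.trans (sb E26722 (iv0 F137306)))).symm
theorem E27458 : n46653 = n20817 := ((((iv5 F66315)).symm.trans (sb E26722 F136348))).symm
theorem F290765 : act 6 n40995 = n41793 := (sb E26722 F136349)
theorem E27459 : n41497 = n20594 := ((((iv7 F66317)).symm.trans (sb E26722 (iv7 D88885)))).symm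
theorem E27461 : n48564 = n19408 := (((F63086).symm.trans (sb E26724 F159931))).symm
theorem E27465 : n40462 = n20812 := (((D20812).symm.trans (sb E26726 (iv1 D87082)))).symm
theorem E27467 : n42947 = n20815 := (((D20815).symm.trans (sb E26726 F133692))).symm
theorem E27470 : n46453 = n10965 := (((F66027).symm.trans (sb E26728 (iv1 F75665)))).symm
theorem E27471 : n46454 = n42101 := (((F66028).symm.trans (sb E26728 (iv0 F75664)))).symm
theorem E27472 : n42234 = n41789 := ((D42234).symm.trans (sb E26728 F75657))
theorem F290766 : act 6 n19936 = n41792 := (sb E26728 F75658)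
theorem E27473 : n89773 = n41479 := (((iv1 F137780)).symm.trans (sb E26729 (iv1 D88854)))
theorem E27474 : n89772 = n41744 := ((F137776).symm.trans (sb E26729 F136237))
theorem E27475 : n186492 = n90157 := (((D90157).symm.trans (sb E26729 (iv3 F289365)))).symm
theorem E27476 : n97973 = n90158 := (((D90158).symm.trans (sb E26729 (iv5 F151011)))).symm
theorem E27477 : n46119 = n42503 := ((((iv6 F65985)).symm.trans (sb E26729 (iv6 F136240)))).symm
theorem E27478 : n21400 = n9451 := ((((iv0 D20062)).symm.trans (sb E26730 (iv0 F65795)))).symm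
theorem E27479 : n42229 = n10502 := (((iv7 F65206)).symm.trans (sb E26730 (iv7 D22045)))
theorem E27480 : n19748 = n4568 := (((F14813).symm.trans (sb E26731 D19748))).symm
theorem E27481 : n9601 = n1923 := ((((iv6 D4636)).symm.trans (sb E26731 (iv6 F14960)))).symm
theorem E27484 : n42642 = n10202 := ((((iv6 D21418)).symm.trans (sb E26732 (iv6 F66472)))).symm
theorem E27486 : n9495 = n9217 := ((((iv0 F65724)).symm.trans (sb E26733 (iv0 D20125)))).symm
theorem E27489 : n97995 = n90173 := (((iv5 F151073)).symm.trans (sb E26734 (iv5 F139713)))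
theorem E27490 : n46086 = n42505 := (((iv6 F136326)).symm.trans (sb E26734 (iv6 D90777)))
theorem E27493 : n41538 = n22502 := (((F68041).symm.trans (sb E26736 (iv1 F136374)))).symm
theorem E27494 : n92637 = n41835 := ((F142751).symm.trans (sb E26736 F136375))
theorem E27495 : n92642 = n46746 := ((D92642).symm.trans (sb E26736 F136372))
theorem F290767 : act 6 n43339 = n41808 := (sb E26736 F136373)
theorem E27496 : n41500 = n20595 := (((F68040).symm.trans (sb E26736 (iv7 D88894)))).symm
theorem E27498 : n41548 = n20467 := (((D20467).symm.trans (sb E26738 (iv4 F64111)))).symm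
theorem E27500 : n9205 = n4389 := (((F15162).symm.trans (sb E26738 (iv6 D19564)))).symm
theorem E27501 : n9310 = n4436 := (((F15237).symm.trans (sb E26739 F62648))).symm
theorem E27502 : n41755 = n20607 := ((((iv4 F32683)).symm.trans (sb E26739 (iv4 F64399)))).symm
theorem E27504 : n20608 = n19788 := ((D20608).symm.trans (sb E26739 (iv6 F62660)))
theorem F290768 : act 0 n9887 = n10667 := (sb E26740 (iv1 D22441))
theorem E27505 : n20831 = n10672 := ((D20831).symm.trans (sb E26740 F34985))
theorem E27506 : n23097 = n20596 := ((((iv7 F35777)).symm.trans (sb E26740 (iv7 F65682)))).symm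
theorem E27507 : n20597 = n9195 := ((D20597).symm.trans (sb E26741 (iv6 D19540)))
theorem E27511 : n104904 = n10845 := (E27330).trans E27392
theorem E27516 : n20379 = n4305 := (((F14223).symm.trans (sb E26745 F36786))).symm
theorem E27517 : n48334 = n1794 := (((E27387).symm.trans (((iv4 F15285)).symm.trans (sb E26745 (iv4 F75977))))).symm
theorem E27518 : n23660 = n2077 := (E27329).trans E27379
theorem E27519 : n23694 = n1765 := ((((iv6 D4101)).symm.trans (sb E26745 (iv6 F36848)))).symm
theorem E27521 : n22963 = n9123 := (((F14190).symm.trans (sb E26747 (iv5 D47715)))).symm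
theorem E27522 : n43170 = n20765 := ((((iv4 F32923)).symm.trans (sb E26748 (iv4 F67604)))).symm
theorem E27523 : n9942 = n9649 := (((iv6 F15676)).symm.trans (sb E26748 (iv6 D20363)))
theorem E27524 : n9658 = n974 := (((F3162).symm.trans (sb E26749 F32336))).symm
theorem E27527 : n43189 = n20772 := ((((iv7 F35749)).symm.trans (sb E26750 F140033))).symm
theorem E27528 : n41354 = n20773 := (((D20773).symm.trans (sb E26751 F63740))).symm
theorem E27529 : n46476 = n9399 := ((((iv4 F14617)).symm.trans (sb E26753 D46476))).symm
theorem E27530 : n10613 = n9402 := (((D9402).symm.trans (sb E26753 (iv5 D22270)))).symm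
theorem E27532 : n4987 = n1824 := (((F6185).symm.trans (sb E26754 F17776))).symm
theorem E27534 : n9461 = n4985 := (((iv5 F14677)).symm.trans (sb E26754 (iv5 D10947)))
theorem F290769 : act 5 n19676 = n9401 := (sb E26755 (iv5 D19938))
theorem E27537 : n100617 = n20033 := (((F65548).symm.trans (sb E26756 (iv4 F154686)))).symm
theorem E27540 : n91268 = n22890 := ((((iv4 F35957)).symm.trans (sb E26757 (iv4 F140337)))).symm
theorem E27542 : n20154 = n10636 := (((F17338).symm.trans (sb E26757 (iv6 D42720)))).symm
theorem E27543 : n87739 = n22499 := ((((iv0 F68974)).symm.trans (sb E26759 F138745))).symm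
theorem E27551 : n90994 = n43935 := (((D43935).symm.trans (sb E26764 (iv3 F140029)))).symm
theorem E27552 : n20119 = n19580 := (((F65790).symm.trans (sb E26764 F66458))).symm
theorem E27553 : n20964 = n20118 := ((F65791).symm.trans (sb E26764 (iv6 D42623)))
theorem E27554 : n186333 = n43224 := ((((iv3 F67715)).symm.trans (sb E26765 (iv3 F289114)))).symm
theorem E27557 : n22231 = n20457 := ((D22231).symm.trans (sb E26767 (iv5 D43326)))
theorem E27559 : n92681 = n46969 := ((D92681).symm.trans (sb E26768 (iv1 F153104)))
theorem E27560 : n46482 = n44127 := ((((iv0 F69469)).symm.trans (sb E26768 (iv0 D99408)))).symm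
theorem E27561 : n101178 = n90685 := ((((iv4 F139603)).symm.trans (sb E26768 (iv4 F155879)))).symm
theorem E27562 : n87847 = n22354 := ((((iv3 F65865)).symm.trans (sb E26769 (iv3 F134817)))).symm
theorem E27563 : n90627 = n20582 := ((D90627).symm.trans (sb E26769 (iv5 D43512)))
theorem E27565 : n101177 = n90684 := ((((iv4 F139599)).symm.trans (sb E26770 (iv4 F155874)))).symm
theorem F290770 : act 1 n46958 = n42237 := (sb E26772 F138970)
theorem E27568 : n100566 = n90636 := (((iv4 F154641)).symm.trans (sb E26772 (iv4 F139551)))
theorem F290771 : act 0 n46955 = n42237 := (sb E26773 (iv1 F138967))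
theorem E27569 : n100674 = n93014 := (((iv3 F154775)).symm.trans (sb E26773 F143453))
theorem E27570 : n100578 = n90635 := (((iv4 F154647)).symm.trans (sb E26773 (iv4 F139548)))
theorem E27571 : n152488 = n100679 := (((D100679).symm.trans (sb E26773 (iv6 F239671)))).symm
theorem F290772 : act 7 n100171 = n48278 := (sb E26774 F159792)
theorem F290773 : act 7 n89839 = n48279 := (sb E26775 F159794)
theorem E27574 : n43657 = n10849 := ((((iv1 D22983)).symm.trans (sb E26776 (iv1 F68698)))).symm
theorem E27575 : n20698 = n10863 := (((F36036).symm.trans (sb E26776 (iv0 D43707)))).symm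
theorem E27576 : n93457 = n47772 := (((D47772).symm.trans (sb E26776 D93457))).symm
theorem F290774 : act 7 n95372 = n48225 := (sb E26777 (iv7 D104224))
theorem F290775 : act 1 n21187 = n10987 := (sb E26778 F36504)
theorem F290776 : act 2 n21187 = n10990 := (sb E26778 F36499)
theorem E27578 : n21293 = n10976 := ((F33506).symm.trans (sb E26778 F36501))
theorem E27579 : n41896 = n10094 := ((((iv6 D21187)).symm.trans (sb E26778 (iv6 F64623)))).symm
theorem F290777 : act 7 n21187 = n10975 := (sb E26778 (iv7 D23375))
theorem E27580 : n95692 = n47210 := (((iv4 F147382)).symm.trans (sb E26779 (iv4 D101453)))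
theorem E27582 : n41895 = n21497 := ((((iv7 F66767)).symm.trans (sb E26780 (iv7 D89700)))).symm
theorem E27583 : n48285 = n23520 := ((((iv1 F36651)).symm.trans (sb E26781 (iv1 D104339)))).symm
theorem E27586 : n48283 = n23547 := (((F36656).symm.trans (sb E26783 (iv0 D104327)))).symm
theorem E27587 : n48351 = n11031 := (((F36630).symm.trans (sb E26783 F159956))).symm
theorem E27591 : n11018 = n2065 := (((F7447).symm.trans (sb E26784 F36613))).symm
theorem E27592 : n19757 = n2067 := ((((iv5 F7448)).symm.trans (sb E26784 F36614))).symm
theorem E27594 : n11016 = n5029 := ((((iv7 F7475)).symm.trans (sb E26784 (iv7 D23499)))).symm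
theorem E27595 : n48286 = n23550 := ((((iv7 F36660)).symm.trans (sb E26785 (iv7 D104345)))).symm
theorem E27599 : n41924 = n5045 := ((((iv7 F7488)).symm.trans (sb E26786 F76025))).symm
theorem F290778 : act 3 n11039 = n10989 := (sb E26787 (iv3 D23431))
theorem E27600 : n23551 = n19420 := ((D23551).symm.trans (sb E26787 F36539))
theorem F290779 : act 0 n22993 = n10975 := (sb E26788 (iv1 D23373))
theorem F290780 : act 1 n22993 = n10990 := (sb E26788 F36495)
theorem E27601 : n48223 = n47782 := ((((iv4 F75066)).symm.trans (sb E26788 D48223))).symm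
theorem E27602 : n41990 = n19090 := (((iv5 F64786)).symm.trans (sb E26788 (iv5 F36496)))
theorem E27603 : n20696 = n10851 := ((((iv6 D22993)).symm.trans (sb E26788 (iv6 F63059)))).symm
theorem F290781 : act 7 n22993 = n10987 := (sb E26788 F63489)
theorem F290782 : act 0 n23066 = n10990 := (sb E26789 (iv1 F36502))
theorem F290783 : act 1 n23066 = n10975 := (sb E26789 (iv0 D23372))
theorem F290784 : act 2 n23066 = n10987 := (sb E26789 F63491)
theorem E27604 : n48222 = n47900 := ((((iv4 F75222)).symm.trans (sb E26789 D48222))).symm
theorem E27605 : n43993 = n23241 := ((((iv5 F36330)).symm.trans (sb E26789 (iv5 F69195)))).symm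
theorem E27606 : n42955 = n21240 := (((F36122).symm.trans (sb E26789 (iv6 F67312)))).symm
theorem E27607 : n10197 = n5015 := (((F7434).symm.trans (sb E26790 F16094))).symm
theorem E27609 : n5040 = n2059 := ((((iv7 D5018)).symm.trans (sb E26790 (iv7 F7478)))).symm
theorem E27610 : n10974 = n10330 := (((iv1 F17831)).symm.trans (sb E26791 (iv1 F66788)))
theorem E27614 : n23401 = n10097 := (((F66772).symm.trans (sb E26792 F36527))).symm
theorem E27616 : n11046 = n9258 := ((D11046).symm.trans (sb E26792 F31492))
theorem F290785 : act 6 n5034 = n10990 := (sb E26792 F31493)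
theorem E27617 : n9257 = n5047 := ((((iv7 F7490)).symm.trans (sb E26792 (iv7 D19735)))).symm
theorem F290786 : act 5 n97012 = n47150 := (sb E26795 (iv5 D101254))
theorem E27619 : n95691 = n48290 := ((F149628).symm.trans (sb E26795 (iv7 F156003)))
theorem F290787 : act 0 n23432 = n45404 := (sb E26797 (iv1 F71627))
theorem F290788 : act 1 n23432 = n21314 := (sb E26797 (iv0 D44746))
theorem F290789 : act 2 n23432 = n45401 := (sb E26797 F71620)
theorem E27620 : n95821 = n48291 := (((D48291).symm.trans (sb E26797 D95821))).symm
theorem F290790 : act 7 n23432 = n45402 := (sb E26797 (iv7 F71619))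
theorem E27622 : n41925 = n23617 := ((((iv7 F36750)).symm.trans (sb E26800 (iv7 D89755)))).symm
theorem E27623 : n23618 = n9337 := ((D23618).symm.trans (sb E26801 F31490))
theorem E27624 : n23185 = n19418 := (((D19418).symm.trans (sb E26802 (iv1 D48055)))).symm
theorem E27625 : n48408 = n19419 := (((D19419).symm.trans (sb E26802 (iv0 F76078)))).symm
theorem E27626 : n45458 = n19421 := (((D19421).symm.trans (sb E26802 F75517))).symm
theorem F290791 : act 0 n104220 = n48377 := (sb E26803 (iv1 D104609))
theorem F290792 : act 1 n104221 = n48377 := (sb E26804 (iv0 D104608))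
theorem F290793 : act 2 n48380 = n48225 := (sb E26805 (iv2 D104222))
theorem E27627 : n96090 = n87291 := (((iv6 F147711)).symm.trans (sb E26805 F159797))
theorem F290794 : act 5 n97141 = n48225 := (sb E26806 (iv5 D104223))
theorem E27630 : n21746 = n9332 := (((F14525).symm.trans (sb E26808 (iv1 F70807)))).symm
theorem E27631 : n21742 = n9336 := (((F14537).symm.trans (sb E26808 F70808))).symm
theorem F290795 : act 5 n97011 = n47211 := (sb E26809 F156275)
theorem F290796 : act 5 n97142 = n87293 := (sb E26810 F159806)
theorem E27634 : n41368 = n21695 := ((D41368).symm.trans (sb E26811 F68339))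
theorem E27635 : n22375 = n20560 := (((iv6 F34928)).symm.trans (sb E26811 (iv6 D43479)))
theorem E27636 : n97369 = n42077 := (((D42077).symm.trans (sb E26812 (iv3 F150108)))).symm
theorem E27637 : n42078 = n21694 := ((D42078).symm.trans (sb E26812 (iv5 D45473)))
theorem E27638 : n42079 = n23547 := ((D42079).symm.trans (sb E26812 F71723))
theorem E27639 : n44108 = n42085 := ((((iv1 F64998)).symm.trans (sb E26813 (iv1 D94378)))).symm
theorem E27640 : n45087 = n42084 := (((F64995).symm.trans (sb E26813 F145509))).symm
theorem E27641 : n45457 = n42063 := ((((iv7 F64946)).symm.trans (sb E26813 F145510))).symm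
theorem F290797 : act 4 n88374 = n48278 := (sb E26815 F140110)
theorem F290798 : act 6 n48472 = n48278 := (sb E26816 (iv6 D104318))
theorem F290799 : act 6 n96025 = n48279 := (sb E26817 (iv6 D104320))
theorem F290800 : act 0 n101424 = n95683 := (sb E26822 F158495)
theorem F290801 : act 1 n101424 = n95676 := (sb E26822 F158496)
theorem F290802 : act 4 n101424 = n47846 := (sb E26822 (iv4 D103250))
theorem E27651 : n20334 = n5041 := (((F17905).symm.trans (sb E26824 F67469))).symm
theorem E27657 : n91869 = n21697 := ((((iv3 F34146)).symm.trans (sb E26826 (iv3 F141238)))).symm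
theorem E27659 : n20284 = n10180 := (((F33527).symm.trans (sb E26826 (iv5 D42948)))).symm
theorem E27660 : n91875 = n44816 := (((D44816).symm.trans (sb E26826 (iv6 F141246)))).symm
theorem E27663 : n9793 = n2039 := (((F7372).symm.trans (sb E26828 (iv4 D20664)))).symm
theorem E27664 : n43676 = n10862 := (((D10862).symm.trans (sb E26828 D43676))).symm
theorem E27667 : n19323 = n10853 := (((F36041).symm.trans (sb E26829 (iv4 D41051)))).symm
theorem E27668 : n87935 = n47776 := ((((iv5 F75040)).symm.trans (sb E26829 D87935))).symm
theorem E27670 : n47835 = n43736 := (((iv1 F75119)).symm.trans (sb E26830 F144018))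
theorem E27672 : n47632 = n19549 := (((F64049).symm.trans (sb E26834 (iv3 D102697)))).symm
theorem E27675 : n47631 = n20416 := (((D20416).symm.trans (sb E26836 D47631))).symm
theorem E27676 : n44009 = n19153 := ((((iv2 F30772)).symm.trans (sb E26836 (iv2 F69238)))).symm
theorem F290803 : act 5 n9696 = n10824 := (sb E26836 (iv5 D22925))
theorem E27677 : n47633 = n4375 := ((((iv6 D9696)).symm.trans (sb E26836 D47633))).symm
theorem E27678 : n19502 = n1890 := ((((iv0 F7282)).symm.trans (sb E26837 (iv0 F35994)))).symm
theorem E27682 : n88770 = n10511 := (((D10511).symm.trans (sb E26839 (iv3 F136155)))).symm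
theorem E27683 : n20622 = n1987 := ((((iv4 D4815)).symm.trans (sb E26839 F63890))).symm
theorem E27685 : n19518 = n10513 := (((D10513).symm.trans (sb E26839 (iv6 D41445)))).symm
theorem E27690 : n42481 = n21271 := (((F63553).symm.trans (sb E26844 (iv2 F139115)))).symm
theorem E27691 : n48426 = n41683 := (((F64324).symm.trans (sb E26844 F139114))).symm
theorem E27692 : n82480 = n45791 := (((D45791).symm.trans (sb E26844 F139113))).symm
theorem E27693 : n45792 = n42474 := ((D45792).symm.trans (sb E26844 (iv6 F139118)))
theorem F290804 : act 5 n40553 = n20421 := (sb E26845 (iv5 D43266))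
theorem F290805 : act 7 n40553 = n42111 := (sb E26845 F67838)
theorem E27695 : n44821 = n42520 := (((iv1 F73956)).symm.trans (sb E26846 F74262))
theorem E27696 : n42519 = n41573 := (((F73954).symm.trans (sb E26846 F74263))).symm
theorem F290806 : act 2 n43267 = n40870 := (sb E26846 F74259)
theorem E27697 : n46836 = n22608 := (((iv5 F73981)).symm.trans (sb E26846 (iv5 D47025)))
theorem E27698 : n44820 = n40874 := (((iv7 F70403)).symm.trans (sb E26846 F74261))
theorem F290807 : act 0 n43539 = n42521 := (sb E26847 F75266)
theorem F290808 : act 2 n43539 = n41841 := (sb E26847 F75263)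
theorem E27699 : n103456 = n93054 := (((D93054).symm.trans (sb E26847 D103456))).symm
theorem F290809 : act 1 n43547 = n42521 := (sb E26848 F75281)
theorem E27701 : n103457 = n93063 := (((D93063).symm.trans (sb E26848 D103457))).symm
theorem F290810 : act 7 n43547 = n41841 := (sb E26848 F75280)
theorem E27703 : n46816 = n43335 := (((F138592).symm.trans (sb E26849 (iv1 F152988)))).symm
theorem E27704 : n46451 = n43330 := (((F138593).symm.trans (sb E26849 (iv0 D99344)))).symm
theorem E27705 : n100988 = n92853 := ((((iv4 F143224)).symm.trans (sb E26849 (iv4 F155607)))).symm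
theorem E27706 : n46813 = n43495 := (((F138591).symm.trans (sb E26849 F152987))).symm
theorem F290811 : act 1 n43946 = n41841 := (sb E26850 F134684)
theorem F290812 : act 2 n43946 = n42521 := (sb E26850 F134683)
theorem E27713 : n96158 = n42538 := (((iv7 F147835)).symm.trans (sb E26852 F138991))
theorem E27715 : n90406 = n19174 := ((((iv4 F30806)).symm.trans (sb E26855 D90406))).symm
theorem E27731 : n23308 = n20844 := (((D20844).symm.trans (sb E26863 (iv1 F65744)))).symm
theorem E27732 : n41847 = n20407 := ((((iv0 F35811)).symm.trans (sb E26863 F64513))).symm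
theorem F290813 : act 5 n9892 = n9248 := (sb E26863 (iv5 D19705))
theorem E27733 : n41352 = n20847 := (((D20847).symm.trans (sb E26863 (iv7 F63730)))).symm
theorem F290814 : act 3 n19706 = n40870 := (sb E26864 (iv3 F66074))
theorem F290815 : act 0 n43954 = n42111 := (sb E26866 (iv1 F137384))
theorem E27735 : n90798 = n46819 := (((iv6 F139757)).symm.trans (sb E26866 (iv6 F137385)))
theorem F290816 : act 1 n40402 = n42111 := (sb E26867 F137388)
theorem F290817 : act 5 n40402 = n42445 := (sb E26867 (iv5 F137390))
theorem E27736 : n103920 = n19087 := ((((iv6 D40402)).symm.trans (sb E26867 (iv6 F159350)))).symm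
theorem F290818 : act 0 n41601 = n43546 := (sb E26868 (iv1 F137774))
theorem E27737 : n92540 = n47617 := ((((iv5 F74875)).symm.trans (sb E26868 (iv5 F142523)))).symm
theorem E27738 : n43583 = n19588 := ((((iv6 D41601)).symm.trans (sb E26868 F137392))).symm
theorem E27740 : n20121 = n19156 := ((((iv0 F66161)).symm.trans (sb E26869 (iv0 D42629)))).symm
theorem F290819 : act 0 n43265 = n41736 := (sb E26870 (iv1 F69109))
theorem F290820 : act 1 n43265 = n44003 := (sb E26870 F69221)
theorem F290821 : act 4 n43265 = n88880 := (sb E26870 (iv4 F136325))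
theorem E27741 : n87300 = n41826 := (((F67835).symm.trans (sb E26870 (iv6 F134029)))).symm
theorem F290822 : act 7 n43265 = n20839 := (sb E26870 (iv7 D43957))
theorem F290823 : act 1 n46843 = n40870 := (sb E26871 (iv0 D87729))
theorem E27742 : n90338 = n89496 := (((F137192).symm.trans (sb E26871 F138997))).symm
theorem E27744 : n82481 = n22500 := ((((iv5 D46843)).symm.trans (sb E26871 F134663))).symm
theorem F290824 : act 0 n21349 = n40870 := (sb E26872 (iv1 F75288))
theorem E27746 : n47940 = n43469 := (((F68322).symm.trans (sb E26872 F75284))).symm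
theorem E27747 : n46818 = n22611 := ((((iv1 F35152)).symm.trans (sb E26873 (iv1 F75527)))).symm
theorem E27748 : n23202 = n9060 := ((((iv0 D19266)).symm.trans (sb E26873 (iv0 D48075)))).symm
theorem E27749 : n43504 = n10660 := ((((iv4 F66073)).symm.trans (sb E26873 F75526))).symm
theorem E27750 : n42522 = n41486 := ((D42522).symm.trans (sb E26874 F70502))
theorem E27751 : n42620 = n41821 := (((D41821).symm.trans (sb E26875 F75913))).symm
theorem E27753 : n90854 = n22488 := ((((iv0 D46832)).symm.trans (sb E26877 (iv0 F139854)))).symm
theorem F290825 : act 5 n46832 = n41841 := (sb E26877 (iv5 D89590))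
theorem E27754 : n186011 = n94049 := ((((iv3 F144893)).symm.trans (sb E26878 D186011))).symm
theorem F290826 : act 6 n43968 = n41841 := (sb E26878 F135778)
theorem E27755 : n93989 = n91294 := (((iv4 F144805)).symm.trans (sb E26879 F154231))
theorem E27756 : n46770 = n43522 := (((D43522).symm.trans (sb E26881 F152995))).symm
theorem E27758 : n46810 = n43492 := ((((iv3 F68351)).symm.trans (sb E26882 (iv3 F73934)))).symm
theorem E27759 : n46814 = n43496 := (((D43496).symm.trans (sb E26882 D46814))).symm
theorem E27760 : n46815 = n43497 := (((D43497).symm.trans (sb E26882 D46815))).symm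
theorem E27761 : n99455 = n92603 := (((F143384).symm.trans (sb E26883 F154128))).symm
theorem E27762 : n100990 = n92596 := (((F143385).symm.trans (sb E26883 F155611))).symm
theorem F290827 : act 5 n92972 = n46754 := (sb E26883 (iv5 D100179))
theorem E27763 : n100987 = n92854 := (((F143383).symm.trans (sb E26883 F155604))).symm
theorem F290828 : act 7 n90801 = n43494 := (sb E26885 F142715)
theorem F290829 : act 1 n88870 = n41873 := (sb E26886 (iv0 D89653))
theorem F290830 : act 6 n88870 = n42521 := (sb E26886 (iv6 F137452))
theorem F290831 : act 2 n20987 = n41873 := (sb E26887 (iv2 F64545))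
theorem E27765 : n10839 = n9962 := (((F33160).symm.trans (sb E26887 F36016))).symm
theorem E27767 : n41876 = n40434 := ((((iv4 D87039)).symm.trans (sb E26888 F137463))).symm
theorem E27768 : n46483 = n42554 := (((F133600).symm.trans (sb E26888 F137464))).symm
theorem F290832 : act 7 n87039 = n41873 := (sb E26888 (iv7 D89656))
theorem E27771 : n48427 = n41682 := (((F64320).symm.trans (sb E26891 (iv2 F76261)))).symm
theorem E27772 : n104865 = n41693 := (((D41693).symm.trans (sb E26891 D104865))).symm
theorem E27774 : n103339 = n40603 := ((((iv4 F61717)).symm.trans (sb E26893 F158590))).symm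
theorem E27779 : n89860 = n41844 := (((D41844).symm.trans (sb E26895 (iv5 F137926)))).symm
theorem E27781 : n90408 = n48120 := ((((iv0 F75616)).symm.trans (sb E26896 F159893))).symm
theorem E27782 : n91293 = n89828 := (((iv4 F140362)).symm.trans (sb E26896 F159892))
theorem E27783 : n87870 = n46652 := (((F73720).symm.trans (sb E26896 F159890))).symm
theorem E27784 : n42588 = n41511 := ((((iv1 F70223)).symm.trans (sb E26897 (iv1 D90924)))).symm
theorem E27786 : n87871 = n41363 := (((F70221).symm.trans (sb E26897 (iv5 F139932)))).symm
theorem F290833 : act 1 n41806 = n43546 := (sb E26898 F138498)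
theorem F290834 : act 4 n41806 = n42111 := (sb E26898 (iv4 D90095))
theorem E27788 : n92539 = n47618 := (((F74880).symm.trans (sb E26898 (iv5 F142517)))).symm
theorem E27789 : n90334 = n46914 := ((((iv6 F74125)).symm.trans (sb E26898 F138984))).symm
theorem E27790 : n87003 = n42444 := (((iv1 F133529)).symm.trans (sb E26899 F137283))
theorem E27791 : n87295 = n42430 := (((iv0 F133995)).symm.trans (sb E26899 (iv0 F137284)))
theorem E27792 : n46954 = n41817 := ((F127132).symm.trans (sb E26899 (iv5 D89551)))
theorem F290835 : act 6 n82492 = n42111 := (sb E26899 F137281)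
theorem E27793 : n47860 = n37862 := ((((iv7 D82492)).symm.trans (sb E26899 F137282))).symm
theorem E27794 : n19838 = n19808 := ((((iv3 F63286)).symm.trans (sb E26900 F59889))).symm
theorem E27795 : n43122 = n20946 := (((F62871).symm.trans (sb E26900 (iv4 F67531)))).symm
theorem E27796 : n42071 = n22875 := ((((iv5 F63348)).symm.trans (sb E26900 (iv5 F64971)))).symm
theorem E27797 : n18466 = n10515 := ((((iv6 D22086)).symm.trans (sb E26900 (iv6 D38862)))).symm
theorem E27798 : n90925 = n47508 := (((F74822).symm.trans (sb E26901 (iv3 F139936)))).symm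
theorem E27800 : n92482 = n22874 := ((((iv5 D47578)).symm.trans (sb E26901 (iv5 F142337)))).symm
theorem E27801 : n84249 = n41824 := (((F74823).symm.trans (sb E26901 F139772))).symm
theorem F290836 : act 0 n89651 = n113746 := (sb E26904 (iv1 F288026))
theorem F290837 : act 1 n89651 = n113751 := (sb E26904 (iv0 F288023))
theorem E27802 : n91711 = n45468 := (((iv4 F140981)).symm.trans (sb E26904 F145195))
theorem F290838 : act 5 n89651 = n102574 := (sb E26904 (iv5 F157533))
theorem E27803 : n44030 = n41871 := ((((iv6 D89651)).symm.trans (sb E26904 (iv6 D94178)))).symm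
theorem F290839 : act 7 n89651 = n182290 := (sb E26904 (iv7 F283792))
theorem E27804 : n41874 = n20406 := ((D41874).symm.trans (sb E26905 (iv1 F35810)))
theorem F290840 : act 1 n19713 = n19111 := (sb E26905 (iv0 F35790))
theorem E27805 : n41869 = n40710 := (((iv3 F64535)).symm.trans (sb E26905 (iv3 F62928)))
theorem E27806 : n19508 = n19439 := ((F31465).symm.trans (sb E26905 (iv5 F35654)))
theorem F290841 : act 5 n47575 = n41873 := (sb E26906 (iv5 D89655))
theorem E27808 : n42120 = n19517 := (((F31463).symm.trans (sb E26907 F65049))).symm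
theorem F290842 : act 6 n93032 = n46964 := (sb E26908 (iv6 D100708))
theorem E27809 : n46848 = n43516 := ((((iv3 F68386)).symm.trans (sb E26909 (iv3 F74036)))).symm
theorem E27810 : n22965 = n9759 := ((((iv5 D20591)).symm.trans (sb E26909 (iv5 F36022)))).symm
theorem E27811 : n42193 = n10709 := (((iv6 F65124)).symm.trans (sb E26909 (iv6 D22589)))
theorem E27812 : n46480 = n44126 := (((iv1 F73415)).symm.trans (sb E26911 (iv1 F137295)))
theorem F290843 : act 1 n22588 = n41820 := (sb E26911 (iv0 D89559))
theorem F290844 : act 6 n22588 = n43528 := (sb E26911 F137291)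
theorem E27813 : n42562 = n10708 := ((((iv7 D22588)).symm.trans (sb E26911 F137293))).symm
theorem E27815 : n21425 = n3990 := (((F15266).symm.trans (sb E26914 D21425))).symm
theorem F290845 : act 5 n4190 = n4636 := (sb E26914 (iv5 D10206))
theorem E27816 : n9267 = n4959 := ((D9267).symm.trans (sb E26914 F16120))
theorem E27817 : n96170 = n19110 := (((F31505).symm.trans (sb E26915 D96170))).symm
theorem E27818 : n96171 = n41931 := (((D41931).symm.trans (sb E26915 D96171))).symm
theorem E27819 : n41932 = n23099 := ((D41932).symm.trans (sb E26915 F70520))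
theorem E27820 : n20669 = n4957 := ((((iv5 D10882)).symm.trans (sb E26916 (iv5 F32776)))).symm
theorem F290846 : act 6 n10882 = n9264 := (sb E26916 (iv6 D19747))
theorem E27821 : n102746 = n42138 := (((D42138).symm.trans (sb E26917 (iv5 F158010)))).symm
theorem E27823 : n48299 = n41348 := (((F63715).symm.trans (sb E26919 F139537))).symm
theorem E27825 : n48300 = n41347 := (((F63694).symm.trans (sb E26920 F76248))).symm
theorem E27826 : n88871 = n41897 := (((D41897).symm.trans (sb E26920 (iv5 F136290)))).symm
theorem E27828 : n90787 = n21992 := (((F61670).symm.trans (sb E26921 (iv4 F139723)))).symm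
theorem F290847 : act 5 n40543 = n20748 := (sb E26921 (iv5 D43825))
theorem E27832 : n46844 = n37848 := ((((iv1 F58692)).symm.trans (sb E26923 F145077))).symm
theorem E27834 : n92543 = n45739 := (((D45739).symm.trans (sb E26924 (iv5 F142532)))).symm
theorem F290848 : act 6 n21864 = n42659 := (sb E26924 F67924)
theorem E27835 : n10951 = n3990 := ((((iv3 D8950)).symm.trans (sb E26925 F65735))).symm
theorem E27836 : n46948 = n19110 := (((D19110).symm.trans (sb E26925 (iv4 F74165)))).symm
theorem E27837 : n19112 = n10706 := ((D19112).symm.trans (sb E26925 (iv6 D22579)))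
theorem E27839 : n103949 = n86908 := ((((iv4 F133341)).symm.trans (sb E26929 (iv4 F159401)))).symm
theorem E27840 : n92458 = n46953 := ((D92458).symm.trans (sb E26929 (iv6 D100675)))
theorem E27841 : n88724 = n88502 := ((((iv1 F135489)).symm.trans (sb E26930 F154793))).symm
theorem E27842 : n102884 = n43525 := (((F68403).symm.trans (sb E26930 F158188))).symm
theorem F290849 : act 2 n22584 = n41820 := (sb E26931 F67769)
theorem F290850 : act 6 n22584 = n20400 := (sb E26931 (iv6 D43245))
theorem E27844 : n92519 = n46783 := ((D92519).symm.trans (sb E26934 (iv6 D100258)))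
theorem E27845 : n92522 = n46781 := (((D46781).symm.trans (sb E26936 D92522))).symm
theorem E27846 : n46782 = n20796 := ((D46782).symm.trans (sb E26936 (iv0 F69024)))
theorem E27847 : n46784 = n43444 := ((D46784).symm.trans (sb E26936 (iv5 F68297)))
theorem F290851 : act 6 n22442 = n20439 := (sb E26936 (iv6 D43289))
theorem E27848 : n92476 = n46446 := ((((iv7 F73327)).symm.trans (sb E26936 (iv7 F142302)))).symm
theorem E27849 : n92523 = n89081 := ((((iv3 F136791)).symm.trans (sb E26937 D92523))).symm
theorem E27850 : n92524 = n47476 := ((((iv5 F74652)).symm.trans (sb E26937 D92524))).symm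
theorem E27851 : n43587 = n19597 := ((((iv6 D41623)).symm.trans (sb E26937 (iv6 F68515)))).symm
theorem F290852 : act 7 n41623 = n42140 := (sb E26937 F67901)
theorem E27853 : n9773 = n4791 := (((F14396).symm.trans (sb E26938 (iv0 D20618)))).symm
theorem E27854 : n43502 = n10668 := ((((iv5 F17216)).symm.trans (sb E26938 (iv5 F68363)))).symm
theorem E27856 : n10608 = n9758 := (((iv1 F17127)).symm.trans (sb E26939 (iv1 F32668)))
theorem E27857 : n9753 = n2016 := ((((iv0 D4885)).symm.trans (sb E26939 (iv0 D20570)))).symm
theorem E27858 : n43501 = n10666 := (((D10666).symm.trans (sb E26939 D43501))).symm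
theorem E27859 : n42555 = n10606 := ((((iv7 F35518)).symm.trans (sb E26939 (iv7 F66383)))).symm
theorem E27862 : n11075 = n4188 := ((((iv3 F6089)).symm.trans (sb E26942 (iv3 F17943)))).symm
theorem E27867 : n48305 = n8945 := (((D8945).symm.trans (sb E26943 D48305))).symm
theorem E27868 : n20726 = n8947 := (((D8947).symm.trans (sb E26943 F36564))).symm
theorem E27869 : n20321 = n8948 := (((D8948).symm.trans (sb E26943 (iv6 F36567)))).symm
theorem F290853 : act 3 n9262 = n19679 := (sb E26944 F65788)
theorem E27870 : n19741 = n9812 := ((D19741).symm.trans (sb E26944 F15399))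
theorem E27871 : n10198 = n9527 := (((F14782).symm.trans (sb E26944 (iv6 F16028)))).symm
theorem F290854 : act 7 n9262 = n4636 := (sb E26944 F15356)
theorem E27872 : n5070 = n4568 := ((((iv1 F15294)).symm.trans (sb E26945 (iv1 D11089)))).symm
theorem E27873 : n10957 = n9812 := ((((iv0 F15393)).symm.trans (sb E26945 F17970))).symm
theorem E27876 : n44022 = n43174 := (((iv1 F69277)).symm.trans (sb E26948 (iv1 F138735)))
theorem E27877 : n92226 = n44094 := (((F69442).symm.trans (sb E26948 F141856))).symm
theorem F290855 : act 2 n41742 = n42140 := (sb E26949 (iv2 F65059))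
theorem E27880 : n89762 = n43711 := ((((iv3 F68704)).symm.trans (sb E26949 D89762))).symm
theorem E27881 : n89763 = n47477 := (((F74660).symm.trans (sb E26949 D89763))).symm
theorem E27882 : n44872 = n42734 := (((iv6 F70481)).symm.trans (sb E26949 (iv6 F66938)))
theorem F290856 : act 0 n20178 = n19676 := (sb E26950 F65731)
theorem F290857 : act 1 n20178 = n19706 := (sb E26950 F65732)
theorem F290858 : act 6 n20178 = n19679 := (sb E26950 (iv6 F65757))
theorem E27883 : n20063 = n10196 := (((iv7 F35711)).symm.trans (sb E26950 (iv7 D21402)))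
theorem E27884 : n87199 = n9026 := ((((iv6 D19204)).symm.trans (sb E26952 F144512))).symm
theorem E27885 : n98106 = n21618 := ((((iv4 F63473)).symm.trans (sb E26953 D98106))).symm
theorem F290859 : act 5 n19854 = n21916 := (sb E26953 (iv5 D45817))
theorem E27886 : n46637 = n42104 := (((D42104).symm.trans (sb E26953 (iv6 F73681)))).symm
theorem E27887 : n21186 = n19721 := (((F31485).symm.trans (sb E26954 (iv0 F33569)))).symm
theorem E27888 : n23047 = n19719 := ((((iv2 F63464)).symm.trans (sb E26954 F63406))).symm
theorem E27890 : n19730 = n10190 := ((D19730).symm.trans (sb E26954 (iv5 D21379)))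
theorem E27891 : n22989 = n19731 := (((D19731).symm.trans (sb E26954 (iv6 F36048)))).symm
theorem E27892 : n23577 = n19718 := ((((iv7 F63462)).symm.trans (sb E26954 (iv7 F66777)))).symm
theorem E27894 : n104257 = n44689 := (((D44689).symm.trans (sb E26955 D104257))).symm
theorem E27895 : n104258 = n44690 := (((D44690).symm.trans (sb E26955 D104258))).symm
theorem E27896 : n46654 = n44691 := (((D44691).symm.trans (sb E26955 (iv6 F75848)))).symm
theorem E27898 : n89722 = n44845 := ((((iv4 F70442)).symm.trans (sb E26956 D89722))).symm
theorem F290860 : act 5 n21372 = n19728 := (sb E26956 (iv5 D41906))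
theorem F290861 : act 6 n22366 = n19728 := (sb E26957 (iv6 D41907))
theorem F290862 : act 5 n19853 = n41987 := (sb E26958 F76150)
theorem E27903 : n48317 = n19651 := ((((iv4 F63697)).symm.trans (sb E26959 (iv4 F75948)))).symm
theorem E27904 : n90098 = n43258 := (((D43258).symm.trans (sb E26959 F138510))).symm
theorem E27907 : n90008 = n44688 := (((D44688).symm.trans (sb E26960 (iv6 F138282)))).symm
theorem E27908 : n103943 = n87016 := (((F133551).symm.trans (sb E26961 (iv4 F159390)))).symm
theorem F290863 : act 5 n41791 = n40686 := (sb E26961 (iv5 D87454))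
theorem E27909 : n103347 = n88351 := ((((iv0 F135310)).symm.trans (sb E26962 F158616))).symm
theorem E27911 : n89373 = n46658 := (((iv7 F137046)).symm.trans (sb E26962 F137421))
theorem F290864 : act 5 n21464 = n40689 := (sb E26963 F134265)
theorem E27915 : n48496 = n42762 := ((((iv6 F67003)).symm.trans (sb E26965 F138174))).symm
theorem E27916 : n42107 = n10744 := (((F66810).symm.trans (sb E26965 F138171))).symm
theorem E27917 : n44670 = n19951 := ((F70233).symm.trans (sb E26966 F65281))
theorem F290865 : act 7 n22906 = n19950 := (sb E26966 (iv7 D42272))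
theorem F290866 : act 7 n19855 = n10819 := (sb E26967 F66812)
theorem E27919 : n47998 = n8942 := ((((iv3 D19092)).symm.trans (sb E26968 F152999))).symm
theorem E27920 : n104154 = n21644 := ((((iv4 F63199)).symm.trans (sb E26968 (iv4 F159665)))).symm
theorem E27928 : n42592 = n9022 := ((((iv0 F14091)).symm.trans (sb E26972 (iv0 F70680)))).symm
theorem E27931 : n42152 = n39116 := (((F289769).symm.trans (sb E26973 (iv7 D90172)))).symm
theorem E27932 : n45745 = n42153 := (((iv7 F72193)).symm.trans (sb E26974 (iv7 D90177)))
theorem F290867 : act 2 n22912 = n42659 := (sb E26975 (iv2 F66700))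
theorem E27933 : n90482 = n47621 := (((D47621).symm.trans (sb E26975 (iv5 F139246)))).symm
theorem E27934 : n45746 = n9363 := (((F31723).symm.trans (sb E26976 D45746))).symm
theorem F290868 : act 7 n19889 = n10820 := (sb E26976 F66817)
theorem F290869 : act 1 n20134 = n10822 := (sb E26977 F35533)
theorem F290870 : act 2 n20134 = n10673 := (sb E26977 F35534)
theorem E27935 : n46445 = n42660 := (((D42660).symm.trans (sb E26977 (iv4 F73324)))).symm
theorem F290871 : act 0 n11008 = n10822 := (sb E26978 F65711)
theorem E27936 : n44874 = n23485 := (((D23485).symm.trans (sb E26978 (iv4 F70491)))).symm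
theorem E27937 : n23486 = n10195 := ((D23486).symm.trans (sb E26978 (iv6 D21399)))
theorem F290872 : act 7 n11008 = n10673 := (sb E26978 F65713)
theorem F290873 : act 5 n9424 = n10822 := (sb E26979 (iv5 D22918))
theorem F290874 : act 1 n9423 = n10673 := (sb E26980 (iv0 D22458))
theorem F290875 : act 7 n9423 = n10822 := (sb E26980 F66833)
theorem E27939 : n22853 = n9361 := (((D9361).symm.trans (sb E26981 F35429))).symm
theorem E27941 : n21799 = n1805 := ((((iv5 D4247)).symm.trans (sb E26981 (iv5 F62641)))).symm
theorem E27943 : n102942 = n42191 := (((D42191).symm.trans (sb E26982 F158233))).symm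
theorem E27944 : n46477 = n42192 := (((D42192).symm.trans (sb E26982 (iv6 D99397)))).symm
theorem E27946 : n42194 = n10707 := ((D42194).symm.trans (sb E26983 F35544))
theorem E27949 : n10893 = n8948 := (((D8948).symm.trans (sb E26984 F36176))).symm
theorem F290876 : act 5 n19106 = n10673 := (sb E26986 (iv5 D22460))
theorem E27959 : n4339 = n635 := (((F1843).symm.trans (sb E26993 F15003))).symm
theorem E27961 : n10078 = n634 := ((((iv5 D978)).symm.trans (sb E26993 (iv5 F15933)))).symm
theorem E27962 : n4337 = n1895 := (((D1895).symm.trans (sb E26993 (iv6 D9633)))).symm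
theorem F290877 : act 2 n90148 = n47498 := (sb E26995 F151041)
theorem F290878 : act 5 n90148 = n45735 := (sb E26995 (iv5 D97988))
theorem F290879 : act 7 n90148 = n47665 := (sb E26995 (iv7 F151043))
theorem F290880 : act 2 n90147 = n47665 := (sb E26996 F151148)
theorem F290881 : act 5 n90147 = n47470 := (sb E26996 F151149)
theorem F290882 : act 7 n90147 = n47498 := (sb E26996 (iv7 F151150))
theorem F290883 : act 1 n90175 = n96168 := (sb E26997 F151112)
theorem F290884 : act 2 n90175 = n47637 := (sb E26997 F151110)
theorem E27967 : n92542 = n47638 := (((D47638).symm.trans (sb E26998 D92542))).symm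
theorem F290885 : act 0 n90149 = n96168 := (sb E26999 F151077)
theorem F290886 : act 7 n90149 = n47637 := (sb E26999 F151076)
theorem E27969 : n22653 = n21708 := (((F71736).symm.trans (sb E27001 F73420))).symm
theorem F290887 : act 0 n47710 = n42184 := (sb E27003 F135516)
theorem F290888 : act 1 n47710 = n41819 := (sb E27003 F135517)
theorem E27970 : n185837 = n102870 := ((((iv3 F158177)).symm.trans (sb E27003 (iv3 F288227)))).symm
theorem E27971 : n182284 = n102883 := (((D102883).symm.trans (sb E27003 (iv4 F283783)))).symm
theorem E27972 : n164210 = n102874 := ((((iv6 F158180)).symm.trans (sb E27003 F258829))).symm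
theorem E27973 : n46481 = n44121 := ((((iv3 F69461)).symm.trans (sb E27006 D46481))).symm
theorem F290889 : act 7 n89556 = n46957 := (sb E27007 F153088)
theorem F290890 : act 2 n42497 = n46955 := (sb E27008 F153089)
theorem E27975 : n101170 = n90757 := (((D90757).symm.trans (sb E27008 (iv4 F155867)))).symm
theorem F290891 : act 7 n42497 = n46958 := (sb E27008 F153090)
theorem F290892 : act 7 n22585 = n41820 := (sb E27009 (iv7 D89560))
theorem E27978 : n186017 = n93826 := ((((iv3 F144648)).symm.trans (sb E27012 D186017))).symm
theorem E27983 : n104983 = n19078 := (((F31709).symm.trans (sb E27021 (iv4 F160880)))).symm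
theorem E27984 : n47674 = n42117 := (((D42117).symm.trans (sb E27021 (iv6 D102792)))).symm
theorem E27986 : n38015 = n1985 := ((((iv5 D4811)).symm.trans (sb E27022 F68520))).symm
theorem E27987 : n20621 = n10509 := (((D10509).symm.trans (sb E27022 (iv6 D43588)))).symm
theorem E27988 : n47675 = n42119 := (((D42119).symm.trans (sb E27024 D47675))).symm
theorem E27990 : n20258 = n1943 := ((((iv0 D4688)).symm.trans (sb E27025 (iv0 D42886)))).symm
theorem E27994 : n95698 = n87826 := ((D95698).symm.trans (sb E27026 F159854))
theorem E27995 : n21290 = n20883 := ((D21290).symm.trans (sb E27027 (iv5 F66152)))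
theorem E27996 : n21291 = n19287 := ((D21291).symm.trans (sb E27027 (iv6 F36525)))
theorem E27997 : n89861 = n42771 := ((((iv1 F67026)).symm.trans (sb E27028 F137935))).symm
theorem E27998 : n42770 = n21330 := ((F67025).symm.trans (sb E27028 F70367))
theorem E27999 : n87827 = n48051 := ((D87827).symm.trans (sb E27028 (iv5 F75507)))
theorem F290893 : act 6 n40940 = n21289 := (sb E27028 (iv6 D44698))
theorem E28000 : n89831 = n42753 := ((((iv7 F66983)).symm.trans (sb E27028 (iv7 F137882)))).symm
theorem E28004 : n20185 = n1791 := ((((iv3 D4199)).symm.trans (sb E27029 F66956))).symm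
theorem E28005 : n42789 = n9304 := (((D9304).symm.trans (sb E27029 (iv5 F67062)))).symm
theorem E28006 : n20183 = n9305 := (((D9305).symm.trans (sb E27029 (iv6 D42745)))).symm
theorem E28007 : n48304 = n4194 := ((((iv7 F16069)).symm.trans (sb E27029 (iv7 F75923)))).symm
theorem E28008 : n91296 = n42014 := (((D42014).symm.trans (sb E27030 D91296))).symm
theorem E28010 : n91298 = n42002 := ((((iv2 F64812)).symm.trans (sb E27030 D91298))).symm
theorem F290894 : act 3 n19807 = n20174 := (sb E27030 (iv3 D42731))
theorem E28011 : n91299 = n42016 := (((D42016).symm.trans (sb E27030 D91299))).symm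
theorem E28012 : n42772 = n42017 := (((D42017).symm.trans (sb E27030 (iv7 F67028)))).symm
theorem E28018 : n5008 = n4203 := ((((iv0 F16061)).symm.trans (sb E27034 (iv0 F14789)))).symm
theorem E28019 : n9307 = n4501 := ((D9307).symm.trans (sb E27034 F14785))
theorem E28020 : n9308 = n4304 := ((D9308).symm.trans (sb E27034 (iv6 D9530)))
theorem E28022 : n23065 = n20889 := (((D20889).symm.trans (sb E27035 F63282))).symm
theorem E28023 : n42028 = n20887 := ((((iv4 F33033)).symm.trans (sb E27035 D42028))).symm
theorem F290895 : act 5 n9905 = n9306 := (sb E27035 (iv5 D19818))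
theorem E28024 : n20378 = n4499 := ((((iv6 D9905)).symm.trans (sb E27035 (iv6 F32354)))).symm
theorem E28025 : n20890 = n19786 := ((D20890).symm.trans (sb E27035 F31596))
theorem E28026 : n21365 = n20172 := (((D20172).symm.trans (sb E27036 (iv1 F63417)))).symm
theorem E28027 : n21241 = n20173 := (((D20173).symm.trans (sb E27036 (iv0 F63326)))).symm
theorem F290896 : act 6 n9518 = n9306 := (sb E27036 (iv6 D19819))
theorem E28029 : n19779 = n9538 := ((((iv7 F14887)).symm.trans (sb E27036 F31598))).symm
theorem E28031 : n95976 = n91291 := (((D91291).symm.trans (sb E27038 (iv3 F147603)))).symm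
theorem E28032 : n91292 = n23189 := ((D91292).symm.trans (sb E27038 F75384))
theorem E28033 : n91295 = n23190 := ((D91295).symm.trans (sb E27039 F69060))
theorem E28034 : n91301 = n47990 := ((D91301).symm.trans (sb E27040 F138051))
theorem E28035 : n46665 = n43478 := (((iv0 F73752)).symm.trans (sb E27040 F138052))
theorem E28036 : n48052 = n42773 := ((((iv7 F67029)).symm.trans (sb E27040 F138050))).symm
theorem E28037 : n42774 = n19778 := ((D42774).symm.trans (sb E27041 (iv6 D41983)))
theorem E28041 : n89493 = n45354 := (((D45354).symm.trans (sb E27043 (iv4 F137177)))).symm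
theorem E28043 : n19414 = n10363 := (((F63252).symm.trans (sb E27044 (iv1 D41272)))).symm
theorem E28044 : n42070 = n19776 := (((F31571).symm.trans (sb E27044 F64967))).symm
theorem E28048 : n20255 = n10351 := ((((iv6 D21693)).symm.trans (sb E27045 (iv6 D42878)))).symm
theorem E28050 : n183931 = n95825 := ((((iv1 F149879)).symm.trans (sb E27051 (iv1 F285793)))).symm
theorem F290897 : act 5 n97146 = n47199 := (sb E27051 (iv5 D101413))
theorem E28051 : n95827 = n47190 := ((D95827).symm.trans (sb E27054 (iv5 D101392)))
theorem E28052 : n185670 = n42001 := (((D42001).symm.trans (sb E27057 F287976))).symm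
theorem E28053 : n43717 = n42002 := (((D42002).symm.trans (sb E27057 (iv6 D93486)))).symm
theorem E28064 : n43721 = n42016 := (((D42016).symm.trans (sb E27061 D43721))).symm
theorem E28065 : n42017 = n20716 := ((D42017).symm.trans (sb E27061 (iv7 F32848)))
theorem E28072 : n91681 = n10277 := (((D10277).symm.trans (sb E27065 (iv3 F140932)))).symm
theorem E28073 : n20251 = n1935 := ((((iv4 D4662)).symm.trans (sb E27065 F67171))).symm
theorem E28075 : n20250 = n10279 := (((D10279).symm.trans (sb E27065 (iv6 D42866)))).symm
theorem E28076 : n91076 = n89598 := ((((iv5 F137363)).symm.trans (sb E27066 D91076))).symm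
theorem E28077 : n90848 = n20074 := ((((iv6 D42518)).symm.trans (sb E27066 F139835))).symm
theorem F290898 : act 7 n42518 = n42336 := (sb E27066 (iv7 F68457))
theorem F290899 : act 1 n23386 = n43827 := (sb E27068 F68886)
theorem E28079 : n45730 = n42677 := (((iv4 F72139)).symm.trans (sb E27068 F68465))
theorem F290900 : act 7 n23386 = n20609 := (sb E27068 (iv7 D43567))
theorem F290901 : act 0 n40875 = n20609 := (sb E27069 (iv1 D43566))
theorem F290902 : act 5 n40875 = n43223 := (sb E27069 (iv5 F68461))
theorem F290903 : act 7 n40875 = n43827 := (sb E27069 (iv7 F68885))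
theorem F290904 : act 5 n41487 = n20076 := (sb E27070 (iv5 D42525))
theorem F290905 : act 7 n41487 = n43543 := (sb E27070 F68438)
theorem E28082 : n22498 = n19269 := ((((iv0 F66042)).symm.trans (sb E27071 F73983))).symm
theorem E28083 : n90835 = n88877 := ((((iv3 F136314)).symm.trans (sb E27072 D90835))).symm
theorem F290906 : act 7 n41491 = n43546 := (sb E27072 F68442)
theorem E28088 : n20081 = n19534 := (((D19534).symm.trans (sb E27073 (iv5 D42541)))).symm
theorem E28089 : n4982 = n951 := (((F3076).symm.trans (sb E27074 (iv3 F62710)))).symm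
theorem E28090 : n22557 = n4282 := ((((iv4 F6182)).symm.trans (sb E27074 D22557))).symm
theorem E28091 : n4895 = n4285 := (((D4285).symm.trans (sb E27074 (iv5 D10699)))).symm
theorem E28094 : n19943 = n4896 := (((iv5 F31772)).symm.trans (sb E27075 (iv5 D10704)))
theorem F290907 : act 2 n9456 = n19676 := (sb E27076 F65801)
theorem E28096 : n44878 = n20080 := (((D20080).symm.trans (sb E27076 D44878))).symm
theorem F290908 : act 7 n9456 = n19706 := (sb E27076 F65804)
theorem F290909 : act 5 n9400 = n19706 := (sb E27077 F63005)
theorem E28097 : n43514 = n10865 := (((F65640).symm.trans (sb E27078 F74103))).symm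
theorem E28098 : n40987 = n10641 := (((F32366).symm.trans (sb E27078 F74101))).symm
theorem E28099 : n43221 = n22524 := ((D43221).symm.trans (sb E27078 (iv5 D46898)))
theorem E28101 : n99412 = n90410 := (((D90410).symm.trans (sb E27079 (iv1 F153119)))).symm
theorem E28102 : n90411 = n22587 := ((D90411).symm.trans (sb E27079 (iv0 D46965)))
theorem E28104 : n100555 = n90412 := (((D90412).symm.trans (sb E27079 (iv4 F154629)))).symm
theorem E28108 : n46432 = n43526 := (((iv4 F73285)).symm.trans (sb E27081 F143446))
theorem F290910 : act 0 n20584 = n22369 := (sb E27082 (iv1 F65771))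
theorem F290911 : act 2 n20584 = n42427 := (sb E27082 F65864)
theorem F290912 : act 4 n20584 = n20056 := (sb E27082 F65695)
theorem E28112 : n40876 = n10685 := (((iv6 F63051)).symm.trans (sb E27082 F34681))
theorem F290913 : act 7 n20584 = n10600 := (sb E27082 (iv7 D22232))
theorem E28113 : n100534 = n90736 := (((D90736).symm.trans (sb E27083 (iv4 F154600)))).symm
theorem E28115 : n46803 = n43488 := (((D43488).symm.trans (sb E27084 D46803))).symm
theorem F290914 : act 2 n42498 = n46958 := (sb E27085 F153095)
theorem E28117 : n101167 = n90760 := (((D90760).symm.trans (sb E27085 (iv4 F155862)))).symm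
theorem F290915 : act 7 n42498 = n46955 := (sb E27085 F153096)
theorem F290916 : act 0 n42228 = n46955 := (sb E27086 (iv1 D100678))
theorem F290917 : act 1 n42228 = n46958 := (sb E27086 F154789)
theorem F290918 : act 7 n20588 = n104912 := (sb E27087 (iv7 F160793))
theorem E28124 : n45017 = n42752 := ((((iv1 F70676)).symm.trans (sb E27088 (iv1 F76287)))).symm
theorem E28125 : n42764 = n23658 := (((iv0 F70675)).symm.trans (sb E27088 (iv0 D48487)))
theorem E28126 : n104736 = n47192 := (((D47192).symm.trans (sb E27088 (iv5 F160442)))).symm
theorem E28127 : n87100 = n47146 := ((((iv7 F74406)).symm.trans (sb E27089 (iv7 D182426)))).symm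
theorem F290919 : act 6 n22877 = n42647 := (sb E27091 (iv6 D91050))
theorem F290920 : act 0 n42270 = n44952 := (sb E27092 F72347)
theorem F290921 : act 2 n42270 = n46661 := (sb E27092 (iv2 F73738))
theorem F290922 : act 3 n42270 = n23066 := (sb E27092 F72345)
theorem E28129 : n91405 = n44551 := ((((iv4 F70829)).symm.trans (sb E27092 (iv4 F140595)))).symm
theorem E28130 : n90409 = n21910 := ((D90409).symm.trans (sb E27092 (iv6 D45813)))
theorem F290923 : act 7 n42270 = n23057 := (sb E27092 F72346)
theorem F290924 : act 5 n37186 = n44952 := (sb E27093 (iv5 F72285))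
theorem F290925 : act 0 n20422 = n9730 := (sb E27094 (iv1 D20495))
theorem F290926 : act 1 n20422 = n37844 := (sb E27094 F58688)
theorem F290927 : act 7 n20422 = n10978 := (sb E27094 F66644)
theorem F290928 : act 5 n20494 = n19863 := (sb E27095 F65034)
theorem F290929 : act 7 n20494 = n19862 := (sb E27095 (iv7 D42114))
theorem F290930 : act 1 n42151 = n21864 := (sb E27096 (iv0 D45737))
theorem F290931 : act 2 n42151 = n22384 := (sb E27096 (iv2 F72166))
theorem E28132 : n90165 = n41247 := ((D90165).symm.trans (sb E27096 F72170))
theorem F290932 : act 4 n42151 = n37844 := (sb E27096 F72165)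
theorem E28133 : n90166 = n89537 := ((D90166).symm.trans (sb E27096 (iv5 F137251)))
theorem E28134 : n90167 = n22339 := ((D90167).symm.trans (sb E27096 (iv6 F72169)))
theorem F290933 : act 7 n42151 = n22234 := (sb E27096 F72168)
theorem F290934 : act 5 n20897 = n23386 := (sb E27098 (iv5 F67822))
theorem F290935 : act 6 n20896 = n20414 := (sb E27100 F61668)
theorem E28138 : n93866 = n47478 := ((D93866).symm.trans (sb E27101 (iv5 D102313)))
theorem F290936 : act 5 n94247 = n47487 := (sb E27102 (iv5 D102329))
theorem F290937 : act 6 n42294 = n87098 := (sb E27109 (iv6 D182418))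
theorem F290938 : act 0 n42296 = n89607 := (sb E27110 F284418)
theorem E28142 : n186410 = n90441 := (((D90441).symm.trans (sb E27110 (iv6 F289188)))).symm
theorem F290939 : act 1 n22417 = n42659 := (sb E27111 F66703)
theorem E28146 : n90453 = n89482 := ((((iv4 F137145)).symm.trans (sb E27112 F140128))).symm
theorem F290940 : act 5 n46021 = n42659 := (sb E27112 F140129)
theorem E28147 : n88918 = n42658 := (((iv7 F136465)).symm.trans (sb E27112 (iv7 D91080)))
theorem F290941 : act 1 n20132 = n42518 := (sb E27113 (iv0 D90796))
theorem E28151 : n92536 = n46851 := ((((iv2 F143009)).symm.trans (sb E27114 D92536))).symm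
theorem E28152 : n47636 = n20448 := ((D47636).symm.trans (sb E27114 F67920))
theorem F290942 : act 0 n91064 = n177857 := (sb E27115 (iv1 F289804))
theorem F290943 : act 2 n91064 = n88325 := (sb E27115 F157816)
theorem F290944 : act 3 n91064 = n185421 := (sb E27115 (iv3 F287652))
theorem F290945 : act 4 n91064 = n185826 := (sb E27115 (iv4 F288143))
theorem F290946 : act 6 n91064 = n47589 := (sb E27115 (iv6 D102608))
theorem F290947 : act 7 n91064 = n185427 := (sb E27115 (iv7 F287677))
theorem F290948 : act 0 n88334 = n42654 := (sb E27116 (iv1 D91065))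
theorem F290949 : act 0 n91059 = n88325 := (sb E27117 (iv1 D185411))
theorem F290950 : act 1 n91059 = n185427 := (sb E27117 F287685)
theorem E28153 : n177871 = n90475 := (((F140104).symm.trans (sb E27117 F290087))).symm
theorem F290951 : act 5 n91059 = n98859 := (sb E27117 (iv5 F287686))
theorem F290952 : act 7 n91059 = n177857 := (sb E27117 (iv7 F289806))
theorem E28154 : n46873 = n42650 := (((D42650).symm.trans (sb E27118 (iv1 D100444)))).symm
theorem E28155 : n88370 = n42651 := (((D42651).symm.trans (sb E27118 F154498))).symm
theorem E28156 : n98906 = n42653 := (((D42653).symm.trans (sb E27118 (iv5 F154500)))).symm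
theorem F290953 : act 6 n92742 = n88680 := (sb E27121 (iv6 D186138))
theorem F290954 : act 6 n41405 = n43385 := (sb E27123 (iv6 D92744))
theorem E28158 : n42777 = n21195 := ((F134012).symm.trans (sb E27124 (iv1 D44552)))
theorem E28160 : n95385 = n87808 := (((D87808).symm.trans (sb E27124 D95385))).symm
theorem E28161 : n48097 = n19281 := ((((iv6 D40915)).symm.trans (sb E27124 (iv6 F75893)))).symm
theorem E28162 : n44667 = n43856 := (((iv1 F73737)).symm.trans (sb E27125 F137055))
theorem F290955 : act 3 n46660 = n41736 := (sb E27125 F137052)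
theorem E28163 : n99902 = n45374 := ((D99902).symm.trans (sb E27125 F137053))
theorem F290956 : act 6 n46660 = n41734 := (sb E27125 (iv6 D89374))
theorem E28165 : n43934 = n22371 := (((D22371).symm.trans (sb E27126 (iv5 F75632)))).symm
theorem E28166 : n87866 = n22351 := ((((iv7 F65764)).symm.trans (sb E27126 (iv7 F134854)))).symm
theorem E28168 : n100656 = n42214 := (((D42214).symm.trans (sb E27129 (iv5 F154745)))).symm
theorem E28171 : n47682 = n41735 := (((D41735).symm.trans (sb E27131 F154382))).symm
theorem E28172 : n91306 = n46118 := (((iv4 F140377)).symm.trans (sb E27132 F127127))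
theorem F290957 : act 0 n23421 = n44536 := (sb E27134 F70432)
theorem F290958 : act 1 n23421 = n47898 := (sb E27134 F75218)
theorem E28173 : n96097 = n48270 := (((D48270).symm.trans (sb E27134 (iv3 F147721)))).symm
theorem E28175 : n48272 = n21359 := ((D48272).symm.trans (sb E27134 (iv6 D44841)))
theorem F290959 : act 0 n20888 = n21624 := (sb E27135 (iv1 F64895))
theorem E28176 : n89941 = n44004 := (((D44004).symm.trans (sb E27135 D89941))).symm
theorem E28177 : n42767 = n21364 := ((F67016).symm.trans (sb E27135 (iv6 F64897)))
theorem F290960 : act 6 n10184 = n10987 := (sb E27136 (iv6 D23423))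
theorem F290961 : act 0 n43553 = n41742 := (sb E27140 (iv1 F136246))
theorem F290962 : act 1 n43553 = n41623 := (sb E27140 F136247)
theorem E28180 : n186550 = n93079 := ((((iv3 F143569)).symm.trans (sb E27140 (iv3 F289476)))).symm
theorem F290963 : act 4 n43553 = n44003 := (sb E27140 F136243)
theorem E28181 : n93081 = n45734 := ((D93081).symm.trans (sb E27140 F136244))
theorem E28182 : n41758 = n20604 := ((((iv6 D43553)).symm.trans (sb E27140 F136245))).symm
theorem E28184 : n89581 = n46820 := (((F73961).symm.trans (sb E27141 (iv0 F137330)))).symm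
theorem F290964 : act 6 n22501 = n44003 := (sb E27141 (iv6 F127412))
theorem E28185 : n41752 = n23234 := ((((iv7 F65903)).symm.trans (sb E27141 F127410))).symm
theorem F290965 : act 1 n4964 = n5018 := (sb E27144 F7435)
theorem E28188 : n9797 = n2041 := ((((iv6 D4964)).symm.trans (sb E27144 (iv6 F15397)))).symm
theorem E28189 : n48337 = n20695 := (((F65707).symm.trans (sb E27145 D48337))).symm
theorem E28190 : n48338 = n46789 := (((D46789).symm.trans (sb E27145 D48338))).symm
theorem E28192 : n98663 = n90463 := (((D90463).symm.trans (sb E27147 (iv3 F152103)))).symm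
theorem E28194 : n90465 = n22041 := ((D90465).symm.trans (sb E27147 (iv6 D46122)))
theorem E28195 : n90466 = n46952 := ((((iv4 F74170)).symm.trans (sb E27148 D90466))).symm
theorem F290966 : act 5 n22583 = n19973 := (sb E27148 (iv5 D42334))
theorem F290967 : act 6 n10501 = n19973 := (sb E27149 (iv6 D42335))
theorem E28197 : n4206 = n2058 := ((((iv3 D5011)).symm.trans (sb E27150 F14437))).symm
theorem E28198 : n19709 = n11003 := (((D11003).symm.trans (sb E27150 D19709))).symm
theorem F290968 : act 5 n5011 = n4181 := (sb E27150 (iv5 D9249))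
theorem F290969 : act 6 n5011 = n4184 := (sb E27150 F14438)
theorem F290970 : act 3 n19949 = n19862 := (sb E27152 F34377)
theorem E28200 : n45795 = n21180 := ((((iv4 F66743)).symm.trans (sb E27152 D45795))).symm
theorem F290971 : act 5 n19949 = n10444 := (sb E27152 (iv5 D21895))
theorem E28201 : n45731 = n42666 := ((((iv3 F66890)).symm.trans (sb E27153 D45731))).symm
theorem E28202 : n45732 = n42668 := (((D42668).symm.trans (sb E27153 D45732))).symm
theorem E28203 : n45733 = n9502 := ((((iv6 D20138)).symm.trans (sb E27153 D45733))).symm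
theorem E28204 : n88287 = n19865 := (((D19865).symm.trans (sb E27154 F135199))).symm
theorem E28205 : n43327 = n19475 := ((((iv0 F31145)).symm.trans (sb E27154 (iv0 F127084)))).symm
theorem F290972 : act 5 n5001 = n10331 := (sb E27155 F34044)
theorem F290973 : act 2 n10825 = n19889 := (sb E27157 F32480)
theorem E28208 : n22929 = n9710 := ((D22929).symm.trans (sb E27157 F32481))
theorem F290974 : act 1 n10650 = n19889 := (sb E27161 (iv0 D42150))
theorem E28213 : n48559 = n4087 := ((((iv3 D9095)).symm.trans (sb E27163 F158158))).symm
theorem E28218 : n44181 = n1886 := (((F7060).symm.trans (sb E27164 F142350))).symm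
theorem F290975 : act 1 n42106 = n21464 := (sb E27165 F68879)
theorem F290976 : act 2 n42106 = n21467 := (sb E27165 F68875)
theorem F290977 : act 3 n42106 = n20751 := (sb E27165 F68876)
theorem E28220 : n47581 = n45358 := (((F125248).symm.trans (sb E27165 (iv4 F74833)))).symm
theorem E28221 : n90087 = n21882 := ((D90087).symm.trans (sb E27165 F68877))
theorem F290978 : act 7 n42106 = n20747 := (sb E27165 (iv7 D43824))
theorem F290979 : act 6 n9698 = n10824 := (sb E27171 (iv6 D22926))
theorem E28235 : n22610 = n10682 := (((iv6 F35147)).symm.trans (sb E27172 (iv6 D22494)))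
theorem E28237 : n22080 = n8680 := (((F14568).symm.trans (sb E27174 (iv1 F72776)))).symm
theorem E28238 : n22085 = n8683 := (((F14569).symm.trans (sb E27174 F72777))).symm
theorem F290980 : act 2 n47619 = n90149 := (sb E27175 F142447)
theorem F290981 : act 5 n47619 = n43285 := (sb E27175 (iv5 D92515))
theorem E28240 : n153949 = n102673 := (((D102673).symm.trans (sb E27175 (iv6 F241967)))).symm
theorem F290982 : act 7 n47619 = n90175 := (sb E27175 (iv7 F142449))
theorem F290983 : act 7 n92736 = n89607 := (sb E27182 F288600)
theorem F290984 : act 2 n92737 = n89607 := (sb E27184 F288582)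
theorem F290985 : act 0 n41849 = n43242 := (sb E27185 (iv1 D92455))
theorem F290986 : act 1 n41849 = n43965 := (sb E27185 F142241)
theorem F290987 : act 2 n41849 = n43968 := (sb E27185 (iv2 F142244))
theorem E28245 : n43255 = n19701 := ((((iv4 D41849)).symm.trans (sb E27185 F142243))).symm
theorem F290988 : act 6 n41849 = n43539 := (sb E27185 (iv6 F142245))
theorem F290989 : act 7 n41849 = n43859 := (sb E27185 F142242)
theorem F290990 : act 5 n92745 = n98375 := (sb E27186 F288881)
theorem E28246 : n94410 = n88683 := (((iv5 F145570)).symm.trans (sb E27187 (iv5 D186149)))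
theorem F290991 : act 0 n41406 = n20986 := (sb E27188 (iv1 F69463))
theorem F290992 : act 1 n41406 = n20967 := (sb E27188 (iv0 D44122))
theorem E28248 : n90768 = n88618 := (((D88618).symm.trans (sb E27189 (iv0 F142713)))).symm
theorem E28249 : n99039 = n43302 := ((((iv4 F67949)).symm.trans (sb E27189 F152567))).symm
theorem E28250 : n46450 = n43329 := (((iv6 F73342)).symm.trans (sb E27189 (iv6 D92623)))
theorem E28252 : n10607 = n9713 := (((iv6 F17122)).symm.trans (sb E27190 (iv6 D20460)))
theorem E28253 : n44116 = n42622 := ((((iv0 F66455)).symm.trans (sb E27191 F138543))).symm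
theorem E28254 : n75811 = n44102 := (((iv4 F113696)).symm.trans (sb E27191 (iv4 F138547)))
theorem F290993 : act 6 n20458 = n19477 := (sb E27192 F34723)
theorem E28255 : n90421 = n88695 := (((F288941).symm.trans (sb E27193 (iv0 F251878)))).symm
theorem E28256 : n104699 = n41283 := (((F63860).symm.trans (sb E27193 (iv4 F160384)))).symm
theorem E28257 : n112916 = n88712 := ((((iv5 F136052)).symm.trans (sb E27193 (iv5 F175848)))).symm
theorem E28258 : n88713 = n88501 := ((D88713).symm.trans (sb E27193 F143380))
theorem E28261 : n75814 = n44101 := (((iv4 F113703)).symm.trans (sb E27195 (iv4 F138542)))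
theorem F290994 : act 2 n41309 = n22962 := (sb E27196 F63867)
theorem F290995 : act 6 n41309 = n19507 := (sb E27196 (iv6 D41420))
theorem F290996 : act 2 n19520 = n20967 := (sb E27197 F69294)
theorem E28262 : n94165 = n41449 := ((((iv3 F63891)).symm.trans (sb E27197 (iv3 F145155)))).symm
theorem E28264 : n20906 = n9190 := ((((iv5 D19520)).symm.trans (sb E27197 (iv5 D44027)))).symm
theorem E28265 : n94168 = n41453 := (((D41453).symm.trans (sb E27197 D94168))).symm
theorem F290997 : act 7 n19520 = n20986 := (sb E27197 F69295)
theorem F290998 : act 2 n41872 = n20986 := (sb E27198 F69306)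
theorem E28266 : n94177 = n89650 := ((((iv3 F137445)).symm.trans (sb E27198 (iv3 F145192)))).symm
theorem E28268 : n94180 = n89652 := (((D89652).symm.trans (sb E27198 D94180))).symm
theorem F290999 : act 7 n41872 = n20967 := (sb E27198 F69307)
theorem F291000 : act 1 n10842 = n23667 := (sb E27201 F76285)
theorem F291001 : act 1 n44549 = n42761 := (sb E27202 F134215)
theorem E28277 : n102522 = n95378 := (((D95378).symm.trans (sb E27202 (iv3 F157451)))).symm
theorem E28279 : n95380 = n40653 := ((D95380).symm.trans (sb E27202 (iv6 D87439)))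
theorem E28281 : n48497 = n42763 := (((D42763).symm.trans (sb E27203 D48497))).symm
theorem E28282 : n48095 = n9537 := ((((iv6 D20202)).symm.trans (sb E27203 (iv6 F75568)))).symm
theorem F291002 : act 2 n40474 = n42761 := (sb E27204 (iv2 F140461))
theorem E28283 : n89208 = n87110 := (((D87110).symm.trans (sb E27204 F140458))).symm
theorem E28284 : n43667 = n19128 := ((((iv6 D40474)).symm.trans (sb E27204 F140460))).symm
theorem E28285 : n95376 = n89210 := ((((iv1 F136932)).symm.trans (sb E27205 (iv1 F160743)))).symm
theorem E28286 : n48480 = n19627 := ((((iv0 D41698)).symm.trans (sb E27205 (iv0 D104872)))).symm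
theorem E28287 : n43656 = n19117 := ((((iv1 F36833)).symm.trans (sb E27206 F140519))).symm
theorem E28288 : n43669 = n11090 := ((((iv0 D23682)).symm.trans (sb E27206 (iv0 F140521)))).symm
theorem E28289 : n48524 = n44292 := (((iv5 F76370)).symm.trans (sb E27206 F140520))
theorem F291003 : act 6 n23682 = n42761 := (sb E27206 (iv6 D91378))
theorem F291004 : act 0 n94058 = n88687 := (sb E27207 (iv1 F283957))
theorem F291005 : act 2 n94058 = n87098 := (sb E27207 F283954)
theorem F291006 : act 3 n94058 = n88680 := (sb E27207 F283955)
theorem F291007 : act 4 n94058 = n87097 := (sb E27207 (iv4 D182414))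
theorem F291008 : act 5 n94058 = n186405 := (sb E27207 (iv5 F289179))
theorem F291009 : act 7 n94058 = n88688 := (sb E27207 F283956)
theorem F291010 : act 0 n94059 = n87098 := (sb E27208 (iv1 D182417))
theorem F291011 : act 1 n94059 = n88688 := (sb E27208 F283962)
theorem E28291 : n105112 = n90748 := (((F144905).symm.trans (sb E27208 F283966))).symm
theorem E28292 : n100146 = n96471 := (((iv4 F154079)).symm.trans (sb E27208 (iv4 F283964)))
theorem F291012 : act 7 n94059 = n88687 := (sb E27208 F283963)
theorem E28293 : n89972 = n43367 := ((((iv1 F68947)).symm.trans (sb E27209 (iv1 F138198)))).symm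
theorem E28294 : n87163 = n43949 := (((F69087).symm.trans (sb E27209 F133969))).symm
theorem E28295 : n23700 = n20060 := ((((iv2 F35774)).symm.trans (sb E27209 F133964))).symm
theorem E28296 : n19829 = n9891 := ((((iv4 D20843)).symm.trans (sb E27209 (iv4 D42053)))).symm
theorem E28297 : n89982 = n43970 := (((D43970).symm.trans (sb E27209 D89982))).symm
theorem E28299 : n43855 = n23705 := (((iv7 F68944)).symm.trans (sb E27209 F133965))
theorem E28300 : n89980 = n22412 := (((F73859).symm.trans (sb E27210 F288888))).symm
theorem E28301 : n105139 = n98607 := ((((iv7 F152000)).symm.trans (sb E27210 F288889))).symm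
theorem F291013 : act 7 n94060 = n105147 := (sb E27211 F288894)
theorem E28302 : n105148 = n90815 := ((D105148).symm.trans (sb E27213 F144633))
theorem F291014 : act 7 n48622 = n43969 := (sb E27213 F144634)
theorem F291015 : act 0 n93817 = n186405 := (sb E27214 (iv1 F289181))
theorem F291016 : act 1 n93817 = n88689 := (sb E27214 (iv0 D186161))
theorem F291017 : act 0 n94043 = n186404 := (sb E27215 (iv1 F289182))
theorem E28303 : n186324 = n43961 := ((((iv0 D94043)).symm.trans (sb E27215 F289106))).symm
theorem F291018 : act 2 n94043 = n88689 := (sb E27215 F288904)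
theorem F291019 : act 3 n94043 = n186414 := (sb E27215 (iv3 F289195))
theorem F291020 : act 5 n94043 = n88688 := (sb E27215 (iv5 D186159))
theorem F291021 : act 7 n94043 = n186405 := (sb E27215 (iv7 F289180))
theorem E28305 : n44555 = n23392 := (((iv1 F70826)).symm.trans (sb E27218 (iv1 D48242)))
theorem E28306 : n91357 = n21502 := ((((iv0 D45019)).symm.trans (sb E27218 (iv0 F140474)))).symm
theorem E28307 : n96412 = n47603 := ((D96412).symm.trans (sb E27218 F75837))
theorem F291022 : act 4 n45019 = n46661 := (sb E27218 (iv4 F75835))
theorem E28308 : n96413 = n89710 := ((D96413).symm.trans (sb E27218 F137683))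
theorem E28309 : n96414 = n41253 := ((D96414).symm.trans (sb E27218 (iv6 F75836)))
theorem F291023 : act 7 n45019 = n40915 := (sb E27218 F75834)
theorem F291024 : act 3 n89592 = n43954 := (sb E27219 (iv3 D94039))
theorem E28310 : n89717 = n44857 := (((iv4 F137705)).symm.trans (sb E27219 F144884))
theorem E28311 : n46456 = n44114 := (((iv6 F137351)).symm.trans (sb E27219 F144881))
theorem F291025 : act 0 n10873 = n5003 := (sb E27221 (iv1 D10988))
theorem F291026 : act 2 n45020 = n40915 := (sb E27222 F75169)
theorem E28315 : n103342 = n96415 := (((D96415).symm.trans (sb E27222 (iv3 F158599)))).symm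
theorem F291027 : act 4 n45020 = n23057 := (sb E27222 F75170)
theorem E28316 : n96416 = n89709 := ((D96416).symm.trans (sb E27222 (iv5 F137678)))
theorem E28317 : n93365 = n23055 := (((iv6 F144003)).symm.trans (sb E27222 (iv6 D47884)))
theorem F291028 : act 2 n43218 = n46660 := (sb E27223 F75205)
theorem F291029 : act 5 n43218 = n23057 := (sb E27223 (iv5 D47890))
theorem E28319 : n40992 = n10648 := ((((iv0 F65647)).symm.trans (sb E27224 F134298))).symm
theorem E28320 : n45536 = n19832 := (((F31629).symm.trans (sb E27225 F143991))).symm
theorem F291030 : act 5 n37183 = n21896 := (sb E27226 F72295)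
theorem E28323 : n10165 = n5002 := ((((iv3 D10983)).symm.trans (sb E27227 F33496))).symm
theorem E28324 : n44671 = n21487 := ((((iv4 F66780)).symm.trans (sb E27227 D44671))).symm
theorem F291031 : act 5 n10983 = n10159 := (sb E27227 (iv5 D21272))
theorem E28325 : n23409 = n19136 := ((D23409).symm.trans (sb E27227 F33497))
theorem E28333 : n41015 = n21509 := ((((iv4 F33824)).symm.trans (sb E27230 F73978))).symm
theorem E28334 : n41513 = n9340 := ((((iv5 D19850)).symm.trans (sb E27230 F73979))).symm
theorem E28335 : n42100 = n22491 := (((iv6 F65011)).symm.trans (sb E27230 (iv6 D46835)))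
theorem E28337 : n88333 = n21510 := ((((iv4 F33830)).symm.trans (sb E27231 (iv4 F135265)))).symm
theorem E28339 : n41273 = n22824 := ((D41273).symm.trans (sb E27231 (iv6 D47507)))
theorem E28340 : n46143 = n9344 := ((((iv1 F16927)).symm.trans (sb E27232 (iv1 F72762)))).symm
theorem E28341 : n21730 = n9106 := (((F16924).symm.trans (sb E27232 (iv0 D45514)))).symm
theorem E28346 : n90977 = n19554 := ((((iv5 F31306)).symm.trans (sb E27236 F142501))).symm
theorem E28348 : n45512 = n2053 := ((((iv3 F7322)).symm.trans (sb E27237 F139894))).symm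
theorem E28349 : n42575 = n2023 := ((((iv4 D4906)).symm.trans (sb E27237 F139895))).symm
theorem E28351 : n42573 = n10729 := (((D10729).symm.trans (sb E27237 (iv6 D90887)))).symm
theorem E28355 : n21016 = n1675 := (((F5822).symm.trans (sb E27239 (iv1 D44202)))).symm
theorem E28357 : n44192 = n3750 := (((F5820).symm.trans (sb E27239 F73090))).symm
theorem E28359 : n23209 = n19052 := (((D19052).symm.trans (sb E27241 (iv4 F36309)))).symm
theorem E28360 : n21537 = n3978 := ((((iv5 D8925)).symm.trans (sb E27241 F33872))).symm
theorem E28361 : n9068 = n4975 := (((iv6 F14147)).symm.trans (sb E27241 (iv6 D10922)))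
theorem E28362 : n92594 = n41880 := (((D41880).symm.trans (sb E27242 (iv3 F142632)))).symm
theorem E28363 : n41881 = n20948 := ((D41881).symm.trans (sb E27242 F67992))
theorem E28364 : n40878 = n20452 := (((iv6 F61982)).symm.trans (sb E27242 (iv6 D43319)))
theorem E28365 : n10516 = n9405 := (((F27370).symm.trans (sb E27243 (iv1 D22088)))).symm
theorem E28367 : n21001 = n7802 := (((F13884).symm.trans (sb E27243 F62991))).symm
theorem F291032 : act 6 n10919 = n19046 := (sb E27244 F30924)
theorem E28370 : n40879 = n10683 := ((((iv7 F62784)).symm.trans (sb E27244 D40879))).symm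
theorem E28371 : n48261 = n21198 := ((((iv4 F33434)).symm.trans (sb E27245 (iv4 F75867)))).symm
theorem E28372 : n46152 = n19851 := (((F32896).symm.trans (sb E27245 F74710))).symm
theorem E28373 : n43822 = n22829 := ((D43822).symm.trans (sb E27245 (iv6 D47511)))
theorem E28374 : n92847 = n41877 := (((D41877).symm.trans (sb E27246 (iv3 F143212)))).symm
theorem E28375 : n41878 = n20947 := ((D41878).symm.trans (sb E27246 (iv5 F68309)))
theorem E28376 : n41879 = n41310 := ((D41879).symm.trans (sb E27246 F68308))
theorem E28378 : n92481 = n22868 := ((D92481).symm.trans (sb E27248 (iv1 F73625)))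
theorem F291033 : act 1 n43264 = n22338 := (sb E27248 (iv0 D46617))
theorem E28379 : n10357 = n4090 := (((F12357).symm.trans (sb E27249 F34156))).symm
theorem E28380 : n45486 = n3547 := (((F12358).symm.trans (sb E27249 D45486))).symm
theorem E28381 : n16729 = n10355 := ((D16729).symm.trans (sb E27249 (iv5 D21707)))
theorem E28384 : n22064 = n20117 := ((((iv5 F31937)).symm.trans (sb E27250 (iv5 D46128)))).symm
theorem E28391 : n186420 = n113032 := (((D113032).symm.trans (sb E27253 (iv1 F289210)))).symm
theorem F291034 : act 1 n52171 = n88691 := (sb E27253 (iv0 D186169))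
theorem E28392 : n90753 = n88696 := (((D88696).symm.trans (sb E27254 (iv3 F147719)))).symm
theorem E28393 : n96094 = n88697 := (((D88697).symm.trans (sb E27254 F147718))).symm
theorem E28394 : n94401 = n88698 := (((D88698).symm.trans (sb E27254 (iv5 F205475)))).symm
theorem E28395 : n90414 = n88699 := (((D88699).symm.trans (sb E27254 F205473))).symm
theorem E28396 : n96093 = n88702 := (((D88702).symm.trans (sb E27255 (iv4 F147717)))).symm
theorem E28397 : n94402 = n88703 := (((D88703).symm.trans (sb E27255 F205466))).symm
theorem E28398 : n88704 = n52655 := ((D88704).symm.trans (sb E27255 F205467))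
theorem E28400 : n46809 = n43491 := (((iv6 F73933)).symm.trans (sb E27256 (iv6 D92962)))
theorem E28401 : n159772 = n88628 := (((D88628).symm.trans (sb E27257 (iv0 F251743)))).symm
theorem E28402 : n88630 = n45475 := ((D88630).symm.trans (sb E27257 (iv5 F143315)))
theorem E28403 : n46664 = n43477 := (((iv6 F73751)).symm.trans (sb E27257 (iv6 D92937)))
theorem E28404 : n88708 = n52162 := ((D88708).symm.trans (sb E27258 F205461))
theorem E28405 : n112918 = n88709 := (((D88709).symm.trans (sb E27258 F205462))).symm
theorem E28406 : n131142 = n88710 := (((D88710).symm.trans (sb E27258 (iv4 F210045)))).symm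
theorem F291035 : act 6 n20566 = n19505 := (sb E27259 F35020)
theorem E28410 : n43394 = n19474 := (((D19474).symm.trans (sb E27260 (iv4 F68194)))).symm
theorem F291036 : act 6 n9146 = n9735 := (sb E27260 (iv6 D20515))
theorem E28414 : n10647 = n9751 := (((iv6 F17192)).symm.trans (sb E27261 (iv6 D20562)))
theorem E28415 : n9941 = n4129 := (((D4129).symm.trans (sb E27262 F32671))).symm
theorem F291037 : act 6 n4405 = n4131 := (sb E27263 F7240)
theorem F291038 : act 0 n22075 = n22961 := (sb E27264 (iv1 F63862))
theorem F291039 : act 1 n22075 = n19506 := (sb E27264 (iv0 D41416))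
theorem E28422 : n84251 = n46142 := (((D46142).symm.trans (sb E27264 (iv4 F129319)))).symm
theorem E28424 : n94040 = n88716 := (((D88716).symm.trans (sb E27265 (iv3 F144886)))).symm
theorem E28426 : n44024 = n35889 := (((F59907).symm.trans (sb E27266 F143401))).symm
theorem E28427 : n44105 = n43182 := ((((iv0 F67639)).symm.trans (sb E27266 F143402))).symm
theorem E28429 : n46805 = n43356 := (((D43356).symm.trans (sb E27268 D46805))).symm
theorem E28430 : n87704 = n42680 := ((((iv4 F74984)).symm.trans (sb E27270 F142918))).symm
theorem E28431 : n102860 = n94446 := ((D102860).symm.trans (sb E27270 (iv5 F145625)))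
theorem E28432 : n102861 = n43365 := ((D102861).symm.trans (sb E27270 (iv6 D92713)))
theorem E28433 : n185492 = n90203 := (((D90203).symm.trans (sb E27271 (iv2 F287756)))).symm
theorem E28434 : n47559 = n19895 := ((((iv3 D42164)).symm.trans (sb E27271 F157479))).symm
theorem E28435 : n90204 = n88975 := ((D90204).symm.trans (sb E27271 (iv5 F157481)))
theorem E28436 : n90205 = n47557 := ((D90205).symm.trans (sb E27271 (iv6 D102531)))
theorem E28437 : n102865 = n92417 := ((D102865).symm.trans (sb E27272 (iv0 F152171)))
theorem E28438 : n102868 = n90491 := ((D102868).symm.trans (sb E27273 (iv1 F142986)))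
theorem E28439 : n102869 = n88690 := ((D102869).symm.trans (sb E27273 F290620))
theorem E28440 : n185836 = n102863 := ((((iv2 F158175)).symm.trans (sb E27273 D185836))).symm
theorem E28441 : n102871 = n43521 := ((D102871).symm.trans (sb E27273 F135513))
theorem E28443 : n41200 = n22959 := (((D22959).symm.trans (sb E27274 F127439))).symm
theorem E28445 : n23667 = n19433 := ((F291000).symm.trans (sb E27276 F31101))
theorem F291040 : act 1 n42357 = n22962 := (sb E27279 (iv0 D47708))
theorem E28448 : n104912 = n22962 := ((F290918).symm.trans (sb E27280 (iv7 D47711)))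
theorem E28451 : n102805 = n94399 := ((((iv2 F145561)).symm.trans (sb E27281 (iv2 F158068)))).symm
theorem E28452 : n102808 = n94403 := (((D94403).symm.trans (sb E27281 D102808))).symm
theorem E28453 : n22950 = n20966 := ((((iv5 D44120)).symm.trans (sb E27281 (iv5 D47680)))).symm
theorem F291041 : act 4 n38885 = n20967 := (sb E27282 (iv4 D44124))
theorem E28458 : n94368 = n22953 := (((F59914).symm.trans (sb E27282 (iv5 F145488)))).symm
theorem E28459 : n94415 = n84334 := (((D84334).symm.trans (sb E27282 D94415))).symm
theorem E28460 : n4939 = n4542 := ((((iv4 D9955)).symm.trans (sb E27283 (iv4 D10835)))).symm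
theorem F291042 : act 7 n9955 = n19712 := (sb E27283 (iv7 F31461))
theorem E28461 : n102810 = n94416 := (((D94416).symm.trans (sb E27284 D102810))).symm
theorem E28462 : n102811 = n94417 := (((D94417).symm.trans (sb E27284 D102811))).symm
theorem E28463 : n99411 = n94418 := (((D94418).symm.trans (sb E27284 (iv5 F153114)))).symm
theorem E28464 : n102812 = n94419 := (((D94419).symm.trans (sb E27284 D102812))).symm
theorem E28465 : n102831 = n94445 := (((D94445).symm.trans (sb E27285 D102831))).symm
theorem E28466 : n102832 = n94446 := (((D94446).symm.trans (sb E27285 D102832))).symm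
theorem E28467 : n102829 = n94443 := ((((iv2 F145621)).symm.trans (sb E27285 (iv2 F158102)))).symm
theorem E28468 : n102833 = n94447 := (((D94447).symm.trans (sb E27285 D102833))).symm
theorem E28469 : n22955 = n20985 := ((((iv5 D44141)).symm.trans (sb E27285 (iv5 D47692)))).symm
theorem F291043 : act 4 n38884 = n20986 := (sb E27286 (iv4 D44143))
theorem E28473 : n94452 = n84332 := (((D84332).symm.trans (sb E27286 D94452))).symm
theorem F291044 : act 2 n9960 = n19712 := (sb E27287 (iv2 F31460))
theorem E28474 : n4942 = n4543 := ((((iv4 D9960)).symm.trans (sb E27287 (iv4 D10838)))).symm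
theorem E28478 : n102841 = n94456 := (((D94456).symm.trans (sb E27288 D102841))).symm
theorem E28479 : n44019 = n41887 := (((F113673).symm.trans (sb E27289 (iv4 D94149)))).symm
theorem E28480 : n44021 = n41886 := ((((iv4 F64581)).symm.trans (sb E27290 (iv4 D94155)))).symm
theorem F291045 : act 5 n2070 = n5009 := (sb E27293 (iv5 F14460))
theorem E28486 : n102648 = n41307 := (((D41307).symm.trans (sb E27295 D102648))).symm
theorem F291046 : act 3 n19438 = n22895 := (sb E27295 (iv3 D47607))
theorem F291047 : act 5 n44055 = n22895 := (sb E27296 (iv5 D47608))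
theorem F291048 : act 7 n44055 = n22945 := (sb E27296 F74864)
theorem E28491 : n89591 = n23449 := (((D23449).symm.trans (sb E27297 D89591))).symm
theorem F291049 : act 6 n10994 = n22895 := (sb E27297 F64509)
theorem F291050 : act 0 n10772 = n20138 := (sb E27298 F66526)
theorem E28498 : n23453 = n19650 := ((((iv4 F31411)).symm.trans (sb E27300 D23453))).symm
theorem F291051 : act 5 n9246 = n5006 := (sb E27300 (iv5 D10995))
theorem E28499 : n185758 = n98018 := (((D98018).symm.trans (sb E27301 (iv1 F288067)))).symm
theorem E28500 : n185757 = n98019 := (((D98019).symm.trans (sb E27301 F288065))).symm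
theorem E28501 : n98020 = n88475 := ((D98020).symm.trans (sb E27301 (iv2 D185766)))
theorem E28502 : n98021 = n94242 := ((D98021).symm.trans (sb E27301 F288063))
theorem F291052 : act 7 n45751 = n90457 := (sb E27301 F288064)
theorem F291053 : act 2 n44054 = n22945 := (sb E27302 F72206)
theorem F291054 : act 5 n44054 = n21873 := (sb E27302 (iv5 D45752))
theorem E28503 : n98026 = n94243 := (((D94243).symm.trans (sb E27302 D98026))).symm
theorem F291055 : act 1 n10428 = n20138 := (sb E27304 F66671)
theorem E28507 : n90161 = n4723 := ((((iv6 D10428)).symm.trans (sb E27304 D90161))).symm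
theorem E28513 : n20911 = n4182 := (((F6078).symm.trans (sb E27306 F69296))).symm
theorem E28516 : n104381 = n47480 := (((D47480).symm.trans (sb E27307 (iv5 F160014)))).symm
theorem E28518 : n88599 = n42676 := (((D42676).symm.trans (sb E27309 F140584))).symm
theorem F291056 : act 0 n42656 = n22912 := (sb E27311 (iv1 F73874))
theorem F291057 : act 3 n42656 = n88374 := (sb E27311 F135336)
theorem E28521 : n91073 = n89599 := ((D91073).symm.trans (sb E27311 F137368))
theorem E28522 : n91074 = n22887 := ((D91074).symm.trans (sb E27311 F73873))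
theorem F291058 : act 7 n42656 = n22417 := (sb E27311 (iv7 D46759))
theorem F291059 : act 3 n89701 = n44847 := (sb E27312 F142133)
theorem F291060 : act 4 n89701 = n43965 := (sb E27312 F142134)
theorem F291061 : act 5 n89701 = n43827 := (sb E27312 F142135)
theorem E28523 : n45489 = n43542 := ((((iv6 F137657)).symm.trans (sb E27312 F142136))).symm
theorem F291062 : act 7 n89701 = n43223 := (sb E27312 (iv7 D92416))
theorem F291063 : act 6 n37861 = n43827 := (sb E27313 F140061)
theorem F291064 : act 1 n19975 = n22417 := (sb E27314 (iv0 D46756))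
theorem E28527 : n100023 = n42338 := (((D42338).symm.trans (sb E27314 (iv3 F289837)))).symm
theorem E28528 : n46020 = n42339 := (((D42339).symm.trans (sb E27314 F134008))).symm
theorem F291065 : act 7 n19975 = n22912 := (sb E27314 F134009)
theorem E28530 : n104371 = n88603 := (((iv1 F160004)).symm.trans (sb E27315 (iv1 D186008)))
theorem E28531 : n90788 = n88606 := (((iv0 F139724)).symm.trans (sb E27315 F288570))
theorem F291066 : act 6 n90469 = n98613 := (sb E27315 (iv6 F288574))
theorem F291067 : act 6 n46099 = n42336 := (sb E27316 (iv6 D90470))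
theorem F291068 : act 0 n43257 = n43223 := (sb E27317 (iv1 F137202))
theorem F291069 : act 3 n43257 = n41791 := (sb E27317 (iv3 D89497))
theorem E28534 : n92477 = n92474 := ((D92477).symm.trans (sb E27317 (iv4 F142294)))
theorem F291070 : act 6 n43257 = n46843 := (sb E27317 F137199)
theorem F291071 : act 0 n41578 = n43543 := (sb E27318 (iv1 F68440))
theorem E28535 : n41892 = n19780 := (((F65911).symm.trans (sb E27318 F67816))).symm
theorem F291072 : act 0 n46959 = n43968 := (sb E27319 (iv1 F139206))
theorem F291073 : act 1 n46959 = n43859 := (sb E27319 F139203)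
theorem F291074 : act 2 n46959 = n43965 := (sb E27319 F139200)
theorem F291075 : act 5 n46959 = n42298 := (sb E27319 (iv5 D90445))
theorem F291076 : act 7 n46959 = n43242 := (sb E27319 F139201)
theorem E28537 : n38855 = n22081 := ((F66302).symm.trans (sb E27320 F73997))
theorem E28538 : n43511 = n42023 := (((iv0 F68381)).symm.trans (sb E27320 F73998))
theorem E28539 : n47937 = n40548 := (((F66301).symm.trans (sb E27320 (iv5 F75268)))).symm
theorem F291077 : act 7 n20599 = n19688 := (sb E27320 (iv7 D41827))
theorem E28540 : n41423 = n18149 := ((((iv1 F30779)).symm.trans (sb E27321 F75272))).symm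
theorem F291078 : act 5 n46676 = n43546 := (sb E27323 (iv5 D93062))
theorem E28543 : n43535 = n22147 := (((iv1 F68418)).symm.trans (sb E27324 (iv1 F64499)))
theorem E28544 : n46762 = n43534 := (((F68416).symm.trans (sb E27324 F73879))).symm
theorem E28545 : n89573 = n43544 := (((D43544).symm.trans (sb E27324 (iv3 F137321)))).symm
theorem E28546 : n89583 = n43545 := (((D43545).symm.trans (sb E27324 (iv5 F137337)))).symm
theorem E28547 : n43337 = n19691 := (((iv7 F68034)).symm.trans (sb E27324 (iv7 D41838)))
theorem E28548 : n4712 = n1858 := (((F6341).symm.trans (sb E27325 F16555))).symm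
theorem E28549 : n21798 = n9762 := (((D9762).symm.trans (sb E27325 (iv4 F34251)))).symm
theorem E28550 : n4709 = n1854 := (((F6342).symm.trans (sb E27325 (iv6 D10407)))).symm
theorem E28551 : n46799 = n43344 := ((((iv4 F68048)).symm.trans (sb E27326 D46799))).symm
theorem E28552 : n42158 = n19673 := (((iv6 F65079)).symm.trans (sb E27326 F35006))
theorem F291079 : act 0 n20601 = n10882 := (sb E27327 (iv1 D23098))
theorem F291080 : act 1 n20601 = n22251 := (sb E27327 F65673)
theorem F291081 : act 7 n20601 = n19695 := (sb E27327 F65677)
theorem F291082 : act 0 n9245 = n9763 := (sb E27328 (iv1 F32524))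
theorem F291083 : act 1 n9245 = n9715 := (sb E27328 (iv0 D20465))
theorem F291084 : act 2 n9245 = n9760 := (sb E27328 F35778)
theorem F291085 : act 7 n9245 = n9761 := (sb E27328 F35779)
theorem E28553 : n4305 = n1829 := (((F3384).symm.trans (sb E27518 (tr (iv1 F36785) E27516)))).symm
theorem E28554 : n4496 = n4330 := (((F6230).symm.trans (sb E27518 (tr (iv0 D23660) E27370)))).symm
theorem F291086 : act 6 n2077 = n11095 := (sb E27518 (iv6 F36788))
theorem E28556 : n22972 = n20033 := ((D22972).symm.trans (sb E27511 (tr F160780 E27537)))
theorem F291087 : act 6 n10845 = n48587 := (sb E27511 F160778)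
theorem E28557 : n11095 = n4096 := (((F14188).symm.trans (sb E27331 (iv3 D23697)))).symm
theorem E28558 : n48587 = n19441 := (((D19441).symm.trans (sb E27331 D48587))).symm
theorem E28559 : n4345 = n1879 := (((F6513).symm.trans (sb E27332 F15026))).symm
theorem E28560 : n20368 = n9882 := ((((iv4 F15534)).symm.trans (sb E27332 (iv4 F32335)))).symm
theorem E28561 : n4545 = n4343 := (((iv6 F6608)).symm.trans (sb E27332 (iv6 D9653)))
theorem F291088 : act 3 n94442 = n88765 := (sb E27338 F289113)
theorem E28566 : n88762 = n44139 := ((((iv5 D94442)).symm.trans (sb E27338 (iv5 D186332)))).symm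
theorem F291089 : act 4 n93955 = n88765 := (sb E27339 (iv4 D186336))
theorem F291090 : act 1 n41443 = n20768 := (sb E27340 F67722)
theorem F291091 : act 2 n41443 = n20819 := (sb E27340 F67718)
theorem E28567 : n42618 = n41559 := (((iv4 F66445)).symm.trans (sb E27340 F67719))
theorem F291092 : act 7 n41443 = n20391 := (sb E27340 (iv7 D43226))
theorem E28571 : n102753 = n90659 := ((((iv4 F139576)).symm.trans (sb E27341 D102753))).symm
theorem E28574 : n102341 = n90677 := (((D90677).symm.trans (sb E27342 (iv4 F157152)))).symm
theorem E28576 : n100619 = n20037 := (((D20037).symm.trans (sb E27343 D100619))).symm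
theorem E28578 : n102741 = n90528 := ((D102741).symm.trans (sb E27344 F157850))
theorem E28579 : n159757 = n102742 := (((D102742).symm.trans (sb E27344 (iv0 F251710)))).symm
theorem E28580 : n159763 = n102743 := (((D102743).symm.trans (sb E27344 F251716))).symm
theorem E28581 : n148918 = n102744 := (((D102744).symm.trans (sb E27344 (iv5 F233985)))).symm
theorem E28582 : n102745 = n88545 := ((D102745).symm.trans (sb E27344 F157848))
theorem F291093 : act 7 n47654 = n90310 := (sb E27344 F157849)
theorem F291094 : act 2 n47655 = n89757 := (sb E27345 (iv2 F137761))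
theorem E28583 : n102747 = n93960 := ((D102747).symm.trans (sb E27345 (iv6 F144780)))
theorem F291095 : act 7 n47655 = n89756 := (sb E27345 F137763)
theorem F291096 : act 6 n41331 = n22942 := (sb E27346 (iv6 D47656))
theorem F291097 : act 0 n20784 = n22945 := (sb E27348 (iv1 D47664))
theorem F291098 : act 1 n44057 = n22945 := (sb E27349 (iv0 D47663))
theorem E28598 : n90458 = n89484 := ((D90458).symm.trans (sb E27352 F288637))
theorem E28600 : n20870 = n4300 := ((((iv1 F16830)).symm.trans (sb E27354 (iv1 F62678)))).symm
theorem E28601 : n22204 = n4267 := ((((iv0 F16824)).symm.trans (sb E27354 F35505))).symm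
theorem F291099 : act 6 n4383 = n4935 := (sb E27354 (iv6 D10827))
theorem F291100 : act 2 n10774 = n20138 := (sb E27355 F65264)
theorem E28603 : n90375 = n22807 := (((D22807).symm.trans (sb E27355 (iv3 F139082)))).symm
theorem F291101 : act 4 n10774 = n20422 := (sb E27355 F65265)
theorem E28604 : n90377 = n22809 := (((D22809).symm.trans (sb E27355 D90377))).symm
theorem E28605 : n22810 = n19944 := ((D22810).symm.trans (sb E27355 (iv6 D42251)))
theorem E28606 : n91106 = n22802 := (((D22802).symm.trans (sb E27356 (iv3 F140151)))).symm
theorem E28607 : n91112 = n22804 := (((D22804).symm.trans (sb E27356 (iv5 F140154)))).symm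
theorem F291102 : act 7 n10773 = n20138 := (sb E27356 (iv7 D42669))
theorem E28614 : n48318 = n19652 := ((((iv1 F63721)).symm.trans (sb E27365 (iv1 F75951)))).symm
theorem F291103 : act 5 n9145 = n9735 := (sb E27366 (iv5 D20514))
theorem E28620 : n23659 = n9897 := ((D23659).symm.trans (sb E27367 F32046))
theorem E28621 : n5017 = n2064 := ((((iv0 D5038)).symm.trans (sb E27368 (iv0 D11014)))).symm
theorem E28622 : n23492 = n10801 := (((F62684).symm.trans (sb E27368 D23492))).symm
theorem F291104 : act 4 n5038 = n5061 := (sb E27368 F17876)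
theorem E28624 : n23493 = n9899 := ((((iv6 F15544)).symm.trans (sb E27368 D23493))).symm
theorem F291105 : act 0 n9293 = n9262 := (sb E27369 (iv1 F15436))
theorem E28625 : n20720 = n4196 := ((((iv4 D9293)).symm.trans (sb E27369 (iv4 F32857)))).symm
theorem E28626 : n9313 = n4434 := ((F16083).symm.trans (sb E27369 (iv6 D9819)))
theorem E28627 : n11080 = n4330 := (E27370).trans E28554
theorem E28628 : n9897 = n9608 := ((((iv3 F14969)).symm.trans (sb E28627 (tr (iv3 F36783) E28620)))).symm
theorem E28629 : n9899 = n1830 := (((F6227).symm.trans (sb E28627 (tr (iv4 F36607) E28624)))).symm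
theorem E28630 : n9657 = n1860 := (((F6228).symm.trans (sb E28627 F17954))).symm
theorem E28631 : n9610 = n5061 := ((D9610).symm.trans (sb E28627 (iv6 D11080)))
theorem E28632 : n20379 = n1829 := (E27516).trans E28553
theorem F291106 : act 0 n9539 = n10096 := (sb E27371 F63218)
theorem E28633 : n21501 = n20198 := ((((iv2 F32034)).symm.trans (sb E27371 (iv2 F63206)))).symm
theorem E28634 : n20209 = n9283 := ((D20209).symm.trans (sb E27371 F17955))
theorem F291107 : act 7 n9539 = n11079 := (sb E27371 F17956)
theorem E28637 : n19787 = n9291 := ((((iv5 F14484)).symm.trans (sb E27372 (iv5 F31556)))).symm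
theorem E28638 : n20674 = n2050 := ((((iv6 D4988)).symm.trans (sb E27372 F32794))).symm
theorem F291108 : act 1 n4197 = n9262 := (sb E27373 F14825)
theorem F291109 : act 5 n4197 = n4310 := (sb E27373 (iv5 D9544))
theorem E28640 : n20214 = n1790 := ((((iv6 D4197)).symm.trans (sb E27373 (iv6 F32055)))).symm
theorem E28641 : n9294 = n4309 := (((D4309).symm.trans (sb E27374 F17751))).symm
theorem E28642 : n10938 = n1821 := ((((iv7 F14840)).symm.trans (sb E27374 F17750))).symm
theorem E28645 : n23491 = n9810 := ((((iv3 F15386)).symm.trans (sb E27376 D23491))).symm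
theorem E28646 : n20672 = n1857 := ((((iv6 D4432)).symm.trans (sb E27376 (iv6 F32783)))).symm
theorem E28649 : n19442 = n5074 := ((D19442).symm.trans (sb E27377 F17957))
theorem E28650 : n4207 = n4101 := (((iv5 F6109)).symm.trans (sb E27379 F14201))
theorem F291110 : act 5 n2063 = n4192 := (sb E27380 F14464)
theorem F291111 : act 6 n2063 = n5018 := (sb E27380 F14465)
theorem E28652 : n9270 = n1026 := ((((iv4 D2068)).symm.trans (sb E27381 D9270))).symm
theorem F291112 : act 5 n2068 = n1789 := (sb E27381 (iv5 D4191))
theorem E28653 : n5049 = n1800 := ((D5049).symm.trans (sb E27381 F6091))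
theorem E28656 : n9553 = n649 := ((((iv1 F1211)).symm.trans (sb E27383 F31520))).symm
theorem E28661 : n4635 = n4005 := (((D4005).symm.trans (sb E27384 (iv4 F14806)))).symm
theorem E28662 : n4570 = n920 := ((((iv5 D1735)).symm.trans (sb E27384 F6619))).symm
theorem E28663 : n2042 = n1856 := (((iv6 F3328)).symm.trans (sb E27384 (iv6 D4427)))
theorem E28664 : n20668 = n5071 := (((D5071).symm.trans (sb E27385 (iv3 F32773)))).symm
theorem E28665 : n5072 = n4630 := ((D5072).symm.trans (sb E27385 (iv4 F15315)))
theorem E28667 : n9131 = n5073 := (((D5073).symm.trans (sb E27385 F15311))).symm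
theorem E28668 : n4562 = n925 := (((F1738).symm.trans (sb E27386 (iv1 D10020)))).symm
theorem F291113 : act 4 n41310 = n102758 := (sb E27388 D102758)
theorem F291114 : act 6 n41310 = n102760 := (sb E27388 D102760)
theorem E28681 : n43948 = n22974 := (((iv6 F69081)).symm.trans (sb E27390 F74937))
theorem F291115 : act 3 n41312 = n22945 := (sb E27391 F74938)
theorem E28685 : n102770 = n88507 := (((D88507).symm.trans (sb E27391 D102770))).symm
theorem E28686 : n44817 = n22973 := (((D22973).symm.trans (sb E27392 (iv0 F70392)))).symm
theorem E28687 : n43899 = n22975 := (((D22975).symm.trans (sb E27392 F69023))).symm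
theorem E28688 : n19716 = n19462 := (((iv7 F31474)).symm.trans (sb E27392 F63642))
theorem E28690 : n43443 = n22966 := (((D22966).symm.trans (sb E27394 (iv3 F68296)))).symm
theorem E28691 : n43450 = n22967 := (((D22967).symm.trans (sb E27394 D43450))).symm
theorem E28692 : n22968 = n9746 := ((D22968).symm.trans (sb E27394 (iv6 D20541)))
theorem E28693 : n159770 = n22969 := (((D22969).symm.trans (sb E27395 (iv3 F251732)))).symm
theorem E28694 : n44023 = n22970 := (((D22970).symm.trans (sb E27395 (iv5 F135482)))).symm
theorem E28695 : n41307 = n22971 := (((D22971).symm.trans (sb E27395 (iv6 D88499)))).symm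
theorem E28696 : n22976 = n20940 := ((D22976).symm.trans (sb E27396 (iv1 D44082)))
theorem E28697 : n22977 = n20945 := ((D22977).symm.trans (sb E27396 F69426))
theorem E28699 : n90360 = n4860 := ((((iv1 F7028)).symm.trans (sb E27400 (iv1 F139903)))).symm
theorem E28702 : n90352 = n4855 := (((D4855).symm.trans (sb E27401 (iv3 F139034)))).symm
theorem E28704 : n19941 = n4858 := (((D4858).symm.trans (sb E27401 (iv6 D42243)))).symm
theorem E28706 : n9988 = n1005 := (((F6537).symm.trans (sb E27403 (iv1 D21013)))).symm
theorem E28718 : n89876 = n40385 := (((F64430).symm.trans (sb E27409 F138451))).symm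
theorem F291116 : act 5 n41782 = n87732 := (sb E27409 F138450)
theorem E28719 : n46834 = n19848 := (((F66063).symm.trans (sb E27410 (iv1 F75575)))).symm
theorem E28720 : n23224 = n20049 := (((F66064).symm.trans (sb E27410 (iv0 D48101)))).symm
theorem E28721 : n89485 = n87731 := (((D87731).symm.trans (sb E27410 (iv5 F137150)))).symm
theorem F291117 : act 0 n21193 = n20208 := (sb E27412 (iv1 F66105))
theorem E28723 : n41966 = n41059 := (((iv5 F64747)).symm.trans (sb E27412 (iv5 F62298)))
theorem E28724 : n44550 = n19190 := ((D44550).symm.trans (sb E27412 (iv6 D40654)))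
theorem F291118 : act 1 n10981 = n11079 := (sb E27413 F63220)
theorem F291119 : act 7 n10981 = n10096 := (sb E27413 (iv7 D21196))
theorem E28726 : n96426 = n87351 := (((F134107).symm.trans (sb E27414 (iv5 F148450)))).symm
theorem E28727 : n44706 = n23365 := (((F67044).symm.trans (sb E27414 F70825))).symm
theorem F291120 : act 5 n10260 = n20208 := (sb E27415 (iv5 F66106))
theorem F291121 : act 5 n10973 = n10166 := (sb E27416 F33508)
theorem F291122 : act 7 n10259 = n20208 := (sb E27417 F66990)
theorem E28731 : n48276 = n47895 := ((((iv3 F75215)).symm.trans (sb E27418 D48276))).symm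
theorem E28732 : n48277 = n47899 := (((D47899).symm.trans (sb E27418 D48277))).symm
theorem F291123 : act 7 n95350 = n96292 := (sb E27419 F159916)
theorem E28736 : n96293 = n45348 := ((((iv7 F71475)).symm.trans (sb E27420 (iv7 F159874)))).symm
theorem F291124 : act 2 n44956 = n47898 := (sb E27422 F146982)
theorem E28737 : n93387 = n21469 := (((F70687).symm.trans (sb E27422 F146985))).symm
theorem F291125 : act 7 n44956 = n44536 := (sb E27422 (iv7 D95354))
theorem F291126 : act 0 n40688 = n20747 := (sb E27423 (iv1 D43823))
theorem F291127 : act 1 n40688 = n21467 := (sb E27423 F68870)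
theorem F291128 : act 3 n40688 = n20896 := (sb E27423 (iv3 F68873))
theorem E28738 : n40471 = n22685 := (((iv4 F61797)).symm.trans (sb E27423 (iv4 F68872)))
theorem F291129 : act 7 n40688 = n21464 := (sb E27423 F68871)
theorem E28739 : n21294 = n10984 := ((((iv1 F36520)).symm.trans (sb E27424 (iv1 D44703)))).symm
theorem F291130 : act 1 n10243 = n19855 := (sb E27426 (iv0 D42105))
theorem F291131 : act 5 n21273 = n19948 := (sb E27427 (iv5 D42263))
theorem F291132 : act 1 n42254 = n22455 := (sb E27429 (iv0 D46788))
theorem E28749 : n100268 = n90382 := ((((iv3 F139096)).symm.trans (sb E27429 D100268))).symm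
theorem E28750 : n90384 = n41778 := ((D90384).symm.trans (sb E27429 F73908))
theorem E28751 : n94090 = n19945 := ((((iv6 D42254)).symm.trans (sb E27429 (iv6 F144979)))).symm
theorem F291133 : act 7 n42254 = n22805 := (sb E27429 F73902)
theorem E28752 : n46899 = n20386 := ((((iv1 F32372)).symm.trans (sb E27430 F139787))).symm
theorem E28754 : n96128 = n86873 := ((F158651).symm.trans (sb E27431 F159918))
theorem E28755 : n48423 = n19416 := (((F61359).symm.trans (sb E27433 (iv0 F76147)))).symm
theorem E28756 : n86874 = n45498 := ((D86874).symm.trans (sb E27433 F75561))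
theorem F291134 : act 6 n40303 = n47898 := (sb E27433 (iv6 F75560))
theorem E28757 : n44539 = n42059 := ((((iv7 F64938)).symm.trans (sb E27433 F75559))).symm
theorem E28765 : n87174 = n48413 := ((D87174).symm.trans (sb E27436 (iv6 F76110)))
theorem E28766 : n82696 = n17581 := ((((iv0 F28563)).symm.trans (sb E27437 (iv0 F127423)))).symm
theorem F291135 : act 6 n19859 = n19949 := (sb E27438 (iv6 D42269))
theorem F291136 : act 2 n44000 = n48129 := (sb E27439 (iv2 F138148))
theorem E28769 : n91363 = n47999 := (((iv6 F140490)).symm.trans (sb E27439 (iv6 F138149)))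
theorem E28770 : n46144 = n40972 := ((((iv1 D87848)).symm.trans (sb E27440 F147755))).symm
theorem E28771 : n46662 = n40997 := (((F134824).symm.trans (sb E27440 (iv0 F147757)))).symm
theorem E28772 : n47885 = n43927 := (((F134826).symm.trans (sb E27440 F147756))).symm
theorem F291137 : act 6 n87848 = n44847 := (sb E27440 (iv6 D96109))
theorem E28773 : n88622 = n40994 := (((F134825).symm.trans (sb E27440 F147754))).symm
theorem E28775 : n48491 = n9103 := (((F31032).symm.trans (sb E27442 (iv3 D104902)))).symm
theorem E28776 : n41365 = n37847 := (((F66246).symm.trans (sb E27443 (iv1 D88623)))).symm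
theorem E28777 : n87083 = n19071 := (((F66247).symm.trans (sb E27443 F135831))).symm
theorem E28779 : n87081 = n37846 := (((F66282).symm.trans (sb E27443 F135832))).symm
theorem E28780 : n41965 = n19725 := ((F64744).symm.trans (sb E27445 F64594))
theorem E28782 : n41984 = n20204 := (((iv6 F64775)).symm.trans (sb E27445 (iv6 F66098)))
theorem E28783 : n47905 = n44005 := (((F137963).symm.trans (sb E27446 F138458))).symm
theorem E28784 : n104204 = n97036 := (((iv5 F159753)).symm.trans (sb E27446 (iv5 F149675)))
theorem E28785 : n87414 = n47877 := ((F137961).symm.trans (sb E27446 F138456))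
theorem E28786 : n44668 = n20053 := ((((iv0 D42478)).symm.trans (sb E27447 (iv0 F76155)))).symm
theorem F291138 : act 6 n42478 = n41987 := (sb E27447 F72350)
theorem E28787 : n42727 = n21911 := (((iv7 F66934)).symm.trans (sb E27447 (iv7 D45814)))
theorem F291139 : act 0 n45815 = n89701 := (sb E27448 (iv1 F137655))
theorem E28788 : n92353 = n43849 := (((F72353).symm.trans (sb E27448 (iv4 F142024)))).symm
theorem F291140 : act 5 n45815 = n40541 := (sb E27448 (iv5 D87294))
theorem F291141 : act 7 n45815 = n43257 := (sb E27448 F133988)
theorem E28790 : n87090 = n19184 := ((((iv6 D40629)).symm.trans (sb E27449 (iv6 F138463)))).symm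
theorem E28792 : n43568 = n21885 := (((F34357).symm.trans (sb E27450 (iv0 F138467)))).symm
theorem E28793 : n89877 = n41993 := ((D89877).symm.trans (sb E27451 F69214))
theorem E28794 : n89878 = n47189 := ((D89878).symm.trans (sb E27451 F74476))
theorem E28795 : n43723 = n42026 := ((((iv6 F64892)).symm.trans (sb E27451 F69216))).symm
theorem F291142 : act 0 n43992 = n48129 := (sb E27452 (iv1 F134882))
theorem E28796 : n95701 = n94100 := ((((iv3 F145011)).symm.trans (sb E27452 D95701))).symm
theorem F291143 : act 5 n47148 = n48129 := (sb E27453 (iv5 D103961))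
theorem E28801 : n21050 = n10930 := ((((iv1 D23243)).symm.trans (sb E27454 (iv1 D44266)))).symm
theorem E28802 : n87830 = n48002 := (((F75409).symm.trans (sb E27454 (iv0 F134803)))).symm
theorem E28803 : n94740 = n48127 := (((D48127).symm.trans (sb E27454 D94740))).symm
theorem E28804 : n48128 = n42722 := ((D48128).symm.trans (sb E27454 (iv5 F69666)))
theorem E28805 : n43531 = n40389 := (((iv7 F68406)).symm.trans (sb E27454 F69665))
theorem F291144 : act 7 n41785 = n48129 := (sb E27455 F138152)
theorem E28807 : n19812 = n9078 := (((F30957).symm.trans (sb E27456 (iv3 F64824)))).symm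
theorem E28808 : n86926 = n40996 := (((D40996).symm.trans (sb E27456 (iv4 F133391)))).symm
theorem E28810 : n19544 = n19053 := (((F30958).symm.trans (sb E27456 (iv6 D41509)))).symm
theorem E28811 : n96100 = n87030 := (((iv4 F147731)).symm.trans (sb E27457 (iv4 F137307)))
theorem F291145 : act 0 n20817 = n22366 := (sb E27458 (iv1 D46653))
theorem F291146 : act 4 n20817 = n42730 := (sb E27458 (iv4 F73722))
theorem E28813 : n47886 = n43532 := ((((iv7 F68413)).symm.trans (sb E27458 (iv7 F75185)))).symm
theorem E28814 : n43533 = n19537 := ((D43533).symm.trans (sb E27459 (iv6 D41497)))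
theorem E28817 : n43214 = n9519 := (((F66147).symm.trans (sb E27461 (iv1 F76424)))).symm
theorem E28818 : n48490 = n19390 := (((F31042).symm.trans (sb E27461 F158142))).symm
theorem E28826 : n19126 = n9902 := (((F65891).symm.trans (sb E27465 F61565))).symm
theorem E28827 : n87080 = n21351 := (((F65892).symm.trans (sb E27465 (iv4 F133685)))).symm
theorem E28828 : n19211 = n19124 := ((F66202).symm.trans (sb E27465 (iv6 D40462)))
theorem E28832 : n91879 = n43928 := (((D43928).symm.trans (sb E27467 D91879))).symm
theorem F291147 : act 6 n20815 = n42730 := (sb E27467 F133693)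
theorem E28836 : n93449 = n21438 := ((((iv4 F33675)).symm.trans (sb E27470 (iv4 F144148)))).symm
theorem E28837 : n23340 = n22257 := ((D23340).symm.trans (sb E27470 (iv5 D46453)))
theorem E28838 : n93450 = n44516 := ((((iv4 F70030)).symm.trans (sb E27471 (iv4 F144154)))).symm
theorem E28839 : n90080 = n22258 := (((iv5 F138446)).symm.trans (sb E27471 (iv5 D46454)))
theorem E28840 : n90339 = n43979 := (((F69145).symm.trans (sb E27472 D90339))).symm
theorem F291148 : act 5 n41789 = n19936 := (sb E27472 (iv5 D42234))
theorem F291149 : act 1 n41479 = n42140 := (sb E27473 F137780)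
theorem F291150 : act 7 n41479 = n43553 := (sb E27473 F137781)
theorem F291151 : act 0 n41744 = n42140 := (sb E27474 (iv1 F137776))
theorem F291152 : act 2 n41744 = n43553 := (sb E27474 (iv2 F137777))
theorem E28842 : n88863 = n43341 := (((iv6 F136263)).symm.trans (sb E27474 (iv6 F137778)))
theorem F291153 : act 0 n90157 = n88824 := (sb E27475 (iv1 D186492))
theorem F291154 : act 1 n90157 = n183528 := (sb E27475 F289360)
theorem F291155 : act 2 n90157 = n182257 := (sb E27475 F289364)
theorem E28843 : n98652 = n90771 := ((((iv6 F139701)).symm.trans (sb E27475 (iv6 F289363)))).symm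
theorem F291156 : act 0 n90158 = n45729 := (sb E27476 (iv1 D97973))
theorem E28844 : n90668 = n44870 := (((iv1 F139584)).symm.trans (sb E27477 (iv1 F72704)))
theorem E28845 : n90628 = n44869 := (((iv0 F139528)).symm.trans (sb E27477 F72705))
theorem E28846 : n90772 = n46516 := ((D90772).symm.trans (sb E27477 (iv5 F73499)))
theorem E28847 : n90333 = n22039 := (((iv7 F138979)).symm.trans (sb E27477 (iv7 D46119)))
theorem F291157 : act 2 n9451 = n19706 := (sb E27478 F65796)
theorem E28848 : n44876 = n20064 := (((D20064).symm.trans (sb E27478 D44876))).symm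
theorem F291158 : act 6 n9451 = n19471 := (sb E27478 F65798)
theorem F291159 : act 7 n9451 = n19676 := (sb E27478 F65799)
theorem F291160 : act 7 n10502 = n20062 := (sb E27479 F65206)
theorem E28850 : n41935 = n10029 := ((((iv3 F15851)).symm.trans (sb E27480 D41935))).symm
theorem E28851 : n20297 = n1900 := ((((iv6 D4568)).symm.trans (sb E27480 (iv6 F32213)))).symm
theorem E28853 : n4327 = n1924 := (((F3222).symm.trans (sb E27481 (iv0 D9601)))).symm
theorem E28858 : n42628 = n19619 := (((F66221).symm.trans (sb E27484 (iv0 F66473)))).symm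
theorem E28863 : n20124 = n19590 := ((((iv4 F31366)).symm.trans (sb E27486 (iv4 F31953)))).symm
theorem E28864 : n4835 = n4295 := ((F14399).symm.trans (sb E27486 (iv6 D9495)))
theorem F291161 : act 4 n90173 = n102311 := (sb E27489 (iv4 F157133))
theorem F291162 : act 5 n90173 = n88880 := (sb E27489 F151073)
theorem E28866 : n98578 = n90775 := (((D90775).symm.trans (sb E27490 (iv3 F151971)))).symm
theorem E28867 : n90776 = n46470 := ((D90776).symm.trans (sb E27490 (iv5 F73393)))
theorem F291163 : act 6 n42505 = n88880 := (sb E27490 F136326)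
theorem E28868 : n90335 = n22012 := (((iv7 F138987)).symm.trans (sb E27490 (iv7 D46086)))
theorem E28872 : n88965 = n46846 := (((D46846).symm.trans (sb E27493 (iv3 F136541)))).symm
theorem E28873 : n46847 = n46440 := ((D46847).symm.trans (sb E27493 F73303))
theorem E28874 : n19556 = n19511 := (((F35053).symm.trans (sb E27493 (iv6 D41538)))).symm
theorem F291164 : act 0 n41835 = n43339 := (sb E27494 (iv1 F142751))
theorem F291165 : act 5 n46746 = n43339 := (sb E27495 (iv5 D92642))
theorem E28878 : n88893 = n43537 := ((F136369).symm.trans (sb E27495 F142763))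
theorem E28879 : n88890 = n43536 := (((D43536).symm.trans (sb E27496 (iv3 F136360)))).symm
theorem E28880 : n43538 = n19538 := ((D43538).symm.trans (sb E27496 (iv6 D41500)))
theorem E28882 : n43340 = n19645 := ((D43340).symm.trans (sb E27498 F73322))
theorem E28883 : n88990 = n43342 := (((D43342).symm.trans (sb E27498 (iv3 F136600)))).symm
theorem E28884 : n46497 = n43343 := (((D43343).symm.trans (sb E27498 F73459))).symm
theorem E28885 : n19562 = n9719 := (((F32520).symm.trans (sb E27498 (iv6 D41548)))).symm
theorem E28887 : n4290 = n4166 := (((iv0 F16825)).symm.trans (sb E27500 (iv0 D9205)))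
theorem E28889 : n9360 = n4833 := (((iv7 F14581)).symm.trans (sb E27500 F35484))
theorem E28890 : n4433 = n4202 := ((F6356).symm.trans (sb E27501 (iv0 D9310)))
theorem E28891 : n9824 = n9815 := (((iv4 F15442)).symm.trans (sb E27501 (iv4 F15404)))
theorem E28892 : n4965 = n1859 := (((F6355).symm.trans (sb E27501 F14494))).symm
theorem E28893 : n9825 = n9291 := ((D9825).symm.trans (sb E27501 (iv6 F14495)))
theorem E28894 : n43558 = n42026 := (((iv3 F68448)).symm.trans (sb E27502 (tr (iv3 F68734) E28795)))
theorem E28895 : n46496 = n43563 := ((((iv5 F68451)).symm.trans (sb E27502 (iv5 F73452)))).symm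
theorem E28896 : n43564 = n41993 := ((D43564).symm.trans (sb E27502 (iv6 F64791)))
theorem E28898 : n20101 = n10796 := ((((iv5 F62685)).symm.trans (sb E27504 F32685))).symm
theorem F291166 : act 6 n19788 = n9763 := (sb E27504 (iv6 D20608))
theorem E28899 : n10417 = n9783 := ((F31558).symm.trans (sb E27504 F32686))
theorem F291167 : act 0 n10672 = n9887 := (sb E27505 (iv1 D20831))
theorem E28900 : n9900 = n4963 := ((((iv3 F65696)).symm.trans (sb E27505 F35679))).symm
theorem E28901 : n43902 = n22456 := (((D22456).symm.trans (sb E27505 (iv4 F69026)))).symm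
theorem F291168 : act 6 n10672 = n19105 := (sb E27505 (iv6 F35683))
theorem F291169 : act 0 n20596 = n22251 := (sb E27506 F65678)
theorem F291170 : act 1 n20596 = n10882 := (sb E27506 (iv0 D23097))
theorem F291171 : act 2 n20596 = n19695 := (sb E27506 F65679)
theorem F291172 : act 6 n9195 = n9760 := (sb E27507 (iv6 D20597))
theorem E28911 : n9519 = n4328 := (((D4328).symm.trans (sb E28632 (tr (iv3 F67670) E28817)))).symm
theorem E28913 : n9656 = n4329 := (((D4329).symm.trans (sb E28632 (iv5 D20379)))).symm
theorem E28914 : n4313 = n1821 := (((iv6 F6194)).symm.trans (sb E28632 (tr F32356 E28642)))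
theorem E28917 : n91962 = n943 := ((((iv5 D1794)).symm.trans (sb E27517 (iv5 F141430)))).symm
theorem E28921 : n11094 = n4097 := ((((iv5 F6010)).symm.trans (sb E27519 (iv5 D23694)))).symm
theorem F291173 : act 1 n9123 = n10842 := (sb E27521 (iv0 D22963))
theorem E28922 : n47714 = n19438 := ((((iv4 F31093)).symm.trans (sb E27521 D47714))).symm
theorem E28925 : n92317 = n43842 := ((((iv3 F68909)).symm.trans (sb E27522 (iv3 F141958)))).symm
theorem E28927 : n20903 = n20362 := (((iv6 F33062)).symm.trans (sb E27522 (iv6 D43170)))
theorem F291174 : act 6 n9649 = n9872 := (sb E27523 F15676)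
theorem E28929 : n9174 = n4526 := ((F17509).symm.trans (sb E27523 (iv7 D9942)))
theorem E28930 : n1877 = n1860 := ((D1877).symm.trans (sb E27524 (tr (iv1 F15037) E28630)))
theorem E28931 : n4329 = n1878 := (((D1878).symm.trans (sb E27524 (tr F15036 E28913)))).symm
theorem F291175 : act 1 n20772 = n41443 := (sb E27527 F138469)
theorem F291176 : act 0 n20773 = n22583 := (sb E27528 F63739)
theorem F291177 : act 5 n20773 = n19471 := (sb E27528 (iv5 D41354))
theorem E28941 : n99394 = n19929 := (((D19929).symm.trans (sb E27529 D99394))).symm
theorem E28943 : n19940 = n4898 := ((D19940).symm.trans (sb E27530 (iv1 F17145)))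
theorem E28944 : n22269 = n19942 := (((D19942).symm.trans (sb E27530 D22269))).symm
theorem E28947 : n4314 = n2050 := (((iv5 F6196)).symm.trans (sb E27532 (iv5 D4987)))
theorem F291178 : act 5 n4985 = n4286 := (sb E27534 F14677)
theorem E28957 : n42718 = n22343 := (((F35958).symm.trans (sb E27540 (iv6 D91268)))).symm
theorem E28959 : n10801 = n9507 := (((iv1 F17326)).symm.trans (sb E27542 (iv1 D20154)))
theorem E28962 : n47738 = n20546 := ((((iv4 F62983)).symm.trans (sb E27543 F134703))).symm
theorem E28965 : n42636 = n41587 := (((F69069).symm.trans (sb E27551 F140030))).symm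
theorem E28966 : n44115 = n42621 := (((iv6 F69457)).symm.trans (sb E27551 (iv6 D90994)))
theorem E28967 : n10517 = n9492 := ((F31345).symm.trans (sb E27552 (iv6 D20119)))
theorem F291179 : act 0 n20118 = n9960 := (sb E27553 (iv1 F33149))
theorem F291180 : act 1 n20118 = n9955 := (sb E27553 (iv0 D20964))
theorem F291181 : act 6 n20118 = n20819 := (sb E27553 (iv6 F65791))
theorem E28968 : n182707 = n41677 := (((F67716).symm.trans (sb E27554 F289115))).symm
theorem E28971 : n43256 = n42568 := (((iv1 F67808)).symm.trans (sb E27557 (iv1 F66401)))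
theorem F291182 : act 5 n20457 = n10600 := (sb E27557 (iv5 D22231))
theorem F291183 : act 0 n46969 = n90325 := (sb E27559 (iv1 F142829))
theorem F291184 : act 1 n46969 = n43354 := (sb E27559 (iv0 D92681))
theorem E28974 : n99387 = n90319 := (((iv4 F153061)).symm.trans (sb E27559 F142827))
theorem E28976 : n99410 = n90320 := (((F138941).symm.trans (sb E27560 D99410))).symm
theorem E28977 : n47122 = n42454 := ((((iv1 D90685)).symm.trans (sb E27561 (iv1 D101178)))).symm
theorem F291185 : act 5 n90685 = n99379 := (sb E27561 F155878)
theorem E28978 : n47917 = n19340 := (((F34895).symm.trans (sb E27562 F134822))).symm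
theorem E28979 : n46639 = n40971 := (((iv5 F73691)).symm.trans (sb E27562 (iv5 D87847)))
theorem E28980 : n43660 = n42546 := (((iv6 F68613)).symm.trans (sb E27562 (iv6 F134821)))
theorem F291186 : act 5 n20582 = n42427 := (sb E27563 (iv5 D90627))
theorem F291187 : act 5 n90684 = n99377 := (sb E27565 F155873)
theorem F291188 : act 4 n90636 = n46958 := (sb E27568 F154641)
theorem F291189 : act 5 n90636 = n46913 := (sb E27568 (iv5 D100566))
theorem F291190 : act 3 n93014 = n46955 := (sb E27569 F154775)
theorem F291191 : act 4 n90635 = n46955 := (sb E27570 F154647)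
theorem F291192 : act 5 n90635 = n46917 := (sb E27570 (iv5 D100578))
theorem F291193 : act 2 n100679 = n90758 := (sb E27571 F239669)
theorem F291194 : act 3 n100679 = n71928 := (sb E27571 F239670)
theorem F291195 : act 5 n100679 = n71926 := (sb E27571 (iv5 D152488))
theorem E28988 : n20656 = n4947 := (((F17642).symm.trans (sb E27574 (iv4 D43657)))).symm
theorem E28989 : n93333 = n22984 := (((D22984).symm.trans (sb E27574 D93333))).symm
theorem E28993 : n43710 = n23025 := ((((iv5 F36073)).symm.trans (sb E27575 D43710))).symm
theorem E28995 : n90726 = n87937 := (((iv1 F139645)).symm.trans (sb E27576 F144174))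
theorem E28996 : n93370 = n23017 := (((F75035).symm.trans (sb E27576 F144173))).symm
theorem F291196 : act 5 n10976 = n21187 := (sb E27578 (iv5 F33506))
theorem E28999 : n19720 = n10258 := (((F66771).symm.trans (sb E27579 (iv7 D41896)))).symm
theorem E29000 : n101451 = n44694 := ((D101451).symm.trans (sb E27580 (iv1 D95692)))
theorem E29001 : n101452 = n97015 := ((D101452).symm.trans (sb E27580 F149637))
theorem F291197 : act 2 n47210 = n97012 := (sb E27580 F149630)
theorem F291198 : act 4 n47210 = n44747 := (sb E27580 F147382)
theorem F291199 : act 7 n47210 = n97011 := (sb E27580 F149625)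
theorem E29003 : n89698 = n45012 := (((D45012).symm.trans (sb E27582 D89698))).symm
theorem F291200 : act 6 n21497 = n19835 := (sb E27582 F64619)
theorem E29005 : n23497 = n11030 := ((((iv4 D23520)).symm.trans (sb E27583 F75894))).symm
theorem E29007 : n44836 = n41288 := (((iv6 F70417)).symm.trans (sb E27583 F75895))
theorem F291201 : act 6 n23547 = n104332 := (sb E27586 D104332)
theorem E29023 : n23496 = n10927 := (((F63228).symm.trans (sb E27587 (iv1 F76010)))).symm
theorem E29024 : n23495 = n11037 := (((F17902).symm.trans (sb E27587 (iv0 D48351)))).symm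
theorem E29025 : n41957 = n5044 := ((((iv5 F17898)).symm.trans (sb E27587 F76008))).symm
theorem F291202 : act 4 n2065 = n5018 := (sb E27591 F17886)
theorem E29041 : n9338 = n5046 := (((D5046).symm.trans (sb E27592 F31540))).symm
theorem E29044 : n11040 = n9143 := ((D11040).symm.trans (sb E27594 F17881))
theorem F291203 : act 3 n23550 = n23432 := (sb E27595 F75896)
theorem E29048 : n104344 = n48417 := (((D48417).symm.trans (sb E27595 D104344))).symm
theorem E29051 : n19843 = n11069 := (((D11069).symm.trans (sb E27599 F64670))).symm
theorem E29052 : n41286 = n23018 := ((D41286).symm.trans (sb E27600 (iv1 F66286)))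
theorem E29053 : n43931 = n41287 := (((D41287).symm.trans (sb E27600 (iv0 F69064)))).symm
theorem E29054 : n44791 = n41289 := (((D41289).symm.trans (sb E27600 (iv5 F70371)))).symm
theorem F291204 : act 6 n19420 = n11039 := (sb E27600 (iv6 D23551))
theorem F291205 : act 0 n47782 = n44956 := (sb E27601 F75804)
theorem E29055 : n104217 = n95674 := ((((iv5 F147364)).symm.trans (sb E27601 D104217))).symm
theorem E29056 : n43704 = n22991 := ((((iv6 D47782)).symm.trans (sb E27601 F75802))).symm
theorem F291206 : act 7 n47782 = n23421 := (sb E27601 F75803)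
theorem F291207 : act 5 n19090 = n22993 := (sb E27602 F64786)
theorem E29058 : n48119 = n8941 := ((((iv6 D19090)).symm.trans (sb E27602 (iv6 F75609)))).symm
theorem E29059 : n40413 = n22992 := (((D22992).symm.trans (sb E27603 (iv5 F63058)))).symm
theorem F291208 : act 1 n47900 = n44956 := (sb E27604 F75805)
theorem F291209 : act 2 n47900 = n23421 := (sb E27604 F75799)
theorem E29061 : n104215 = n103358 := ((((iv3 F158643)).symm.trans (sb E27604 D104215))).symm
theorem E29062 : n104216 = n95675 := ((((iv5 F147369)).symm.trans (sb E27604 D104216))).symm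
theorem F291210 : act 2 n23241 = n20888 := (sb E27605 (iv2 F69196))
theorem E29064 : n94103 = n48123 := ((((iv4 F75617)).symm.trans (sb E27605 D94103))).symm
theorem E29065 : n21056 = n10929 := ((((iv6 D23241)).symm.trans (sb E27605 F69194))).symm
theorem E29067 : n20286 = n10147 := ((((iv5 D21240)).symm.trans (sb E27606 (iv5 D42955)))).symm
theorem E29069 : n11093 = n5015 := (((iv4 F17981)).symm.trans (iv4 (sb E27607 (tr F16021 E28667))))
theorem E29070 : n10953 = n9906 := ((((iv5 F15560)).symm.trans (sb E27607 (iv5 F17787)))).symm
theorem E29071 : n11010 = n4630 := ((D11010).symm.trans (sb E27607 (iv6 D10197)))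
theorem F291211 : act 7 n5015 = n4964 := (sb E27607 F16022)
theorem F291212 : act 1 n2059 = n4964 := (sb E27609 (iv0 F16100))
theorem F291213 : act 0 n10330 = n5000 := (sb E27610 (iv1 D10974))
theorem F291214 : act 1 n10330 = n5004 := (sb E27610 F17831)
theorem E29074 : n23369 = n21633 := (((D21633).symm.trans (sb E27610 D23369))).symm
theorem F291215 : act 7 n10330 = n5001 := (sb E27610 (iv7 F66582))
theorem F291216 : act 5 n10097 = n10981 := (sb E27614 (iv5 D23401))
theorem F291217 : act 5 n9258 = n5034 := (sb E27616 (iv5 D11046))
theorem E29089 : n11076 = n4221 := ((D11076).symm.trans (sb E27617 F14455))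
theorem F291218 : act 2 n48290 = n97011 := (sb E27619 F149624)
theorem F291219 : act 7 n48290 = n97012 := (sb E27619 (iv7 F149628))
theorem F291220 : act 2 n48291 = n97142 := (sb E27620 (iv2 F149872))
theorem E29098 : n89754 = n48455 := (((D48455).symm.trans (sb E27622 D89754))).symm
theorem E29099 : n48456 = n19844 := (((D19844).symm.trans (sb E27623 D48456))).symm
theorem F291221 : act 6 n9337 = n11067 := (sb E27623 (iv6 D23618))
theorem E29100 : n48050 = n41280 := (((D41280).symm.trans (sb E27624 (iv3 F75505)))).symm
theorem E29101 : n45089 = n41281 := (((D41281).symm.trans (sb E27624 F70996))).symm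
theorem E29102 : n41282 = n10914 := ((D41282).symm.trans (sb E27624 (iv6 D23185)))
theorem E29103 : n45088 = n41284 := (((D41284).symm.trans (sb E27625 (iv5 F76079)))).symm
theorem E29104 : n41285 = n23535 := ((D41285).symm.trans (sb E27625 (iv6 D48408)))
theorem E29105 : n41290 = n21688 := ((D41290).symm.trans (sb E27626 (iv1 D45458)))
theorem E29106 : n41291 = n21692 := ((D41291).symm.trans (sb E27626 F71713))
theorem E29107 : n97332 = n41292 := (((D41292).symm.trans (sb E27626 D97332))).symm
theorem F291222 : act 6 n87291 = n48380 := (sb E27627 F147711)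
theorem E29108 : n89995 = n48444 := (((iv7 F138243)).symm.trans (sb E27627 F147712))
theorem E29115 : n45541 = n19834 := (((D19834).symm.trans (sb E27630 D45541))).symm
theorem E29116 : n10365 = n4216 := ((((iv5 D9332)).symm.trans (sb E27630 (iv5 D21746)))).symm
theorem E29117 : n10971 = n10904 := (((iv6 F17825)).symm.trans (sb E27630 F34184))
theorem E29118 : n45534 = n19840 := (((D19840).symm.trans (sb E27631 D45534))).symm
theorem E29120 : n19841 = n11037 := ((D19841).symm.trans (sb E27631 F63295))
theorem E29125 : n20257 = n10352 := ((((iv1 D21695)).symm.trans (sb E27634 F63790))).symm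
theorem E29126 : n45091 = n42932 := ((F71002).symm.trans (sb E27634 (iv0 F67270)))
theorem E29127 : n79943 = n45476 := (((D45476).symm.trans (sb E27634 (iv4 F122700)))).symm
theorem F291223 : act 5 n21695 = n19484 := (sb E27634 (iv5 D41368))
theorem E29128 : n88631 = n45477 := (((D45477).symm.trans (sb E27634 D88631))).symm
theorem F291224 : act 6 n20560 = n19484 := (sb E27635 F34928)
theorem E29131 : n103095 = n90032 := (((D90032).symm.trans (sb E27636 (iv0 F285551)))).symm
theorem E29132 : n185493 = n90033 := (((D90033).symm.trans (sb E27636 (iv2 F287758)))).symm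
theorem E29133 : n99027 = n43299 := ((((iv4 F67939)).symm.trans (sb E27636 F152558))).symm
theorem E29134 : n90034 = n45471 := ((D90034).symm.trans (sb E27636 (iv5 D97369)))
theorem E29135 : n90035 = n48412 := ((D90035).symm.trans (sb E27636 (iv6 F150110)))
theorem E29136 : n79950 = n45472 := (((D45472).symm.trans (sb E27637 (iv4 F122718)))).symm
theorem F291225 : act 5 n21694 = n19842 := (sb E27637 (iv5 D42078))
theorem E29139 : n104332 = n19842 := ((F291201).symm.trans (sb E27638 (iv6 D42079)))
theorem E29143 : n20960 = n20281 := (((F65000).symm.trans (sb E27639 (iv5 D44108)))).symm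
theorem E29144 : n94380 = n90055 := (((D90055).symm.trans (sb E27639 D94380))).symm
theorem E29145 : n96566 = n90052 := (((D90052).symm.trans (sb E27640 (iv3 F148736)))).symm
theorem E29147 : n21524 = n20280 := (((F64994).symm.trans (sb E27640 (iv5 D45087)))).symm
theorem E29148 : n96568 = n90053 := (((D90053).symm.trans (sb E27640 D96568))).symm
theorem E29149 : n97329 = n89996 := ((((iv3 F138247)).symm.trans (sb E27641 D97329))).symm
theorem E29151 : n97331 = n89997 := (((D89997).symm.trans (sb E27641 D97331))).symm
theorem E29162 : n9612 = n2064 := ((((iv6 D5041)).symm.trans (sb E27651 (iv6 D20334)))).symm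
theorem E29169 : n42943 = n10353 := (((F34147).symm.trans (sb E27657 (iv5 D91869)))).symm
theorem E29171 : n9598 = n4626 := (((F16013).symm.trans (sb E27659 F32185))).symm
theorem E29172 : n10353 = n9597 := (((iv6 F16480)).symm.trans (sb E27659 (iv6 D20284)))
theorem E29173 : n45483 = n42945 := (((iv5 F71727)).symm.trans (sb E27660 (iv5 D91875)))
theorem E29180 : n4426 = n1020 := (((F3326).symm.trans (sb E27663 F15261))).symm
theorem E29181 : n4954 = n4424 := ((D4954).symm.trans (sb E27663 (iv5 D9793)))
theorem E29183 : n93379 = n23022 := (((D23022).symm.trans (sb E27664 D93379))).symm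
theorem E29185 : n93380 = n23024 := (((D23024).symm.trans (sb E27664 D93380))).symm
theorem E29193 : n22996 = n9077 := (((iv5 F36058)).symm.trans (sb E27667 (iv5 D19323)))
theorem E29195 : n103052 = n93351 := (((iv4 F158301)).symm.trans (sb E27668 (iv4 F143972)))
theorem F291226 : act 1 n43736 = n23020 := (sb E27670 F75119)
theorem E29199 : n103218 = n93527 := (((D93527).symm.trans (sb E27670 D103218))).symm
theorem E29200 : n103219 = n93528 := (((D93528).symm.trans (sb E27670 D103219))).symm
theorem E29201 : n91078 = n41520 := (((D41520).symm.trans (sb E27672 (iv5 F140123)))).symm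
theorem F291227 : act 5 n20416 = n41578 := (sb E27675 F74899)
theorem E29204 : n43260 = n23035 := ((D43260).symm.trans (sb E27675 (iv6 F74897)))
theorem F291228 : act 5 n19153 = n20896 := (sb E27676 (iv5 D44009))
theorem E29207 : n40450 = n3849 := (((F12198).symm.trans (sb E27677 (iv0 F74906)))).symm
theorem E29211 : n10595 = n977 := ((((iv5 D1890)).symm.trans (sb E27678 F31231))).symm
theorem E29220 : n186348 = n22069 := (((D22069).symm.trans (sb E27682 (iv2 F289127)))).symm
theorem E29221 : n43596 = n4829 := (((F16710).symm.trans (sb E27682 F136156))).symm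
theorem E29223 : n41444 = n22071 := (((D22071).symm.trans (sb E27682 (iv6 D88770)))).symm
theorem E29225 : n21015 = n1006 := ((((iv5 D1987)).symm.trans (sb E27683 (iv5 F33190)))).symm
theorem E29226 : n9775 = n4816 := (((D4816).symm.trans (sb E27683 (iv6 D20622)))).symm
theorem F291229 : act 1 n10513 = n19712 := (sb E27685 (iv0 F31462))
theorem F291230 : act 7 n10513 = n20118 := (sb E27685 (iv7 F31942))
theorem E29231 : n48478 = n19626 := (((F63426).symm.trans (sb E27690 F76268))).symm
theorem E29233 : n104728 = n89207 := (((D89207).symm.trans (sb E27691 D104728))).symm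
theorem E29234 : n90721 = n43978 := ((((iv6 F69138)).symm.trans (sb E27691 (iv6 F139627)))).symm
theorem F291231 : act 1 n45791 = n43218 := (sb E27692 (iv0 F127101))
theorem F291232 : act 3 n45791 = n40553 := (sb E27692 F127099)
theorem E29235 : n91409 = n41975 := (((iv4 F140608)).symm.trans (sb E27692 F127100))
theorem F291233 : act 3 n42474 = n43267 := (sb E27693 F72280)
theorem F291234 : act 6 n42474 = n21894 := (sb E27693 (iv6 D45792))
theorem F291235 : act 1 n42520 = n43267 := (sb E27695 F73956)
theorem F291236 : act 2 n42520 = n46843 := (sb E27695 (iv2 F74020))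
theorem F291237 : act 7 n42520 = n21349 := (sb E27695 (iv7 D44821))
theorem F291238 : act 1 n41573 = n20075 := (sb E27696 (iv0 D42519))
theorem E29236 : n45769 = n42479 := (((iv3 F72232)).symm.trans (sb E27696 F71759))
theorem F291239 : act 5 n22608 = n43267 := (sb E27697 F73981)
theorem F291240 : act 0 n40874 = n21349 := (sb E27698 (iv1 D44820))
theorem F291241 : act 1 n40874 = n46843 := (sb E27698 F74023)
theorem F291242 : act 4 n40874 = n43946 := (sb E27698 F70401)
theorem F291243 : act 6 n40874 = n43222 := (sb E27698 (iv6 F70402))
theorem F291244 : act 7 n40874 = n43267 := (sb E27698 F70403)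
theorem F291245 : act 4 n93054 = n91390 := (sb E27699 F158768)
theorem F291246 : act 6 n93054 = n89606 := (sb E27699 F158769)
theorem F291247 : act 7 n93063 = n89589 := (sb E27701 F158772)
theorem F291248 : act 0 n43335 = n90801 := (sb E27703 (iv1 F139771))
theorem E29239 : n99325 = n92634 := (((D92634).symm.trans (sb E27703 (iv4 F152944)))).symm
theorem F291249 : act 1 n43330 = n90801 := (sb E27704 (iv0 F139770))
theorem E29242 : n99345 = n92625 := (((D92625).symm.trans (sb E27704 D99345))).symm
theorem E29243 : n99346 = n92626 := (((D92626).symm.trans (sb E27704 D99346))).symm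
theorem E29244 : n47056 = n43458 := ((((iv1 F143226)).symm.trans (sb E27705 (iv1 D100988)))).symm
theorem E29245 : n102915 = n43446 := ((((iv0 D92853)).symm.trans (sb E27705 (iv0 F158211)))).symm
theorem F291250 : act 5 n92853 = n90794 := (sb E27705 F155606)
theorem E29246 : n100159 = n92975 := ((((iv7 F143390)).symm.trans (sb E27705 F155605))).symm
theorem F291251 : act 2 n43495 = n90801 := (sb E27706 (iv2 F139768))
theorem E29253 : n90825 = n89036 := ((D90825).symm.trans (sb E27713 (iv1 F283723)))
theorem E29254 : n182275 = n90826 := (((D90826).symm.trans (sb E27713 (iv0 F283722)))).symm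
theorem E29255 : n183468 = n90827 := (((D90827).symm.trans (sb E27713 F285223))).symm
theorem E29256 : n100440 = n90828 := (((D90828).symm.trans (sb E27713 F154505))).symm
theorem E29257 : n90829 = n88883 := ((D90829).symm.trans (sb E27713 F147834))
theorem F291252 : act 7 n42538 = n89612 := (sb E27713 F147835)
theorem E29260 : n87208 = n9012 := ((((iv6 D19174)).symm.trans (sb E27715 (iv6 F139129)))).symm
theorem F291253 : act 2 n20844 = n22583 := (sb E27731 F65745)
theorem E29276 : n48164 = n43911 := ((((iv4 F69033)).symm.trans (sb E27731 (iv4 F75706)))).symm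
theorem E29277 : n20976 = n10952 := ((F33156).symm.trans (sb E27731 (iv6 D23308)))
theorem E29278 : n89602 = n43252 := ((((iv4 F67789)).symm.trans (sb E27732 D89602))).symm
theorem F291254 : act 7 n20407 = n22583 := (sb E27732 (iv7 F64515))
theorem F291255 : act 1 n20847 = n22583 := (sb E27733 (iv0 F63732))
theorem F291256 : act 3 n20847 = n43265 := (sb E27733 (iv3 F67834))
theorem F291257 : act 5 n20847 = n19470 := (sb E27733 (iv5 D41352))
theorem F291258 : act 6 n20847 = n19695 := (sb E27733 F63729)
theorem E29279 : n46311 = n22478 := ((((iv1 D46819)).symm.trans (sb E27735 F139758))).symm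
theorem E29280 : n82695 = n22503 := (((F73946).symm.trans (sb E27735 F139756))).symm
theorem F291259 : act 6 n46819 = n43954 := (sb E27735 F139757)
theorem E29282 : n48530 = n40401 := (((D40401).symm.trans (sb E27736 F159349))).symm
theorem E29283 : n48112 = n19643 := ((((iv7 F63454)).symm.trans (sb E27736 (iv7 D103920)))).symm
theorem F291260 : act 7 n47617 = n90173 := (sb E27737 F142522)
theorem E29285 : n20617 = n10497 := (((F31363).symm.trans (sb E27738 (iv0 D43583)))).symm
theorem E29288 : n19140 = n9018 := (((F30776).symm.trans (sb E27740 F31951))).symm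
theorem E29289 : n18197 = n9493 := ((F30778).symm.trans (sb E27740 (iv6 D20121)))
theorem F291261 : act 2 n41826 = n82492 := (sb E27741 F134025)
theorem F291262 : act 1 n89496 = n42474 := (sb E27742 F138994)
theorem F291263 : act 2 n89496 = n42478 := (sb E27742 F138999)
theorem E29290 : n103058 = n87919 := (((F137194).symm.trans (sb E27742 (iv4 F158317)))).symm
theorem E29291 : n46842 = n43220 := ((F137191).symm.trans (sb E27742 F138996))
theorem E29294 : n41482 = n20603 := ((((iv4 F68056)).symm.trans (sb E27744 F127104))).symm
theorem E29296 : n103459 = n92907 := ((((iv3 F143277)).symm.trans (sb E27746 D103459))).symm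
theorem E29299 : n47027 = n22477 := (((iv5 F74271)).symm.trans (sb E27747 (iv5 D46818)))
theorem E29300 : n10921 = n4077 := (((F14139).symm.trans (sb E27748 F36304))).symm
theorem F291264 : act 5 n9060 = n10919 := (sb E27748 (iv5 D23202))
theorem E29302 : n22243 = n20589 := (((iv1 F34711)).symm.trans (sb E27749 (iv1 F68367)))
theorem F291265 : act 6 n41486 = n20075 := (sb E27750 (iv6 D42522))
theorem F291266 : act 5 n41821 = n43264 := (sb E27751 (iv5 F67832))
theorem E29304 : n100977 = n46833 := (((D46833).symm.trans (sb E27753 (iv4 F155590)))).symm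
theorem F291267 : act 6 n94049 = n89589 := (sb E27754 F288580)
theorem F291268 : act 4 n91294 = n43941 := (sb E27755 F144805)
theorem F291269 : act 5 n91294 = n48066 := (sb E27755 (iv5 F144806))
theorem E29305 : n100219 = n92851 := ((((iv1 F143221)).symm.trans (sb E27756 D100219))).symm
theorem E29306 : n100220 = n92849 := ((((iv0 F143217)).symm.trans (sb E27756 D100220))).symm
theorem E29307 : n100217 = n93019 := (((D93019).symm.trans (sb E27756 (iv3 F154155)))).symm
theorem E29308 : n92928 = n22420 := (((iv5 F143296)).symm.trans (sb E27756 (iv5 D46770)))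
theorem E29316 : n100325 = n92966 := (((D92966).symm.trans (sb E27758 D100325))).symm
theorem E29318 : n99326 = n92927 := ((((iv5 F143292)).symm.trans (sb E27759 (iv5 F152948)))).symm
theorem E29321 : n100335 = n92980 := (((D92980).symm.trans (sb E27760 D100335))).symm
theorem F291270 : act 5 n43497 = n41418 := (sb E27760 F73936)
theorem E29322 : n100336 = n92982 := (((D92982).symm.trans (sb E27760 D100336))).symm
theorem F291271 : act 5 n92603 = n46498 := (sb E27761 (iv5 D99455))
theorem F291272 : act 5 n92596 = n47057 := (sb E27762 F155610)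
theorem F291273 : act 4 n92854 = n90801 := (sb E27763 F155602)
theorem F291274 : act 5 n92854 = n99317 := (sb E27763 F155601)
theorem F291275 : act 2 n9962 = n19713 := (sb E27765 (iv2 F31464))
theorem E29330 : n22952 = n20984 := ((((iv3 F33159)).symm.trans (sb E27765 (iv3 F36011)))).symm
theorem F291276 : act 5 n9962 = n10842 := (sb E27765 (iv5 F17635))
theorem E29333 : n89644 = n87023 := ((((iv3 F133573)).symm.trans (sb E27767 (iv3 F137424)))).symm
theorem E29334 : n22279 = n20089 := (((F61513).symm.trans (sb E27767 F64558))).symm
theorem F291277 : act 7 n40434 = n19713 := (sb E27767 (iv7 D41876))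
theorem F291278 : act 0 n42554 = n22585 := (sb E27768 (iv1 F73425))
theorem F291279 : act 1 n42554 = n22584 := (sb E27768 F73426)
theorem F291280 : act 2 n42554 = n22588 := (sb E27768 F73423)
theorem E29335 : n99407 = n90851 := (((D90851).symm.trans (sb E27768 (iv3 F153100)))).symm
theorem E29341 : n104730 = n89205 := (((D89205).symm.trans (sb E27771 D104730))).symm
theorem E29343 : n96411 = n89235 := (((D89235).symm.trans (sb E27772 F160724))).symm
theorem E29344 : n89236 = n48488 := ((D89236).symm.trans (sb E27772 F160725))
theorem E29351 : n103933 = n86912 := (((F133358).symm.trans (sb E27774 F159377))).symm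
theorem F291281 : act 0 n41844 = n43218 := (sb E27779 F137927)
theorem E29359 : n89593 = n41976 := ((D89593).symm.trans (sb E27779 (iv4 D89860)))
theorem E29361 : n89869 = n87944 := ((((iv4 F134939)).symm.trans (sb E27781 F139140))).symm
theorem F291282 : act 5 n48120 = n42270 := (sb E27781 (iv5 D90408))
theorem E29362 : n44278 = n23239 := ((((iv6 D48120)).symm.trans (sb E27781 F139142))).symm
theorem F291283 : act 7 n48120 = n43218 := (sb E27781 F139139)
theorem E29364 : n43737 = n41978 := (((F137869).symm.trans (sb E27782 (iv0 F140364)))).symm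
theorem F291284 : act 4 n89828 = n44665 := (sb E27782 F140362)
theorem F291285 : act 6 n89828 = n42729 := (sb E27782 (iv6 D91293))
theorem F291286 : act 3 n46652 = n82492 := (sb E27783 F134868)
theorem E29365 : n87065 = n86928 := ((((iv4 F133401)).symm.trans (sb E27784 (iv4 F133664)))).symm
theorem E29366 : n20103 = n19545 := ((((iv6 D41511)).symm.trans (sb E27784 (iv6 D42588)))).symm
theorem E29370 : n48126 = n40318 := ((((iv4 F63774)).symm.trans (sb E27786 F134875))).symm
theorem F291287 : act 2 n47618 = n90173 := (sb E27788 (iv2 F142518))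
theorem F291288 : act 2 n46914 = n42505 := (sb E27789 (iv2 F138983))
theorem E29371 : n90846 = n22532 := ((((iv5 D46914)).symm.trans (sb E27789 (iv5 F139830)))).symm
theorem E29372 : n42506 = n41596 := (((F74123).symm.trans (sb E27789 (iv7 F138985)))).symm
theorem F291289 : act 1 n42444 = n82492 := (sb E27790 F133529)
theorem F291290 : act 0 n42430 = n82492 := (sb E27791 F133995)
theorem F291291 : act 6 n42430 = n40541 := (sb E27791 (iv6 D87295))
theorem F291292 : act 4 n41817 = n22584 := (sb E27792 (iv4 D46954))
theorem F291293 : act 5 n41817 = n82492 := (sb E27792 (iv5 F127132))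
theorem F291294 : act 1 n37862 = n46655 := (sb E27793 F75132)
theorem E29373 : n42067 = n42018 := (((D42018).symm.trans (sb E27794 (iv4 F64954)))).symm
theorem E29374 : n10281 = n9335 := ((F63287).symm.trans (sb E27794 (iv6 D19838)))
theorem E29377 : n20343 = n9950 := ((((iv6 D20946)).symm.trans (sb E27795 (iv6 D43122)))).symm
theorem F291295 : act 2 n22875 = n43264 := (sb E27796 (iv2 F67830))
theorem F291296 : act 6 n22875 = n19839 := (sb E27796 (iv6 D42071))
theorem E29378 : n22066 = n20115 := ((F34538).symm.trans (sb E27797 (iv0 F31930)))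
theorem E29379 : n103373 = n88317 := ((((iv4 F135231)).symm.trans (sb E27798 (iv4 F158661)))).symm
theorem F291297 : act 6 n47508 = n87849 := (sb E27798 F139937)
theorem F291298 : act 7 n22874 = n43264 := (sb E27800 (iv7 D92482))
theorem F291299 : act 3 n41824 = n87849 := (sb E27801 (iv3 F134831))
theorem F291300 : act 4 n45468 = n89651 := (sb E27802 F140981)
theorem E29382 : n42877 = n21691 := ((((iv6 D45468)).symm.trans (sb E27802 (iv6 D91711)))).symm
theorem E29383 : n89647 = n43227 := ((D89647).symm.trans (sb E27803 F205488))
theorem E29384 : n90116 = n89648 := (((D89648).symm.trans (sb E27803 F205489))).symm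
theorem F291301 : act 1 n20406 = n19713 := (sb E27804 (iv0 D41874))
theorem E29386 : n89657 = n43253 := (((D43253).symm.trans (sb E27804 D89657))).symm
theorem F291302 : act 6 n20406 = n22251 := (sb E27804 F64547)
theorem E29387 : n47888 = n43217 := ((((iv1 F67682)).symm.trans (sb E27805 F75194))).symm
theorem E29388 : n82697 = n79936 := (((iv2 F127428)).symm.trans (sb E27805 (iv2 F122671)))
theorem F291303 : act 3 n40710 = n19713 := (sb E27805 F64535)
theorem E29389 : n41369 = n41241 := ((((iv5 F63081)).symm.trans (sb E27805 F64536))).symm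
theorem E29390 : n19710 = n19209 := ((((iv6 D40710)).symm.trans (sb E27805 (iv6 D41869)))).symm
theorem F291304 : act 2 n19439 = n10842 := (sb E27806 F31238)
theorem F291305 : act 5 n19439 = n19713 := (sb E27806 (iv5 F31465))
theorem F291306 : act 6 n19439 = n9181 := (sb E27806 (iv6 D19508))
theorem E29391 : n43959 = n41442 := (((D41442).symm.trans (sb E27808 F69110))).symm
theorem F291307 : act 7 n19517 = n19868 := (sb E27808 (iv7 D42120))
theorem E29392 : n90099 = n82698 := ((((iv2 F127433)).symm.trans (sb E27809 (iv2 F138518)))).symm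
theorem E29393 : n93040 = n41810 := (((F68389).symm.trans (sb E27809 (iv4 F143506)))).symm
theorem E29394 : n47701 = n20585 := ((((iv5 D43516)).symm.trans (sb E27809 (iv5 F74982)))).symm
theorem F291308 : act 7 n9759 = n10842 := (sb E27810 (iv7 D22965))
theorem F291309 : act 1 n10709 = n19922 := (sb E27811 (iv0 D42193))
theorem F291310 : act 6 n10709 = n20591 := (sb E27811 F65124)
theorem E29395 : n20094 = n4897 := ((((iv7 D10709)).symm.trans (sb E27811 F65126))).symm
theorem F291311 : act 1 n44126 = n22588 := (sb E27812 F73415)
theorem F291312 : act 2 n44126 = n22585 := (sb E27812 (iv2 F73417))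
theorem E29396 : n99401 = n94420 := (((D94420).symm.trans (sb E27812 D99401))).symm
theorem F291313 : act 7 n44126 = n22584 := (sb E27812 F73416)
theorem F291314 : act 2 n10708 = n20968 := (sb E27813 F66390)
theorem E29397 : n90868 = n22586 := (((D22586).symm.trans (sb E27813 D90868))).symm
theorem E29399 : n10884 = n8953 := (((D8953).symm.trans (sb E27815 F33641))).symm
theorem E29400 : n9815 = n9312 := (((F14496).symm.trans (sb E27816 (iv1 F15405)))).symm
theorem E29401 : n10883 = n4497 := ((D10883).symm.trans (sb E27816 F15299))
theorem F291315 : act 6 n4959 = n4190 := (sb E27816 (iv6 D9267))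
theorem E29403 : n47941 = n40439 := (((D40439).symm.trans (sb E27817 F147859))).symm
theorem F291316 : act 0 n41931 = n47655 := (sb E27818 F147860)
theorem F291317 : act 0 n23099 = n43464 := (sb E27819 (iv1 F68318))
theorem F291318 : act 1 n23099 = n43469 := (sb E27819 (iv0 F68323))
theorem E29404 : n89770 = n47942 := (((D47942).symm.trans (sb E27819 D89770))).symm
theorem F291319 : act 6 n23099 = n19745 := (sb E27819 (iv6 D41932))
theorem E29405 : n20090 = n4888 := (((F65657).symm.trans (sb E27820 (iv1 F35935)))).symm
theorem E29406 : n43682 = n10881 := (((D10881).symm.trans (sb E27820 D43682))).symm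
theorem F291320 : act 1 n42138 = n47655 := (sb E27821 (iv0 D102746))
theorem E29410 : n104373 = n88598 := (((D88598).symm.trans (sb E27823 D104373))).symm
theorem E29413 : n104375 = n88596 := (((D88596).symm.trans (sb E27825 D104375))).symm
theorem F291321 : act 0 n41897 = n41487 := (sb E27826 (iv1 D88871))
theorem E29415 : n89702 = n43914 := ((D89702).symm.trans (sb E27826 F136287))
theorem F291322 : act 7 n41897 = n41578 := (sb E27826 F136286)
theorem E29416 : n91077 = n46023 := ((((iv5 F72601)).symm.trans (sb E27828 (iv5 F140120)))).symm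
theorem E29421 : n43550 = n19528 := ((((iv4 F58693)).symm.trans (sb E27832 F74026))).symm
theorem F291323 : act 6 n37848 = n22500 := (sb E27832 (iv6 D46844))
theorem F291324 : act 1 n45739 = n90173 := (sb E27834 F142534)
theorem F291325 : act 4 n45739 = n90149 := (sb E27834 F142531)
theorem E29424 : n8953 = n4989 := ((D8953).symm.trans (sb E27835 (iv6 D10951)))
theorem E29428 : n40439 = n22577 := ((D40439).symm.trans (sb E27836 (iv6 D46948)))
theorem F291326 : act 2 n10706 = n19922 := (sb E27837 F35706)
theorem F291327 : act 5 n10706 = n20178 := (sb E27837 (iv5 F32002))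
theorem F291328 : act 6 n10706 = n8950 := (sb E27837 (iv6 D19112))
theorem E29430 : n94739 = n48124 := (((iv6 F146040)).symm.trans (sb E27839 (iv6 D103949)))
theorem F291329 : act 5 n46953 = n93014 := (sb E27840 (iv5 F143455))
theorem F291330 : act 6 n46953 = n43243 := (sb E27840 (iv6 D92458))
theorem F291331 : act 2 n88502 = n47710 := (sb E27841 F136060)
theorem E29432 : n186273 = n182293 := ((((iv4 F283814)).symm.trans (sb E27841 D186273))).symm
theorem E29433 : n186265 = n185825 := (((D185825).symm.trans (sb E27841 (iv6 F289020)))).symm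
theorem F291332 : act 7 n43525 = n47710 := (sb E27842 (iv7 D102884))
theorem E29437 : n100256 = n90263 := ((D100256).symm.trans (sb E27844 F142469))
theorem E29438 : n100257 = n92848 := ((D100257).symm.trans (sb E27844 (iv5 F143216)))
theorem F291333 : act 6 n46783 = n43287 := (sb E27844 (iv6 D92519))
theorem F291334 : act 2 n46781 = n43464 := (sb E27845 (iv2 F142478))
theorem E29439 : n100251 = n43322 := ((D100251).symm.trans (sb E27845 F142475))
theorem F291335 : act 7 n46781 = n43469 := (sb E27845 F142480)
theorem F291336 : act 0 n20796 = n22442 := (sb E27846 (iv1 D46782))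
theorem E29440 : n100252 = n43897 := ((((iv3 F69017)).symm.trans (sb E27846 D100252))).symm
theorem E29443 : n47727 = n20540 := ((((iv0 D43444)).symm.trans (sb E27847 (iv0 F75003)))).symm
theorem F291337 : act 5 n43444 = n22442 := (sb E27847 (iv5 D46784))
theorem E29444 : n100260 = n92850 := (((D92850).symm.trans (sb E27847 D100260))).symm
theorem E29445 : n99333 = n92595 := ((((iv7 F142636)).symm.trans (sb E27847 (iv7 F152966)))).symm
theorem F291338 : act 0 n46446 = n43469 := (sb E27848 F142303)
theorem F291339 : act 1 n46446 = n43464 := (sb E27848 (iv0 F142304))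
theorem F291340 : act 7 n89081 = n90157 := (sb E27849 F142482)
theorem F291341 : act 7 n47476 = n90158 := (sb E27850 F142484)
theorem E29448 : n21392 = n20631 := (((iv0 F65783)).symm.trans (sb E27851 F135836))
theorem E29451 : n20612 = n10450 := ((((iv3 F16644)).symm.trans (sb E27853 (iv3 F32701)))).symm
theorem E29452 : n9208 = n4419 := (((iv6 F14377)).symm.trans (sb E27853 (iv6 D9773)))
theorem E29453 : n92987 = n22439 := ((((iv4 F34981)).symm.trans (sb E27854 (iv4 F143407)))).symm
theorem F291342 : act 0 n9758 = n4886 := (sb E27856 (iv1 F17126))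
theorem F291343 : act 1 n9758 = n4885 := (sb E27856 F17127)
theorem F291344 : act 7 n9758 = n4853 := (sb E27856 (iv7 D10608))
theorem F291345 : act 5 n2016 = n4405 := (sb E27857 (iv5 D9753))
theorem E29454 : n46841 = n22288 := ((((iv1 F66079)).symm.trans (sb E27858 (iv1 F74009)))).symm
theorem E29455 : n46838 = n4903 := (((F66059).symm.trans (sb E27858 (iv0 F73989)))).symm
theorem E29457 : n92986 = n22438 := (((D22438).symm.trans (sb E27858 D92986))).symm
theorem E29458 : n90852 = n22250 := ((((iv7 F35530)).symm.trans (sb E27858 (iv7 F139847)))).symm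
theorem F291346 : act 6 n10606 = n20134 := (sb E27859 F66380)
theorem E29462 : n21498 = n9254 := ((((iv2 F14452)).symm.trans (sb E27862 (iv2 F66768)))).symm
theorem F291347 : act 5 n4188 = n5047 := (sb E27862 (iv5 D11075))
theorem E29476 : n43757 = n19105 := (((D19105).symm.trans (sb E27867 F75924))).symm
theorem E29478 : n9821 = n4963 := (((E28900).symm.trans ((F15551).symm.trans (sb E27868 (iv6 D20726))))).symm
theorem F291348 : act 5 n8948 = n43065 := (sb E27869 D43065)
theorem E29482 : n41930 = n20701 := ((((iv3 F32825)).symm.trans (sb E27870 D41930))).symm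
theorem F291349 : act 4 n9812 = n9262 := (sb E27870 (iv4 D19741))
theorem E29483 : n20179 = n9549 := (((F15391).symm.trans (sb E27870 (iv6 F32005)))).symm
theorem E29484 : n9528 = n4631 := (((iv7 F30652)).symm.trans (sb E27871 (iv7 D10198)))
theorem E29485 : n11086 = n10029 := ((((iv3 F15851)).symm.trans (sb E27872 (iv3 F17965)))).symm
theorem E29488 : n23247 = n20701 := ((((iv3 F32825)).symm.trans (sb E27873 (iv3 F36336)))).symm
theorem E29490 : n10900 = n4432 := ((((iv5 D9812)).symm.trans (sb E27873 F17798))).symm
theorem E29491 : n9549 = n4992 := ((F15391).symm.trans (sb E27873 (iv6 D10957)))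
theorem F291350 : act 1 n43174 = n40440 := (sb E27876 F69277)
theorem F291351 : act 2 n43174 = n20946 := (sb E27876 F69273)
theorem E29493 : n94154 = n92325 := ((((iv3 F141979)).symm.trans (sb E27876 (iv3 F145129)))).symm
theorem F291352 : act 4 n43174 = n41821 := (sb E27876 F69274)
theorem E29494 : n92326 = n41302 := ((D92326).symm.trans (sb E27876 (iv5 F69275)))
theorem E29495 : n20901 = n20364 := ((((iv6 D43174)).symm.trans (sb E27876 (iv6 D44022)))).symm
theorem F291353 : act 7 n43174 = n87040 := (sb E27876 (iv7 F133609))
theorem E29496 : n89932 = n48162 := (((iv6 F138116)).symm.trans (sb E27877 F141855))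
theorem E29498 : n91307 = n42793 := (((F68705).symm.trans (sb E27880 (iv6 F140383)))).symm
theorem F291354 : act 2 n47477 = n90158 := (sb E27881 (iv2 F138610))
theorem E29499 : n47861 = n41777 := (((iv0 F75136)).symm.trans (sb E27882 (iv0 F70484)))
theorem E29500 : n90878 = n22669 := (((iv5 F139884)).symm.trans (sb E27882 (iv5 F70482)))
theorem F291355 : act 6 n42734 = n41742 := (sb E27882 F70481)
theorem E29501 : n42504 = n21395 := ((F66939).symm.trans (sb E27882 (iv7 D44872)))
theorem F291356 : act 0 n10196 = n9451 := (sb E27883 (iv1 D20063))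
theorem F291357 : act 1 n10196 = n9456 := (sb E27883 F31891)
theorem F291358 : act 7 n10196 = n20178 := (sb E27883 F35711)
theorem E29502 : n40509 = n4053 := ((((iv0 D9026)).symm.trans (sb E27884 (iv0 D87199)))).symm
theorem E29505 : n104302 = n45346 := (((D45346).symm.trans (sb E27885 (iv5 F159927)))).symm
theorem E29506 : n91285 = n45347 := (((D45347).symm.trans (sb E27885 F151253))).symm
theorem F291359 : act 2 n42104 = n22366 := (sb E27886 F73679)
theorem F291360 : act 3 n42104 = n42430 := (sb E27886 F73680)
theorem F291361 : act 5 n19721 = n10094 := (sb E27887 (iv5 D21186))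
theorem E29508 : n20868 = n10867 := (((iv6 F66181)).symm.trans (sb E27888 (iv6 D23047)))
theorem E29512 : n41902 = n19770 := ((((iv0 F63297)).symm.trans (sb E27890 F64638))).symm
theorem F291362 : act 5 n10190 = n9256 := (sb E27890 (iv5 D19730))
theorem E29515 : n20708 = n19813 := (((iv1 F66176)).symm.trans (sb E27891 F63323))
theorem E29516 : n47779 = n19191 := (((F63073).symm.trans (sb E27891 D47779))).symm
theorem F291363 : act 3 n19731 = n22366 := (sb E27891 F65953)
theorem E29517 : n20697 = n10850 := (((iv5 F63071)).symm.trans (sb E27891 (iv5 D22989)))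
theorem E29518 : n20869 = n10872 := (((iv7 F66187)).symm.trans (sb E27891 F63382))
theorem F291364 : act 5 n19718 = n19781 := (sb E27892 F66775)
theorem E29522 : n99899 = n95682 := (((D95682).symm.trans (sb E27894 F159865))).symm
theorem E29523 : n104301 = n45343 := ((((iv7 F71446)).symm.trans (sb E27895 F159924))).symm
theorem E29524 : n89868 = n42769 := (((iv1 F137950)).symm.trans (sb E27896 (iv1 F73725)))
theorem F291365 : act 4 n44691 = n22366 := (sb E27896 (iv4 D46654))
theorem E29525 : n87841 = n48087 := ((((iv5 F75555)).symm.trans (sb E27896 (iv5 F134810)))).symm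
theorem E29526 : n94094 = n47887 := (((iv7 F144991)).symm.trans (sb E27896 (iv7 F75189)))
theorem E29528 : n95720 = n48238 := ((((iv5 F75831)).symm.trans (sb E27898 (iv5 F147415)))).symm
theorem E29534 : n90183 = n41774 := (((D41774).symm.trans (sb E27903 (iv6 F138633)))).symm
theorem E29535 : n42115 = n38010 := ((((iv1 F67815)).symm.trans (sb E27904 (iv1 D90098)))).symm
theorem E29536 : n87955 = n42019 := ((((iv0 F70262)).symm.trans (sb E27907 F138278))).symm
theorem E29537 : n88401 = n45524 := ((((iv7 F71800)).symm.trans (sb E27907 F138279))).symm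
theorem E29538 : n95719 = n48239 := (((F134175).symm.trans (sb E27908 F159389))).symm
theorem E29540 : n93339 = n87024 := (((F135308).symm.trans (sb E27909 F158614))).symm
theorem F291366 : act 5 n46658 = n41734 := (sb E27911 (iv5 D89373))
theorem F291367 : act 7 n46658 = n43219 := (sb E27911 F137046)
theorem F291368 : act 1 n42762 = n44549 := (sb E27915 F76325)
theorem E29544 : n104906 = n91379 := (((D91379).symm.trans (sb E27915 D104906))).symm
theorem E29545 : n104873 = n41699 := (((F67005).symm.trans (sb E27915 (iv5 F160748)))).symm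
theorem F291369 : act 7 n42762 = n40474 := (sb E27915 F76326)
theorem E29546 : n90088 = n22704 := (((D22704).symm.trans (sb E27916 D90088))).symm
theorem F291370 : act 4 n10744 = n19855 := (sb E27916 (iv4 D42107))
theorem E29548 : n22706 = n19858 := ((D22706).symm.trans (sb E27916 F65024))
theorem F291371 : act 5 n19951 = n22906 := (sb E27917 (iv5 F70233))
theorem E29553 : n23161 = n19095 := (((D19095).symm.trans (sb E27919 (iv6 D47998)))).symm
theorem E29555 : n185619 = n45376 := (((D45376).symm.trans (sb E27920 (iv5 F287936)))).symm
theorem E29556 : n48198 = n45377 := (((D45377).symm.trans (sb E27920 (iv6 D104154)))).symm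
theorem E29566 : n20107 = n8560 := (((F14089).symm.trans (sb E27928 F66427))).symm
theorem E29567 : n88383 = n10324 := ((((iv4 F16423)).symm.trans (sb E27928 (iv4 F135365)))).symm
theorem E29568 : n44179 = n4051 := ((((iv5 D9022)).symm.trans (sb E27928 (iv5 F69520)))).symm
theorem E29569 : n20105 = n19199 := (((D19199).symm.trans (sb E27928 (iv6 D42592)))).symm
theorem E29575 : n90170 = n84633 := ((((iv2 F289785)).symm.trans (sb E27931 D90170))).symm
theorem F291372 : act 3 n39116 = n19889 := (sb E27931 (iv3 D42152))
theorem E29576 : n90171 = n84686 := (((D84686).symm.trans (sb E27931 D90171))).symm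
theorem E29577 : n84687 = n19897 := ((D84687).symm.trans (sb E27931 F65067))
theorem F291373 : act 1 n42153 = n46095 := (sb E27932 F72661)
theorem F291374 : act 2 n42153 = n22928 := (sb E27932 F72192)
theorem E29578 : n98008 = n90176 := (((D90176).symm.trans (sb E27932 D98008))).symm
theorem F291375 : act 7 n42153 = n22911 := (sb E27932 F72193)
theorem E29579 : n102678 = n92753 := ((D102678).symm.trans (sb E27933 (iv4 F143033)))
theorem E29580 : n22526 = n19896 := (((D19896).symm.trans (sb E27934 (iv0 F74110)))).symm
theorem E29581 : n46312 = n19898 := (((D19898).symm.trans (sb E27934 (iv5 F72970)))).symm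
theorem F291376 : act 1 n42660 = n22805 := (sb E27935 F74655)
theorem F291377 : act 2 n42660 = n22455 := (sb E27935 F73323)
theorem E29582 : n99329 = n91081 := (((D91081).symm.trans (sb E27935 (iv3 F152957)))).symm
theorem E29583 : n91082 = n89463 := ((D91082).symm.trans (sb E27935 (iv5 F137127)))
theorem F291378 : act 0 n23485 = n22805 := (sb E27936 F74653)
theorem E29584 : n48325 = n41170 := ((D48325).symm.trans (sb E27936 F70490))
theorem E29585 : n89464 = n48326 := (((D48326).symm.trans (sb E27936 F137132))).symm
theorem E29586 : n48327 = n21398 := ((D48327).symm.trans (sb E27936 (iv6 D44874)))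
theorem F291379 : act 7 n23485 = n22455 := (sb E27936 F70492)
theorem F291380 : act 6 n10195 = n11008 := (sb E27937 (iv6 D23486))
theorem E29588 : n47555 = n19893 := (((D19893).symm.trans (sb E27939 (iv4 F74763)))).symm
theorem E29590 : n19894 = n10795 := ((D19894).symm.trans (sb E27939 (iv6 D22853)))
theorem E29594 : n10567 = n4245 := (((D4245).symm.trans (sb E27941 F62640))).symm
theorem E29597 : n87036 = n47737 := (((iv1 F133596)).symm.trans (sb E27943 (iv1 D102942)))
theorem E29599 : n99395 = n90263 := ((((iv3 F138829)).symm.trans (sb E27944 D99395))).symm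
theorem E29601 : n90266 = n22582 := ((D90266).symm.trans (sb E27944 F73405))
theorem F291381 : act 7 n10707 = n19922 := (sb E27946 (iv7 D42194))
theorem E29606 : n9907 = n9288 := ((F15566).symm.trans (sb E27949 F17688))
theorem E29607 : n43065 = n4964 := ((F291348).symm.trans (sb E27949 (iv5 D10893)))
theorem E29620 : n4585 = n337 := ((((iv5 D635)).symm.trans (sb E27959 (iv5 F6656)))).symm
theorem E29625 : n21147 = n634 := (((F1170).symm.trans (sb E27961 (iv4 F33374)))).symm
theorem E29626 : n4584 = n979 := (((D979).symm.trans (sb E27961 (iv6 D10078)))).symm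
theorem E29627 : n4544 = n1832 := ((D4544).symm.trans (sb E27962 (iv5 D4337)))
theorem E29634 : n102707 = n43309 := ((D102707).symm.trans (sb E27967 F142529))
theorem E29635 : n10963 = n10358 := (((F34157).symm.trans (sb E27969 F35220))).symm
theorem E29636 : n43176 = n42460 := (((F65571).symm.trans (sb E27969 (iv4 F67622)))).symm
theorem F291382 : act 6 n102870 = n119068 := (sb E27970 F288229)
theorem F291383 : act 7 n102870 = n93018 := (sb E27970 F288228)
theorem F291384 : act 0 n102883 = n87037 := (sb E27971 (iv1 D182284))
theorem F291385 : act 1 n102883 = n90264 := (sb E27971 F283780)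
theorem F291386 : act 5 n102883 = n88536 := (sb E27971 F283782)
theorem F291387 : act 7 n102883 = n93026 := (sb E27971 F283781)
theorem F291388 : act 0 n102874 = n78889 := (sb E27972 (iv1 D164210))
theorem F291389 : act 3 n102874 = n119068 := (sb E27972 (iv3 F288207))
theorem E29639 : n99405 = n94400 := ((((iv2 F145562)).symm.trans (sb E27973 D99405))).symm
theorem E29640 : n91856 = n89923 := ((((iv4 F138090)).symm.trans (sb E27973 (iv4 F141213)))).symm
theorem F291390 : act 5 n90757 = n47120 := (sb E27975 (iv5 D101170))
theorem F291391 : act 7 n93826 = n89606 := (sb E27978 F288598)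
theorem E29650 : n48519 = n8938 := ((((iv3 D19078)).symm.trans (sb E27983 F160879))).symm
theorem E29651 : n48518 = n40370 := (((D40370).symm.trans (sb E27983 (iv6 D104983)))).symm
theorem E29655 : n102791 = n90103 := (((D90103).symm.trans (sb E27984 D102791))).symm
theorem E29659 : n18198 = n4812 := (((D4812).symm.trans (sb E27986 (iv6 D38015)))).symm
theorem E29660 : n22065 = n16720 := ((D22065).symm.trans (sb E27987 F32725))
theorem F291392 : act 0 n42119 = n41419 := (sb E27988 F74957)
theorem F291393 : act 1 n42119 = n41362 := (sb E27988 F74958)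
theorem E29661 : n90107 = n75292 := ((D90107).symm.trans (sb E27988 (iv4 F112890)))
theorem E29662 : n102793 = n90104 := ((((iv6 F138534)).symm.trans (sb E27988 D102793))).symm
theorem F291394 : act 7 n42119 = n41417 := (sb E27988 F74956)
theorem E29665 : n9578 = n994 := ((((iv4 D1943)).symm.trans (sb E27990 F32127))).symm
theorem E29667 : n9577 = n4691 := (((D4691).symm.trans (sb E27990 (iv6 D20258)))).symm
theorem E29669 : n184130 = n89890 := ((D184130).symm.trans (sb E27994 F147387))
theorem E29670 : n184131 = n103784 := ((D184131).symm.trans (sb E27994 (iv5 F159212)))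
theorem F291395 : act 6 n87826 = n44696 := (sb E27994 (iv6 D95698))
theorem F291396 : act 0 n20883 = n23241 := (sb E27995 F36332)
theorem F291397 : act 5 n20883 = n10164 := (sb E27995 (iv5 D21290))
theorem F291398 : act 7 n20883 = n21624 := (sb E27995 F63278)
theorem F291399 : act 1 n19287 = n10185 := (sb E27996 F63311)
theorem F291400 : act 6 n19287 = n10164 := (sb E27996 (iv6 D21291))
theorem E29673 : n41964 = n20197 := ((((iv7 F66086)).symm.trans (sb E27996 (iv7 F64738)))).symm
theorem E29674 : n91391 = n47991 := ((D91391).symm.trans (sb E27997 (iv5 F137934)))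
theorem F291401 : act 0 n21330 = n40940 := (sb E27998 (iv1 F67025))
theorem F291402 : act 1 n21330 = n20205 := (sb E27998 (iv0 D42770))
theorem F291403 : act 2 n21330 = n42730 := (sb E27998 F75184)
theorem E29675 : n91387 = n44789 := ((((iv3 F70363)).symm.trans (sb E27998 D91387))).symm
theorem F291404 : act 7 n21330 = n42729 := (sb E27998 F75182)
theorem E29677 : n91397 = n23187 := ((((iv1 F75508)).symm.trans (sb E27999 (iv1 F140567)))).symm
theorem E29678 : n88433 = n23184 := ((((iv0 D48051)).symm.trans (sb E27999 (iv0 F135422)))).symm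
theorem F291405 : act 2 n48051 = n42732 := (sb E27999 F134796)
theorem E29679 : n103785 = n91371 := ((D103785).symm.trans (sb E27999 (iv4 F140508)))
theorem F291406 : act 5 n48051 = n40940 := (sb E27999 (iv5 D87827))
theorem E29680 : n184132 = n103786 := (((D103786).symm.trans (sb E27999 D184132))).symm
theorem E29681 : n92938 = n91356 := (((iv7 F143317)).symm.trans (sb E27999 (iv7 F140468)))
theorem F291407 : act 6 n42753 = n41963 := (sb E28000 (iv6 D89831))
theorem E29687 : n9529 = n4202 := (((D4202).symm.trans (sb E28004 (iv6 D20185)))).symm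
theorem E29692 : n43742 = n9282 := (((F16107).symm.trans (sb E28005 F68769))).symm
theorem E29696 : n20211 = n19814 := (((D19814).symm.trans (sb E28006 (iv7 F32047)))).symm
theorem E29697 : n43821 = n9283 := (((D9283).symm.trans (sb E28007 F75922))).symm
theorem E29698 : n91394 = n89894 := ((((iv1 F138014)).symm.trans (sb E28008 (iv1 F140560)))).symm
theorem E29700 : n91393 = n89893 := (((D89893).symm.trans (sb E28010 (iv1 F140561)))).symm
theorem E29701 : n91392 = n21689 := (((F71718).symm.trans (sb E28010 F140557))).symm
theorem F291408 : act 3 n42016 = n42732 := (sb E28011 F140369)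
theorem F291409 : act 7 n42016 = n91395 := (sb E28011 (iv7 F140564))
theorem E29702 : n42772 = n20716 := (E28012).trans E28065
theorem E29703 : n42876 = n21689 := (((iv1 F70666)).symm.trans (sb E29702 (tr D91392 E29701)))
theorem E29704 : n89893 = n43734 := (((D43734).symm.trans (sb E29702 (tr D91393 E29700)))).symm
theorem E29705 : n89894 = n41058 := (((F66335).symm.trans (sb E29702 (tr D91394 E29698)))).symm
theorem E29706 : n43735 = n20205 := ((D43735).symm.trans (sb E29702 (iv3 D42772)))
theorem E29707 : n19814 = n9817 := ((((iv4 D20716)).symm.trans (sb E29702 (tr F67027 E29696)))).symm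
theorem E29708 : n91395 = n43736 := (((D43736).symm.trans (sb E29702 D91395))).symm
theorem F291410 : act 5 n4203 = n2057 := (sb E28018 (iv5 D5008))
theorem F291411 : act 5 n4501 = n4200 := (sb E28019 (iv5 D9307))
theorem F291412 : act 6 n4304 = n4200 := (sb E28020 (iv6 D9308))
theorem F291413 : act 1 n20889 = n21624 := (sb E28022 (iv0 F36121))
theorem F291414 : act 5 n20889 = n10873 := (sb E28022 (iv5 D23065))
theorem F291415 : act 7 n20889 = n23241 := (sb E28022 F36331)
theorem E29722 : n89944 = n21825 := ((((iv3 F34282)).symm.trans (sb E28023 D89944))).symm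
theorem E29724 : n43213 = n9904 := ((((iv6 D20887)).symm.trans (sb E28023 (iv6 F67669)))).symm
theorem F291416 : act 7 n20887 = n41991 := (sb E28023 F64898)
theorem E29726 : n43214 = n4328 := (E28817).trans E28911
theorem E29727 : n20380 = n4494 := (((F14884).symm.trans (sb E28024 (iv7 F32358)))).symm
theorem F291417 : act 0 n19786 = n19090 := (sb E28025 F66190)
theorem F291418 : act 7 n19786 = n9905 := (sb E28025 (iv7 D20890))
theorem E29728 : n44835 = n42726 := (((D42726).symm.trans (sb E28026 (iv4 F70415)))).symm
theorem E29729 : n21055 = n10928 := ((F66131).symm.trans (sb E28026 F63418))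
theorem F291419 : act 7 n20172 = n10185 := (sb E28026 (iv7 D21365))
theorem F291420 : act 2 n20173 = n10185 := (sb E28027 F63373)
theorem E29730 : n44632 = n42728 := (((D42728).symm.trans (sb E28027 (iv4 F70180)))).symm
theorem F291421 : act 0 n9538 = n10185 := (sb E28029 F63235)
theorem F291422 : act 4 n91291 = n100563 := (sb E28031 F154635)
theorem F291423 : act 5 n91291 = n48063 := (sb E28031 F147604)
theorem F291424 : act 5 n23189 = n42729 := (sb E28032 (iv5 D91292))
theorem F291425 : act 5 n23190 = n42730 := (sb E28033 (iv5 D91295))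
theorem F291426 : act 1 n47990 = n42732 := (sb E28034 (iv0 D91301))
theorem E29735 : n103615 = n99898 := ((D103615).symm.trans (sb E28034 (iv4 F153819)))
theorem F291427 : act 0 n43478 = n42732 := (sb E28035 F73752)
theorem E29738 : n99908 = n92939 := (((D92939).symm.trans (sb E28035 D99908))).symm
theorem E29741 : n103788 = n91399 := (((D91399).symm.trans (sb E28036 D103788))).symm
theorem F291428 : act 6 n19778 = n20205 := (sb E28037 (iv6 D42774))
theorem F291429 : act 0 n45354 = n41785 := (sb E28041 (iv1 D89493))
theorem F291430 : act 1 n45354 = n44000 := (sb E28041 F137175)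
theorem E29745 : n101237 = n97021 := (((D97021).symm.trans (sb E28041 (iv5 F155963)))).symm
theorem E29746 : n87436 = n47875 := ((((iv6 F75156)).symm.trans (sb E28041 (iv6 F137178)))).symm
theorem F291431 : act 7 n45354 = n43992 := (sb E28041 F137176)
theorem E29748 : n41271 = n21734 := ((((iv4 F34180)).symm.trans (sb E28043 (iv4 F63594)))).symm
theorem E29749 : n19417 = n11042 := (((F63241).symm.trans (sb E28043 (iv5 F31079)))).symm
theorem E29750 : n9108 = n4693 := ((((iv6 D10363)).symm.trans (sb E28043 (iv6 D19414)))).symm
theorem E29751 : n90010 = n41980 := (((D41980).symm.trans (sb E28044 (iv4 F138286)))).symm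
theorem E29754 : n21526 = n20278 := ((F33864).symm.trans (sb E28048 (iv0 F32170)))
theorem F291432 : act 5 n95825 = n87746 := (sb E28050 (iv5 D183931))
theorem E29756 : n101238 = n97145 := (((iv2 F155965)).symm.trans (sb E28051 (iv2 F149876)))
theorem F291433 : act 5 n47190 = n44748 := (sb E28051 (iv5 D95827))
theorem E29757 : n182431 = n101243 := ((((iv7 F155978)).symm.trans (sb E28051 F283975))).symm
theorem E29758 : n88442 = n41972 := ((((iv1 F64811)).symm.trans (sb E28052 (iv1 D185670)))).symm
theorem E29759 : n93484 = n89890 := ((((iv3 F137996)).symm.trans (sb E28053 D93484))).symm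
theorem E29772 : n93493 = n89924 := (((D89924).symm.trans (sb E28064 D93493))).symm
theorem F291434 : act 7 n20716 = n19807 := (sb E28065 (iv7 D42017))
theorem E29780 : n42864 = n21522 := (((D21522).symm.trans (sb E28072 (iv6 D91681)))).symm
theorem E29781 : n19248 = n992 := ((((iv5 D1935)).symm.trans (sb E28073 F32121))).symm
theorem E29782 : n9571 = n4663 := (((D4663).symm.trans (sb E28073 (iv6 D20251)))).symm
theorem E29783 : n42865 = n21525 := (((D21525).symm.trans (sb E28075 D42865))).symm
theorem F291435 : act 7 n89598 = n90469 := (sb E28076 F140119)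
theorem E29784 : n42553 = n10663 := (((F65667).symm.trans (sb E28077 (iv0 D90848)))).symm
theorem E29785 : n93047 = n42517 := (((D42517).symm.trans (sb E28077 (iv5 F143514)))).symm
theorem F291436 : act 0 n42677 = n22455 := (sb E28079 F72141)
theorem F291437 : act 2 n42677 = n22805 := (sb E28079 F72138)
theorem E29786 : n97972 = n91132 := ((((iv3 F140165)).symm.trans (sb E28079 (iv3 F151006)))).symm
theorem F291438 : act 4 n42677 = n23386 := (sb E28079 F72139)
theorem E29787 : n91139 = n41779 := (((iv5 F140174)).symm.trans (sb E28079 F72140))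
theorem F291439 : act 6 n42677 = n21858 := (sb E28079 (iv6 D45730))
theorem E29788 : n23068 = n20581 := ((((iv6 F62773)).symm.trans (sb E28082 F62982))).symm
theorem F291440 : act 7 n88877 = n93060 := (sb E28083 F143542)
theorem E29792 : n19892 = n10568 := ((((iv0 F34631)).symm.trans (sb E28088 (iv0 F31899)))).symm
theorem E29793 : n42540 = n41492 := (((D41492).symm.trans (sb E28088 (iv4 F66011)))).symm
theorem F291441 : act 6 n19534 = n9456 := (sb E28088 (iv6 D20081))
theorem E29795 : n2049 = n1823 := (((D1823).symm.trans (sb E28089 (iv5 D4982)))).symm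
theorem E29798 : n46936 = n9446 := (((D9446).symm.trans (sb E28090 D46936))).symm
theorem E29800 : n10616 = n9458 := (((D9458).symm.trans (sb E28091 (iv1 F17147)))).symm
theorem E29801 : n9459 = n2021 := ((D9459).symm.trans (sb E28091 (iv0 D4895)))
theorem E29802 : n10698 = n9460 := (((D9460).symm.trans (sb E28091 D10698))).symm
theorem F291442 : act 7 n4285 = n4985 := (sb E28091 F62705)
theorem E29806 : n42248 = n10703 := (((D10703).symm.trans (sb E28094 (iv4 F65252)))).symm
theorem F291443 : act 5 n4896 = n9403 := (sb E28094 F31772)
theorem F291444 : act 7 n4896 = n9402 := (sb E28094 (iv7 D19943))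
theorem F291445 : act 2 n20080 = n41813 := (sb E28096 F70505)
theorem E29807 : n46901 = n42539 := (((D42539).symm.trans (sb E28096 F74114))).symm
theorem F291446 : act 7 n20080 = n41854 := (sb E28096 F70507)
theorem F291447 : act 0 n10865 = n20584 := (sb E28097 (iv1 D43514))
theorem E29808 : n87867 = n9082 := (((F17183).symm.trans (sb E28098 D87867))).symm
theorem E29809 : n22353 = n19302 := ((D22353).symm.trans (sb E28098 (iv5 D40987)))
theorem E29810 : n46150 = n20413 := ((((iv0 F62960)).symm.trans (sb E28099 (iv0 F72790)))).symm
theorem E29811 : n42169 = n10692 := ((((iv4 D22524)).symm.trans (sb E28099 (iv4 F67705)))).symm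
theorem F291448 : act 5 n22524 = n20385 := (sb E28099 (iv5 D43221))
theorem F291449 : act 2 n90410 = n46969 := (sb E28101 F153115)
theorem E29815 : n46922 = n42462 := (((F139146).symm.trans (sb E28101 F153116))).symm
theorem F291450 : act 0 n22587 = n42275 := (sb E28102 (iv1 D90411))
theorem F291451 : act 1 n22587 = n42486 := (sb E28102 F139153)
theorem F291452 : act 2 n22587 = n44127 := (sb E28102 (iv2 F139155))
theorem E29816 : n46967 = n42463 := ((D46967).symm.trans (sb E28102 (iv4 F139156)))
theorem E29817 : n99509 = n90314 := (((F139157).symm.trans (sb E28104 F154630))).symm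
theorem E29818 : n101180 = n90317 := (((F139158).symm.trans (sb E28104 F155883))).symm
theorem F291453 : act 5 n90412 = n46910 := (sb E28104 (iv5 D100555))
theorem E29820 : n99287 = n93027 := (((D93027).symm.trans (sb E28108 (iv1 F152858)))).symm
theorem E29821 : n93028 = n41012 := ((D93028).symm.trans (sb E28108 (iv0 F73287)))
theorem E29822 : n99289 = n93029 := (((D93029).symm.trans (sb E28108 (iv2 F152869)))).symm
theorem F291454 : act 4 n43526 = n42485 := (sb E28108 F73285)
theorem E29823 : n99302 = n93030 := (((D93030).symm.trans (sb E28108 (iv5 F152906)))).symm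
theorem E29824 : n90350 = n22517 := (((iv6 F139030)).symm.trans (sb E28108 F73286))
theorem E29825 : n92628 = n22238 := (((iv7 F142726)).symm.trans (sb E28108 (iv7 D46432)))
theorem F291455 : act 6 n10685 = n20584 := (sb E28112 F63051)
theorem F291456 : act 5 n90736 = n46902 := (sb E28113 (iv5 D100534))
theorem E29834 : n100203 = n92952 := (((D92952).symm.trans (sb E28115 (iv4 F154148)))).symm
theorem F291457 : act 5 n90760 = n47119 := (sb E28117 (iv5 D101167))
theorem F291458 : act 0 n42752 = n40474 := (sb E28124 F70811)
theorem E29843 : n96410 = n91351 := ((((iv3 F140450)).symm.trans (sb E28124 D96410))).symm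
theorem F291459 : act 7 n42752 = n44549 := (sb E28124 F70810)
theorem F291460 : act 0 n23658 = n22702 := (sb E28125 F70675)
theorem E29845 : n48345 = n22768 := (((iv3 F75996)).symm.trans (sb E28125 F67006))
theorem E29846 : n48489 = n20867 := ((D48489).symm.trans (sb E28125 F67008))
theorem F291461 : act 7 n23658 = n20202 := (sb E28125 (iv7 D42764))
theorem E29847 : n96409 = n41684 := (((F74478).symm.trans (sb E28126 (iv1 F160443)))).symm
theorem E29848 : n48429 = n41701 := (((F74479).symm.trans (sb E28126 (iv0 D104736)))).symm
theorem E29849 : n103685 = n101398 := (((D101398).symm.trans (sb E28126 (iv4 F160444)))).symm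
theorem E29852 : n182416 = n101187 := ((((iv2 F290173)).symm.trans (sb E28127 (iv2 F283961)))).symm
theorem F291462 : act 6 n47146 = n40469 := (sb E28127 (iv6 D87100))
theorem F291463 : act 0 n44551 = n42779 := (sb E28129 (iv1 F140597))
theorem E29854 : n95383 = n45812 := ((D95383).symm.trans (sb E28129 (iv6 F140599)))
theorem F291464 : act 6 n21910 = n42270 := (sb E28130 (iv6 D90409))
theorem F291465 : act 3 n41247 = n42151 := (sb E28132 (iv3 D90165))
theorem F291466 : act 5 n89537 = n42151 := (sb E28133 (iv5 D90166))
theorem F291467 : act 6 n22339 = n42151 := (sb E28134 (iv6 D90167))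
theorem E29860 : n97974 = n94246 := (((iv2 F151013)).symm.trans (sb E28138 (iv2 F145320)))
theorem F291468 : act 5 n47478 = n43877 := (sb E28138 (iv5 D93866))
theorem E29861 : n123589 = n102314 := (((D102314).symm.trans (sb E28138 (iv6 F198003)))).symm
theorem E29862 : n97981 = n91111 := (((iv7 F151030)).symm.trans (sb E28138 (iv7 F144686)))
theorem F291469 : act 5 n90441 = n88789 := (sb E28142 (iv5 D186410))
theorem E29864 : n186005 = n104411 := ((F288562).symm.trans (sb E28146 (iv0 F160069)))
theorem F291470 : act 5 n89482 = n42300 := (sb E28146 (iv5 D90453))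
theorem E29865 : n186002 = n91079 := (((iv7 F288554)).symm.trans (sb E28146 F140126))
theorem F291471 : act 7 n42658 = n46021 := (sb E28147 F136465)
theorem E29867 : n100387 = n43307 := ((D100387).symm.trans (sb E28151 F142513))
theorem E29868 : n98919 = n43305 := (((D43305).symm.trans (sb E28152 (iv1 F152468)))).symm
theorem E29869 : n90619 = n43306 := (((D43306).symm.trans (sb E28152 (iv0 F139515)))).symm
theorem E29870 : n102702 = n43308 := (((D43308).symm.trans (sb E28152 D102702))).symm
theorem F291472 : act 6 n20448 = n22927 := (sb E28152 (iv6 D47636))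
theorem F291473 : act 0 n90475 = n100026 := (sb E28153 (iv1 F290026))
theorem F291474 : act 1 n90475 = n99979 := (sb E28153 F290027)
theorem F291475 : act 5 n90475 = n122407 := (sb E28153 (iv5 F290028))
theorem F291476 : act 7 n90475 = n84682 := (sb E28153 (iv7 D177871))
theorem E29871 : n100438 = n91051 := (((D91051).symm.trans (sb E28154 (iv3 F154493)))).symm
theorem E29872 : n91052 = n90617 := ((D91052).symm.trans (sb E28154 (iv4 F139505)))
theorem E29873 : n98871 = n91053 := (((D91053).symm.trans (sb E28154 F152428))).symm
theorem E29874 : n91054 = n22514 := ((D91054).symm.trans (sb E28154 (iv6 D46873)))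
theorem E29875 : n91055 = n41253 := ((D91055).symm.trans (sb E28155 (iv3 D88370)))
theorem E29876 : n89673 = n88545 := (((iv4 F137505)).symm.trans (sb E28155 (iv4 F135602)))
theorem E29877 : n98870 = n91056 := (((D91056).symm.trans (sb E28155 (iv5 F152421)))).symm
theorem E29878 : n91057 = n47603 := ((D91057).symm.trans (sb E28155 F135329))
theorem E29879 : n91060 = n46284 := ((D91060).symm.trans (sb E28156 (iv1 D98906)))
theorem E29880 : n91061 = n46286 := ((D91061).symm.trans (sb E28156 F152461))
theorem F291477 : act 1 n21195 = n40915 := (sb E28158 (iv0 F134012))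
theorem E29881 : n91406 = n44553 := (((D44553).symm.trans (sb E28158 D91406))).symm
theorem E29882 : n87350 = n44554 := (((D44554).symm.trans (sb E28158 (iv5 F134105)))).symm
theorem E29883 : n91407 = n10108 := (((F33429).symm.trans (sb E28158 D91407))).symm
theorem E29885 : n103340 = n89694 := (((F137634).symm.trans (sb E28160 (iv1 F158595)))).symm
theorem E29886 : n104726 = n89692 := ((((iv0 F137627)).symm.trans (sb E28160 (iv0 F160430)))).symm
theorem E29889 : n103892 = n40914 := (((D40914).symm.trans (sb E28161 D103892))).symm
theorem F291478 : act 0 n43856 = n48120 := (sb E28162 F75615)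
theorem F291479 : act 1 n43856 = n46660 := (sb E28162 F73737)
theorem F291480 : act 2 n43856 = n45791 := (sb E28162 (iv2 F72276))
theorem F291481 : act 5 n43856 = n21271 := (sb E28162 (iv5 D44667))
theorem F291482 : act 7 n43856 = n41844 := (sb E28162 F70226)
theorem E29892 : n89695 = n41986 := ((((iv1 F71538)).symm.trans (sb E28163 F153824))).symm
theorem F291483 : act 4 n45374 = n46660 := (sb E28163 (iv4 D99902))
theorem F291484 : act 0 n22371 = n20817 := (sb E28165 (iv1 D43934))
theorem E29895 : n46657 = n44833 := ((D46657).symm.trans (sb E28165 (iv4 F70414)))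
theorem F291485 : act 7 n22371 = n42104 := (sb E28165 (iv7 F71463))
theorem F291486 : act 5 n22351 = n42104 := (sb E28166 F134851)
theorem E29897 : n90303 = n46951 := (((iv1 F138907)).symm.trans (sb E28168 (iv1 F154746)))
theorem E29898 : n87043 = n46947 := (((iv0 F133617)).symm.trans (sb E28168 (iv0 D100656)))
theorem F291487 : act 3 n41735 = n46658 := (sb E28171 (iv3 F74967))
theorem F291488 : act 6 n41735 = n46655 := (sb E28171 F74966)
theorem F291489 : act 1 n46118 = n42734 := (sb E28172 (iv0 D91306))
theorem F291490 : act 4 n46118 = n46655 := (sb E28172 F140377)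
theorem E29903 : n104296 = n95317 := ((D104296).symm.trans (sb E28173 F161615))
theorem F291491 : act 4 n48270 = n90667 := (sb E28173 F147722)
theorem E29904 : n104300 = n44839 := ((D104300).symm.trans (sb E28173 (iv6 D96097)))
theorem F291492 : act 6 n21359 = n23421 := (sb E28175 (iv6 D48272))
theorem E29906 : n91384 = n44842 := (((iv6 F140534)).symm.trans (sb E28176 F138143))
theorem E29907 : n21046 = n10906 := (((F33559).symm.trans (sb E28177 F67017))).symm
theorem E29908 : n20220 = n10931 := ((((iv0 F33560)).symm.trans (sb E28177 (iv0 F67015)))).symm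
theorem F291493 : act 6 n21364 = n20888 := (sb E28177 (iv6 F67016))
theorem F291494 : act 4 n93079 = n94121 := (sb E28180 F289477)
theorem F291495 : act 5 n93079 = n97983 := (sb E28180 F289478)
theorem E29912 : n89413 = n43551 := ((((iv6 D93079)).symm.trans (sb E28180 F289479))).symm
theorem F291496 : act 7 n93079 = n88851 := (sb E28180 (iv7 D186550))
theorem F291497 : act 5 n45734 = n43553 := (sb E28181 (iv5 D93081))
theorem E29913 : n47933 = n43552 := (((D43552).symm.trans (sb E28182 (iv5 F75257)))).symm
theorem F291498 : act 4 n46820 = n41835 := (sb E28184 (iv4 D89581))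
theorem F291499 : act 5 n23234 = n42520 := (sb E28185 (iv5 F66362))
theorem E29917 : n4431 = n2043 := (((F3331).symm.trans (sb E28188 F15295))).symm
theorem E29918 : n104468 = n41172 := (((F62472).symm.trans (sb E28189 D104468))).symm
theorem E29920 : n104470 = n41050 := (((F62474).symm.trans (sb E28189 D104470))).symm
theorem E29923 : n104472 = n100269 := (((D100269).symm.trans (sb E28190 D104472))).symm
theorem F291500 : act 0 n90463 = n97959 := (sb E28192 (iv1 F285542))
theorem F291501 : act 1 n90463 = n183763 := (sb E28192 F285541)
theorem F291502 : act 2 n90463 = n88328 := (sb E28192 F152102)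
theorem F291503 : act 6 n90463 = n46120 := (sb E28192 (iv6 D98663))
theorem F291504 : act 6 n22041 = n42333 := (sb E28194 (iv6 D90465))
theorem E29927 : n100670 = n42384 := ((D100670).symm.trans (sb E28195 F139234))
theorem F291505 : act 5 n2058 = n1793 := (sb E28197 (iv5 D4206))
theorem F291506 : act 6 n2058 = n1794 := (sb E28197 F6106)
theorem E29929 : n41868 = n23477 := (((D23477).symm.trans (sb E28198 D41868))).symm
theorem F291507 : act 6 n11003 = n9253 := (sb E28198 F31451)
theorem E29931 : n91098 = n44537 := (((D44537).symm.trans (sb E28200 (iv3 F140146)))).symm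
theorem E29932 : n98064 = n44538 := (((D44538).symm.trans (sb E28200 D98064))).symm
theorem E29933 : n91103 = n22592 := ((D91103).symm.trans (sb E28201 F289634))
theorem E29934 : n97977 = n91104 := (((D91104).symm.trans (sb E28201 D97977))).symm
theorem E29935 : n97978 = n91095 := ((((iv2 F140143)).symm.trans (sb E28201 D97978))).symm
theorem E29936 : n97979 = n91105 := (((D91105).symm.trans (sb E28201 D97979))).symm
theorem F291508 : act 1 n42668 = n44883 := (sb E28202 F72146)
theorem E29938 : n97982 = n91109 := ((((iv6 F140152)).symm.trans (sb E28202 D97982))).symm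
theorem E29939 : n45629 = n20137 := (((D20137).symm.trans (sb E28203 (iv5 F72148)))).symm
theorem E29940 : n46327 = n20446 := ((((iv4 F32489)).symm.trans (sb E28204 F135196))).symm
theorem E29942 : n42116 = n41205 := ((D42116).symm.trans (sb E28204 (iv6 D88287)))
theorem E29943 : n46331 = n20447 := ((((iv4 F32495)).symm.trans (sb E28205 (iv4 F72987)))).symm
theorem F291509 : act 6 n19475 = n20457 := (sb E28205 (iv6 D43327))
theorem E29950 : n47639 = n20449 := (((D20449).symm.trans (sb E28208 D47639))).symm
theorem F291510 : act 6 n9710 = n10825 := (sb E28208 (iv6 D22929))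
theorem E29957 : n45035 = n9097 := (((D9097).symm.trans (sb E28213 F76417))).symm
theorem E29962 : n21007 = n3833 := (((F6469).symm.trans (sb E28218 (iv1 D44181)))).symm
theorem E29964 : n44211 = n1968 := ((((iv4 F3286)).symm.trans (sb E28218 F73127))).symm
theorem F291511 : act 2 n45358 = n23388 := (sb E28220 (iv2 F74837))
theorem E29966 : n97028 = n22881 := ((D97028).symm.trans (sb E28220 (iv3 D47581)))
theorem E29967 : n102583 = n97029 := (((D97029).symm.trans (sb E28220 D102583))).symm
theorem E29968 : n97030 = n40861 := ((D97030).symm.trans (sb E28220 F74834))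
theorem F291512 : act 7 n45358 = n23317 := (sb E28220 F74835)
theorem F291513 : act 6 n21882 = n42106 := (sb E28221 (iv6 D90087))
theorem F291514 : act 5 n10682 = n10716 := (sb E28235 (iv5 D22610))
theorem F291515 : act 6 n10682 = n16721 := (sb E28235 F35147)
theorem E29987 : n18463 = n10514 := ((D18463).symm.trans (sb E28237 (iv5 D22080)))
theorem F291516 : act 5 n8683 = n10515 := (sb E28238 (iv5 D22085))
theorem F291517 : act 5 n102673 = n72858 := (sb E28240 (iv5 D153949))
theorem F291518 : act 0 n19701 = n20407 := (sb E28245 (iv1 D43255))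
theorem F291519 : act 1 n19701 = n20844 := (sb E28245 F67798)
theorem F291520 : act 2 n19701 = n20847 := (sb E28245 F67802)
theorem F291521 : act 6 n19701 = n20596 := (sb E28245 (iv6 F67801))
theorem F291522 : act 7 n19701 = n20773 := (sb E28245 F67799)
theorem F291523 : act 5 n88683 = n92746 := (sb E28246 F145570)
theorem E29995 : n48601 = n42501 := (((iv3 F137590)).symm.trans (sb E28248 (iv3 D90768)))
theorem E29996 : n94089 = n91150 := ((((iv4 F140198)).symm.trans (sb E28248 (iv4 F144974)))).symm
theorem E29997 : n186048 = n94021 := ((D186048).symm.trans (sb E28248 (iv5 F144851)))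
theorem E29998 : n186049 = n93025 := ((D186049).symm.trans (sb E28248 (iv6 F143471)))
theorem E29999 : n92554 = n46329 := ((D92554).symm.trans (sb E28249 (iv5 D99039)))
theorem E30000 : n92555 = n46466 := ((D92555).symm.trans (sb E28249 (iv6 F152568)))
theorem E30003 : n99341 = n92621 := (((D92621).symm.trans (sb E28250 D99341))).symm
theorem F291524 : act 6 n43329 = n41361 := (sb E28250 F73342)
theorem F291525 : act 5 n9713 = n4853 := (sb E28252 (iv5 D10607))
theorem F291526 : act 6 n9713 = n9150 := (sb E28252 F17122)
theorem E30005 : n94389 = n90993 := ((((iv3 F140027)).symm.trans (sb E28253 (iv3 F145544)))).symm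
theorem E30006 : n94390 = n75291 := ((((iv4 F112886)).symm.trans (sb E28253 D94390))).symm
theorem E30007 : n94391 = n90995 := (((D90995).symm.trans (sb E28253 D94391))).symm
theorem F291527 : act 7 n42622 = n22075 := (sb E28253 F69459)
theorem E30008 : n43128 = n20949 := ((((iv1 D44102)).symm.trans (sb E28254 F113697))).symm
theorem E30009 : n94163 = n43101 := ((F145151).symm.trans (sb E28254 F113698))
theorem F291528 : act 2 n44102 = n38878 := (sb E28254 F113694)
theorem E30010 : n158880 = n94360 := (((D94360).symm.trans (sb E28254 (iv3 F250160)))).symm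
theorem F291529 : act 4 n44102 = n41362 := (sb E28254 F113696)
theorem E30011 : n94361 = n34667 := ((D94361).symm.trans (sb E28254 (iv5 D75811)))
theorem E30012 : n158882 = n94362 := (((D94362).symm.trans (sb E28254 D158882))).symm
theorem F291530 : act 7 n44102 = n38875 := (sb E28254 F113695)
theorem E30013 : n181889 = n103309 := ((F288940).symm.trans (sb E28255 (iv4 F251864)))
theorem E30014 : n186182 = n42279 := ((D186182).symm.trans (sb E28255 (iv6 D90421)))
theorem E30015 : n103676 = n88435 := (((D88435).symm.trans (sb E28256 (iv0 F251726)))).symm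
theorem E30016 : n96569 = n88437 := (((D88437).symm.trans (sb E28256 (iv5 F160386)))).symm
theorem E30017 : n88438 = n48407 := ((D88438).symm.trans (sb E28256 (iv6 D104699)))
theorem E30018 : n186210 = n94393 := (((iv1 F288990)).symm.trans (sb E28257 (iv1 F178348)))
theorem E30019 : n186209 = n52120 := ((F288989).symm.trans (sb E28257 (iv0 D112916)))
theorem E30020 : n186175 = n113009 := (((iv2 F288921)).symm.trans (sb E28257 F205524))
theorem E30023 : n186176 = n185823 := (((D185823).symm.trans (sb E28258 (iv2 F288926)))).symm
theorem F291531 : act 6 n88501 = n41415 := (sb E28258 (iv6 D88713))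
theorem F291532 : act 2 n44101 = n38875 := (sb E28261 F113702)
theorem E30026 : n158889 = n94357 := (((D94357).symm.trans (sb E28261 (iv3 F250178)))).symm
theorem F291533 : act 4 n44101 = n41419 := (sb E28261 F113703)
theorem E30027 : n94358 = n34668 := ((D94358).symm.trans (sb E28261 (iv5 D75814)))
theorem E30028 : n158891 = n94359 := (((D94359).symm.trans (sb E28261 D158891))).symm
theorem F291534 : act 7 n44101 = n38878 := (sb E28261 F113704)
theorem E30029 : n94021 = n88785 := (((D88785).symm.trans (sb E28262 (iv0 F160081)))).symm
theorem E30030 : n44026 = n19519 := ((((iv5 D41449)).symm.trans (sb E28262 (iv5 D94165)))).symm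
theorem F291535 : act 7 n41449 = n44141 := (sb E28262 F145156)
theorem F291536 : act 1 n9190 = n10513 := (sb E28264 F62887)
theorem F291537 : act 2 n9190 = n9955 := (sb E28264 F35908)
theorem E30032 : n9939 = n4146 := ((((iv4 D9190)).symm.trans (sb E28264 (iv4 D20906)))).symm
theorem F291538 : act 7 n9190 = n9960 := (sb E28264 F35909)
theorem F291539 : act 2 n41453 = n44125 := (sb E28265 F145163)
theorem F291540 : act 6 n89650 = n112939 := (sb E28266 (iv6 F205522))
theorem F291541 : act 7 n89650 = n44120 := (sb E28266 F145193)
theorem F291542 : act 2 n89652 = n44144 := (sb E28268 F145198)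
theorem F291543 : act 3 n89652 = n112939 := (sb E28268 F205523)
theorem F291544 : act 5 n89652 = n102575 := (sb E28268 (iv5 F157535))
theorem F291545 : act 0 n95378 = n99579 := (sb E28277 (iv1 F284792))
theorem F291546 : act 1 n95378 = n99650 := (sb E28277 (iv0 F284793))
theorem F291547 : act 2 n95378 = n47553 := (sb E28277 (iv2 D102522))
theorem F291548 : act 6 n95378 = n87437 := (sb E28277 (iv6 F157456))
theorem F291549 : act 6 n40653 = n44549 := (sb E28279 (iv6 D95380))
theorem E30044 : n103886 = n40937 := ((((iv7 F62296)).symm.trans (sb E28279 (iv7 F159312)))).symm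
theorem E30050 : n104907 = n91380 := (((D91380).symm.trans (sb E28281 D104907))).symm
theorem E30052 : n87869 = n20200 := (((D20200).symm.trans (sb E28282 (iv0 F134865)))).symm
theorem F291550 : act 2 n87110 = n41698 := (sb E28283 (iv2 F136925))
theorem E30054 : n182964 = n182453 := (((D182453).symm.trans (sb E28283 (iv4 F284563)))).symm
theorem E30055 : n20661 = n8977 := ((((iv1 D19128)).symm.trans (sb E28284 (iv1 D43667)))).symm
theorem E30056 : n88330 = n21507 := ((((iv0 F33819)).symm.trans (sb E28284 (iv0 F135256)))).symm
theorem E30057 : n93359 = n40472 := (((D40472).symm.trans (sb E28284 D93359))).symm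
theorem E30058 : n44262 = n40473 := (((D40473).symm.trans (sb E28284 F69715))).symm
theorem F291551 : act 4 n89210 = n104804 := (sb E28285 (iv4 F160628))
theorem E30060 : n104874 = n41700 := (((D41700).symm.trans (sb E28286 D104874))).symm
theorem E30062 : n93329 = n40448 := (((D40448).symm.trans (sb E28287 (iv3 F143925)))).symm
theorem E30064 : n88902 = n40449 := (((D40449).symm.trans (sb E28287 F136405))).symm
theorem E30065 : n22995 = n20655 := (((iv6 F36055)).symm.trans (sb E28287 (iv6 D43656)))
theorem E30066 : n23683 = n21398 := ((D23683).symm.trans (sb E28288 F68624))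
theorem E30068 : n41170 = n23685 := (((D23685).symm.trans (sb E28288 F68626))).symm
theorem E30069 : n44255 = n40500 := (((iv1 F69707)).symm.trans (sb E28289 (iv1 F76372)))
theorem E30070 : n23673 = n21081 := ((((iv0 D44292)).symm.trans (sb E28289 (iv0 D48524)))).symm
theorem E30071 : n104995 = n94801 := (((D94801).symm.trans (sb E28289 D104995))).symm
theorem E30072 : n94802 = n86361 := ((D94802).symm.trans (sb E28289 (iv4 F132354)))
theorem F291552 : act 5 n44292 = n23682 := (sb E28289 F76370)
theorem E30074 : n44261 = n40470 := ((F69713).symm.trans (sb E28289 F76373))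
theorem E30075 : n181890 = n92702 := ((((iv1 F251871)).symm.trans (sb E28291 (iv1 F288900)))).symm
theorem E30076 : n181894 = n94033 := (((F144869).symm.trans (sb E28291 F283194))).symm
theorem E30077 : n48602 = n42496 := (((F139677).symm.trans (sb E28291 (iv2 D105112)))).symm
theorem E30078 : n186156 = n94035 := ((((iv7 F144870)).symm.trans (sb E28291 (iv7 F288898)))).symm
theorem F291553 : act 2 n96471 = n46745 := (sb E28292 F154077)
theorem E30079 : n87885 = n45043 := ((((iv3 D96471)).symm.trans (sb E28292 F154078))).symm
theorem F291554 : act 4 n96471 = n94059 := (sb E28292 F154079)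
theorem F291555 : act 6 n96471 = n46743 := (sb E28292 (iv6 D100146))
theorem E30080 : n42048 = n20827 := ((((iv1 F68120)).symm.trans (sb E28293 (iv1 D89972)))).symm
theorem E30081 : n48600 = n22873 := (((F68118).symm.trans (sb E28293 (iv2 F138200)))).symm
theorem F291556 : act 3 n43367 = n47703 := (sb E28293 (iv3 F138395))
theorem E30082 : n90061 = n22869 := (((F68119).symm.trans (sb E28293 (iv4 F138394)))).symm
theorem E30083 : n182560 = n94032 := (((D94032).symm.trans (sb E28294 D182560))).symm
theorem E30084 : n40489 = n22879 := (((F69085).symm.trans (sb E28294 (iv4 D87163)))).symm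
theorem E30087 : n11096 = n9452 := (((F31884).symm.trans (sb E28295 (iv4 D23700)))).symm
theorem E30088 : n48603 = n42502 := (((D42502).symm.trans (sb E28295 D48603))).symm
theorem E30090 : n9327 = n9139 := (((F35649).symm.trans (sb E28296 (iv1 D19829)))).symm
theorem E30091 : n20825 = n11098 := (((iv0 F32983)).symm.trans (sb E28296 F31624))
theorem E30092 : n42052 = n20838 := ((((iv3 F32992)).symm.trans (sb E28296 D42052))).symm
theorem E30093 : n20351 = n4491 := ((((iv5 D9891)).symm.trans (sb E28296 F137517))).symm
theorem E30095 : n20769 = n11097 := ((F35729).symm.trans (sb E28296 F133961))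
theorem E30096 : n186375 = n43225 := (((F69125).symm.trans (sb E28297 (iv1 F289164)))).symm
theorem E30097 : n89020 = n48623 := (((iv7 F136660)).symm.trans (sb E28297 F138220))
theorem E30098 : n48624 = n42537 := ((D48624).symm.trans (sb E28299 F68943))
theorem F291557 : act 7 n23705 = n20843 := (sb E28299 F68944)
theorem E30099 : n48571 = n10812 := (((F64196).symm.trans (sb E28300 F138216))).symm
theorem E30100 : n48566 = n22861 := (((F64197).symm.trans (sb E28300 F138217))).symm
theorem F291558 : act 2 n98607 = n182590 := (sb E28301 (iv2 F284087))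
theorem F291559 : act 4 n98607 = n48622 := (sb E28301 F161060)
theorem E30104 : n186158 = n185025 := (((F287424).symm.trans (sb E28302 (iv2 F288903)))).symm
theorem F291560 : act 6 n90815 = n48622 := (sb E28302 (iv6 D105148))
theorem F291561 : act 1 n43961 = n88788 := (sb E28303 (iv0 F289105))
theorem E30105 : n92272 = n20841 := (((F69113).symm.trans (sb E28303 F289104))).symm
theorem E30106 : n88759 = n20840 := ((((iv5 D43961)).symm.trans (sb E28303 (iv5 D186324)))).symm
theorem F291562 : act 0 n23392 = n45020 := (sb E28305 (iv1 F70819))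
theorem F291563 : act 1 n23392 = n45019 := (sb E28305 F70826)
theorem E30107 : n95390 = n48237 := ((((iv3 F75830)).symm.trans (sb E28305 (iv3 F147020)))).symm
theorem E30108 : n95395 = n48243 := (((D48243).symm.trans (sb E28305 (iv5 F147025)))).symm
theorem F291564 : act 7 n23392 = n21195 := (sb E28305 (iv7 D44555))
theorem E30109 : n102533 = n45021 := (((D45021).symm.trans (sb E28306 (iv3 F157484)))).symm
theorem E30110 : n95637 = n45022 := (((D45022).symm.trans (sb E28306 (iv5 F147317)))).symm
theorem F291565 : act 7 n21502 = n42779 := (sb E28306 F140473)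
theorem F291566 : act 3 n47603 = n45019 := (sb E28307 (iv3 D96412))
theorem F291567 : act 4 n47603 = n47654 := (sb E28307 F148419)
theorem F291568 : act 2 n89710 = n95382 := (sb E28308 F148421)
theorem F291569 : act 5 n89710 = n45019 := (sb E28308 (iv5 D96413))
theorem F291570 : act 6 n41253 = n45019 := (sb E28309 (iv6 D96414))
theorem E30116 : n89832 = n41904 := (((iv1 F137889)).symm.trans (sb E28310 (iv1 D89717)))
theorem F291571 : act 4 n44857 = n89592 := (sb E28310 F137705)
theorem E30117 : n48199 = n45501 := (((F71752).symm.trans (sb E28310 (iv6 F137707)))).symm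
theorem F291572 : act 3 n44114 = n46819 := (sb E28311 (iv3 F73950))
theorem F291573 : act 6 n44114 = n89592 := (sb E28311 F137351)
theorem F291574 : act 2 n96415 = n102637 := (sb E28315 F158598)
theorem F291575 : act 6 n96415 = n47882 := (sb E28315 (iv6 D103342))
theorem F291576 : act 5 n89709 = n45020 := (sb E28316 (iv5 D96416))
theorem F291577 : act 7 n89709 = n95382 := (sb E28316 F148429)
theorem E30122 : n103929 = n47883 := (((D47883).symm.trans (sb E28317 (iv5 F159364)))).symm
theorem F291578 : act 6 n23055 = n45020 := (sb E28317 F144003)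
theorem E30123 : n22376 = n19303 := (((iv5 F34930)).symm.trans (sb E28319 (iv5 D40992)))
theorem E30124 : n22260 = n20087 := (((iv6 F34734)).symm.trans (sb E28319 (iv6 F62977)))
theorem E30125 : n48193 = n21197 := ((((iv4 F33431)).symm.trans (sb E28320 (iv4 F75740)))).symm
theorem F291579 : act 2 n5002 = n10330 := (sb E28323 (iv2 F16432))
theorem F291580 : act 5 n5002 = n4619 := (sb E28323 (iv5 D10165))
theorem E30129 : n10986 = n8989 := ((D10986).symm.trans (sb E28323 F16006))
theorem E30130 : n95641 = n45005 := (((D45005).symm.trans (sb E28324 D95641))).symm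
theorem E30132 : n45007 = n40302 := ((D45007).symm.trans (sb E28324 F70239))
theorem F291581 : act 6 n19136 = n10983 := (sb E28325 (iv6 D23409))
theorem E30144 : n43679 = n19115 := ((((iv1 F33825)).symm.trans (sb E28333 (iv1 F76104)))).symm
theorem E30145 : n47590 = n45037 := (((D45037).symm.trans (sb E28333 (iv3 F74844)))).symm
theorem E30146 : n86930 = n45038 := (((D45038).symm.trans (sb E28333 (iv5 F133406)))).symm
theorem E30147 : n45039 = n19311 := ((D45039).symm.trans (sb E28333 (iv6 D41015)))
theorem E30148 : n19546 = n4288 := (((F17524).symm.trans (sb E28334 (iv1 D41513)))).symm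
theorem E30150 : n86933 = n17080 := ((((iv4 F28029)).symm.trans (sb E28334 F133419))).symm
theorem E30151 : n87480 = n21463 := (((F62776).symm.trans (sb E28335 (iv0 F134311)))).symm
theorem F291582 : act 6 n22491 = n19850 := (sb E28335 F65011)
theorem E30153 : n185423 = n45040 := (((D45040).symm.trans (sb E28337 (iv3 F287664)))).symm
theorem E30154 : n86929 = n45041 := (((D45041).symm.trans (sb E28337 F135267))).symm
theorem E30155 : n45042 = n41229 := ((D45042).symm.trans (sb E28337 (iv6 D88333)))
theorem F291583 : act 6 n22824 = n19415 := (sb E28339 (iv6 D41273))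
theorem E30159 : n22078 = n19857 := (((D19857).symm.trans (sb E28340 (iv5 D46143)))).symm
theorem E30160 : n10362 = n4091 := ((((iv3 D9106)).symm.trans (sb E28341 F34178))).symm
theorem E30162 : n19411 = n10360 := ((D19411).symm.trans (sb E28341 (iv5 D21730)))
theorem E30169 : n42609 = n9203 := ((((iv1 D19554)).symm.trans (sb E28346 (iv1 D90977)))).symm
theorem E30174 : n21723 = n4995 := (((D4995).symm.trans (sb E28348 F71777))).symm
theorem E30177 : n20097 = n4908 := (((D4908).symm.trans (sb E28349 (iv6 D42575)))).symm
theorem F291584 : act 5 n10729 = n21708 := (sb E28351 F66404)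
theorem E30183 : n21028 = n890 := ((((iv4 D1675)).symm.trans (sb E28355 (iv4 F33218)))).symm
theorem E30187 : n21011 = n1973 := ((((iv1 F6539)).symm.trans (sb E28357 (iv1 D44192)))).symm
theorem E30193 : n48086 = n40304 := (((D40304).symm.trans (sb E28359 (iv3 F75554)))).symm
theorem E30194 : n48092 = n40305 := (((D40305).symm.trans (sb E28359 D48092))).symm
theorem E30195 : n19296 = n10920 := (((iv6 F30950)).symm.trans (sb E28359 (iv6 D23209)))
theorem E30196 : n10282 = n4317 := (((F17513).symm.trans (sb E28360 (iv1 D21537)))).symm
theorem F291585 : act 6 n4975 = n8925 := (sb E28361 F14147)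
theorem E30201 : n19297 = n10905 := (((F62805).symm.trans (sb E28361 D19297))).symm
theorem E30202 : n159826 = n89670 := (((D89670).symm.trans (sb E28362 (iv2 F251909)))).symm
theorem E30203 : n89671 = n44098 := ((D89671).symm.trans (sb E28362 (iv5 F142634)))
theorem E30204 : n87737 = n43317 := (((iv6 F134699)).symm.trans (sb E28362 (iv6 D92594)))
theorem E30206 : n44025 = n43169 := ((F69288).symm.trans (sb E28363 (iv0 F67601)))
theorem E30207 : n75294 = n44099 := (((D44099).symm.trans (sb E28363 (iv4 F112893)))).symm
theorem F291586 : act 5 n20948 = n19715 := (sb E28363 (iv5 D41881))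
theorem F291587 : act 6 n20452 = n19715 := (sb E28364 F61982)
theorem E30211 : n22089 = n9168 := ((((iv4 F17568)).symm.trans (sb E28365 D22089))).symm
theorem E30214 : n9965 = n4332 := (((F17488).symm.trans (sb E28367 (iv1 D21001)))).symm
theorem E30217 : n44164 = n16713 := (((D16713).symm.trans (sb E28367 D44164))).symm
theorem F291588 : act 5 n10683 = n19269 := (sb E28370 F61984)
theorem E30219 : n23412 = n19137 := (((F33433).symm.trans (sb E28371 (iv0 D48261)))).symm
theorem E30220 : n102588 = n44559 := (((D44559).symm.trans (sb E28371 F157549))).symm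
theorem E30221 : n44560 = n40769 := ((D44560).symm.trans (sb E28371 F75866))
theorem E30222 : n44561 = n41222 := ((D44561).symm.trans (sb E28371 (iv6 F75868)))
theorem E30224 : n41504 = n9470 := (((F31681).symm.trans (sb E28372 (iv0 F72803)))).symm
theorem E30225 : n40820 = n21166 := ((((iv4 F33406)).symm.trans (sb E28372 F72802))).symm
theorem F291589 : act 3 n22829 = n43264 := (sb E28373 F68868)
theorem F291590 : act 6 n22829 = n20746 := (sb E28373 (iv6 D43822))
theorem E30227 : n159765 = n89658 := (((D89658).symm.trans (sb E28374 F251744))).symm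
theorem E30228 : n90532 = n89659 := (((D89659).symm.trans (sb E28374 F251746))).symm
theorem E30229 : n102607 = n89660 := (((D89660).symm.trans (sb E28374 (iv2 F157705)))).symm
theorem E30230 : n89661 = n44095 := ((D89661).symm.trans (sb E28374 F143213))
theorem E30231 : n89662 = n88503 := ((D89662).symm.trans (sb E28374 F143214))
theorem E30232 : n75267 = n44096 := (((D44096).symm.trans (sb E28375 (iv4 F112843)))).symm
theorem F291591 : act 5 n20947 = n19714 := (sb E28375 (iv5 D41878))
theorem E30234 : n102758 = n43264 := ((F291113).symm.trans (sb E28376 (iv4 F67831)))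
theorem E30235 : n89666 = n87041 := ((((iv5 F133610)).symm.trans (sb E28376 D89666))).symm
theorem E30236 : n102760 = n19714 := ((F291114).symm.trans (sb E28376 (iv6 D41879)))
theorem F291592 : act 1 n22868 = n43264 := (sb E28378 (iv0 D92481))
theorem E30240 : n9105 = n4692 := ((D9105).symm.trans (sb E28379 (iv5 D10357)))
theorem E30242 : n94195 = n7817 := (((D7817).symm.trans (sb E28380 (iv5 F145224)))).symm
theorem E30243 : n20900 = n20365 := ((F33065).symm.trans (sb E28381 F32330))
theorem F291593 : act 5 n10355 = n7816 := (sb E28381 (iv5 D16729))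
theorem F291594 : act 0 n20117 = n10509 := (sb E28384 (iv1 D22064))
theorem F291595 : act 2 n20117 = n10515 := (sb E28384 F62865)
theorem F291596 : act 6 n20117 = n41821 := (sb E28384 (iv6 F67702))
theorem F291597 : act 0 n113032 = n186170 := (sb E28391 (iv1 F289209))
theorem F291598 : act 2 n113032 = n186172 := (sb E28391 F289206)
theorem F291599 : act 6 n113032 = n186150 := (sb E28391 F289207)
theorem F291600 : act 7 n113032 = n88791 := (sb E28391 (iv7 D186420))
theorem E30256 : n95321 = n90015 := (((F138304).symm.trans (sb E28392 F205477))).symm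
theorem E30257 : n186183 = n94011 := ((D186183).symm.trans (sb E28392 (iv5 F205478)))
theorem E30258 : n186184 = n88464 := ((D186184).symm.trans (sb E28392 (iv6 F205474)))
theorem E30259 : n90064 = n44839 := ((F138414).symm.trans (sb E28393 (iv1 D96094)))
theorem E30260 : n185926 = n103304 := ((F288934).symm.trans (sb E28393 F158543))
theorem E30261 : n186187 = n44932 := ((D186187).symm.trans (sb E28393 F205472))
theorem E30262 : n185925 = n103310 := (((iv7 F288948)).symm.trans (sb E28393 (iv7 F251862)))
theorem E30263 : n186189 = n44120 := ((D186189).symm.trans (sb E28394 (iv0 D94401)))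
theorem E30264 : n186192 = n42277 := ((D186192).symm.trans (sb E28395 (iv1 D90414)))
theorem E30265 : n186193 = n42281 := ((D186193).symm.trans (sb E28395 F139159))
theorem E30266 : n186195 = n42278 := ((D186195).symm.trans (sb E28395 F160264))
theorem E30267 : n186202 = n104716 := ((D186202).symm.trans (sb E28396 F205482))
theorem E30268 : n186191 = n112955 := (((iv2 F288968)).symm.trans (sb E28397 F178365))
theorem E30269 : n186204 = n52178 := ((D186204).symm.trans (sb E28397 F178367))
theorem E30272 : n186196 = n105375 := (((F161689).symm.trans (sb E28398 (iv2 F288972)))).symm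
theorem E30273 : n186200 = n114080 := ((((iv3 F177590)).symm.trans (sb E28398 (iv3 F288979)))).symm
theorem F291601 : act 6 n52655 = n41412 := (sb E28398 (iv6 D88704))
theorem E30278 : n99906 = n92935 := ((((iv4 F143306)).symm.trans (sb E28400 (iv4 F153832)))).symm
theorem F291602 : act 6 n43491 = n41413 := (sb E28400 F73933)
theorem E30280 : n186064 = n104855 := ((D186064).symm.trans (sb E28401 (iv3 F251758)))
theorem E30281 : n186065 = n76449 := ((D186065).symm.trans (sb E28401 F251741))
theorem E30282 : n186067 = n76448 := ((D186067).symm.trans (sb E28401 (iv6 D159772)))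
theorem E30283 : n186058 = n88435 := ((F288673).symm.trans (sb E28401 (tr F251742 E30015)))
theorem E30284 : n186069 = n97151 := ((((iv1 F157802)).symm.trans (sb E28402 D186069))).symm
theorem E30285 : n186070 = n97349 := ((((iv0 F157803)).symm.trans (sb E28402 D186070))).symm
theorem E30286 : n186068 = n97380 := (((D97380).symm.trans (sb E28402 (iv2 F288683)))).symm
theorem E30287 : n186071 = n97381 := (((D97381).symm.trans (sb E28402 D186071))).symm
theorem F291603 : act 5 n45475 = n41367 := (sb E28402 (iv5 D88630))
theorem F291604 : act 6 n43477 = n41367 := (sb E28403 F73751)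
theorem F291605 : act 1 n52162 = n41414 := (sb E28404 (iv0 D88708))
theorem E30292 : n186213 = n52120 := (((F82470).symm.trans (sb E28404 D186213))).symm
theorem E30297 : n186218 = n94393 := ((((iv7 F178351)).symm.trans (sb E28404 D186218))).symm
theorem E30298 : n186221 = n89648 := ((D186221).symm.trans (sb E28405 (tr F175851 E29384)))
theorem E30299 : n186222 = n113016 := ((D186222).symm.trans (sb E28405 (iv6 F176050)))
theorem E30300 : n186223 = n61523 := ((D186223).symm.trans (sb E28406 (iv1 D131142)))
theorem E30311 : n92757 = n41359 := (((D41359).symm.trans (sb E28410 (iv3 F143047)))).symm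
theorem E30312 : n44081 = n38886 := ((((iv5 F59917)).symm.trans (sb E28410 (iv5 F69424)))).symm
theorem F291606 : act 6 n19474 = n20513 := (sb E28410 (iv6 D43394))
theorem F291607 : act 5 n9751 = n4878 := (sb E28414 (iv5 D10647))
theorem F291608 : act 6 n9751 = n9158 := (sb E28414 F17192)
theorem E30321 : n20914 = n7809 := (((F13604).symm.trans (sb E28415 D20914))).symm
theorem E30322 : n4527 = n1995 := (((F7237).symm.trans (sb E28415 F15673))).symm
theorem E30335 : n176713 = n98707 := (((D98707).symm.trans (sb E28422 (iv3 F276081)))).symm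
theorem E30336 : n98708 = n38856 := ((D98708).symm.trans (sb E28422 (iv5 D84251)))
theorem E30337 : n176715 = n98704 := ((((iv6 F152168)).symm.trans (sb E28422 D176715))).symm
theorem E30341 : n186243 = n94060 := ((D186243).symm.trans (sb E28424 (iv1 F144910)))
theorem E30344 : n41401 = n20902 := (((iv4 F63839)).symm.trans (sb E28426 (iv4 D44024)))
theorem E30346 : n93871 = n78837 := (((D78837).symm.trans (sb E28426 (iv6 F144701)))).symm
theorem E30347 : n94367 = n92345 := (((D92345).symm.trans (sb E28427 (iv3 F145486)))).symm
theorem E30348 : n20950 = n20367 := ((((iv4 D43182)).symm.trans (sb E28427 F69445))).symm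
theorem E30356 : n100194 = n92685 := (((D92685).symm.trans (sb E28429 (iv4 F154140)))).symm
theorem E30360 : n183851 = n91147 := (((D91147).symm.trans (sb E28430 (iv2 F285660)))).symm
theorem E30361 : n40855 = n20142 := ((((iv3 D42680)).symm.trans (sb E28430 F134615))).symm
theorem E30362 : n94071 = n91148 := (((D91148).symm.trans (sb E28430 (iv5 F144937)))).symm
theorem E30363 : n91149 = n40853 := ((D91149).symm.trans (sb E28430 (iv6 D87704)))
theorem F291609 : act 2 n94446 = n186046 := (sb E28431 (iv2 F288650))
theorem F291610 : act 5 n94446 = n47703 := (sb E28431 (iv5 D102860))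
theorem E30364 : n186048 = n88785 := (E29997).trans E30029
theorem E30365 : n186047 = n92711 := (((D92711).symm.trans (sb E28432 (iv2 F288652)))).symm
theorem F291611 : act 6 n43365 = n47703 := (sb E28432 (iv6 D102861))
theorem E30366 : n92545 = n88361 := (((iv3 F142541)).symm.trans (sb E28433 (iv3 D185492)))
theorem F291612 : act 6 n90203 = n102529 := (sb E28433 F287757)
theorem E30367 : n42165 = n41542 := ((D42165).symm.trans (sb E28434 F74784))
theorem E30368 : n42166 = n22857 := ((D42166).symm.trans (sb E28434 (iv6 D47559)))
theorem F291613 : act 5 n88975 = n42164 := (sb E28435 (iv5 D90204))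
theorem F291614 : act 4 n47557 = n47706 := (sb E28436 F138769)
theorem F291615 : act 6 n47557 = n42164 := (sb E28436 (iv6 D90205))
theorem F291616 : act 0 n92417 = n47705 := (sb E28437 (iv1 D102865))
theorem F291617 : act 1 n92417 = n186050 := (sb E28437 F288661)
theorem F291618 : act 1 n90491 = n47706 := (sb E28438 (iv0 D102868))
theorem F291619 : act 0 n88690 = n47706 := (sb E28439 (iv1 D102869))
theorem F291620 : act 0 n102863 = n92735 := (sb E28440 (iv1 F288226))
theorem F291621 : act 1 n102863 = n93017 := (sb E28440 F288225)
theorem F291622 : act 4 n102863 = n102529 := (sb E28440 F288223)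
theorem F291623 : act 7 n102863 = n93012 := (sb E28440 F288224)
theorem F291624 : act 7 n43521 = n47706 := (sb E28441 (iv7 D102871))
theorem F291625 : act 0 n22959 = n22762 := (sb E28443 (iv1 F62388))
theorem F291626 : act 1 n22959 = n19378 := (sb E28443 (iv0 D41200))
theorem F291627 : act 0 n19433 = n10842 := (sb E28445 (iv1 F291000))
theorem F291628 : act 7 n22962 = n20588 := (sb E28448 (iv7 F290918))
theorem F291629 : act 3 n94399 = n88783 := (sb E28451 F158069)
theorem F291630 : act 4 n94399 = n186186 := (sb E28451 (iv4 F288964))
theorem E30375 : n47679 = n44119 := ((((iv5 D94399)).symm.trans (sb E28451 (iv5 D102805)))).symm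
theorem F291631 : act 2 n94403 = n186186 := (sb E28452 (iv2 F288963))
theorem F291632 : act 3 n94403 = n176923 := (sb E28452 (iv3 F276275))
theorem E30376 : n96066 = n94403 := ((F251865).symm.trans (iv5 (sb E28452 (tr (iv5 F283187) E30013))))
theorem F291633 : act 7 n94403 = n186201 := (sb E28452 (iv7 F288980))
theorem E30377 : n47677 = n44117 := (((D44117).symm.trans (sb E28453 D47677))).symm
theorem E30378 : n47678 = n42123 := ((((iv0 F178357)).symm.trans (sb E28453 D47678))).symm
theorem E30379 : n44107 = n42937 := (((iv4 F69448)).symm.trans (sb E28453 (iv4 F67285)))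
theorem F291634 : act 7 n20966 = n41871 := (sb E28453 (iv7 F64539))
theorem E30381 : n44104 = n35885 := ((((iv0 F56544)).symm.trans (sb E28458 (iv0 D94368)))).symm
theorem F291635 : act 4 n84334 = n44125 := (sb E28459 F145581)
theorem F291636 : act 0 n4542 = n9649 := (sb E28460 (iv1 F17508))
theorem E30382 : n10831 = n9954 := (((D9954).symm.trans (sb E28460 (iv3 F17373)))).symm
theorem F291637 : act 5 n4542 = n2032 := (sb E28460 (iv5 D4939))
theorem F291638 : act 7 n4542 = n9252 := (sb E28460 (iv7 F14448))
theorem F291639 : act 0 n94416 = n88796 := (sb E28461 (iv1 F158073))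
theorem F291640 : act 1 n94417 = n88796 := (sb E28462 F158071)
theorem F291641 : act 2 n94418 = n46968 := (sb E28463 F153113)
theorem F291642 : act 0 n94419 = n88795 := (sb E28464 (iv1 F158074))
theorem F291643 : act 1 n94419 = n88794 := (sb E28464 F158075)
theorem F291644 : act 2 n94419 = n88796 := (sb E28464 F158072)
theorem F291645 : act 4 n94419 = n176928 := (sb E28464 (iv4 F276279))
theorem F291646 : act 0 n94445 = n88783 := (sb E28465 (iv1 F158107))
theorem F291647 : act 1 n94446 = n88783 := (sb E28466 F158108)
theorem F291648 : act 1 n94443 = n88784 := (sb E28467 F158105)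
theorem E30383 : n47691 = n44140 := ((((iv5 D94443)).symm.trans (sb E28467 (iv5 D102829)))).symm
theorem F291649 : act 7 n94443 = n88783 := (sb E28467 F158103)
theorem F291650 : act 3 n94447 = n176914 := (sb E28468 (iv3 F276270))
theorem F291651 : act 7 n94447 = n88786 := (sb E28468 F158109)
theorem E30384 : n47689 = n42177 := ((((iv1 F69480)).symm.trans (sb E28469 D47689))).symm
theorem E30385 : n47690 = n44139 := (((D44139).symm.trans (sb E28469 D47690))).symm
theorem E30386 : n43574 = n22149 := ((((iv4 F63030)).symm.trans (sb E28469 (iv4 F68484)))).symm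
theorem F291652 : act 4 n84332 = n44144 := (sb E28473 F145635)
theorem F291653 : act 1 n4543 = n9649 := (sb E28474 (iv0 F17507))
theorem F291654 : act 2 n4543 = n9252 := (sb E28474 (iv2 F14447))
theorem E30387 : n10836 = n9959 := (((D9959).symm.trans (sb E28474 (iv3 F17382)))).symm
theorem F291655 : act 5 n4543 = n2033 := (sb E28474 (iv5 D4942))
theorem F291656 : act 4 n94456 = n176919 := (sb E28478 (iv4 F276273))
theorem F291657 : act 6 n94456 = n88796 := (sb E28478 F158113)
theorem E30389 : n90703 = n89688 := (((D89688).symm.trans (sb E28479 (iv6 F139614)))).symm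
theorem E30391 : n94156 = n89686 := (((D89686).symm.trans (sb E28480 D94156))).symm
theorem E30398 : n102648 = n22971 := (E28486).trans E28695
theorem F291658 : act 4 n22971 = n48353 := (sb E30398 (iv4 F157864))
theorem E30405 : n186004 = n48295 := (((D48295).symm.trans (sb E28491 (iv4 F288557)))).symm
theorem E30407 : n48302 = n41771 := (((D41771).symm.trans (sb E28498 D48302))).symm
theorem F291659 : act 0 n98018 = n88472 := (sb E28499 (iv1 D185758))
theorem F291660 : act 1 n98019 = n88472 := (sb E28500 (iv0 D185757))
theorem F291661 : act 2 n88475 = n45751 := (sb E28501 (iv2 D98020))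
theorem E30408 : n94031 = n45756 := (((iv6 F144865)).symm.trans (sb E28501 F151136))
theorem F291662 : act 5 n94242 = n45751 := (sb E28502 (iv5 D98021))
theorem F291663 : act 2 n94243 = n47666 := (sb E28503 F151151)
theorem F291664 : act 5 n94243 = n45758 := (sb E28503 F151152)
theorem E30409 : n93253 = n8657 := ((((iv5 F13565)).symm.trans (sb E28507 F143835))).symm
theorem E30416 : n40709 = n9250 := (((D9250).symm.trans (sb E28513 F62924))).symm
theorem E30418 : n91137 = n41349 := (((F74663).symm.trans (sb E28516 (iv1 F160016)))).symm
theorem E30419 : n98372 = n92810 := (((iv4 F151799)).symm.trans (sb E28516 F160018))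
theorem E30421 : n186000 = n91131 := ((((iv3 F140164)).symm.trans (sb E28518 D186000))).symm
theorem E30422 : n98371 = n91138 := (((D91138).symm.trans (sb E28518 (iv4 F151795)))).symm
theorem E30423 : n186001 = n91135 := ((((iv6 F140166)).symm.trans (sb E28518 D186001))).symm
theorem F291665 : act 2 n89599 = n90469 := (sb E28521 F140112)
theorem F291666 : act 5 n89599 = n42656 := (sb E28521 (iv5 D91073))
theorem F291667 : act 6 n22887 = n42656 := (sb E28522 (iv6 D91074))
theorem F291668 : act 0 n43542 = n21708 := (sb E28523 (iv1 D45489))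
theorem F291669 : act 1 n43542 = n41824 := (sb E28523 F71741)
theorem F291670 : act 4 n43542 = n44126 := (sb E28523 F71733)
theorem F291671 : act 7 n43542 = n41817 := (sb E28523 (iv7 F71734))
theorem E30428 : n102467 = n90473 := (((D90473).symm.trans (sb E28527 F289836))).symm
theorem E30429 : n90474 = n46709 := ((D90474).symm.trans (sb E28527 (iv0 D100023)))
theorem E30430 : n98367 = n90476 := (((D90476).symm.trans (sb E28527 (iv5 F289848)))).symm
theorem E30431 : n177887 = n20752 := (((F65377).symm.trans (sb E28527 (iv6 F277464)))).symm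
theorem F291672 : act 7 n42338 = n47616 := (sb E28527 F289838)
theorem F291673 : act 0 n42339 = n88920 := (sb E28528 (iv1 F136471))
theorem F291674 : act 1 n42339 = n21991 := (sb E28528 (iv0 D46020))
theorem E30432 : n90480 = n89481 := ((D90480).symm.trans (sb E28528 (iv4 F137144)))
theorem E30433 : n98368 = n90481 := (((D90481).symm.trans (sb E28528 D98368))).symm
theorem F291675 : act 7 n42339 = n47621 := (sb E28528 (iv7 F74882))
theorem F291676 : act 1 n88603 = n90469 := (sb E28530 F160004)
theorem F291677 : act 0 n88606 = n90469 := (sb E28531 F139724)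
theorem F291678 : act 4 n92474 = n43257 := (sb E28534 (iv4 D92477))
theorem F291679 : act 5 n19780 = n19719 := (sb E28535 (iv5 D41892))
theorem F291680 : act 1 n22081 = n20599 := (sb E28537 (iv0 F66302))
theorem F291681 : act 0 n42023 = n20599 := (sb E28538 F68381)
theorem F291682 : act 0 n40548 = n42430 := (sb E28539 F75276)
theorem F291683 : act 1 n40548 = n42444 := (sb E28539 F75277)
theorem F291684 : act 7 n40548 = n41826 := (sb E28539 F75270)
theorem E30438 : n37868 = n19510 := ((D37868).symm.trans (sb E28540 (iv6 D41423)))
theorem F291685 : act 0 n22147 = n20595 := (sb E28543 (iv1 D43535))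
theorem F291686 : act 1 n22147 = n20600 := (sb E28543 F68418)
theorem F291687 : act 2 n22147 = n22502 := (sb E28543 (iv2 F68419))
theorem E30442 : n93041 = n46309 := ((((iv3 F72956)).symm.trans (sb E28543 D93041))).symm
theorem E30444 : n20614 = n10555 := ((((iv6 D22147)).symm.trans (sb E28543 F68421))).symm
theorem F291688 : act 2 n43534 = n41835 := (sb E28544 F73875)
theorem E30445 : n100191 = n93039 := (((D93039).symm.trans (sb E28544 (iv3 F154136)))).symm
theorem E30446 : n93000 = n22418 := (((iv5 F143422)).symm.trans (sb E28544 (iv5 D46762)))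
theorem E30447 : n93056 = n46285 := ((D93056).symm.trans (sb E28545 F286038))
theorem E30448 : n184332 = n93057 := (((D93057).symm.trans (sb E28545 F286266))).symm
theorem F291689 : act 7 n43544 = n41832 := (sb E28545 (iv7 D89573))
theorem E30449 : n93048 = n46438 := (((iv1 F143518)).symm.trans (sb E28546 (iv1 F137338)))
theorem F291690 : act 2 n43545 = n46746 := (sb E28546 F137336)
theorem E30450 : n103449 = n92917 := ((((iv4 F143285)).symm.trans (sb E28546 (iv4 F158750)))).symm
theorem E30451 : n92639 = n41837 := (((iv7 F142756)).symm.trans (sb E28546 (iv7 D89583)))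
theorem F291691 : act 1 n19691 = n22502 := (sb E28547 F68042)
theorem F291692 : act 2 n19691 = n20595 := (sb E28547 F68033)
theorem F291693 : act 7 n19691 = n20600 := (sb E28547 F68034)
theorem E30452 : n4497 = n4435 := (((D4435).symm.trans (sb E28548 F14795))).symm
theorem E30453 : n1948 = n968 := (((F3146).symm.trans (sb E28548 (iv6 D4712)))).symm
theorem E30454 : n20864 = n20605 := (((D20605).symm.trans (sb E28549 F34250))).symm
theorem E30456 : n10405 = n4421 := (((F15236).symm.trans (sb E28549 (iv6 D21798)))).symm
theorem E30457 : n4420 = n1993 := ((D4420).symm.trans (sb E28550 (iv0 F62631)))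
theorem E30458 : n4714 = n4422 := (((D4422).symm.trans (sb E28550 (iv7 F14876)))).symm
theorem E30459 : n100287 = n92652 := ((((iv3 F142780)).symm.trans (sb E28551 D100287))).symm
theorem E30460 : n92656 = n22628 := (((iv5 F142793)).symm.trans (sb E28551 F73928))
theorem E30461 : n90185 = n41809 := (((iv6 F138643)).symm.trans (sb E28551 F73926))
theorem F291694 : act 6 n19673 = n20468 := (sb E28552 F65079)
theorem E30465 : n41884 = n41324 := ((((iv1 F65552)).symm.trans (sb E28556 (iv1 F64575)))).symm
theorem F291695 : act 1 n20033 = n10845 := (sb E28556 (iv0 D22972))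
theorem E30466 : n41883 = n41332 := (((F63683).symm.trans (sb E28556 (iv2 F135698)))).symm
theorem E30467 : n47740 = n42426 := ((((iv3 F65532)).symm.trans (sb E28556 D47740))).symm
theorem E30468 : n47741 = n42431 := ((((iv4 F65548)).symm.trans (sb E28556 D47741))).symm
theorem E30471 : n41882 = n41331 := ((((iv7 F65923)).symm.trans (sb E28556 (iv7 F135724)))).symm
theorem F291696 : act 6 n4096 = n2077 := (sb E28557 (iv6 F291086))
theorem F291697 : act 6 n19441 = n10845 := (sb E28558 (iv6 F291087))
theorem E30475 : n1902 = n1835 := (((iv6 F3194)).symm.trans (sb E28559 (iv6 D4345)))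
theorem E30476 : n43181 = n9952 := ((((iv3 F15690)).symm.trans (sb E28560 (iv3 F67634)))).symm
theorem E30477 : n9952 = n9652 := (((iv6 F15692)).symm.trans (sb E28560 (iv6 D20368)))
theorem F291698 : act 6 n4343 = n4492 := (sb E28561 F6608)
theorem F291699 : act 7 n4343 = n1895 := (sb E28561 (iv7 D4545))
theorem E30481 : n186329 = n90242 := ((((iv2 F138806)).symm.trans (sb E28566 (iv2 F289111)))).symm
theorem F291700 : act 3 n44139 = n41443 := (sb E28566 F136152)
theorem E30482 : n87217 = n43972 := ((((iv4 F69477)).symm.trans (sb E28566 F136153))).symm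
theorem F291701 : act 4 n41559 = n41443 := (sb E28567 F66445)
theorem F291702 : act 7 n90659 = n48270 := (sb E28571 F158020)
theorem F291703 : act 5 n90677 = n47490 := (sb E28574 (iv5 D102341))
theorem E30485 : n48163 = n42433 := ((((iv1 F65553)).symm.trans (sb E28576 F154691))).symm
theorem E30486 : n100657 = n42211 := ((((iv7 F65162)).symm.trans (sb E28576 (iv7 F154750)))).symm
theorem F291704 : act 1 n90528 = n47654 := (sb E28578 (iv0 D102741))
theorem F291705 : act 1 n102742 = n102638 := (sb E28579 F251712)
theorem F291706 : act 2 n102742 = n76437 := (sb E28579 F251709)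
theorem F291707 : act 5 n102742 = n76435 := (sb E28579 (iv5 D159757))
theorem F291708 : act 6 n102742 = n92845 := (sb E28579 F251711)
theorem F291709 : act 1 n102743 = n76437 := (sb E28580 (iv0 D159763))
theorem F291710 : act 4 n102743 = n99836 := (sb E28580 F251715)
theorem F291711 : act 6 n102743 = n185914 := (sb E28580 (iv6 F288424))
theorem F291712 : act 7 n102743 = n102638 := (sb E28580 F251717)
theorem F291713 : act 1 n102744 = n94237 := (sb E28581 (iv0 F286036))
theorem F291714 : act 6 n102744 = n69803 := (sb E28581 (iv6 D148918))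
theorem F291715 : act 6 n88545 = n47654 := (sb E28582 (iv6 D102745))
theorem F291716 : act 6 n93960 = n47655 := (sb E28583 (iv6 D102747))
theorem F291717 : act 0 n89484 = n94057 := (sb E28598 (iv1 F144902))
theorem F291718 : act 1 n89484 = n104409 := (sb E28598 F160062)
theorem F291719 : act 4 n89484 = n42317 := (sb E28598 (iv4 D90458))
theorem E30494 : n186033 = n92758 := ((F288635).symm.trans (sb E28598 (iv7 F143050)))
theorem E30496 : n43982 = n9506 := ((((iv4 F14760)).symm.trans (sb E28600 (iv4 F69157)))).symm
theorem E30498 : n46351 = n9414 := (((D9414).symm.trans (sb E28601 D46351))).symm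
theorem E30502 : n47484 = n45359 := ((D47484).symm.trans (sb E28603 F139083))
theorem E30503 : n47486 = n42249 := ((D47486).symm.trans (sb E28603 (iv6 D90375)))
theorem F291720 : act 2 n22809 = n42668 := (sb E28604 F139086)
theorem E30504 : n45653 = n42250 := (((D42250).symm.trans (sb E28605 F71988))).symm
theorem F291721 : act 6 n19944 = n10774 := (sb E28605 (iv6 D22810))
theorem F291722 : act 7 n22802 = n42666 := (sb E28606 (iv7 D91106))
theorem F291723 : act 7 n22804 = n42668 := (sb E28607 (iv7 D91112))
theorem E30509 : n104422 = n41776 := (((D41776).symm.trans (sb E28614 D104422))).symm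
theorem E30513 : n23659 = n9608 := (E28620).trans E28628
theorem E30514 : n20305 = n19390 := ((F133753).symm.trans (sb E30513 (tr D48490 E28818)))
theorem E30515 : n20302 = n9103 := ((F135633).symm.trans (sb E30513 (tr D48491 E28775)))
theorem E30516 : n20301 = n19190 := ((F32224).symm.trans (sb E30513 (tr (iv2 F70066) E28724)))
theorem E30517 : n20867 = n20146 := ((((iv4 F31978)).symm.trans (sb E30513 (tr (iv4 F76288) E29846)))).symm
theorem E30518 : n4494 = n4437 := (((F14970).symm.trans (sb E30513 (tr F36784 E29727)))).symm
theorem E30519 : n20319 = n11079 := ((D20319).symm.trans (sb E30513 (iv6 D23659)))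
theorem F291724 : act 4 n2064 = n2059 := (sb E28621 (iv4 D5017))
theorem E30520 : n5041 = n4102 := ((D5041).symm.trans (sb E28621 F7431))
theorem E30521 : n23492 = n9507 := (E28622).trans E28959
theorem F291725 : act 0 n9507 = n48342 := (sb E30521 D48342)
theorem F291726 : act 1 n9507 = n48343 := (sb E30521 D48343)
theorem E30523 : n22768 = n20152 := ((((iv4 F31990)).symm.trans (sb E30521 (tr D48345 E29845)))).symm
theorem E30530 : n9818 = n4309 := (((E28641).symm.trans ((D9294).symm.trans (sb E28625 (iv6 D20720))))).symm
theorem E30531 : n10883 = n4435 := (E29401).trans E30452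
theorem F291727 : act 6 n4434 = n9293 := (sb E28626 (iv6 F16083))
theorem E30532 : n4718 = n955 := (((F3110).symm.trans (sb E28629 F15546))).symm
theorem E30533 : n5038 = n4331 := (((D4331).symm.trans (sb E28629 F15544))).symm
theorem E30534 : n20380 = n4437 := (E29727).trans E30518
theorem F291728 : act 6 n5061 = n4330 := (sb E28631 (iv6 D9610))
theorem F291729 : act 0 n20198 = n10259 := (sb E28633 (iv1 D21501))
theorem F291730 : act 7 n20198 = n21193 := (sb E28633 F63208)
theorem F291731 : act 5 n9283 = n9539 := (sb E28634 (iv5 D20209))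
theorem F291732 : act 6 n9291 = n19822 := (sb E28637 (iv6 F31606))
theorem F291733 : act 5 n2050 = n43690 := (sb E28638 D43690)
theorem E30550 : n9541 = n4196 := (((D4196).symm.trans (sb E28640 (iv5 D20214)))).symm
theorem E30554 : n48325 = n23685 := (E29584).trans E30068
theorem E30560 : n43685 = n4429 := ((((iv6 D9810)).symm.trans (sb E28645 (iv6 F68649)))).symm
theorem E30561 : n43686 = n2043 := (((E29917).symm.trans ((D4431).symm.trans (sb E28646 D43686)))).symm
theorem F291734 : act 6 n5074 = n9122 := (sb E28649 (iv6 D19442))
theorem F291735 : act 0 n4101 = n4330 := (sb E28650 (iv1 F6229))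
theorem F291736 : act 1 n4101 = n1829 := (sb E28650 F6110)
theorem F291737 : act 4 n4101 = n1794 := (sb E28650 (iv4 D4207))
theorem F291738 : act 5 n4101 = n2077 := (sb E28650 F6109)
theorem F291739 : act 7 n4101 = n2077 := (sb E28650 F6108)
theorem E30567 : n4222 = n2069 := (((D2069).symm.trans (sb E28652 F14462))).symm
theorem F291740 : act 6 n1800 = n2068 := (sb E28653 (iv6 D5049))
theorem E30580 : n4312 = n1022 := (((D1022).symm.trans (sb E28656 (iv6 D9553)))).symm
theorem E30588 : n10203 = n8978 := (((D8978).symm.trans (sb E28661 (iv3 F16039)))).symm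
theorem E30589 : n5069 = n1923 := (((iv5 F7517)).symm.trans (sb E28661 (iv5 D4635)))
theorem E30590 : n4967 = n2040 := (((iv6 F7380)).symm.trans (sb E28661 (iv6 F6687)))
theorem E30591 : n1901 = n958 := ((((iv1 F1810)).symm.trans (sb E28662 (iv1 D4570)))).symm
theorem F291741 : act 6 n1856 = n1735 := (sb E28663 F3328)
theorem E30593 : n4968 = n1857 := ((((iv7 F15321)).symm.trans (sb E28663 D4968))).symm
theorem E30596 : n19393 = n11091 := (((D11091).symm.trans (sb E28664 F62489))).symm
theorem E30597 : n11092 = n10195 := ((((iv3 F16018)).symm.trans (sb E28665 D11092))).symm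
theorem F291742 : act 4 n4630 = n2076 := (sb E28665 (iv4 D5072))
theorem F291743 : act 7 n4630 = n4005 := (sb E28665 F7526)
theorem F291744 : act 1 n5073 = n4096 := (sb E28667 (iv0 D9131))
theorem F291745 : act 5 n5073 = n4568 := (sb E28667 F14197)
theorem E30600 : n10017 = n1742 := ((((iv3 F3002)).symm.trans (sb E28668 (iv3 F15824)))).symm
theorem E30602 : n1899 = n1743 := (((D1743).symm.trans (sb E28668 (iv5 D4562)))).symm
theorem E30610 : n93802 = n47748 := (((D47748).symm.trans (sb E28681 (iv5 F144592)))).symm
theorem F291746 : act 6 n22974 = n41299 := (sb E28681 F69081)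
theorem F291747 : act 3 n88507 = n47666 := (sb E28685 F158026)
theorem E30611 : n93913 = n47752 := (((iv5 F144743)).symm.trans (sb E28685 F158027))
theorem E30612 : n96050 = n47745 := (((D47745).symm.trans (sb E28686 D96050))).symm
theorem E30613 : n42089 = n21348 := (((iv4 F65006)).symm.trans (sb E28686 (iv4 D44817)))
theorem E30614 : n47746 = n43850 := ((D47746).symm.trans (sb E28686 F70391))
theorem E30615 : n47747 = n42451 := ((D47747).symm.trans (sb E28686 (iv6 F70394)))
theorem E30616 : n47749 = n20795 := ((D47749).symm.trans (sb E28687 (iv1 D43899)))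
theorem E30617 : n47750 = n20800 := ((D47750).symm.trans (sb E28687 F69021))
theorem E30618 : n93912 = n47751 := (((D47751).symm.trans (sb E28687 D93912))).symm
theorem E30619 : n41885 = n41333 := (((iv7 F64579)).symm.trans (sb E28687 F69022))
theorem F291748 : act 3 n19462 = n9253 := (sb E28688 (iv3 D19716))
theorem F291749 : act 7 n19462 = n10845 := (sb E28688 F31474)
theorem E30620 : n92844 = n47721 := (((D47721).symm.trans (sb E28690 D92844))).symm
theorem E30621 : n92845 = n47722 := (((D47722).symm.trans (sb E28690 D92845))).symm
theorem E30622 : n92839 = n47723 := (((D47723).symm.trans (sb E28690 (iv2 F143208)))).symm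
theorem E30623 : n92846 = n47724 := (((D47724).symm.trans (sb E28690 D92846))).symm
theorem E30624 : n47725 = n20538 := ((D47725).symm.trans (sb E28690 (iv6 D43443)))
theorem F291750 : act 2 n22967 = n20948 := (sb E28691 F68300)
theorem E30625 : n92862 = n38869 := ((((iv4 F59896)).symm.trans (sb E28691 D92862))).symm
theorem E30626 : n92860 = n47726 := (((D47726).symm.trans (sb E28691 (iv6 F143235)))).symm
theorem F291751 : act 7 n22967 = n20947 := (sb E28691 F68310)
theorem F291752 : act 6 n9746 = n10843 := (sb E28692 (iv6 D22968))
theorem E30628 : n97499 = n42072 := ((((iv4 F64972)).symm.trans (sb E28693 F251733))).symm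
theorem E30629 : n94157 = n47732 := (((D47732).symm.trans (sb E28693 F251734))).symm
theorem E30630 : n76446 = n47733 := (((D47733).symm.trans (sb E28693 (iv6 D159770)))).symm
theorem F291753 : act 2 n22970 = n20947 := (sb E28694 (iv2 F69282))
theorem E30631 : n94158 = n34471 := ((((iv4 F54695)).symm.trans (sb E28694 D94158))).symm
theorem E30632 : n94159 = n47734 := (((D47734).symm.trans (sb E28694 D94159))).symm
theorem F291754 : act 7 n22970 = n20948 := (sb E28694 F69283)
theorem F291755 : act 1 n22971 = n41299 := (sb E28695 F63629)
theorem F291756 : act 2 n22971 = n41310 := (sb E28695 F63634)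
theorem E30633 : n48353 = n22875 := ((F291658).symm.trans (sb E28695 (iv4 F63631)))
theorem F291757 : act 1 n20940 = n10846 := (sb E28696 (iv0 D22976))
theorem F291758 : act 2 n20940 = n41887 := (sb E28696 F64588)
theorem E30634 : n47753 = n44079 := ((((iv3 F69422)).symm.trans (sb E28696 D47753))).symm
theorem F291759 : act 4 n20940 = n38864 := (sb E28696 (iv4 F59891))
theorem E30635 : n20342 = n9949 := ((((iv5 D20940)).symm.trans (sb E28696 F36030))).symm
theorem E30636 : n47754 = n44084 := (((D44084).symm.trans (sb E28696 D47754))).symm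
theorem F291760 : act 7 n20940 = n41886 := (sb E28696 F64584)
theorem F291761 : act 0 n20945 = n10846 := (sb E28697 (iv1 D22977))
theorem F291762 : act 2 n20945 = n41886 := (sb E28697 F64583)
theorem E30637 : n47755 = n44090 := ((((iv3 F69438)).symm.trans (sb E28697 D47755))).symm
theorem F291763 : act 4 n20945 = n38859 := (sb E28697 (iv4 F59883))
theorem E30638 : n47756 = n44093 := (((D44093).symm.trans (sb E28697 D47756))).symm
theorem F291764 : act 7 n20945 = n41887 := (sb E28697 (iv7 F64586))
theorem E30640 : n42245 = n10622 := (((D10622).symm.trans (sb E28699 (iv6 D90360)))).symm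
theorem E30646 : n42241 = n10609 := (((D10609).symm.trans (sb E28702 (iv6 D90352)))).symm
theorem F291765 : act 0 n4858 = n9402 := (sb E28704 (iv1 D19941))
theorem F291766 : act 5 n4858 = n9957 := (sb E28704 (iv5 F31767))
theorem E30649 : n21005 = n1967 := ((((iv3 F3285)).symm.trans (sb E28706 (iv3 F33172)))).symm
theorem F291767 : act 1 n40385 = n41991 := (sb E28718 (iv0 D89876))
theorem E30669 : n93362 = n21171 := ((((iv4 F33417)).symm.trans (sb E28719 (iv4 F144000)))).symm
theorem F291768 : act 5 n19848 = n22491 := (sb E28719 (iv5 D46834))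
theorem E30670 : n48102 = n23038 := (((F65545).symm.trans (sb E28720 D48102))).symm
theorem E30671 : n42469 = n10924 := ((D42469).symm.trans (sb E28720 (iv5 D23224)))
theorem F291769 : act 2 n87731 = n41789 := (sb E28721 F137147)
theorem E30672 : n89938 = n87435 := (((iv4 F138137)).symm.trans (sb E28721 F137149))
theorem F291770 : act 6 n87731 = n41781 := (sb E28721 (iv6 D89485))
theorem F291771 : act 0 n41059 = n19781 := (sb E28723 (iv1 F64748))
theorem F291772 : act 1 n41059 = n19780 := (sb E28723 F64749)
theorem F291773 : act 2 n41059 = n19782 := (sb E28723 F64745)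
theorem E30673 : n89829 = n87938 := ((((iv4 F134936)).symm.trans (sb E28723 (iv4 F137875)))).symm
theorem F291774 : act 5 n41059 = n21193 := (sb E28723 F64747)
theorem E30674 : n42005 = n19326 := ((((iv6 D41059)).symm.trans (sb E28723 (iv6 F64831)))).symm
theorem E30675 : n92411 = n19265 := (((F31068).symm.trans (sb E28724 F142120))).symm
theorem E30676 : n40467 = n9016 := ((((iv5 D19190)).symm.trans (sb E28724 F70068))).symm
theorem F291775 : act 6 n19190 = n21193 := (sb E28724 (iv6 D44550))
theorem E30677 : n48094 = n19288 := (((F62262).symm.trans (sb E28724 (iv7 F75567)))).symm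
theorem E30680 : n95368 = n89253 := (((F137671).symm.trans (sb E28726 F148449))).symm
theorem F291776 : act 0 n23365 = n45358 := (sb E28727 (iv1 F71495))
theorem E30681 : n95723 = n48217 := (((D48217).symm.trans (sb E28727 (iv5 F147417)))).symm
theorem F291777 : act 4 n47895 = n96415 := (sb E28731 (iv4 F148426))
theorem E30693 : n103366 = n101441 := ((D103366).symm.trans (sb E28732 (iv4 F156256)))
theorem F291778 : act 5 n45348 = n44956 := (sb E28736 (iv5 D96293))
theorem E30701 : n96585 = n44959 := (((D44959).symm.trans (sb E28737 (iv5 F148791)))).symm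
theorem F291779 : act 4 n22685 = n40688 := (sb E28738 F61797)
theorem E30702 : n87102 = n47147 := (((D47147).symm.trans (sb E28738 D87102))).symm
theorem F291780 : act 6 n22685 = n19127 := (sb E28738 (iv6 D40471))
theorem E30703 : n44704 = n23410 := (((D23410).symm.trans (sb E28739 D44704))).symm
theorem F291781 : act 4 n90382 = n103365 := (sb E28749 (iv4 F158649))
theorem F291782 : act 5 n90382 = n89475 := (sb E28749 F154255)
theorem F291783 : act 7 n90382 = n47475 := (sb E28749 F154256)
theorem F291784 : act 2 n41778 = n42676 := (sb E28750 F139099)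
theorem F291785 : act 5 n41778 = n42254 := (sb E28750 (iv5 D90384))
theorem E30711 : n45652 = n42253 := (((D42253).symm.trans (sb E28751 F144977))).symm
theorem F291786 : act 6 n20386 = n22524 := (sb E28752 (iv6 D46899))
theorem E30715 : n90073 = n44860 := ((F138432).symm.trans (sb E28754 (iv1 D96128)))
theorem E30716 : n181886 = n97433 := ((D181886).symm.trans (sb E28754 (iv5 F150177)))
theorem F291787 : act 6 n86873 = n103365 := (sb E28754 (iv6 F158651))
theorem E30717 : n95356 = n42664 := (((F133282).symm.trans (sb E28754 F147775))).symm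
theorem E30718 : n104723 = n41274 := (((D41274).symm.trans (sb E28755 (iv3 F160424)))).symm
theorem E30720 : n41276 = n23561 := ((D41276).symm.trans (sb E28755 (iv6 D48423)))
theorem E30721 : n41265 = n21713 := ((((iv1 D45498)).symm.trans (sb E28756 F133284))).symm
theorem E30722 : n41270 = n21733 := (((F71750).symm.trans (sb E28756 F133285))).symm
theorem E30723 : n161011 = n97434 := (((D97434).symm.trans (sb E28756 (iv4 F254520)))).symm
theorem F291788 : act 5 n45498 = n40303 := (sb E28756 (iv5 D86874))
theorem E30724 : n181887 = n97435 := (((D97435).symm.trans (sb E28756 D181887))).symm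
theorem E30725 : n95359 = n86896 := (((iv7 F146991)).symm.trans (sb E28756 (iv7 F133323)))
theorem F291789 : act 6 n42059 = n21180 := (sb E28757 (iv6 D44539))
theorem F291790 : act 6 n48413 = n40496 := (sb E28765 (iv6 D87174))
theorem E30736 : n38007 = n36411 := (((D36411).symm.trans (sb E28766 (iv5 D82696)))).symm
theorem E30741 : n44256 = n23162 := ((((iv1 D47999)).symm.trans (sb E28769 F140491))).symm
theorem E30742 : n42793 = n23246 := (((F75401).symm.trans (sb E28769 F140489))).symm
theorem E30743 : n103636 = n42757 := ((D103636).symm.trans (sb E28769 (iv5 D91363)))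
theorem F291791 : act 6 n47999 = n44000 := (sb E28769 F140490)
theorem E30744 : n44265 = n23242 := (((F75402).symm.trans (sb E28769 F140488))).symm
theorem F291792 : act 3 n40972 = n22081 := (sb E28770 F72764)
theorem E30745 : n48114 = n40763 := ((F75598).symm.trans (sb E28770 F72765))
theorem E30746 : n42004 = n19328 := (((F62131).symm.trans (sb E28771 F73746))).symm
theorem E30747 : n87811 = n48113 := ((((iv4 F75593)).symm.trans (sb E28771 (iv4 F134778)))).symm
theorem F291793 : act 6 n40997 = n41786 := (sb E28771 F73747)
theorem F291794 : act 1 n43927 = n23056 := (sb E28772 (iv0 D47885))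
theorem F291795 : act 7 n43927 = n46652 := (sb E28772 (iv7 F75187))
theorem F291796 : act 3 n40994 = n41817 := (sb E28773 F135827)
theorem F291797 : act 5 n40994 = n46652 := (sb E28773 F135829)
theorem F291798 : act 6 n40994 = n41363 := (sb E28773 (iv6 D88622))
theorem E30749 : n86889 = n44629 := ((((iv4 F70170)).symm.trans (sb E28776 (iv4 F133316)))).symm
theorem E30750 : n40677 = n19482 := (((iv6 F61775)).symm.trans (sb E28776 (iv6 D41365)))
theorem E30751 : n40468 = n8937 := (((F30621).symm.trans (sb E28777 F133694))).symm
theorem F291799 : act 6 n37846 = n45791 := (sb E28779 F133686)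
theorem F291800 : act 1 n19725 = n19782 := (sb E28780 F64741)
theorem F291801 : act 2 n19725 = n19781 := (sb E28780 (iv2 F64744))
theorem F291802 : act 7 n19725 = n19780 := (sb E28780 F64742)
theorem F291803 : act 6 n20204 = n19781 := (sb E28782 F64775)
theorem E30753 : n103376 = n94123 := (((D94123).symm.trans (sb E28783 D103376))).symm
theorem E30755 : n48220 = n45360 := ((((iv0 D97036)).symm.trans (sb E28784 F159751))).symm
theorem F291804 : act 4 n97036 = n101390 := (sb E28784 (iv4 F159755))
theorem F291805 : act 5 n97036 = n89872 := (sb E28784 F159753)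
theorem E30756 : n43986 = n23061 := ((((iv1 F75160)).symm.trans (sb E28785 (iv1 F134168)))).symm
theorem E30757 : n43984 = n23046 := ((((iv0 D47877)).symm.trans (sb E28785 F134169))).symm
theorem E30758 : n183125 = n103328 := (((D103328).symm.trans (sb E28785 (iv3 F284737)))).symm
theorem E30759 : n103329 = n48195 := ((D103329).symm.trans (sb E28785 F134167))
theorem F291806 : act 6 n47877 = n89872 := (sb E28785 (iv6 F137961))
theorem E30760 : n91288 = n40624 := (((iv7 F140355)).symm.trans (sb E28785 (iv7 D87414)))
theorem E30761 : n42480 = n41697 := ((D42480).symm.trans (sb E28786 F70230))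
theorem F291807 : act 6 n20053 = n21271 := (sb E28786 (iv6 D44668))
theorem F291808 : act 7 n20053 = n41789 := (sb E28786 F70231)
theorem F291809 : act 0 n21911 = n42474 := (sb E28787 F133574)
theorem F291810 : act 3 n21911 = n20173 := (sb E28787 (iv3 D42727))
theorem F291811 : act 7 n21911 = n42478 := (sb E28787 F66934)
theorem F291812 : act 0 n43849 = n46952 := (sb E28788 (iv1 F142026))
theorem E30763 : n40465 = n20879 := (((F66223).symm.trans (sb E28790 (iv0 D87090)))).symm
theorem E30767 : n40518 = n20861 := ((((iv4 F65817)).symm.trans (sb E28792 F68471))).symm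
theorem E30768 : n41505 = n20610 := (((iv6 F64014)).symm.trans (sb E28792 (iv6 D43568)))
theorem F291813 : act 3 n41993 = n41991 := (sb E28793 (iv3 D89877))
theorem F291814 : act 6 n41993 = n89939 := (sb E28793 (iv6 F138139))
theorem F291815 : act 5 n47189 = n41991 := (sb E28794 (iv5 D89878))
theorem E30769 : n89940 = n41123 := ((D89940).symm.trans (sb E28795 F68736))
theorem E30770 : n47876 = n20605 := (((iv7 F75158)).symm.trans (sb E28795 (tr F68735 E30454)))
theorem F291816 : act 7 n94100 = n97020 := (sb E28796 (iv7 F149648))
theorem E30776 : n23244 = n21395 := ((D23244).symm.trans (sb E28801 (iv3 F33587)))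
theorem E30779 : n10016 = n8996 := (((F17738).symm.trans (sb E28801 (iv6 D21050)))).symm
theorem E30780 : n184138 = n103641 := ((((iv3 F159026)).symm.trans (sb E28802 D184138))).symm
theorem E30782 : n103644 = n41097 := (((iv5 F159035)).symm.trans (sb E28802 F134802))
theorem E30783 : n96439 = n87018 := (((iv6 F148491)).symm.trans (sb E28802 F134800))
theorem E30784 : n103958 = n91273 := ((D103958).symm.trans (sb E28803 F146041))
theorem E30785 : n93033 = n86988 := (((iv7 F143485)).symm.trans (sb E28803 F146042))
theorem E30788 : n103819 = n91274 := (((D91274).symm.trans (sb E28804 (iv4 F159241)))).symm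
theorem F291817 : act 5 n42722 = n23243 := (sb E28804 (iv5 D48128))
theorem F291818 : act 4 n40389 = n20594 := (sb E28805 (iv4 D43531))
theorem E30791 : n93035 = n19083 := ((((iv6 D40389)).symm.trans (sb E28805 D93035))).symm
theorem F291819 : act 7 n40389 = n23243 := (sb E28805 F68406)
theorem F291820 : act 0 n9078 = n9305 := (sb E28807 (iv1 D19812))
theorem E30794 : n42025 = n19327 := (((D19327).symm.trans (sb E28807 D42025))).symm
theorem E30796 : n10280 = n8930 := (((F14155).symm.trans (sb E28807 F64826))).symm
theorem E30797 : n47997 = n40424 := (((iv1 F75395)).symm.trans (sb E28808 F134783))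
theorem E30798 : n181997 = n87873 := (((D87873).symm.trans (sb E28808 (iv3 F283329)))).symm
theorem E30799 : n87874 = n48212 := ((D87874).symm.trans (sb E28808 F133392))
theorem E30800 : n40332 = n40306 := (((F62130).symm.trans (sb E28808 (iv6 D86926)))).symm
theorem E30802 : n9472 = n9199 := (((iv0 F30579)).symm.trans (sb E28810 (iv0 D19544)))
theorem F291821 : act 4 n87030 = n87849 := (sb E28811 F147731)
theorem F291822 : act 0 n43532 = n23056 := (sb E28813 (iv1 D47886))
theorem F291823 : act 2 n43532 = n46652 := (sb E28813 F75177)
theorem F291824 : act 4 n43532 = n42771 := (sb E28813 (iv4 F75180))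
theorem F291825 : act 6 n43532 = n41844 := (sb E28813 (iv6 F75176))
theorem F291826 : act 6 n19537 = n20594 := (sb E28814 (iv6 D43533))
theorem E30806 : n19265 = n9604 := (((D9604).symm.trans (sb E29726 (tr D92411 E30675)))).symm
theorem E30807 : n19288 = n9606 := (((D9606).symm.trans (sb E29726 (tr (iv2 F75564) E30677)))).symm
theorem E30818 : n9043 = n8974 := (((iv6 F66207)).symm.trans (sb E28826 (iv6 D19126)))
theorem E30820 : n182372 = n44822 := (((D44822).symm.trans (sb E28827 (iv3 F283924)))).symm
theorem E30822 : n40461 = n21710 := ((((iv6 F66314)).symm.trans (sb E28827 (iv6 D87080)))).symm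
theorem F291827 : act 6 n19124 = n20812 := (sb E28828 (iv6 F66202))
theorem E30824 : n19141 = n9028 := (((iv7 F30760)).symm.trans (sb E28828 (iv7 D19211)))
theorem F291828 : act 6 n43928 = n91294 := (sb E28832 F141249)
theorem E30827 : n104161 = n44919 := (((D44919).symm.trans (sb E28836 (iv5 F159677)))).symm
theorem E30828 : n44558 = n23320 := ((((iv4 F62945)).symm.trans (sb E28837 (iv4 F70075)))).symm
theorem F291829 : act 5 n22257 = n10965 := (sb E28837 (iv5 D23340))
theorem F291830 : act 6 n22257 = n19832 := (sb E28837 F36459)
theorem E30829 : n104162 = n95296 := ((((iv5 F146941)).symm.trans (sb E28838 (iv5 F159683)))).symm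
theorem F291831 : act 5 n22258 = n42101 := (sb E28839 F138446)
theorem E30831 : n47927 = n43663 := ((((iv5 F69147)).symm.trans (sb E28840 (iv5 F139004)))).symm
theorem E30832 : n186573 = n92646 := (((D92646).symm.trans (sb E28842 (iv3 F289513)))).symm
theorem E30833 : n92647 = n46777 := ((D92647).symm.trans (sb E28842 F136262))
theorem F291832 : act 6 n43341 = n41744 := (sb E28842 F136263)
theorem F291833 : act 2 n90771 = n103641 := (sb E28843 (tr (iv2 F286077) E30780))
theorem F291834 : act 5 n90771 = n99506 := (sb E28843 (iv5 F153268))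
theorem F291835 : act 7 n90771 = n46114 := (sb E28843 (iv7 D98652))
theorem F291836 : act 1 n44870 = n42503 := (sb E28844 F139584)
theorem F291837 : act 4 n44870 = n42444 := (sb E28844 (iv4 D90668))
theorem E30834 : n46926 = n42582 := (((iv5 F74136)).symm.trans (sb E28844 F139582))
theorem F291838 : act 0 n44869 = n42503 := (sb E28845 F139528)
theorem F291839 : act 4 n44869 = n42430 := (sb E28845 (iv4 D90628))
theorem E30836 : n46925 = n42581 := (((iv5 F74133)).symm.trans (sb E28845 F139527))
theorem F291840 : act 5 n46516 = n42503 := (sb E28846 (iv5 D90772))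
theorem F291841 : act 7 n22039 = n42503 := (sb E28847 F138979)
theorem F291842 : act 2 n20064 = n41854 := (sb E28848 F70498)
theorem E30840 : n96157 = n42507 := (((D42507).symm.trans (sb E28848 D96157))).symm
theorem E30841 : n46900 = n42508 := (((D42508).symm.trans (sb E28848 (iv5 F74111)))).symm
theorem F291843 : act 6 n20064 = n41353 := (sb E28848 F70499)
theorem F291844 : act 7 n20064 = n41813 := (sb E28848 F70500)
theorem E30845 : n89778 = n19242 := ((((iv2 F62499)).symm.trans (sb E28850 D89778))).symm
theorem E30846 : n42979 = n4565 := ((((iv6 D10029)).symm.trans (sb E28850 (iv6 F67338)))).symm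
theorem F291845 : act 5 n1900 = n42980 := (sb E28851 D42980)
theorem E30851 : n1951 = n1828 := (((iv6 F3259)).symm.trans (sb E28853 (iv6 D4327)))
theorem E30856 : n91003 = n41656 := ((((iv3 F64281)).symm.trans (sb E28858 (iv3 F140051)))).symm
theorem E30857 : n91004 = n41674 := ((((iv5 F64294)).symm.trans (sb E28858 D91004))).symm
theorem E30858 : n21823 = n20120 := (((iv6 F62613)).symm.trans (sb E28858 (iv6 D42628)))
theorem E30862 : n10558 = n9494 := ((F31367).symm.trans (sb E28863 (iv6 D20124)))
theorem F291846 : act 6 n4295 = n9217 := (sb E28864 (iv6 F14399))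
theorem F291847 : act 5 n90775 = n99381 := (sb E28866 (iv5 F153048))
theorem F291848 : act 7 n90775 = n46082 := (sb E28866 (iv7 D98578))
theorem F291849 : act 5 n46470 = n42505 := (sb E28867 (iv5 D90776))
theorem F291850 : act 7 n22012 = n42505 := (sb E28868 F138987)
theorem E30870 : n100378 = n99320 := ((D100378).symm.trans (sb E28872 (iv5 F152931)))
theorem E30871 : n41536 = n41424 := (((F74035).symm.trans (sb E28872 (iv6 D88965)))).symm
theorem E30874 : n100379 = n47054 := ((((iv4 F74295)).symm.trans (sb E28873 D100379))).symm
theorem F291851 : act 5 n46440 = n22502 := (sb E28873 (iv5 D46847))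
theorem E30875 : n100380 = n99321 := (((D99321).symm.trans (sb E28873 D100380))).symm
theorem E30876 : n9483 = n9204 := ((F31248).symm.trans (sb E28874 (iv0 D19556)))
theorem E30878 : n20613 = n10556 := ((F32706).symm.trans (sb E28874 F62883))
theorem E30880 : n103448 = n92920 := ((((iv4 F143286)).symm.trans (sb E28878 (iv4 F158744)))).symm
theorem F291852 : act 7 n43537 = n46746 := (sb E28878 (iv7 F136369))
theorem E30881 : n93046 = n41498 := ((D93046).symm.trans (sb E28879 (iv6 D88890)))
theorem F291853 : act 6 n19538 = n20595 := (sb E28880 (iv6 D43538))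
theorem F291854 : act 0 n19645 = n20607 := (sb E28882 (iv1 F68049))
theorem F291855 : act 1 n19645 = n20467 := (sb E28882 (iv0 D43340))
theorem E30884 : n92643 = n41750 := ((((iv3 F64389)).symm.trans (sb E28882 D92643))).symm
theorem F291856 : act 4 n19645 = n23234 := (sb E28882 (iv4 F68051))
theorem E30885 : n92644 = n41757 := (((D41757).symm.trans (sb E28882 D92644))).symm
theorem F291857 : act 7 n19645 = n20604 := (sb E28882 F68052)
theorem E30886 : n186460 = n92648 := (((D92648).symm.trans (sb E28883 (iv1 F289396)))).symm
theorem E30887 : n186504 = n92649 := (((D92649).symm.trans (sb E28883 (iv0 F289394)))).symm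
theorem E30888 : n92650 = n87432 := ((D92650).symm.trans (sb E28883 F136599))
theorem E30889 : n99452 = n92651 := (((D92651).symm.trans (sb E28883 (iv5 F153189)))).symm
theorem E30890 : n41546 = n20469 := (((F68045).symm.trans (sb E28883 (iv6 D88990)))).symm
theorem E30891 : n92653 = n22287 := ((D92653).symm.trans (sb E28884 (iv1 D46497)))
theorem E30892 : n90880 = n22631 := (((iv0 F139888)).symm.trans (sb E28884 F73457))
theorem E30893 : n99323 = n92654 := (((D92654).symm.trans (sb E28884 (iv4 F152941)))).symm
theorem E30895 : n20106 = n9220 := (((iv0 F31924)).symm.trans (sb E28885 F62367))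
theorem E30897 : n19891 = n10566 := (((iv7 F31726)).symm.trans (sb E28885 F35487))
theorem F291858 : act 0 n4166 = n4389 := (sb E28887 F16825)
theorem E30900 : n9207 = n1817 := ((D9207).symm.trans (sb E28887 (iv5 D4290)))
theorem F291859 : act 7 n4833 = n4389 := (sb E28889 F14581)
theorem F291860 : act 0 n4202 = n4436 := (sb E28890 (iv1 F6356))
theorem F291861 : act 1 n4202 = n1858 := (sb E28890 (iv0 D4433))
theorem F291862 : act 4 n4202 = n9814 := (sb E28890 D9814)
theorem F291863 : act 7 n4202 = n4434 := (sb E28890 F14873)
theorem E30902 : n9824 = n9312 := (E28891).trans E29400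
theorem E30903 : n9820 = n4959 := ((((iv0 F14496)).symm.trans (sb E30902 F15443))).symm
theorem E30905 : n19822 = n4436 := ((D19822).symm.trans (sb E30902 F15442))
theorem E30908 : n9554 = n1824 := (((F3148).symm.trans (sb E28892 F14917))).symm
theorem E30909 : n9559 = n4988 := (((F14484).symm.trans (sb E28893 F15449))).symm
theorem E30910 : n4717 = n4438 := (((iv7 F14831)).symm.trans (sb E28893 F15450))
theorem E30911 : n93094 = n87435 := (((E30672).symm.trans ((D89938).symm.trans (sb E28894 (iv1 F143581))))).symm
theorem E30914 : n89939 = n20607 := ((D89939).symm.trans (sb E28894 F68448))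
theorem E30915 : n93100 = n41123 := (((E30769).symm.trans ((D89940).symm.trans (sb E28894 (iv5 F143586))))).symm
theorem E30916 : n92101 = n41991 := (((F64892).symm.trans (sb E28894 (iv6 F141679)))).symm
theorem E30917 : n99322 = n92614 := ((((iv4 F142674)).symm.trans (sb E28895 (iv4 F152935)))).symm
theorem E30918 : n99451 = n93110 := (((D93110).symm.trans (sb E28895 D99451))).symm
theorem E30919 : n93111 = n22764 := (((F64793).symm.trans (sb E28896 D93111))).symm
theorem E30920 : n21825 = n20642 := ((F64792).symm.trans (sb E28896 F68453))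
theorem E30923 : n42586 = n22855 := (((D22855).symm.trans (sb E28898 (iv4 F66420)))).symm
theorem F291864 : act 0 n9783 = n9239 := (sb E28899 (iv1 F62654))
theorem F291865 : act 1 n9783 = n9244 := (sb E28899 (iv0 F62655))
theorem F291866 : act 7 n9783 = n19788 := (sb E28899 (iv7 F31558))
theorem E30924 : n10891 = n10023 := ((D10891).symm.trans (sb E28900 (iv4 F15838)))
theorem F291867 : act 6 n4963 = n8947 := (sb E28900 (iv6 F15551))
theorem F291868 : act 0 n22456 = n20796 := (sb E28901 (iv1 D43902))
theorem E30925 : n46790 = n44085 := ((D46790).symm.trans (sb E28901 (iv3 F69433)))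
theorem E30926 : n46791 = n43445 := ((D46791).symm.trans (sb E28901 (iv5 F69028)))
theorem F291869 : act 6 n22456 = n40435 := (sb E28901 (iv6 F69027))
theorem E30933 : n19408 = n9605 := (((D9605).symm.trans (sb E28911 (iv0 F66147)))).symm
theorem E30934 : n20171 = n9504 := ((((iv4 F14759)).symm.trans (sb E28911 (iv4 F31999)))).symm
theorem E30935 : n9607 = n4499 := ((D9607).symm.trans (sb E28911 (iv5 F14774)))
theorem E30936 : n9556 = n4302 := (((iv6 F14909)).symm.trans (sb E28911 (iv6 D9519)))
theorem F291870 : act 6 n1821 = n1829 := (sb E28914 F6194)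
theorem E30945 : n42980 = n1029 := ((((iv1 F1910)).symm.trans (sb E28917 (iv1 D91962)))).symm
theorem F291871 : act 1 n4097 = n5073 := (sb E28921 (iv0 D11094))
theorem F291872 : act 1 n19438 = n22971 := (sb E28922 F138723)
theorem E30954 : n44017 = n43168 := (((iv6 F69261)).symm.trans (sb E28925 (iv6 D92317)))
theorem F291873 : act 6 n20362 = n20765 := (sb E28927 F33062)
theorem E30955 : n19501 = n9938 := ((F32318).symm.trans (sb E28927 (iv7 D20903)))
theorem F291874 : act 1 n4526 = n9252 := (sb E28929 (iv0 F14449))
theorem F291875 : act 5 n4526 = n4129 := (sb E28929 (iv5 D9174))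
theorem F291876 : act 7 n4526 = n9649 := (sb E28929 (iv7 F17509))
theorem E30956 : n4344 = n1879 := (((iv1 F6258)).symm.trans (sb E28930 (iv1 F3166)))
theorem E30957 : n4338 = n974 := (((iv0 F6244)).symm.trans (sb E28930 (iv0 D1877)))
theorem E30958 : n1949 = n1861 := ((F14791).symm.trans (sb E28931 F6224))
theorem F291877 : act 5 n1878 = n1829 := (sb E28931 (iv5 D4329))
theorem F291878 : act 7 n1878 = n1860 := (sb E28931 F6225)
theorem E30964 : n43181 = n9652 := (E30476).trans E30477
theorem E30968 : n104027 = n42216 := (((D42216).symm.trans (sb E28941 (iv1 F159519)))).symm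
theorem E30970 : n104012 = n42218 := (((D42218).symm.trans (sb E28941 (iv4 F159473)))).symm
theorem F291879 : act 1 n4898 = n9402 := (sb E28943 (iv0 D19940))
theorem E30971 : n42240 = n10695 := ((((iv4 F17233)).symm.trans (sb E28943 D42240))).symm
theorem F291880 : act 6 n4898 = n9758 := (sb E28943 F31765)
theorem E30972 : n42244 = n10734 := ((D42244).symm.trans (sb E28944 F62712))
theorem E30973 : n46474 = n42246 := (((D42246).symm.trans (sb E28944 D46474))).symm
theorem E30974 : n46475 = n42247 := (((D42247).symm.trans (sb E28944 D46475))).symm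
theorem E30978 : n4311 = n2052 := (((F3348).symm.trans (sb E28947 F6197))).symm
theorem E30979 : n43690 = n1824 := ((F291733).symm.trans (sb E28947 F6196))
theorem E30992 : n43301 = n22848 := ((((iv1 F35415)).symm.trans (sb E28957 (iv1 F138293)))).symm
theorem E30995 : n48342 = n4927 := ((F291725).symm.trans (sb E28959 (iv1 D10801)))
theorem E30996 : n48343 = n10636 := ((F291726).symm.trans (sb E28959 F17326))
theorem F291881 : act 7 n9507 = n10796 := (sb E28959 F35469)
theorem E30998 : n102936 = n43457 := ((((iv3 F68314)).symm.trans (sb E28962 (iv3 F158228)))).symm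
theorem E30999 : n102944 = n43460 := (((D43460).symm.trans (sb E28962 (iv5 F158235)))).symm
theorem F291882 : act 7 n20546 = n22971 := (sb E28962 (iv7 D47738))
theorem E31002 : n91019 = n89029 := ((((iv2 F136696)).symm.trans (sb E28965 (iv2 F140067)))).symm
theorem E31004 : n22138 = n20122 := ((F64183).symm.trans (sb E28965 (iv6 D42636)))
theorem E31005 : n94386 = n90990 := (((D90990).symm.trans (sb E28966 D94386))).symm
theorem E31006 : n94387 = n90991 := (((D90991).symm.trans (sb E28966 D94387))).symm
theorem E31007 : n94388 = n90992 := (((D90992).symm.trans (sb E28966 D94388))).symm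
theorem F291883 : act 6 n42621 = n43935 := (sb E28966 F69457)
theorem F291884 : act 1 n9492 = n10355 := (sb E28967 F62688)
theorem F291885 : act 6 n9492 = n19580 := (sb E28967 (iv6 F31345))
theorem E31008 : n87222 = n19621 := (((F64307).symm.trans (sb E28968 F284281))).symm
theorem F291886 : act 0 n42568 = n20582 := (sb E28971 (iv1 F67807))
theorem F291887 : act 1 n42568 = n20457 := (sb E28971 F67808)
theorem F291888 : act 3 n42568 = n40973 := (sb E28971 F67804)
theorem E31009 : n22298 = n20096 := ((((iv4 D42568)).symm.trans (sb E28971 F67805))).symm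
theorem F291889 : act 6 n42568 = n22611 := (sb E28971 F67806)
theorem F291890 : act 4 n90319 = n46969 := (sb E28974 F153061)
theorem F291891 : act 5 n90319 = n46472 := (sb E28974 (iv5 D99387))
theorem F291892 : act 5 n90320 = n46923 := (sb E28976 F153111)
theorem E31012 : n101175 = n90686 := (((D90686).symm.trans (sb E28977 (iv3 F155871)))).symm
theorem E31014 : n90687 = n22671 := ((D90687).symm.trans (sb E28977 (iv5 D47122)))
theorem E31018 : n23076 = n20658 := ((((iv6 F62733)).symm.trans (sb E28978 (iv6 D47917)))).symm
theorem F291893 : act 5 n40971 = n22354 := (sb E28979 F73691)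
theorem F291894 : act 0 n42546 = n22258 := (sb E28980 (iv1 F68616))
theorem F291895 : act 1 n42546 = n22257 := (sb E28980 (iv0 F68615))
theorem F291896 : act 3 n42546 = n22479 := (sb E28980 F68612)
theorem F291897 : act 6 n42546 = n22354 := (sb E28980 F68613)
theorem E31024 : n10852 = n9791 := ((D10852).symm.trans (sb E28988 (iv5 D20656)))
theorem E31026 : n93465 = n47774 := (((D47774).symm.trans (sb E28989 (iv1 F144192)))).symm
theorem E31027 : n91707 = n45463 := ((((iv0 F71715)).symm.trans (sb E28989 F143934))).symm
theorem E31028 : n93442 = n47775 := (((D47775).symm.trans (sb E28989 (iv4 F144143)))).symm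
theorem E31037 : n93466 = n47858 := ((((iv4 F75131)).symm.trans (sb E28993 D93466))).symm
theorem F291898 : act 0 n87937 = n42477 := (sb E28995 (iv1 D90726))
theorem F291899 : act 1 n87937 = n47772 := (sb E28995 F139645)
theorem F291900 : act 7 n87937 = n47834 := (sb E28995 F139646)
theorem F291901 : act 1 n23017 = n43736 := (sb E28996 F144014)
theorem F291902 : act 6 n10258 = n9333 := (sb E28999 F31481)
theorem F291903 : act 0 n44694 = n48290 := (sb E29000 (iv1 F156264))
theorem F291904 : act 1 n44694 = n47210 := (sb E29000 (iv0 D101451))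
theorem E31044 : n95694 = n48240 := ((D95694).symm.trans (sb E29000 F156262))
theorem F291905 : act 0 n97015 = n47210 := (sb E29001 (iv1 D101452))
theorem F291906 : act 1 n97015 = n48290 := (sb E29001 F156265)
theorem E31045 : n95721 = n48259 := ((F149636).symm.trans (sb E29001 F156266))
theorem F291907 : act 6 n45012 = n42062 := (sb E29003 F137648)
theorem E31046 : n21357 = n19467 := (((iv6 F63196)).symm.trans (sb E29005 F36610))
theorem E31047 : n42081 = n23624 := (((iv1 F64990)).symm.trans (sb E29007 F70419))
theorem E31048 : n42080 = n23623 := ((F64985).symm.trans (sb E29007 F70420))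
theorem E31049 : n93990 = n88450 := (((D88450).symm.trans (sb E29007 (iv5 F144809)))).symm
theorem F291908 : act 6 n41288 = n23520 := (sb E29007 F70417)
theorem E31050 : n42082 = n23611 := (((iv7 F64988)).symm.trans (sb E29007 F70418))
theorem E31057 : n48361 = n4976 := ((((iv6 D10927)).symm.trans (sb E29023 D48361))).symm
theorem E31059 : n48354 = n23539 := (((D23539).symm.trans (sb E29024 D48354))).symm
theorem F291909 : act 6 n11037 = n48356 := (sb E29024 D48356)
theorem E31061 : n19847 = n11064 := (((D11064).symm.trans (sb E29025 F64728))).symm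
theorem E31075 : n19845 = n10184 := (((F63250).symm.trans (sb E29041 D19845))).symm
theorem E31076 : n19846 = n10189 := (((F63251).symm.trans (sb E29041 D19846))).symm
theorem E31087 : n19465 = n10868 := ((D19465).symm.trans (sb E29044 (iv1 F63192)))
theorem E31088 : n21240 = n19466 := (((D19466).symm.trans (sb E29044 (iv0 F63189)))).symm
theorem F291910 : act 5 n9143 = n5046 := (sb E29044 F17906)
theorem F291911 : act 6 n9143 = n5029 := (sb E29044 (iv6 D11040))
theorem F291912 : act 7 n9143 = n5046 := (sb E29044 F17907)
theorem F291913 : act 3 n48417 = n48291 := (sb E29048 F159966)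
theorem E31089 : n95981 = n88454 := (((iv5 F147615)).symm.trans (sb E29048 F159967))
theorem F291914 : act 3 n11069 = n9337 := (sb E29051 (iv3 D19843))
theorem E31091 : n42083 = n23625 := (((D23625).symm.trans (sb E29051 D42083))).symm
theorem F291915 : act 7 n11069 = n19420 := (sb E29051 F31656)
theorem F291916 : act 1 n23018 = n19420 := (sb E29052 (iv0 D41286))
theorem E31092 : n88444 = n47833 := ((((iv3 F75115)).symm.trans (sb E29052 D88444))).symm
theorem E31093 : n43015 = n42475 := ((((iv4 F65622)).symm.trans (sb E29052 (iv4 F67376)))).symm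
theorem E31094 : n88445 = n44626 := ((((iv5 F70163)).symm.trans (sb E29052 D88445))).symm
theorem E31096 : n93993 = n88447 := (((D88447).symm.trans (sb E29053 D93993))).symm
theorem E31097 : n42047 = n20816 := (((iv4 F64927)).symm.trans (sb E29053 (iv4 D43931)))
theorem E31098 : n88448 = n44625 := ((D88448).symm.trans (sb E29053 (iv5 F70157)))
theorem E31099 : n88449 = n47644 := ((D88449).symm.trans (sb E29053 F290600))
theorem E31100 : n88451 = n21329 := ((D88451).symm.trans (sb E29054 (iv1 D44791)))
theorem E31101 : n88452 = n21333 := ((D88452).symm.trans (sb E29054 F70369))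
theorem E31102 : n95980 = n88453 := (((D88453).symm.trans (sb E29054 D95980))).symm
theorem F291917 : act 7 n95674 = n48271 := (sb E29055 F159789)
theorem E31103 : n93452 = n47781 := (((D47781).symm.trans (sb E29056 D93452))).symm
theorem E31106 : n23675 = n19089 := (((D19089).symm.trans (sb E29058 F75608))).symm
theorem E31107 : n87022 = n47783 := (((D47783).symm.trans (sb E29059 (iv4 F133565)))).symm
theorem F291918 : act 4 n103358 = n95381 := (sb E29061 F159784)
theorem F291919 : act 2 n95675 = n48271 := (sb E29062 F159786)
theorem F291920 : act 0 n48123 = n87016 := (sb E29064 F145023)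
theorem F291921 : act 1 n48123 = n44845 := (sb E29064 F145024)
theorem F291922 : act 2 n48123 = n44004 := (sb E29064 F145019)
theorem E31108 : n103944 = n87745 := ((D103944).symm.trans (sb E29064 F145022))
theorem E31109 : n44279 = n23240 := ((((iv6 D48123)).symm.trans (sb E29064 F145020))).symm
theorem F291923 : act 7 n48123 = n44005 := (sb E29064 F145021)
theorem F291924 : act 5 n10929 = n20173 := (sb E29065 F66337)
theorem E31111 : n42954 = n21239 := (((D21239).symm.trans (sb E29067 D42954))).symm
theorem F291925 : act 6 n10147 = n20173 := (sb E29067 (iv6 F66339))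
theorem F291926 : act 4 n5015 = n5073 := (sb E29069 F17981)
theorem E31117 : n10023 = n4990 := ((F15839).symm.trans (sb E29070 (iv6 D10953)))
theorem F291927 : act 6 n4630 = n5015 := (sb E29071 (iv6 D11010))
theorem F291928 : act 0 n21633 = n19271 := (sb E29074 F66874)
theorem F291929 : act 2 n21633 = n10984 := (sb E29074 F66577)
theorem F291930 : act 7 n21633 = n10979 := (sb E29074 F66578)
theorem F291931 : act 6 n4221 = n5047 := (sb E29089 (iv6 D11076))
theorem E31137 : n104808 = n42087 := ((D104808).symm.trans (sb E29098 F137745))
theorem E31138 : n104810 = n42086 := (((D42086).symm.trans (sb E29099 D104810))).symm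
theorem E31140 : n103783 = n88428 := (((D88428).symm.trans (sb E29100 D103783))).symm
theorem E31142 : n46897 = n42167 := ((((iv4 F65098)).symm.trans (sb E29100 F75506))).symm
theorem E31143 : n96572 = n88430 := (((D88430).symm.trans (sb E29100 (iv5 F148747)))).symm
theorem E31144 : n88431 = n23183 := ((D88431).symm.trans (sb E29100 (iv6 D48050)))
theorem E31145 : n21697 = n20283 := (((F63603).symm.trans (sb E29101 F70995))).symm
theorem F291932 : act 2 n41281 = n21695 := (sb E29101 F70997)
theorem E31146 : n96573 = n78534 := ((((iv4 F119712)).symm.trans (sb E29101 D96573))).symm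
theorem E31147 : n96574 = n88432 := (((D88432).symm.trans (sb E29101 D96574))).symm
theorem F291933 : act 7 n41281 = n21694 := (sb E29101 (iv7 F71005))
theorem F291934 : act 6 n10914 = n19418 := (sb E29102 (iv6 D41282))
theorem F291935 : act 2 n41284 = n21694 := (sb E29103 F71004)
theorem E31148 : n96570 = n77261 := ((((iv4 F116025)).symm.trans (sb E29103 D96570))).symm
theorem E31149 : n96571 = n88439 := (((D88439).symm.trans (sb E29103 D96571))).symm
theorem F291936 : act 7 n41284 = n21695 := (sb E29103 F71003)
theorem F291937 : act 6 n23535 = n19419 := (sb E29104 (iv6 D41285))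
theorem F291938 : act 0 n21688 = n42063 := (sb E29105 (iv1 F64948))
theorem F291939 : act 1 n21688 = n19421 := (sb E29105 (iv0 D41290))
theorem F291940 : act 2 n21688 = n42085 := (sb E29105 F65001)
theorem E31150 : n88455 = n45455 := ((((iv3 F71709)).symm.trans (sb E29105 D88455))).symm
theorem E31151 : n86722 = n45459 := (((D45459).symm.trans (sb E29105 (iv4 F133008)))).symm
theorem E31152 : n20254 = n10350 := ((((iv5 D21688)).symm.trans (sb E29105 F63609))).symm
theorem E31153 : n88456 = n45460 := (((D45460).symm.trans (sb E29105 D88456))).symm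
theorem F291941 : act 7 n21688 = n42084 := (sb E29105 F64997)
theorem F291942 : act 0 n21692 = n19421 := (sb E29106 (iv1 D41291))
theorem F291943 : act 1 n21692 = n42063 := (sb E29106 (iv0 F64947))
theorem F291944 : act 2 n21692 = n42084 := (sb E29106 F64996)
theorem E31154 : n88457 = n45467 := ((((iv3 F71719)).symm.trans (sb E29106 D88457))).symm
theorem E31155 : n86720 = n45469 := (((D45469).symm.trans (sb E29106 (iv4 F133005)))).symm
theorem E31156 : n88458 = n45470 := (((D45470).symm.trans (sb E29106 D88458))).symm
theorem F291945 : act 7 n21692 = n42085 := (sb E29106 (iv7 F64999))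
theorem E31157 : n78612 = n45499 := (((iv1 F119788)).symm.trans (sb E29107 F150075))
theorem E31158 : n78611 = n45522 := ((F119785).symm.trans (sb E29107 F150076))
theorem E31159 : n104777 = n87290 := ((D104777).symm.trans (sb E29108 (iv1 F138246)))
theorem E31160 : n104778 = n87289 := ((D104778).symm.trans (sb E29108 F138244))
theorem F291946 : act 2 n48444 = n42062 := (sb E29108 (iv2 D89995))
theorem F291947 : act 7 n48444 = n87291 := (sb E29108 F138243)
theorem E31170 : n97509 = n42060 := (((D42060).symm.trans (sb E29115 D97509))).symm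
theorem E31171 : n96953 = n42061 := (((D42061).symm.trans (sb E29115 (iv5 F149524)))).symm
theorem E31172 : n23361 = n23156 := (((iv6 F36485)).symm.trans (sb E29115 F71824))
theorem E31175 : n21745 = n9330 := ((((iv4 F14520)).symm.trans (sb E29116 D21745))).symm
theorem F291948 : act 5 n10904 = n4999 := (sb E29117 (iv5 D10971))
theorem F291949 : act 6 n10904 = n9332 := (sb E29117 F17825)
theorem E31178 : n20194 = n4976 := (((F62807).symm.trans (sb E29117 F66056))).symm
theorem E31179 : n96952 = n42073 := (((D42073).symm.trans (sb E29118 (iv5 F149513)))).symm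
theorem E31180 : n42074 = n23539 := ((D42074).symm.trans (sb E29118 F71817))
theorem E31183 : n48356 = n9336 := ((F291909).symm.trans (sb E29120 (iv6 D19841)))
theorem E31190 : n42884 = n21696 := (((D21696).symm.trans (sb E29125 D42884))).symm
theorem E31191 : n42885 = n21683 := ((((iv6 F34141)).symm.trans (sb E29125 D42885))).symm
theorem F291950 : act 0 n42932 = n21695 := (sb E29126 (iv1 F71002))
theorem F291951 : act 1 n42932 = n21694 := (sb E29126 F71006)
theorem E31192 : n96548 = n91842 := ((((iv3 F141179)).symm.trans (sb E29126 (iv3 F148711)))).symm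
theorem E31194 : n96580 = n91844 := (((D91844).symm.trans (sb E29126 D96580))).symm
theorem E31195 : n157769 = n87476 := ((((iv1 F134292)).symm.trans (sb E29127 (iv1 F248660)))).symm
theorem E31196 : n166567 = n97371 := (((F150113).symm.trans (sb E29127 D166567))).symm
theorem E31197 : n166565 = n97383 := (((D97383).symm.trans (sb E29127 (iv3 F262098)))).symm
theorem E31198 : n97384 = n36414 := ((D97384).symm.trans (sb E29127 (iv5 D79943)))
theorem E31199 : n166568 = n97385 := (((D97385).symm.trans (sb E29127 D166568))).symm
theorem E31200 : n186073 = n97386 := (((D97386).symm.trans (sb E29128 D186073))).symm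
theorem E31201 : n186074 = n97387 := (((D97387).symm.trans (sb E29128 D186074))).symm
theorem E31202 : n186075 = n97388 := (((D97388).symm.trans (sb E29128 D186075))).symm
theorem E31205 : n183766 = n90386 := ((((iv4 F139102)).symm.trans (sb E29131 (iv4 F285550)))).symm
theorem F291952 : act 6 n90032 = n47794 := (sb E29131 (iv6 D103095))
theorem F291953 : act 5 n90033 = n97367 := (sb E29132 F287761)
theorem F291954 : act 6 n90033 = n104708 := (sb E29132 F287759)
theorem E31206 : n88363 = n43021 := (((F67941).symm.trans (sb E29133 F152562))).symm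
theorem E31207 : n92544 = n88356 := ((D92544).symm.trans (sb E29133 F154571))
theorem E31208 : n92546 = n46325 := ((D92546).symm.trans (sb E29133 (iv5 D99027)))
theorem E31209 : n92547 = n47550 := ((D92547).symm.trans (sb E29133 (iv6 F152559)))
theorem F291955 : act 5 n45471 = n42077 := (sb E29134 (iv5 D90034))
theorem F291956 : act 6 n48412 = n42077 := (sb E29135 (iv6 D90035))
theorem E31210 : n166578 = n97372 := (((D97372).symm.trans (sb E29136 (iv3 F262137)))).symm
theorem E31211 : n97373 = n36417 := ((D97373).symm.trans (sb E29136 (iv5 D79950)))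
theorem E31212 : n166580 = n97374 := (((D97374).symm.trans (sb E29136 D166580))).symm
theorem F291957 : act 6 n19842 = n23547 := (sb E29139 (iv6 F291201))
theorem F291958 : act 1 n20281 = n10279 := (sb E29143 (iv0 F33141))
theorem F291959 : act 6 n20281 = n42015 := (sb E29143 (iv6 F64857))
theorem F291960 : act 7 n20281 = n10351 := (sb E29143 F35947)
theorem F291961 : act 5 n90055 = n47853 := (sb E29144 F145516)
theorem E31215 : n45086 = n42935 := (((F138378).symm.trans (sb E29145 (iv5 D96566)))).symm
theorem F291962 : act 0 n20280 = n10279 := (sb E29147 (iv1 D21524))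
theorem F291963 : act 2 n20280 = n10351 := (sb E29147 F35948)
theorem F291964 : act 6 n20280 = n42020 := (sb E29147 (iv6 F64869))
theorem F291965 : act 5 n90053 = n48393 := (sb E29148 F148741)
theorem F291966 : act 0 n89996 = n95509 := (sb E29149 (iv1 F289702))
theorem F291967 : act 1 n89996 = n95505 := (sb E29149 (iv0 F289701))
theorem F291968 : act 2 n89996 = n95977 := (sb E29149 F150070)
theorem F291969 : act 5 n89997 = n96407 := (sb E29151 F150074)
theorem E31220 : n9611 = n2065 := ((((iv7 F7468)).symm.trans (sb E29162 (iv7 F67443)))).symm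
theorem E31227 : n42943 = n9597 := (E29169).trans E29172
theorem E31231 : n20291 = n4325 := ((((iv4 D9597)).symm.trans (sb E31227 F67300))).symm
theorem F291970 : act 6 n9597 = n20282 := (sb E31227 (iv6 D42943))
theorem E31233 : n4695 = n4325 := (((iv6 F6794)).symm.trans (sb E29171 (iv6 D9598)))
theorem E31234 : n20282 = n10180 := ((D20282).symm.trans (sb E29172 F16478))
theorem E31237 : n91866 = n44816 := (((iv3 F141237)).symm.trans (sb E29173 F71726))
theorem F291971 : act 5 n42945 = n44816 := (sb E29173 F71727)
theorem E31239 : n97310 = n91876 := (((D91876).symm.trans (sb E29173 (iv7 F150049)))).symm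
theorem F291972 : act 5 n1020 = n1856 := (sb E29180 (iv5 D4426))
theorem E31246 : n10874 = n9789 := (((D9789).symm.trans (sb E29181 D10874))).symm
theorem E31247 : n10876 = n9792 := (((D9792).symm.trans (sb E29181 D10876))).symm
theorem F291973 : act 5 n4424 = n2039 := (sb E29181 (iv5 D4954))
theorem F291974 : act 6 n4424 = n4003 := (sb E29181 F7374)
theorem E31249 : n88071 = n47849 := (((D47849).symm.trans (sb E29183 (iv4 F144027)))).symm
theorem E31250 : n87927 = n47854 := (((D47854).symm.trans (sb E29185 F144029))).symm
theorem E31251 : n87952 = n47855 := (((D47855).symm.trans (sb E29185 F144030))).symm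
theorem E31252 : n87932 = n47857 := (((D47857).symm.trans (sb E29185 F144028))).symm
theorem F291975 : act 5 n9077 = n10853 := (sb E29193 F36058)
theorem F291976 : act 4 n93351 = n47776 := (sb E29195 F158301)
theorem F291977 : act 0 n93527 = n47871 := (sb E29199 F158467)
theorem F291978 : act 1 n93527 = n47896 := (sb E29199 F158468)
theorem F291979 : act 3 n93528 = n91399 := (sb E29200 (tr (iv3 F159218) E29741))
theorem F291980 : act 5 n93528 = n103681 := (sb E29200 (iv5 F159118))
theorem F291981 : act 0 n41520 = n42658 := (sb E29201 (iv1 D91078))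
theorem F291982 : act 1 n23035 = n37862 := (sb E29204 F70485)
theorem F291983 : act 6 n23035 = n20416 := (sb E29204 (iv6 D43260))
theorem E31265 : n19122 = n3985 := ((((iv3 F7018)).symm.trans (sb E29207 F61542))).symm
theorem E31267 : n19118 = n8582 := (((D8582).symm.trans (sb E29207 (iv6 D40450)))).symm
theorem E31272 : n4844 = n1891 := (((D1891).symm.trans (sb E29211 (iv6 D10595)))).symm
theorem E31280 : n93171 = n10551 := (((F34541).symm.trans (sb E29220 F289128))).symm
theorem E31281 : n88769 = n46134 := (((D46134).symm.trans (sb E29220 (iv6 D186348)))).symm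
theorem E31286 : n20623 = n10553 := (((D10553).symm.trans (sb E29221 (iv6 D43596)))).symm
theorem E31287 : n88767 = n46137 := (((D46137).symm.trans (sb E29223 D88767))).symm
theorem E31288 : n88768 = n46138 := (((D46138).symm.trans (sb E29223 D88768))).symm
theorem F291984 : act 7 n22071 = n42621 := (sb E29223 (iv7 F66452))
theorem E31290 : n9996 = n1988 := (((D1988).symm.trans (sb E29225 (iv6 D21015)))).symm
theorem F291985 : act 5 n4816 = n9405 := (sb E29226 (iv5 F16856))
theorem F291986 : act 7 n4816 = n9492 := (sb E29226 (iv7 F16958))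
theorem E31293 : n104867 = n41696 := (((D41696).symm.trans (sb E29231 D104867))).symm
theorem F291987 : act 0 n89207 = n95379 := (sb E29233 F160432)
theorem F291988 : act 4 n43978 = n42474 := (sb E29234 (iv4 D90721))
theorem E31296 : n47926 = n43662 := (((F69137).symm.trans (sb E29234 F139629))).symm
theorem F291989 : act 4 n41975 = n45791 := (sb E29235 F140608)
theorem F291990 : act 2 n42479 = n21911 := (sb E29236 F72231)
theorem F291991 : act 3 n42479 = n41573 := (sb E29236 F72232)
theorem E31297 : n86943 = n47878 := (((F75162).symm.trans (sb E29236 (iv4 F133439)))).symm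
theorem F291992 : act 6 n42479 = n21883 := (sb E29236 (iv6 D45769))
theorem F291993 : act 7 n42479 = n89496 := (sb E29236 (iv7 F137190))
theorem F291994 : act 0 n92634 = n103451 := (sb E29239 (iv1 F158758))
theorem F291995 : act 1 n92634 = n103464 := (sb E29239 (iv0 F158790))
theorem F291996 : act 5 n92634 = n46441 := (sb E29239 (iv5 D99325))
theorem F291997 : act 0 n92625 = n103464 := (sb E29242 (iv1 F158791))
theorem F291998 : act 1 n92625 = n103451 := (sb E29242 (iv0 F158757))
theorem F291999 : act 5 n92625 = n46771 := (sb E29242 F152990)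
theorem F292000 : act 5 n92626 = n88621 := (sb E29243 F152993)
theorem E31298 : n100985 = n92881 := (((D92881).symm.trans (sb E29244 (iv3 F155599)))).symm
theorem E31299 : n92882 = n22630 := ((D92882).symm.trans (sb E29244 (iv5 D47056)))
theorem E31301 : n99456 = n92856 := (((D92856).symm.trans (sb E29245 F158210))).symm
theorem F292001 : act 5 n92975 = n46747 := (sb E29246 (iv5 D100159))
theorem F292002 : act 1 n89036 = n42538 := (sb E29253 (iv0 D90825))
theorem F292003 : act 2 n90826 = n100450 := (sb E29254 (iv2 F283724))
theorem F292004 : act 3 n90826 = n87030 := (sb E29254 (iv3 D182275))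
theorem F292005 : act 4 n90826 = n90682 := (sb E29254 F283719)
theorem F292006 : act 5 n90826 = n100398 := (sb E29254 F283720)
theorem F292007 : act 6 n90826 = n185382 := (sb E29254 F287620)
theorem F292008 : act 7 n90826 = n87572 := (sb E29254 F283721)
theorem F292009 : act 0 n90827 = n87572 := (sb E29255 (iv1 D183468))
theorem F292010 : act 1 n90827 = n100450 := (sb E29255 F285222)
theorem F292011 : act 0 n90828 = n46872 := (sb E29256 (iv1 D100440))
theorem F292012 : act 1 n90828 = n46874 := (sb E29256 F154496)
theorem F292013 : act 6 n88883 = n42538 := (sb E29257 (iv6 D90829))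
theorem E31307 : n40512 = n4057 := (((F14072).symm.trans (sb E29260 (iv0 D87208)))).symm
theorem F292014 : act 2 n43911 = n46952 := (sb E29276 F75705)
theorem E31335 : n44085 = n23307 := ((F69432).symm.trans (sb E29276 (iv6 D48164)))
theorem F292015 : act 0 n10952 = n9957 := (sb E29277 (iv1 D20976))
theorem F292016 : act 6 n10952 = n20844 := (sb E29277 (iv6 F33156))
theorem F292017 : act 7 n43252 = n46952 := (sb E29278 F137370)
theorem E31336 : n44950 = n40705 := (((iv3 F70660)).symm.trans (sb E29279 F72965))
theorem F292018 : act 4 n22478 = n22147 := (sb E29279 F72966)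
theorem E31337 : n22145 = n19509 := (((F35025).symm.trans (sb E29279 (iv6 D46311)))).symm
theorem F292019 : act 6 n22503 = n43516 := (sb E29280 F127418)
theorem F292020 : act 6 n40401 = n42444 := (sb E29282 F76380)
theorem F292021 : act 6 n19643 = n23234 := (sb E29283 (iv6 D48112))
theorem E31339 : n43581 = n21999 := ((((iv3 F34497)).symm.trans (sb E29285 (iv3 F68498)))).symm
theorem E31340 : n43585 = n22021 := ((((iv5 F34504)).symm.trans (sb E29285 D43585))).symm
theorem E31341 : n19559 = n9771 := (((iv6 F31314)).symm.trans (sb E29285 (iv6 D20617)))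
theorem E31342 : n40505 = n19186 := ((((iv4 F30826)).symm.trans (sb E29288 (iv4 F61625)))).symm
theorem E31343 : n10013 = n8994 := ((F62590).symm.trans (sb E29288 (iv6 D19140)))
theorem F292022 : act 6 n9493 = n19156 := (sb E29289 (iv6 F30778))
theorem F292023 : act 2 n87919 = n47877 := (sb E29290 (iv2 F158318))
theorem E31346 : n46457 = n42548 := ((((iv1 F74002)).symm.trans (sb E29291 F74013))).symm
theorem F292024 : act 3 n43220 = n22500 := (sb E29291 (iv3 D46842))
theorem E31347 : n44657 = n41060 := (((iv4 F70206)).symm.trans (sb E29291 F74014))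
theorem F292025 : act 5 n43220 = n89496 := (sb E29291 (iv5 F137191))
theorem F292026 : act 2 n20603 = n19645 := (sb E29294 F63936)
theorem E31350 : n88860 = n43548 := (((D43548).symm.trans (sb E29294 (iv3 F136256)))).symm
theorem E31351 : n47932 = n43549 := (((D43549).symm.trans (sb E29294 (iv5 F75251)))).symm
theorem F292027 : act 7 n92907 = n100250 := (sb E29296 F158776)
theorem F292028 : act 5 n22477 = n22611 := (sb E29299 F74271)
theorem F292029 : act 5 n4077 = n4975 := (sb E29300 (iv5 D10921))
theorem F292030 : act 0 n20589 = n10661 := (sb E29302 (iv1 F34710))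
theorem F292031 : act 1 n20589 = n10660 := (sb E29302 F34711)
theorem E31356 : n46442 = n43527 := (((D43527).symm.trans (sb E29302 (iv5 F73307)))).symm
theorem F292032 : act 7 n20589 = n10604 := (sb E29302 (iv7 D22243))
theorem E31359 : n100367 = n47053 := ((D100367).symm.trans (sb E29304 (iv5 D100977)))
theorem F292033 : act 2 n92851 = n103451 := (sb E29305 (iv2 F158754))
theorem F292034 : act 5 n92851 = n46778 := (sb E29305 F154157)
theorem F292035 : act 7 n92851 = n103464 := (sb E29305 (iv7 F158789))
theorem F292036 : act 2 n92849 = n103464 := (sb E29306 (iv2 F158787))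
theorem F292037 : act 5 n92849 = n46786 := (sb E29306 F154161)
theorem F292038 : act 7 n92849 = n103451 := (sb E29306 (iv7 F158755))
theorem F292039 : act 5 n93019 = n46769 := (sb E29307 (iv5 D100217))
theorem E31360 : n46767 = n43474 := ((D46767).symm.trans (sb E29308 (iv1 D92928)))
theorem E31361 : n46768 = n43561 := ((D46768).symm.trans (sb E29308 F143295))
theorem F292040 : act 5 n22420 = n43522 := (sb E29308 F143296)
theorem F292041 : act 5 n92966 = n88711 := (sb E29316 F154318)
theorem F292042 : act 2 n92927 = n46771 := (sb E29318 F152946)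
theorem F292043 : act 7 n92927 = n46441 := (sb E29318 (iv7 D99326))
theorem F292044 : act 5 n92980 = n186433 := (sb E29321 (iv5 F289229))
theorem F292045 : act 5 n92982 = n88720 := (sb E29322 F154324)
theorem F292046 : act 5 n20984 = n22959 := (sb E29330 (iv5 F36018))
theorem F292047 : act 1 n87023 = n46658 := (sb E29333 F137428)
theorem F292048 : act 0 n20089 = n10707 := (sb E29334 (iv1 F34757))
theorem F292049 : act 1 n20089 = n10706 := (sb E29334 F34758)
theorem F292050 : act 2 n20089 = n10709 := (sb E29334 F34754)
theorem F292051 : act 4 n90851 = n93521 := (sb E29335 F153101)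
theorem F292052 : act 1 n89205 = n95379 := (sb E29341 F160436)
theorem F292053 : act 7 n89235 = n95379 := (sb E29343 F148418)
theorem F292054 : act 0 n48488 = n41693 := (sb E29344 (iv1 D89236))
theorem E31376 : n104498 = n41738 := (((iv3 F160164)).symm.trans (sb E29344 F136962))
theorem F292055 : act 7 n48488 = n42763 := (sb E29344 F136960)
theorem E31387 : n48117 = n40326 := ((((iv1 F133356)).symm.trans (sb E29351 (iv1 D103933)))).symm
theorem F292056 : act 4 n41976 = n41844 := (sb E29359 (iv4 D89593))
theorem F292057 : act 6 n41976 = n42771 := (sb E29359 F137354)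
theorem F292058 : act 0 n87944 = n41988 := (sb E29361 (iv1 F137953))
theorem F292059 : act 2 n87944 = n44857 := (sb E29361 (iv2 F137952))
theorem E31398 : n184396 = n44540 := ((D184396).symm.trans (sb E29361 F137951))
theorem E31399 : n89933 = n41061 := ((((iv6 D87944)).symm.trans (sb E29361 (iv6 F138122)))).symm
theorem F292060 : act 7 n87944 = n44654 := (sb E29361 F137954)
theorem F292061 : act 2 n23239 = n44114 := (sb E29362 F71756)
theorem F292062 : act 7 n23239 = n40421 := (sb E29362 F69686)
theorem F292063 : act 6 n41978 = n20716 := (sb E29364 (iv6 D43737))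
theorem E31402 : n48531 = n40412 := ((((iv1 F133403)).symm.trans (sb E29365 (iv1 F137471)))).symm
theorem E31403 : n182336 = n89038 := ((((iv3 F136713)).symm.trans (sb E29365 (iv3 F283881)))).symm
theorem E31405 : n40453 = n40333 := ((((iv6 D86928)).symm.trans (sb E29365 (iv6 D87065)))).symm
theorem F292064 : act 3 n19545 = n20117 := (sb E29366 (iv3 F31939))
theorem F292065 : act 5 n19545 = n9831 := (sb E29366 F31915)
theorem E31407 : n103953 = n86909 := (((D86909).symm.trans (sb E29370 D103953))).symm
theorem E31408 : n46473 = n42552 := (((iv1 F73396)).symm.trans (sb E29371 (iv1 D90846)))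
theorem F292066 : act 0 n41596 = n20064 := (sb E29372 (iv1 D42506))
theorem F292067 : act 1 n41596 = n20080 := (sb E29372 F65988)
theorem E31412 : n90007 = n89925 := (((D89925).symm.trans (sb E29373 D90007))).symm
theorem E31413 : n90005 = n89926 := (((D89926).symm.trans (sb E29373 (iv3 F138272)))).symm
theorem E31415 : n21533 = n19837 := ((F64863).symm.trans (sb E29373 (iv6 D42067)))
theorem F292068 : act 3 n9335 = n10515 := (sb E29374 F62868)
theorem F292069 : act 6 n9335 = n19808 := (sb E29374 (iv6 F63287))
theorem F292070 : act 1 n9950 = n20362 := (sb E29377 (iv0 F32319))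
theorem F292071 : act 0 n20115 = n10515 := (sb E29378 (iv1 F34538))
theorem F292072 : act 6 n20115 = n41559 := (sb E29378 (iv6 F64141))
theorem F292073 : act 7 n20115 = n10509 := (sb E29378 (iv7 D22066))
theorem E31418 : n86914 = n47903 := ((F135232).symm.trans (sb E29379 (iv0 D103373)))
theorem E31423 : n91710 = n45466 := (((D45466).symm.trans (sb E29382 D91710))).symm
theorem F292074 : act 4 n21691 = n41871 := (sb E29382 F67187)
theorem F292075 : act 1 n43227 = n41871 := (sb E29383 (iv0 D89647))
theorem E31424 : n185546 = n42121 := (((F67724).symm.trans (sb E29383 F287848))).symm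
theorem E31425 : n97381 = n52162 := ((((iv5 F82471)).symm.trans (sb E29383 (tr F288691 E30287)))).symm
theorem E31426 : n185541 = n44824 := (((iv4 F287843)).symm.trans (sb E29384 (iv4 F205490)))
theorem F292076 : act 6 n89648 = n92426 := (sb E29384 (iv6 F142158))
theorem F292077 : act 1 n43253 = n43174 := (sb E29386 F138736)
theorem F292078 : act 6 n43253 = n46446 := (sb E29386 F137473)
theorem F292079 : act 2 n43217 = n46658 := (sb E29387 F75192)
theorem E31427 : n40324 = n23062 := ((F67680).symm.trans (sb E29387 F75193))
theorem F292080 : act 6 n43217 = n23056 := (sb E29387 (iv6 D47888))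
theorem F292081 : act 1 n79936 = n40420 := (sb E29388 (iv0 F127432))
theorem F292082 : act 2 n79936 = n40710 := (sb E29388 F127428)
theorem F292083 : act 4 n79936 = n42020 := (sb E29388 F127430)
theorem F292084 : act 5 n79936 = n48413 := (sb E29388 F127431)
theorem F292085 : act 7 n79936 = n88351 := (sb E29388 (iv7 F135309))
theorem F292086 : act 6 n41241 = n19485 := (sb E29389 (iv6 D41369))
theorem F292087 : act 3 n19209 = n9252 := (sb E29390 F31452)
theorem E31428 : n92486 = n88760 := (((D88760).symm.trans (sb E29391 F142360))).symm
theorem E31429 : n92488 = n88761 := (((D88761).symm.trans (sb E29391 (iv2 F142364)))).symm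
theorem E31430 : n44259 = n40516 := (((F63888).symm.trans (sb E29391 (iv4 F69648)))).symm
theorem F292088 : act 6 n41442 = n44139 := (sb E29391 F69479)
theorem F292089 : act 7 n41442 = n42117 := (sb E29391 F69111)
theorem F292090 : act 6 n82698 = n46820 := (sb E29392 F138519)
theorem F292091 : act 6 n41810 = n43534 := (sb E29393 (iv6 D93040))
theorem F292092 : act 7 n20585 = n22959 := (sb E29394 (iv7 D47701))
theorem F292093 : act 2 n4897 = n9957 := (sb E29395 F35912)
theorem F292094 : act 4 n94420 = n103635 := (sb E29396 (iv4 F159018))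
theorem F292095 : act 7 n94420 = n46953 := (sb E29396 F153094)
theorem E31431 : n94030 = n46961 := (((D46961).symm.trans (sb E29397 (iv0 F144863)))).symm
theorem E31436 : n10884 = n4989 := (E29399).trans E29424
theorem E31437 : n20179 = n4992 := (E29483).trans E29491
theorem F292096 : act 5 n4989 = n20242 := (sb E31436 (iv5 F32093))
theorem E31439 : n10891 = n4990 := (E30924).trans E31117
theorem E31440 : n23045 = n9822 := (((D9822).symm.trans (sb E30531 (iv3 F63268)))).symm
theorem F292097 : act 7 n4435 = n9312 := (sb E30531 F17666)
theorem E31442 : n47941 = n22577 := (E29403).trans E29428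
theorem F292098 : act 0 n22577 = n103460 := (sb E31442 D103460)
theorem F292099 : act 2 n22577 = n103462 := (sb E31442 D103462)
theorem E31444 : n43747 = n23099 := (((iv3 F68775)).symm.trans (sb E31442 (iv3 D47941)))
theorem E31446 : n46790 = n23307 := (E30925).trans E31335
theorem F292100 : act 0 n47942 = n43321 := (sb E29404 F137769)
theorem F292101 : act 1 n47942 = n43318 := (sb E29404 F137770)
theorem F292102 : act 2 n47942 = n43444 := (sb E29404 F137766)
theorem F292103 : act 2 n4888 = n9758 := (sb E29405 F35918)
theorem F292104 : act 5 n4888 = n9714 := (sb E29405 F31902)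
theorem E31448 : n93070 = n23096 := (((D23096).symm.trans (sb E29406 (iv5 F143556)))).symm
theorem F292105 : act 0 n88598 = n90464 := (sb E29410 F160005)
theorem F292106 : act 1 n88596 = n90464 := (sb E29413 F160009)
theorem F292107 : act 1 n43914 = n46952 := (sb E29415 F137663)
theorem F292108 : act 4 n43914 = n41897 := (sb E29415 (iv4 D89702))
theorem F292109 : act 6 n43914 = n46781 := (sb E29415 F137661)
theorem F292110 : act 1 n46023 = n42658 := (sb E29416 (iv0 D91077))
theorem E31451 : n93068 = n41480 := (((D41480).symm.trans (sb E29421 (iv3 F143549)))).symm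
theorem E31452 : n93072 = n41481 := (((D41481).symm.trans (sb E29421 D93072))).symm
theorem F292111 : act 6 n19528 = n20603 := (sb E29421 (iv6 D43550))
theorem E31456 : n20242 = n9527 := ((F292096).symm.trans (sb E29424 (iv5 F14781)))
theorem F292112 : act 6 n4989 = n3990 := (sb E29424 (iv6 D8953))
theorem E31457 : n103460 = n42455 := ((F292098).symm.trans (sb E29428 (iv1 F65567)))
theorem E31458 : n103462 = n42192 := ((F292099).symm.trans (sb E29428 (iv2 F65121)))
theorem F292113 : act 6 n22577 = n19110 := (sb E29428 (iv6 D40439))
theorem E31459 : n103948 = n91270 := ((D103948).symm.trans (sb E29430 F146039))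
theorem F292114 : act 6 n48124 = n86908 := (sb E29430 F146040)
theorem F292115 : act 2 n182293 = n102883 := (sb E29432 F289039)
theorem F292116 : act 2 n185825 = n102874 := (sb E29433 F289019)
theorem F292117 : act 5 n185825 = n88721 := (sb E29433 (iv5 D186265))
theorem F292118 : act 2 n90263 = n46783 := (sb E29437 (iv2 D100256))
theorem F292119 : act 5 n92848 = n46783 := (sb E29438 (iv5 D100257))
theorem F292120 : act 5 n43322 = n46781 := (sb E29439 (iv5 D100251))
theorem E31464 : n103330 = n89571 := (((F137316).symm.trans (sb E29440 (iv4 F158580)))).symm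
theorem E31466 : n102913 = n43447 := (((D43447).symm.trans (sb E29443 (iv6 F158208)))).symm
theorem F292121 : act 2 n92850 = n103465 := (sb E29444 (iv2 F158792))
theorem F292122 : act 4 n92595 = n103451 := (sb E29445 (iv4 F158756))
theorem F292123 : act 5 n92595 = n46446 := (sb E29445 (iv5 D99333))
theorem F292124 : act 0 n20631 = n19597 := (sb E29448 F65783)
theorem F292125 : act 1 n20631 = n10194 := (sb E29448 (iv0 D21392))
theorem F292126 : act 2 n20631 = n19619 := (sb E29448 F66231)
theorem E31469 : n44863 = n43609 := ((((iv3 F68555)).symm.trans (sb E29448 D44863))).symm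
theorem F292127 : act 4 n20631 = n18149 := (sb E29448 F66232)
theorem E31470 : n44864 = n43613 := (((D43613).symm.trans (sb E29448 D44864))).symm
theorem E31471 : n19609 = n9778 := ((((iv6 D20631)).symm.trans (sb E29448 F66233))).symm
theorem F292128 : act 7 n20631 = n18146 := (sb E29448 F66234)
theorem E31473 : n43570 = n20885 := ((((iv4 F65808)).symm.trans (sb E29451 (iv4 F68476)))).symm
theorem E31474 : n19547 = n9770 := (((iv6 F31287)).symm.trans (sb E29451 (iv6 D20612)))
theorem F292129 : act 0 n4419 = n4833 := (sb E29452 (iv1 F14379))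
theorem F292130 : act 6 n4419 = n4791 := (sb E29452 F14377)
theorem F292131 : act 7 n4419 = n4166 := (sb E29452 (iv7 D9208))
theorem E31478 : n93224 = n41672 := (((F66130).symm.trans (sb E29453 (iv5 F143805)))).symm
theorem E31479 : n100371 = n46491 := ((((iv3 F73441)).symm.trans (sb E29454 D100371))).symm
theorem E31480 : n46499 = n43560 := (((iv5 F73463)).symm.trans (sb E29454 (iv5 F74011)))
theorem E31482 : n43559 = n10721 := (((D10721).symm.trans (sb E29455 F73988))).symm
theorem E31483 : n93069 = n46444 := ((((iv7 F73320)).symm.trans (sb E29457 F143553))).symm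
theorem F292132 : act 6 n22250 = n42660 := (sb E29458 F139846)
theorem F292133 : act 5 n9254 = n10258 := (sb E29462 (iv5 D21498))
theorem E31522 : n20724 = n10672 := ((((iv6 F291168)).symm.trans (sb E29476 (iv6 D43757)))).symm
theorem F292134 : act 0 n4963 = n4435 := (sb E29478 (iv1 D9821))
theorem E31535 : n89766 = n40410 := (((F62478).symm.trans (sb E29482 D89766))).symm
theorem E31536 : n42735 = n10931 := (((E29908).symm.trans ((F32826).symm.trans (sb E29482 (iv6 F66940))))).symm
theorem E31537 : n10956 = n9527 := (((iv4 F17794)).symm.trans (sb E31437 (iv4 D20179)))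
theorem F292135 : act 0 n4631 = n4304 := (sb E29484 (iv1 D9528))
theorem F292136 : act 1 n4631 = n4309 := (sb E29484 F14784)
theorem F292137 : act 7 n4631 = n9527 := (sb E29484 F30652)
theorem E31539 : n5068 = n4565 := ((((iv6 D10029)).symm.trans (sb E29485 (iv6 D11086)))).symm
theorem E31544 : n23081 = n9810 := ((((iv5 D20701)).symm.trans (sb E29488 F36337))).symm
theorem F292138 : act 7 n4432 = n5073 := (sb E29490 F17700)
theorem F292139 : act 6 n4992 = n9812 := (sb E29491 (iv6 F15391))
theorem F292140 : act 5 n92325 = n88482 := (sb E29493 (iv5 F145131))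
theorem E31547 : n44020 = n43173 := ((((iv6 D92325)).symm.trans (sb E29493 (iv6 D94154)))).symm
theorem F292141 : act 7 n92325 = n182291 := (sb E29493 (iv7 F283800))
theorem F292142 : act 5 n41302 = n43174 := (sb E29494 (iv5 D92326))
theorem F292143 : act 2 n20364 = n9950 := (sb E29495 F62874)
theorem F292144 : act 1 n48162 = n42192 := (sb E29496 F138120)
theorem F292145 : act 2 n48162 = n42455 := (sb E29496 F138115)
theorem F292146 : act 4 n48162 = n42023 := (sb E29496 (iv4 D89932))
theorem F292147 : act 6 n48162 = n44094 := (sb E29496 F138116)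
theorem E31548 : n91307 = n23246 := (E29498).trans E30742
theorem E31549 : n48134 = n42734 := (((iv3 F75623)).symm.trans (sb E31548 (iv3 D91307)))
theorem F292148 : act 0 n41777 = n42734 := (sb E29499 F75136)
theorem F292149 : act 4 n41777 = n23035 := (sb E29499 (iv4 D47861))
theorem E31552 : n90366 = n48148 := ((((iv5 F75650)).symm.trans (sb E29499 (iv5 F139060)))).symm
theorem E31553 : n46518 = n42569 := (((iv1 F73507)).symm.trans (sb E29500 (iv1 D90878)))
theorem F292150 : act 5 n22669 = n42734 := (sb E29500 F139884)
theorem F292151 : act 7 n21395 = n42734 := (sb E29501 (iv7 F66939))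
theorem E31557 : n21761 = n1752 := ((((iv5 D4053)).symm.trans (sb E29502 F61635))).symm
theorem F292152 : act 0 n45346 = n48271 := (sb E29505 (iv1 D104302))
theorem E31560 : n104201 = n97006 := (((D97006).symm.trans (sb E29506 (iv5 F159740)))).symm
theorem E31562 : n9898 = n9822 := (((E31440).symm.trans ((D23045).symm.trans (sb E29508 (iv0 D20868))))).symm
theorem F292153 : act 2 n10867 = n19731 := (sb E29508 F66179)
theorem F292154 : act 6 n10867 = n19719 := (sb E29508 F66181)
theorem F292155 : act 1 n19770 = n19725 := (sb E29512 (iv0 D41902))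
theorem F292156 : act 5 n19770 = n20198 := (sb E29512 (iv5 F66088))
theorem F292157 : act 7 n19770 = n41059 := (sb E29512 (iv7 F64640))
theorem F292158 : act 1 n19813 = n19731 := (sb E29515 F66176)
theorem F292159 : act 1 n19191 = n22992 := (sb E29516 F75054)
theorem E31567 : n90729 = n40651 := ((((iv4 F61747)).symm.trans (sb E29516 (iv4 F139655)))).symm
theorem F292160 : act 7 n19191 = n23044 := (sb E29516 F75055)
theorem F292161 : act 5 n10850 = n19731 := (sb E29517 F63071)
theorem F292162 : act 7 n10872 = n19731 := (sb E29518 F66187)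
theorem F292163 : act 7 n95682 = n103345 := (sb E29522 (iv7 F158607))
theorem F292164 : act 1 n45343 = n48271 := (sb E29523 (iv0 D104301))
theorem F292165 : act 1 n42769 = n44691 := (sb E29524 F137950)
theorem E31575 : n91386 = n87864 := ((D91386).symm.trans (sb E29524 F137948))
theorem F292166 : act 6 n42769 = n41988 := (sb E29524 F137946)
theorem E31577 : n40967 = n23208 := ((((iv0 D48087)).symm.trans (sb E29525 (iv0 D87841)))).symm
theorem E31578 : n184081 = n103873 := (((D103873).symm.trans (sb E29525 (iv4 F286021)))).symm
theorem E31580 : n103625 = n103346 := (((iv7 F158999)).symm.trans (sb E29525 (iv7 F158609)))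
theorem F292167 : act 7 n47887 = n44691 := (sb E29526 F144991)
theorem F292168 : act 7 n48238 = n97036 := (sb E29528 F149676)
theorem E31589 : n42156 = n22193 := ((((iv1 F64795)).symm.trans (sb E29534 (iv1 D90183)))).symm
theorem F292169 : act 3 n38010 = n79936 := (sb E29535 (iv3 F122672))
theorem E31590 : n19864 = n18195 := ((((iv6 D38010)).symm.trans (sb E29535 (iv6 D42115)))).symm
theorem E31591 : n184416 = n89927 := (((D89927).symm.trans (sb E29536 (iv3 F286341)))).symm
theorem E31593 : n89896 = n41064 := (((iv6 F138020)).symm.trans (sb E29536 (iv6 D87955)))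
theorem F292170 : act 4 n45524 = n46658 := (sb E29537 (iv4 F135397))
theorem F292171 : act 2 n48239 = n97036 := (sb E29538 (iv2 F149678))
theorem F292172 : act 3 n87024 = n46820 := (sb E29540 F143955)
theorem F292173 : act 7 n91379 = n87108 := (sb E29544 F160786)
theorem E31598 : n103103 = n89250 := (((D89250).symm.trans (sb E29545 (iv4 F160750)))).symm
theorem F292174 : act 7 n41699 = n87110 := (sb E29545 F160747)
theorem E31599 : n47198 = n42109 := ((D47198).symm.trans (sb E29546 F138483))
theorem E31600 : n44293 = n42110 := (((D42110).symm.trans (sb E29548 F69709))).symm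
theorem F292175 : act 6 n19858 = n10744 := (sb E29548 (iv6 D22706))
theorem F292176 : act 7 n19095 = n10929 := (sb E29553 F63420)
theorem E31602 : n88416 = n48422 := ((((iv1 F76142)).symm.trans (sb E29555 (iv1 D185619)))).symm
theorem E31604 : n23336 = n21714 := ((((iv0 F71549)).symm.trans (sb E29556 (iv0 D48198)))).symm
theorem E31605 : n104152 = n97075 := ((((iv3 F149752)).symm.trans (sb E29556 D104152))).symm
theorem E31613 : n18150 = n9478 := ((D18150).symm.trans (sb E29566 (iv6 D20107)))
theorem E31614 : n185537 = n19602 := ((((iv3 F31373)).symm.trans (sb E29567 (iv3 F287837)))).symm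
theorem E31618 : n21006 = n9023 := (((D9023).symm.trans (sb E29568 (iv6 D44179)))).symm
theorem E31619 : n40676 = n9477 := ((D40676).symm.trans (sb E29569 (iv5 D20105)))
theorem E31625 : n177746 = n42172 := ((D177746).symm.trans (sb E29575 F138616))
theorem F292177 : act 3 n84686 = n42153 := (sb E29576 F138617)
theorem E31626 : n102542 = n42170 := (((D42170).symm.trans (sb E29577 (iv1 F289881)))).symm
theorem E31627 : n100003 = n42171 := (((D42171).symm.trans (sb E29577 (iv0 F277463)))).symm
theorem E31628 : n98995 = n42173 := (((D42173).symm.trans (sb E29577 (iv5 F289821)))).symm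
theorem F292178 : act 6 n19897 = n39116 := (sb E29577 (iv6 D84687))
theorem F292179 : act 2 n90176 = n47638 := (sb E29578 F151113)
theorem F292180 : act 3 n90176 = n177883 := (sb E29578 (iv3 F290099))
theorem E31630 : n104365 = n88600 := (((iv1 F159997)).symm.trans (sb E29579 F157924))
theorem E31631 : n104382 = n89457 := (((iv0 F160020)).symm.trans (sb E29579 F157925))
theorem F292181 : act 2 n92753 = n89482 := (sb E29579 F157922)
theorem F292182 : act 4 n92753 = n47621 := (sb E29579 (iv4 D102678))
theorem E31632 : n42168 = n41543 := ((D42168).symm.trans (sb E29580 F64099))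
theorem E31633 : n42174 = n22151 := ((D42174).symm.trans (sb E29581 (iv1 F72971)))
theorem E31634 : n42175 = n22146 := ((D42175).symm.trans (sb E29581 (iv0 D46312)))
theorem F292183 : act 0 n91081 = n185416 := (sb E29582 (iv1 F287645))
theorem F292184 : act 1 n91081 = n87676 := (sb E29582 F288151)
theorem F292185 : act 2 n91081 = n87931 := (sb E29582 F152956)
theorem F292186 : act 6 n91081 = n46443 := (sb E29582 (iv6 D99329))
theorem F292187 : act 5 n89463 = n42660 := (sb E29583 (iv5 D91082))
theorem F292188 : act 7 n89463 = n90464 := (sb E29583 F140135)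
theorem E31636 : n104440 = n48552 := (((D48552).symm.trans (sb E30554 D104440))).symm
theorem E31637 : n104441 = n48553 := (((D48553).symm.trans (sb E30554 D104441))).symm
theorem E31638 : n104442 = n45033 := ((((iv2 F70870)).symm.trans (sb E30554 D104442))).symm
theorem E31639 : n48549 = n23485 := (((iv3 F76409)).symm.trans (sb E30554 (iv3 D48325)))
theorem E31640 : n104443 = n48554 := (((D48554).symm.trans (sb E30554 D104443))).symm
theorem F292189 : act 0 n48326 = n41773 := (sb E29585 (iv1 D89464))
theorem E31642 : n86981 = n48554 := (((E31640).symm.trans (((iv3 F160118)).symm.trans (sb E29585 F137133)))).symm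
theorem F292190 : act 7 n48326 = n46789 := (sb E29585 F137131)
theorem E31643 : n93225 = n41671 := ((((iv5 F66311)).symm.trans (sb E29586 F143806))).symm
theorem F292191 : act 6 n21398 = n23485 := (sb E29586 (iv6 D48327))
theorem E31645 : n102524 = n42159 := (((D42159).symm.trans (sb E29588 (iv3 F157461)))).symm
theorem E31647 : n42160 = n22852 := ((D42160).symm.trans (sb E29588 (iv6 D47555)))
theorem F292192 : act 2 n10795 = n9507 := (sb E29590 F31735)
theorem F292193 : act 6 n10795 = n9361 := (sb E29590 (iv6 D19894))
theorem F292194 : act 5 n4245 = n4833 := (sb E29594 (iv5 D10567))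
theorem F292195 : act 0 n47737 = n40432 := (sb E29597 (iv1 D87036))
theorem F292196 : act 1 n47737 = n42191 := (sb E29597 F133596)
theorem E31658 : n102935 = n55275 := (((iv3 F158227)).symm.trans (sb E29597 (iv3 F161639)))
theorem E31659 : n182282 = n102943 := (((D102943).symm.trans (sb E29597 D182282))).symm
theorem E31660 : n102939 = n55272 := (((iv6 F158230)).symm.trans (sb E29597 F161640))
theorem F292197 : act 7 n90263 = n46950 := (sb E29599 F153082)
theorem F292198 : act 1 n22582 = n42455 := (sb E29601 F138838)
theorem F292199 : act 7 n22582 = n42192 := (sb E29601 (iv7 D90266))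
theorem F292200 : act 0 n9288 = n8948 := (sb E29606 (iv1 F15566))
theorem F292201 : act 1 n9288 = n9906 := (sb E29606 F15565)
theorem F292202 : act 4 n9288 = n9291 := (sb E29606 F15563)
theorem F292203 : act 7 n9288 = n4501 := (sb E29606 (iv7 D9907))
theorem F292204 : act 5 n4964 = n8948 := (sb E29607 (iv5 F291348))
theorem E31687 : n1907 = n636 := (((D636).symm.trans (sb E29620 (iv6 D4585)))).symm
theorem E31697 : n10077 = n979 := (((D979).symm.trans (sb E29625 (iv6 D21147)))).symm
theorem E31698 : n4810 = n1896 := (((D1896).symm.trans (sb E29626 (iv1 F17444)))).symm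
theorem E31700 : n1906 = n1898 := (((D1898).symm.trans (sb E29626 (iv5 D4584)))).symm
theorem F292205 : act 5 n1832 = n1895 := (sb E29627 (iv5 D4544))
theorem F292206 : act 5 n43309 = n47638 := (sb E29634 (iv5 D102707))
theorem F292207 : act 2 n10358 = n9078 := (sb E29635 F17810)
theorem F292208 : act 0 n42460 = n22577 := (sb E29636 F67624)
theorem F292209 : act 1 n42460 = n22582 := (sb E29636 (iv0 F67623))
theorem E31709 : n92331 = n90696 := ((((iv3 F139607)).symm.trans (sb E29636 (iv3 F141993)))).symm
theorem F292210 : act 7 n42460 = n48162 := (sb E29636 (iv7 F75700))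
theorem F292211 : act 3 n94400 = n46962 := (sb E29639 F153097)
theorem F292212 : act 7 n89923 = n93521 := (sb E29640 (iv7 F144264))
theorem E31715 : n104984 = n10740 := ((((iv5 F17270)).symm.trans (sb E29650 D104984))).symm
theorem E31716 : n23671 = n19079 := (((D19079).symm.trans (sb E29650 (iv6 D48519)))).symm
theorem E31719 : n104982 = n81866 := ((((iv2 F125889)).symm.trans (sb E29651 D104982))).symm
theorem E31720 : n87125 = n86951 := (((D86951).symm.trans (sb E29651 (iv5 F133718)))).symm
theorem F292213 : act 0 n90103 = n105147 := (sb E29655 F161069)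
theorem F292214 : act 7 n90103 = n88716 := (sb E29655 F158056)
theorem E31727 : n8585 = n4553 := ((((iv1 F17385)).symm.trans (sb E29659 F29367))).symm
theorem E31729 : n10510 = n8584 := ((D10510).symm.trans (sb E29659 (iv5 D18198)))
theorem F292215 : act 5 n16720 = n10509 := (sb E29660 (iv5 D22065))
theorem F292216 : act 2 n75292 = n46142 := (sb E29661 F138548)
theorem F292217 : act 4 n75292 = n42119 := (sb E29661 (iv4 D90107))
theorem F292218 : act 4 n90104 = n158069 := (sb E29662 (iv4 F249015))
theorem E31738 : n10053 = n640 := ((((iv5 D994)).symm.trans (sb E29665 (iv5 F15890)))).symm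
theorem E31739 : n4319 = n1944 := (((D1944).symm.trans (sb E29665 (iv6 D9578)))).symm
theorem F292219 : act 7 n4691 = n9597 := (sb E29667 (iv7 F14953))
theorem F292220 : act 2 n89890 = n87826 := (sb E29669 (iv2 D184130))
theorem F292221 : act 5 n103784 = n87826 := (sb E29670 (iv5 D184131))
theorem F292222 : act 6 n20197 = n19769 := (sb E29673 (iv6 D41964))
theorem F292223 : act 5 n47991 = n42771 := (sb E29674 (iv5 D91391))
theorem F292224 : act 7 n44789 = n91291 := (sb E29675 F140544)
theorem F292225 : act 0 n23187 = n42773 := (sb E29677 (iv1 D91397))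
theorem E31745 : n88023 = n48061 := (((D48061).symm.trans (sb E29677 (iv4 F140571)))).symm
theorem F292226 : act 1 n23184 = n42773 := (sb E29678 F135423)
theorem E31747 : n185647 = n48053 := (((D48053).symm.trans (sb E29678 D185647))).symm
theorem E31748 : n185645 = n48054 := (((D48054).symm.trans (sb E29678 (iv6 F287954)))).symm
theorem E31749 : n87819 = n48106 := ((F140509).symm.trans (sb E29679 F159213))
theorem E31750 : n87843 = n48089 := ((F140510).symm.trans (sb E29679 F159214))
theorem F292227 : act 4 n91371 = n48051 := (sb E29679 (iv4 D103785))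
theorem F292228 : act 2 n103786 = n91303 := (sb E29680 F286072)
theorem F292229 : act 0 n91356 = n43478 := (sb E29681 (iv1 D92938))
theorem F292230 : act 1 n91356 = n47990 := (sb E29681 F143316)
theorem F292231 : act 7 n91356 = n48051 := (sb E29681 F143317)
theorem E31759 : n9814 = n4304 := ((F291862).symm.trans (sb E29687 (iv4 D9529)))
theorem E31761 : n9540 = n4434 := (((F291863).symm.trans (sb E29687 (iv7 F14888)))).symm
theorem F292232 : act 6 n9282 = n20718 := (sb E29692 (iv6 D43742))
theorem E31777 : n20211 = n9817 := (E29696).trans E29707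
theorem F292233 : act 6 n9817 = n42785 := (sb E31777 D42785)
theorem E31781 : n42785 = n19782 := (((D19782).symm.trans (sb E29697 F68866))).symm
theorem F292234 : act 1 n21689 = n20716 := (sb E29703 F70666)
theorem F292235 : act 1 n43734 = n42002 := (sb E29704 (iv0 D89893))
theorem F292236 : act 2 n43734 = n42014 := (sb E29704 (iv2 F138007))
theorem F292237 : act 6 n43734 = n42021 := (sb E29704 F138006)
theorem F292238 : act 7 n43734 = n42015 := (sb E29704 F138008)
theorem F292239 : act 0 n41058 = n42015 := (sb E29705 (iv1 F138013))
theorem F292240 : act 1 n41058 = n42014 := (sb E29705 F138014)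
theorem F292241 : act 7 n41058 = n42002 := (sb E29705 (iv7 D89894))
theorem E31789 : n93524 = n42753 := ((((iv2 F66982)).symm.trans (sb E29706 D93524))).symm
theorem F292242 : act 3 n20205 = n20716 := (sb E29706 (iv3 D43735))
theorem E31790 : n20718 = n9538 := ((((iv4 D20205)).symm.trans (sb E29706 F68755))).symm
theorem F292243 : act 0 n9817 = n10358 := (sb E29707 F63258)
theorem F292244 : act 7 n9817 = n9305 := (sb E29707 (iv7 D19814))
theorem F292245 : act 3 n43736 = n42773 := (sb E29708 F140563)
theorem F292246 : act 7 n43736 = n42016 := (sb E29708 (iv7 F291409))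
theorem E31796 : n89944 = n20642 := (E29722).trans E30920
theorem E31797 : n91935 = n9782 := ((((iv6 D20642)).symm.trans (sb E31796 (iv6 F141369)))).symm
theorem E31798 : n10415 = n9782 := (((iv3 F16571)).symm.trans (sb E29724 (tr (iv3 F141368) E31797)))
theorem E31799 : n92410 = n20886 := (((D20886).symm.trans (sb E29724 D92410))).symm
theorem E31800 : n43216 = n9896 := (((F15558).symm.trans (sb E29724 (iv7 F67679)))).symm
theorem E31801 : n9827 = n8937 := ((D9827).symm.trans (sb E30534 (tr F63355 E30751)))
theorem E31802 : n9828 = n9016 := ((D9828).symm.trans (sb E30534 (tr F63276 E30676)))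
theorem E31803 : n9896 = n9780 := ((((iv4 F15251)).symm.trans (sb E30534 (tr D43216 E31800)))).symm
theorem F292247 : act 1 n42726 = n45347 := (sb E29728 (iv0 F73957))
theorem E31804 : n96073 = n91286 := (((D91286).symm.trans (sb E29728 (iv3 F147680)))).symm
theorem E31805 : n96089 = n91287 := (((D91287).symm.trans (sb E29728 (iv5 F147705)))).symm
theorem F292248 : act 7 n42726 = n21355 := (sb E29728 (iv7 D44835))
theorem F292249 : act 2 n10928 = n19095 := (sb E29729 F63459)
theorem E31806 : n44277 = n23235 := (((D23235).symm.trans (sb E29729 D44277))).symm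
theorem F292250 : act 5 n10928 = n20172 := (sb E29729 (iv5 F66131))
theorem F292251 : act 6 n10928 = n19061 := (sb E29729 F62525)
theorem F292252 : act 0 n42728 = n45347 := (sb E29730 F133996)
theorem F292253 : act 2 n42728 = n21355 := (sb E29730 F70179)
theorem E31807 : n95549 = n91289 := (((D91289).symm.trans (sb E29730 (iv3 F147199)))).symm
theorem E31808 : n95554 = n91290 := (((D91290).symm.trans (sb E29730 D95554))).symm
theorem E31813 : n184075 = n103876 := (((iv1 F286019)).symm.trans (sb E29735 (iv1 F159302)))
theorem F292254 : act 4 n99898 = n47990 := (sb E29735 (iv4 D103615))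
theorem F292255 : act 5 n92939 = n88024 := (sb E29738 F153835)
theorem F292256 : act 5 n91399 = n89867 := (sb E29741 F159219)
theorem F292257 : act 0 n97021 = n47145 := (sb E29745 (iv1 D101237))
theorem F292258 : act 2 n97021 = n47189 := (sb E29745 (iv2 F155964))
theorem F292259 : act 7 n97021 = n47188 := (sb E29745 F155962)
theorem F292260 : act 0 n47875 = n43979 := (sb E29746 (iv1 F134202))
theorem F292261 : act 1 n47875 = n43978 := (sb E29746 F134203)
theorem E31816 : n183171 = n103325 := (((D103325).symm.trans (sb E29746 (iv3 F284765)))).symm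
theorem E31817 : n103326 = n47138 := ((D103326).symm.trans (sb E29746 F134201))
theorem E31818 : n88399 = n45521 := ((((iv3 F71797)).symm.trans (sb E29748 (iv3 F135395)))).symm
theorem E31820 : n19413 = n10361 := ((((iv6 D21734)).symm.trans (sb E29748 (iv6 D41271)))).symm
theorem F292262 : act 6 n11042 = n9110 := (sb E29749 (iv6 D19417))
theorem E31821 : n10283 = n9594 := ((F16288).symm.trans (sb E29750 F17551))
theorem F292263 : act 2 n4693 = n9335 := (sb E29750 (iv2 F14533))
theorem E31822 : n43653 = n42024 := ((((iv6 F64888)).symm.trans (sb E29751 F138287))).symm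
theorem F292264 : act 0 n20278 = n10351 := (sb E29754 (iv1 F33864))
theorem E31823 : n45081 = n42931 := (((D42931).symm.trans (sb E29754 (iv3 F70976)))).symm
theorem F292265 : act 6 n20278 = n21236 := (sb E29754 F33863)
theorem F292266 : act 7 n20278 = n10279 := (sb E29754 (iv7 D21526))
theorem F292267 : act 0 n97145 = n104242 := (sb E29756 (iv1 F159840))
theorem F292268 : act 1 n97145 = n104244 := (sb E29756 (iv0 F159844))
theorem F292269 : act 2 n97145 = n47190 := (sb E29756 F155965)
theorem F292270 : act 4 n97145 = n47145 := (sb E29756 (iv4 D101238))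
theorem F292271 : act 7 n97145 = n47199 := (sb E29756 F155966)
theorem F292272 : act 5 n101243 = n95828 := (sb E29757 F283974)
theorem E31826 : n185667 = n89848 := (((D89848).symm.trans (sb E29758 (iv6 F287973)))).symm
theorem F292273 : act 7 n89890 = n87936 := (sb E29759 F144220)
theorem F292274 : act 5 n89924 = n87925 := (sb E29772 F144233)
theorem F292275 : act 7 n89924 = n93527 := (sb E29772 (iv7 F144276))
theorem E31840 : n91677 = n45078 := (((D45078).symm.trans (sb E29780 D91677))).symm
theorem E31843 : n91680 = n45080 := (((D45080).symm.trans (sb E29780 D91680))).symm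
theorem E31845 : n9052 = n1936 := (((D1936).symm.trans (sb E29781 (iv6 D19248)))).symm
theorem F292276 : act 1 n4663 = n9335 := (sb E29782 (iv0 F17546))
theorem F292277 : act 0 n21525 = n41284 := (sb E29783 F67168)
theorem F292278 : act 1 n21525 = n41281 := (sb E29783 F67169)
theorem E31846 : n45090 = n35787 := ((D45090).symm.trans (sb E29783 F67167))
theorem F292279 : act 7 n21525 = n42932 := (sb E29783 (iv7 F67269))
theorem F292280 : act 2 n10663 = n20589 := (sb E29784 F66376)
theorem E31848 : n90844 = n22399 := ((((iv3 F34953)).symm.trans (sb E29784 (iv3 F139822)))).symm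
theorem E31849 : n22266 = n20088 := (((iv6 F34743)).symm.trans (sb E29784 (iv6 D42553)))
theorem F292281 : act 0 n42517 = n43545 := (sb E29785 (iv1 F143515))
theorem F292282 : act 1 n42517 = n43537 := (sb E29785 (iv0 D93047))
theorem F292283 : act 5 n91132 = n89478 := (sb E29786 (iv5 F151008))
theorem F292284 : act 6 n91132 = n45728 := (sb E29786 (iv6 D97972))
theorem E31850 : n90548 = n89479 := (((D89479).symm.trans (sb E29787 F140173))).symm
theorem F292285 : act 5 n41779 = n42677 := (sb E29787 F140174)
theorem F292286 : act 7 n41779 = n42676 := (sb E29787 (iv7 D91139))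
theorem F292287 : act 2 n20581 = n42568 := (sb E29788 (iv2 F66411))
theorem F292288 : act 5 n20581 = n42023 := (sb E29788 (iv5 F64885))
theorem F292289 : act 2 n10568 = n9783 := (sb E29792 F31729)
theorem F292290 : act 6 n41492 = n20080 := (sb E29793 (iv6 D42540))
theorem F292291 : act 4 n1823 = n1821 := (sb E29795 (iv4 F14798))
theorem F292292 : act 7 n1823 = n2050 := (sb E29795 F14843)
theorem E31862 : n100595 = n20041 := (((D20041).symm.trans (sb E29798 (iv4 F154661)))).symm
theorem F292293 : act 0 n9458 = n4896 := (sb E29800 (iv1 F17146))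
theorem F292294 : act 2 n9458 = n4898 := (sb E29800 F17143)
theorem F292295 : act 6 n9458 = n4888 := (sb E29800 F17144)
theorem F292296 : act 7 n9458 = n4858 := (sb E29800 (iv7 D10616))
theorem F292297 : act 0 n2021 = n4285 := (sb E29801 (iv1 D9459))
theorem E31865 : n20098 = n9517 := ((D20098).symm.trans (sb E29802 (iv3 F62720)))
theorem E31866 : n22552 = n20099 := (((D20099).symm.trans (sb E29802 D22552))).symm
theorem F292298 : act 7 n9460 = n10946 := (sb E29802 F62719)
theorem E31874 : n90365 = n22569 := (((D22569).symm.trans (sb E29806 (iv3 F139058)))).symm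
theorem E31875 : n90370 = n22570 := (((D22570).symm.trans (sb E29806 (iv5 F139070)))).symm
theorem F292299 : act 7 n10703 = n19942 := (sb E29806 (iv7 D42248))
theorem E31876 : n90216 = n22525 := (((iv1 F138784)).symm.trans (sb E29807 (iv1 D46901)))
theorem E31877 : n90785 = n22530 := ((F139721).symm.trans (sb E29807 F74113))
theorem F292300 : act 2 n42539 = n89548 := (sb E29807 (iv2 F137271))
theorem E31878 : n100529 = n90715 := ((((iv4 F139620)).symm.trans (sb E29807 D100529))).symm
theorem F292301 : act 7 n42539 = n89615 := (sb E29807 (iv7 F137396))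
theorem E31881 : n48135 = n19339 := (((D19339).symm.trans (sb E29808 F134857))).symm
theorem F292302 : act 5 n19302 = n10641 := (sb E29809 (iv5 D22353))
theorem F292303 : act 6 n19302 = n19479 := (sb E29809 F34893)
theorem F292304 : act 5 n20413 = n22081 := (sb E29810 (iv5 D46150))
theorem F292305 : act 7 n20413 = n42568 := (sb E29810 F72788)
theorem E31882 : n90214 = n22523 := (((D22523).symm.trans (sb E29811 (iv3 F138781)))).symm
theorem F292306 : act 6 n10692 = n19896 := (sb E29811 (iv6 D42169))
theorem E31883 : n100592 = n90705 := (((D90705).symm.trans (sb E29815 (iv3 F154654)))).symm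
theorem E31884 : n90706 = n22534 := ((D90706).symm.trans (sb E29815 (iv5 D46922)))
theorem F292307 : act 4 n42463 = n22587 := (sb E29816 (iv4 D46967))
theorem E31887 : n99388 = n90709 := (((D90709).symm.trans (sb E29816 (iv5 F153065)))).symm
theorem E31888 : n100714 = n90710 := (((D90710).symm.trans (sb E29816 D100714))).symm
theorem F292308 : act 5 n90314 = n46517 := (sb E29817 (iv5 D99509))
theorem F292309 : act 5 n90317 = n47123 := (sb E29818 F155882)
theorem F292310 : act 0 n93027 = n46426 := (sb E29820 (iv1 D99287))
theorem F292311 : act 2 n93027 = n46430 := (sb E29820 F152862)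
theorem F292312 : act 3 n93027 = n87912 := (sb E29820 (iv3 F152861))
theorem F292313 : act 4 n93027 = n92601 := (sb E29820 (iv4 F152860))
theorem F292314 : act 6 n93027 = n185427 := (sb E29820 (iv6 F287676))
theorem F292315 : act 7 n93027 = n46429 := (sb E29820 F152859)
theorem F292316 : act 0 n41012 = n43526 := (sb E29821 (iv1 D93028))
theorem F292320 : act 4 n93029 = n90734 := (sb E29822 F152871)
theorem F292321 : act 6 n93029 = n46858 := (sb E29822 F152872)
theorem F292322 : act 7 n93029 = n46426 := (sb E29822 (iv7 D99289))
theorem F292325 : act 7 n93030 = n46431 := (sb E29823 (iv7 D99302))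
theorem F292326 : act 6 n22517 = n43526 := (sb E29824 F139030)
theorem F292327 : act 7 n22238 = n43526 := (sb E29825 F142726)
theorem F292328 : act 5 n92952 = n46765 := (sb E29834 (iv5 D100203))
theorem F292329 : act 7 n91351 = n95378 := (sb E29843 F148416)
theorem E31914 : n48345 = n20152 := (E29845).trans E30523
theorem E31918 : n42697 = n23658 := (((iv3 F66913)).symm.trans (sb E31914 F75996))
theorem E31919 : n42710 = n41738 := ((D42710).symm.trans (sb E31914 (tr D104498 E31376)))
theorem E31921 : n48489 = n20146 := (E29846).trans E30517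
theorem E31923 : n104899 = n42679 := ((((iv0 F135689)).symm.trans (sb E31921 D104899))).symm
theorem F292330 : act 0 n41684 = n87110 := (sb E29847 F148414)
theorem E31925 : n104642 = n89209 := (((D89209).symm.trans (sb E29847 (iv4 F160354)))).symm
theorem F292331 : act 1 n41701 = n87110 := (sb E29848 (iv0 F133712))
theorem E31927 : n104737 = n89256 := ((((iv4 F136969)).symm.trans (sb E29848 D104737))).symm
theorem F292332 : act 5 n101398 = n48022 := (sb E29849 (iv5 D103685))
theorem F292333 : act 6 n101187 = n87097 := (sb E29852 (iv6 D182416))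
theorem F292334 : act 6 n45812 = n44551 := (sb E29854 (iv6 D95383))
theorem F292335 : act 0 n94246 = n102668 := (sb E29860 (iv1 F157908))
theorem F292336 : act 1 n94246 = n102671 := (sb E29860 (iv0 F157916))
theorem F292337 : act 2 n94246 = n47478 := (sb E29860 F151013)
theorem F292338 : act 4 n94246 = n45729 := (sb E29860 (iv4 D97974))
theorem F292339 : act 7 n94246 = n47487 := (sb E29860 F151014)
theorem F292340 : act 5 n102314 = n57608 := (sb E29861 (iv5 D123589))
theorem F292341 : act 0 n91111 = n102671 := (sb E29862 (iv1 F157917))
theorem F292342 : act 1 n91111 = n102668 := (sb E29862 (iv0 F157907))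
theorem F292343 : act 2 n91111 = n47487 := (sb E29862 F151029)
theorem F292344 : act 7 n91111 = n47478 := (sb E29862 F151030)
theorem F292345 : act 0 n104411 = n89482 := (sb E29864 (iv1 F288562))
theorem F292346 : act 4 n104411 = n88601 := (sb E29864 F288560)
theorem F292347 : act 7 n91079 = n89482 := (sb E29865 F288554)
theorem E31935 : n98905 = n92564 := (((D92564).symm.trans (sb E29867 (iv5 F154408)))).symm
theorem F292348 : act 6 n43307 = n46851 := (sb E29867 (iv6 D100387))
theorem E31936 : n185914 = n92559 := (((D92559).symm.trans (sb E29868 (iv4 F288422)))).symm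
theorem E31937 : n92560 = n46288 := ((D92560).symm.trans (sb E29868 (iv5 D98919)))
theorem E31938 : n99836 = n92561 := (((D92561).symm.trans (sb E29868 F153718))).symm
theorem E31939 : n45816 = n43000 := ((((iv3 F133972)).symm.trans (sb E29869 F139510))).symm
theorem E31940 : n92562 = n46289 := ((D92562).symm.trans (sb E29869 F139513))
theorem E31941 : n92563 = n42424 := ((D92563).symm.trans (sb E29869 (iv6 D90619)))
theorem E31942 : n98869 = n92565 := (((D92565).symm.trans (sb E29870 (iv1 F157964)))).symm
theorem E31943 : n93902 = n92566 := (((D92566).symm.trans (sb E29870 (iv0 F157963)))).symm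
theorem F292349 : act 2 n91051 = n87801 := (sb E29871 F154492)
theorem E31944 : n96129 = n91096 := (((F140144).symm.trans (sb E29871 F154494))).symm
theorem F292350 : act 6 n91051 = n46871 := (sb E29871 (iv6 D100438))
theorem F292351 : act 4 n90617 = n42650 := (sb E29872 (iv4 D91052))
theorem F292353 : act 1 n91053 = n46291 := (sb E29873 F152426)
theorem F292354 : act 6 n22514 = n42650 := (sb E29874 (iv6 D91054))
theorem E31945 : n43004 = n41233 := ((((iv1 F63568)).symm.trans (sb E29875 (iv1 F140097)))).symm
theorem E31947 : n45812 = n42999 := (((iv2 F72340)).symm.trans (sb E29875 (iv2 F140096)))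
theorem F292355 : act 3 n41253 = n42651 := (sb E29875 (iv3 D91055))
theorem E31948 : n88577 = n45768 := ((((iv4 F72229)).symm.trans (sb E29875 F140094))).symm
theorem E31949 : n93694 = n86944 := ((((iv5 F133447)).symm.trans (sb E29875 (iv5 F144449)))).symm
theorem F292356 : act 4 n88545 = n42651 := (sb E29876 F137505)
theorem F292357 : act 0 n91056 = n46291 := (sb E29877 (iv1 F152430))
theorem F292359 : act 6 n47603 = n42651 := (sb E29878 (iv6 D91057))
theorem F292360 : act 1 n46284 = n42653 := (sb E29879 (iv0 D91060))
theorem F292361 : act 0 n46286 = n42653 := (sb E29880 (iv1 D91061))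
theorem E31950 : n102539 = n95386 := (((D95386).symm.trans (sb E29881 F157504))).symm
theorem E31951 : n95387 = n87769 := ((D95387).symm.trans (sb E29881 F289910))
theorem E31952 : n182960 = n95389 := (((D95389).symm.trans (sb E29881 (iv5 F284554)))).symm
theorem F292362 : act 1 n44554 = n40602 := (sb E29882 (iv0 D87350))
theorem E31953 : n95393 = n89252 := ((D95393).symm.trans (sb E29882 (iv4 F136967)))
theorem E31955 : n181998 = n21200 := (((D21200).symm.trans (sb E29883 (iv5 F283334)))).symm
theorem F292363 : act 0 n89694 = n95382 := (sb E29885 F158594)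
theorem F292364 : act 1 n89692 = n95382 := (sb E29886 F160431)
theorem E31961 : n96101 = n87802 := ((((iv1 F134775)).symm.trans (sb E29889 F159321))).symm
theorem F292365 : act 0 n41986 = n87944 := (sb E29892 F137639)
theorem F292366 : act 1 n44833 = n42769 := (sb E29895 F73734)
theorem F292367 : act 2 n44833 = n47887 := (sb E29895 (iv2 F75188))
theorem F292368 : act 4 n44833 = n22371 := (sb E29895 (iv4 D46657))
theorem E31968 : n87842 = n48088 := (((F75558).symm.trans (sb E29895 (iv5 F134811)))).symm
theorem F292369 : act 1 n46951 = n42214 := (sb E29897 F138907)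
theorem F292370 : act 7 n46951 = n42432 := (sb E29897 F138908)
theorem F292371 : act 0 n46947 = n42214 := (sb E29898 F133617)
theorem F292372 : act 2 n46947 = n42432 := (sb E29898 F133615)
theorem E31969 : n182295 = n100587 := ((((iv4 F154652)).symm.trans (sb E29898 D182295))).symm
theorem E31970 : n114467 = n100658 := (((D100658).symm.trans (sb E29898 (iv6 F178525)))).symm
theorem F292373 : act 1 n95317 = n48270 := (sb E29903 (iv0 D104296))
theorem F292374 : act 6 n44839 = n48270 := (sb E29904 (iv6 D104300))
theorem F292375 : act 1 n44842 = n87030 := (sb E29906 F140538)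
theorem F292376 : act 6 n44842 = n44004 := (sb E29906 F140534)
theorem F292377 : act 0 n10906 = n19095 := (sb E29907 F62527)
theorem F292378 : act 1 n10931 = n19095 := (sb E29908 F62482)
theorem F292379 : act 6 n10931 = n20701 := (sb E29908 (iv6 F32826))
theorem E31977 : n103446 = n93078 := (((D93078).symm.trans (sb E29912 (iv5 F158739)))).symm
theorem E31978 : n100157 = n92897 := ((((iv4 F143274)).symm.trans (sb E29913 (iv4 F154089)))).symm
theorem E31979 : n103447 = n93080 := (((D93080).symm.trans (sb E29913 D103447))).symm
theorem E31980 : n45033 = n41224 := ((((iv1 F62422)).symm.trans (sb E29918 (tr (iv1 F160145) E31638)))).symm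
theorem E31984 : n48553 = n22826 := ((((iv1 F62157)).symm.trans (sb E29920 (tr (iv1 F160150) E31637)))).symm
theorem E31985 : n48552 = n19361 := (((F62379).symm.trans (sb E29920 (tr F160148 E31636)))).symm
theorem F292380 : act 5 n100269 = n90450 := (sb E29923 F160154)
theorem F292381 : act 7 n100269 = n104445 := (sb E29923 F160153)
theorem F292382 : act 5 n42384 = n46952 := (sb E29927 (iv5 D100670))
theorem E31990 : n89642 = n48313 := (((D48313).symm.trans (sb E29929 D89642))).symm
theorem F292383 : act 4 n44537 = n42666 := (sb E29931 F140147)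
theorem E31993 : n95351 = n89719 := (((iv1 F146978)).symm.trans (sb E29932 F151213))
theorem F292384 : act 1 n22592 = n42666 := (sb E29933 (iv0 D91103))
theorem F292385 : act 1 n91104 = n46976 := (sb E29934 F289661)
theorem F292386 : act 2 n91104 = n46979 := (sb E29934 F289662)
theorem F292387 : act 4 n91104 = n104769 := (sb E29934 (iv4 F160501))
theorem F292388 : act 6 n91104 = n46601 := (sb E29934 F289663)
theorem F292389 : act 7 n91104 = n46504 := (sb E29934 F289664)
theorem F292390 : act 0 n91095 = n46504 := (sb E29935 F289674)
theorem F292391 : act 1 n91095 = n46979 := (sb E29935 F289675)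
theorem F292392 : act 3 n91095 = n47069 := (sb E29935 F290184)
theorem F292393 : act 4 n91095 = n48436 := (sb E29935 F151019)
theorem F292394 : act 7 n91095 = n46976 := (sb E29935 F289671)
theorem F292395 : act 7 n91105 = n47474 := (sb E29936 F151025)
theorem F292396 : act 2 n91109 = n47488 := (sb E29938 F151031)
theorem E31996 : n22192 = n20639 := ((((iv1 F32756)).symm.trans (sb E29939 (iv1 F71948)))).symm
theorem E31998 : n97734 = n20131 := (((F31970).symm.trans (sb E29939 D97734))).symm
theorem E31999 : n43300 = n22153 := ((D43300).symm.trans (sb E29940 (iv5 D46327)))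
theorem F292397 : act 2 n41205 = n22959 := (sb E29942 F65036)
theorem F292398 : act 6 n41205 = n19865 := (sb E29942 (iv6 D42116))
theorem E32002 : n43303 = n22154 := ((D43303).symm.trans (sb E29943 (iv5 D46331)))
theorem F292399 : act 6 n20447 = n22263 := (sb E29943 (iv6 F72988))
theorem E32007 : n42599 = n41540 := (((iv1 F66435)).symm.trans (sb E29950 F74922))
theorem E32008 : n97796 = n42253 := ((((iv4 F65268)).symm.trans (sb E29950 (iv4 F150758)))).symm
theorem E32021 : n21508 = n19387 := (((D19387).symm.trans (sb E29957 (iv1 D45035)))).symm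
theorem E32025 : n9982 = n8561 := (((D8561).symm.trans (sb E29962 (iv6 D21007)))).symm
theorem E32026 : n21019 = n1007 := (((F3288).symm.trans (sb E29964 (iv1 D44211)))).symm
theorem F292400 : act 3 n22881 = n45358 := (sb E29966 (iv3 D97028))
theorem F292401 : act 0 n97029 = n87017 := (sb E29967 F157543)
theorem F292402 : act 2 n97029 = n48233 := (sb E29967 F157540)
theorem F292403 : act 3 n97029 = n47582 := (sb E29967 F157541)
theorem F292404 : act 4 n97029 = n101422 := (sb E29967 F157545)
theorem F292405 : act 7 n97029 = n48185 := (sb E29967 F157542)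
theorem F292406 : act 6 n40861 = n45358 := (sb E29968 (iv6 D97030))
theorem F292407 : act 0 n10514 = n20115 := (sb E29987 (iv1 F31931))
theorem F292408 : act 5 n10514 = n8680 := (sb E29987 (iv5 D18463))
theorem F292409 : act 7 n10514 = n20117 := (sb E29987 (iv7 F31940))
theorem F292410 : act 1 n42501 = n23705 := (sb E29995 F76459)
theorem F292411 : act 3 n42501 = n88618 := (sb E29995 F137590)
theorem E32054 : n87162 = n47568 := ((((iv4 F74807)).symm.trans (sb E29995 (iv4 F135670)))).symm
theorem E32055 : n105109 = n43943 := ((((iv5 F69077)).symm.trans (sb E29995 D105109))).symm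
theorem F292412 : act 0 n91150 = n87987 := (sb E29996 F289990)
theorem E32057 : n43981 = n42684 := (((F140197).symm.trans (sb E29996 (iv3 D94089)))).symm
theorem F292413 : act 5 n91150 = n94109 := (sb E29996 (iv5 F145042))
theorem F292414 : act 6 n91150 = n88206 := (sb E29996 F144975)
theorem E32058 : n186391 = n102858 := (((iv2 F289173)).symm.trans (sb E30364 F288653))
theorem E32059 : n186392 = n43943 := ((D186392).symm.trans (sb E30364 (tr F288654 E32055)))
theorem E32060 : n186394 = n88618 := ((D186394).symm.trans (sb E30364 (iv5 D186048)))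
theorem E32061 : n102859 = n90813 := ((((iv2 F143476)).symm.trans (sb E29998 F288656))).symm
theorem F292415 : act 6 n93025 = n88618 := (sb E29998 (iv6 D186049))
theorem F292416 : act 5 n46329 = n43302 := (sb E29999 (iv5 D92554))
theorem F292417 : act 6 n46466 = n43302 := (sb E30000 (iv6 D92555))
theorem F292418 : act 6 n92621 = n88619 := (sb E30003 F152982)
theorem F292419 : act 0 n90993 = n151945 := (sb E30005 (iv1 F238932))
theorem F292420 : act 1 n90993 = n151944 := (sb E30005 F238936)
theorem F292421 : act 2 n90993 = n151946 := (sb E30005 (iv2 F238934))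
theorem F292422 : act 6 n90993 = n151980 := (sb E30005 (iv6 F238994))
theorem F292423 : act 7 n90993 = n46139 := (sb E30005 F145545)
theorem F292424 : act 7 n75291 = n46142 := (sb E30006 F145547)
theorem F292425 : act 3 n90995 = n151980 := (sb E30007 (iv3 F238993))
theorem F292426 : act 5 n90995 = n93999 := (sb E30007 F145550)
theorem F292427 : act 7 n90995 = n151975 := (sb E30007 (iv7 F238991))
theorem F292428 : act 2 n20949 = n35889 := (sb E30008 F67537)
theorem E32063 : n92238 = n44103 := (((D44103).symm.trans (sb E30008 D92238))).symm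
theorem E32064 : n92239 = n44074 := ((((iv6 F69418)).symm.trans (sb E30008 D92239))).symm
theorem F292429 : act 7 n20949 = n43182 := (sb E30008 (iv7 F67638))
theorem F292430 : act 0 n43101 = n44102 := (sb E30009 (iv1 F145151))
theorem F292431 : act 1 n43101 = n44101 := (sb E30009 F145152)
theorem F292432 : act 5 n94360 = n75810 := (sb E30010 (iv5 D158880))
theorem F292433 : act 7 n94360 = n84302 := (sb E30010 F250161)
theorem F292434 : act 5 n34667 = n44102 := (sb E30011 (iv5 D94361))
theorem F292435 : act 2 n94362 = n84312 := (sb E30012 F250163)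
theorem F292436 : act 4 n94362 = n88621 := (sb E30012 F250164)
theorem F292437 : act 2 n103309 = n88697 := (sb E30013 F288938)
theorem E32066 : n103869 = n86875 := ((F159287).symm.trans (sb E30013 (iv3 D181889)))
theorem F292438 : act 4 n103309 = n88695 := (sb E30013 (iv4 F288940))
theorem F292439 : act 7 n103309 = n88702 := (sb E30013 F288939)
theorem F292440 : act 2 n42279 = n88699 := (sb E30014 F288958)
theorem F292441 : act 6 n42279 = n88695 := (sb E30014 (iv6 D186182))
theorem E32067 : n185653 = n103213 := ((D185653).symm.trans (sb E30015 (iv3 F251252)))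
theorem E32068 : n102892 = n90562 := (((iv4 F158199)).symm.trans (sb E30015 F159113))
theorem E32069 : n185654 = n97354 := ((D185654).symm.trans (sb E30015 F288029))
theorem E32070 : n185655 = n48017 := ((D185655).symm.trans (sb E30015 (iv6 D103676)))
theorem E32071 : n185659 = n95787 := ((D185659).symm.trans (sb E30016 (iv0 F178368)))
theorem F292442 : act 7 n88437 = n45475 := (sb E30016 F148742)
theorem E32074 : n185657 = n104698 := (((D104698).symm.trans (sb E30017 (iv2 F287967)))).symm
theorem F292443 : act 6 n48407 = n41283 := (sb E30017 (iv6 D88438))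
theorem F292444 : act 0 n94393 = n88707 := (sb E30018 (iv1 D186210))
theorem F292445 : act 1 n94393 = n88712 := (sb E30018 F288990)
theorem F292446 : act 0 n52120 = n88712 := (sb E30019 (iv1 F288989))
theorem F292447 : act 1 n52120 = n88707 := (sb E30019 (iv0 D186209))
theorem F292448 : act 0 n113009 = n88709 := (sb E30020 (iv1 F288924))
theorem F292449 : act 2 n113009 = n88712 := (sb E30020 F288921)
theorem F292450 : act 3 n113009 = n102862 := (sb E30020 F288922)
theorem F292451 : act 5 n113009 = n88694 := (sb E30020 (iv5 D186175))
theorem F292452 : act 7 n113009 = n88707 := (sb E30020 F288923)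
theorem F292453 : act 3 n185823 = n102863 := (sb E30023 F288927)
theorem F292454 : act 6 n185823 = n88694 := (sb E30023 (iv6 D186176))
theorem F292455 : act 5 n94357 = n75813 := (sb E30026 (iv5 D158889))
theorem F292456 : act 7 n94357 = n84310 := (sb E30026 F250179)
theorem F292457 : act 5 n34668 = n44101 := (sb E30027 (iv5 D94358))
theorem F292458 : act 2 n94359 = n84304 := (sb E30028 F250182)
theorem F292459 : act 4 n94359 = n88721 := (sb E30028 F250183)
theorem F292460 : act 1 n88785 = n94443 := (sb E30029 (iv0 F239685))
theorem E32077 : n102858 = n94445 := ((E32058).symm.trans (((iv2 F289173)).symm.trans (sb E30029 F145627)))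
theorem E32078 : n186386 = n94446 := ((F289172).symm.trans (sb E30029 (iv7 F145626)))
theorem E32079 : n90242 = n41446 := (((D41446).symm.trans (sb E30030 (iv1 F138808)))).symm
theorem E32080 : n43224 = n41447 := (((D41447).symm.trans (sb E30030 (iv0 F69293)))).symm
theorem E32081 : n90240 = n41448 := (((D41448).symm.trans (sb E30030 F138800))).symm
theorem F292461 : act 7 n19519 = n20985 := (sb E30030 F69292)
theorem F292462 : act 1 n4146 = n4526 := (sb E30032 (iv0 D9939))
theorem F292463 : act 2 n4146 = n4542 := (sb E30032 F35905)
theorem F292464 : act 7 n4146 = n4543 := (sb E30032 F35906)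
theorem E32088 : n42679 = n19364 := (((F66259).symm.trans (sb E30044 (tr (iv1 F160765) E31923)))).symm
theorem E32089 : n182712 = n45809 := (((F72320).symm.trans (sb E30044 (iv5 F284290)))).symm
theorem F292465 : act 5 n91380 = n95366 := (sb E30050 F160788)
theorem F292466 : act 7 n91380 = n104896 := (sb E30050 F160787)
theorem E32091 : n184226 = n42755 := (((D42755).symm.trans (sb E30052 D184226))).symm
theorem E32092 : n48136 = n42756 := (((D42756).symm.trans (sb E30052 (iv5 F134866)))).symm
theorem E32093 : n42547 = n19349 := (((F65652).symm.trans (sb E30052 F134862))).symm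
theorem F292467 : act 1 n182453 = n87352 := (sb E30054 (iv0 D182964))
theorem F292468 : act 2 n182453 = n89247 := (sb E30054 (iv2 F284564))
theorem E32094 : n21421 = n19129 := (((D19129).symm.trans (sb E30055 (iv3 F33635)))).symm
theorem E32096 : n98661 = n45031 := (((D45031).symm.trans (sb E30056 (iv3 F152095)))).symm
theorem E32097 : n86952 = n45032 := (((D45032).symm.trans (sb E30056 F135255))).symm
theorem E32098 : n88041 = n87104 := (((D87104).symm.trans (sb E30057 F289840))).symm
theorem E32100 : n21049 = n19147 := (((F61572).symm.trans (sb E30058 (iv1 D44262)))).symm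
theorem E32101 : n45027 = n40808 := (((iv0 F70849)).symm.trans (sb E30058 F69657))
theorem F292469 : act 2 n40473 = n44292 := (sb E30058 F69714)
theorem E32104 : n95373 = n89255 := (((D89255).symm.trans (sb E30060 F160752))).symm
theorem E32105 : n87052 = n46573 := ((D87052).symm.trans (sb E30062 F251750))
theorem E32106 : n98659 = n87053 := (((D87053).symm.trans (sb E30062 F152094))).symm
theorem E32107 : n87054 = n46776 := ((D87054).symm.trans (sb E30062 F143924))
theorem E32108 : n186452 = n87055 := (((D87055).symm.trans (sb E30062 F289272))).symm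
theorem E32109 : n47786 = n43654 := (((iv6 F75079)).symm.trans (sb E30062 (iv6 D93329)))
theorem E32111 : n41507 = n40520 := ((((iv1 F61657)).symm.trans (sb E30064 (iv1 D88902)))).symm
theorem E32113 : n87591 = n58711 := ((((iv4 F92779)).symm.trans (sb E30064 (iv4 F136407)))).symm
theorem E32115 : n47787 = n43655 := (((D43655).symm.trans (sb E30065 D47787))).symm
theorem F292470 : act 6 n20655 = n19117 := (sb E30065 F36055)
theorem E32116 : n48546 = n44873 := (((D44873).symm.trans (sb E30066 D48546))).symm
theorem F292471 : act 3 n21398 = n11090 := (sb E30066 (iv3 D23683))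
theorem E32119 : n48548 = n41671 := ((((iv5 F66311)).symm.trans (sb E30066 D48548))).symm
theorem E32121 : n47931 = n20695 := (((iv7 F75250)).symm.trans (sb E30068 (iv7 F62475)))
theorem F292472 : act 1 n40500 = n44292 := (sb E30069 F69707)
theorem E32122 : n94712 = n87183 := ((((iv3 F133792)).symm.trans (sb E30069 (iv3 F145999)))).symm
theorem E32123 : n94714 = n48513 := ((((iv4 F76347)).symm.trans (sb E30069 D94714))).symm
theorem E32124 : n21044 = n19138 := ((((iv5 D40500)).symm.trans (sb E30069 (iv5 D44255)))).symm
theorem E32125 : n94715 = n87184 := (((D87184).symm.trans (sb E30069 D94715))).symm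
theorem E32127 : n48525 = n44294 := (((D44294).symm.trans (sb E30070 D48525))).symm
theorem E32128 : n11085 = n10027 := ((((iv5 D21081)).symm.trans (sb E30070 (iv5 D23673)))).symm
theorem F292473 : act 5 n94801 = n48545 := (sb E30071 F160898)
theorem F292474 : act 7 n94801 = n87099 := (sb E30071 F160899)
theorem E32130 : n87575 = n81514 := (((F132356).symm.trans (sb E30072 F146135))).symm
theorem E32131 : n87582 = n81513 := (((F132357).symm.trans (sb E30072 F146144))).symm
theorem F292475 : act 4 n86361 = n44292 := (sb E30072 (iv4 D94802))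
theorem F292477 : act 7 n40470 = n44292 := (sb E30074 (iv7 F69713))
theorem E32134 : n89973 = n43950 := (((F251870).symm.trans (sb E30075 F283190))).symm
theorem F292478 : act 2 n92702 = n88696 := (sb E30075 (iv2 F288952))
theorem E32135 : n105111 = n90754 := ((((iv7 F205481)).symm.trans (sb E30075 (iv7 F288956)))).symm
theorem F292479 : act 3 n94033 = n88700 := (sb E30076 (iv3 F288945))
theorem E32136 : n103870 = n86876 := ((F159288).symm.trans (sb E30076 (iv4 D181894)))
theorem F292480 : act 7 n94033 = n88696 := (sb E30076 F288949)
theorem F292481 : act 0 n42496 = n88696 := (sb E30077 F138305)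
theorem E32137 : n90044 = n48473 := ((((iv4 F76242)).symm.trans (sb E30077 (iv4 F138356)))).symm
theorem F292482 : act 1 n94035 = n88696 := (sb E30078 F288901)
theorem F292483 : act 3 n94035 = n88687 := (sb E30078 (iv3 D186156))
theorem F292484 : act 4 n94035 = n185682 := (sb E30078 F288897)
theorem E32140 : n99950 = n87177 := ((((iv1 F133784)).symm.trans (sb E30079 (iv1 F153890)))).symm
theorem E32142 : n98617 = n87176 := ((((iv2 F138349)).symm.trans (sb E30079 (iv2 F152009)))).symm
theorem E32143 : n103208 = n96472 := (((D96472).symm.trans (sb E30079 (iv4 F158458)))).symm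
theorem E32144 : n98615 = n96473 := (((D96473).symm.trans (sb E30079 F152008))).symm
theorem E32145 : n96474 = n41003 := ((D96474).symm.trans (sb E30079 (iv6 D87885)))
theorem E32146 : n102634 = n87175 := ((((iv7 F138351)).symm.trans (sb E30079 (iv7 F157834)))).symm
theorem F292485 : act 2 n20827 = n23705 := (sb E30080 F133954)
theorem E32147 : n19828 = n9886 := ((((iv4 D20827)).symm.trans (sb E30080 (iv4 D42048)))).symm
theorem E32148 : n89974 = n43951 := (((D43951).symm.trans (sb E30080 D89974))).symm
theorem F292486 : act 0 n22873 = n23705 := (sb E30081 (iv1 F76463))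
theorem E32150 : n105106 = n47573 := ((((iv3 F74813)).symm.trans (sb E30081 D105106))).symm
theorem E32154 : n44846 = n42681 := (((iv3 F70445)).symm.trans (sb E30082 (iv3 F138392)))
theorem F292487 : act 2 n94032 = n102856 := (sb E30083 F284057)
theorem E32155 : n87165 = n47592 := (((F144867).symm.trans (sb E30083 F284058))).symm
theorem E32156 : n19132 = n10816 := (((F35576).symm.trans (sb E30084 (iv3 D40489)))).symm
theorem E32160 : n19830 = n19458 := ((((iv1 F35608)).symm.trans (sb E30087 (iv1 F31623)))).symm
theorem F292488 : act 1 n9452 = n5074 := (sb E30087 (iv0 D11096))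
theorem E32161 : n23699 = n20054 := ((((iv3 F31881)).symm.trans (sb E30087 D23699))).symm
theorem E32164 : n105115 = n41568 := (((F65984).symm.trans (sb E30088 D105115))).symm
theorem E32165 : n105116 = n88765 := ((((iv0 F290735)).symm.trans (sb E30088 D105116))).symm
theorem F292489 : act 5 n9139 = n5074 := (sb E30090 F14513)
theorem F292490 : act 7 n9139 = n5074 := (sb E30090 F14514)
theorem F292491 : act 0 n11098 = n9891 := (sb E30091 F32983)
theorem F292492 : act 6 n11098 = n19433 := (sb E30091 (iv6 F35618))
theorem E32172 : n43953 = n42994 := ((D43953).symm.trans (sb E30092 (iv1 F135647)))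
theorem E32175 : n43147 = n9889 := ((((iv5 D20838)).symm.trans (sb E30092 F137560))).symm
theorem E32177 : n40547 = n23704 := ((F66295).symm.trans (sb E30092 F133963))
theorem E32182 : n20373 = n9870 := (((F35737).symm.trans (sb E30093 (iv7 F137550)))).symm
theorem E32187 : n23707 = n20085 := ((D23707).symm.trans (sb E30095 (iv6 F32933)))
theorem F292493 : act 7 n11097 = n9891 := (sb E30095 (iv7 F35729))
theorem E32188 : n92417 = n88781 := (((iv3 F142140)).symm.trans (sb E30096 F289161))
theorem E32189 : n88779 = n20391 := ((((iv5 D43225)).symm.trans (sb E30096 (iv5 D186375)))).symm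
theorem E32190 : n105149 = n93814 := ((D105149).symm.trans (sb E30097 (iv4 F144617)))
theorem F292494 : act 7 n48623 = n43970 := (sb E30097 F136660)
theorem F292495 : act 6 n42537 = n23705 := (sb E30098 (iv6 D48624))
theorem E32197 : n96454 = n22884 := ((((iv3 F35580)).symm.trans (sb E30099 (iv3 F148528)))).symm
theorem E32202 : n91164 = n47566 := ((((iv3 F74801)).symm.trans (sb E30100 (iv3 F140214)))).symm
theorem F292496 : act 6 n185025 = n88687 := (sb E30104 (iv6 D186158))
theorem E32212 : n102975 = n43963 := (((D43963).symm.trans (sb E30105 F161039))).symm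
theorem F292497 : act 1 n20840 = n41442 := (sb E30106 (iv0 D88759))
theorem F292498 : act 4 n48237 = n91132 := (sb E30107 F147021)
theorem F292499 : act 7 n48237 = n44553 := (sb E30107 (iv7 D95390))
theorem E32215 : n104252 = n96401 := ((D104252).symm.trans (sb E30108 (iv4 F148391)))
theorem F292500 : act 7 n48243 = n44554 := (sb E30108 (iv7 D95395))
theorem E32216 : n102516 = n96417 := (((D96417).symm.trans (sb E30109 (iv1 F157485)))).symm
theorem E32217 : n96418 = n47560 := ((D96418).symm.trans (sb E30109 (iv0 D102533)))
theorem E32218 : n102515 = n96419 := (((D96419).symm.trans (sb E30109 F157496))).symm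
theorem F292501 : act 7 n45021 = n91408 := (sb E30109 (iv7 F157487))
theorem F292502 : act 0 n45022 = n87353 := (sb E30110 (iv1 F147319))
theorem F292503 : act 1 n45022 = n44664 := (sb E30110 (iv0 D95637))
theorem F292504 : act 7 n45022 = n87351 := (sb E30110 F147320)
theorem F292505 : act 0 n41904 = n44654 := (sb E30116 F137888)
theorem F292506 : act 1 n41904 = n44857 := (sb E30116 F137889)
theorem F292507 : act 2 n41904 = n41988 := (sb E30116 F137885)
theorem F292508 : act 7 n41904 = n41986 := (sb E30116 F137887)
theorem E32223 : n104155 = n97442 := (((D97442).symm.trans (sb E30117 D104155))).symm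
theorem E32224 : n104156 = n47870 := (((F75146).symm.trans (sb E30117 D104156))).symm
theorem E32232 : n94767 = n48122 := (((iv1 F146091)).symm.trans (sb E30122 (iv1 F159365)))
theorem E32233 : n94765 = n48116 := (((iv0 F146081)).symm.trans (sb E30122 (iv0 D103929)))
theorem F292509 : act 5 n19303 = n10648 := (sb E30123 F34930)
theorem F292510 : act 1 n20087 = n22491 := (sb E30124 F62962)
theorem F292511 : act 6 n20087 = n10648 := (sb E30124 F34734)
theorem E32234 : n104141 = n44556 := (((D44556).symm.trans (sb E30125 (iv3 F159630)))).symm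
theorem E32235 : n44557 = n40770 := ((D44557).symm.trans (sb E30125 F75741))
theorem F292512 : act 6 n8989 = n5002 := (sb E30129 (iv6 D10986))
theorem E32243 : n96389 = n86871 := ((D96389).symm.trans (sb E30130 F147336))
theorem E32244 : n86872 = n45497 := ((D86872).symm.trans (sb E30132 (iv5 F71748)))
theorem F292513 : act 6 n40302 = n21487 := (sb E30132 (iv6 D45007))
theorem E32253 : n93386 = n40446 := (((D40446).symm.trans (sb E30144 D93386))).symm
theorem E32255 : n102590 = n96455 := (((D96455).symm.trans (sb E30145 F157690))).symm
theorem E32256 : n99297 = n96456 := (((D96456).symm.trans (sb E30145 (iv2 F152893)))).symm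
theorem E32257 : n96457 = n89040 := ((D96457).symm.trans (sb E30145 F136714))
theorem E32258 : n96458 = n41012 := ((D96458).symm.trans (sb E30145 F74845))
theorem E32259 : n40455 = n40334 := ((F70884).symm.trans (sb E30146 (iv1 D86930)))
theorem E32260 : n40772 = n40464 := (((F70885).symm.trans (sb E30146 F133405))).symm
theorem E32262 : n182007 = n96459 := (((D96459).symm.trans (sb E30146 D182007))).symm
theorem F292514 : act 6 n19311 = n21509 := (sb E30147 (iv6 D45039))
theorem E32265 : n41514 = n9471 := (((D9471).symm.trans (sb E30148 D41514))).symm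
theorem E32268 : n40348 = n8968 := (((F28031).symm.trans (sb E30150 (iv1 D86933)))).symm
theorem F292515 : act 7 n21463 = n42546 := (sb E30151 F134308)
theorem E32273 : n102606 = n96464 := (((D96464).symm.trans (sb E30153 F287663))).symm
theorem E32275 : n96466 = n88331 := ((D96466).symm.trans (sb E30153 (iv6 D185423)))
theorem E32277 : n182005 = n96467 := (((D96467).symm.trans (sb E30154 D182005))).symm
theorem F292516 : act 6 n41229 = n21510 := (sb E30155 (iv6 D45042))
theorem F292517 : act 1 n19857 = n19541 := (sb E30159 F62860)
theorem F292518 : act 3 n19857 = n10514 := (sb E30159 (iv3 D22078))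
theorem E32285 : n40502 = n19229 := (((iv4 F61619)).symm.trans (sb E30159 F62862))
theorem F292519 : act 7 n19857 = n19545 := (sb E30159 (iv7 F62880))
theorem F292520 : act 5 n4091 = n4693 := (sb E30160 (iv5 D10362))
theorem E32288 : n40501 = n19230 := (((F62621).symm.trans (sb E30162 (iv4 F61613)))).symm
theorem F292521 : act 5 n10360 = n9106 := (sb E30162 (iv5 D19411))
theorem F292522 : act 7 n10360 = n19053 := (sb E30162 F31072)
theorem E32303 : n90969 = n19555 := (((D19555).symm.trans (sb E30169 (iv6 F139995)))).symm
theorem F292523 : act 5 n4995 = n10358 := (sb E30174 (iv5 D21723))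
theorem F292524 : act 0 n4908 = n9460 := (sb E30177 (iv1 D20097))
theorem E32316 : n44230 = n1674 := (((D1674).symm.trans (sb E30183 (iv3 F69592)))).symm
theorem E32318 : n10010 = n1677 := (((D1677).symm.trans (sb E30183 (iv6 D21028)))).symm
theorem E32322 : n44189 = n4761 := ((((iv3 F6870)).symm.trans (sb E30187 (iv3 F69534)))).symm
theorem E32323 : n44193 = n4766 := ((((iv5 F6876)).symm.trans (sb E30187 D44193))).symm
theorem E32324 : n9987 = n4771 := (((D4771).symm.trans (sb E30187 (iv6 D21011)))).symm
theorem E32332 : n103864 = n86877 := (((D86877).symm.trans (sb E30193 (iv2 F159284)))).symm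
theorem E32333 : n103871 = n86878 := (((D86878).symm.trans (sb E30193 D103871))).symm
theorem E32334 : n40966 = n23207 := (((iv6 F62111)).symm.trans (sb E30193 (iv6 D48086)))
theorem E32335 : n86879 = n40699 := ((D86879).symm.trans (sb E30194 F75563))
theorem E32336 : n96581 = n86880 := (((D86880).symm.trans (sb E30194 (iv0 F148770)))).symm
theorem F292525 : act 6 n10920 = n19052 := (sb E30195 F30950)
theorem F292526 : act 5 n4317 = n4663 := (sb E30196 (iv5 D10282))
theorem E32342 : n4664 = n4060 := (((F17484).symm.trans (sb E30196 F16283))).symm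
theorem F292527 : act 5 n10905 = n9069 := (sb E30201 F30951)
theorem E32351 : n92805 = n47730 := ((((iv1 F137500)).symm.trans (sb E30202 F251913))).symm
theorem F292528 : act 5 n89670 = n94348 := (sb E30202 F251912)
theorem E32352 : n183917 = n76491 := (((iv6 F285779)).symm.trans (sb E30202 (iv6 D159826)))
theorem F292529 : act 5 n44098 = n41880 := (sb E30203 (iv5 D89671))
theorem F292530 : act 6 n43317 = n41880 := (sb E30204 F134699)
theorem F292531 : act 0 n43169 = n20948 := (sb E30206 (iv1 F69288))
theorem F292532 : act 1 n43169 = n20947 := (sb E30206 F69289)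
theorem E32358 : n94143 = n92316 := ((((iv3 F141956)).symm.trans (sb E30206 (iv3 F145097)))).symm
theorem E32359 : n94164 = n92318 := (((D92318).symm.trans (sb E30206 D94164))).symm
theorem F292533 : act 1 n44099 = n84254 := (sb E30207 (iv0 F129328))
theorem E32360 : n158064 = n94351 := (((D94351).symm.trans (sb E30207 (iv3 F249009)))).symm
theorem E32361 : n94352 = n34472 := ((D94352).symm.trans (sb E30207 F112894))
theorem E32362 : n158073 = n94353 := (((D94353).symm.trans (sb E30207 D158073))).symm
theorem E32366 : n10530 = n4826 := (((F17027).symm.trans (sb E30211 F34548))).symm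
theorem E32367 : n21002 = n1831 := ((((iv3 D4332)).symm.trans (sb E30214 D21002))).symm
theorem E32368 : n21003 = n9616 := (((D9616).symm.trans (sb E30214 D21003))).symm
theorem E32369 : n4558 = n3772 := (((F6233).symm.trans (sb E30214 F15695))).symm
theorem E32377 : n94340 = n34459 := (((D34459).symm.trans (sb E30217 (iv4 F145475)))).symm
theorem E32381 : n48258 = n40497 := (((D40497).symm.trans (sb E30219 (iv3 F75865)))).symm
theorem E32382 : n48263 = n40498 := (((D40498).symm.trans (sb E30219 D48263))).symm
theorem F292534 : act 6 n19137 = n10984 := (sb E30219 (iv6 D23412))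
theorem E32383 : n95403 = n47584 := ((D95403).symm.trans (sb E30220 (iv0 D102588)))
theorem E32384 : n95404 = n47589 := ((D95404).symm.trans (sb E30220 F157553))
theorem E32385 : n95405 = n87584 := ((D95405).symm.trans (sb E30220 F157548))
theorem E32386 : n95406 = n88325 := ((D95406).symm.trans (sb E30220 F157552))
theorem E32387 : n44252 = n40504 := (((iv1 F69623)).symm.trans (sb E30221 F70077))
theorem E32388 : n40511 = n19231 := ((((iv0 D40769)).symm.trans (sb E30221 F70078))).symm
theorem F292535 : act 2 n40769 = n45041 := (sb E30221 (iv2 F70891))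
theorem E32389 : n95277 = n87585 := (((D87585).symm.trans (sb E30221 (iv4 F146911)))).symm
theorem F292536 : act 5 n40769 = n21198 := (sb E30221 (iv5 D44560))
theorem E32390 : n95407 = n87586 := (((D87586).symm.trans (sb E30221 D95407))).symm
theorem F292537 : act 7 n40769 = n45038 := (sb E30221 (iv7 F70883))
theorem F292538 : act 6 n41222 = n21198 := (sb E30222 (iv6 D44561))
theorem F292539 : act 5 n9470 = n19541 := (sb E30224 (iv5 D41504))
theorem E32394 : n21462 = n9029 := ((((iv6 F17424)).symm.trans (sb E30224 F64010))).symm
theorem E32398 : n87606 = n21168 := ((((iv5 F33413)).symm.trans (sb E30225 D87606))).symm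
theorem E32400 : n102896 = n89658 := (((iv2 F158201)).symm.trans (iv2 (sb E30227 (tr F251718 E30621))))
theorem F292540 : act 6 n89658 = n76437 := (sb E30227 (iv6 D159765))
theorem E32401 : n102891 = n89659 := ((D102891).symm.trans (iv2 (sb E30228 (tr (iv2 F251723) E30620))))
theorem E32402 : n182311 = n99656 := (((iv4 F283851)).symm.trans (sb E30228 (iv4 F153482)))
theorem F292541 : act 6 n89659 = n42368 := (sb E30228 (iv6 D90532))
theorem F292542 : act 5 n89660 = n94335 := (sb E30229 (iv5 F157708))
theorem F292543 : act 6 n89660 = n185826 := (sb E30229 (iv6 F288145))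
theorem F292544 : act 5 n44095 = n41877 := (sb E30230 (iv5 D89661))
theorem F292545 : act 6 n88503 = n41877 := (sb E30231 (iv6 D89662))
theorem F292546 : act 0 n44096 = n84254 := (sb E30232 (iv1 F129329))
theorem E32403 : n158009 = n94339 := (((D94339).symm.trans (sb E30232 (iv3 F248928)))).symm
theorem E32404 : n158010 = n94341 := (((D94341).symm.trans (sb E30232 D158010))).symm
theorem F292547 : act 4 n43264 = n41310 := (sb E30234 (iv4 F291113))
theorem F292548 : act 2 n87041 = n47737 := (sb E30235 F137488)
theorem F292549 : act 6 n19714 = n41310 := (sb E30236 (iv6 F291114))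
theorem E32412 : n19410 = n10356 := (((D10356).symm.trans (sb E30240 D19410))).symm
theorem F292550 : act 5 n4692 = n4090 := (sb E30240 (iv5 D9105))
theorem F292551 : act 7 n4692 = n9335 := (sb E30240 (iv7 F14534))
theorem E32414 : n44038 = n16723 := ((((iv0 F27441)).symm.trans (sb E30242 (iv0 D94195)))).symm
theorem E32415 : n44018 = n43175 := (((D43175).symm.trans (sb E30243 D44018))).symm
theorem F292552 : act 4 n20365 = n10355 := (sb E30243 (iv4 F33065))
theorem F292553 : act 6 n20365 = n42460 := (sb E30243 (iv6 F65569))
theorem F292554 : act 7 n20365 = n9950 := (sb E30243 F62873)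
theorem F292555 : act 6 n90015 = n44525 := (sb E30256 (iv6 D95321))
theorem F292556 : act 3 n94011 = n88698 := (sb E30257 F288959)
theorem F292557 : act 4 n94011 = n181697 := (sb E30257 F288960)
theorem F292558 : act 5 n94011 = n88696 := (sb E30257 (iv5 D186183))
theorem F292559 : act 3 n88464 = n88699 := (sb E30258 F288961)
theorem F292560 : act 6 n88464 = n88696 := (sb E30258 (iv6 D186184))
theorem F292561 : act 0 n44839 = n88702 := (sb E30259 F138413)
theorem F292562 : act 1 n44839 = n88697 := (sb E30259 (iv0 F138414))
theorem E32436 : n42090 = n21359 := ((((iv3 D44839)).symm.trans (sb E30259 (iv3 D90064)))).symm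
theorem F292563 : act 0 n103304 = n88697 := (sb E30260 (iv1 F288934))
theorem F292564 : act 1 n103304 = n88702 := (sb E30260 F288444)
theorem F292565 : act 4 n44932 = n88699 := (sb E30261 F288965)
theorem F292566 : act 6 n44932 = n88697 := (sb E30261 (iv6 D186187))
theorem F292567 : act 2 n103310 = n88702 := (sb E30262 F288947)
theorem F292568 : act 4 n103310 = n88700 := (sb E30262 (iv4 F288946))
theorem F292569 : act 7 n103310 = n88697 := (sb E30262 F288948)
theorem F292570 : act 0 n44120 = n88698 := (sb E30263 (iv1 D186189))
theorem F292571 : act 1 n44120 = n88703 := (sb E30263 F288966)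
theorem F292572 : act 1 n42277 = n88699 := (sb E30264 (iv0 D186192))
theorem F292573 : act 0 n42281 = n88699 := (sb E30265 (iv1 D186193))
theorem F292574 : act 7 n42278 = n88699 := (sb E30266 (iv7 D186195))
theorem F292575 : act 6 n104716 = n88702 := (sb E30267 (iv6 D186202))
theorem F292576 : act 2 n112955 = n88703 := (sb E30268 F288968)
theorem F292577 : act 4 n112955 = n90054 := (sb E30268 F288969)
theorem F292578 : act 5 n112955 = n88700 := (sb E30268 F288970)
theorem F292579 : act 7 n112955 = n88698 := (sb E30268 (iv7 D186191))
theorem F292580 : act 6 n52178 = n88703 := (sb E30269 (iv6 D186204))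
theorem F292581 : act 6 n105375 = n88700 := (sb E30272 (iv6 D186196))
theorem F292582 : act 6 n114080 = n88701 := (sb E30273 (iv6 D186200))
theorem E32439 : n185635 = n48048 := (((F143305).symm.trans (sb E30278 (iv3 F287950)))).symm
theorem F292583 : act 6 n92935 = n88629 := (sb E30278 F153833)
theorem F292584 : act 3 n104855 = n88628 := (sb E30280 (iv3 D186064))
theorem E32441 : n89677 = n88546 := (((F157810).symm.trans (sb E30281 F288678))).symm
theorem E32442 : n131146 = n102957 := ((F235283).symm.trans (sb E30281 (iv0 F288681)))
theorem F292585 : act 3 n76449 = n89658 := (sb E30281 F288679)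
theorem F292586 : act 4 n76449 = n88628 := (sb E30281 (iv4 D186065))
theorem F292587 : act 6 n76448 = n88628 := (sb E30282 (iv6 D186067))
theorem E32443 : n185652 = n88627 := (((iv2 F287963)).symm.trans (sb E30283 (iv2 D186058)))
theorem E32444 : n185648 = n88628 := ((F287960).symm.trans (sb E30283 (iv7 F288673)))
theorem F292588 : act 0 n97151 = n185656 := (sb E30284 (iv1 F288688))
theorem F292589 : act 1 n97349 = n185656 := (sb E30285 F288689)
theorem F292590 : act 0 n97380 = n95787 := (sb E30286 (tr (iv1 F288686) E32071))
theorem F292591 : act 1 n97380 = n185658 := (sb E30286 F288687)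
theorem F292592 : act 3 n97380 = n185634 := (sb E30286 F288684)
theorem F292593 : act 4 n97380 = n102803 := (sb E30286 F288705)
theorem F292594 : act 5 n97380 = n88629 := (sb E30286 (iv5 D186068))
theorem F292595 : act 7 n97380 = n185656 := (sb E30286 F288685)
theorem E32445 : n186071 = n52162 := (E30287).trans E31425
theorem E32446 : n102803 = n52120 := (((F82470).symm.trans (sb E32445 (iv2 F288694)))).symm
theorem E32447 : n102798 = n94393 := ((((iv7 F178351)).symm.trans (sb E32445 F288690))).symm
theorem F292596 : act 7 n52120 = n88709 := (sb E30292 (iv7 F288994))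
theorem F292597 : act 2 n94393 = n88709 := (sb E30297 F288995)
theorem F292598 : act 5 n89648 = n88709 := (sb E30298 (iv5 D186221))
theorem F292599 : act 6 n113016 = n88709 := (sb E30299 (iv6 D186222))
theorem F292600 : act 1 n61523 = n88710 := (sb E30300 (iv0 D186223))
theorem E32450 : n90284 = n88615 := (((D88615).symm.trans (sb E30311 F290283))).symm
theorem E32451 : n88616 = n88521 := ((D88616).symm.trans (sb E30311 F143046))
theorem F292601 : act 6 n41359 = n43392 := (sb E30311 (iv6 D92757))
theorem F292602 : act 0 n38886 = n20945 := (sb E30312 (iv1 F69425))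
theorem F292603 : act 1 n38886 = n20940 := (sb E30312 (iv0 D44081))
theorem E32453 : n94298 = n84336 := (((D84336).symm.trans (sb E30312 D94298))).symm
theorem E32465 : n44037 = n8133 := (((F17455).symm.trans (sb E30321 D44037))).symm
theorem E32467 : n4554 = n1009 := ((((iv1 D1995)).symm.trans (sb E30322 (iv1 F16873)))).symm
theorem F292604 : act 5 n98707 = n84250 := (sb E30335 (iv5 D176713))
theorem F292605 : act 7 n98707 = n158066 := (sb E30335 F276082)
theorem F292606 : act 5 n38856 = n46142 := (sb E30336 (iv5 D98708))
theorem F292607 : act 2 n98704 = n158069 := (sb E30337 F276085)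
theorem F292608 : act 1 n94060 = n88716 := (sb E30341 (iv0 D186243))
theorem F292609 : act 0 n20902 = n22970 := (sb E30344 F63840)
theorem F292610 : act 1 n20902 = n22967 := (sb E30344 F63841)
theorem E32472 : n88670 = n44016 := ((((iv3 F69257)).symm.trans (sb E30344 (iv3 F135998)))).symm
theorem F292611 : act 4 n20902 = n35889 := (sb E30344 F63839)
theorem E32473 : n88672 = n43882 := ((((iv6 F68993)).symm.trans (sb E30344 D88672))).symm
theorem F292612 : act 7 n20902 = n43169 := (sb E30344 (iv7 F67600))
theorem E32474 : n164103 = n133396 := ((D164103).symm.trans (sb E30346 (iv0 F214475)))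
theorem F292613 : act 4 n92345 = n93980 := (sb E30347 F145487)
theorem E32475 : n43180 = n20805 := (((iv3 F67632)).symm.trans (sb E30348 F33130))
theorem E32476 : n44106 = n43183 := (((D43183).symm.trans (sb E30348 D44106))).symm
theorem F292614 : act 7 n20367 = n9951 := (sb E30348 (iv7 D20950))
theorem F292615 : act 5 n92685 = n46761 := (sb E30356 (iv5 D100194))
theorem F292616 : act 1 n91147 = n87987 := (sb E30360 F289991)
theorem F292617 : act 3 n91147 = n88229 := (sb E30360 F285661)
theorem F292618 : act 6 n91147 = n87702 := (sb E30360 (iv6 D183851))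
theorem E32478 : n42678 = n40653 := ((D42678).symm.trans (sb E30361 (iv1 F66334)))
theorem E32479 : n43974 = n42682 := (((D42682).symm.trans (sb E30361 (iv5 F69133)))).symm
theorem E32480 : n42683 = n19256 := ((D42683).symm.trans (sb E30361 (iv6 D40855)))
theorem F292619 : act 7 n91148 = n94109 := (sb E30362 (iv7 F145043))
theorem F292620 : act 6 n40853 = n42680 := (sb E30363 (iv6 D91149))
theorem F292621 : act 6 n92711 = n88617 := (sb E30365 (iv6 D186047))
theorem E32481 : n100523 = n90211 := (((iv1 F154575)).symm.trans (sb E30366 (iv1 F142545)))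
theorem E32482 : n90210 = n41250 := ((((iv0 D88361)).symm.trans (sb E30366 F142544))).symm
theorem F292622 : act 2 n88361 = n43299 := (sb E30366 (iv2 D92545))
theorem F292623 : act 3 n88361 = n90203 := (sb E30366 F142541)
theorem F292624 : act 4 n88361 = n90033 := (sb E30366 F142542)
theorem E32483 : n100518 = n90212 := ((F154568).symm.trans (sb E30366 F142543))
theorem E32484 : n22156 = n20123 := (((iv1 F64103)).symm.trans (sb E30367 F65095))
theorem E32485 : n20110 = n19558 := ((((iv0 D41542)).symm.trans (sb E30367 F65096))).symm
theorem E32486 : n88976 = n22154 := ((D88976).symm.trans (sb E30367 (tr (iv4 F67952) E32002)))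
theorem F292625 : act 5 n41542 = n19895 := (sb E30367 (iv5 D42165))
theorem E32487 : n90206 = n88977 := (((D88977).symm.trans (sb E30367 D90206))).symm
theorem F292626 : act 4 n22857 = n22959 := (sb E30368 F65097)
theorem F292627 : act 6 n22857 = n19895 := (sb E30368 (iv6 D42166))
theorem F292628 : act 0 n44119 = n89648 := (sb E30375 (iv1 F137443))
theorem E32496 : n94376 = n91855 := (((iv4 F145502)).symm.trans (sb E30375 (iv4 F141207)))
theorem F292629 : act 7 n44119 = n89649 := (sb E30375 (iv7 F137441))
theorem F292630 : act 1 n94403 = n44827 := (sb E30376 (iv0 D96066))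
theorem E32497 : n176923 = n97423 := ((F291632).symm.trans (sb E30376 F251874))
theorem F292631 : act 5 n94403 = n103309 := (sb E30376 (iv5 F251865))
theorem F292632 : act 0 n44117 = n89649 := (sb E30377 (iv1 F137442))
theorem F292633 : act 2 n44117 = n89648 := (sb E30377 (iv2 F288695))
theorem E32498 : n102796 = n43937 := ((((iv3 F144763)).symm.trans (sb E30377 D102796))).symm
theorem E32499 : n102797 = n93933 := (((F144762).symm.trans (sb E30377 D102797))).symm
theorem F292634 : act 1 n42123 = n89649 := (sb E30378 F137444)
theorem E32502 : n102802 = n45328 := ((((iv4 F71412)).symm.trans (sb E30378 D102802))).symm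
theorem F292635 : act 7 n42123 = n89648 := (sb E30378 (iv7 F288696))
theorem E32504 : n94374 = n91853 := (((D91853).symm.trans (sb E30379 D94374))).symm
theorem E32505 : n91854 = n44732 := ((D91854).symm.trans (sb E30379 F157606))
theorem F292636 : act 4 n42937 = n20966 := (sb E30379 F69448)
theorem F292637 : act 6 n42937 = n89923 := (sb E30379 (iv6 F138092))
theorem F292638 : act 7 n42937 = n21691 := (sb E30379 F69449)
theorem E32508 : n94366 = n78826 := (((D78826).symm.trans (sb E30381 (iv3 F145485)))).symm
theorem F292639 : act 5 n35885 = n20949 := (sb E30381 (iv5 D44104))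
theorem F292640 : act 0 n9954 = n19124 := (sb E30382 F30734)
theorem E32510 : n21468 = n19208 := ((((iv2 F62905)).symm.trans (sb E30382 (iv2 F33738)))).symm
theorem F292641 : act 4 n9954 = n20281 := (sb E30382 (iv4 F32177))
theorem F292642 : act 5 n9954 = n4937 := (sb E30382 (iv5 D10831))
theorem F292643 : act 3 n44140 = n89649 := (sb E30383 (iv3 F137440))
theorem E32511 : n93121 = n46319 := ((((iv4 F72973)).symm.trans (sb E30383 (iv4 F143613)))).symm
theorem E32513 : n102824 = n89199 := ((((iv4 F136907)).symm.trans (sb E30384 D102824))).symm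
theorem E32514 : n102825 = n90241 := (((D90241).symm.trans (sb E30384 D102825))).symm
theorem E32517 : n43972 = n43624 := (((iv4 F69477)).symm.trans (sb E30385 (iv4 F74973)))
theorem E32518 : n102827 = n94442 := (((D94442).symm.trans (sb E30385 D102827))).symm
theorem E32520 : n93119 = n45990 := (((F157224).symm.trans (sb E30386 D93119))).symm
theorem F292644 : act 1 n9959 = n9493 := (sb E30387 F30718)
theorem F292645 : act 5 n9959 = n4940 := (sb E30387 (iv5 D10836))
theorem F292646 : act 7 n9959 = n9185 := (sb E30387 F17383)
theorem F292647 : act 5 n89688 = n42461 := (sb E30389 (iv5 D90703))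
theorem F292648 : act 5 n89686 = n88484 := (sb E30391 F145135)
theorem F292649 : act 2 n48295 = n89484 := (sb E30405 F288556)
theorem F292650 : act 1 n41771 = n42676 := (sb E30407 F75919)
theorem F292651 : act 6 n45756 = n88475 := (sb E30408 F144865)
theorem E32534 : n43621 = n4914 := (((F13566).symm.trans (sb E30409 (iv1 D93253)))).symm
theorem F292652 : act 5 n9250 = n19209 := (sb E30416 (iv5 D40709))
theorem F292653 : act 0 n41349 = n42676 := (sb E30418 (iv1 D91137))
theorem F292654 : act 0 n92810 = n46022 := (sb E30419 (iv1 D98372))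
theorem F292655 : act 4 n92810 = n47480 := (sb E30419 F151799)
theorem F292656 : act 7 n92810 = n89476 := (sb E30419 F151798)
theorem F292657 : act 7 n91131 = n89478 := (sb E30421 F288549)
theorem F292658 : act 1 n91138 = n46022 := (sb E30422 (iv0 D98371))
theorem F292659 : act 2 n91138 = n89476 := (sb E30422 (iv2 F151796))
theorem F292660 : act 2 n91135 = n89477 := (sb E30423 F288550)
theorem F292661 : act 0 n90473 = n84682 := (sb E30428 F289812)
theorem F292662 : act 2 n90473 = n100026 := (sb E30428 F289813)
theorem F292663 : act 3 n90473 = n88336 := (sb E30428 (iv3 F157416))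
theorem F292664 : act 4 n90473 = n47535 := (sb E30428 (iv4 D102467))
theorem F292665 : act 6 n90473 = n98448 := (sb E30428 F289814)
theorem F292666 : act 7 n90473 = n99979 := (sb E30428 F289815)
theorem F292667 : act 0 n46709 = n42338 := (sb E30429 (iv1 D90474))
theorem F292668 : act 0 n90476 = n122410 := (sb E30430 F289846)
theorem F292669 : act 1 n90476 = n46029 := (sb E30430 F289847)
theorem F292670 : act 2 n90476 = n122407 := (sb E30430 F290029)
theorem F292671 : act 6 n90476 = n179808 := (sb E30430 F289849)
theorem F292672 : act 7 n90476 = n102666 := (sb E30430 (iv7 F157903))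
theorem E32545 : n99351 = n43829 := (((D43829).symm.trans (sb E30431 F277465))).symm
theorem E32546 : n102469 = n43830 := (((D43830).symm.trans (sb E30431 F289923))).symm
theorem E32547 : n179809 = n43832 := (((D43832).symm.trans (sb E30431 (iv5 F280029)))).symm
theorem F292673 : act 0 n89481 = n104411 := (sb E30432 (iv1 F160070))
theorem F292674 : act 2 n89481 = n91079 := (sb E30432 (iv2 F140124))
theorem F292675 : act 4 n89481 = n42339 := (sb E30432 (iv4 D90480))
theorem F292676 : act 5 n89481 = n92754 := (sb E30432 (iv5 F143037))
theorem F292677 : act 7 n89481 = n92753 := (sb E30432 (iv7 F143034))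
theorem F292678 : act 3 n90481 = n179808 := (sb E30433 F289958)
theorem E32548 : n179806 = n43833 := (((F139245).symm.trans (sb E30433 (iv5 F289956)))).symm
theorem F292679 : act 6 n19510 = n18149 := (sb E30438 (iv6 D37868))
theorem E32552 : n43576 = n22144 := ((((iv6 D46309)).symm.trans (sb E30442 F143511))).symm
theorem E32553 : n9776 = n4831 := ((((iv0 D10555)).symm.trans (sb E30444 F32707))).symm
theorem F292680 : act 2 n10555 = n19511 := (sb E30444 (iv2 F32710))
theorem E32554 : n20108 = n19557 := ((((iv7 F62916)).symm.trans (sb E30444 F32708))).symm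
theorem F292681 : act 5 n93039 = n46760 := (sb E30445 (iv5 D100191))
theorem F292682 : act 6 n93039 = n89541 := (sb E30445 (iv6 F154138))
theorem F292683 : act 5 n22418 = n43534 := (sb E30446 F143422)
theorem F292684 : act 1 n46285 = n43544 := (sb E30447 (iv0 D93056))
theorem F292685 : act 1 n93057 = n89565 := (sb E30448 (iv0 F286264))
theorem F292688 : act 4 n93057 = n92893 := (sb E30448 (iv4 F286265))
theorem F292689 : act 5 n93057 = n87917 := (sb E30448 (iv5 D184332))
theorem F292690 : act 6 n93057 = n89585 := (sb E30448 F286263)
theorem F292692 : act 0 n46438 = n43537 := (sb E30449 (iv1 D93048))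
theorem F292693 : act 1 n46438 = n43545 := (sb E30449 F143518)
theorem F292694 : act 0 n92917 = n47934 := (sb E30450 (iv1 D103449))
theorem F292695 : act 1 n92917 = n99330 := (sb E30450 F158748)
theorem F292696 : act 2 n92917 = n100154 := (sb E30450 (iv2 F158751))
theorem F292697 : act 7 n92917 = n89582 := (sb E30450 F158749)
theorem F292698 : act 2 n41837 = n43537 := (sb E30451 F142755)
theorem F292699 : act 7 n41837 = n43545 := (sb E30451 F142756)
theorem E32555 : n9823 = n4434 := ((D9823).symm.trans (sb E30452 F6516))
theorem E32556 : n1826 = n996 := (((iv0 F3086)).symm.trans (sb E30453 (iv0 D1948)))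
theorem E32557 : n43978 = n43554 := (((D43554).symm.trans (sb E30454 D43978))).symm
theorem E32558 : n43979 = n43555 := (((D43555).symm.trans (sb E30454 D43979))).symm
theorem E32559 : n43556 = n40651 := ((D43556).symm.trans (sb E30454 (iv2 F66325)))
theorem E32560 : n43980 = n43557 := (((D43557).symm.trans (sb E30454 D43980))).symm
theorem E32562 : n18193 = n9779 := (((D9779).symm.trans (sb E30456 F62616))).symm
theorem F292700 : act 0 n1993 = n1854 := (sb E30457 (iv1 D4420))
theorem F292701 : act 5 n1993 = n4265 := (sb E30457 F16860)
theorem F292702 : act 7 n1993 = n4295 := (sb E30457 F16861)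
theorem F292703 : act 0 n4422 = n4166 := (sb E30458 F62625)
theorem F292704 : act 2 n4422 = n4833 := (sb E30458 F62626)
theorem F292705 : act 0 n92652 = n183170 := (sb E30459 (iv1 F284763))
theorem F292706 : act 1 n92652 = n88829 := (sb E30459 (iv0 F288509))
theorem F292707 : act 2 n92652 = n103325 := (sb E30459 (tr (iv2 F284764) E31816))
theorem F292708 : act 5 n92652 = n47050 := (sb E30459 F154281)
theorem F292709 : act 6 n92652 = n89540 := (sb E30459 F154282)
theorem F292710 : act 2 n22628 = n43563 := (sb E30460 F142791)
theorem F292711 : act 5 n22628 = n43344 := (sb E30460 F142793)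
theorem F292712 : act 7 n22628 = n43343 := (sb E30460 (iv7 D92656))
theorem F292713 : act 6 n41809 = n43344 := (sb E30461 F138643)
theorem F292714 : act 0 n41324 = n22973 := (sb E30465 (iv1 F64577))
theorem E32565 : n89680 = n43898 := ((((iv5 F69018)).symm.trans (sb E30465 D89680))).symm
theorem F292715 : act 7 n41324 = n22974 := (sb E30465 F64574)
theorem F292716 : act 1 n41332 = n22974 := (sb E30466 F64576)
theorem F292717 : act 7 n41332 = n22973 := (sb E30466 F135699)
theorem E32569 : n102923 = n90624 := (((D90624).symm.trans (sb E30467 (iv1 F284062)))).symm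
theorem E32570 : n102946 = n90625 := (((D90625).symm.trans (sb E30467 D102946))).symm
theorem F292718 : act 4 n42426 = n43306 := (sb E30467 F75013)
theorem E32573 : n87141 = n21915 := (((F65859).symm.trans (sb E30468 F133729))).symm
theorem F292719 : act 0 n41331 = n22974 := (sb E30471 (iv1 F64571))
theorem F292720 : act 2 n41331 = n22973 := (sb E30471 F135723)
theorem F292721 : act 0 n1835 = n1900 := (sb E30475 (iv1 F3196))
theorem F292722 : act 6 n1835 = n1879 := (sb E30475 F3194)
theorem F292723 : act 7 n1835 = n980 := (sb E30475 (iv7 D1902))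
theorem F292724 : act 6 n9652 = n20366 := (sb E30964 (iv6 D43181))
theorem E32591 : n20366 = n9882 := ((D20366).symm.trans (sb E30477 F15690))
theorem F292725 : act 7 n9652 = n4541 := (sb E30477 (iv7 D9952))
theorem E32592 : n186329 = n41446 := (E30481).trans E32079
theorem E32593 : n182699 = n88775 := (((D88775).symm.trans (sb E32592 F289112))).symm
theorem E32594 : n88777 = n88761 := ((D88777).symm.trans (sb E32592 (iv6 D186329)))
theorem E32595 : n87217 = n43624 := (E30482).trans E32517
theorem E32598 : n20861 = n20635 := ((((iv3 D43624)).symm.trans (sb E32595 (tr F133872 E30767)))).symm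
theorem E32600 : n93259 = n40516 := ((D93259).symm.trans (sb E32595 (iv6 D87217)))
theorem F292726 : act 2 n42433 = n46951 := (sb E30485 F75703)
theorem E32603 : n104041 = n90633 := (((D90633).symm.trans (sb E30485 D104041))).symm
theorem E32604 : n104042 = n90634 := (((D90634).symm.trans (sb E30485 D104042))).symm
theorem F292727 : act 7 n42433 = n46947 := (sb E30485 F75704)
theorem F292728 : act 0 n42211 = n46947 := (sb E30486 (iv1 D100657))
theorem F292729 : act 1 n42211 = n46951 := (sb E30486 F154749)
theorem F292730 : act 7 n92758 = n89484 := (sb E30494 (iv7 F288635))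
theorem E32605 : n82688 = n20151 := ((((iv5 F31989)).symm.trans (sb E30496 (iv5 F127386)))).symm
theorem E32607 : n99094 = n19946 := (((D19946).symm.trans (sb E30498 D99094))).symm
theorem E32614 : n97031 = n40891 := ((D97031).symm.trans (sb E30502 F289721))
theorem E32615 : n97032 = n88295 := ((D97032).symm.trans (sb E30502 (iv0 F135209)))
theorem E32616 : n99948 = n97033 := (((D97033).symm.trans (sb E30502 (iv2 F153882)))).symm
theorem F292731 : act 4 n45359 = n22807 := (sb E30502 (iv4 D47484))
theorem F292732 : act 7 n45359 = n23390 := (sb E30502 F74666)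
theorem E32618 : n101093 = n90371 := (((D90371).symm.trans (sb E30503 (iv1 F290032)))).symm
theorem E32620 : n101031 = n90373 := (((D90373).symm.trans (sb E30503 (iv2 F290187)))).symm
theorem F292733 : act 6 n42249 = n22807 := (sb E30503 (iv6 D47486))
theorem E32622 : n21824 = n20641 := (((F65262).symm.trans (sb E30504 (iv1 D45653)))).symm
theorem E32624 : n97794 = n90376 := (((D90376).symm.trans (sb E30504 D97794))).symm
theorem F292734 : act 0 n41776 = n48326 := (sb E30509 F160098)
theorem F292735 : act 1 n19390 = n9608 := (sb E30514 (iv0 F133753))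
theorem F292736 : act 0 n9103 = n9608 := (sb E30515 (iv1 F135633))
theorem E32628 : n42988 = n19401 := ((((iv3 F31032)).symm.trans (sb E30515 D42988))).symm
theorem F292737 : act 2 n19190 = n9608 := (sb E30516 (iv2 F32224))
theorem E32631 : n43983 = n42696 := ((((iv5 F66912)).symm.trans (sb E30517 D43983))).symm
theorem E32632 : n9826 = n9018 := ((D9826).symm.trans (sb E30518 F66166))
theorem F292738 : act 6 n11079 = n9608 := (sb E30519 (iv6 D20319))
theorem F292739 : act 1 n4102 = n4630 := (sb E30520 (iv0 F7462))
theorem F292740 : act 6 n4102 = n2064 := (sb E30520 (iv6 D5041))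
theorem F292741 : act 0 n20152 = n10762 := (sb E30523 (iv1 D22768))
theorem F292742 : act 1 n20152 = n41202 := (sb E30523 F62394)
theorem E32653 : n4991 = n4631 := ((((iv1 F292136)).symm.trans (sb E30530 F15410))).symm
theorem E32655 : n1950 = n952 := (((F1790).symm.trans (sb E30532 (iv0 D4718)))).symm
theorem F292743 : act 1 n4331 = n2064 := (sb E30533 (iv0 D5038))
theorem F292744 : act 4 n4331 = n5061 := (sb E30533 F291104)
theorem F292745 : act 6 n4196 = n4309 := (sb E30550 (iv6 D9541))
theorem F292746 : act 5 n4429 = n93398 := (sb E30560 D93398)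
theorem E32714 : n93398 = n4955 := ((((iv3 F7375)).symm.trans (sb E30561 (iv3 F144067)))).symm
theorem F292747 : act 1 n2069 = n4005 := (sb E30567 F6131)
theorem F292748 : act 4 n2069 = n1800 := (sb E30567 (iv4 D4222))
theorem F292749 : act 5 n2069 = n4102 := (sb E30567 F6130)
theorem F292750 : act 7 n2069 = n4102 := (sb E30567 F6129)
theorem F292751 : act 0 n1022 = n1823 := (sb E30580 (iv1 D4312))
theorem E32758 : n19131 = n10640 := ((D19131).symm.trans (sb E30588 (iv1 F65689)))
theorem E32759 : n19133 = n10668 := ((D19133).symm.trans (sb E30588 (iv2 F65684)))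
theorem E32760 : n11087 = n4633 := (((iv5 F17966)).symm.trans (sb E30588 (iv5 D10203)))
theorem E32761 : n10897 = n4957 := (((iv6 F17693)).symm.trans (sb E30588 (iv6 F16041)))
theorem E32763 : n4326 = n1924 := (((F3222).symm.trans (sb E30589 F7519))).symm
theorem F292752 : act 5 n1923 = n4005 := (sb E30589 F7517)
theorem F292753 : act 6 n2040 = n4005 := (sb E30590 F7380)
theorem E32766 : n4571 = n625 := ((((iv4 D958)).symm.trans (sb E30591 D4571))).symm
theorem F292754 : act 5 n958 = n980 := (sb E30591 (iv5 D1901))
theorem E32767 : n984 = n982 := (((iv6 F1857)).symm.trans (sb E30591 F3191))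
theorem F292755 : act 5 n1857 = n2043 := (sb E30593 F7382)
theorem F292756 : act 0 n11091 = n9098 := (sb E30596 (iv1 D19393))
theorem F292757 : act 1 n11091 = n19262 := (sb E30596 F31022)
theorem F292758 : act 5 n11091 = n10029 := (sb E30596 (iv5 F62484))
theorem F292759 : act 7 n10195 = n8978 := (sb E30597 F17979)
theorem E32776 : n4560 = n4018 := (((D4018).symm.trans (sb E30600 (iv5 D10017)))).symm
theorem F292760 : act 1 n1743 = n980 := (sb E30602 (iv0 D1899))
theorem F292761 : act 4 n1743 = n1922 := (sb E30602 F14803)
theorem F292762 : act 7 n1743 = n1900 := (sb E30602 (iv7 F15343))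
theorem E32790 : n89682 = n43846 := (((iv1 F137611)).symm.trans (sb E30610 (iv1 D93802)))
theorem E32791 : n89681 = n43848 := ((F137607).symm.trans (sb E30610 F144590))
theorem E32792 : n151424 = n102978 := (((D102978).symm.trans (sb E30611 F238148))).symm
theorem F292763 : act 5 n47752 = n88507 := (sb E30611 F144743)
theorem E32793 : n159517 = n102956 := (((D102956).symm.trans (sb E30612 (iv1 F251248)))).symm
theorem F292764 : act 4 n47745 = n44839 := (sb E30612 F147660)
theorem E32794 : n102958 = n93811 := ((D102958).symm.trans (sb E30612 F147661))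
theorem E32795 : n102959 = n90667 := ((D102959).symm.trans (sb E30612 F147662))
theorem F292765 : act 4 n21348 = n22973 := (sb E30613 F65006)
theorem F292766 : act 5 n43850 = n22973 := (sb E30614 (iv5 D47746))
theorem F292767 : act 6 n42451 = n22973 := (sb E30615 (iv6 D47747))
theorem F292768 : act 1 n20795 = n22975 := (sb E30616 (iv0 D47749))
theorem E32804 : n102968 = n43896 := ((((iv3 F69016)).symm.trans (sb E30616 D102968))).symm
theorem F292769 : act 0 n20800 = n22975 := (sb E30617 (iv1 D47750))
theorem E32808 : n102971 = n43907 := ((((iv3 F69031)).symm.trans (sb E30617 D102971))).symm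
theorem E32812 : n102974 = n43944 := ((D102974).symm.trans (sb E30618 F144741))
theorem E32813 : n89683 = n88547 := (((iv7 F137615)).symm.trans (sb E30618 F144740))
theorem F292770 : act 3 n41333 = n19717 := (sb E30619 F64578)
theorem E32814 : n89684 = n88543 := ((((iv6 F135600)).symm.trans (sb E30619 D89684))).symm
theorem F292771 : act 7 n41333 = n22975 := (sb E30619 F64579)
theorem E32815 : n102894 = n94290 := ((D102894).symm.trans (sb E30620 (iv5 F251724)))
theorem E32816 : n102895 = n90521 := ((D102895).symm.trans (sb E30620 (iv6 F251722)))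
theorem E32817 : n102899 = n94291 := ((D102899).symm.trans (sb E30621 (iv5 F285219)))
theorem E32818 : n102900 = n102742 := ((D102900).symm.trans (sb E30621 (iv6 F291708)))
theorem E32819 : n102902 = n43441 := ((D102902).symm.trans (sb E30622 (iv6 D92839)))
theorem E32820 : n102903 = n62770 := ((D102903).symm.trans (sb E30623 (iv1 F157711)))
theorem F292772 : act 7 n47724 = n44095 := (sb E30623 (iv7 F143211))
theorem F292773 : act 6 n20538 = n22966 := (sb E30624 (iv6 D47725))
theorem F292774 : act 2 n38869 = n44099 := (sb E30625 F143236)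
theorem F292775 : act 7 n38869 = n44096 := (sb E30625 F143237)
theorem F292776 : act 2 n47726 = n44100 := (sb E30626 F143234)
theorem E32824 : n90018 = n48410 := ((D90018).symm.trans (sb E30628 F150291))
theorem E32825 : n133434 = n102929 := (((D102929).symm.trans (sb E30629 (iv1 F214556)))).symm
theorem E32826 : n102930 = n76498 := ((D102930).symm.trans (sb E30629 (iv0 F161645)))
theorem E32827 : n133433 = n102927 := ((((iv2 F158224)).symm.trans (sb E30629 F214548))).symm
theorem E32828 : n102932 = n55274 := ((D102932).symm.trans (sb E30629 (iv6 F161644)))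
theorem F292777 : act 7 n47732 = n44098 := (sb E30629 F145136)
theorem E32829 : n102933 = n34930 := ((D102933).symm.trans (sb E30630 (iv1 F114602)))
theorem E32830 : n102934 = n34925 := ((D102934).symm.trans (sb E30630 (iv0 D76446)))
theorem E32831 : n159516 = n102928 := ((((iv2 F158225)).symm.trans (sb E30630 F251242))).symm
theorem F292778 : act 2 n34471 = n44096 := (sb E30631 F145137)
theorem F292779 : act 7 n34471 = n44099 := (sb E30631 F145138)
theorem F292780 : act 2 n47734 = n44097 := (sb E30632 F145140)
theorem E32832 : n164202 = n102940 := (((D102940).symm.trans (sb E30632 (iv7 F258802)))).symm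
theorem F292781 : act 4 n22875 = n22971 := (sb E30633 (iv4 F291658))
theorem E32841 : n102983 = n94288 := ((((iv2 F145422)).symm.trans (sb E30634 D102983))).symm
theorem E32842 : n102984 = n94292 := (((D94292).symm.trans (sb E30634 D102984))).symm
theorem E32843 : n43119 = n20938 := ((((iv5 D44079)).symm.trans (sb E30634 F75017))).symm
theorem F292782 : act 7 n44079 = n89685 := (sb E30634 (iv7 F137618))
theorem F292783 : act 0 n9949 = n20362 := (sb E30635 (iv1 F32320))
theorem F292784 : act 2 n9949 = n20365 := (sb E30635 (iv2 F32331))
theorem F292785 : act 7 n9949 = n20364 := (sb E30635 F32327)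
theorem F292786 : act 2 n44084 = n89688 := (sb E30636 (iv2 F137623))
theorem F292787 : act 4 n44084 = n84272 := (sb E30636 (iv4 F129351))
theorem E32848 : n102989 = n94308 := (((D94308).symm.trans (sb E30636 D102989))).symm
theorem E32852 : n102993 = n94322 := (((D94322).symm.trans (sb E30637 D102993))).symm
theorem F292788 : act 7 n44090 = n89687 := (sb E30637 (iv7 F137622))
theorem F292789 : act 2 n44093 = n89686 := (sb E30638 (iv2 F137619))
theorem F292790 : act 4 n44093 = n84260 := (sb E30638 (iv4 F129335))
theorem E32856 : n102998 = n94332 := (((D94332).symm.trans (sb E30638 D102998))).symm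
theorem F292791 : act 0 n10622 = n19942 := (sb E30640 (iv1 D42245))
theorem F292792 : act 5 n10609 = n20962 := (sb E30646 F65238)
theorem F292793 : act 7 n10609 = n20087 := (sb E30646 F65239)
theorem E32867 : n9976 = n4754 := (((D4754).symm.trans (sb E30649 (iv6 D21005)))).symm
theorem E32885 : n87950 = n44515 := (((D44515).symm.trans (sb E30669 F144001))).symm
theorem E32887 : n87951 = n47863 := (((D47863).symm.trans (sb E30670 (iv5 F134943)))).symm
theorem F292794 : act 1 n10924 = n20087 := (sb E30671 F72791)
theorem E32888 : n47906 = n19312 := (((F62578).symm.trans (sb E30671 (iv4 F75229)))).symm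
theorem F292795 : act 5 n10924 = n20049 := (sb E30671 (iv5 D42469))
theorem F292796 : act 1 n87435 = n42026 := (sb E30672 (iv0 D89938))
theorem F292797 : act 4 n87435 = n87731 := (sb E30672 F138137)
theorem F292798 : act 0 n87938 = n41976 := (sb E30673 (iv1 F137877))
theorem F292799 : act 1 n87938 = n41975 := (sb E30673 F137878)
theorem F292800 : act 2 n87938 = n41978 := (sb E30673 F137874)
theorem F292801 : act 5 n87938 = n47797 := (sb E30673 F137876)
theorem F292802 : act 7 n87938 = n41962 := (sb E30673 (iv7 D89829))
theorem F292803 : act 1 n19326 = n19811 := (sb E30674 F64833)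
theorem F292804 : act 7 n19326 = n19802 := (sb E30674 (iv7 D42005))
theorem F292806 : act 1 n89253 = n104804 := (sb E30680 (iv0 F160629))
theorem F292807 : act 5 n89253 = n44542 := (sb E30680 (iv5 D95368))
theorem F292808 : act 7 n89253 = n96424 := (sb E30680 F148445)
theorem F292809 : act 1 n48217 = n97036 := (sb E30681 F149677)
theorem E32890 : n104205 = n97014 := ((D104205).symm.trans (sb E30681 (iv4 F149632)))
theorem F292810 : act 0 n101441 = n89904 := (sb E30693 F158657)
theorem F292811 : act 1 n101441 = n97018 := (sb E30693 F158658)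
theorem F292812 : act 4 n101441 = n47899 := (sb E30693 (iv4 D103366))
theorem E32893 : n45094 = n40314 := (((F70692).symm.trans (sb E30701 (iv1 D96585)))).symm
theorem E32894 : n45098 = n42066 := (((F70693).symm.trans (sb E30701 F148789))).symm
theorem F292813 : act 2 n44959 = n45498 := (sb E30701 (iv2 F148792))
theorem E32895 : n97335 = n96298 := (((D96298).symm.trans (sb E30701 (iv4 F150084)))).symm
theorem F292814 : act 0 n47147 = n97021 := (sb E30702 (iv1 F149651))
theorem E32896 : n182429 = n101244 := (((D101244).symm.trans (sb E30702 (iv6 F283973)))).symm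
theorem E32899 : n95716 = n46683 := ((((iv2 F148357)).symm.trans (sb E30703 D95716))).symm
theorem E32907 : n97791 = n90383 := (((D90383).symm.trans (sb E30711 D97791))).symm
theorem E32910 : n96127 = n91093 := ((D96127).symm.trans (sb E30715 (iv1 F140141)))
theorem F292815 : act 1 n44860 = n86873 := (sb E30715 (iv0 F138432))
theorem E32912 : n95555 = n88580 := (((iv7 F147219)).symm.trans (sb E30715 F138431))
theorem F292816 : act 5 n97433 = n86873 := (sb E30716 (iv5 D181886))
theorem E32913 : n96114 = n91097 := ((F150178).symm.trans (sb E30716 F283184))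
theorem F292817 : act 6 n42664 = n44537 := (sb E30717 (iv6 D95356))
theorem E32914 : n96092 = n88409 := (((D88409).symm.trans (sb E30718 (iv0 F160426)))).symm
theorem E32915 : n183259 = n88411 := (((D88411).symm.trans (sb E30718 (iv5 F284903)))).symm
theorem E32916 : n88412 = n48421 := ((D88412).symm.trans (sb E30718 (iv6 D104723)))
theorem F292818 : act 6 n23561 = n19416 := (sb E30720 (iv6 D41276))
theorem E32919 : n88387 = n45495 := ((((iv3 F71746)).symm.trans (sb E30721 (iv3 F135369)))).symm
theorem E32920 : n88388 = n45500 := (((D45500).symm.trans (sb E30721 D88388))).symm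
theorem E32921 : n88398 = n45520 := ((((iv3 F71796)).symm.trans (sb E30722 (iv3 F135393)))).symm
theorem E32922 : n88400 = n45523 := (((D45523).symm.trans (sb E30722 D88400))).symm
theorem F292819 : act 0 n97434 = n78543 := (sb E30723 (iv1 F254522))
theorem F292820 : act 1 n97434 = n77266 := (sb E30723 (iv0 D161011))
theorem F292821 : act 3 n97434 = n162348 := (sb E30723 (iv3 F256491))
theorem F292822 : act 5 n97434 = n79580 := (sb E30723 F254519)
theorem E32923 : n97334 = n87312 := ((F150181).symm.trans (sb E30723 F254523))
theorem F292823 : act 2 n97435 = n96299 := (sb E30724 F283185)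
theorem F292824 : act 7 n86896 = n45498 := (sb E30725 F146991)
theorem F292825 : act 0 n36411 = n19199 := (sb E30736 F62912)
theorem F292826 : act 2 n36411 = n19209 := (sb E30736 (iv2 F62900))
theorem F292827 : act 0 n23162 = n40389 := (sb E30741 (iv1 F69639))
theorem E32941 : n94713 = n48000 := (((D48000).symm.trans (sb E30741 (iv3 F146002)))).symm
theorem E32942 : n48001 = n46650 := ((D48001).symm.trans (sb E30741 F73715))
theorem F292828 : act 1 n23246 = n40389 := (sb E30742 (iv0 F67065))
theorem E32943 : n48139 = n46649 := (((iv5 F75626)).symm.trans (sb E30742 (iv5 F73708)))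
theorem F292829 : act 6 n23246 = n43711 := (sb E30742 (iv6 F68705))
theorem F292830 : act 5 n42757 = n47999 := (sb E30743 (iv5 D103636))
theorem E32945 : n48125 = n42721 := (((F69662).symm.trans (sb E30743 F159021))).symm
theorem F292831 : act 2 n23242 = n40389 := (sb E30744 (iv2 F69660))
theorem F292832 : act 6 n23242 = n40318 := (sb E30744 F69659)
theorem F292833 : act 2 n40763 = n40996 := (sb E30745 F75599)
theorem F292834 : act 4 n40763 = n40972 := (sb E30745 (iv4 F75598))
theorem F292835 : act 1 n19328 = n19802 := (sb E30746 (iv0 D42004))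
theorem F292836 : act 2 n19328 = n19811 := (sb E30746 (iv2 F64821))
theorem F292837 : act 6 n19328 = n19809 := (sb E30746 F64820)
theorem F292838 : act 2 n48113 = n87030 := (sb E30747 F134776)
theorem E32948 : n184091 = n103921 := (((D103921).symm.trans (sb E30747 (iv3 F286043)))).symm
theorem E32949 : n103898 = n40916 := (((iv5 F159325)).symm.trans (sb E30747 (iv5 D87811)))
theorem F292839 : act 6 n48113 = n87019 := (sb E30747 F134781)
theorem E32950 : n93211 = n45518 := (((F71791).symm.trans (sb E30749 (iv3 F143787)))).symm
theorem E32952 : n45092 = n40311 := ((F71012).symm.trans (sb E30749 (iv6 D86889)))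
theorem F292840 : act 0 n19482 = n19209 := (sb E30750 (iv1 F61777))
theorem F292841 : act 6 n19482 = n37847 := (sb E30750 F61775)
theorem F292842 : act 7 n19482 = n19199 := (sb E30750 (iv7 D40677))
theorem F292843 : act 7 n94123 = n103941 := (sb E30753 F159388)
theorem F292844 : act 1 n45360 = n87418 := (sb E30755 F134172)
theorem F292845 : act 2 n45360 = n23411 := (sb E30755 F75794)
theorem E32953 : n104210 = n97038 := (((D97038).symm.trans (sb E30755 D104210))).symm
theorem F292846 : act 7 n45360 = n23391 := (sb E30755 F75795)
theorem E32955 : n94095 = n47901 := (((D47901).symm.trans (sb E30756 D94095))).symm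
theorem E32956 : n87907 = n47902 := (((D47902).symm.trans (sb E30756 F134907))).symm
theorem F292847 : act 7 n23061 = n41910 := (sb E30756 F69172)
theorem F292848 : act 2 n23046 = n41910 := (sb E30757 F69164)
theorem E32957 : n94093 = n47879 := (((D47879).symm.trans (sb E30757 D94093))).symm
theorem E32958 : n87906 = n47880 := (((D47880).symm.trans (sb E30757 (iv5 F134904)))).symm
theorem F292849 : act 6 n23046 = n41891 := (sb E30757 F69165)
theorem F292850 : act 5 n103328 = n104147 := (sb E30758 F284738)
theorem F292851 : act 7 n103328 = n87410 := (sb E30758 (iv7 D183125))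
theorem F292852 : act 5 n48195 = n47877 := (sb E30759 (iv5 D103329))
theorem F292853 : act 7 n40624 = n47877 := (sb E30760 F140355)
theorem F292854 : act 0 n41697 = n42026 := (sb E30761 F65628)
theorem E32962 : n90730 = n89243 := ((((iv3 F136966)).symm.trans (sb E30761 D90730))).symm
theorem F292855 : act 4 n41697 = n20053 := (sb E30761 (iv4 D42480))
theorem E32966 : n87088 = n43988 := (((D43988).symm.trans (sb E30763 (iv3 F133697)))).symm
theorem E32967 : n87092 = n43989 := (((D43989).symm.trans (sb E30763 D87092))).symm
theorem E32968 : n19232 = n19125 := ((F66205).symm.trans (sb E30763 (iv6 D40465)))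
theorem E32969 : n43216 = n9780 := (E31800).trans E31803
theorem E32970 : n40518 = n20635 := (E30767).trans E32598
theorem E32971 : n43053 = n20885 := (((iv2 F141299)).symm.trans (sb E32970 (tr (iv2 F68475) E31473)))
theorem E32972 : n87221 = n43626 := (((D43626).symm.trans (sb E32970 D87221))).symm
theorem E32973 : n43627 = n19144 := ((D43627).symm.trans (sb E32970 (iv6 D40518)))
theorem E32974 : n43052 = n19621 := (((iv7 F141283)).symm.trans (sb E32970 (tr D87222 E31008)))
theorem F292856 : act 0 n20610 = n19545 := (sb E30768 (iv1 F64015))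
theorem E32975 : n21047 = n19144 := ((((iv4 F32696)).symm.trans (sb E30768 F64013))).symm
theorem F292857 : act 6 n20610 = n21885 := (sb E30768 F64014)
theorem F292858 : act 7 n20610 = n19541 := (sb E30768 (iv7 D41505))
theorem E32976 : n47916 = n43661 := ((((iv1 F68620)).symm.trans (sb E30769 F138140))).symm
theorem F292859 : act 5 n41123 = n42026 := (sb E30769 (iv5 D89940))
theorem F292860 : act 7 n20605 = n42026 := (sb E30770 F75158)
theorem E32982 : n48130 = n44869 := (((D44869).symm.trans (sb E30776 D48130))).symm
theorem F292861 : act 3 n21395 = n10930 := (sb E30776 (iv3 D23244))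
theorem E32986 : n48133 = n44871 := (((D44871).symm.trans (sb E30776 D48133))).symm
theorem E32987 : n19146 = n10194 := ((((iv6 D21395)).symm.trans (sb E30776 F36334))).symm
theorem E32990 : n19543 = n19145 := (((D19145).symm.trans (sb E30779 (iv0 F62583)))).symm
theorem F292862 : act 0 n103641 = n98651 := (sb E30780 (iv1 F286082))
theorem F292863 : act 1 n103641 = n98650 := (sb E30780 F286083)
theorem F292864 : act 5 n103641 = n88017 := (sb E30780 F286079)
theorem F292865 : act 6 n103641 = n182257 := (sb E30780 F286080)
theorem E32991 : n87816 = n48072 := ((F134804).symm.trans (sb E30782 F159034))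
theorem F292866 : act 5 n41097 = n48002 := (sb E30782 F159035)
theorem F292867 : act 6 n87018 = n48002 := (sb E30783 F148491)
theorem F292868 : act 5 n91273 = n48127 := (sb E30784 (iv5 D103958))
theorem F292869 : act 4 n86988 = n43536 := (sb E30785 F143484)
theorem F292870 : act 7 n86988 = n48127 := (sb E30785 F143485)
theorem F292871 : act 5 n91274 = n48064 := (sb E30788 (iv5 D103819))
theorem E32992 : n105065 = n40388 := (((D40388).symm.trans (sb E30791 (iv5 F160984)))).symm
theorem E32996 : n89936 = n41062 := (((D41062).symm.trans (sb E30794 D89936))).symm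
theorem E32997 : n89937 = n41063 := (((D41063).symm.trans (sb E30794 D89937))).symm
theorem E32998 : n21529 = n19056 := (((F30967).symm.trans (sb E30794 F64891))).symm
theorem F292872 : act 1 n8930 = n4663 := (sb E30796 (iv0 D10280))
theorem F292873 : act 2 n8930 = n4692 := (sb E30796 F62827)
theorem F292874 : act 7 n8930 = n4693 := (sb E30796 F62828)
theorem F292875 : act 1 n40424 = n40996 := (sb E30797 F75395)
theorem E33000 : n184231 = n104192 := ((D184231).symm.trans (sb E30798 (iv5 F283331)))
theorem E33001 : n86924 = n86882 := (((F134884).symm.trans (sb E30798 (iv6 D181997)))).symm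
theorem E33002 : n184232 = n88021 := ((((iv4 F135021)).symm.trans (sb E30799 D184232))).symm
theorem F292876 : act 5 n48212 = n40996 := (sb E30799 (iv5 D87874))
theorem E33003 : n184233 = n104193 := (((D104193).symm.trans (sb E30799 D184233))).symm
theorem E33004 : n19121 = n19066 := ((F61363).symm.trans (sb E30800 (iv0 D40332)))
theorem F292877 : act 0 n9199 = n19053 := (sb E30802 F30579)
theorem F292878 : act 5 n9199 = n4288 := (sb E30802 (iv5 D9472))
theorem F292879 : act 0 n9604 = n19190 := (sb E30806 (iv1 F31068))
theorem F292880 : act 2 n9604 = n9103 := (sb E30806 F31044)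
theorem E33010 : n22777 = n20303 := (((D20303).symm.trans (sb E30806 (iv3 F35342)))).symm
theorem E33011 : n40866 = n20304 := (((D20304).symm.trans (sb E30806 (iv4 F61978)))).symm
theorem F292881 : act 5 n9604 = n19390 := (sb E30806 (iv5 F31015))
theorem E33012 : n20306 = n9058 := ((D20306).symm.trans (sb E30806 (iv6 D19265)))
theorem F292882 : act 7 n9604 = n19390 := (sb E30806 (iv7 F31021))
theorem F292883 : act 0 n9606 = n9103 := (sb E30807 F31067)
theorem F292884 : act 1 n9606 = n19390 := (sb E30807 (iv0 F31016))
theorem E33013 : n40937 = n20144 := ((((iv4 F31975)).symm.trans (sb E30807 (iv4 F62028)))).symm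
theorem E33014 : n20314 = n9903 := ((D20314).symm.trans (sb E30807 (iv5 F66118)))
theorem E33015 : n20239 = n9066 := (((iv6 F32090)).symm.trans (sb E30807 (iv6 D19288)))
theorem F292885 : act 7 n9606 = n19190 := (sb E30807 (iv7 F62262))
theorem F292886 : act 6 n8974 = n9902 := (sb E30818 F66207)
theorem E33020 : n8995 = n4058 := ((F16898).symm.trans (sb E30818 (iv7 D9043)))
theorem E33021 : n87078 = n45490 := ((((iv6 F71743)).symm.trans (sb E30820 (iv6 D182372)))).symm
theorem F292887 : act 4 n21710 = n19124 := (sb E30822 (iv4 D40461))
theorem E33022 : n87079 = n45491 := (((D45491).symm.trans (sb E30822 D87079))).symm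
theorem E33023 : n40312 = n19207 := (((F62598).symm.trans (sb E30822 F61562))).symm
theorem F292888 : act 5 n9028 = n9156 := (sb E30824 F30759)
theorem F292889 : act 7 n9028 = n19124 := (sb E30824 F30760)
theorem E33025 : n96208 = n87954 := ((D96208).symm.trans (sb E30827 (iv1 F159678)))
theorem E33026 : n48201 = n45502 := ((((iv0 F71753)).symm.trans (sb E30827 (iv0 D104161)))).symm
theorem E33027 : n184705 = n96209 := (((D96209).symm.trans (sb E30827 (iv4 F286712)))).symm
theorem E33028 : n95400 = n48191 := (((D48191).symm.trans (sb E30828 (iv3 F147028)))).symm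
theorem F292890 : act 6 n23320 = n21197 := (sb E30828 (iv6 D44558))
theorem E33030 : n184704 = n103255 := ((((iv4 F158498)).symm.trans (sb E30829 (iv4 F286707)))).symm
theorem E33031 : n23079 = n20660 := ((((iv1 D43663)).symm.trans (sb E30831 (iv1 D47927)))).symm
theorem E33032 : n103077 = n41049 := (((F68622).symm.trans (sb E30831 F158363))).symm
theorem E33034 : n103223 = n93346 := (((D93346).symm.trans (sb E30831 (iv4 F158473)))).symm
theorem F292891 : act 0 n92646 = n89115 := (sb E30832 F289693)
theorem F292892 : act 5 n92646 = n100240 := (sb E30832 F289515)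
theorem F292893 : act 6 n92646 = n89372 := (sb E30832 F289516)
theorem F292894 : act 2 n46777 = n43552 := (sb E30833 F142774)
theorem F292895 : act 5 n46777 = n43341 := (sb E30833 (iv5 D92647))
theorem F292896 : act 2 n42582 = n48147 := (sb E30834 F75645)
theorem E33036 : n100603 = n90914 := (((D90914).symm.trans (sb E30834 D100603))).symm
theorem E33037 : n100604 = n90638 := (((F139552).symm.trans (sb E30834 D100604))).symm
theorem F292897 : act 5 n42582 = n44870 := (sb E30834 F74136)
theorem E33038 : n99794 = n90915 := (((D90915).symm.trans (sb E30834 (iv6 F153624)))).symm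
theorem E33039 : n100600 = n90912 := (((D90912).symm.trans (sb E30836 D100600))).symm
theorem E33040 : n100601 = n90671 := ((((iv4 F139593)).symm.trans (sb E30836 D100601))).symm
theorem F292898 : act 5 n42581 = n44869 := (sb E30836 F74133)
theorem E33041 : n100602 = n90913 := (((D90913).symm.trans (sb E30836 D100602))).symm
theorem F292899 : act 7 n42581 = n48147 := (sb E30836 F75647)
theorem F292900 : act 6 n42507 = n88605 := (sb E30840 F147832)
theorem F292901 : act 7 n42507 = n89546 := (sb E30840 F147833)
theorem F292902 : act 2 n42508 = n89615 := (sb E30841 (iv2 F137395))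
theorem E33043 : n100527 = n90716 := ((((iv4 F139624)).symm.trans (sb E30841 D100527))).symm
theorem E33044 : n100528 = n90786 := (((D90786).symm.trans (sb E30841 D100528))).symm
theorem F292903 : act 7 n42508 = n89548 := (sb E30841 (iv7 F137272))
theorem E33048 : n91959 = n9041 := ((((iv6 D19242)).symm.trans (sb E30845 (iv6 F141423)))).symm
theorem E33049 : n91957 = n8934 := ((((iv1 F62531)).symm.trans (sb E30846 D91957))).symm
theorem F292904 : act 1 n4565 = n91958 := (sb E30846 D91958)
theorem F292905 : act 5 n4565 = n91960 := (sb E30846 D91960)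
theorem E33050 : n42983 = n4018 := (((E32776).symm.trans (((iv7 F15361)).symm.trans (sb E30846 (iv7 F67347))))).symm
theorem F292906 : act 6 n1828 = n1924 := (sb E30851 F3259)
theorem E33051 : n87192 = n40612 := (((F64282).symm.trans (sb E30856 F140052))).symm
theorem E33052 : n45650 = n42627 := (((iv6 F71980)).symm.trans (sb E30856 (iv6 D91003)))
theorem E33053 : n91213 = n89197 := (((D89197).symm.trans (sb E30857 (iv6 F140249)))).symm
theorem E33054 : n45651 = n20148 := ((((iv5 F31981)).symm.trans (sb E30858 D45651))).symm
theorem F292907 : act 6 n20120 = n19619 := (sb E30858 F62613)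
theorem F292908 : act 6 n9494 = n19590 := (sb E30862 (iv6 F31367))
theorem F292909 : act 5 n99320 = n46846 := (sb E30870 (iv5 D100378))
theorem E33056 : n88961 = n88735 := (((D88735).symm.trans (sb E30871 D88961))).symm
theorem E33057 : n88912 = n88736 := (((D88736).symm.trans (sb E30871 (iv0 F157225)))).symm
theorem E33058 : n88963 = n88737 := (((D88737).symm.trans (sb E30871 D88963))).symm
theorem E33059 : n88964 = n88738 := (((D88738).symm.trans (sb E30871 D88964))).symm
theorem F292910 : act 7 n41424 = n22149 := (sb E30871 F64086)
theorem F292911 : act 5 n47054 = n92895 := (sb E30874 F154390)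
theorem E33060 : n88968 = n88739 := ((F152934).symm.trans (sb E30875 F154393))
theorem F292912 : act 0 n9204 = n19511 := (sb E30876 (iv1 F31248))
theorem E33061 : n20109 = n19552 := ((((iv3 F31298)).symm.trans (sb E30876 D20109))).symm
theorem F292913 : act 7 n10556 = n19511 := (sb E30878 (iv7 F32706))
theorem F292914 : act 0 n92920 = n99330 := (sb E30880 (iv1 F158745))
theorem F292915 : act 1 n92920 = n47934 := (sb E30880 (iv0 D103448))
theorem F292916 : act 2 n92920 = n89582 := (sb E30880 (iv2 F158746))
theorem F292917 : act 7 n92920 = n100154 := (sb E30880 (iv7 F158747))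
theorem F292918 : act 6 n41498 = n43536 := (sb E30881 (iv6 D93046))
theorem E33065 : n89405 = n48115 := (((iv4 F137089)).symm.trans (sb E30884 F142764))
theorem F292919 : act 7 n41750 = n43551 := (sb E30884 F142765)
theorem F292920 : act 7 n41757 = n43552 := (sb E30885 F142767)
theorem F292921 : act 0 n92648 = n103325 := (sb E30886 (tr (iv1 F289397) E31816))
theorem F292922 : act 2 n92648 = n88829 := (sb E30886 F289308)
theorem F292923 : act 5 n92648 = n100234 := (sb E30886 F289309)
theorem F292924 : act 6 n92648 = n88811 := (sb E30886 (iv6 D186460))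
theorem F292925 : act 7 n92648 = n183170 := (sb E30886 (iv7 F289310))
theorem F292926 : act 1 n92649 = n103325 := (sb E30887 (tr F289395 E31816))
theorem F292927 : act 2 n92649 = n183170 := (sb E30887 F289391)
theorem F292928 : act 5 n92649 = n100235 := (sb E30887 F289392)
theorem F292929 : act 6 n92649 = n183528 := (sb E30887 F289393)
theorem F292930 : act 7 n92649 = n88829 := (sb E30887 (iv7 D186504))
theorem F292931 : act 2 n87432 = n43342 := (sb E30888 (iv2 D92650))
theorem E33066 : n43347 = n40649 := ((((iv6 D87432)).symm.trans (sb E30888 F142778))).symm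
theorem F292932 : act 0 n92651 = n46528 := (sb E30889 F157322)
theorem F292933 : act 2 n92651 = n88066 := (sb E30889 F153188)
theorem F292934 : act 7 n92651 = n47050 := (sb E30889 F153190)
theorem E33067 : n88802 = n43345 := (((D43345).symm.trans (sb E30890 (iv1 F157262)))).symm
theorem E33068 : n88590 = n43346 := (((D43346).symm.trans (sb E30890 (iv0 F157239)))).symm
theorem E33069 : n88989 = n43348 := (((D43348).symm.trans (sb E30890 D88989))).symm
theorem E33070 : n42155 = n22191 := (((iv7 F65070)).symm.trans (sb E30890 F64107))
theorem F292935 : act 0 n22287 = n43563 := (sb E30891 (iv1 F142785))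
theorem F292936 : act 1 n22287 = n43343 := (sb E30891 (iv0 D92653))
theorem F292937 : act 0 n22631 = n43343 := (sb E30892 F139888)
theorem F292938 : act 1 n22631 = n43563 := (sb E30892 F139889)
theorem F292939 : act 0 n92654 = n46441 := (sb E30893 (iv1 D99323))
theorem F292940 : act 1 n92654 = n46771 := (sb E30893 F152939)
theorem F292941 : act 0 n9220 = n9719 := (sb E30895 F31924)
theorem E33073 : n42593 = n19604 := ((((iv3 F31377)).symm.trans (sb E30895 D42593))).symm
theorem E33074 : n20147 = n19608 := (((D19608).symm.trans (sb E30895 (iv5 F31979)))).symm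
theorem F292942 : act 7 n10566 = n9719 := (sb E30897 F31726)
theorem F292943 : act 5 n1817 = n4166 := (sb E30900 (iv5 D9207))
theorem F292944 : act 1 n4959 = n4435 := (sb E30903 (iv0 D9820))
theorem F292945 : act 4 n4959 = n4989 := (sb E30903 (iv4 F15447))
theorem F292946 : act 4 n4436 = n9312 := (sb E30905 (iv4 D19822))
theorem F292947 : act 6 n4436 = n9291 := (sb E30905 (iv6 F291732))
theorem F292948 : act 5 n1824 = n20233 := (sb E30908 D20233)
theorem F292949 : act 7 n4988 = n4331 := (sb E30909 F14919)
theorem F292950 : act 0 n4438 = n4196 := (sb E30910 F14858)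
theorem F292951 : act 1 n4438 = n4201 := (sb E30910 F14859)
theorem F292952 : act 4 n4438 = n4501 := (sb E30910 F14790)
theorem F292953 : act 7 n4438 = n9291 := (sb E30910 F14831)
theorem E33086 : n183177 = n100697 := ((D183177).symm.trans (sb E30911 F154807))
theorem F292954 : act 3 n20607 = n42026 := (sb E30914 (iv3 D89939))
theorem F292955 : act 6 n20607 = n41993 := (sb E30914 (iv6 F291814))
theorem F292956 : act 3 n41123 = n43563 := (sb E30915 F143585)
theorem E33088 : n43055 = n20887 := ((((iv7 F291416)).symm.trans (sb E30916 (iv7 D92101)))).symm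
theorem F292957 : act 0 n92614 = n46771 := (sb E30917 (iv1 F152938))
theorem F292958 : act 1 n92614 = n46441 := (sb E30917 (iv0 D99322))
theorem F292959 : act 2 n93110 = n47051 := (sb E30918 F153185)
theorem F292960 : act 3 n93110 = n88065 := (sb E30918 F153186)
theorem F292961 : act 5 n93110 = n47386 := (sb E30918 F153187)
theorem E33089 : n45656 = n43646 := (((iv7 F71993)).symm.trans (sb E30919 F143589))
theorem F292962 : act 0 n20642 = n22787 := (sb E30920 F63040)
theorem F292963 : act 1 n20642 = n22792 := (sb E30920 (iv0 F64395))
theorem F292964 : act 7 n20642 = n41993 := (sb E30920 (iv7 F64792))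
theorem F292965 : act 7 n22855 = n20152 := (sb E30923 F66421)
theorem F292966 : act 4 n4990 = n4963 := (sb E31439 (iv4 D10891))
theorem F292967 : act 0 n23307 = n100270 := (sb E31446 D100270)
theorem E33101 : n43755 = n22456 := (((iv3 F68793)).symm.trans (sb E31446 (iv3 D46790)))
theorem F292968 : act 5 n23307 = n100273 := (sb E31446 D100273)
theorem E33102 : n100273 = n42433 := ((((iv3 F69435)).symm.trans (sb E30926 (iv3 F154259)))).symm
theorem F292969 : act 5 n43445 = n22456 := (sb E30926 (iv5 D46791))
theorem F292970 : act 7 n43445 = n47942 := (sb E30926 (iv7 F75294))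
theorem F292971 : act 1 n9605 = n19190 := (sb E30933 (iv0 F31038))
theorem F292972 : act 2 n9605 = n19390 := (sb E30933 F31042)
theorem E33105 : n41245 = n20308 := (((D20308).symm.trans (sb E30933 (iv3 F63086)))).symm
theorem E33106 : n41256 = n20309 := (((D20309).symm.trans (sb E30933 (iv4 F63566)))).symm
theorem F292973 : act 5 n9605 = n9103 := (sb E30933 (iv5 D19408))
theorem E33107 : n20311 = n19262 := ((D20311).symm.trans (sb E30933 F31037))
theorem F292974 : act 7 n9605 = n9103 := (sb E30933 (iv7 F31039))
theorem E33108 : n41183 = n20143 := (((D20143).symm.trans (sb E30934 (iv0 F65970)))).symm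
theorem E33109 : n42725 = n20145 := (((D20145).symm.trans (sb E30934 D42725))).symm
theorem E33112 : n20317 = n9904 := (((D9904).symm.trans (sb E30935 D20317))).symm
theorem F292975 : act 5 n4499 = n4328 := (sb E30935 (iv5 D9607))
theorem F292976 : act 7 n4499 = n4437 := (sb E30935 (iv7 F14968))
theorem F292977 : act 6 n4302 = n4328 := (sb E30936 F14909)
theorem E33127 : n91960 = n2074 := (((D2074).symm.trans (sb E30945 (iv3 F141424)))).symm
theorem F292978 : act 5 n1029 = n1900 := (sb E30945 (iv5 F291845))
theorem E33137 : n92313 = n43840 := ((D92313).symm.trans (sb E30954 (iv1 F69263)))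
theorem E33138 : n92314 = n43839 := ((D92314).symm.trans (sb E30954 F69264))
theorem E33139 : n92315 = n43842 := ((D92315).symm.trans (sb E30954 F69258))
theorem F292979 : act 6 n43168 = n43842 := (sb E30954 F69261)
theorem E33140 : n41400 = n20899 := ((F67597).symm.trans (sb E30954 (iv7 D44017)))
theorem F292980 : act 0 n9938 = n20365 := (sb E30955 (iv1 F32328))
theorem F292981 : act 1 n9938 = n20364 := (sb E30955 F32325)
theorem F292982 : act 7 n9938 = n20362 := (sb E30955 (iv7 F32318))
theorem F292983 : act 1 n1879 = n1860 := (sb E30956 F6258)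
theorem F292984 : act 4 n1879 = n1835 := (sb E30956 (iv4 D4344))
theorem F292985 : act 0 n974 = n1860 := (sb E30957 F6244)
theorem F292986 : act 4 n1861 = n1878 := (sb E30958 (iv4 F14791))
theorem F292987 : act 5 n42216 = n48162 := (sb E30968 F159521)
theorem E33151 : n90322 = n48149 := ((D90322).symm.trans (sb E30970 (iv5 D104012)))
theorem F292988 : act 6 n10695 = n20589 := (sb E30971 F65236)
theorem F292989 : act 1 n10734 = n19942 := (sb E30972 (iv0 D42244))
theorem E33153 : n91349 = n90361 := (((D90361).symm.trans (sb E30973 (iv1 F140445)))).symm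
theorem E33154 : n90362 = n22308 := ((D90362).symm.trans (sb E30973 F177416))
theorem E33155 : n90363 = n40935 := ((D90363).symm.trans (sb E30973 F73397))
theorem E33156 : n99390 = n90364 := (((D90364).symm.trans (sb E30973 D99390))).symm
theorem F292990 : act 1 n42247 = n48147 := (sb E30974 F75644)
theorem E33157 : n99391 = n90368 := (((D90368).symm.trans (sb E30974 D99391))).symm
theorem F292991 : act 1 n2052 = n1823 := (sb E30978 (iv0 D4311))
theorem E33167 : n20233 = n2050 := ((F292948).symm.trans (sb E30979 (iv5 F291733)))
theorem F292992 : act 6 n22848 = n20446 := (sb E30992 (iv6 D43301))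
theorem F292993 : act 1 n4927 = n9507 := (sb E30995 (iv0 F291725))
theorem F292994 : act 0 n10636 = n9507 := (sb E30996 (iv1 F291726))
theorem F292995 : act 7 n43457 = n47733 := (sb E30998 (iv7 D102936))
theorem F292996 : act 7 n43460 = n47737 := (sb E30999 (iv7 D102944))
theorem E33185 : n93137 = n46034 := (((F136697).symm.trans (sb E31002 (iv3 F143641)))).symm
theorem E33186 : n46272 = n42634 := ((F136698).symm.trans (sb E31002 (iv6 D91019)))
theorem E33187 : n46270 = n42632 := (((D42632).symm.trans (sb E31004 (iv1 F72928)))).symm
theorem E33188 : n43895 = n42633 := (((D42633).symm.trans (sb E31004 (iv0 F69015)))).symm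
theorem E33189 : n46291 = n42635 := (((D42635).symm.trans (sb E31004 (iv5 F72948)))).symm
theorem F292997 : act 6 n20122 = n41587 := (sb E31004 (iv6 F64183))
theorem E33190 : n186102 = n94137 := (((iv3 F288823)).symm.trans (sb E31005 F145535))
theorem F292998 : act 3 n90991 = n93995 := (sb E31006 (iv3 F157631))
theorem E33191 : n172714 = n93229 := ((((iv4 F143809)).symm.trans (sb E31006 (iv4 F270966)))).symm
theorem F292999 : act 5 n90992 = n151946 := (sb E31007 (iv5 F238935))
theorem E33192 : n182714 = n41680 := (((D41680).symm.trans (sb E31008 (iv5 F284291)))).symm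
theorem F293001 : act 0 n20096 = n10703 := (sb E31009 F62715)
theorem F293002 : act 2 n20096 = n10734 := (sb E31009 F34796)
theorem E33193 : n46511 = n42567 := (((D42567).symm.trans (sb E31009 (iv3 F73489)))).symm
theorem F293003 : act 6 n20096 = n10722 := (sb E31009 F34797)
theorem F293004 : act 7 n20096 = n10622 := (sb E31009 (iv7 D22298))
theorem F293005 : act 5 n90686 = n47121 := (sb E31012 (iv5 D101175))
theorem F293006 : act 5 n22671 = n42454 := (sb E31014 (iv5 D90687))
theorem F293007 : act 4 n20658 = n42546 := (sb E31018 F66371)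
theorem F293008 : act 5 n9791 = n4947 := (sb E31024 (iv5 D10852))
theorem F293009 : act 6 n9791 = n8964 := (sb E31024 F17647)
theorem E33197 : n103047 = n101219 := ((D103047).symm.trans (sb E31026 (iv4 F155939)))
theorem F293010 : act 5 n47774 = n43734 := (sb E31026 F144194)
theorem E33198 : n184707 = n97343 := (((D97343).symm.trans (sb E31027 (iv4 F286714)))).symm
theorem E33200 : n104151 = n103049 := (((D103049).symm.trans (sb E31028 (iv1 F159657)))).symm
theorem E33201 : n104163 = n97443 := ((((iv0 F150193)).symm.trans (sb E31028 (iv0 F159688)))).symm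
theorem E33202 : n103051 = n43700 := ((D103051).symm.trans (sb E31028 (iv5 D93442)))
theorem F293011 : act 7 n47775 = n93351 := (sb E31028 F144142)
theorem F293012 : act 2 n47858 = n93351 := (sb E31037 F144196)
theorem E33215 : n103075 = n93330 := (((iv5 F158356)).symm.trans (sb E31037 F144197))
theorem F293013 : act 5 n48240 = n44694 := (sb E31044 (iv5 D95694))
theorem F293014 : act 5 n48259 = n97015 := (sb E31045 (iv5 F149636))
theorem F293015 : act 6 n19467 = n11030 := (sb E31046 F63196)
theorem F293016 : act 1 n23624 = n41288 := (sb E31047 F64990)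
theorem F293017 : act 7 n23624 = n41287 := (sb E31047 (iv7 F133948))
theorem F293018 : act 0 n23623 = n41288 := (sb E31048 (iv1 F64985))
theorem F293019 : act 2 n23623 = n41287 := (sb E31048 (iv2 F133950))
theorem E33223 : n90049 = n43929 := (((iv1 F138372)).symm.trans (sb E31049 (iv1 D93990)))
theorem E33224 : n90048 = n44623 := ((F138368).symm.trans (sb E31049 F144807))
theorem E33225 : n90047 = n44790 := (((iv7 F138365)).symm.trans (sb E31049 F144808))
theorem F293020 : act 0 n23611 = n41287 := (sb E31050 (iv1 F64991))
theorem F293021 : act 7 n23611 = n41288 := (sb E31050 F64988)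
theorem F293022 : act 5 n4976 = n104556 := (sb E31057 D104556)
theorem F293023 : act 6 n23539 = n104532 := (sb E31059 D104532)
theorem F293024 : act 5 n11064 = n19467 := (sb E31061 F31660)
theorem F293025 : act 7 n11064 = n19467 := (sb E31061 F31661)
theorem F293026 : act 0 n10184 = n19467 := (sb E31075 (iv1 F31658))
theorem F293027 : act 1 n10189 = n19467 := (sb E31076 F31663)
theorem E33261 : n42094 = n21371 := ((((iv3 F33566)).symm.trans (sb E31076 D42094))).symm
theorem F293028 : act 1 n10868 = n9143 := (sb E31087 (iv0 D19465))
theorem E33265 : n41336 = n23042 := ((((iv4 F36090)).symm.trans (sb E31087 D41336))).symm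
theorem E33266 : n20288 = n10148 := (((F17657).symm.trans (sb E31087 F137526))).symm
theorem F293029 : act 1 n19466 = n11064 := (sb E31088 F63190)
theorem F293030 : act 2 n19466 = n10184 := (sb E31088 (iv2 F63365))
theorem E33268 : n41340 = n21910 := ((D41340).symm.trans (sb E31088 (iv3 F65880)))
theorem E33269 : n44633 = n41341 := (((D41341).symm.trans (sb E31088 D44633))).symm
theorem E33270 : n20289 = n10147 := ((F137534).symm.trans (sb E31088 (iv5 D21240)))
theorem E33271 : n41343 = n23066 := ((D41343).symm.trans (sb E31088 (iv6 F36122)))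
theorem F293031 : act 7 n19466 = n10189 := (sb E31088 (iv7 F63366))
theorem F293032 : act 5 n88454 = n48417 := (sb E31089 F147615)
theorem F293033 : act 3 n23625 = n19844 := (sb E31091 F64992)
theorem E33277 : n90050 = n48474 := (((D48474).symm.trans (sb E31091 D90050))).symm
theorem E33278 : n90051 = n48470 := ((((iv6 F76237)).symm.trans (sb E31091 D90051))).symm
theorem F293034 : act 7 n23625 = n41289 := (sb E31091 F64993)
theorem E33279 : n185673 = n103214 := (((D103214).symm.trans (sb E31092 D185673))).symm
theorem E33282 : n89969 = n41236 := ((((iv1 F66289)).symm.trans (sb E31093 F138188))).symm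
theorem E33286 : n42942 = n21338 := (((F70161).symm.trans (sb E31094 F138361))).symm
theorem E33293 : n103118 = n102924 := ((((iv0 F284060)).symm.trans (sb E31096 (iv0 F251610)))).symm
theorem E33294 : n185683 = n95535 := ((D185683).symm.trans (sb E31096 (iv5 F147164)))
theorem E33295 : n185684 = n102717 := ((D185684).symm.trans (sb E31096 (iv6 F290546)))
theorem F293035 : act 4 n20816 = n41287 := (sb E31097 F64927)
theorem F293036 : act 5 n44625 = n41287 := (sb E31098 (iv5 D88448))
theorem F293037 : act 6 n47644 = n41287 := (sb E31099 (iv6 D88449))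
theorem F293038 : act 1 n21329 = n41289 := (sb E31100 (iv0 D88451))
theorem F293039 : act 0 n21333 = n41289 := (sb E31101 (iv1 D88452))
theorem E33308 : n185696 = n44799 := ((((iv3 F70376)).symm.trans (sb E31101 D185696))).symm
theorem E33312 : n185699 = n44831 := ((D185699).symm.trans (sb E31102 F147613))
theorem E33313 : n185700 = n44855 := ((D185700).symm.trans (sb E31102 F147614))
theorem E33314 : n103055 = n87943 := (((iv1 F158308)).symm.trans (sb E31103 F144160))
theorem E33315 : n95624 = n87940 := (((iv0 F147302)).symm.trans (sb E31103 F144161))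
theorem F293040 : act 6 n19089 = n22992 := (sb E31106 F36819)
theorem F293041 : act 0 n47783 = n40624 := (sb E31107 F133567)
theorem F293042 : act 1 n47783 = n87919 := (sb E31107 (iv0 F134916))
theorem E33317 : n182263 = n103063 := (((D103063).symm.trans (sb E31107 (iv3 F283707)))).symm
theorem E33318 : n104142 = n103064 := (((D103064).symm.trans (sb E31107 (iv5 F159635)))).symm
theorem F293043 : act 0 n87745 = n97029 := (sb E31108 F159396)
theorem F293044 : act 5 n87745 = n48123 := (sb E31108 (iv5 D103944))
theorem F293045 : act 0 n23240 = n40763 := (sb E31109 F69688)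
theorem E33319 : n94766 = n48121 := (((D48121).symm.trans (sb E31109 D94766))).symm
theorem F293046 : act 7 n23240 = n40424 := (sb E31109 F69687)
theorem E33320 : n91892 = n44630 := (((D44630).symm.trans (sb E31111 D91892))).symm
theorem F293047 : act 6 n21239 = n42728 := (sb E31111 F67310)
theorem F293048 : act 6 n4990 = n9906 := (sb E31117 (iv6 F15839))
theorem F293049 : act 5 n42087 = n48455 := (sb E31137 (iv5 D104808))
theorem E33343 : n96592 = n78549 := ((((iv1 F119736)).symm.trans (sb E31138 F160639))).symm
theorem E33344 : n96586 = n78546 := ((((iv0 F119730)).symm.trans (sb E31138 F160640))).symm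
theorem E33345 : n185632 = n97323 := ((D185632).symm.trans (sb E31140 (iv5 F287763)))
theorem E33346 : n90213 = n88978 := ((D90213).symm.trans (sb E31142 (iv5 F136569)))
theorem E33347 : n185636 = n95728 := ((D185636).symm.trans (sb E31143 F177429))
theorem F293050 : act 7 n88430 = n45471 := (sb E31143 F148748)
theorem F293051 : act 6 n23183 = n41280 := (sb E31144 (iv6 D88431))
theorem E33350 : n45482 = n42944 := (((D42944).symm.trans (sb E31145 (iv4 F71725)))).symm
theorem F293052 : act 7 n20283 = n10352 := (sb E31145 (iv7 D21697))
theorem E33351 : n161001 = n96954 := (((iv1 F254505)).symm.trans (sb E31146 (iv1 F149529)))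
theorem E33352 : n161000 = n97412 := ((F254503).symm.trans (sb E31146 (iv0 F150154)))
theorem F293053 : act 2 n78534 = n45476 := (sb E31146 F148749)
theorem F293054 : act 7 n78534 = n45472 := (sb E31146 F148750)
theorem F293055 : act 2 n88432 = n45477 := (sb E31147 F148751)
theorem F293056 : act 2 n77261 = n45472 := (sb E31148 F148743)
theorem F293057 : act 7 n77261 = n45476 := (sb E31148 F148744)
theorem F293058 : act 2 n88439 = n45474 := (sb E31149 F148745)
theorem E33355 : n185708 = n97320 := ((((iv2 F150065)).symm.trans (sb E31150 D185708))).symm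
theorem E33357 : n42875 = n21686 := ((((iv5 D45455)).symm.trans (sb E31150 F135431))).symm
theorem F293059 : act 7 n45455 = n90052 := (sb E31150 (iv7 F138379))
theorem F293060 : act 2 n45459 = n78543 := (sb E31151 F133007)
theorem E33359 : n181702 = n97336 := (((D97336).symm.trans (sb E31151 (iv3 F282842)))).symm
theorem E33360 : n97337 = n40215 := ((D97337).symm.trans (sb E31151 (iv5 D86722)))
theorem E33361 : n181704 = n97338 := (((D97338).symm.trans (sb E31151 D181704))).symm
theorem F293061 : act 7 n45459 = n77266 := (sb E31151 F133009)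
theorem F293062 : act 0 n10350 = n20278 := (sb E31152 (iv1 F32171))
theorem F293063 : act 2 n10350 = n20281 := (sb E31152 (iv2 F32179))
theorem F293064 : act 7 n10350 = n20280 := (sb E31152 (iv7 F32181))
theorem F293065 : act 2 n45460 = n90055 := (sb E31153 (iv2 F138383))
theorem E33365 : n185715 = n97353 := (((D97353).symm.trans (sb E31154 D185715))).symm
theorem E33366 : n185716 = n97354 := (((D97354).symm.trans (sb E31154 D185716))).symm
theorem E33367 : n185717 = n97351 := ((((iv2 F150103)).symm.trans (sb E31154 D185717))).symm
theorem E33368 : n97355 = n88698 := ((D97355).symm.trans (sb E31154 (iv4 F136045)))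
theorem E33369 : n185718 = n97356 := (((D97356).symm.trans (sb E31154 D185718))).symm
theorem F293066 : act 7 n45467 = n90054 := (sb E31154 (iv7 F138382))
theorem F293067 : act 2 n45469 = n77266 := (sb E31155 F133003)
theorem E33370 : n181697 = n97359 := (((D97359).symm.trans (sb E31155 (iv3 F282826)))).symm
theorem E33371 : n97360 = n40214 := ((D97360).symm.trans (sb E31155 (iv5 D86720)))
theorem E33372 : n181698 = n97361 := (((D97361).symm.trans (sb E31155 D181698))).symm
theorem F293068 : act 7 n45469 = n78543 := (sb E31155 F133004)
theorem F293069 : act 2 n45470 = n90053 := (sb E31156 (iv2 F138380))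
theorem F293070 : act 0 n45499 = n35810 := (sb E31157 (iv1 D78612))
theorem F293071 : act 1 n45499 = n41292 := (sb E31157 F119788)
theorem E33376 : n163616 = n97436 := (((D97436).symm.trans (sb E31157 D163616))).symm
theorem E33377 : n97400 = n41267 := (((iv5 F150126)).symm.trans (sb E31157 F119790))
theorem E33378 : n163617 = n97437 := (((D97437).symm.trans (sb E31157 D163617))).symm
theorem F293072 : act 0 n45522 = n41292 := (sb E31158 (iv1 F119785))
theorem F293073 : act 1 n45522 = n35810 := (sb E31158 (iv0 D78611))
theorem E33379 : n163614 = n97478 := (((D97478).symm.trans (sb E31158 D163614))).symm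
theorem E33380 : n97401 = n41261 := (((iv5 F150130)).symm.trans (sb E31158 F119783))
theorem E33381 : n163615 = n97479 := (((D97479).symm.trans (sb E31158 D163615))).symm
theorem F293074 : act 1 n87290 = n48444 := (sb E31159 (iv0 D104777))
theorem F293075 : act 0 n87289 = n48444 := (sb E31160 (iv1 D104778))
theorem E33394 : n103324 = n89989 := (((D89989).symm.trans (sb E31170 (iv0 F158568)))).symm
theorem E33395 : n48215 = n46997 := (((iv6 F75782)).symm.trans (sb E31170 F150306))
theorem E33396 : n88382 = n45327 := (((iv1 F135363)).symm.trans (sb E31171 (iv1 D96953)))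
theorem E33397 : n79953 = n45479 := (((iv4 F122727)).symm.trans (sb E31171 (iv4 F149526)))
theorem E33398 : n48216 = n47994 := (((D47994).symm.trans (sb E31172 D48216))).symm
theorem F293076 : act 6 n23156 = n19834 := (sb E31172 F36485)
theorem E33401 : n45531 = n19221 := (((F30877).symm.trans (sb E31175 (iv1 F71812)))).symm
theorem E33403 : n45539 = n19833 := (((D19833).symm.trans (sb E31175 D45539))).symm
theorem E33405 : n104556 = n9535 := ((F293022).symm.trans (sb E31178 (iv5 D20194)))
theorem E33406 : n79956 = n45478 := (((iv4 F122735)).symm.trans (sb E31179 F149514))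
theorem E33408 : n104532 = n19840 := ((F293023).symm.trans (sb E31180 (iv6 D42074)))
theorem F293077 : act 6 n9336 = n11037 := (sb E31183 (iv6 F291909))
theorem E33423 : n91726 = n45480 := (((D45480).symm.trans (sb E31190 D91726))).symm
theorem E33424 : n45481 = n35780 := ((D45481).symm.trans (sb E31190 F67195))
theorem E33428 : n91731 = n45451 := (((D45451).symm.trans (sb E31191 D91731))).symm
theorem F293078 : act 0 n91842 = n95512 := (sb E31192 (iv1 F148714))
theorem F293079 : act 1 n91842 = n95511 := (sb E31192 F148715)
theorem F293080 : act 2 n91842 = n95514 := (sb E31192 F148710)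
theorem F293081 : act 5 n91844 = n95544 := (sb E31194 F148766)
theorem E33430 : n183262 = n75171 := ((D183262).symm.trans (sb E31195 (iv5 D157769)))
theorem E33431 : n183271 = n86718 := (((iv5 F284929)).symm.trans (sb E31196 F262104))
theorem F293082 : act 5 n97383 = n79942 := (sb E31197 (iv5 D166565))
theorem F293083 : act 7 n97383 = n160999 := (sb E31197 F262099)
theorem F293084 : act 5 n36414 = n45476 := (sb E31198 (iv5 D97384))
theorem F293085 : act 2 n97385 = n163415 := (sb E31199 F262107)
theorem F293086 : act 0 n97386 = n185646 := (sb E31200 (iv1 F288710))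
theorem F293087 : act 1 n97387 = n185646 := (sb E31201 F288707)
theorem F293088 : act 0 n97388 = n185644 := (sb E31202 (iv1 F288711))
theorem F293089 : act 1 n97388 = n185643 := (sb E31202 F288712)
theorem F293090 : act 2 n97388 = n185646 := (sb E31202 F288708)
theorem F293091 : act 6 n97388 = n185668 := (sb E31202 F288709)
theorem E33432 : n87681 = n42255 := ((((iv3 D90386)).symm.trans (sb E31205 F285549))).symm
theorem F293092 : act 6 n90386 = n87678 := (sb E31205 (iv6 D183766))
theorem E33433 : n96091 = n92032 := ((((iv4 F141527)).symm.trans (sb E31206 (iv4 F147713)))).symm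
theorem E33434 : n185496 = n92040 := (((D92040).symm.trans (sb E31206 (iv5 F287773)))).symm
theorem E33435 : n92041 = n87725 := ((D92041).symm.trans (sb E31206 F135326))
theorem F293093 : act 0 n88356 = n43299 := (sb E31207 (iv1 D92544))
theorem E33436 : n102069 = n91998 := (((iv3 F157014)).symm.trans (sb E31207 F142539))
theorem F293094 : act 5 n46325 = n43299 := (sb E31208 (iv5 D92546))
theorem F293095 : act 6 n47550 = n43299 := (sb E31209 (iv6 D92547))
theorem F293096 : act 5 n97372 = n79949 := (sb E31210 (iv5 D166578))
theorem F293097 : act 7 n97372 = n163413 := (sb E31210 F262138)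
theorem F293098 : act 5 n36417 = n45472 := (sb E31211 (iv5 D97373))
theorem F293099 : act 2 n97374 = n161002 := (sb E31212 F262141)
theorem E33437 : n91848 = n44709 := ((D91848).symm.trans (sb E31215 F157285))
theorem E33438 : n96564 = n91849 := (((D91849).symm.trans (sb E31215 D96564))).symm
theorem E33439 : n96565 = n91850 := (((D91850).symm.trans (sb E31215 D96565))).symm
theorem E33440 : n42598 = n41539 := ((F67282).symm.trans (sb E31215 F70991))
theorem F293100 : act 6 n42935 = n89928 := (sb E31215 (iv6 F138104))
theorem F293101 : act 1 n2065 = n4331 := (sb E31220 (iv0 D9611))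
theorem F293102 : act 6 n4325 = n9599 := (sb E31231 (iv6 D20291))
theorem E33452 : n9599 = n4626 := ((F293102).symm.trans (sb E31233 F6794))
theorem F293103 : act 3 n10180 = n9597 := (sb E31234 (iv3 D20282))
theorem F293104 : act 6 n10180 = n9597 := (sb E31234 (iv6 F291970))
theorem F293105 : act 3 n44816 = n42945 := (sb E31237 F141237)
theorem F293106 : act 3 n91876 = n95957 := (sb E31239 F150047)
theorem F293107 : act 5 n91876 = n95957 := (sb E31239 F150048)
theorem F293108 : act 5 n9789 = n19811 := (sb E31246 (iv5 F63318))
theorem E33473 : n23078 = n10881 := ((((iv3 F17663)).symm.trans (sb E31247 D23078))).symm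
theorem F293109 : act 6 n9792 = n8977 := (sb E31247 F17659)
theorem E33476 : n184702 = n103256 := (((D103256).symm.trans (sb E31249 (iv3 F286704)))).symm
theorem E33477 : n103257 = n41125 := ((D103257).symm.trans (sb E31249 (iv5 D88071)))
theorem F293110 : act 0 n47854 = n93351 := (sb E31250 (iv1 F143974))
theorem E33480 : n93325 = n89935 := ((((iv4 F138131)).symm.trans (sb E31250 (iv4 F143915)))).symm
theorem E33481 : n103273 = n41023 := ((D103273).symm.trans (sb E31250 (iv5 D87927)))
theorem F293111 : act 1 n47855 = n93351 := (sb E31251 (iv0 F143973))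
theorem E33484 : n103276 = n93322 := ((D103276).symm.trans (sb E31251 (iv5 F143908)))
theorem E33485 : n184422 = n103277 := (((D103277).symm.trans (sb E31251 D184422))).symm
theorem E33486 : n103283 = n93349 := ((D103283).symm.trans (sb E31252 (iv1 F143970)))
theorem E33487 : n103284 = n93348 := ((D103284).symm.trans (sb E31252 F143969))
theorem E33489 : n184367 = n103285 := (((D103285).symm.trans (sb E31252 D184367))).symm
theorem E33495 : n8969 = n8934 := (((D8934).symm.trans (sb E31265 (iv6 D19122)))).symm
theorem F293112 : act 0 n8582 = n9185 := (sb E31267 F30717)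
theorem F293113 : act 5 n8582 = n8967 := (sb E31267 (iv5 D19118))
theorem F293114 : act 7 n8582 = n9493 := (sb E31267 F30716)
theorem F293115 : act 5 n1891 = n1995 := (sb E31272 (iv5 D4844))
theorem E33514 : n43594 = n22130 := (((D22130).symm.trans (sb E31280 (iv6 D93171)))).symm
theorem F293116 : act 0 n46134 = n90991 := (sb E31281 (iv1 F140025))
theorem F293117 : act 1 n46134 = n90990 := (sb E31281 F140020)
theorem F293118 : act 7 n46134 = n90992 := (sb E31281 (iv7 F140023))
theorem E33515 : n43592 = n22135 := (((D22135).symm.trans (sb E31286 D43592))).symm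
theorem E33516 : n43593 = n22136 := (((D22136).symm.trans (sb E31286 D43593))).symm
theorem E33517 : n43595 = n22137 := (((D22137).symm.trans (sb E31286 D43595))).symm
theorem F293119 : act 7 n10553 = n20122 := (sb E31286 F32730)
theorem F293120 : act 0 n46137 = n90992 := (sb E31287 (iv1 F140024))
theorem F293121 : act 1 n46138 = n90992 := (sb E31288 F140026)
theorem F293122 : act 5 n1988 = n4552 := (sb E31290 (iv5 D9996))
theorem F293123 : act 0 n41696 = n48488 := (sb E31293 F160731)
theorem E33534 : n103244 = n93343 := (((D93343).symm.trans (sb E31296 (iv4 F158492)))).symm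
theorem F293124 : act 2 n47878 = n40624 := (sb E31297 F133438)
theorem E33536 : n103331 = n48196 := ((D103331).symm.trans (sb E31297 F133440))
theorem F293125 : act 6 n47878 = n40356 := (sb E31297 (iv6 D86943))
theorem F293126 : act 7 n47878 = n87919 := (sb E31297 (iv7 F134913))
theorem F293127 : act 5 n92881 = n47055 := (sb E31298 (iv5 D100985))
theorem F293128 : act 5 n22630 = n43458 := (sb E31299 (iv5 D92882))
theorem F293129 : act 0 n92856 = n47054 := (sb E31301 (iv1 F153196))
theorem F293130 : act 2 n92856 = n47057 := (sb E31301 F153194)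
theorem F293131 : act 7 n92856 = n46498 := (sb E31301 (iv7 D99456))
theorem E33539 : n87206 = n9037 := (((D9037).symm.trans (sb E31307 (iv3 F133841)))).symm
theorem E33541 : n19142 = n9039 := (((D9039).symm.trans (sb E31307 (iv6 D40512)))).symm
theorem E33552 : n100270 = n20941 := ((F292967).symm.trans (sb E31335 (iv1 D44085)))
theorem F293132 : act 6 n23307 = n43911 := (sb E31335 (iv6 F69432))
theorem F293133 : act 1 n40705 = n23239 := (sb E31336 (iv0 F70663))
theorem F293134 : act 3 n40705 = n22478 := (sb E31336 F70660)
theorem F293135 : act 5 n40705 = n21463 := (sb E31336 (iv5 D44950))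
theorem F293136 : act 4 n19509 = n10555 := (sb E31337 (iv4 D22145))
theorem E33555 : n93116 = n43995 := ((((iv4 F69204)).symm.trans (sb E31339 (iv4 F143605)))).symm
theorem E33557 : n41527 = n20615 := (((iv6 F64065)).symm.trans (sb E31339 (iv6 D43581)))
theorem E33559 : n93148 = n46110 := (((D46110).symm.trans (sb E31340 (iv6 F143651)))).symm
theorem F293137 : act 0 n9771 = n10556 := (sb E31341 (iv1 F31316))
theorem F293138 : act 1 n9771 = n10555 := (sb E31341 F31317)
theorem E33560 : n41545 = n20616 := (((D20616).symm.trans (sb E31341 (iv5 F64102)))).symm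
theorem F293139 : act 6 n9771 = n10497 := (sb E31341 F31314)
theorem F293140 : act 7 n9771 = n9204 := (sb E31341 (iv7 D19559))
theorem E33561 : n21036 = n19139 := (((iv6 F62588)).symm.trans (sb E31342 (iv6 D40505)))
theorem E33562 : n10269 = n9041 := (((iv1 F16902)).symm.trans (sb E31343 F62563))
theorem F293141 : act 6 n8994 = n9018 := (sb E31343 (iv6 F62590))
theorem F293142 : act 0 n42548 = n23239 := (sb E31346 (iv1 F73356))
theorem F293143 : act 4 n42548 = n43734 := (sb E31346 F73354)
theorem F293144 : act 2 n41060 = n45377 := (sb E31347 (iv2 F71547))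
theorem E33566 : n95621 = n87939 := (((D87939).symm.trans (sb E31347 (iv3 F147296)))).symm
theorem F293145 : act 4 n41060 = n43220 := (sb E31347 F70206)
theorem F293146 : act 6 n41060 = n21255 := (sb E31347 (iv6 D44657))
theorem F293147 : act 7 n41060 = n45501 := (sb E31347 (iv7 F71751))
theorem E33575 : n186566 = n93066 := (((D93066).symm.trans (sb E31350 (iv2 F289507)))).symm
theorem E33576 : n103444 = n93067 := (((D93067).symm.trans (sb E31350 (iv5 F158735)))).symm
theorem F293148 : act 2 n43549 = n41757 := (sb E31351 (iv2 F75253))
theorem E33577 : n100156 = n92910 := ((((iv4 F143281)).symm.trans (sb E31351 (iv4 F154084)))).symm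
theorem E33578 : n103445 = n93071 := (((D93071).symm.trans (sb E31351 D103445))).symm
theorem F293149 : act 7 n43549 = n46777 := (sb E31351 (iv7 F75254))
theorem F293150 : act 0 n43527 = n22419 := (sb E31356 (iv1 F73309))
theorem F293151 : act 1 n43527 = n22418 := (sb E31356 F73315)
theorem F293152 : act 2 n43527 = n22421 := (sb E31356 F73306)
theorem E33579 : n99327 = n93031 := (((D93031).symm.trans (sb E31356 D99327))).symm
theorem F293153 : act 7 n43527 = n22242 := (sb E31356 (iv7 D46442))
theorem F293154 : act 0 n47053 = n92856 := (sb E31359 F154354)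
theorem F293155 : act 5 n47053 = n46833 := (sb E31359 (iv5 D100367))
theorem F293156 : act 1 n43474 = n22420 := (sb E31360 (iv0 D46767))
theorem F293157 : act 4 n43474 = n22628 := (sb E31360 (iv4 F73929))
theorem E33586 : n100210 = n92929 := (((D92929).symm.trans (sb E31360 D100210))).symm
theorem F293158 : act 0 n43561 = n22420 := (sb E31361 (iv1 D46768))
theorem F293159 : act 3 n41738 = n48488 := (sb E31376 F160164)
theorem E33599 : n103928 = n41748 := ((((iv3 F64386)).symm.trans (sb E31387 (iv3 F159363)))).symm
theorem F293160 : act 5 n44540 = n87944 := (sb E31398 (iv5 D184396))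
theorem F293161 : act 2 n41061 = n45501 := (sb E31399 (iv2 F138123))
theorem F293162 : act 7 n41061 = n45377 := (sb E31399 F138125)
theorem E33610 : n105010 = n87020 := (((D87020).symm.trans (sb E31402 D105010))).symm
theorem F293163 : act 6 n40412 = n47783 := (sb E31402 F76384)
theorem F293164 : act 4 n89038 = n92325 := (sb E31403 F283882)
theorem E33612 : n87064 = n41585 := ((((iv6 D89038)).symm.trans (sb E31403 (iv6 D182336)))).symm
theorem E33613 : n86927 = n44567 := ((D86927).symm.trans (sb E31405 (iv5 F70085)))
theorem E33614 : n96448 = n88329 := ((((iv1 F135251)).symm.trans (sb E31407 F159410))).symm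
theorem E33615 : n103443 = n43702 := (((F133345).symm.trans (sb E31407 F159411))).symm
theorem F293165 : act 0 n42552 = n22533 := (sb E31408 (iv1 F73391))
theorem F293166 : act 1 n42552 = n22532 := (sb E31408 F73396)
theorem F293167 : act 2 n42552 = n22535 := (sb E31408 F73388)
theorem E33616 : n99359 = n90843 := ((((iv3 F139821)).symm.trans (sb E31408 (iv3 F153013)))).symm
theorem E33617 : n99389 = n90847 := (((D90847).symm.trans (sb E31408 D99389))).symm
theorem F293168 : act 7 n42552 = n22265 := (sb E31408 (iv7 D46473))
theorem F293169 : act 6 n89925 = n47887 := (sb E31412 (iv6 F138276))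
theorem E33620 : n44089 = n42065 := ((F138099).symm.trans (sb E31413 (iv6 D90005)))
theorem F293170 : act 6 n19837 = n42018 := (sb E31415 (iv6 F64863))
theorem F293171 : act 0 n47903 = n88317 := (sb E31418 (iv1 F135232))
theorem F293172 : act 1 n47903 = n40768 := (sb E31418 F133364)
theorem F293173 : act 2 n47903 = n40412 := (sb E31418 F133361)
theorem E33624 : n103371 = n98593 := (((iv3 F158660)).symm.trans (sb E31418 (iv3 F151988)))
theorem E33625 : n103374 = n95442 := ((D103374).symm.trans (sb E31418 (iv5 F147065)))
theorem F293174 : act 7 n47903 = n40425 := (sb E31418 F133363)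
theorem F293175 : act 4 n45466 = n89649 := (sb E31423 F140979)
theorem E33626 : n186326 = n43939 := ((((iv1 F205495)).symm.trans (sb E31424 (iv1 F289109)))).symm
theorem E33629 : n111002 = n45475 := (((iv4 F172087)).symm.trans (sb E31425 (iv4 D97381)))
theorem E33631 : n88384 = n45492 := (((F144639).symm.trans (sb E31426 (iv3 D185541)))).symm
theorem F293176 : act 4 n44824 = n89648 := (sb E31426 F287843)
theorem E33632 : n96058 = n88710 := ((D96058).symm.trans (sb E31426 F287842))
theorem F293177 : act 0 n23062 = n20701 := (sb E31427 (iv1 F62477))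
theorem F293178 : act 1 n23062 = n19242 := (sb E31427 (iv0 F61893))
theorem F293179 : act 2 n23062 = n19089 := (sb E31427 F63447)
theorem F293180 : act 3 n23062 = n43217 := (sb E31427 (iv3 F67680))
theorem F293181 : act 5 n23062 = n19060 := (sb E31427 (iv5 D40324))
theorem F293182 : act 7 n23062 = n19094 := (sb E31427 F63448)
theorem F293183 : act 1 n88760 = n43271 := (sb E31428 (iv0 D92486))
theorem F293184 : act 2 n88760 = n43853 := (sb E31428 (iv2 F142356))
theorem E33633 : n182659 = n46080 := (((iv4 F284210)).symm.trans (sb E31428 F142358))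
theorem F293185 : act 7 n88760 = n43960 := (sb E31428 F142359)
theorem F293186 : act 0 n88761 = n43960 := (sb E31429 (iv1 F142366))
theorem F293187 : act 1 n88761 = n43853 := (sb E31429 F142367)
theorem E33634 : n94721 = n87215 := (((F136151).symm.trans (sb E31429 (iv4 F146019)))).symm
theorem F293188 : act 7 n88761 = n43271 := (sb E31429 (iv7 D92488))
theorem E33635 : n89169 = n87213 := (((D87213).symm.trans (sb E31430 (iv1 F148781)))).symm
theorem E33636 : n94720 = n87214 := (((D87214).symm.trans (sb E31430 D94720))).symm
theorem E33637 : n94722 = n87216 := (((D87216).symm.trans (sb E31430 D94722))).symm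
theorem F293189 : act 7 n40516 = n40370 := (sb E31430 F69650)
theorem E33638 : n100696 = n43946 := ((D100696).symm.trans (sb E31431 (iv3 D94030)))
theorem E33639 : n100698 = n92974 := ((D100698).symm.trans (sb E31431 F144861))
theorem E33640 : n100699 = n94457 := ((D100699).symm.trans (sb E31431 (iv6 F145640)))
theorem E33641 : n100690 = n90136 := ((F154805).symm.trans (sb E31431 F144862))
theorem E33648 : n20727 = n10867 := ((D20727).symm.trans (sb E31440 (iv1 D23045)))
theorem E33649 : n20728 = n10872 := ((D20728).symm.trans (sb E31440 F36097))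
theorem F293190 : act 7 n9822 = n19813 := (sb E31440 F63271)
theorem F293191 : act 3 n23099 = n22577 := (sb E31444 F68775)
theorem E33656 : n93564 = n47942 := (((D47942).symm.trans (sb E31444 D93564))).symm
theorem F293192 : act 0 n23096 = n43549 := (sb E31448 (iv1 D93070))
theorem F293193 : act 1 n23096 = n43552 := (sb E31448 F143554)
theorem F293194 : act 6 n41480 = n43548 := (sb E31451 (iv6 D93068))
theorem E33657 : n90193 = n47554 := ((((iv1 F74761)).symm.trans (sb E31452 F143559))).symm
theorem F293195 : act 5 n9527 = n4989 := (sb E31456 (iv5 F292096))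
theorem F293196 : act 1 n42455 = n22577 := (sb E31457 (iv0 F292098))
theorem F293197 : act 2 n42192 = n22577 := (sb E31458 (iv2 F292099))
theorem F293198 : act 5 n91270 = n48124 := (sb E31459 (iv5 D103948))
theorem F293199 : act 3 n89571 = n47878 := (sb E31464 (iv3 D103330))
theorem F293200 : act 5 n43447 = n47726 := (sb E31466 (iv5 D102913))
theorem E33667 : n96134 = n93216 := (((D93216).symm.trans (sb E31469 D96134))).symm
theorem E33668 : n96135 = n93217 := (((D93217).symm.trans (sb E31469 D96135))).symm
theorem E33669 : n96136 = n93208 := ((((iv2 F143784)).symm.trans (sb E31469 D96136))).symm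
theorem E33670 : n96137 = n93218 := (((D93218).symm.trans (sb E31469 D96137))).symm
theorem E33671 : n41638 = n20629 := ((((iv6 D43609)).symm.trans (sb E31469 F70462))).symm
theorem F293201 : act 7 n43609 = n37853 := (sb E31469 F70463)
theorem F293202 : act 2 n43613 = n41674 := (sb E31470 F70464)
theorem E33672 : n93226 = n89195 := ((D93226).symm.trans (sb E31470 (iv4 F136892)))
theorem E33673 : n96138 = n93222 := ((((iv6 F143798)).symm.trans (sb E31470 D96138))).symm
theorem F293203 : act 7 n43613 = n37856 := (sb E31470 F70465)
theorem F293204 : act 0 n9778 = n10566 := (sb E31471 F35329)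
theorem E33674 : n41646 = n20630 := (((D20630).symm.trans (sb E31471 (iv5 F64269)))).symm
theorem F293205 : act 7 n9778 = n9220 := (sb E31471 (iv7 D19609))
theorem E33675 : n93117 = n43996 := (((D43996).symm.trans (sb E31473 D93117))).symm
theorem E33676 : n21080 = n20611 := ((F65809).symm.trans (sb E31473 (iv6 D43570)))
theorem F293206 : act 0 n9770 = n10360 := (sb E31474 F62629)
theorem F293207 : act 6 n9770 = n10450 := (sb E31474 F31287)
theorem F293208 : act 7 n9770 = n9199 := (sb E31474 (iv7 D19547))
theorem F293209 : act 1 n41672 = n43613 := (sb E31478 (iv0 D93224))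
theorem E33678 : n99436 = n93103 := (((iv5 F153171)).symm.trans (sb E31479 F154366))
theorem F293210 : act 1 n43560 = n22628 := (sb E31480 F73465)
theorem F293211 : act 2 n43560 = n22631 := (sb E31480 F73462)
theorem F293212 : act 5 n43560 = n22288 := (sb E31480 F73463)
theorem E33679 : n99457 = n93104 := (((D93104).symm.trans (sb E31480 D99457))).symm
theorem F293213 : act 7 n43560 = n22287 := (sb E31480 (iv7 D46499))
theorem F293214 : act 1 n10721 = n20606 := (sb E31482 (iv0 D43559))
theorem F293215 : act 0 n46444 = n43552 := (sb E31483 (iv1 F143551))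
theorem F293216 : act 1 n46444 = n43549 := (sb E31483 (iv0 D93069))
theorem E33762 : n43753 = n19695 := (((F34992).symm.trans (sb E31522 D43753))).symm
theorem F293217 : act 6 n40410 = n91310 := (sb E31535 (iv6 F140386))
theorem E33780 : n91310 = n23163 := ((((iv2 F36240)).symm.trans (sb E31536 D91310))).symm
theorem F293218 : act 4 n9527 = n4992 := (sb E31537 F17794)
theorem E33784 : n91958 = n8974 := ((F292904).symm.trans (sb E31539 F16897))
theorem F293219 : act 7 n9810 = n11091 := (sb E31544 F36132)
theorem E33799 : n92322 = n43861 := ((D92322).symm.trans (sb E31547 F157569))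
theorem E33800 : n94151 = n92323 := (((D92323).symm.trans (sb E31547 D94151))).symm
theorem E33801 : n94152 = n92324 := (((D92324).symm.trans (sb E31547 D94152))).symm
theorem E33802 : n103972 = n46118 := ((((iv1 F291489)).symm.trans (sb E31549 (iv1 F159425)))).symm
theorem F293220 : act 3 n42734 = n23246 := (sb E31549 F75623)
theorem F293221 : act 1 n48148 = n42247 := (sb E31552 (iv0 D90366))
theorem F293222 : act 2 n48148 = n42581 := (sb E31552 (iv2 F139530))
theorem F293223 : act 7 n48148 = n42582 := (sb E31552 (iv7 F139532))
theorem F293224 : act 0 n42569 = n22670 := (sb E31553 (iv1 F73506))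
theorem F293225 : act 1 n42569 = n22669 := (sb E31553 F73507)
theorem F293226 : act 2 n42569 = n22672 := (sb E31553 F73504)
theorem E33806 : n99491 = n90875 := ((((iv3 F139876)).symm.trans (sb E31553 (iv3 F153253)))).symm
theorem E33807 : n99510 = n90699 := ((((iv4 F139611)).symm.trans (sb E31553 (iv4 F153273)))).symm
theorem E33808 : n99511 = n90879 := (((D90879).symm.trans (sb E31553 D99511))).symm
theorem F293227 : act 7 n42569 = n22297 := (sb E31553 (iv7 D46518))
theorem E33813 : n40836 = n4052 := (((D4052).symm.trans (sb E31557 (iv4 F61930)))).symm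
theorem E33814 : n10382 = n4054 := (((D4054).symm.trans (sb E31557 (iv6 D21761)))).symm
theorem E33817 : n87845 = n47996 := (((F149614).symm.trans (sb E31560 (iv1 F159742)))).symm
theorem E33818 : n184591 = n103789 := ((((iv4 F159220)).symm.trans (sb E31560 (iv4 F286582)))).symm
theorem E33819 : n20729 = n19191 := ((D20729).symm.trans (sb E31562 (iv2 F66173)))
theorem E33820 : n20730 = n9817 := ((D20730).symm.trans (sb E31562 (iv5 F15542)))
theorem F293228 : act 7 n40651 = n47875 := (sb E31567 F139654)
theorem F293229 : act 5 n87864 = n42769 := (sb E31575 (iv5 D91386))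
theorem E33824 : n87839 = n48085 := ((((iv3 F75553)).symm.trans (sb E31577 (iv3 F134808)))).symm
theorem E33825 : n87844 = n48090 := (((D48090).symm.trans (sb E31577 D87844))).symm
theorem F293230 : act 0 n103873 = n99898 := (sb E31578 F286022)
theorem F293231 : act 5 n103873 = n87805 := (sb E31578 (iv5 D184081))
theorem E33826 : n184590 = n103790 := (((F159292).symm.trans (sb E31578 F286579))).symm
theorem F293232 : act 7 n103346 = n48087 := (sb E31580 F158999)
theorem F293233 : act 2 n22193 = n20642 := (sb E31589 F65071)
theorem E33831 : n90184 = n22763 := ((((iv5 F35325)).symm.trans (sb E31589 D90184))).symm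
theorem F293234 : act 1 n18195 = n19510 := (sb E31590 F31705)
theorem F293235 : act 3 n18195 = n36411 := (sb E31590 (iv3 F57155))
theorem F293236 : act 5 n18195 = n9349 := (sb E31590 (iv5 D19864))
theorem F293237 : act 7 n18195 = n19509 := (sb E31590 F31703)
theorem F293238 : act 6 n89927 = n87949 := (sb E31591 (iv6 D184416))
theorem F293239 : act 0 n41064 = n45501 := (sb E31593 F138022)
theorem F293240 : act 1 n41064 = n45377 := (sb E31593 F138023)
theorem F293241 : act 6 n41064 = n42019 := (sb E31593 F138020)
theorem F293242 : act 5 n89250 = n47798 := (sb E31598 (iv5 D103103))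
theorem F293243 : act 7 n89250 = n182453 := (sb E31598 (iv7 F283992))
theorem E33832 : n101410 = n90090 := (((D90090).symm.trans (sb E31599 D101410))).symm
theorem E33834 : n101405 = n90092 := (((D90092).symm.trans (sb E31599 (iv2 F156245)))).symm
theorem E33835 : n94804 = n90093 := (((D90093).symm.trans (sb E31599 (iv5 F146138)))).symm
theorem F293244 : act 6 n42109 = n22704 := (sb E31599 (iv6 D47198))
theorem F293245 : act 0 n42110 = n21081 := (sb E31600 (iv1 D44293))
theorem E33837 : n94806 = n90094 := (((D90094).symm.trans (sb E31600 D94806))).symm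
theorem E33842 : n185611 = n104724 := (((D104724).symm.trans (sb E31602 (iv6 F287929)))).symm
theorem F293246 : act 2 n21714 = n19327 := (sb E31604 F36451)
theorem E33843 : n48200 = n45496 := ((((iv3 F71747)).symm.trans (sb E31604 D48200))).symm
theorem F293247 : act 7 n97075 = n87942 := (sb E31605 F159659)
theorem F293248 : act 1 n9478 = n9959 := (sb E31613 (iv0 F62661))
theorem F293249 : act 2 n9478 = n8582 := (sb E31613 F29322)
theorem F293250 : act 3 n9478 = n19199 := (sb E31613 (iv3 F30836))
theorem F293251 : act 4 n9478 = n9220 := (sb E31613 F29323)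
theorem F293252 : act 6 n9478 = n8560 := (sb E31613 (iv6 D18150))
theorem E33854 : n88381 = n41632 := (((D41632).symm.trans (sb E31614 (iv6 D185537)))).symm
theorem E33858 : n19200 = n9981 := ((D19200).symm.trans (sb E31618 (iv5 D21006)))
theorem F293253 : act 5 n9477 = n19199 := (sb E31619 (iv5 D40676))
theorem F293254 : act 6 n42172 = n84633 := (sb E31625 (iv6 D177746))
theorem E33867 : n102087 = n90219 := (((D90219).symm.trans (sb E31626 (iv3 F289973)))).symm
theorem E33868 : n102555 = n90220 := (((D90220).symm.trans (sb E31626 (iv4 F289992)))).symm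
theorem E33869 : n90221 = n88932 := ((D90221).symm.trans (sb E31626 F289884))
theorem E33870 : n90222 = n47562 := ((D90222).symm.trans (sb E31626 (iv6 D102542)))
theorem E33871 : n90225 = n46704 := ((D90225).symm.trans (sb E31627 F153949))
theorem E33872 : n90226 = n88933 := ((D90226).symm.trans (sb E31627 F153950))
theorem E33873 : n90227 = n46702 := ((D90227).symm.trans (sb E31627 (iv6 D100003)))
theorem E33874 : n98437 = n90229 := (((D90229).symm.trans (sb E31628 F289819))).symm
theorem E33875 : n98419 = n90230 := (((D90230).symm.trans (sb E31628 F289820))).symm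
theorem F293255 : act 0 n88600 = n91079 := (sb E31630 F159996)
theorem F293256 : act 1 n88600 = n92753 := (sb E31630 F159997)
theorem F293257 : act 5 n88600 = n48295 := (sb E31630 (iv5 D104365))
theorem F293258 : act 7 n88600 = n104411 := (sb E31630 (iv7 F160067))
theorem F293259 : act 0 n89457 = n92753 := (sb E31631 F160020)
theorem F293260 : act 1 n89457 = n91079 := (sb E31631 F160021)
theorem F293261 : act 2 n89457 = n104411 := (sb E31631 (iv2 F160066))
theorem F293262 : act 5 n89457 = n92758 := (sb E31631 F160019)
theorem F293263 : act 5 n41543 = n19896 := (sb E31632 (iv5 D42168))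
theorem E33877 : n90215 = n88980 := (((D88980).symm.trans (sb E31632 D90215))).symm
theorem F293264 : act 0 n22151 = n20131 := (sb E31633 (iv1 F65104))
theorem F293265 : act 1 n22151 = n19898 := (sb E31633 (iv0 D42174))
theorem E33878 : n46322 = n41425 := ((D46322).symm.trans (sb E31633 F65103))
theorem F293266 : act 7 n22151 = n41425 := (sb E31633 (iv7 F65105))
theorem F293267 : act 0 n22146 = n19898 := (sb E31634 (iv1 D42175))
theorem F293268 : act 1 n22146 = n20131 := (sb E31634 F65106)
theorem F293269 : act 2 n22146 = n41425 := (sb E31634 (iv2 F65108))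
theorem E33881 : n46314 = n41540 := ((D46314).symm.trans (sb E31634 (tr (iv4 F66432) E32007)))
theorem E33882 : n90236 = n46315 := (((D46315).symm.trans (sb E31634 D90236))).symm
theorem F293270 : act 3 n23485 = n23685 := (sb E31639 F76409)
theorem E33889 : n105051 = n48326 := (((D48326).symm.trans (sb E31639 D105051))).symm
theorem F293271 : act 0 n48554 = n40384 := (sb E31642 (iv1 D86981))
theorem E33891 : n182162 = n105066 := (((D105066).symm.trans (sb E31642 D182162))).symm
theorem E33892 : n182163 = n105056 := ((((iv6 F160975)).symm.trans (sb E31642 D182163))).symm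
theorem F293272 : act 0 n41671 = n43613 := (sb E31643 (iv1 D93225))
theorem E33895 : n183772 = n90187 := (((D90187).symm.trans (sb E31645 (iv1 F288507)))).symm
theorem E33896 : n97963 = n90188 := (((D90188).symm.trans (sb E31645 (iv0 F288511)))).symm
theorem E33897 : n90189 = n87437 := ((D90189).symm.trans (sb E31645 F157460))
theorem E33898 : n89139 = n42702 := ((((iv5 F66919)).symm.trans (sb E31645 (iv5 F157464)))).symm
theorem E33899 : n90190 = n47553 := ((D90190).symm.trans (sb E31645 (iv6 D102524)))
theorem F293273 : act 2 n22852 = n20152 := (sb E31647 F65084)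
theorem F293274 : act 6 n22852 = n19893 := (sb E31647 (iv6 D42160))
theorem F293275 : act 3 n55275 = n47737 := (sb E31658 F158227)
theorem F293276 : act 5 n55275 = n47733 := (sb E31658 (iv5 D102935))
theorem F293277 : act 0 n102943 = n92453 := (sb E31659 F283749)
theorem F293278 : act 1 n102943 = n92459 := (sb E31659 F283750)
theorem F293279 : act 2 n102943 = n182292 := (sb E31659 (iv2 F283808))
theorem F293280 : act 5 n102943 = n88531 := (sb E31659 F283746)
theorem F293282 : act 7 n102943 = n92888 := (sb E31659 F283748)
theorem F293283 : act 5 n55272 = n47734 := (sb E31660 (iv5 D102939))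
theorem F293284 : act 6 n55272 = n47737 := (sb E31660 F158230)
theorem E33945 : n998 = n981 := (((D981).symm.trans (sb E31687 F3210))).symm
theorem E33954 : n21145 = n1896 := (((D1896).symm.trans (sb E31697 D21145))).symm
theorem E33955 : n18199 = n1897 := (((D1897).symm.trans (sb E31697 (iv0 F29371)))).symm
theorem E33956 : n21146 = n1898 := (((D1898).symm.trans (sb E31697 D21146))).symm
theorem E33957 : n10508 = n4548 := (((D4548).symm.trans (sb E31698 D10508))).symm
theorem F293285 : act 5 n1896 = n1983 := (sb E31698 (iv5 D4810))
theorem F293286 : act 0 n1898 = n1983 := (sb E31700 (iv1 F17410))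
theorem F293287 : act 2 n1898 = n1995 := (sb E31700 (iv2 F17407))
theorem F293288 : act 6 n1898 = n1832 := (sb E31700 F3206)
theorem F293289 : act 7 n90696 = n104040 := (sb E31709 (iv7 F159535))
theorem E33972 : n182498 = n22689 := (((D22689).symm.trans (sb E31715 (iv6 F284015)))).symm
theorem E33973 : n40479 = n40373 := (((D40373).symm.trans (sb E31716 (iv5 F61577)))).symm
theorem E33974 : n87225 = n37484 := (((F125890).symm.trans (sb E31719 F160873))).symm
theorem E33975 : n182493 = n170756 := (((D170756).symm.trans (sb E31719 (iv5 F284013)))).symm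
theorem E33976 : n182408 = n182058 := (((D182058).symm.trans (sb E31720 (iv1 F289008)))).symm
theorem E33977 : n182492 = n182059 := (((D182059).symm.trans (sb E31720 D182492))).symm
theorem E33978 : n182494 = n182060 := (((D182060).symm.trans (sb E31720 D182494))).symm
theorem E33992 : n9019 = n1945 := ((((iv3 F6611)).symm.trans (sb E31727 (iv3 F14077)))).symm
theorem F293290 : act 5 n4553 = n3850 := (sb E31727 (iv5 D8585))
theorem E33993 : n21008 = n4825 := (((F17433).symm.trans (sb E31729 (iv4 F33181)))).symm
theorem F293291 : act 5 n8584 = n4812 := (sb E31729 (iv5 D10510))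
theorem E34002 : n4576 = n995 := (((D995).symm.trans (sb E31738 (iv6 D10053)))).symm
theorem F293292 : act 5 n1944 = n1825 := (sb E31739 (iv5 D4319))
theorem F293293 : act 7 n1944 = n4325 := (sb E31739 (iv7 F6216))
theorem F293294 : act 2 n48061 = n99898 := (sb E31745 (iv2 F153818))
theorem E34004 : n184588 = n103806 := (((D103806).symm.trans (sb E31745 (iv3 F286574)))).symm
theorem E34005 : n103807 = n41099 := ((D103807).symm.trans (sb E31745 (iv5 D88023)))
theorem E34007 : n103792 = n91359 := ((D103792).symm.trans (sb E31747 F287956))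
theorem F293295 : act 7 n48053 = n99898 := (sb E31747 F287957)
theorem F293296 : act 5 n48054 = n88432 := (sb E31748 (iv5 D185645))
theorem F293297 : act 0 n48106 = n91398 := (sb E31749 (iv1 F140576))
theorem F293298 : act 1 n48106 = n91371 := (sb E31749 (iv0 F140509))
theorem E34008 : n104195 = n103630 := ((((iv2 F159009)).symm.trans (sb E31749 (iv2 F159728)))).symm
theorem E34009 : n184113 = n103909 := (((D103909).symm.trans (sb E31749 (iv3 F286056)))).symm
theorem E34010 : n103846 = n40918 := (((iv5 F159257)).symm.trans (sb E31749 (iv5 D87819)))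
theorem E34012 : n104202 = n103626 := ((((iv7 F159003)).symm.trans (sb E31749 (iv7 F159746)))).symm
theorem F293299 : act 0 n48089 = n91371 := (sb E31750 (iv1 F140510))
theorem F293300 : act 1 n48089 = n91398 := (sb E31750 (iv0 F140575))
theorem E34014 : n103845 = n91344 := (((iv5 F159253)).symm.trans (sb E31750 (iv5 F140431)))
theorem F293301 : act 4 n4304 = n4202 := (sb E31759 (iv4 F291862))
theorem F293302 : act 4 n4434 = n4309 := (sb E31761 (iv4 D9540))
theorem F293303 : act 6 n19782 = n9817 := (sb E31781 (iv6 F292233))
theorem E34046 : n184378 = n91355 := (((D91355).symm.trans (sb E31789 (iv3 F286306)))).symm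
theorem E34048 : n43739 = n20204 := (((D20204).symm.trans (sb E31790 D43739))).symm
theorem F293304 : act 6 n9538 = n9282 := (sb E31790 (iv6 F292232))
theorem F293305 : act 0 n9782 = n9220 := (sb E31798 (iv1 F62627))
theorem F293306 : act 2 n9782 = n10566 := (sb E31798 F62618)
theorem E34052 : n92415 = n20863 := (((F33032).symm.trans (sb E31799 (iv7 F142131)))).symm
theorem E34053 : n20863 = n20638 := (((D20638).symm.trans (sb E32969 (tr D92415 E34052)))).symm
theorem F293307 : act 0 n8937 = n4437 := (sb E31801 (iv1 D9827))
theorem F293308 : act 2 n9016 = n4437 := (sb E31802 (iv2 D9828))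
theorem E34057 : n20637 = n19189 := (((D19189).symm.trans (sb E31802 (iv4 F32752)))).symm
theorem E34058 : n20636 = n10447 := ((D20636).symm.trans (sb E31803 F65811))
theorem F293309 : act 7 n91286 = n44828 := (sb E31804 (iv7 D96073))
theorem E34059 : n87832 = n48081 := ((F140351).symm.trans (sb E31805 (iv1 F147706)))
theorem E34060 : n87834 = n44921 := ((F140352).symm.trans (sb E31805 F147707))
theorem F293310 : act 2 n91287 = n87864 := (sb E31805 F147704)
theorem F293311 : act 4 n91287 = n48069 := (sb E31805 (iv4 F147708))
theorem F293312 : act 7 n91287 = n44834 := (sb E31805 (iv7 D96089))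
theorem F293313 : act 1 n23235 = n40763 := (sb E31806 F69689)
theorem F293314 : act 2 n23235 = n40424 := (sb E31806 F69683)
theorem F293315 : act 6 n23235 = n40326 := (sb E31806 F69684)
theorem F293316 : act 1 n91289 = n97442 := (sb E31807 (iv0 F150190))
theorem F293317 : act 4 n91289 = n87410 := (sb E31807 F147200)
theorem F293318 : act 2 n91290 = n44834 := (sb E31808 F147214)
theorem F293319 : act 4 n91290 = n48070 := (sb E31808 (iv4 F147218))
theorem F293320 : act 7 n91290 = n87864 := (sb E31808 F147215)
theorem F293321 : act 1 n103876 = n99898 := (sb E31813 F286019)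
theorem F293322 : act 5 n103876 = n87803 := (sb E31813 (iv5 D184075))
theorem F293323 : act 5 n103325 = n99537 := (sb E31816 F284767)
theorem F293324 : act 7 n103325 = n87432 := (sb E31816 (iv7 D183171))
theorem F293325 : act 5 n47138 = n47875 := (sb E31817 (iv5 D103326))
theorem E34065 : n185570 = n97471 := ((((iv2 F150250)).symm.trans (sb E31818 (iv2 F287893)))).symm
theorem E34067 : n41269 = n21732 := ((((iv6 D45521)).symm.trans (sb E31818 (iv6 D88399)))).symm
theorem F293326 : act 2 n10361 = n19837 := (sb E31820 (iv2 F31641))
theorem F293327 : act 0 n9594 = n4693 := (sb E31821 (iv1 F16288))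
theorem F293328 : act 1 n9594 = n4692 := (sb E31821 F16289)
theorem F293329 : act 6 n9594 = n10149 := (sb E31821 F16286)
theorem F293330 : act 7 n9594 = n4663 := (sb E31821 (iv7 D10283))
theorem F293331 : act 0 n42024 = n41061 := (sb E31822 (iv1 F68590))
theorem F293332 : act 1 n42024 = n41060 := (sb E31822 F68592)
theorem F293333 : act 2 n42024 = n41064 := (sb E31822 F68588)
theorem E34072 : n93324 = n89934 := (((D89934).symm.trans (sb E31822 D93324))).symm
theorem E34073 : n91839 = n44615 := ((D91839).symm.trans (sb E31823 (iv1 F70980)))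
theorem E34074 : n91840 = n44614 := ((D91840).symm.trans (sb E31823 F70981))
theorem E34075 : n91841 = n44617 := ((D91841).symm.trans (sb E31823 F70975))
theorem F293334 : act 6 n42931 = n44617 := (sb E31823 F70978)
theorem F293335 : act 7 n42931 = n21522 := (sb E31823 (iv7 D45081))
theorem F293336 : act 5 n89848 = n88439 := (sb E31826 (iv5 D185667))
theorem E34098 : n96536 = n93203 := ((D96536).symm.trans (sb E31840 F143776))
theorem F293337 : act 7 n45080 = n91842 := (sb E31843 (iv7 F141180))
theorem E34101 : n4061 = n1946 := ((((iv1 F3252)).symm.trans (sb E31845 F14125))).symm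
theorem F293338 : act 2 n35787 = n21696 := (sb E31846 F70998)
theorem F293339 : act 4 n35787 = n21525 := (sb E31846 (iv4 D45090))
theorem E34104 : n96561 = n78558 := (((D78558).symm.trans (sb E31846 (iv6 F148722)))).symm
theorem E34105 : n46461 = n42551 := (((iv6 F73361)).symm.trans (sb E31848 (iv6 D90844)))
theorem F293340 : act 0 n20088 = n10693 := (sb E31849 (iv1 F34745))
theorem F293341 : act 1 n20088 = n10692 := (sb E31849 F34746)
theorem F293342 : act 2 n20088 = n10695 := (sb E31849 F34741)
theorem F293343 : act 6 n20088 = n10663 := (sb E31849 F34743)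
theorem F293344 : act 7 n20088 = n10612 := (sb E31849 (iv7 D22266))
theorem F293345 : act 2 n89479 = n92810 := (sb E31850 (iv2 F143162))
theorem F293346 : act 5 n89479 = n42386 := (sb E31850 (iv5 D90548))
theorem F293347 : act 7 n89479 = n91138 := (sb E31850 F140172)
theorem E34114 : n46942 = n42465 := (((D42465).symm.trans (sb E31862 F154660))).symm
theorem E34117 : n42578 = n19286 := (((F66092).symm.trans (sb E31865 D42578))).symm
theorem F293348 : act 3 n9517 = n9460 := (sb E31865 (iv3 D20098))
theorem E34118 : n42579 = n20170 := (((D20170).symm.trans (sb E31865 D42579))).symm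
theorem F293349 : act 6 n9517 = n9504 := (sb E31865 F31906)
theorem E34119 : n46927 = n42583 := (((D42583).symm.trans (sb E31866 D46927))).symm
theorem E34120 : n46928 = n42584 := (((D42584).symm.trans (sb E31866 D46928))).symm
theorem F293350 : act 7 n20099 = n23291 := (sb E31866 F62722)
theorem F293351 : act 7 n22569 = n42246 := (sb E31874 (iv7 D90365))
theorem F293352 : act 0 n22570 = n42582 := (sb E31875 (iv1 F139071))
theorem F293353 : act 1 n22570 = n42581 := (sb E31875 F139072)
theorem F293354 : act 7 n22570 = n42247 := (sb E31875 (iv7 D90370))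
theorem F293355 : act 0 n22525 = n42508 := (sb E31876 F138783)
theorem F293356 : act 1 n22525 = n42539 := (sb E31876 F138784)
theorem F293357 : act 0 n22530 = n42539 := (sb E31877 (iv1 F139721))
theorem F293358 : act 1 n22530 = n42508 := (sb E31877 (iv0 D90785))
theorem F293359 : act 2 n90715 = n104009 := (sb E31878 F159463)
theorem F293360 : act 7 n90715 = n104010 := (sb E31878 (iv7 F159466))
theorem F293361 : act 1 n19339 = n23245 := (sb E31881 (iv0 D48135))
theorem F293362 : act 6 n22523 = n42167 := (sb E31882 (iv6 D90214))
theorem F293363 : act 5 n90705 = n46921 := (sb E31883 (iv5 D100592))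
theorem F293364 : act 5 n22534 = n42462 := (sb E31884 (iv5 D90706))
theorem F293365 : act 0 n90709 = n46920 := (sb E31887 (iv1 F153066))
theorem F293366 : act 1 n90709 = n46919 := (sb E31887 F153067)
theorem F293367 : act 2 n90709 = n46923 := (sb E31887 F153063)
theorem F293368 : act 7 n90709 = n46472 := (sb E31887 (iv7 D99388))
theorem F293369 : act 4 n90710 = n46968 := (sb E31888 F154820)
theorem F293370 : act 3 n23658 = n20152 := (sb E31918 F66913)
theorem F293371 : act 6 n23658 = n20146 := (sb E31918 (iv6 D42697))
theorem F293372 : act 5 n41738 = n20152 := (sb E31919 (iv5 D42710))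
theorem F293373 : act 0 n89209 = n96424 := (sb E31925 F160355)
theorem F293374 : act 5 n89209 = n48389 := (sb E31925 (iv5 D104642))
theorem F293375 : act 7 n89209 = n104804 := (sb E31925 (iv7 F160627))
theorem F293376 : act 1 n89256 = n96424 := (sb E31927 F160447)
theorem F293377 : act 2 n89256 = n104804 := (sb E31927 (iv2 F160626))
theorem F293378 : act 5 n89256 = n96406 := (sb E31927 F160445)
theorem F293379 : act 0 n92564 = n46286 := (sb E31935 (iv1 F152460))
theorem F293380 : act 1 n92564 = n46284 := (sb E31935 (iv0 D98905))
theorem F293381 : act 2 n92559 = n88545 := (sb E31936 (iv2 D185914))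
theorem F293382 : act 5 n92559 = n93952 := (sb E31936 F288423)
theorem F293383 : act 6 n92559 = n102743 := (sb E31936 (iv6 F291711))
theorem F293384 : act 7 n92559 = n90617 := (sb E31936 F288425)
theorem F293385 : act 2 n46288 = n91056 := (sb E31937 F142580)
theorem F293386 : act 5 n46288 = n43305 := (sb E31937 (iv5 D92560))
theorem F293387 : act 7 n46288 = n91053 := (sb E31937 F142581)
theorem F293388 : act 0 n92561 = n47604 := (sb E31938 (iv1 F153717))
theorem F293389 : act 1 n92561 = n46628 := (sb E31938 (iv0 D99836))
theorem F293390 : act 2 n92561 = n47603 := (sb E31938 (iv2 F153716))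
theorem F293391 : act 4 n92561 = n102743 := (sb E31938 (iv4 F291710))
theorem F293392 : act 5 n92561 = n89566 := (sb E31938 (iv5 F286034))
theorem F293393 : act 7 n92561 = n47602 := (sb E31938 F153719)
theorem E34139 : n90071 = n40910 := (((iv2 F138426)).symm.trans (sb E31939 F72354))
theorem E34140 : n91995 = n40631 := ((D91995).symm.trans (sb E31939 F72357))
theorem E34141 : n91996 = n23346 := ((D91996).symm.trans (sb E31939 F72355))
theorem F293394 : act 7 n43000 = n41253 := (sb E31939 F72356)
theorem F293395 : act 2 n46289 = n91053 := (sb E31940 F142583)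
theorem F293396 : act 5 n46289 = n43306 := (sb E31940 (iv5 D92562))
theorem F293397 : act 7 n46289 = n91056 := (sb E31940 F142585)
theorem F293398 : act 6 n42424 = n43306 := (sb E31941 (iv6 D92563))
theorem E34142 : n92565 = n91011 := (((D91011).symm.trans (iv5 (sb E31942 (tr (iv5 D98869) E33187))))).symm
theorem E34143 : n98869 = n91011 := (E31942).trans E34142
theorem E34144 : n93166 = n46284 := (((iv7 F143703)).symm.trans (sb E34143 F152420))
theorem F293400 : act 2 n92566 = n46284 := (sb E31943 F144729)
theorem F293401 : act 3 n92566 = n86942 := (sb E31943 F144730)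
theorem E34145 : n92566 = n91016 := (((D91016).symm.trans (iv5 (sb E31943 (tr (iv5 D93902) E33188))))).symm
theorem E34146 : n93902 = n91016 := (E31943).trans E34145
theorem E34147 : n93168 = n46286 := (((iv7 F143706)).symm.trans (sb E34146 F144731))
theorem F293402 : act 2 n91096 = n44860 := (sb E31944 (iv2 D96129))
theorem F293403 : act 3 n91096 = n103304 := (sb E31944 (iv3 F158540))
theorem F293404 : act 6 n91096 = n95450 := (sb E31944 F147778)
theorem E34148 : n92001 = n88340 := ((((iv3 F135284)).symm.trans (sb E31945 (iv3 F141499)))).symm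
theorem F293405 : act 2 n42999 = n41253 := (sb E31947 F72340)
theorem E34153 : n98105 = n91992 := (((D91992).symm.trans (sb E31947 D98105))).symm
theorem E34154 : n91993 = n40630 := ((D91993).symm.trans (sb E31947 F72342))
theorem E34155 : n91994 = n44551 := ((D91994).symm.trans (sb E31947 F292334))
theorem E34156 : n42686 = n22827 := (((F72228).symm.trans (sb E31948 (iv1 F135727)))).symm
theorem E34159 : n43795 = n40633 := ((((iv1 F133448)).symm.trans (sb E31949 (iv1 D93694)))).symm
theorem E34160 : n43814 = n40358 := ((((iv0 D86944)).symm.trans (sb E31949 F144447))).symm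
theorem F293406 : act 3 n86944 = n91056 := (sb E31949 (iv3 F144451))
theorem F293407 : act 0 n95386 = n104235 := (sb E31950 (iv1 F159830))
theorem F293408 : act 2 n95386 = n104239 := (sb E31950 F289908)
theorem F293409 : act 3 n95386 = n47562 := (sb E31950 (iv3 D102539))
theorem F293410 : act 4 n95386 = n88310 := (sb E31950 F157503)
theorem F293411 : act 6 n95386 = n90219 := (sb E31950 (tr (iv6 F289976) E33867))
theorem F293412 : act 7 n95386 = n102461 := (sb E31950 (iv7 F289902))
theorem F293413 : act 0 n87769 = n44553 := (sb E31951 (iv1 D95387))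
theorem F293414 : act 0 n95389 = n150149 := (sb E31952 F290070)
theorem F293415 : act 1 n95389 = n87361 := (sb E31952 F290071)
theorem F293416 : act 2 n95389 = n150146 := (sb E31952 F289968)
theorem F293417 : act 7 n95389 = n104240 := (sb E31952 F284555)
theorem F293418 : act 0 n89252 = n104804 := (sb E31953 (iv1 F160630))
theorem F293419 : act 2 n89252 = n96424 := (sb E31953 (iv2 F148443))
theorem E34161 : n94807 = n44568 := (((D44568).symm.trans (sb E31955 (iv4 F283336)))).symm
theorem F293422 : act 5 n87802 = n44842 := (sb E31961 (iv5 D96101))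
theorem F293423 : act 2 n48088 = n103346 := (sb E31968 (iv2 F158608))
theorem F293424 : act 0 n100587 = n90345 := (sb E31969 F283821)
theorem F293425 : act 1 n100587 = n90331 := (sb E31969 F283822)
theorem F293426 : act 2 n100587 = n90631 := (sb E31969 F283819)
theorem F293427 : act 2 n100658 = n90632 := (sb E31970 F178524)
theorem F293428 : act 5 n100658 = n52834 := (sb E31970 (iv5 D114467))
theorem F293429 : act 7 n93078 = n89412 := (sb E31977 F158740)
theorem F293430 : act 0 n92897 = n46747 := (sb E31978 (iv1 D100157))
theorem F293431 : act 1 n92897 = n46754 := (sb E31978 F154087)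
theorem F293432 : act 2 n92897 = n100241 := (sb E31978 (iv2 F154225))
theorem F293433 : act 7 n92897 = n89420 := (sb E31978 F154088)
theorem F293434 : act 0 n93080 = n100947 := (sb E31979 F158743)
theorem F293435 : act 2 n93080 = n100242 := (sb E31979 F158741)
theorem F293436 : act 5 n93080 = n97985 := (sb E31979 F158742)
theorem F293437 : act 2 n41224 = n23685 := (sb E31980 F70870)
theorem E34175 : n96445 = n88328 := (((D88328).symm.trans (sb E31980 (iv3 F148509)))).symm
theorem F293438 : act 6 n41224 = n21507 := (sb E31980 (iv6 D45033))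
theorem F293439 : act 0 n22826 = n23685 := (sb E31984 (iv1 D48553))
theorem F293440 : act 1 n19361 = n23685 := (sb E31985 (iv0 D48552))
theorem F293441 : act 5 n48313 = n41888 := (sb E31990 F137420)
theorem F293442 : act 0 n89719 = n44535 := (sb E31993 (iv1 D95351))
theorem F293443 : act 1 n89719 = n44538 := (sb E31993 F146978)
theorem F293444 : act 2 n89719 = n89874 := (sb E31993 (iv2 F146981))
theorem F293445 : act 4 n89719 = n104802 := (sb E31993 (iv4 F160620))
theorem F293446 : act 7 n89719 = n89871 := (sb E31993 F146979)
theorem E34179 : n46341 = n43638 := (((D43638).symm.trans (sb E31996 (iv3 F72992)))).symm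
theorem F293447 : act 5 n20639 = n10566 := (sb E31996 (iv5 D22192))
theorem E34180 : n46344 = n43639 := (((D43639).symm.trans (sb E31996 D46344))).symm
theorem E34182 : n88973 = n22146 := ((((iv1 F293268)).symm.trans (sb E31998 F150640))).symm
theorem E34183 : n20624 = n10557 := ((((iv0 D22153)).symm.trans (sb E31999 F67946))).symm
theorem F293448 : act 5 n22153 = n20446 := (sb E31999 (iv5 D43300))
theorem E34184 : n92548 = n46328 := (((D46328).symm.trans (sb E31999 D92548))).symm
theorem F293449 : act 5 n22154 = n20447 := (sb E32002 (iv5 D43303))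
theorem E34187 : n92556 = n46332 := (((D46332).symm.trans (sb E32002 D92556))).symm
theorem F293450 : act 0 n41540 = n20753 := (sb E32007 F66434)
theorem F293451 : act 1 n41540 = n20449 := (sb E32007 F66435)
theorem E34192 : n90943 = n88971 := ((((iv3 F136558)).symm.trans (sb E32007 (iv3 F139980)))).symm
theorem E34194 : n45654 = n20470 := (((F65270).symm.trans (sb E32008 (iv1 D97796)))).symm
theorem F293452 : act 2 n19387 = n11091 := (sb E32021 F33821)
theorem F293453 : act 6 n19387 = n10271 := (sb E32021 (iv6 D21508))
theorem F293454 : act 5 n8561 = n4548 := (sb E32025 (iv5 D9982))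
theorem E34200 : n44212 = n1990 := (((D1990).symm.trans (sb E32026 D44212))).symm
theorem E34201 : n10000 = n1991 := (((D1991).symm.trans (sb E32026 (iv6 D21019)))).symm
theorem E34216 : n88576 = n45811 := (((F74804).symm.trans (sb E32054 F135669))).symm
theorem E34219 : n91155 = n43997 := (((iv5 F140207)).symm.trans (sb E32057 (iv5 F69212)))
theorem E34220 : n91160 = n41172 := ((D91160).symm.trans (sb E32057 (iv6 F69156)))
theorem E34221 : n186391 = n94445 := (E32058).trans E32077
theorem F293455 : act 2 n94445 = n88785 := (sb E34221 F289173)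
theorem F293456 : act 7 n94445 = n88784 := (sb E34221 (iv7 D186391))
theorem F293457 : act 3 n43943 = n88785 := (sb E32059 (iv3 D186392))
theorem F293458 : act 5 n88618 = n88785 := (sb E32060 (iv5 D186394))
theorem F293459 : act 6 n90813 = n47702 := (sb E32061 (iv6 D102859))
theorem F293460 : act 7 n44103 = n92345 := (sb E32063 (iv7 F142019))
theorem F293461 : act 2 n44074 = n78837 := (sb E32064 F141870)
theorem F293462 : act 3 n86875 = n103309 := (sb E32066 (iv3 F159287))
theorem F293463 : act 4 n86875 = n92702 := (sb E32066 (iv4 F251872))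
theorem E34227 : n181891 = n92700 := ((D181891).symm.trans (sb E32066 (iv6 F251868)))
theorem E34228 : n182591 = n104857 := ((((iv1 F160707)).symm.trans (sb E32067 (iv1 F287965)))).symm
theorem F293464 : act 3 n103213 = n88435 := (sb E32067 (iv3 D185653))
theorem F293465 : act 0 n90562 = n47745 := (sb E32068 F158200)
theorem F293466 : act 3 n90562 = n47721 := (sb E32068 (iv3 D102892))
theorem F293467 : act 4 n90562 = n88435 := (sb E32068 F158199)
theorem F293468 : act 5 n97354 = n88435 := (sb E32069 (iv5 D185654))
theorem F293469 : act 6 n48017 = n88435 := (sb E32070 (iv6 D185655))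
theorem F293470 : act 0 n95787 = n88437 := (sb E32071 (iv1 D185659))
theorem F293471 : act 6 n104698 = n88436 := (sb E32074 (iv6 D185657))
theorem F293472 : act 5 n94445 = n47702 := (sb E32077 (iv5 D102858))
theorem E34234 : n186046 = n88784 := (((F293456).symm.trans (sb E32077 (iv7 F288651)))).symm
theorem F293473 : act 7 n94446 = n88785 := (sb E32078 (iv7 F289172))
theorem F293474 : act 0 n41446 = n44140 := (sb E32079 (iv1 F138807))
theorem F293475 : act 2 n41446 = n44139 := (sb E32079 F138806)
theorem E34235 : n93996 = n88774 := (((D88774).symm.trans (sb E32079 (iv3 F144821)))).symm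
theorem E34236 : n94067 = n88775 := (((D88775).symm.trans (sb E32079 (iv4 F144927)))).symm
theorem F293476 : act 7 n41446 = n42177 := (sb E32079 (iv7 D90242))
theorem F293477 : act 1 n41447 = n44140 := (sb E32080 (iv0 F136557))
theorem F293478 : act 2 n41447 = n42177 := (sb E32080 F67714)
theorem E34237 : n88780 = n41677 := ((D88780).symm.trans (sb E32080 F67716))
theorem E34238 : n88782 = n20390 := ((D88782).symm.trans (sb E32080 (iv6 D43224)))
theorem F293479 : act 7 n41447 = n44139 := (sb E32080 (iv7 F69478))
theorem F293480 : act 0 n41448 = n44139 := (sb E32081 (iv1 F138804))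
theorem F293481 : act 1 n41448 = n42177 := (sb E32081 (iv0 D90240))
theorem F293482 : act 3 n41448 = n44119 := (sb E32081 F138801)
theorem F293483 : act 7 n41448 = n44140 := (sb E32081 F138803)
theorem F293484 : act 0 n19364 = n20146 := (sb E32088 F135689)
theorem F293485 : act 2 n19364 = n20142 := (sb E32088 (iv2 D42679))
theorem E34247 : n40484 = n22347 := ((((iv4 F34883)).symm.trans (sb E32088 F135691))).symm
theorem E34248 : n91143 = n41182 := (((D41182).symm.trans (sb E32088 D91143))).symm
theorem E34250 : n43973 = n43626 := ((F72319).symm.trans (sb E32089 (tr (iv0 D182712) E32972)))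
theorem E34252 : n90837 = n41108 := (((F66992).symm.trans (sb E32091 F286146))).symm
theorem F293486 : act 0 n42756 = n23245 := (sb E32092 (iv1 D48136))
theorem F293487 : act 4 n19349 = n20087 := (sb E32093 (iv4 D42547))
theorem E34254 : n40475 = n22329 := ((D40475).symm.trans (sb E32094 (iv1 F66256)))
theorem E34255 : n40476 = n22783 := ((D40476).symm.trans (sb E32094 (iv0 F66254)))
theorem E34256 : n40477 = n22439 := ((D40477).symm.trans (sb E32094 F65685))
theorem E34257 : n44884 = n40478 := (((D40478).symm.trans (sb E32094 D44884))).symm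
theorem F293488 : act 7 n19129 = n21398 := (sb E32094 F33637)
theorem E34261 : n99664 = n96441 := (((D96441).symm.trans (sb E32096 (iv1 F289284)))).symm
theorem E34262 : n99584 = n96442 := (((D96442).symm.trans (sb E32096 (iv0 F289281)))).symm
theorem E34263 : n96443 = n46120 := ((D96443).symm.trans (sb E32096 (iv2 D98661)))
theorem E34264 : n182061 = n96444 := (((D96444).symm.trans (sb E32096 (iv5 F283467)))).symm
theorem E34266 : n182062 = n96446 := (((D96446).symm.trans (sb E32097 D182062))).symm
theorem E34267 : n182433 = n100841 := ((D182433).symm.trans (sb E32098 (iv2 F154995)))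
theorem E34268 : n184635 = n182434 := (((D182434).symm.trans (sb E32098 (iv3 F286614)))).symm
theorem E34269 : n99872 = n91161 := ((((iv4 F140213)).symm.trans (sb E32098 (iv4 F153785)))).symm
theorem E34270 : n182435 = n170774 := ((D182435).symm.trans (sb E32098 F268365))
theorem E34271 : n182436 = n41105 := ((D182436).symm.trans (sb E32098 (iv6 D88041)))
theorem E34272 : n182437 = n90090 := ((D182437).symm.trans (sb E32098 (tr (iv7 F289952) E33832)))
theorem E34273 : n40525 = n21394 := (((iv3 F61660)).symm.trans (sb E32100 (iv3 F33586)))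
theorem E34274 : n44263 = n40526 := (((D40526).symm.trans (sb E32100 D44263))).symm
theorem E34275 : n44264 = n40527 := (((D40527).symm.trans (sb E32100 D44264))).symm
theorem F293489 : act 7 n19147 = n21081 := (sb E32100 (iv7 F33277))
theorem F293490 : act 0 n40808 = n40473 := (sb E32101 F70849)
theorem F293491 : act 1 n40808 = n40470 := (sb E32101 F70850)
theorem E34276 : n96434 = n87596 := ((((iv3 F134468)).symm.trans (sb E32101 (iv3 F148476)))).symm
theorem E34277 : n87598 = n39872 := ((D87598).symm.trans (sb E32101 F70847))
theorem F293492 : act 7 n40808 = n40500 := (sb E32101 F70848)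
theorem F293494 : act 0 n89255 = n96126 := (sb E32104 (iv1 F147773))
theorem F293495 : act 1 n89255 = n104802 := (sb E32104 F160622)
theorem F293496 : act 2 n89255 = n48389 := (sb E32104 F147006)
theorem F293497 : act 4 n89255 = n44545 := (sb E32104 (iv4 D95373))
theorem F293498 : act 7 n89255 = n96406 := (sb E32104 (iv7 F148408))
theorem F293499 : act 1 n46573 = n40448 := (sb E32105 (iv0 D87052))
theorem E34281 : n182310 = n96442 := (((E34262).symm.trans (((iv2 F153420)).symm.trans (sb E32105 D182310)))).symm
theorem E34282 : n182312 = n99658 := ((((iv4 F153483)).symm.trans (sb E32105 D182312))).symm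
theorem E34285 : n182315 = n96441 := (((E34261).symm.trans ((D99664).symm.trans (sb E32105 D182315)))).symm
theorem E34286 : n182319 = n99650 := ((D182319).symm.trans (sb E32106 (iv6 F251753)))
theorem F293500 : act 2 n46776 = n40448 := (sb E32107 (iv2 D87054))
theorem E34287 : n182320 = n89192 := ((((iv5 F136890)).symm.trans (sb E32107 D182320))).symm
theorem E34289 : n182321 = n88808 := ((D182321).symm.trans (sb E32108 (iv1 D186452)))
theorem E34290 : n182322 = n98641 := ((D182322).symm.trans (sb E32108 F289270))
theorem F293501 : act 6 n43654 = n40448 := (sb E32109 F75079)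
theorem E34294 : n88900 = n87226 := ((((iv3 F133877)).symm.trans (sb E32111 (iv3 F136395)))).symm
theorem E34295 : n88903 = n86125 := ((((iv4 F132067)).symm.trans (sb E32111 D88903))).symm
theorem E34296 : n87228 = n41135 := ((D87228).symm.trans (sb E32111 F64021))
theorem E34299 : n86132 = n40771 := (((iv1 F132087)).symm.trans (sb E32113 (iv1 D87591)))
theorem E34304 : n103076 = n93331 := (((D93331).symm.trans (sb E32115 D103076))).symm
theorem E34305 : n105043 = n96156 := (((D96156).symm.trans (sb E32116 D105043))).symm
theorem E34306 : n48616 = n47381 := ((((iv4 F74579)).symm.trans (sb E32116 (iv4 F76469)))).symm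
theorem F293502 : act 3 n41671 = n23684 := (sb E32119 F76407)
theorem E34316 : n105048 = n89191 := (((D89191).symm.trans (sb E32119 D105048))).symm
theorem F293503 : act 7 n20695 = n23685 := (sb E32121 F75250)
theorem E34320 : n182615 = n99663 := ((D182615).symm.trans (sb E32122 F157650))
theorem E34321 : n182614 = n46113 := (((iv2 F284118)).symm.trans (sb E32122 F145998))
theorem E34322 : n44254 = n40499 := ((((iv5 D87183)).symm.trans (sb E32122 (iv5 D94712)))).symm
theorem E34323 : n94808 = n44513 := (((F76348).symm.trans (sb E32123 (iv1 F146148)))).symm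
theorem F293504 : act 1 n19138 = n19079 := (sb E32124 F62663)
theorem F293505 : act 7 n19138 = n19240 := (sb E32124 F62579)
theorem E34325 : n103643 = n99896 := (((iv5 F159032)).symm.trans (sb E32125 (iv5 F153817)))
theorem E34330 : n104997 = n94809 := (((D94809).symm.trans (sb E32127 D104997))).symm
theorem E34331 : n94810 = n37215 := ((D94810).symm.trans (sb E32127 F76375))
theorem F293506 : act 7 n10027 = n8996 := (sb E32128 F17964)
theorem E34338 : n45047 = n40762 := ((F125365).symm.trans (sb E32130 (iv4 D87575)))
theorem E34342 : n45048 = n40767 := ((F125363).symm.trans (sb E32131 (iv4 D87582)))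
theorem F293507 : act 4 n43950 = n88447 := (sb E32134 F138201)
theorem F293508 : act 3 n90754 = n186198 := (sb E32135 (iv3 F288973))
theorem F293509 : act 4 n90754 = n90014 := (sb E32135 (iv4 F161043))
theorem F293510 : act 4 n86876 = n94033 := (sb E32136 (iv4 F159288))
theorem F293511 : act 7 n48473 = n88447 := (sb E32137 F138357)
theorem E34345 : n47599 = n45044 := ((((iv1 F133786)).symm.trans (sb E32140 F157836))).symm
theorem E34346 : n182596 = n98590 := ((D182596).symm.trans (sb E32140 (iv5 F153889)))
theorem F293512 : act 3 n87176 = n46103 := (sb E32142 F152010)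
theorem F293513 : act 4 n87176 = n47833 := (sb E32142 F152013)
theorem E34348 : n182594 = n46101 := ((D182594).symm.trans (sb E32142 (iv5 D98617)))
theorem E34349 : n182595 = n46437 := ((D182595).symm.trans (sb E32142 (iv6 F152012)))
theorem F293514 : act 0 n96472 = n103657 := (sb E32143 (iv1 F251763))
theorem F293515 : act 1 n96472 = n104855 := (sb E32143 F160703)
theorem F293516 : act 2 n96472 = n47833 := (sb E32143 F158457)
theorem F293517 : act 3 n96472 = n104860 := (sb E32143 (iv3 F160710))
theorem F293518 : act 6 n96472 = n47831 := (sb E32143 (iv6 D103208))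
theorem F293519 : act 0 n96473 = n87543 := (sb E32144 (iv1 F152007))
theorem F293520 : act 1 n96473 = n87555 := (sb E32144 F152006)
theorem E34350 : n182592 = n87552 := (((iv7 F284093)).symm.trans (sb E32144 F152005))
theorem F293521 : act 6 n41003 = n45043 := (sb E32145 (iv6 D96474))
theorem E34351 : n183904 = n182593 := (((D182593).symm.trans (sb E32146 F285747))).symm
theorem F293522 : act 0 n9886 = n11098 := (sb E32147 (iv1 F31619))
theorem F293523 : act 2 n9886 = n11097 := (sb E32147 (iv2 F133953))
theorem F293524 : act 2 n43951 = n48623 := (sb E32148 F138203)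
theorem E34354 : n186045 = n102565 := ((((iv2 F157528)).symm.trans (sb E32150 (iv2 F288647)))).symm
theorem F293525 : act 0 n42681 = n45768 := (sb E32154 F72230)
theorem F293526 : act 3 n42681 = n22869 := (sb E32154 F70445)
theorem E34356 : n91151 = n21881 := ((D91151).symm.trans (sb E32154 F70447))
theorem F293527 : act 1 n47592 = n44559 := (sb E32155 (iv0 F133760))
theorem F293528 : act 0 n10816 = n8978 := (sb E32156 (iv1 D19132))
theorem F293529 : act 0 n19458 = n11097 := (sb E32160 (iv1 F31625))
theorem F293530 : act 5 n19458 = n11098 := (sb E32160 F31621)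
theorem F293531 : act 7 n19458 = n11098 := (sb E32160 F31622)
theorem E34365 : n43017 = n42483 := (((D42483).symm.trans (sb E32161 (iv0 F133939)))).symm
theorem F293532 : act 0 n41568 = n48623 := (sb E32164 (iv1 F161047))
theorem F293533 : act 1 n88765 = n48623 := (sb E32165 F161048)
theorem E34375 : n48618 = n37861 := ((F135646).symm.trans (sb E32172 (iv1 F69102)))
theorem F293534 : act 1 n42994 = n20838 := (sb E32172 (iv0 D43953))
theorem E34376 : n91983 = n22327 := ((D91983).symm.trans (sb E32172 (iv6 F69103)))
theorem E34384 : n43200 = n19154 := (((F66241).symm.trans (sb E32175 F137558))).symm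
theorem F293535 : act 4 n23704 = n46099 := (sb E32177 (iv4 F72664))
theorem E34385 : n48621 = n42526 := ((D48621).symm.trans (sb E32177 F66297))
theorem F293536 : act 7 n23704 = n20838 := (sb E32177 (iv7 F66295))
theorem F293537 : act 5 n9870 = n11097 := (sb E32182 (iv5 F137555))
theorem F293538 : act 6 n20085 = n11097 := (sb E32187 (iv6 D23707))
theorem E34398 : n186368 = n47705 := (((iv1 F289159)).symm.trans (sb E32188 F291616))
theorem E34399 : n186367 = n186050 := ((F289158).symm.trans (sb E32188 F291617))
theorem F293539 : act 3 n88781 = n43225 := (sb E32188 F142140)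
theorem E34400 : n186379 = n52122 := ((D186379).symm.trans (sb E32188 F142141))
theorem F293540 : act 3 n20391 = n41447 := (sb E32189 (iv3 D88779))
theorem F293541 : act 4 n93814 = n48623 := (sb E32190 (iv4 D105149))
theorem F293542 : act 1 n22884 = n45037 := (sb E32197 (iv0 D96454))
theorem E34410 : n88237 = n42685 := (((iv4 F135168)).symm.trans (sb E32202 (iv4 D91164)))
theorem F293543 : act 0 n43963 = n47751 := (sb E32212 (iv1 D102975))
theorem F293544 : act 0 n96401 = n89209 := (sb E32215 F159851)
theorem F293545 : act 1 n96401 = n89256 := (sb E32215 F159852)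
theorem F293546 : act 2 n96401 = n89253 := (sb E32215 F159849)
theorem F293547 : act 4 n96401 = n48243 := (sb E32215 (iv4 D104252))
theorem F293548 : act 7 n96401 = n89252 := (sb E32215 F159850)
theorem F293549 : act 0 n96417 = n102534 := (sb E32216 (iv1 F157492))
theorem F293550 : act 2 n96417 = n47550 := (sb E32216 (iv2 D102516))
theorem F293551 : act 3 n96417 = n102529 := (sb E32216 (iv3 F157472))
theorem F293552 : act 4 n96417 = n104708 := (sb E32216 (iv4 F160391))
theorem F293553 : act 6 n96417 = n88361 := (sb E32216 F157443)
theorem F293554 : act 7 n96417 = n102535 := (sb E32216 (iv7 F157490))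
theorem F293555 : act 0 n47560 = n45021 := (sb E32217 (iv1 D96418))
theorem F293556 : act 0 n96419 = n47550 := (sb E32218 (iv1 D102515))
theorem F293557 : act 1 n96419 = n102535 := (sb E32218 F157497)
theorem F293558 : act 7 n96419 = n102534 := (sb E32218 F157495)
theorem F293559 : act 4 n97442 = n92646 := (sb E32223 F159668)
theorem E34427 : n184694 = n103316 := (((D103316).symm.trans (sb E32224 (iv4 F286695)))).symm
theorem F293560 : act 0 n48122 = n48210 := (sb E32232 F146093)
theorem F293561 : act 1 n48122 = n47883 := (sb E32232 F146091)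
theorem F293562 : act 2 n48122 = n87802 := (sb E32232 F146089)
theorem E34429 : n103835 = n91277 := (((iv4 F159247)).symm.trans (sb E32232 F146092))
theorem F293563 : act 7 n48122 = n87032 := (sb E32232 F146090)
theorem F293564 : act 0 n48116 = n47883 := (sb E32233 F146081)
theorem F293565 : act 1 n48116 = n48210 := (sb E32233 F146082)
theorem F293566 : act 2 n48116 = n87032 := (sb E32233 F146079)
theorem E34430 : n103838 = n91276 := (((iv4 F159248)).symm.trans (sb E32233 F146083))
theorem F293567 : act 7 n48116 = n87802 := (sb E32233 F146080)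
theorem E34431 : n95399 = n87587 := ((D95399).symm.trans (sb E32234 (iv5 F159632)))
theorem F293568 : act 2 n40770 = n45038 := (sb E32235 (iv2 F70882))
theorem E34432 : n95281 = n87588 := (((D87588).symm.trans (sb E32235 (iv4 F146928)))).symm
theorem F293569 : act 5 n40770 = n21197 := (sb E32235 (iv5 D44557))
theorem E34433 : n95401 = n87589 := (((D87589).symm.trans (sb E32235 D95401))).symm
theorem F293570 : act 7 n40770 = n45041 := (sb E32235 (iv7 F70892))
theorem E34444 : n181882 = n97430 := ((D181882).symm.trans (sb E32243 (iv5 F150171)))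
theorem F293571 : act 6 n86871 = n45005 := (sb E32243 (iv6 D96389))
theorem F293572 : act 2 n45497 = n86896 := (sb E32244 F133321)
theorem F293573 : act 4 n45497 = n96653 := (sb E32244 (iv4 F148943))
theorem F293574 : act 5 n45497 = n40302 := (sb E32244 (iv5 D86872))
theorem E34445 : n181883 = n97432 := (((D97432).symm.trans (sb E32244 D181883))).symm
theorem F293575 : act 7 n45497 = n44959 := (sb E32244 F133278)
theorem E34454 : n185432 = n87047 := (((D87047).symm.trans (sb E32253 F289926))).symm
theorem E34455 : n183974 = n87048 := (((D87048).symm.trans (sb E32253 F289930))).symm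
theorem E34456 : n183469 = n87050 := (((D87050).symm.trans (sb E32253 (iv5 F285224)))).symm
theorem F293576 : act 2 n96455 = n47592 := (sb E32255 F157687)
theorem F293577 : act 3 n96455 = n102549 := (sb E32255 F157688)
theorem F293578 : act 5 n96455 = n183465 := (sb E32255 F285218)
theorem F293579 : act 6 n96455 = n99837 := (sb E32255 F157689)
theorem F293580 : act 1 n96456 = n47592 := (sb E32256 F157556)
theorem F293581 : act 6 n96456 = n46429 := (sb E32256 (iv6 D99297))
theorem F293582 : act 3 n89040 = n45038 := (sb E32257 F148540)
theorem F293583 : act 5 n89040 = n45037 := (sb E32257 (iv5 D96457))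
theorem F293584 : act 6 n41012 = n45037 := (sb E32258 (iv6 D96458))
theorem F293585 : act 0 n40334 = n45041 := (sb E32259 (iv1 F70894))
theorem F293586 : act 1 n40334 = n45038 := (sb E32259 (iv0 F70884))
theorem E34459 : n87069 = n86919 := ((((iv3 F133373)).symm.trans (sb E32259 (iv3 F133666)))).symm
theorem E34460 : n86931 = n75186 := ((D86931).symm.trans (sb E32259 (iv4 F112734)))
theorem E34461 : n87071 = n86922 := ((((iv6 F133378)).symm.trans (sb E32259 D87071))).symm
theorem E34462 : n87555 = n87087 := ((((iv3 F133696)).symm.trans (sb E32260 (iv3 F134447)))).symm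
theorem E34463 : n87594 = n75185 := ((((iv4 F112730)).symm.trans (sb E32260 (iv4 F134467)))).symm
theorem F293587 : act 5 n96459 = n87909 := (sb E32262 F283359)
theorem E34466 : n88908 = n19221 := ((((iv3 F30875)).symm.trans (sb E32265 D88908))).symm
theorem E34471 : n86934 = n9168 := (((F17567).symm.trans (sb E32268 D86934))).symm
theorem E34473 : n19197 = n4697 := (((F16879).symm.trans (sb E32268 F61417))).symm
theorem F293588 : act 6 n96464 = n185421 := (sb E32273 F287660)
theorem F293589 : act 6 n88331 = n45040 := (sb E32275 (iv6 D96466))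
theorem F293590 : act 5 n96467 = n185424 := (sb E32277 (iv5 F287669))
theorem F293591 : act 2 n19229 = n40306 := (sb E32285 (iv2 F61620))
theorem F293592 : act 4 n19229 = n19857 := (sb E32285 F61619)
theorem E34488 : n87185 = n40765 := (((D40765).symm.trans (sb E32288 D87185))).symm
theorem F293593 : act 7 n19230 = n40306 := (sb E32288 (iv7 F61616))
theorem E34502 : n42606 = n41534 := (((D41534).symm.trans (sb E32303 (iv5 D90969)))).symm
theorem E34521 : n21026 = n3848 := (((D3848).symm.trans (sb E32316 (iv6 D44230)))).symm
theorem E34525 : n21027 = n3855 := (((D3855).symm.trans (sb E32318 D21027))).symm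
theorem E34530 : n94546 = n3958 := (((F6869).symm.trans (sb E32322 (iv2 F145769)))).symm
theorem E34533 : n21009 = n10470 := (((D10470).symm.trans (sb E32322 (iv6 D44189)))).symm
theorem E34536 : n94557 = n10480 := (((D10480).symm.trans (sb E32323 (iv6 F145777)))).symm
theorem E34537 : n21010 = n10481 := (((D10481).symm.trans (sb E32324 D21010))).symm
theorem E34538 : n87838 = n48084 := (((iv6 F134807)).symm.trans (sb E32332 (iv6 D103864)))
theorem E34539 : n181898 = n95563 := ((D181898).symm.trans (sb E32333 F176040))
theorem F293594 : act 6 n23207 = n40304 := (sb E32334 F62111)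
theorem F293595 : act 0 n40699 = n41275 := (sb E32335 (iv1 F133288))
theorem F293596 : act 1 n40699 = n40305 := (sb E32335 (iv0 D86879))
theorem E34545 : n96110 = n93210 := ((((iv3 F143786)).symm.trans (sb E32336 F148768))).symm
theorem F293597 : act 4 n86880 = n97371 := (sb E32336 (iv4 F150112))
theorem F293598 : act 5 n4060 = n1936 := (sb E32342 (iv5 D4664))
theorem E34556 : n102926 = n43417 := ((D102926).symm.trans (sb E32351 (iv6 D92805)))
theorem F293599 : act 6 n76491 = n89670 := (sb E32352 F285779)
theorem F293600 : act 0 n92316 = n93793 := (sb E32358 (iv1 F145100))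
theorem F293601 : act 1 n92316 = n93792 := (sb E32358 F145101)
theorem F293602 : act 2 n92316 = n93795 := (sb E32358 F145096)
theorem F293603 : act 5 n92318 = n93816 := (sb E32359 F145154)
theorem F293604 : act 5 n94351 = n75290 := (sb E32360 F249010)
theorem F293605 : act 7 n94351 = n75289 := (sb E32360 (iv7 D158064))
theorem F293606 : act 5 n34472 = n44099 := (sb E32361 (iv5 D94352))
theorem F293607 : act 2 n94353 = n84285 := (sb E32362 F249017)
theorem E34570 : n22092 = n10547 := (((D10547).symm.trans (sb E32366 D22092))).symm
theorem E34576 : n10011 = n1649 := (((F3114).symm.trans (sb E32367 F33169))).symm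
theorem E34577 : n44174 = n20336 := (((D20336).symm.trans (sb E32368 D44174))).symm
theorem F293608 : act 4 n3772 = n1898 := (sb E32369 (iv4 D4558))
theorem F293609 : act 5 n34459 = n44096 := (sb E32377 (iv5 D94340))
theorem E34580 : n104278 = n87178 := (((D87178).symm.trans (sb E32381 D104278))).symm
theorem F293610 : act 6 n40497 = n23410 := (sb E32381 (iv6 D48258))
theorem E34581 : n104283 = n87179 := (((D87179).symm.trans (sb E32382 (iv6 F159903)))).symm
theorem F293611 : act 0 n47584 = n44559 := (sb E32383 (iv1 D95403))
theorem F293612 : act 1 n47584 = n96456 := (sb E32383 F148539)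
theorem E34582 : n182534 = n99846 := ((((iv3 F153738)).symm.trans (sb E32383 (iv3 F284039)))).symm
theorem F293613 : act 7 n47584 = n96455 := (sb E32383 F148537)
theorem F293614 : act 0 n47589 = n96455 := (sb E32384 (iv1 F148535))
theorem F293615 : act 2 n47589 = n44559 := (sb E32384 (iv2 D95404))
theorem F293616 : act 3 n47589 = n96464 := (sb E32384 (iv3 F148554))
theorem F293617 : act 4 n47589 = n89660 := (sb E32384 F147030)
theorem F293618 : act 7 n47589 = n96456 := (sb E32384 (iv7 F148533))
theorem F293619 : act 5 n87584 = n44559 := (sb E32385 (iv5 D95405))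
theorem F293620 : act 6 n88325 = n44559 := (sb E32386 (iv6 D95406))
theorem F293621 : act 0 n40504 = n40770 := (sb E32387 (iv1 F69622))
theorem F293622 : act 1 n40504 = n40769 := (sb E32387 F69623)
theorem E34583 : n94707 = n87191 := ((((iv3 F133806)).symm.trans (sb E32387 (iv3 F145982)))).symm
theorem E34584 : n94709 = n87193 := (((D87193).symm.trans (sb E32387 D94709))).symm
theorem F293623 : act 7 n40504 = n40334 := (sb E32387 F69621)
theorem E34585 : n87205 = n40753 := ((((iv3 F61866)).symm.trans (sb E32388 (iv3 F133839)))).symm
theorem E34586 : n87207 = n40757 := ((((iv6 F61868)).symm.trans (sb E32388 D87207))).symm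
theorem F293624 : act 7 n19231 = n40464 := (sb E32388 F61638)
theorem E34587 : n94799 = n75166 := (((iv1 F146129)).symm.trans (sb E32389 F146912))
theorem E34588 : n86953 = n75174 := ((F143984).symm.trans (sb E32389 F146913))
theorem F293625 : act 2 n87585 = n81504 := (sb E32389 F146909)
theorem E34589 : n183497 = n44508 := ((D183497).symm.trans (sb E32389 (iv5 D95277)))
theorem F293626 : act 7 n87585 = n81507 := (sb E32389 F146910)
theorem F293627 : act 2 n87586 = n96467 := (sb E32390 (iv2 F148564))
theorem F293628 : act 5 n9029 = n10241 := (sb E32394 (iv5 D21462))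
theorem E34602 : n183507 = n44510 := (((D44510).symm.trans (sb E32398 (iv4 F285246)))).symm
theorem F293629 : act 2 n89658 = n47722 := (sb E32400 F158201)
theorem F293630 : act 7 n89658 = n47721 := (sb E32400 (iv7 D102896))
theorem F293631 : act 2 n89659 = n47721 := (sb E32401 (iv2 D102891))
theorem F293632 : act 7 n89659 = n47722 := (sb E32401 (iv7 F158198))
theorem F293633 : act 4 n99656 = n89659 := (sb E32402 F283851)
theorem F293635 : act 7 n94339 = n84283 := (sb E32403 F248929)
theorem F293636 : act 2 n94341 = n75293 := (sb E32404 F248930)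
theorem F293637 : act 5 n94341 = n173267 := (sb E32404 (iv5 F271632))
theorem E34611 : n41264 = n21712 := (((D21712).symm.trans (sb E32412 D41264))).symm
theorem F293638 : act 7 n10356 = n19837 := (sb E32412 (iv7 F31642))
theorem E34615 : n94198 = n34468 := (((D34468).symm.trans (sb E32414 D94198))).symm
theorem E34616 : n94144 = n92328 := (((D92328).symm.trans (sb E32415 D94144))).symm
theorem E34617 : n92329 = n34942 := ((D92329).symm.trans (sb E32415 F157272))
theorem E34618 : n94146 = n92330 := (((D92330).symm.trans (sb E32415 D94146))).symm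
theorem F293639 : act 6 n43175 = n90696 := (sb E32415 F139609)
theorem F293640 : act 7 n43175 = n20943 := (sb E32415 F69266)
theorem E34622 : n44837 = n43018 := ((D44837).symm.trans (sb E32436 F67378))
theorem E34623 : n90063 = n44838 := (((D44838).symm.trans (sb E32436 D90063))).symm
theorem F293641 : act 6 n48048 = n88429 := (sb E32439 (iv6 D185635))
theorem E34626 : n186060 = n185867 := ((((iv1 F288316)).symm.trans (sb E32441 F288675))).symm
theorem F293642 : act 7 n88546 = n47745 := (sb E32441 F137596)
theorem F293643 : act 0 n102957 = n76449 := (sb E32442 (iv1 F235283))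
theorem F293644 : act 4 n102957 = n96095 := (sb E32442 (iv4 F210049))
theorem F293645 : act 5 n102957 = n61524 := (sb E32442 (iv5 D131146))
theorem F293646 : act 7 n102957 = n149660 := (sb E32442 F235282)
theorem F293647 : act 2 n88627 = n88435 := (sb E32443 F287963)
theorem E34627 : n186063 = n88434 := ((D186063).symm.trans (sb E32443 (iv7 D185652)))
theorem F293648 : act 7 n88628 = n88435 := (sb E32444 (iv7 F287960))
theorem E34628 : n107476 = n97380 := (((iv4 F165809)).symm.trans (sb E32446 (iv4 F292593)))
theorem F293649 : act 4 n94393 = n88437 := (sb E32447 F158064)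
theorem E34629 : n186040 = n92581 := (((iv2 F288643)).symm.trans (sb E32450 (iv2 F155691)))
theorem E34630 : n186043 = n94141 := ((D186043).symm.trans (sb E32450 F145094))
theorem E34631 : n186044 = n42202 := ((D186044).symm.trans (sb E32450 (iv6 D90284)))
theorem E34632 : n186035 = n185858 := ((F288641).symm.trans (sb E32450 F290247))
theorem E34633 : n185858 = n45755 := ((D185858).symm.trans (sb E32451 (iv1 F135816)))
theorem E34634 : n185859 = n45754 := ((D185859).symm.trans (sb E32451 F135814))
theorem F293650 : act 2 n88521 = n41359 := (sb E32451 (iv2 D88616))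
theorem E34635 : n176931 = n93909 := ((((iv5 F144733)).symm.trans (sb E32451 (iv5 F276282)))).symm
theorem F293651 : act 7 n88521 = n45756 := (sb E32451 F135813)
theorem F293652 : act 5 n84336 = n92759 := (sb E32453 F145430)
theorem E34654 : n20916 = n6247 := ((((iv6 F17469)).symm.trans (sb E32465 F69320))).symm
theorem F293653 : act 0 n1009 = n1898 := (sb E32467 F16872)
theorem F293654 : act 5 n1009 = n1897 := (sb E32467 (iv5 D4554))
theorem E34666 : n186109 = n94142 := (((D94142).symm.trans (sb E32472 D186109))).symm
theorem F293655 : act 7 n44016 = n92316 := (sb E32472 (iv7 F141957))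
theorem F293656 : act 4 n43882 = n78837 := (sb E32473 F136002)
theorem E34670 : n186118 = n93872 := (((D93872).symm.trans (sb E32473 D186118))).symm
theorem F293657 : act 0 n133396 = n78837 := (sb E32474 (iv1 D164103))
theorem F293658 : act 3 n20805 = n20367 := (sb E32475 F67632)
theorem E34672 : n92340 = n43926 := (((D43926).symm.trans (sb E32475 D92340))).symm
theorem F293659 : act 5 n43183 = n43926 := (sb E32476 F69447)
theorem E34675 : n94278 = n92350 := (((D92350).symm.trans (sb E32476 (iv7 F145409)))).symm
theorem F293660 : act 1 n40653 = n20142 := (sb E32478 (iv0 D42678))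
theorem F293661 : act 2 n40653 = n20146 := (sb E32478 (iv2 F66899))
theorem E34677 : n91140 = n87438 := (((D87438).symm.trans (sb E32478 D91140))).symm
theorem E34678 : n91152 = n43991 := ((D91152).symm.trans (sb E32479 (iv1 F69191)))
theorem E34679 : n94072 = n91153 := (((D91153).symm.trans (sb E32479 D94072))).symm
theorem E34680 : n94073 = n91154 := (((D91154).symm.trans (sb E32479 D94073))).symm
theorem F293662 : act 6 n19256 = n20142 := (sb E32480 (iv6 D42683))
theorem F293663 : act 1 n90211 = n88361 := (sb E32481 F154575)
theorem F293664 : act 3 n90211 = n185438 := (sb E32481 (iv3 F287700))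
theorem F293665 : act 5 n90211 = n98990 := (sb E32481 F287739)
theorem F293666 : act 6 n90211 = n183905 := (sb E32481 (iv6 F285751))
theorem F293667 : act 7 n90211 = n88356 := (sb E32481 F154576)
theorem F293668 : act 1 n41250 = n42167 := (sb E32482 (iv0 D90210))
theorem E34685 : n185920 = n88346 := ((((iv4 F135290)).symm.trans (sb E32482 (iv4 F288430)))).symm
theorem F293669 : act 7 n41250 = n43021 := (sb E32482 (iv7 F138777))
theorem F293670 : act 0 n90212 = n88356 := (sb E32483 (iv1 F154570))
theorem F293671 : act 6 n90212 = n46895 := (sb E32483 (iv6 D100518))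
theorem F293672 : act 7 n90212 = n88361 := (sb E32483 (iv7 F154568))
theorem F293673 : act 0 n20123 = n41543 := (sb E32484 (iv1 F64098))
theorem F293674 : act 1 n20123 = n41542 := (sb E32484 F64103)
theorem E34687 : n46338 = n42637 := (((D42637).symm.trans (sb E32484 D46338))).symm
theorem E34688 : n42604 = n41526 := ((((iv3 F64063)).symm.trans (sb E32485 (iv3 F66437)))).symm
theorem E34689 : n41544 = n20148 := ((D41544).symm.trans (sb E32485 F31982))
theorem E34691 : n82690 = n20616 := (((E33560).symm.trans ((F64104).symm.trans (sb E32486 F136567)))).symm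
theorem E34692 : n46326 = n41543 := ((((iv2 F72982)).symm.trans (sb E32486 F136565))).symm
theorem E34693 : n46330 = n41542 := ((D46330).symm.trans (sb E32486 (iv4 D88976)))
theorem E34694 : n99043 = n88977 := (((iv4 F152571)).symm.trans (iv4 (sb E32487 (tr (iv4 F142571) E34187))))
theorem F293675 : act 0 n91855 = n45465 := (sb E32496 (iv1 F145506))
theorem F293676 : act 1 n91855 = n45406 := (sb E32496 (iv0 F157603))
theorem E34703 : n91705 = n45454 := ((F141206).symm.trans (sb E32496 F145501))
theorem F293677 : act 4 n91855 = n44119 := (sb E32496 F145502)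
theorem F293678 : act 7 n91855 = n45466 := (sb E32496 F145503)
theorem F293679 : act 3 n97423 = n94403 := (sb E32497 (iv3 F291632))
theorem F293680 : act 4 n97423 = n84333 := (sb E32497 (iv4 D176923))
theorem F293681 : act 5 n97423 = n86875 := (sb E32497 (iv5 F276276))
theorem F293682 : act 7 n97423 = n186319 := (sb E32497 (iv7 F289093))
theorem E34706 : n94001 = n90002 := ((D94001).symm.trans (sb E32498 F158061))
theorem F293683 : act 5 n93933 = n186211 := (sb E32499 (iv5 F288992))
theorem E34709 : n90001 = n44637 := (((F71411).symm.trans (sb E32502 (iv3 F158067)))).symm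
theorem E34710 : n186226 = n96957 := (((D96957).symm.trans (sb E32502 (iv5 F288998)))).symm
theorem F293684 : act 0 n91853 = n45466 := (sb E32504 (iv1 F145495))
theorem F293685 : act 2 n91853 = n45465 := (sb E32504 F151956)
theorem F293686 : act 3 n91853 = n183478 := (sb E32504 (iv3 F285230))
theorem F293687 : act 4 n91853 = n76503 := (sb E32504 F157600)
theorem F293688 : act 6 n91853 = n93985 := (sb E32504 F157601)
theorem F293689 : act 7 n91853 = n45406 := (sb E32504 (iv7 F157605))
theorem F293690 : act 0 n44732 = n42937 := (sb E32505 (iv1 D91854))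
theorem F293691 : act 5 n78826 = n44103 := (sb E32508 (iv5 D94366))
theorem F293692 : act 0 n19208 = n19482 := (sb E32510 F33742)
theorem F293693 : act 3 n19208 = n19509 := (sb E32510 F33739)
theorem F293694 : act 5 n19208 = n10244 := (sb E32510 (iv5 D21468))
theorem F293695 : act 7 n19208 = n36411 := (sb E32510 (iv7 F57156))
theorem E34711 : n90942 = n88970 := ((((iv3 F136553)).symm.trans (sb E32511 F143612))).symm
theorem E34714 : n94066 = n93257 := ((F144926).symm.trans (sb E32513 (iv1 F158092)))
theorem E34715 : n94065 = n93256 := ((F144924).symm.trans (sb E32513 F158094))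
theorem F293696 : act 2 n90241 = n88781 := (sb E32514 F158095)
theorem F293697 : act 7 n90241 = n88776 := (sb E32514 F158096)
theorem F293698 : act 4 n43624 = n44139 := (sb E32517 F69477)
theorem E34718 : n94068 = n93258 := (((D93258).symm.trans (sb E32517 D94068))).symm
theorem F293699 : act 2 n94442 = n88776 := (sb E32518 F158098)
theorem F293700 : act 7 n94442 = n88781 := (sb E32518 F158099)
theorem E34719 : n98283 = n92664 := (((iv3 F151694)).symm.trans (sb E32520 F143610))
theorem E34723 : n93250 = n10750 := (((D10750).symm.trans (sb E32534 (iv6 F143827)))).symm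
theorem E34726 : n93756 = n87764 := ((D93756).symm.trans (sb E32545 F153004))
theorem E34727 : n98453 = n93757 := (((D93757).symm.trans (sb E32545 F153005))).symm
theorem E34728 : n171154 = n93758 := (((D93758).symm.trans (sb E32545 F268895))).symm
theorem E34729 : n93759 = n46458 := ((D93759).symm.trans (sb E32545 (iv6 D99351)))
theorem E34730 : n98448 = n93762 := (((D93762).symm.trans (sb E32546 (iv4 F289921)))).symm
theorem E34731 : n171153 = n93763 := (((D93763).symm.trans (sb E32546 (iv5 F289922)))).symm
theorem E34732 : n93764 = n47535 := ((D93764).symm.trans (sb E32546 (iv6 D102469)))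
theorem E34733 : n93766 = n88926 := ((D93766).symm.trans (sb E32547 F280032))
theorem E34734 : n93767 = n88930 := ((D93767).symm.trans (sb E32547 (iv0 F280031)))
theorem E34735 : n93769 = n85876 := ((D93769).symm.trans (sb E32547 (iv6 D179809)))
theorem E34736 : n98968 = n93770 := (((D93770).symm.trans (sb E32548 F289957))).symm
theorem E34739 : n93125 = n46307 := (((D46307).symm.trans (sb E32552 D93125))).symm
theorem F293701 : act 7 n4831 = n9494 := (sb E32553 (iv7 F16959))
theorem F293702 : act 1 n19557 = n9494 := (sb E32554 F31926)
theorem F293703 : act 5 n4434 = n4435 := (sb E32555 (iv5 D9823))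
theorem F293704 : act 0 n996 = n968 := (sb E32556 F3086)
theorem F293705 : act 1 n996 = n1861 := (sb E32556 F3156)
theorem F293706 : act 7 n996 = n1828 := (sb E32556 (iv7 F3106))
theorem F293707 : act 0 n43554 = n47875 := (sb E32557 (iv1 F292261))
theorem E34740 : n93083 = n41697 := ((D93083).symm.trans (sb E32557 (iv2 F69139)))
theorem E34741 : n94086 = n93084 := (((D93084).symm.trans (sb E32557 D94086))).symm
theorem E34742 : n93085 = n42474 := ((D93085).symm.trans (sb E32557 F291988))
theorem E34743 : n93086 = n43662 := ((D93086).symm.trans (sb E32557 F69137))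
theorem E34744 : n93087 = n41683 := ((D93087).symm.trans (sb E32557 F69138))
theorem E34745 : n93088 = n87435 := ((D93088).symm.trans (sb E32557 (iv7 F134195)))
theorem F293708 : act 1 n43555 = n47875 := (sb E32558 (iv0 F292260))
theorem E34746 : n94087 = n93089 := (((D93089).symm.trans (sb E32558 D94087))).symm
theorem E34747 : n93090 = n41789 := ((D93090).symm.trans (sb E32558 (iv4 F69145)))
theorem E34748 : n93091 = n43663 := ((D93091).symm.trans (sb E32558 (iv5 F69147)))
theorem E34749 : n93092 = n41788 := ((D93092).symm.trans (sb E32558 (iv6 F69146)))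
theorem F293709 : act 2 n40651 = n20605 := (sb E32559 (iv2 D43556))
theorem E34750 : n93095 = n41124 := (((F66321).symm.trans (sb E32559 D93095))).symm
theorem E34751 : n93096 = n22681 := ((D93096).symm.trans (sb E32560 F69152))
theorem E34752 : n93097 = n41126 := ((D93097).symm.trans (sb E32560 F69151))
theorem E34753 : n94088 = n93098 := (((D93098).symm.trans (sb E32560 D94088))).symm
theorem E34754 : n94084 = n93099 := (((D93099).symm.trans (sb E32560 (iv6 F144962)))).symm
theorem F293710 : act 7 n43557 = n41123 := (sb E32560 F69150)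
theorem F293711 : act 1 n9779 = n10566 := (sb E32562 F35327)
theorem F293712 : act 2 n9779 = n9220 := (sb E32562 F29362)
theorem E34758 : n37998 = n20632 := (((D20632).symm.trans (sb E32562 (iv3 F58833)))).symm
theorem F293713 : act 4 n9779 = n8582 := (sb E32562 F29363)
theorem E34759 : n37999 = n20633 := (((D20633).symm.trans (sb E32562 D37999))).symm
theorem F293714 : act 6 n9779 = n8581 := (sb E32562 (iv6 D18193))
theorem F293715 : act 7 n43898 = n47748 := (sb E32565 F137604)
theorem F293716 : act 0 n90624 = n92559 := (sb E32569 F284061)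
theorem F293717 : act 3 n90624 = n47730 := (sb E32569 (iv3 D102923))
theorem F293718 : act 1 n90625 = n92559 := (sb E32570 F158238)
theorem F293719 : act 4 n90625 = n90391 := (sb E32570 (iv4 F158239))
theorem F293720 : act 4 n21915 = n43000 := (sb E32573 F133936)
theorem F293721 : act 3 n9882 = n9652 := (sb E32591 (iv3 D20366))
theorem F293722 : act 6 n9882 = n9652 := (sb E32591 (iv6 F292724))
theorem E34776 : n186366 = n87215 := ((D186366).symm.trans (sb E32593 (iv6 D182699)))
theorem E34779 : n186361 = n90992 := ((((iv3 F140021)).symm.trans (sb E32594 (iv3 F289143)))).symm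
theorem F293723 : act 6 n88761 = n41446 := (sb E32594 (iv6 D88777))
theorem E34782 : n43040 = n20882 := (((iv1 F67388)).symm.trans (sb E32598 (iv1 F33027)))
theorem E34783 : n43625 = n21885 := ((D43625).symm.trans (sb E32598 F65817))
theorem F293724 : act 6 n40516 = n43624 := (sb E32600 (iv6 D93259))
theorem F293725 : act 2 n90633 = n100584 := (sb E32603 F159536)
theorem F293726 : act 5 n90633 = n99385 := (sb E32603 F159538)
theorem F293727 : act 7 n90633 = n100587 := (sb E32603 F159537)
theorem F293728 : act 2 n90634 = n100669 := (sb E32604 F159539)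
theorem E34785 : n172723 = n42707 := (((D42707).symm.trans (sb E32605 D172723))).symm
theorem E34788 : n183178 = n42256 := (((D42256).symm.trans (sb E32607 F284781))).symm
theorem E34789 : n87823 = n42257 := (((D42257).symm.trans (sb E32607 F152621))).symm
theorem E34790 : n172724 = n42258 := (((D42258).symm.trans (sb E32607 (iv5 F270981)))).symm
theorem F293729 : act 1 n40891 = n45359 := (sb E32614 (iv0 D97031))
theorem F293730 : act 0 n88295 = n45359 := (sb E32615 (iv1 D97032))
theorem F293731 : act 0 n97033 = n47077 := (sb E32616 F289746)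
theorem F293732 : act 1 n97033 = n47519 := (sb E32616 F153886)
theorem F293733 : act 4 n97033 = n47069 := (sb E32616 F290185)
theorem F293734 : act 7 n97033 = n48235 := (sb E32616 F153884)
theorem F293736 : act 4 n90371 = n47417 := (sb E32618 F290033)
theorem F293737 : act 7 n90371 = n47092 := (sb E32618 (iv7 D101093))
theorem F293738 : act 6 n90373 = n47069 := (sb E32620 (iv6 D101031))
theorem E34797 : n43054 = n20886 := (((iv3 F67397)).symm.trans (sb E32622 F34280))
theorem E34798 : n45655 = n43643 := (((D43643).symm.trans (sb E32622 D45655))).symm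
theorem F293739 : act 5 n90376 = n47488 := (sb E32624 F150751)
theorem E34803 : n88560 = n41239 := ((((iv4 F62465)).symm.trans (sb E32628 F135631))).symm
theorem E34813 : n43631 = n21905 := ((F68856).symm.trans (sb E32631 F69163))
theorem E34814 : n94091 = n91189 := ((((iv4 F140237)).symm.trans (sb E32631 D94091))).symm
theorem E34815 : n94092 = n91193 := (((D91193).symm.trans (sb E32631 D94092))).symm
theorem F293740 : act 1 n9018 = n4437 := (sb E32632 (iv0 D9826))
theorem E34817 : n20738 = n8994 := ((((iv6 F293141)).symm.trans (sb E32632 D20738))).symm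
theorem F293741 : act 4 n4631 = n2051 := (sb E32653 (iv4 D4991))
theorem F293742 : act 5 n952 = n996 := (sb E32655 (iv5 D1950))
theorem F293743 : act 5 n4955 = n4429 := (sb E32714 (iv5 F292746))
theorem F293744 : act 1 n10640 = n8978 := (sb E32758 (iv0 D19131))
theorem F293745 : act 2 n10668 = n8978 := (sb E32759 (iv2 D19133))
theorem F293746 : act 5 n4633 = n8978 := (sb E32760 F17966)
theorem F293747 : act 6 n4957 = n8978 := (sb E32761 F17693)
theorem F293748 : act 4 n1924 = n1828 := (sb E32763 (iv4 D4326))
theorem E34938 : n1905 = n637 := ((((iv6 F1178)).symm.trans (sb E32766 F6621))).symm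
theorem F293749 : act 0 n982 = n642 := (sb E32767 F3093)
theorem F293750 : act 1 n982 = n642 := (sb E32767 F3094)
theorem F293751 : act 6 n982 = n958 := (sb E32767 F1857)
theorem F293752 : act 7 n4018 = n4565 := (sb E32776 F15361)
theorem F293753 : act 1 n43846 = n47748 := (sb E32790 F137611)
theorem F293754 : act 0 n43848 = n47748 := (sb E32791 (iv1 F137607))
theorem F293755 : act 2 n102978 = n93879 := (sb E32792 F238145)
theorem F293756 : act 3 n102978 = n71392 := (sb E32792 F238146)
theorem F293757 : act 5 n102978 = n71386 := (sb E32792 (iv5 D151424))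
theorem F293758 : act 6 n102978 = n71387 := (sb E32792 F238147)
theorem F293759 : act 0 n102956 = n149660 := (sb E32793 F251247)
theorem F293760 : act 2 n102956 = n76449 := (sb E32793 F251245)
theorem F293761 : act 5 n102956 = n93935 := (sb E32793 (iv5 F251938))
theorem F293762 : act 6 n102956 = n76311 := (sb E32793 (iv6 D159517))
theorem F293763 : act 7 n102956 = n185867 := (sb E32793 (iv7 F288314))
theorem F293764 : act 5 n93811 = n47745 := (sb E32794 (iv5 D102958))
theorem F293765 : act 6 n90667 = n47745 := (sb E32795 (iv6 D102959))
theorem E34972 : n91015 = n20793 := ((((iv5 D43896)).symm.trans (sb E32804 F158252))).symm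
theorem E34974 : n185650 = n93937 := (((D93937).symm.trans (sb E32808 (iv4 F287962)))).symm
theorem F293766 : act 1 n43944 = n47751 := (sb E32812 (iv0 D102974))
theorem E34977 : n185915 = n172108 := ((D185915).symm.trans (sb E32813 (iv3 F270257)))
theorem F293767 : act 7 n88547 = n47751 := (sb E32813 F137615)
theorem F293768 : act 3 n88543 = n41888 := (sb E32814 F137616)
theorem F293769 : act 5 n94290 = n47721 := (sb E32815 (iv5 D102894))
theorem F293770 : act 6 n90521 = n47721 := (sb E32816 (iv6 D102895))
theorem F293771 : act 5 n94291 = n47722 := (sb E32817 (iv5 D102899))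
theorem F293772 : act 6 n102742 = n47722 := (sb E32818 (iv6 D102900))
theorem F293773 : act 6 n43441 = n47723 := (sb E32819 (iv6 D102902))
theorem F293774 : act 1 n62770 = n47724 := (sb E32820 (iv0 D102903))
theorem F293775 : act 4 n48410 = n47733 := (sb E32824 F138315)
theorem F293776 : act 6 n48410 = n42072 := (sb E32824 (iv6 D90018))
theorem F293777 : act 0 n102929 = n94348 := (sb E32825 (iv1 F214555))
theorem F293778 : act 2 n102929 = n94314 := (sb E32825 F214553)
theorem F293779 : act 5 n102929 = n92328 := (sb E32825 (tr F214554 E34616))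
theorem F293780 : act 6 n102929 = n133665 := (sb E32825 (iv6 F215072))
theorem F293781 : act 7 n102929 = n62627 := (sb E32825 (iv7 D133434))
theorem F293782 : act 0 n76498 = n47732 := (sb E32826 (iv1 D102930))
theorem F293783 : act 0 n102927 = n94314 := (sb E32827 (iv1 F214552))
theorem F293784 : act 1 n102927 = n62627 := (sb E32827 (iv0 D133433))
theorem F293785 : act 3 n102927 = n94335 := (sb E32827 F214549)
theorem F293786 : act 6 n102927 = n78887 := (sb E32827 F214547)
theorem F293787 : act 7 n102927 = n94348 := (sb E32827 F214550)
theorem F293788 : act 3 n55274 = n47734 := (sb E32828 F158226)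
theorem F293789 : act 6 n55274 = n47732 := (sb E32828 (iv6 D102932))
theorem F293790 : act 1 n34930 = n47733 := (sb E32829 (iv0 D102933))
theorem F293791 : act 0 n34925 = n47733 := (sb E32830 (iv1 D102934))
theorem F293792 : act 0 n102928 = n76316 := (sb E32831 (iv1 F251243))
theorem F293793 : act 1 n102928 = n76311 := (sb E32831 (iv0 D159516))
theorem F293794 : act 3 n102928 = n185826 := (sb E32831 (iv3 F288142))
theorem F293795 : act 4 n102928 = n104703 := (sb E32831 F251241)
theorem F293796 : act 5 n102928 = n78888 := (sb E32831 F251240)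
theorem F293797 : act 7 n102928 = n76447 := (sb E32831 F251244)
theorem F293798 : act 0 n102940 = n94343 := (sb E32832 (iv1 F258804))
theorem F293799 : act 1 n102940 = n94342 := (sb E32832 F258805)
theorem F293800 : act 2 n102940 = n94345 := (sb E32832 F258800)
theorem F293801 : act 3 n102940 = n78882 := (sb E32832 F258801)
theorem F293802 : act 5 n102940 = n78880 := (sb E32832 (iv5 D164202))
theorem F293803 : act 6 n102940 = n94356 := (sb E32832 (iv6 F258803))
theorem E34979 : n92218 = n44078 := ((((iv5 D94288)).symm.trans (sb E32841 F158258))).symm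
theorem F293804 : act 3 n94292 = n176756 := (sb E32842 (iv3 F276145))
theorem E34980 : n92216 = n44076 := (((D44076).symm.trans (sb E32843 D92216))).symm
theorem E34981 : n92217 = n44048 := (((F157561).symm.trans (sb E32843 D92217))).symm
theorem F293805 : act 7 n20938 = n43173 := (sb E32843 (iv7 F67616))
theorem F293806 : act 4 n94308 = n176764 := (sb E32848 (iv4 F276150))
theorem F293807 : act 3 n94322 = n176736 := (sb E32852 (iv3 F276110))
theorem F293808 : act 5 n94322 = n160996 := (sb E32852 (iv5 F254498))
theorem F293809 : act 4 n94332 = n176740 := (sb E32856 (iv4 F276114))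
theorem F293810 : act 5 n4754 = n4547 := (sb E32867 (iv5 D9976))
theorem E35002 : n184326 = n95295 := (((D95295).symm.trans (sb E32885 (iv4 F286257)))).symm
theorem E35005 : n184311 = n103294 := (((D103294).symm.trans (sb E32887 (iv4 F286250)))).symm
theorem E35008 : n103337 = n41019 := (((D41019).symm.trans (sb E32888 (iv5 F158585)))).symm
theorem F293811 : act 0 n97014 = n94120 := (sb E32890 F159758)
theorem F293812 : act 2 n97014 = n48240 := (sb E32890 F159756)
theorem F293813 : act 4 n97014 = n48217 := (sb E32890 (iv4 D104205))
theorem F293814 : act 7 n97014 = n48259 := (sb E32890 F159757)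
theorem F293815 : act 2 n40314 = n21713 := (sb E32893 F71015)
theorem E35010 : n96584 = n86895 := ((((iv3 F133319)).symm.trans (sb E32893 (iv3 F148787)))).symm
theorem E35011 : n96587 = n86897 := (((D86897).symm.trans (sb E32893 D96587))).symm
theorem F293816 : act 7 n40314 = n21733 := (sb E32893 F71016)
theorem F293817 : act 2 n42066 = n21733 := (sb E32894 F71030)
theorem E35012 : n94319 = n90004 := ((((iv3 F138270)).symm.trans (sb E32894 (iv3 F145463)))).symm
theorem E35013 : n96593 = n90006 := (((D90006).symm.trans (sb E32894 D96593))).symm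
theorem F293818 : act 7 n42066 = n21713 := (sb E32894 F71031)
theorem F293819 : act 0 n96298 = n45459 := (sb E32895 (iv1 D97335))
theorem F293820 : act 1 n96298 = n45469 := (sb E32895 F150083)
theorem F293821 : act 2 n96298 = n97434 := (sb E32895 (iv2 F150180))
theorem F293822 : act 5 n101244 = n87101 := (sb E32896 (iv5 D182429))
theorem F293823 : act 3 n46683 = n97033 := (sb E32899 (iv3 F149670))
theorem F293824 : act 6 n46683 = n87177 := (sb E32899 F147412)
theorem F293825 : act 0 n90383 = n101573 := (sb E32907 F156477)
theorem F293826 : act 5 n90383 = n89477 := (sb E32907 F150743)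
theorem F293827 : act 1 n91093 = n44860 := (sb E32910 (iv0 D96127))
theorem F293828 : act 6 n91093 = n48436 := (sb E32910 F147777)
theorem E35019 : n185957 = n103358 := ((D185957).symm.trans (sb E32912 (iv6 F158644)))
theorem F293829 : act 7 n88580 = n44860 := (sb E32912 F147219)
theorem F293830 : act 0 n91097 = n44853 := (sb E32913 (iv1 D96114))
theorem F293831 : act 7 n91097 = n97433 := (sb E32913 (iv7 F150178))
theorem E35020 : n87112 = n46604 := (((iv4 F135402)).symm.trans (sb E32914 F147715))
theorem E35021 : n185597 = n97473 := ((D185597).symm.trans (sb E32914 (iv5 F150253)))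
theorem E35022 : n185598 = n44945 := ((D185598).symm.trans (sb E32914 F147716))
theorem E35023 : n185602 = n95559 := ((D185602).symm.trans (sb E32915 (iv0 F284904)))
theorem E35026 : n185600 = n104721 := (((D104721).symm.trans (sb E32916 (iv2 F287924)))).symm
theorem F293832 : act 6 n48421 = n41274 := (sb E32916 (iv6 D88412))
theorem E35029 : n185549 = n97421 := ((((iv2 F150167)).symm.trans (sb E32919 (iv2 F287849)))).symm
theorem E35030 : n185552 = n97425 := (((D97425).symm.trans (sb E32919 D185552))).symm
theorem E35032 : n185554 = n97438 := (((D97438).symm.trans (sb E32920 D185554))).symm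
theorem E35033 : n185555 = n97439 := (((D97439).symm.trans (sb E32920 D185555))).symm
theorem E35034 : n104164 = n97440 := (((D97440).symm.trans (sb E32920 (iv5 F159691)))).symm
theorem E35035 : n185556 = n97441 := (((D97441).symm.trans (sb E32920 D185556))).symm
theorem E35036 : n185571 = n97472 := (((D97472).symm.trans (sb E32921 D185571))).symm
theorem E35037 : n185572 = n97473 := (((D97473).symm.trans (sb E32921 D185572))).symm
theorem E35038 : n185569 = n97470 := ((((iv2 F150249)).symm.trans (sb E32921 (iv2 F287889)))).symm
theorem E35039 : n185573 = n97474 := (((D97474).symm.trans (sb E32921 D185573))).symm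
theorem E35043 : n185581 = n97483 := (((D97483).symm.trans (sb E32922 D185581))).symm
theorem F293833 : act 0 n87312 = n45469 := (sb E32923 (iv1 F150081))
theorem F293834 : act 1 n87312 = n45459 := (sb E32923 (iv0 D97334))
theorem F293835 : act 7 n87312 = n97434 := (sb E32923 (iv7 F150181))
theorem E35064 : n103639 = n46114 := ((D103639).symm.trans (sb E32941 F146001))
theorem E35065 : n103640 = n99566 := ((D103640).symm.trans (sb E32941 (iv5 F157648)))
theorem F293836 : act 2 n46650 = n23245 := (sb E32942 F75406)
theorem E35066 : n103642 = n99895 := (((D99895).symm.trans (sb E32942 D103642))).symm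
theorem F293837 : act 5 n46650 = n23162 := (sb E32942 (iv5 D48001))
theorem E35067 : n103622 = n99892 := (((D99892).symm.trans (sb E32943 (iv4 F158989)))).symm
theorem F293838 : act 5 n46649 = n23246 := (sb E32943 F75626)
theorem F293839 : act 7 n46649 = n23245 := (sb E32943 (iv7 D48139))
theorem E35069 : n103829 = n91271 := (((D91271).symm.trans (sb E32945 (iv4 F159245)))).symm
theorem F293840 : act 5 n42721 = n23242 := (sb E32945 (iv5 D48125))
theorem F293841 : act 5 n103921 = n87809 := (sb E32948 (iv5 D184091))
theorem F293842 : act 6 n103921 = n182258 := (sb E32948 (iv6 F286045))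
theorem F293843 : act 5 n40916 = n48113 := (sb E32949 F159325)
theorem F293844 : act 4 n45518 = n43609 := (sb E32950 F143788)
theorem E35071 : n44851 = n43607 := ((F71793).symm.trans (sb E32950 (iv6 D93211)))
theorem F293845 : act 2 n40311 = n21710 := (sb E32952 (iv2 F71008))
theorem F293846 : act 6 n40311 = n44629 := (sb E32952 (iv6 F71012))
theorem F293847 : act 7 n40311 = n21610 := (sb E32952 F71010)
theorem F293848 : act 1 n97038 = n94120 := (sb E32953 F159772)
theorem F293849 : act 2 n97038 = n48259 := (sb E32953 F159770)
theorem F293850 : act 7 n97038 = n48240 := (sb E32953 F159771)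
theorem E35072 : n103367 = n98989 := ((D103367).symm.trans (sb E32955 (iv1 F152511)))
theorem E35073 : n103368 = n89580 := ((D103368).symm.trans (sb E32955 (iv0 F144995)))
theorem E35074 : n103369 = n98993 := ((D103369).symm.trans (sb E32955 F286183))
theorem E35075 : n103370 = n100172 := ((D103370).symm.trans (sb E32955 F154123))
theorem F293852 : act 7 n47901 = n89724 := (sb E32955 F144994)
theorem F293853 : act 0 n47902 = n41014 := (sb E32956 (iv1 D87907))
theorem F293854 : act 7 n47902 = n89727 := (sb E32956 (iv7 F137721))
theorem F293855 : act 4 n47879 = n89472 := (sb E32957 F144987)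
theorem F293856 : act 6 n47879 = n89470 := (sb E32957 F144988)
theorem F293857 : act 1 n47880 = n41014 := (sb E32958 (iv0 D87906))
theorem F293858 : act 2 n47880 = n89727 := (sb E32958 (iv2 F137720))
theorem F293859 : act 4 n89243 = n42507 := (sb E32962 F139658)
theorem E35081 : n182383 = n88969 := (((F136549).symm.trans (sb E32966 (iv2 F283941)))).symm
theorem E35083 : n40754 = n40463 := ((F69178).symm.trans (sb E32966 (iv6 D87088)))
theorem E35085 : n182394 = n94098 := (((D94098).symm.trans (sb E32967 (iv6 F283945)))).symm
theorem F293860 : act 0 n19125 = n40333 := (sb E32968 (iv1 F61399))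
theorem F293861 : act 6 n19125 = n20879 := (sb E32968 (iv6 F66205))
theorem F293862 : act 2 n20885 = n20635 := (sb E32971 F141299)
theorem E35086 : n92094 = n43995 := (((D43995).symm.trans (sb E32971 D92094))).symm
theorem E35088 : n43996 = n42693 := ((D43996).symm.trans (sb E32971 (iv5 F133929)))
theorem E35090 : n93117 = n42693 := (E33675).trans E35088
theorem E35092 : n182710 = n93262 := (((D93262).symm.trans (sb E32972 (iv6 F284284)))).symm
theorem E35093 : n42692 = n41680 := ((F141304).symm.trans (sb E32972 (tr D182714 E33192)))
theorem F293863 : act 0 n19144 = n93263 := (sb E32973 D93263)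
theorem F293864 : act 6 n19144 = n20635 := (sb E32973 (iv6 D43627))
theorem F293865 : act 7 n19144 = n93266 := (sb E32973 D93266)
theorem F293866 : act 7 n19621 = n20635 := (sb E32974 F141283)
theorem E35099 : n93263 = n19240 := ((F293863).symm.trans (sb E32975 F62581))
theorem E35100 : n93266 = n19079 := ((F293865).symm.trans (sb E32975 F62582))
theorem E35101 : n103267 = n93340 := (((D93340).symm.trans (sb E32976 (iv4 F158504)))).symm
theorem E35107 : n103964 = n96153 := (((D96153).symm.trans (sb E32982 D103964))).symm
theorem F293867 : act 3 n44871 = n23245 := (sb E32986 F75622)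
theorem E35125 : n103977 = n96151 := ((((iv6 F147821)).symm.trans (sb E32986 D103977))).symm
theorem E35126 : n40522 = n20631 := ((((iv1 F292125)).symm.trans (sb E32987 D40522))).symm
theorem F293868 : act 3 n10194 = n8996 := (sb E32987 (iv3 D19146))
theorem F293869 : act 1 n19145 = n19240 := (sb E32990 F62362)
theorem F293870 : act 2 n19145 = n19079 := (sb E32990 F31282)
theorem E35133 : n41506 = n40519 := (((D40519).symm.trans (sb E32990 (iv3 F64018)))).symm
theorem F293871 : act 4 n19145 = n9199 := (sb E32990 F31283)
theorem F293872 : act 6 n19145 = n9198 := (sb E32990 (iv6 D19543))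
theorem F293873 : act 4 n48072 = n41097 := (sb E32991 (iv4 F134804))
theorem E35135 : n184106 = n103847 := (((D103847).symm.trans (sb E32991 D184106))).symm
theorem F293874 : act 0 n40388 = n48554 := (sb E32992 (iv1 D105065))
theorem E35138 : n96086 = n87946 := (((D87946).symm.trans (sb E32996 (iv0 F147696)))).symm
theorem E35139 : n45093 = n40313 := (((F62300).symm.trans (sb E32996 F138132))).symm
theorem F293875 : act 0 n41063 = n44515 := (sb E32997 F138134)
theorem F293876 : act 1 n41063 = n47863 := (sb E32997 F138135)
theorem F293877 : act 4 n41063 = n47855 := (sb E32997 (iv4 F138136))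
theorem F293878 : act 2 n19056 = n10356 := (sb E32998 F62830)
theorem F293879 : act 7 n19056 = n10361 := (sb E32998 F62831)
theorem F293880 : act 5 n104192 = n87873 := (sb E33000 (iv5 D184231))
theorem E35140 : n181995 = n181908 := (((D181908).symm.trans (sb E33001 D181995))).symm
theorem E35141 : n181909 = n95633 := ((D181909).symm.trans (sb E33001 (iv0 F157611)))
theorem E35142 : n181910 = n89034 := ((D181910).symm.trans (sb E33001 (iv2 F136705)))
theorem E35144 : n184583 = n103817 := ((D184583).symm.trans (sb E33002 F286158))
theorem E35145 : n182000 = n95423 := (((iv5 F283342)).symm.trans (sb E33003 F286161))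
theorem F293881 : act 0 n19066 = n40306 := (sb E33004 (iv1 F61363))
theorem E35146 : n40454 = n40330 := ((((iv3 F61395)).symm.trans (sb E33004 D40454))).symm
theorem F293882 : act 1 n20303 = n40552 := (sb E33010 F66264)
theorem F293883 : act 4 n20303 = n10767 := (sb E33010 F35343)
theorem F293884 : act 5 n20303 = n41203 := (sb E33010 (iv5 F62398))
theorem E35148 : n42997 = n10765 := ((D42997).symm.trans (sb E33010 (iv6 D22777)))
theorem F293885 : act 7 n20303 = n41203 := (sb E33010 (iv7 F62399))
theorem F293886 : act 2 n20304 = n19404 := (sb E33011 F61977)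
theorem E35149 : n47412 = n43001 := (((D43001).symm.trans (sb E33011 (iv3 F74621)))).symm
theorem E35150 : n87728 = n43002 := (((D43002).symm.trans (sb E33011 D87728))).symm
theorem E35151 : n43003 = n19264 := ((D43003).symm.trans (sb E33011 (iv6 D40866)))
theorem F293887 : act 7 n20304 = n41233 := (sb E33011 (iv7 F62457))
theorem F293888 : act 6 n9058 = n9604 := (sb E33012 (iv6 D20306))
theorem F293889 : act 0 n20144 = n19364 := (sb E33013 F66259)
theorem E35156 : n45809 = n42691 := (((D42691).symm.trans (sb E33013 F72320))).symm
theorem F293890 : act 7 n20144 = n40653 := (sb E33013 F62296)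
theorem F293891 : act 5 n9903 = n9606 := (sb E33014 (iv5 D20314))
theorem F293892 : act 6 n9066 = n9606 := (sb E33015 F32090)
theorem F293893 : act 0 n4058 = n4018 := (sb E33020 (iv1 D8995))
theorem F293894 : act 5 n4058 = n4704 := (sb E33020 (iv5 F13986))
theorem F293895 : act 7 n4058 = n8974 := (sb E33020 (iv7 F16898))
theorem E35162 : n182369 = n97409 := (((D97409).symm.trans (sb E33021 D182369))).symm
theorem F293896 : act 0 n45491 = n42061 := (sb E33022 F133682)
theorem F293897 : act 1 n45491 = n42073 := (sb E33022 F133683)
theorem F293898 : act 2 n45491 = n86880 := (sb E33022 F133680)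
theorem E35166 : n182373 = n97413 := (((D97413).symm.trans (sb E33022 D182373))).symm
theorem F293899 : act 0 n19207 = n19056 := (sb E33023 (iv1 D40312))
theorem F293900 : act 1 n19207 = n19837 := (sb E33023 F61371)
theorem F293901 : act 0 n87954 = n95296 := (sb E33025 (iv1 F147959))
theorem F293902 : act 1 n87954 = n44919 := (sb E33025 (iv0 D96208))
theorem F293903 : act 2 n45502 = n41063 := (sb E33026 F75756)
theorem F293904 : act 5 n96209 = n104145 := (sb E33027 F286711)
theorem F293905 : act 6 n48191 = n44556 := (sb E33028 (iv6 D95400))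
theorem F293906 : act 5 n103255 = n104143 := (sb E33030 F286706)
theorem E35169 : n47924 = n23096 := ((((iv3 F36141)).symm.trans (sb E33031 (iv3 F75244)))).symm
theorem E35170 : n47929 = n43665 := (((D43665).symm.trans (sb E33031 D47929))).symm
theorem F293907 : act 4 n41049 = n47857 := (sb E33032 F158361)
theorem F293908 : act 5 n93346 = n47836 := (sb E33034 (iv5 D103223))
theorem F293909 : act 5 n90914 = n96154 := (sb E33036 F154668)
theorem F293910 : act 7 n90914 = n104007 := (sb E33036 (iv7 F159458))
theorem F293911 : act 0 n90638 = n99377 := (sb E33037 F154671)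
theorem F293912 : act 1 n90638 = n99379 := (sb E33037 F154672)
theorem F293913 : act 2 n90638 = n100532 := (sb E33037 F154669)
theorem F293914 : act 7 n90638 = n100531 := (sb E33037 F154670)
theorem F293915 : act 2 n90915 = n47440 := (sb E33038 F153623)
theorem F293916 : act 5 n90915 = n46609 := (sb E33038 (iv5 D99794))
theorem F293917 : act 5 n90912 = n96153 := (sb E33039 F154663)
theorem F293918 : act 7 n90912 = n104006 := (sb E33039 (iv7 F159456))
theorem F293919 : act 0 n90671 = n99379 := (sb E33040 F154666)
theorem F293920 : act 1 n90671 = n99377 := (sb E33040 F154667)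
theorem F293921 : act 2 n90671 = n100531 := (sb E33040 F154664)
theorem F293922 : act 7 n90671 = n100532 := (sb E33040 F154665)
theorem F293923 : act 2 n90913 = n104008 := (sb E33041 (iv2 F159459))
theorem F293924 : act 5 n90913 = n185999 := (sb E33041 (iv5 F288548))
theorem F293925 : act 2 n90716 = n104010 := (sb E33043 F159468)
theorem F293926 : act 7 n90716 = n104009 := (sb E33043 F159464)
theorem F293927 : act 5 n90786 = n186016 := (sb E33044 (iv5 F288596))
theorem F293928 : act 1 n9041 = n91967 := (sb E33048 F141442)
theorem F293929 : act 7 n9041 = n91969 := (sb E33048 (iv7 F141445))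
theorem F293930 : act 0 n8934 = n91969 := (sb E33049 (iv1 F141446))
theorem E35172 : n91967 = n8994 := (((D8994).symm.trans (sb E33050 D91967))).symm
theorem E35173 : n91969 = n8990 := ((((iv2 F13980)).symm.trans (sb E33050 D91969))).symm
theorem E35176 : n182636 = n87366 := ((((iv2 F134131)).symm.trans (sb E33051 (iv2 F284167)))).symm
theorem E35177 : n44251 = n40503 := (((iv6 F69618)).symm.trans (sb E33051 (iv6 D87192)))
theorem E35178 : n97783 = n91000 := (((D91000).symm.trans (sb E33052 D97783))).symm
theorem E35179 : n97784 = n91001 := (((D91001).symm.trans (sb E33052 D97784))).symm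
theorem E35180 : n97785 = n91002 := (((D91002).symm.trans (sb E33052 D97785))).symm
theorem E35181 : n97786 = n42700 := ((((iv5 F66917)).symm.trans (sb E33052 D97786))).symm
theorem F293931 : act 6 n42627 = n41656 := (sb E33052 F71980)
theorem E35182 : n97788 = n42701 := (((iv5 F150736)).symm.trans (sb E33053 (iv5 D91213)))
theorem F293932 : act 4 n20148 = n97787 := (sb E33054 D97787)
theorem F293933 : act 0 n88735 = n46319 := (sb E33056 (iv1 F136533))
theorem E35183 : n186277 = n46318 := ((D186277).symm.trans (sb E33056 (iv2 F145452)))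
theorem E35184 : n186278 = n99067 := ((D186278).symm.trans (sb E33056 (iv3 F152592)))
theorem E35185 : n186281 = n46078 := ((D186281).symm.trans (sb E33056 F157636))
theorem E35186 : n186282 = n45990 := ((D186282).symm.trans (sb E33056 F157232))
theorem F293934 : act 1 n88736 = n46319 := (sb E33057 F157226)
theorem E35187 : n186283 = n87335 := ((D186283).symm.trans (sb E33057 F136435))
theorem E35188 : n186284 = n94249 := ((D186284).symm.trans (sb E33057 (iv4 F145334)))
theorem E35189 : n186286 = n41517 := ((D186286).symm.trans (sb E33057 (iv6 D88912)))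
theorem F293935 : act 0 n88737 = n46318 := (sb E33058 (iv1 F136538))
theorem F293936 : act 1 n88737 = n45990 := (sb E33058 F157223)
theorem F293937 : act 7 n88737 = n46319 := (sb E33058 F136535)
theorem F293938 : act 7 n88738 = n46320 := (sb E33059 F136540)
theorem F293939 : act 5 n88739 = n99321 := (sb E33060 (iv5 F152934))
theorem E35190 : n42601 = n41524 := (((D41524).symm.trans (sb E33061 D42601))).symm
theorem E35191 : n42602 = n41525 := (((D41525).symm.trans (sb E33061 D42602))).symm
theorem F293940 : act 4 n48115 = n41750 := (sb E33065 F137089)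
theorem F293941 : act 2 n40649 = n20469 := (sb E33066 (iv2 D43347))
theorem E35195 : n92667 = n87431 := (((D87431).symm.trans (sb E33066 D92667))).symm
theorem E35196 : n90180 = n43990 := ((((iv7 F69187)).symm.trans (sb E33066 (iv7 F138624)))).symm
theorem E35197 : n92657 = n46340 := ((D92657).symm.trans (sb E33067 F157263))
theorem E35198 : n186442 = n92658 := (((D92658).symm.trans (sb E33067 (iv3 F289243)))).symm
theorem E35199 : n183024 = n92659 := (((D92659).symm.trans (sb E33067 F284654))).symm
theorem E35200 : n186445 = n92660 := (((D92660).symm.trans (sb E33067 (iv5 F289250)))).symm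
theorem E35201 : n92661 = n46111 := ((D92661).symm.trans (sb E33067 F157643))
theorem E35202 : n92662 = n41458 := ((D92662).symm.trans (sb E33067 (iv7 D88802)))
theorem E35203 : n93835 = n92663 := (((D92663).symm.trans (sb E33068 (iv3 F144665)))).symm
theorem E35204 : n185979 = n92665 := (((D92665).symm.trans (sb E33068 D185979))).symm
theorem E35205 : n92666 = n41345 := ((D92666).symm.trans (sb E33068 (iv6 D88590)))
theorem E35206 : n183771 = n92668 := (((D92668).symm.trans (sb E33069 F285555))).symm
theorem F293942 : act 7 n22191 = n20469 := (sb E33070 F65070)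
theorem E35209 : n90934 = n41630 := ((((iv2 F64241)).symm.trans (sb E33073 D90934))).symm
theorem E35210 : n42698 = n41637 := (((D41637).symm.trans (sb E33073 (iv5 F66915)))).symm
theorem F293943 : act 0 n19608 = n20149 := (sb E33074 (iv1 F31985))
theorem F293944 : act 1 n19608 = n9505 := (sb E33074 (iv0 D20147))
theorem E35211 : n41645 = n20123 := ((D41645).symm.trans (sb E33074 (iv4 F31980)))
theorem E35212 : n42699 = n41641 := ((((iv6 F64262)).symm.trans (sb E33074 D42699))).symm
theorem F293945 : act 3 n100697 = n87435 := (sb E33086 (iv3 D183177))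
theorem F293946 : act 5 n100697 = n93434 := (sb E33086 F284778)
theorem F293947 : act 6 n100697 = n88249 := (sb E33086 F284779)
theorem F293948 : act 7 n100697 = n93084 := (sb E33086 (tr F284780 E34741))
theorem F293949 : act 3 n20887 = n20642 := (sb E33088 F67399)
theorem E35247 : n92100 = n44001 := (((D44001).symm.trans (sb E33088 D92100))).symm
theorem E35248 : n93312 = n22328 := ((D93312).symm.trans (sb E33089 F71994))
theorem E35249 : n93313 = n22324 := ((D93313).symm.trans (sb E33089 F71995))
theorem E35250 : n97804 = n93314 := (((D93314).symm.trans (sb E33089 D97804))).symm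
theorem E35251 : n97802 = n93307 := ((((iv6 F143886)).symm.trans (sb E33089 (iv6 F150770)))).symm
theorem F293950 : act 7 n43646 = n22764 := (sb E33089 F71993)
theorem E35259 : n93585 = n46446 := ((((iv2 F73326)).symm.trans (sb E33101 (iv2 F144334)))).symm
theorem F293951 : act 3 n22456 = n23307 := (sb E33101 F68793)
theorem F293952 : act 5 n42433 = n23307 := (sb E33102 (iv5 F292968))
theorem F293953 : act 0 n20308 = n42475 := (sb E33105 F66287)
theorem F293954 : act 1 n20308 = n20816 := (sb E33105 F66288)
theorem F293955 : act 5 n20308 = n19401 := (sb E33105 (iv5 D41245))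
theorem E35260 : n43020 = n40860 := ((D43020).symm.trans (sb E33105 F63087))
theorem F293956 : act 7 n20308 = n19401 := (sb E33105 (iv7 F63088))
theorem F293957 : act 2 n20309 = n41233 := (sb E33106 F63565)
theorem E35261 : n88372 = n43022 := (((D43022).symm.trans (sb E33106 (iv5 F135333)))).symm
theorem E35262 : n43023 = n40864 := ((D43023).symm.trans (sb E33106 F63567))
theorem F293958 : act 7 n20309 = n19404 := (sb E33106 (iv7 D41256))
theorem F293959 : act 6 n19262 = n9605 := (sb E33107 (iv6 D20311))
theorem F293960 : act 1 n20143 = n40653 := (sb E33108 F66261)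
theorem E35267 : n43975 = n42687 := (((D42687).symm.trans (sb E33108 (iv5 F69136)))).symm
theorem E35268 : n42688 = n22826 := ((D42688).symm.trans (sb E33108 F62383))
theorem F293961 : act 7 n20143 = n19364 := (sb E33108 (iv7 D41183))
theorem E35269 : n87426 = n42694 := (((D42694).symm.trans (sb E33109 (iv4 F134180)))).symm
theorem F293962 : act 3 n9904 = n9782 := (sb E33112 F32240)
theorem F293963 : act 7 n9904 = n9780 := (sb E33112 F32241)
theorem F293964 : act 5 n2074 = n4565 := (sb E33127 (iv5 F292905))
theorem F293965 : act 1 n43840 = n43168 := (sb E33137 (iv0 D92313))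
theorem F293966 : act 0 n43839 = n43168 := (sb E33138 (iv1 D92314))
theorem F293967 : act 2 n43842 = n43168 := (sb E33139 (iv2 D92315))
theorem F293968 : act 7 n20899 = n43168 := (sb E33140 (iv7 F67597))
theorem F293969 : act 5 n48149 = n42218 := (sb E33151 (iv5 D90322))
theorem F293970 : act 0 n90361 = n42750 := (sb E33153 (iv1 D91349))
theorem F293971 : act 2 n90361 = n46539 := (sb E33153 F177422)
theorem F293972 : act 4 n90361 = n183981 := (sb E33153 F285861)
theorem F293973 : act 6 n90361 = n46529 := (sb E33153 F177423)
theorem F293974 : act 7 n90361 = n45720 := (sb E33153 F177424)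
theorem F293975 : act 0 n22308 = n42246 := (sb E33154 (iv1 D90362))
theorem F293976 : act 2 n40935 = n42246 := (sb E33155 (iv2 D90363))
theorem F293977 : act 2 n90364 = n87822 := (sb E33156 F153070)
theorem F293978 : act 7 n90364 = n46940 := (sb E33156 F153072)
theorem F293979 : act 0 n90368 = n104010 := (sb E33157 (iv1 F159465))
theorem F293980 : act 1 n90368 = n104009 := (sb E33157 F159462)
theorem F293981 : act 5 n2050 = n1824 := (sb E33167 (iv5 F292948))
theorem E35321 : n82030 = n43579 := (((iv6 F126454)).symm.trans (sb E33185 (iv6 D93137)))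
theorem F293982 : act 6 n42634 = n89029 := (sb E33186 (iv6 F136698))
theorem E35323 : n96104 = n91009 := (((D91009).symm.trans (sb E33187 (iv3 F147736)))).symm
theorem E35324 : n93806 = n91010 := (((D91010).symm.trans (sb E33187 (iv4 F144599)))).symm
theorem E35325 : n91012 = n89584 := ((D91012).symm.trans (sb E33187 (iv6 F137343)))
theorem E35326 : n43793 = n40356 := (((iv3 F140099)).symm.trans (sb E33188 F69011))
theorem E35327 : n91017 = n89571 := ((D91017).symm.trans (sb E33188 (iv6 F137317)))
theorem E35328 : n91053 = n91020 := (((D91020).symm.trans (sb E33189 (iv1 F292353)))).symm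
theorem E35329 : n91056 = n91021 := (((D91021).symm.trans (sb E33189 (iv0 F292357)))).symm
theorem F293983 : act 3 n94137 = n90990 := (sb E33190 F288823)
theorem F293984 : act 0 n93229 = n99066 := (sb E33191 F270967)
theorem F293985 : act 1 n93229 = n94218 := (sb E33191 (iv0 F270968))
theorem E35332 : n82685 = n43615 := ((((iv3 D93229)).symm.trans (sb E33191 (iv3 D172714)))).symm
theorem E35333 : n99471 = n90871 := (((D90871).symm.trans (sb E33193 (iv1 F153232)))).symm
theorem E35334 : n99470 = n90872 := (((D90872).symm.trans (sb E33193 F153240))).symm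
theorem E35335 : n99473 = n90873 := (((D90873).symm.trans (sb E33193 (iv2 F153236)))).symm
theorem F293986 : act 4 n42567 = n47892 := (sb E33193 F75210)
theorem F293987 : act 6 n42567 = n22607 := (sb E33193 F73490)
theorem F293988 : act 7 n42567 = n22293 := (sb E33193 (iv7 D46511))
theorem F293989 : act 2 n101219 = n47849 := (sb E33197 F158288)
theorem F293990 : act 4 n101219 = n47774 := (sb E33197 (iv4 D103047))
theorem F293991 : act 7 n101219 = n47852 := (sb E33197 F158289)
theorem F293992 : act 5 n97343 = n88072 := (sb E33198 F286715)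
theorem F293993 : act 4 n103049 = n87954 := (sb E33200 F159655)
theorem F293994 : act 5 n103049 = n48197 := (sb E33200 (iv5 D104151))
theorem F293995 : act 5 n97443 = n87928 := (sb E33201 F159686)
theorem F293996 : act 2 n43700 = n47857 := (sb E33202 F158297)
theorem F293997 : act 5 n43700 = n47775 := (sb E33202 (iv5 D103051))
theorem F293998 : act 5 n93330 = n47858 := (sb E33215 F158356)
theorem F293999 : act 7 n93330 = n47857 := (sb E33215 (iv7 F158357))
theorem F294000 : act 1 n43929 = n88450 := (sb E33223 F138372)
theorem F294001 : act 0 n44623 = n88450 := (sb E33224 (iv1 F138368))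
theorem F294002 : act 7 n44790 = n88450 := (sb E33225 F138365)
theorem F294003 : act 0 n21371 = n42681 := (sb E33261 F135721)
theorem E35388 : n88561 = n47873 := (((D47873).symm.trans (sb E33265 D88561))).symm
theorem E35389 : n88563 = n47874 := (((D47874).symm.trans (sb E33265 D88563))).symm
theorem E35392 : n42958 = n21243 := (((D21243).symm.trans (sb E33266 D42958))).symm
theorem F294004 : act 3 n21910 = n19466 := (sb E33268 (iv3 D41340))
theorem F294005 : act 4 n21910 = n42999 := (sb E33268 (iv4 F67365))
theorem F294006 : act 2 n41341 = n21359 := (sb E33269 F70181)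
theorem E35400 : n95556 = n88581 := (((D88581).symm.trans (sb E33269 D95556))).symm
theorem E35401 : n88582 = n47900 := ((D88582).symm.trans (sb E33269 (iv6 F75223)))
theorem F294007 : act 7 n41341 = n21376 := (sb E33269 F70182)
theorem E35402 : n42963 = n21239 := (((D21239).symm.trans (sb E33270 D42963))).symm
theorem F294008 : act 5 n10147 = n19466 := (sb E33270 (iv5 F137534))
theorem F294009 : act 6 n23066 = n19466 := (sb E33271 (iv6 D41343))
theorem F294010 : act 7 n48474 = n88453 := (sb E33277 F138376)
theorem F294011 : act 3 n48470 = n42087 := (sb E33278 F138377)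
theorem F294012 : act 4 n103214 = n182316 := (sb E33279 (iv4 F287981))
theorem F294013 : act 3 n41236 = n42994 := (sb E33282 (iv3 F138186))
theorem F294014 : act 3 n21338 = n20283 := (sb E33286 F67297)
theorem F294015 : act 2 n102924 = n104787 := (sb E33293 (iv2 F160584))
theorem F294016 : act 6 n102924 = n47804 := (sb E33293 (iv6 D103118))
theorem F294017 : act 5 n95535 = n88447 := (sb E33294 (iv5 D185683))
theorem F294018 : act 6 n102717 = n88447 := (sb E33295 (iv6 D185684))
theorem E35413 : n176848 = n96002 := (((D96002).symm.trans (sb E33308 (iv4 F287993)))).symm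
theorem F294019 : act 1 n44831 = n88453 := (sb E33312 (iv0 D185699))
theorem F294020 : act 0 n44855 = n88453 := (sb E33313 (iv1 D185700))
theorem F294021 : act 0 n87943 = n47778 := (sb E33314 (iv1 D103055))
theorem F294022 : act 1 n87943 = n47781 := (sb E33314 F158308)
theorem F294023 : act 2 n87943 = n47870 := (sb E33314 (iv2 F158311))
theorem E35418 : n184335 = n103221 := (((iv4 F286269)).symm.trans (sb E33314 (iv4 F158472)))
theorem F294024 : act 7 n87943 = n47869 := (sb E33314 F158309)
theorem F294025 : act 0 n87940 = n47781 := (sb E33315 F147302)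
theorem F294026 : act 1 n87940 = n47778 := (sb E33315 F147303)
theorem F294027 : act 2 n87940 = n47869 := (sb E33315 F147300)
theorem E35419 : n184386 = n103904 := (((iv3 F286317)).symm.trans (sb E33315 F159333))
theorem E35420 : n184345 = n103220 := (((iv4 F286281)).symm.trans (sb E33315 (iv4 F158469)))
theorem F294028 : act 7 n87940 = n47870 := (sb E33315 F147301)
theorem F294029 : act 4 n103063 = n96154 := (sb E33317 F283708)
theorem F294030 : act 0 n103064 = n48192 := (sb E33318 (iv1 D104142))
theorem F294031 : act 1 n103064 = n48194 := (sb E33318 F159633)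
theorem F294032 : act 4 n103064 = n93439 := (sb E33318 (iv4 F159637))
theorem E35421 : n103937 = n87551 := ((D103937).symm.trans (sb E33319 (iv1 F154638)))
theorem E35422 : n103938 = n100563 := ((D103938).symm.trans (sb E33319 (iv0 F154637)))
theorem F294033 : act 7 n48121 = n87027 := (sb E33319 F146088)
theorem F294034 : act 6 n44630 = n91289 := (sb E33320 F141271)
theorem F294035 : act 2 n78549 = n45522 := (sb E33343 F148807)
theorem F294036 : act 7 n78549 = n45499 := (sb E33343 F148808)
theorem F294037 : act 2 n78546 = n45499 := (sb E33344 F148793)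
theorem F294038 : act 7 n78546 = n45522 := (sb E33344 F148794)
theorem F294039 : act 5 n97323 = n88428 := (sb E33345 (iv5 D185632))
theorem F294040 : act 5 n88978 = n42167 := (sb E33346 (iv5 D90213))
theorem F294041 : act 1 n95728 = n88430 := (sb E33347 (iv0 D185636))
theorem E35449 : n97399 = n91871 := (((D91871).symm.trans (sb E33350 (iv3 F150124)))).symm
theorem F294042 : act 7 n42944 = n21696 := (sb E33350 (iv7 D45482))
theorem F294043 : act 0 n96954 = n77261 := (sb E33351 (iv1 D161001))
theorem F294044 : act 1 n96954 = n78534 := (sb E33351 F254505)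
theorem F294045 : act 5 n96954 = n77263 := (sb E33351 F254506)
theorem F294046 : act 0 n97412 = n78534 := (sb E33352 (iv1 F254503))
theorem F294047 : act 1 n97412 = n77261 := (sb E33352 (iv0 D161000))
theorem F294048 : act 5 n97412 = n77264 := (sb E33352 F254501)
theorem F294049 : act 3 n97320 = n186203 := (sb E33355 F288987)
theorem E35451 : n91703 = n45452 := (((D45452).symm.trans (sb E33357 D91703))).symm
theorem E35452 : n91704 = n45386 := (((F157275).symm.trans (sb E33357 D91704))).symm
theorem F294050 : act 7 n21686 = n42935 := (sb E33357 (iv7 F67283))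
theorem F294051 : act 5 n97336 = n86721 := (sb E33359 (iv5 D181702))
theorem F294052 : act 7 n97336 = n161010 := (sb E33359 F282843)
theorem F294053 : act 5 n40215 = n45459 := (sb E33360 (iv5 D97337))
theorem F294054 : act 2 n97338 = n163435 := (sb E33361 F282845)
theorem F294055 : act 0 n97353 = n186203 := (sb E33365 (iv1 F288988))
theorem F294056 : act 1 n97354 = n186203 := (sb E33366 F288986)
theorem F294057 : act 4 n97351 = n186181 := (sb E33367 F288937)
theorem F294058 : act 7 n97351 = n186203 := (sb E33367 (iv7 F288985))
theorem F294059 : act 4 n88698 = n45467 := (sb E33368 (iv4 D97355))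
theorem F294060 : act 4 n97356 = n186190 := (sb E33369 (iv4 F288967))
theorem F294061 : act 4 n97359 = n94011 := (sb E33370 (iv4 F292557))
theorem F294062 : act 5 n97359 = n86719 := (sb E33370 (iv5 D181697))
theorem F294063 : act 7 n97359 = n163433 := (sb E33370 F282827)
theorem F294064 : act 5 n40214 = n45469 := (sb E33371 (iv5 D97360))
theorem F294065 : act 2 n97361 = n161012 := (sb E33372 F282828)
theorem F294066 : act 4 n97436 = n158050 := (sb E33376 (iv4 F257888))
theorem F294067 : act 5 n97436 = n88391 := (sb E33376 F257886)
theorem F294068 : act 7 n97436 = n163449 := (sb E33376 F257887)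
theorem F294069 : act 5 n41267 = n45499 := (sb E33377 F150126)
theorem F294070 : act 2 n97437 = n163444 := (sb E33378 F257889)
theorem F294071 : act 5 n97478 = n88378 := (sb E33379 F257882)
theorem F294072 : act 7 n97478 = n163442 := (sb E33379 F257883)
theorem F294073 : act 5 n41261 = n45522 := (sb E33380 F150130)
theorem F294074 : act 2 n97479 = n163451 := (sb E33381 F257884)
theorem F294075 : act 5 n89989 = n96077 := (sb E33394 F158565)
theorem F294076 : act 6 n89989 = n101974 := (sb E33394 F158566)
theorem E35464 : n104199 = n96349 := (((F148290).symm.trans (sb E33395 D104199))).symm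
theorem F294077 : act 6 n46997 = n42060 := (sb E33395 F75782)
theorem F294078 : act 0 n45327 = n42073 := (sb E33396 F135362)
theorem F294079 : act 1 n45327 = n42061 := (sb E33396 F135363)
theorem E35467 : n185536 = n89105 := ((((iv3 F136821)).symm.trans (sb E33396 (iv3 F287835)))).symm
theorem F294080 : act 7 n45327 = n86880 := (sb E33396 F135361)
theorem F294081 : act 1 n45479 = n42870 := (sb E33397 F122729)
theorem F294082 : act 2 n45479 = n78557 := (sb E33397 F122725)
theorem E35469 : n166586 = n97392 := (((D97392).symm.trans (sb E33397 (iv3 F262157)))).symm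
theorem F294083 : act 4 n45479 = n42061 := (sb E33397 F122727)
theorem E35470 : n97393 = n36419 := ((D97393).symm.trans (sb E33397 (iv5 D79953)))
theorem E35471 : n166588 = n97394 := (((D97394).symm.trans (sb E33397 D166588))).symm
theorem F294084 : act 7 n45479 = n78556 := (sb E33397 F122726)
theorem F294085 : act 1 n47994 = n103346 := (sb E33398 (iv0 F158610))
theorem E35472 : n104203 = n103627 := (((D103627).symm.trans (sb E33398 D104203))).symm
theorem E35474 : n21754 = n9034 := ((((iv6 D19221)).symm.trans (sb E33401 F71815))).symm
theorem E35480 : n97390 = n36420 := ((((iv4 F57186)).symm.trans (sb E33403 (iv4 F150120)))).symm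
theorem F294086 : act 5 n9535 = n4976 := (sb E33405 (iv5 F293022))
theorem F294087 : act 0 n45478 = n42870 := (sb E33406 F122737)
theorem F294088 : act 2 n45478 = n78556 := (sb E33406 F122734)
theorem E35482 : n166594 = n97389 := (((D97389).symm.trans (sb E33406 (iv3 F262177)))).symm
theorem F294089 : act 4 n45478 = n42073 := (sb E33406 F122735)
theorem E35483 : n166595 = n97391 := (((D97391).symm.trans (sb E33406 D166595))).symm
theorem F294090 : act 7 n45478 = n78557 := (sb E33406 F122736)
theorem F294091 : act 6 n19840 = n23539 := (sb E33408 (iv6 F293023))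
theorem E35490 : n97398 = n78538 := ((D97398).symm.trans (sb E33423 F140998))
theorem F294092 : act 5 n35780 = n21696 := (sb E33424 (iv5 D45481))
theorem F294093 : act 6 n45451 = n91876 := (sb E33428 (iv6 F141247))
theorem F294094 : act 5 n75171 = n87476 := (sb E33430 (iv5 D183262))
theorem F294095 : act 5 n86718 = n97371 := (sb E33431 F284929)
theorem E35494 : n90385 = n90188 := ((D90385).symm.trans (sb E33432 (tr F160581 E33896)))
theorem E35495 : n183768 = n90387 := (((D90387).symm.trans (sb E33432 (iv4 F285553)))).symm
theorem E35496 : n92668 = n90388 := (((D90388).symm.trans (sb E33432 (tr D183771 E35206)))).symm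
theorem E35497 : n90389 = n40846 := ((D90389).symm.trans (sb E33432 (iv6 D87681)))
theorem E35498 : n90390 = n90187 := ((D90390).symm.trans (sb E33432 (tr D183772 E33895)))
theorem F294096 : act 6 n92032 = n104715 := (sb E33433 (iv6 F160404))
theorem F294097 : act 0 n92040 = n98988 := (sb E33434 (iv1 F287774))
theorem F294098 : act 2 n92040 = n98990 := (sb E33434 F287771)
theorem F294099 : act 7 n92040 = n88362 := (sb E33434 (iv7 D185496))
theorem F294100 : act 6 n87725 = n43021 := (sb E33435 (iv6 D92041))
theorem E35499 : n185444 = n182297 := ((((iv1 F283833)).symm.trans (sb E33436 (iv1 F287711)))).symm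
theorem F294101 : act 3 n91998 = n88356 := (sb E33436 F157014)
theorem F294102 : act 4 n91998 = n47408 := (sb E33436 F157015)
theorem F294103 : act 5 n91998 = n183016 := (sb E33436 F289779)
theorem F294104 : act 6 n91998 = n47406 := (sb E33436 (iv6 D102069))
theorem F294105 : act 7 n91998 = n185438 := (sb E33436 (iv7 F287702))
theorem F294106 : act 1 n44709 = n42935 := (sb E33437 (iv0 D91848))
theorem F294107 : act 2 n91849 = n45452 := (sb E33438 F152546)
theorem F294108 : act 3 n91849 = n183117 := (sb E33438 (iv3 F284734))
theorem F294109 : act 6 n91849 = n95530 := (sb E33438 (iv6 F157619))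
theorem F294110 : act 7 n91849 = n45386 := (sb E33438 F157278)
theorem F294111 : act 3 n91850 = n45466 := (sb E33439 F148730)
theorem E35501 : n90941 = n88969 := (((D88969).symm.trans (sb E33440 D90941))).symm
theorem F294112 : act 4 n41539 = n42935 := (sb E33440 (iv4 F67282))
theorem F294113 : act 6 n4626 = n4325 := (sb E33452 (iv6 F293102))
theorem F294114 : act 6 n10881 = n19129 := (sb E33473 F36129)
theorem F294115 : act 5 n103256 = n88070 := (sb E33476 (iv5 D184702))
theorem F294116 : act 5 n41125 = n47849 := (sb E33477 (iv5 D103257))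
theorem F294118 : act 2 n89935 = n87954 := (sb E33480 F143914)
theorem F294119 : act 5 n41023 = n47854 := (sb E33481 (iv5 D103273))
theorem F294120 : act 5 n93322 = n47855 := (sb E33484 (iv5 D103276))
theorem F294121 : act 4 n103277 = n87953 := (sb E33485 F286345)
theorem F294122 : act 1 n93349 = n47857 := (sb E33486 (iv0 D103283))
theorem F294123 : act 4 n93349 = n47902 := (sb E33486 F158511)
theorem F294124 : act 5 n93349 = n47871 := (sb E33486 F158510)
theorem F294125 : act 0 n93348 = n47857 := (sb E33487 (iv1 D103284))
theorem F294126 : act 4 n93348 = n47880 := (sb E33487 F158515)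
theorem F294127 : act 5 n93348 = n47896 := (sb E33487 F158514)
theorem F294128 : act 2 n103285 = n93443 := (sb E33489 F286292)
theorem F294129 : act 4 n103285 = n87933 := (sb E33489 F286293)
theorem F294130 : act 5 n8934 = n4001 := (sb E33495 (iv5 D8969))
theorem F294131 : act 7 n8934 = n8994 := (sb E33495 (iv7 F16901))
theorem F294132 : act 0 n22130 = n42633 := (sb E33514 (iv1 F68529))
theorem F294133 : act 1 n22130 = n42632 := (sb E33514 F68527)
theorem E35532 : n93170 = n46271 := (((D46271).symm.trans (sb E33514 D93170))).symm
theorem F294134 : act 7 n22130 = n42634 := (sb E33514 F68526)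
theorem F294135 : act 0 n22135 = n42634 := (sb E33515 (iv1 F68524))
theorem F294136 : act 2 n22135 = n42633 := (sb E33515 F141575)
theorem E35533 : n93164 = n46283 := (((D46283).symm.trans (sb E33515 D93164))).symm
theorem E35534 : n93165 = n43894 := (((F69014).symm.trans (sb E33515 D93165))).symm
theorem F294137 : act 7 n22135 = n42632 := (sb E33515 F141576)
theorem F294138 : act 1 n22136 = n42634 := (sb E33516 F68528)
theorem F294139 : act 2 n22136 = n42632 := (sb E33516 F141572)
theorem E35537 : n92333 = n43847 := ((((iv4 F68923)).symm.trans (sb E33516 (iv4 F141998)))).symm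
theorem F294140 : act 7 n22136 = n42633 := (sb E33516 F141574)
theorem E35539 : n93172 = n46288 := (((D46288).symm.trans (sb E33517 D93172))).symm
theorem E35540 : n93173 = n46289 := (((D46289).symm.trans (sb E33517 D93173))).symm
theorem E35541 : n93174 = n46290 := (((D46290).symm.trans (sb E33517 D93174))).symm
theorem F294141 : act 7 n22137 = n42635 := (sb E33517 F68531)
theorem F294142 : act 5 n93343 = n47843 := (sb E33534 (iv5 D103244))
theorem F294143 : act 5 n48196 = n47878 := (sb E33536 (iv5 D103331))
theorem E35552 : n40510 = n19227 := (((D19227).symm.trans (sb E33539 (iv6 D87206)))).symm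
theorem F294144 : act 7 n9039 = n19125 := (sb E33541 F30762)
theorem F294145 : act 1 n20941 = n23307 := (sb E33552 (iv0 F292967))
theorem E35558 : n44290 = n43569 := (((iv6 F69702)).symm.trans (sb E33555 (iv6 D93116)))
theorem E35559 : n46042 = n43577 := (((D43577).symm.trans (sb E33557 F72627))).symm
theorem E35560 : n46037 = n43578 := (((D43578).symm.trans (sb E33557 (iv0 F72624)))).symm
theorem E35561 : n88935 = n43580 := (((D43580).symm.trans (sb E33557 (iv5 F136495)))).symm
theorem F294146 : act 6 n20615 = n21999 := (sb E33557 F64065)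
theorem F294147 : act 7 n20615 = n19552 := (sb E33557 (iv7 D41527))
theorem E35562 : n88986 = n43582 := (((iv5 F136593)).symm.trans (sb E33559 (iv5 D93148)))
theorem F294148 : act 0 n20616 = n22154 := (sb E33560 (iv1 F64104))
theorem F294149 : act 1 n20616 = n22153 := (sb E33560 F64105)
theorem F294150 : act 7 n20616 = n19558 := (sb E33560 (iv7 D41545))
theorem F294151 : act 0 n19139 = n19230 := (sb E33561 (iv1 F62615))
theorem F294152 : act 1 n19139 = n19229 := (sb E33561 F62586)
theorem F294153 : act 6 n19139 = n19186 := (sb E33561 F62588)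
theorem F294154 : act 7 n19139 = n19066 := (sb E33561 F62589)
theorem F294155 : act 5 n9041 = n4657 := (sb E33562 (iv5 D10269))
theorem F294156 : act 6 n87939 = n44655 := (sb E33566 (iv6 D95621))
theorem F294157 : act 7 n87939 = n97442 := (sb E33566 (iv7 F150189))
theorem F294158 : act 1 n93066 = n89115 := (sb E33575 F289695)
theorem F294159 : act 3 n93066 = n89401 := (sb E33575 F289508)
theorem F294160 : act 5 n93066 = n100848 := (sb E33575 (iv5 F289520))
theorem F294161 : act 6 n93066 = n88858 := (sb E33575 (iv6 D186566))
theorem F294162 : act 2 n93067 = n100848 := (sb E33576 F289519)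
theorem F294163 : act 7 n93067 = n100240 := (sb E33576 F158736)
theorem F294164 : act 0 n92910 = n46754 := (sb E33577 (iv1 F154085))
theorem F294165 : act 1 n92910 = n46747 := (sb E33577 (iv0 D100156))
theorem F294166 : act 2 n92910 = n89420 := (sb E33577 (iv2 F154086))
theorem F294167 : act 7 n92910 = n100241 := (sb E33577 (iv7 F154226))
theorem F294168 : act 2 n93071 = n89418 := (sb E33578 F158737)
theorem F294169 : act 5 n93071 = n88862 := (sb E33578 F158738)
theorem F294171 : act 5 n93031 = n46924 := (sb E33579 F152952)
theorem F294172 : act 4 n92929 = n47051 := (sb E33586 F154152)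
theorem F294173 : act 6 n41748 = n48115 := (sb E33599 (iv6 D103928))
theorem F294174 : act 6 n87020 = n103063 := (sb E33610 F160909)
theorem E35587 : n182334 = n89029 := (((F136699).symm.trans (sb E33612 D182334))).symm
theorem E35588 : n182335 = n89027 := (((F136691).symm.trans (sb E33612 D182335))).symm
theorem F294175 : act 4 n41585 = n43173 := (sb E33612 F133663)
theorem E35589 : n95424 = n89037 := (((D89037).symm.trans (sb E33612 (iv5 F147040)))).symm
theorem F294176 : act 5 n44567 = n40333 := (sb E33613 (iv5 D86927))
theorem E35590 : n182002 = n95425 := (((D95425).symm.trans (sb E33613 D182002))).symm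
theorem F294177 : act 2 n88329 = n48554 := (sb E33614 F148517)
theorem F294178 : act 7 n43702 = n48554 := (sb E33615 F158734)
theorem F294179 : act 0 n90843 = n98429 := (sb E33616 (iv1 F153015))
theorem F294180 : act 1 n90843 = n177843 := (sb E33616 F277384)
theorem F294182 : act 7 n90843 = n46460 := (sb E33616 (iv7 D99359))
theorem F294183 : act 2 n90847 = n46924 := (sb E33617 F153068)
theorem F294184 : act 5 n90847 = n46772 := (sb E33617 F153069)
theorem E35591 : n94316 = n90003 := (((D90003).symm.trans (sb E33620 (iv2 F145456)))).symm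
theorem F294185 : act 4 n42065 = n20943 := (sb E33620 (iv4 D44089))
theorem F294186 : act 6 n42065 = n89926 := (sb E33620 (iv6 F138099))
theorem F294187 : act 3 n98593 = n47903 := (sb E33624 F158660)
theorem F294188 : act 6 n98593 = n47901 := (sb E33624 (iv6 D103371))
theorem F294189 : act 5 n95442 = n47903 := (sb E33625 (iv5 D103374))
theorem F294190 : act 3 n43939 = n88760 := (sb E33626 (iv3 D186326))
theorem F294191 : act 4 n45475 = n52162 := (sb E33629 F172087)
theorem E35595 : n97382 = n51185 := ((D97382).symm.trans (sb E33629 (iv6 D111002)))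
theorem E35597 : n176859 = n97415 := (((D97415).symm.trans (sb E33631 F276232))).symm
theorem F294192 : act 5 n88710 = n44824 := (sb E33632 (iv5 D96058))
theorem F294193 : act 4 n46080 = n88760 := (sb E33633 F284210)
theorem F294194 : act 0 n87215 = n86950 := (sb E33634 (iv1 F146023))
theorem F294195 : act 1 n87215 = n86949 := (sb E33634 F146022)
theorem E35600 : n93115 = n81874 := (((iv3 F143598)).symm.trans (sb E33634 F146018))
theorem F294196 : act 7 n87215 = n81866 := (sb E33634 F146021)
theorem F294197 : act 0 n87213 = n81866 := (sb E33635 F148780)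
theorem E35601 : n93235 = n41654 := ((F143811).symm.trans (sb E33635 (iv3 D89169)))
theorem E35602 : n182690 = n159831 := ((D182690).symm.trans (sb E33635 F251925))
theorem F294198 : act 1 n87214 = n81866 := (sb E33636 (iv0 F146017))
theorem E35603 : n186447 = n182694 := (((D182694).symm.trans (sb E33636 (iv3 F289256)))).symm
theorem E35604 : n182695 = n94131 := ((D182695).symm.trans (sb E33636 (iv4 F146015)))
theorem E35605 : n184522 = n182697 := (((D182697).symm.trans (sb E33636 F286452))).symm
theorem F294199 : act 7 n87216 = n86951 := (sb E33637 F146025)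
theorem F294200 : act 3 n43946 = n46961 := (sb E33638 (iv3 D100696))
theorem F294201 : act 5 n92974 = n46961 := (sb E33639 (iv5 D100698))
theorem F294202 : act 6 n94457 = n46961 := (sb E33640 (iv6 D100699))
theorem F294203 : act 2 n90136 = n46960 := (sb E33641 (iv2 D100690))
theorem F294204 : act 7 n90136 = n46961 := (sb E33641 (iv7 F154805))
theorem F294205 : act 1 n10867 = n9822 := (sb E33648 (iv0 D20727))
theorem F294206 : act 0 n10872 = n9822 := (sb E33649 (iv1 D20728))
theorem F294207 : act 3 n47942 = n46947 := (sb E33656 F144314)
theorem E35639 : n102525 = n91221 := ((D102525).symm.trans (sb E33657 (iv6 F140259)))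
theorem F294208 : act 0 n93216 = n82486 := (sb E33667 (iv1 F147784))
theorem F294209 : act 2 n93216 = n82488 := (sb E33667 F270459)
theorem F294211 : act 7 n93216 = n82487 := (sb E33667 F270460)
theorem F294212 : act 1 n93217 = n82486 := (sb E33668 (iv0 F147786))
theorem F294213 : act 2 n93217 = n82487 := (sb E33668 F270457)
theorem F294214 : act 3 n93217 = n183231 := (sb E33668 (iv3 F284879))
theorem F294215 : act 4 n93217 = n95503 := (sb E33668 (iv4 F147785))
theorem F294216 : act 7 n93217 = n82488 := (sb E33668 F270458)
theorem F294217 : act 0 n93208 = n82488 := (sb E33669 (iv1 F147791))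
theorem F294218 : act 1 n93208 = n82487 := (sb E33669 F147790)
theorem F294219 : act 3 n93208 = n89159 := (sb E33669 F147787)
theorem E35643 : n89101 = n43606 := ((((iv6 D93208)).symm.trans (sb E33669 F147788))).symm
theorem F294221 : act 7 n93208 = n82486 := (sb E33669 F147789)
theorem F294222 : act 0 n93218 = n100855 := (sb E33670 F155008)
theorem F294223 : act 7 n93218 = n82489 := (sb E33670 F147793)
theorem E35644 : n89099 = n43604 := (((D43604).symm.trans (sb E33671 (iv1 F136811)))).symm
theorem E35645 : n89098 = n43605 := (((D43605).symm.trans (sb E33671 F136814))).symm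
theorem E35646 : n89124 = n43608 := (((D43608).symm.trans (sb E33671 (iv5 F136835)))).symm
theorem F294224 : act 7 n20629 = n19604 := (sb E33671 (iv7 D41638))
theorem F294225 : act 4 n89195 = n43613 := (sb E33672 (iv4 D93226))
theorem F294226 : act 2 n93222 = n89197 := (sb E33673 F147794)
theorem F294227 : act 7 n93222 = n101538 := (sb E33673 (iv7 F156344))
theorem F294228 : act 7 n20630 = n19608 := (sb E33674 (iv7 D41646))
theorem E35648 : n182507 = n91183 := (((D91183).symm.trans (sb E35090 (iv6 F284026)))).symm
theorem F294229 : act 0 n20611 = n10027 := (sb E33676 (iv1 D21080))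
theorem F294230 : act 6 n20611 = n20885 := (sb E33676 (iv6 F65809))
theorem F294231 : act 5 n93103 = n46491 := (sb E33678 F153171)
theorem F294232 : act 7 n93103 = n46490 := (sb E33678 (iv7 D99436))
theorem F294233 : act 2 n93104 = n47058 := (sb E33679 F153198)
theorem F294234 : act 5 n93104 = n47124 := (sb E33679 F153199)
theorem E35679 : n93582 = n41841 := (((D41841).symm.trans (sb E33762 D93582))).symm
theorem F294235 : act 6 n23163 = n40410 := (sb E33780 (iv6 F293217))
theorem F294236 : act 0 n8974 = n4565 := (sb E33784 (iv1 F292904))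
theorem F294237 : act 1 n43861 = n43173 := (sb E33799 (iv0 D92322))
theorem F294238 : act 2 n92323 = n44076 := (sb E33800 F151944)
theorem F294239 : act 3 n92323 = n98564 := (sb E33800 (iv3 F151942))
theorem E35727 : n186450 = n182605 := ((((iv4 F284116)).symm.trans (sb E33800 (iv4 F289265)))).symm
theorem F294240 : act 6 n92323 = n93805 := (sb E33800 F157565)
theorem F294241 : act 7 n92323 = n44048 := (sb E33800 F157566)
theorem F294242 : act 3 n92324 = n44088 := (sb E33801 F145119)
theorem E35728 : n184405 = n98658 := (((D98658).symm.trans (sb E33802 F286332))).symm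
theorem F294243 : act 7 n90875 = n46510 := (sb E33806 (iv7 D99491))
theorem F294244 : act 0 n90699 = n47120 := (sb E33807 (iv1 F153274))
theorem F294245 : act 1 n90699 = n47119 := (sb E33807 F153275)
theorem F294246 : act 2 n90699 = n47123 := (sb E33807 F153272)
theorem F294247 : act 7 n90699 = n46517 := (sb E33807 (iv7 D99510))
theorem F294248 : act 2 n90879 = n47124 := (sb E33808 F153276)
theorem F294249 : act 5 n90879 = n47058 := (sb E33808 F153277)
theorem E35730 : n87647 = n9024 := (((D9024).symm.trans (sb E33813 D87647))).symm
theorem E35731 : n19250 = n9025 := (((D9025).symm.trans (sb E33813 (iv6 D40836)))).symm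
theorem F294250 : act 5 n4054 = n4701 := (sb E33814 (iv5 D10382))
theorem F294251 : act 0 n47996 = n103346 := (sb E33817 (iv1 F158611))
theorem F294252 : act 5 n103789 = n103343 := (sb E33818 F286581)
theorem F294253 : act 2 n19191 = n9822 := (sb E33819 (iv2 D20729))
theorem F294254 : act 5 n9817 = n9822 := (sb E33820 (iv5 D20730))
theorem E35745 : n184169 = n103868 := (((D103868).symm.trans (sb E33824 D184169))).symm
theorem F294255 : act 5 n48090 = n86881 := (sb E33825 F134812)
theorem E35748 : n184180 = n103883 := (((D103883).symm.trans (sb E33825 D184180))).symm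
theorem F294256 : act 4 n103790 = n103346 := (sb E33826 F286577)
theorem F294257 : act 5 n103790 = n104189 := (sb E33826 F286576)
theorem F294258 : act 2 n22763 = n43646 := (sb E33831 F138640)
theorem E35749 : n93292 = n47384 := (((D47384).symm.trans (sb E33831 (iv6 F143873)))).symm
theorem F294259 : act 4 n90090 = n88234 := (sb E33832 F287489)
theorem F294260 : act 6 n90092 = n47196 := (sb E33834 (iv6 D101405))
theorem F294261 : act 1 n90093 = n170767 := (sb E33835 F290098)
theorem F294262 : act 5 n90094 = n47200 := (sb E33837 F146146)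
theorem F294263 : act 5 n104724 = n88413 := (sb E33842 (iv5 D185611))
theorem E35752 : n104159 = n97422 := ((((iv2 F150168)).symm.trans (sb E33843 D104159))).symm
theorem E35760 : n185534 = n44852 := ((((iv0 F145497)).symm.trans (sb E33854 D185534))).symm
theorem F294265 : act 5 n9981 = n9023 := (sb E33858 (iv5 D19200))
theorem F294266 : act 0 n90219 = n185438 := (sb E33867 (iv1 F287705))
theorem E35774 : n185367 = n44563 := (((F138789).symm.trans (sb E33867 F289974))).symm
theorem F294267 : act 5 n90219 = n87380 := (sb E33867 F289975)
theorem F294268 : act 0 n90220 = n47566 := (sb E33868 (iv1 D102555))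
theorem F294269 : act 5 n90220 = n98404 := (sb E33868 (iv5 F289996))
theorem F294270 : act 6 n90220 = n100026 := (sb E33868 (iv6 F290025))
theorem F294271 : act 4 n88932 = n157933 := (sb E33869 F248830)
theorem F294272 : act 5 n88932 = n42170 := (sb E33869 (iv5 D90221))
theorem F294273 : act 6 n47562 = n42170 := (sb E33870 (iv6 D90222))
theorem E35775 : n99999 = n44562 := (((iv3 F153946)).symm.trans (sb E33871 (iv3 F138792)))
theorem F294274 : act 4 n46704 = n42171 := (sb E33871 (iv4 D90225))
theorem E35776 : n166894 = n98405 := (((F151823).symm.trans (sb E33871 (iv5 F262751)))).symm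
theorem F294275 : act 5 n88933 = n42171 := (sb E33872 (iv5 D90226))
theorem F294276 : act 6 n46702 = n42171 := (sb E33873 (iv6 D90227))
theorem F294277 : act 2 n90229 = n88930 := (sb E33874 F152068)
theorem F294278 : act 3 n90229 = n183004 := (sb E33874 (iv3 F284606))
theorem E35777 : n93129 = n90229 := ((D93129).symm.trans (iv5 (sb E33874 (tr (iv5 D98437) E35559))))
theorem F294279 : act 7 n90229 = n88926 := (sb E33874 (iv7 F152069))
theorem F294280 : act 2 n90230 = n88926 := (sb E33875 F152070)
theorem E35778 : n93134 = n90230 := ((D93134).symm.trans (iv5 (sb E33875 (tr (iv5 D98419) E35560))))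
theorem F294281 : act 7 n90230 = n88930 := (sb E33875 F152067)
theorem E35779 : n99031 = n88980 := (((iv4 F152565)).symm.trans (iv4 (sb E33877 (tr (iv4 F142551) E34184))))
theorem F294282 : act 4 n41425 = n22151 := (sb E33878 (iv4 D46322))
theorem E35782 : n99020 = n88739 := (((D88739).symm.trans (sb E33878 D99020))).symm
theorem E35784 : n99000 = n88974 := (((D88974).symm.trans (sb E33881 D99000))).symm
theorem F294283 : act 2 n46315 = n88739 := (sb E33882 F138799)
theorem F294284 : act 3 n48326 = n48554 := (sb E33889 F160970)
theorem F294285 : act 0 n105066 = n87014 := (sb E33891 F283619)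
theorem F294286 : act 1 n105066 = n87028 := (sb E33891 F283620)
theorem F294287 : act 2 n105066 = n185065 := (sb E33891 (iv2 F287448))
theorem F294288 : act 5 n105066 = n102384 := (sb E33891 F283617)
theorem F294289 : act 7 n105066 = n93448 := (sb E33891 F283618)
theorem F294290 : act 2 n105056 = n185418 := (sb E33892 (iv2 F287648))
theorem F294291 : act 5 n90187 = n99070 := (sb E33895 F285559)
theorem F294292 : act 6 n90187 = n185416 := (sb E33895 F288157)
theorem F294293 : act 5 n90188 = n99071 := (sb E33896 (iv5 F157304))
theorem F294294 : act 6 n90188 = n45725 := (sb E33896 (iv6 D97963))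
theorem F294295 : act 1 n87437 = n42255 := (sb E33897 F138655)
theorem F294296 : act 2 n87437 = n42159 := (sb E33897 (iv2 D90189))
theorem E35791 : n183180 = n91217 := ((D183180).symm.trans (sb E33897 (iv5 F140253)))
theorem E35792 : n92660 = n91215 := (((D91215).symm.trans (sb E33898 (tr (iv1 F289252) E35200)))).symm
theorem E35793 : n92665 = n91216 := (((D91216).symm.trans (sb E33898 (tr (iv0 F288477) E35204)))).symm
theorem F294297 : act 6 n47553 = n42159 := (sb E33899 (iv6 D90190))
theorem F294298 : act 5 n981 = n642 := (sb E33945 (iv5 D998))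
theorem E35850 : n38121 = n1983 := (((F293285).symm.trans (sb E33954 (iv5 F58940)))).symm
theorem E35851 : n38016 = n4552 := (((D4552).symm.trans (sb E33955 D38016))).symm
theorem E35853 : n38106 = n3772 := ((((iv4 F293608)).symm.trans (sb E33956 (iv4 F58907)))).symm
theorem E35854 : n22061 = n9981 := (((D9981).symm.trans (sb E33957 D22061))).symm
theorem E35865 : n87126 = n47156 := (((D47156).symm.trans (sb E33972 (iv5 D182498)))).symm
theorem F294299 : act 0 n40373 = n45032 := (sb E33973 (iv1 F70869))
theorem F294300 : act 1 n40373 = n19130 := (sb E33973 (iv0 D40479))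
theorem F294301 : act 2 n40373 = n40520 := (sb E33973 (iv2 F61654))
theorem F294302 : act 7 n40373 = n40517 := (sb E33973 (iv7 F61650))
theorem E35866 : n93114 = n81871 := (((D81871).symm.trans (sb E33974 (iv1 F143602)))).symm
theorem E35867 : n93113 = n81872 := (((D81872).symm.trans (sb E33974 F143597))).symm
theorem E35868 : n182723 = n81873 := (((D81873).symm.trans (sb E33974 D182723))).symm
theorem F294303 : act 0 n170756 = n182701 := (sb E33975 (iv1 F284277))
theorem F294304 : act 1 n170756 = n182700 := (sb E33975 F284276)
theorem F294305 : act 7 n170756 = n182698 := (sb E33975 (iv7 F284272))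
theorem F294306 : act 0 n182058 = n182698 := (sb E33976 F289007)
theorem F294307 : act 5 n182058 = n87095 := (sb E33976 (iv5 D182408))
theorem F294308 : act 1 n182059 = n182698 := (sb E33977 F284273)
theorem F294309 : act 7 n182060 = n182702 := (sb E33978 (iv7 F284278))
theorem F294310 : act 5 n1945 = n4048 := (sb E33992 (iv5 D9019))
theorem E35892 : n44184 = n10543 := (((D10543).symm.trans (sb E33993 D44184))).symm
theorem F294311 : act 5 n995 = n1903 := (sb E34002 (iv5 D4576))
theorem F294312 : act 5 n103806 = n88022 := (sb E34004 (iv5 D184588))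
theorem E35903 : n184222 = n88020 := (((D88020).symm.trans (sb E34005 (iv1 F286132)))).symm
theorem F294313 : act 5 n41099 = n48061 := (sb E34005 (iv5 D103807))
theorem F294314 : act 5 n91359 = n48053 := (sb E34007 (iv5 D103792))
theorem F294315 : act 0 n103630 = n91279 := (sb E34008 F159731)
theorem F294316 : act 1 n103630 = n91302 := (sb E34008 F159732)
theorem F294317 : act 5 n103630 = n48213 := (sb E34008 (iv5 D104195))
theorem F294318 : act 5 n103909 = n87818 := (sb E34009 (iv5 D184113))
theorem F294319 : act 0 n40918 = n48072 := (sb E34010 (iv1 D103846))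
theorem F294320 : act 1 n40918 = n48137 := (sb E34010 F159256)
theorem F294321 : act 5 n40918 = n48106 := (sb E34010 F159257)
theorem F294322 : act 0 n103626 = n91302 := (sb E34012 F159747)
theorem F294323 : act 1 n103626 = n91279 := (sb E34012 F159748)
theorem F294324 : act 5 n103626 = n87820 := (sb E34012 F159745)
theorem F294325 : act 0 n91344 = n48137 := (sb E34014 (iv1 F159255))
theorem F294326 : act 1 n91344 = n48072 := (sb E34014 (iv0 D103845))
theorem F294327 : act 5 n91344 = n48089 := (sb E34014 F159253)
theorem F294328 : act 2 n91355 = n87936 := (sb E34046 (iv2 D184378))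
theorem E35918 : n93538 = n42769 := (((D42769).symm.trans (sb E34048 D93538))).symm
theorem E35922 : n43633 = n40650 := (((iv2 F68568)).symm.trans (sb E34053 (iv2 F66324)))
theorem E35923 : n43976 = n43636 := (((D43636).symm.trans (sb E34053 D43976))).symm
theorem E35924 : n43977 = n43637 := (((D43637).symm.trans (sb E34053 D43977))).symm
theorem F294329 : act 2 n19189 = n9780 := (sb E34057 (iv2 D20637))
theorem F294330 : act 0 n10447 = n9780 := (sb E34058 (iv1 D20636))
theorem E35933 : n43629 = n21900 := ((((iv3 F34391)).symm.trans (sb E34058 D43629))).symm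
theorem F294331 : act 0 n48081 = n91290 := (sb E34059 (iv1 F140358))
theorem F294332 : act 1 n48081 = n91287 := (sb E34059 (iv0 F140351))
theorem E35937 : n184100 = n103854 := (((D103854).symm.trans (sb E34059 (iv4 F286049)))).symm
theorem F294333 : act 0 n44921 = n91287 := (sb E34060 (iv1 F140352))
theorem F294334 : act 1 n44921 = n91290 := (sb E34060 F140542)
theorem E35940 : n184094 = n96211 := (((D96211).symm.trans (sb E34060 (iv4 F286047)))).symm
theorem E35942 : n88397 = n45519 := ((((iv6 D97471)).symm.trans (sb E34065 (iv6 D185570)))).symm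
theorem E35943 : n88395 = n45362 := ((((iv1 F71795)).symm.trans (sb E34067 D88395))).symm
theorem E35944 : n88396 = n45518 := (((D45518).symm.trans (sb E34067 D88396))).symm
theorem F294335 : act 4 n89934 = n104040 := (sb E34072 (iv4 F159534))
theorem F294336 : act 1 n44615 = n42931 := (sb E34073 (iv0 D91839))
theorem F294337 : act 0 n44614 = n42931 := (sb E34074 (iv1 D91840))
theorem F294338 : act 2 n44617 = n42931 := (sb E34075 (iv2 D91841))
theorem F294339 : act 0 n93203 = n183117 := (sb E34098 F284735)
theorem F294340 : act 1 n93203 = n95779 := (sb E34098 (iv0 F157245))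
theorem F294341 : act 2 n93203 = n89113 := (sb E34098 (iv2 F270474))
theorem F294342 : act 3 n93203 = n45078 := (sb E34098 (iv3 D96536))
theorem F294343 : act 7 n93203 = n89118 := (sb E34098 (iv7 F270473))
theorem F294344 : act 5 n1946 = n1755 := (sb E34101 (iv5 D4061))
theorem F294345 : act 2 n78558 = n45450 := (sb E34104 F148721)
theorem F294346 : act 4 n78558 = n45084 := (sb E34104 (iv4 D96561))
theorem E35957 : n90840 = n46707 := ((D90840).symm.trans (sb E34105 F73822))
theorem E35958 : n90841 = n46702 := ((D90841).symm.trans (sb E34105 (iv0 F73819)))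
theorem F294347 : act 6 n42551 = n22399 := (sb E34105 F73361)
theorem F294348 : act 7 n42551 = n22261 := (sb E34105 (iv7 D46461))
theorem F294349 : act 2 n42465 = n48149 := (sb E34114 (iv2 F75652))
theorem F294350 : act 4 n42465 = n22570 := (sb E34114 (iv4 D46942))
theorem E35976 : n100646 = n90717 := (((D90717).symm.trans (sb E34114 D100646))).symm
theorem F294351 : act 6 n19286 = n20144 := (sb E34117 F66414)
theorem F294352 : act 3 n20170 = n20099 := (sb E34118 F66415)
theorem E35991 : n90909 = n42724 := (((D42724).symm.trans (sb E34118 D90909))).symm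
theorem E35992 : n100605 = n90916 := (((D90916).symm.trans (sb E34119 D100605))).symm
theorem F294353 : act 7 n42583 = n48149 := (sb E34119 (iv7 F75653))
theorem E35996 : n100609 = n90920 := (((D90920).symm.trans (sb E34120 D100609))).symm
theorem F294354 : act 2 n40910 = n43000 := (sb E34139 F138426)
theorem F294355 : act 7 n40910 = n42999 := (sb E34139 F138427)
theorem F294356 : act 5 n40631 = n43000 := (sb E34140 (iv5 D91995))
theorem F294357 : act 6 n23346 = n43000 := (sb E34141 (iv6 D91996))
theorem F294358 : act 0 n91011 = n91058 := (sb E34142 (iv1 F142593))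
theorem F294359 : act 1 n91011 = n43308 := (sb E34142 (iv0 D92565))
theorem F294360 : act 7 n46284 = n91011 := (sb E34144 F143703)
theorem F294361 : act 0 n91016 = n43308 := (sb E34145 (iv1 D92566))
theorem F294362 : act 1 n91016 = n91058 := (sb E34145 F142594)
theorem F294363 : act 2 n91016 = n46284 := (sb E34145 F293400)
theorem E36000 : n92003 = n86942 := ((F141505).symm.trans (sb E34145 F293401))
theorem F294364 : act 2 n46286 = n91011 := (sb E34147 F143705)
theorem F294365 : act 7 n46286 = n91016 := (sb E34147 F143706)
theorem E36001 : n87117 = n47420 := (((F135285).symm.trans (sb E34148 F141500))).symm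
theorem F294366 : act 5 n91992 = n87419 := (sb E34153 F151250)
theorem F294367 : act 7 n91992 = n87801 := (sb E34153 F151251)
theorem F294368 : act 5 n40630 = n42999 := (sb E34154 (iv5 D91993))
theorem F294369 : act 6 n44551 = n42999 := (sb E34155 (iv6 D91994))
theorem F294370 : act 4 n22827 = n20143 := (sb E34156 (iv4 D42686))
theorem E36005 : n93695 = n87429 := ((((iv4 F134185)).symm.trans (sb E34159 D93695))).symm
theorem E36007 : n93726 = n86946 := (((D86946).symm.trans (sb E34160 D93726))).symm
theorem F294371 : act 1 n44568 = n44294 := (sb E34161 (iv0 D94807))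
theorem F294372 : act 6 n88328 = n45031 := (sb E34175 (iv6 D96445))
theorem E36009 : n99070 = n93286 := (((D93286).symm.trans (sb E34179 D99070))).symm
theorem E36010 : n99071 = n93287 := (((D93287).symm.trans (sb E34179 D99071))).symm
theorem E36011 : n94099 = n93288 := (((D93288).symm.trans (sb E34179 (iv2 F145007)))).symm
theorem F294373 : act 5 n43638 = n22191 := (sb E34179 (iv5 D46341))
theorem E36013 : n99073 = n93289 := (((D93289).symm.trans (sb E34179 D99073))).symm
theorem E36014 : n99078 = n93290 := (((D93290).symm.trans (sb E34180 D99078))).symm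
theorem E36015 : n99079 = n93291 := (((D93291).symm.trans (sb E34180 D99079))).symm
theorem E36016 : n99080 = n93293 := (((D93293).symm.trans (sb E34180 D99080))).symm
theorem F294374 : act 4 n22146 = n41540 := (sb E34182 (iv4 D88973))
theorem E36020 : n22155 = n20630 := ((D22155).symm.trans (sb E34183 (iv4 F32744)))
theorem E36021 : n43597 = n22141 := ((((iv6 F34606)).symm.trans (sb E34183 D43597))).symm
theorem F294375 : act 7 n10557 = n20123 := (sb E34183 F32732)
theorem F294376 : act 0 n88971 = n92040 := (sb E34192 F141536)
theorem E36034 : n97797 = n43348 := ((((iv3 F68062)).symm.trans (sb E34194 D97797))).symm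
theorem E36042 : n94595 = n4824 := (((D4824).symm.trans (sb E34200 (iv6 F145825)))).symm
theorem E36043 : n21018 = n4827 := (((D4827).symm.trans (sb E34201 D21018))).symm
theorem F294377 : act 4 n45811 = n42684 := (sb E34216 (iv4 F135696))
theorem F294378 : act 5 n45811 = n42681 := (sb E34216 (iv5 F135660))
theorem F294379 : act 7 n45811 = n42681 := (sb E34216 (iv7 F135693))
theorem F294380 : act 5 n43997 = n42684 := (sb E34219 F140207)
theorem F294381 : act 7 n43997 = n42682 := (sb E34219 (iv7 D91155))
theorem F294382 : act 6 n41172 = n42684 := (sb E34220 (iv6 D91160))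
theorem F294383 : act 6 n92700 = n86875 := (sb E34227 (iv6 D181891))
theorem F294384 : act 3 n104857 = n185682 := (sb E34228 (iv3 F287985))
theorem F294385 : act 4 n104857 = n87175 := (sb E34228 (iv4 D182591))
theorem F294386 : act 7 n104857 = n96472 := (sb E34228 F284091)
theorem F294387 : act 2 n88784 = n94446 := (sb E34234 (iv2 F291609))
theorem E36046 : n186389 = n88617 := ((D186389).symm.trans (sb E34234 (iv5 D186046)))
theorem E36047 : n186357 = n89017 := ((D186357).symm.trans (sb E34235 (iv1 F144825)))
theorem E36048 : n186358 = n89016 := ((D186358).symm.trans (sb E34235 F144824))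
theorem E36049 : n186359 = n43935 := ((D186359).symm.trans (sb E34235 (iv2 D93996)))
theorem F294388 : act 7 n88774 = n89015 := (sb E34235 F144823)
theorem E36050 : n186362 = n89201 := ((D186362).symm.trans (sb E34236 (iv1 F144930)))
theorem E36051 : n186363 = n89200 := ((D186363).symm.trans (sb E34236 F144929))
theorem E36052 : n186364 = n94105 := ((D186364).symm.trans (sb E34236 (iv3 F145027)))
theorem F294389 : act 7 n88775 = n89199 := (sb E34236 F144928)
theorem F294390 : act 4 n41677 = n41447 := (sb E34237 (iv4 D88780))
theorem E36053 : n91177 = n89202 := (((D89202).symm.trans (sb E34237 (iv5 F140227)))).symm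
theorem F294391 : act 7 n41677 = n43624 := (sb E34237 (iv7 F141305))
theorem F294392 : act 6 n20390 = n41447 := (sb E34238 (iv6 D88782))
theorem F294393 : act 2 n22347 = n42681 := (sb E34247 (iv2 F135692))
theorem F294394 : act 2 n41182 = n42682 := (sb E34248 F140187)
theorem E36060 : n94069 = n93261 := (((D93261).symm.trans (sb E34250 D94069))).symm
theorem E36061 : n94070 = n93262 := (((D93262).symm.trans (sb E34250 D94070))).symm
theorem F294395 : act 4 n41108 = n42551 := (sb E34252 F139817)
theorem F294396 : act 1 n22329 = n19129 := (sb E34254 (iv0 D40475))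
theorem F294397 : act 4 n22329 = n42994 := (sb E34254 (iv4 F135648))
theorem F294398 : act 0 n22783 = n19129 := (sb E34255 (iv1 D40476))
theorem F294399 : act 2 n22439 = n19129 := (sb E34256 (iv2 D40477))
theorem E36066 : n87120 = n41672 := (((F66130).symm.trans (sb E34256 D87120))).symm
theorem E36067 : n87121 = n37856 := ((D87121).symm.trans (sb E34257 F70518))
theorem E36068 : n87122 = n41674 := ((D87122).symm.trans (sb E34257 F70519))
theorem E36069 : n87123 = n46106 := ((D87123).symm.trans (sb E34257 (iv4 F72683)))
theorem F294400 : act 7 n40478 = n41671 := (sb E34257 F70517)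
theorem F294401 : act 0 n96441 = n46776 := (sb E34261 F289283)
theorem F294402 : act 5 n96441 = n98647 := (sb E34261 F157666)
theorem F294403 : act 6 n96441 = n102521 := (sb E34261 F161655)
theorem F294404 : act 7 n96441 = n46573 := (sb E34261 (iv7 D99664))
theorem F294405 : act 1 n96442 = n46776 := (sb E34262 F289282)
theorem F294406 : act 2 n96442 = n46573 := (sb E34262 F153420)
theorem F294407 : act 5 n96442 = n98646 := (sb E34262 (iv5 F157663))
theorem F294408 : act 6 n96442 = n46543 := (sb E34262 (iv6 D99584))
theorem F294409 : act 0 n46120 = n87053 := (sb E34263 (iv1 F148506))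
theorem F294410 : act 2 n46120 = n45031 := (sb E34263 (iv2 D96443))
theorem F294411 : act 0 n96444 = n186454 := (sb E34264 (iv1 F289280))
theorem F294412 : act 1 n96444 = n185978 := (sb E34264 (iv0 F288472))
theorem F294413 : act 2 n96444 = n98662 := (sb E34264 F283466)
theorem F294414 : act 5 n96446 = n185418 := (sb E34266 (iv5 F287649))
theorem F294415 : act 2 n100841 = n87104 := (sb E34267 (iv2 D182433))
theorem F294416 : act 7 n100841 = n87105 := (sb E34267 (iv7 F283980))
theorem F294417 : act 6 n182434 = n88039 := (sb E34268 (iv6 D184635))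
theorem F294418 : act 0 n91161 = n88229 := (sb E34269 F290082)
theorem F294419 : act 2 n91161 = n88235 := (sb E34269 F289938)
theorem F294420 : act 6 n91161 = n46642 := (sb E34269 (iv6 D99872))
theorem F294421 : act 7 n91161 = n88234 := (sb E34269 F289939)
theorem F294423 : act 5 n170774 = n87104 := (sb E34270 (iv5 D182435))
theorem F294424 : act 6 n41105 = n87104 := (sb E34271 (iv6 D182436))
theorem F294425 : act 2 n90090 = n87105 := (sb E34272 F283983)
theorem F294426 : act 7 n90090 = n87104 := (sb E34272 (iv7 D182437))
theorem F294427 : act 3 n21394 = n19147 := (sb E34273 F61660)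
theorem E36075 : n87242 = n44867 := (((D44867).symm.trans (sb E34273 D87242))).symm
theorem E36076 : n87243 = n44868 := (((D44868).symm.trans (sb E34273 D87243))).symm
theorem E36077 : n94733 = n87244 := (((D87244).symm.trans (sb E34274 D94733))).symm
theorem F294428 : act 7 n40526 = n44294 := (sb E34274 (iv7 F69716))
theorem E36082 : n94738 = n87248 := (((D87248).symm.trans (sb E34275 D94738))).symm
theorem F294429 : act 7 n87596 = n87183 := (sb E34276 F148477)
theorem F294430 : act 2 n39872 = n44294 := (sb E34277 F134471)
theorem F294431 : act 4 n39872 = n40808 := (sb E34277 (iv4 D87598))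
theorem E36085 : n183531 = n86141 := (((D86141).symm.trans (sb E34277 D183531))).symm
theorem F294432 : act 7 n96442 = n87053 := (sb E34281 (iv7 F283850))
theorem F294433 : act 1 n99658 = n182299 := (sb E34282 (iv0 F283852))
theorem F294434 : act 2 n96441 = n87053 := (sb E34285 F283853)
theorem F294435 : act 6 n99650 = n87053 := (sb E34286 (iv6 D182319))
theorem F294436 : act 2 n89192 = n87055 := (sb E34287 F283855)
theorem F294437 : act 1 n88808 = n87055 := (sb E34289 (iv0 D182321))
theorem F294438 : act 0 n98641 = n87055 := (sb E34290 (iv1 D182322))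
theorem E36086 : n182727 = n56626 := ((D182727).symm.trans (sb E34294 F136396))
theorem E36087 : n180326 = n88102 := ((D180326).symm.trans (sb E34295 F136409))
theorem F294439 : act 6 n41135 = n40520 := (sb E34296 (iv6 D87228))
theorem F294440 : act 0 n40771 = n48550 := (sb E34299 F132086)
theorem F294441 : act 1 n40771 = n58711 := (sb E34299 F132087)
theorem E36091 : n180339 = n87592 := (((D87592).symm.trans (sb E34299 (iv3 F280643)))).symm
theorem E36092 : n87593 = n39869 := ((D87593).symm.trans (sb E34299 (iv5 D86132)))
theorem F294442 : act 5 n93331 = n87056 := (sb E34304 F158359)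
theorem F294443 : act 2 n96156 = n185594 := (sb E34305 (iv2 F287917))
theorem F294444 : act 4 n96156 = n89989 := (sb E34305 F160959)
theorem F294445 : act 1 n47381 = n23704 := (sb E34306 (iv0 D48616))
theorem F294446 : act 5 n47381 = n42994 := (sb E34306 (iv5 F135649))
theorem F294447 : act 7 n47381 = n42994 := (sb E34306 F133941)
theorem F294448 : act 3 n89191 = n48551 := (sb E34316 F160969)
theorem F294449 : act 1 n99663 = n87183 := (sb E34320 (iv0 D182615))
theorem F294450 : act 2 n46113 = n87183 := (sb E34321 F284118)
theorem E36102 : n87182 = n22037 := ((((iv5 D46113)).symm.trans (sb E34321 (iv5 D182614)))).symm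
theorem E36103 : n88809 = n87180 := (((D87180).symm.trans (sb E34322 (iv1 F157597)))).symm
theorem E36104 : n88589 = n87181 := (((D87181).symm.trans (sb E34322 (iv0 F157593)))).symm
theorem F294451 : act 7 n40499 = n40807 := (sb E34322 F69634)
theorem F294452 : act 0 n44513 = n44294 := (sb E34323 (iv1 D94808))
theorem F294453 : act 2 n99896 = n48138 := (sb E34325 F159031)
theorem F294454 : act 5 n99896 = n87184 := (sb E34325 F159032)
theorem F294455 : act 5 n94809 = n81502 := (sb E34330 F160901)
theorem F294456 : act 5 n37215 = n44294 := (sb E34331 (iv5 D94810))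
theorem F294457 : act 0 n40762 = n40447 := (sb E34338 (iv1 F70900))
theorem F294458 : act 1 n40762 = n21512 := (sb E34338 (iv0 D45047))
theorem F294459 : act 2 n40762 = n44566 := (sb E34338 (iv2 F70901))
theorem F294460 : act 4 n40762 = n81514 := (sb E34338 (iv4 F125365))
theorem E36111 : n96484 = n87576 := (((D87576).symm.trans (sb E34338 D96484))).symm
theorem F294461 : act 7 n40762 = n44567 := (sb E34338 (iv7 F70902))
theorem F294462 : act 0 n40767 = n21512 := (sb E34342 (iv1 D45048))
theorem F294463 : act 1 n40767 = n40447 := (sb E34342 F70903)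
theorem F294464 : act 2 n40767 = n44567 := (sb E34342 (iv2 F70906))
theorem E36113 : n96485 = n87580 := ((((iv3 F134463)).symm.trans (sb E34342 D96485))).symm
theorem F294465 : act 4 n40767 = n81513 := (sb E34342 (iv4 F125363))
theorem E36114 : n96486 = n87583 := (((D87583).symm.trans (sb E34342 D96486))).symm
theorem F294466 : act 7 n40767 = n44566 := (sb E34342 F70904)
theorem F294467 : act 3 n45044 = n22887 := (sb E34345 (iv3 D47599))
theorem F294468 : act 4 n45044 = n48472 := (sb E34345 (iv4 F76239))
theorem E36115 : n96476 = n89068 := ((D96476).symm.trans (sb E34345 (iv5 F136759)))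
theorem E36116 : n96477 = n88374 := ((D96477).symm.trans (sb E34345 (iv6 F135337)))
theorem E36117 : n96480 = n46089 := ((((iv1 D98590)).symm.trans (sb E34346 (iv1 F284103)))).symm
theorem E36118 : n96479 = n87550 := (((F151986).symm.trans (sb E34346 F284104))).symm
theorem F294470 : act 5 n98590 = n87177 := (sb E34346 (iv5 D182596))
theorem F294471 : act 7 n98590 = n96478 := (sb E34346 F284102)
theorem F294472 : act 2 n46101 = n96473 := (sb E34348 F284095)
theorem F294473 : act 5 n46101 = n87176 := (sb E34348 (iv5 D182594))
theorem F294474 : act 6 n46437 = n87176 := (sb E34349 (iv6 D182595))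
theorem F294475 : act 5 n87552 = n87175 := (sb E34350 (iv5 D182592))
theorem F294476 : act 7 n87552 = n96473 := (sb E34350 F284093)
theorem F294477 : act 0 n182593 = n88375 := (sb E34351 (iv1 F285746))
theorem F294478 : act 1 n182593 = n87725 := (sb E34351 (iv0 D183904))
theorem F294479 : act 5 n182593 = n182265 := (sb E34351 (iv5 F287801))
theorem F294480 : act 7 n182593 = n88373 := (sb E34351 F285748)
theorem F294481 : act 3 n102565 = n88617 := (sb E34354 (iv3 D186045))
theorem F294482 : act 7 n102565 = n102856 := (sb E34354 F288648)
theorem F294483 : act 6 n21881 = n42681 := (sb E34356 (iv6 D91151))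
theorem F294484 : act 2 n42483 = n20308 := (sb E34365 (iv2 D43017))
theorem F294485 : act 1 n37861 = n42994 := (sb E34375 (iv0 F135646))
theorem F294486 : act 2 n37861 = n23704 := (sb E34375 (iv2 D48618))
theorem F294487 : act 6 n22327 = n42994 := (sb E34376 (iv6 D91983))
theorem F294488 : act 5 n19154 = n23704 := (sb E34384 F137553)
theorem F294489 : act 6 n42526 = n23704 := (sb E34385 (iv6 D48621))
theorem E36185 : n102864 = n88776 := ((D102864).symm.trans (sb E34398 (iv1 D186368)))
theorem F294490 : act 1 n47705 = n88781 := (sb E34398 F289159)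
theorem F294491 : act 0 n186050 = n88781 := (sb E34399 (iv1 F289158))
theorem F294492 : act 6 n52122 = n88781 := (sb E34400 (iv6 D186379))
theorem E36206 : n185112 = n91084 := ((((iv0 F288890)).symm.trans (sb E34410 F287486))).symm
theorem E36207 : n185115 = n91163 := (((D91163).symm.trans (sb E34410 (iv2 F287483)))).symm
theorem F294493 : act 4 n42685 = n47566 := (sb E34410 F135168)
theorem E36208 : n94074 = n91165 := (((D91165).symm.trans (sb E34410 (iv5 F144944)))).symm
theorem E36209 : n91166 = n47509 := ((D91166).symm.trans (sb E34410 F135169))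
theorem F294494 : act 7 n42685 = n41177 := (sb E34410 (iv7 D88237))
theorem F294495 : act 5 n103316 = n88068 := (sb E34427 (iv5 D184694))
theorem F294496 : act 4 n91277 = n48122 := (sb E34429 F159247)
theorem F294497 : act 5 n91277 = n48069 := (sb E34429 (iv5 D103835))
theorem F294498 : act 4 n91276 = n48116 := (sb E34430 F159248)
theorem F294499 : act 5 n91276 = n48070 := (sb E34430 (iv5 D103838))
theorem F294500 : act 5 n87587 = n44556 := (sb E34431 (iv5 D95399))
theorem F294501 : act 7 n87587 = n96465 := (sb E34431 (iv7 F148561))
theorem F294502 : act 2 n87588 = n81507 := (sb E34432 F146927)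
theorem F294503 : act 7 n87588 = n81504 := (sb E34432 F146929)
theorem F294504 : act 2 n87589 = n96459 := (sb E34433 (iv2 F148544))
theorem F294505 : act 5 n97430 = n86871 := (sb E34444 (iv5 D181882))
theorem F294506 : act 7 n97430 = n96297 := (sb E34444 F283172)
theorem F294507 : act 2 n97432 = n181932 := (sb E34445 (iv2 F283227))
theorem E36247 : n165987 = n98446 := ((F261395).symm.trans (sb E34454 F289872))
theorem E36248 : n182298 = n88336 := ((D182298).symm.trans (sb E34454 (iv6 D185432)))
theorem E36249 : n182300 = n181982 := ((D182300).symm.trans (sb E34455 F285856))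
theorem E36250 : n182301 = n87762 := ((D182301).symm.trans (sb E34455 (iv6 D183974)))
theorem E36251 : n183027 = n182303 := (((D182303).symm.trans (sb E34456 F290041))).symm
theorem E36252 : n183014 = n182304 := (((D182304).symm.trans (sb E34456 F290042))).symm
theorem E36253 : n182344 = n98446 := ((((iv1 F289978)).symm.trans (sb E34459 D182344))).symm
theorem E36254 : n182345 = n181982 := (((D181982).symm.trans (sb E34459 D182345))).symm
theorem E36255 : n182342 = n181978 := ((((iv2 F283296)).symm.trans (sb E34459 (iv2 F283883)))).symm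
theorem E36256 : n182346 = n181983 := (((D181983).symm.trans (sb E34459 D182346))).symm
theorem F294508 : act 2 n75186 = n40771 := (sb E34460 F133411)
theorem F294509 : act 4 n75186 = n40334 := (sb E34460 (iv4 D86931))
theorem E36259 : n181993 = n157808 := (((D157808).symm.trans (sb E34460 (iv6 F283315)))).symm
theorem E36262 : n182355 = n181994 := (((D181994).symm.trans (sb E34461 D182355))).symm
theorem E36263 : n182384 = n96473 := ((D182384).symm.trans (sb E34462 (iv1 F293520)))
theorem E36264 : n182385 = n89068 := ((D182385).symm.trans (sb E34462 (iv0 F143998)))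
theorem E36265 : n182382 = n98586 := (((iv2 F283940)).symm.trans (sb E34462 (iv2 F151975)))
theorem E36268 : n183521 = n157805 := (((D157805).symm.trans (sb E34463 (iv3 F285251)))).symm
theorem F294510 : act 7 n75185 = n40771 := (sb E34463 (iv7 D87594))
theorem E36276 : n44349 = n9034 := ((((iv6 D19221)).symm.trans (sb E34466 F136423))).symm
theorem E36282 : n40672 = n4826 := (((F17027).symm.trans (sb E34471 F133422))).symm
theorem E36284 : n40673 = n10370 := (((D10370).symm.trans (sb E34473 D40673))).symm
theorem E36296 : n182624 = n87579 := (((D87579).symm.trans (sb E34488 D182624))).symm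
theorem F294511 : act 7 n40765 = n86882 := (sb E34488 F133795)
theorem E36307 : n88960 = n42701 := ((D88960).symm.trans (sb E34502 (iv4 F66918)))
theorem E36321 : n44226 = n8385 := ((((iv1 F17601)).symm.trans (sb E34521 D44226))).symm
theorem E36325 : n10481 = n8602 := (((D8602).symm.trans (sb E34525 (tr F33213 E34537)))).symm
theorem E36327 : n44187 = n8869 := (((D8869).symm.trans (sb E34530 (iv6 D94546)))).symm
theorem E36334 : n44188 = n21939 := (((D21939).symm.trans (sb E34533 D44188))).symm
theorem E36335 : n44190 = n21972 := (((D21972).symm.trans (sb E34536 (iv5 D94557)))).symm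
theorem E36336 : n21010 = n8602 := (E34537).trans E36325
theorem E36337 : n18226 = n10547 := ((D18226).symm.trans (sb E36336 (tr (iv1 F34557) E34570)))
theorem E36338 : n18227 = n10543 := ((D18227).symm.trans (sb E36336 (tr (iv0 F69527) E35892)))
theorem E36339 : n18178 = n4827 := (((iv2 F29340)).symm.trans (sb E36336 (tr (iv2 F33194) E36043)))
theorem E36340 : n21939 = n18228 := (((D18228).symm.trans (sb E36336 (tr (iv3 F69532) E36334)))).symm
theorem E36341 : n21972 = n18222 := ((((iv6 F29379)).symm.trans (sb E36336 (tr D44190 E36335)))).symm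
theorem F294512 : act 6 n48084 = n86877 := (sb E34538 F134807)
theorem F294513 : act 1 n95563 = n86878 := (sb E34539 (iv0 D181898))
theorem F294514 : act 0 n93210 = n96130 := (sb E34545 (iv1 F147781))
theorem F294515 : act 6 n43417 = n47730 := (sb E34556 (iv6 D102926))
theorem E36406 : n21032 = n3773 := (((D3773).symm.trans (sb E34576 D21032))).symm
theorem E36409 : n21033 = n17873 := (((F32270).symm.trans (sb E34577 F69512))).symm
theorem E36412 : n182597 = n98587 := ((D182597).symm.trans (sb E34580 (iv1 F159901)))
theorem E36413 : n182598 = n89057 := ((D182598).symm.trans (sb E34580 (iv0 F159900)))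
theorem F294516 : act 2 n87178 = n98590 := (sb E34580 F159897)
theorem F294517 : act 5 n87179 = n48260 := (sb E34581 (iv5 D104283))
theorem F294518 : act 0 n99846 = n90220 := (sb E34582 (iv1 F284041))
theorem F294519 : act 7 n87191 = n86919 := (sb E34583 F145983)
theorem F294520 : act 5 n87193 = n87430 := (sb E34584 F145990)
theorem E36417 : n182669 = n87554 := (((D87554).symm.trans (sb E34585 D182669))).symm
theorem F294521 : act 7 n40753 = n87087 := (sb E34585 F133840)
theorem E36421 : n182678 = n87569 := (((D87569).symm.trans (sb E34586 D182678))).symm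
theorem F294522 : act 0 n75166 = n87588 := (sb E34587 F146128)
theorem F294523 : act 1 n75166 = n87585 := (sb E34587 F146129)
theorem F294524 : act 0 n75174 = n87585 := (sb E34588 (iv1 F143984))
theorem F294525 : act 1 n75174 = n87588 := (sb E34588 (iv0 F134466))
theorem F294526 : act 4 n75174 = n40373 := (sb E34588 (iv4 D86953))
theorem E36423 : n157779 = n101274 := ((D157779).symm.trans (sb E34588 (iv6 F156037)))
theorem F294527 : act 5 n44508 = n87585 := (sb E34589 (iv5 D183497))
theorem F294528 : act 5 n44510 = n87588 := (sb E34602 (iv5 D183507))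
theorem E36432 : n88386 = n45494 := (((D45494).symm.trans (sb E34611 D88386))).symm
theorem F294529 : act 4 n21712 = n43175 := (sb E34611 (iv4 F67619))
theorem F294530 : act 7 n21712 = n42065 := (sb E34611 (iv7 F64950))
theorem E36433 : n44044 = n18225 := (((F54692).symm.trans (sb E34615 F145236))).symm
theorem F294531 : act 0 n92328 = n44088 := (sb E34616 (iv1 F145103))
theorem F294532 : act 2 n92328 = n44087 := (sb E34616 F152529)
theorem F294533 : act 3 n92328 = n99007 := (sb E34616 (iv3 F152528))
theorem F294534 : act 4 n92328 = n93985 := (sb E34616 F145102)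
theorem F294535 : act 6 n92328 = n76503 := (sb E34616 F157257)
theorem F294536 : act 7 n92328 = n44059 := (sb E34616 F157258)
theorem F294537 : act 0 n34942 = n43175 := (sb E34617 (iv1 D92329))
theorem F294538 : act 0 n92330 = n44087 := (sb E34618 (iv1 F145109))
theorem F294539 : act 1 n92330 = n44059 := (sb E34618 F157255)
theorem F294540 : act 7 n92330 = n44088 := (sb E34618 F145106)
theorem F294541 : act 0 n43018 = n21376 := (sb E34622 (iv1 F70422))
theorem F294542 : act 1 n43018 = n21359 := (sb E34622 (iv0 D44837))
theorem E36434 : n95551 = n92033 := (((D92033).symm.trans (sb E34622 (iv5 F147207)))).symm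
theorem E36435 : n92034 = n48418 := ((D92034).symm.trans (sb E34622 F76131))
theorem F294543 : act 3 n44838 = n88409 := (sb E34623 F138406)
theorem F294544 : act 0 n185867 = n102957 := (sb E34626 (iv1 F288676))
theorem F294545 : act 4 n185867 = n88627 := (sb E34626 (iv4 D186060))
theorem F294546 : act 2 n88434 = n88628 := (sb E34627 F288677)
theorem F294547 : act 7 n88434 = n88627 := (sb E34627 (iv7 D186063))
theorem E36436 : n185658 = n93965 := ((F292591).symm.trans (sb E34628 (iv0 F178362)))
theorem E36437 : n185634 = n156878 := ((F292592).symm.trans (sb E34628 (iv3 F246903)))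
theorem F294548 : act 4 n97380 = n52120 := (sb E34628 F165809)
theorem F294549 : act 6 n97380 = n49650 := (sb E34628 (iv6 D107476))
theorem F294550 : act 2 n92581 = n88615 := (sb E34629 F288643)
theorem F294551 : act 7 n92581 = n88614 := (sb E34629 (iv7 D186040))
theorem F294552 : act 5 n94141 = n88615 := (sb E34630 (iv5 D186043))
theorem F294553 : act 6 n42202 = n88615 := (sb E34631 (iv6 D186044))
theorem E36438 : n186035 = n45755 := (E34632).trans E34633
theorem E36439 : n98033 = n88614 := (((iv2 F151161)).symm.trans (sb E36438 (iv2 D186035)))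
theorem E36440 : n98028 = n88615 := ((F151158).symm.trans (sb E36438 (iv7 F288641)))
theorem F294554 : act 1 n45755 = n88521 := (sb E34633 (iv0 D185858))
theorem E36441 : n98036 = n93792 := ((D98036).symm.trans (sb E34633 F290246))
theorem F294555 : act 0 n45754 = n88521 := (sb E34634 (iv1 D185859))
theorem F294556 : act 0 n93909 = n98040 := (sb E34635 (iv1 F276286))
theorem E36442 : n98039 = n94133 := ((((iv0 F290243)).symm.trans (sb E34635 F276284))).symm
theorem F294557 : act 2 n93909 = n84335 := (sb E34635 (iv2 D176931))
theorem F294558 : act 7 n93909 = n98038 := (sb E34635 F276283)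
theorem E36453 : n44043 = n13123 := (((D13123).symm.trans (sb E34654 D44043))).symm
theorem F294559 : act 3 n94142 = n164096 := (sb E34666 F288829)
theorem F294560 : act 4 n93872 = n164105 := (sb E34670 F288838)
theorem F294561 : act 3 n43926 = n43183 := (sb E34672 F142013)
theorem F294562 : act 3 n92350 = n93889 := (sb E34675 F145407)
theorem F294563 : act 5 n92350 = n93889 := (sb E34675 F145408)
theorem F294564 : act 6 n92350 = n44075 := (sb E34675 (iv6 D94278))
theorem F294565 : act 2 n87438 = n42696 := (sb E34677 F140177)
theorem F294566 : act 1 n43991 = n42682 := (sb E34678 (iv0 D91152))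
theorem F294567 : act 0 n91153 = n87415 := (sb E34679 F144940)
theorem F294568 : act 1 n91153 = n87412 := (sb E34679 F144941)
theorem F294569 : act 2 n91153 = n88244 := (sb E34679 F144938)
theorem F294570 : act 5 n91153 = n88244 := (sb E34679 F144939)
theorem F294571 : act 7 n91153 = n94110 := (sb E34679 (iv7 F145046))
theorem F294572 : act 2 n91154 = n88242 := (sb E34680 F144942)
theorem F294573 : act 5 n91154 = n87706 := (sb E34680 F144943)
theorem F294574 : act 7 n88346 = n92032 := (sb E34685 F288431)
theorem F294575 : act 5 n42637 = n89077 := (sb E34687 (iv5 F136784))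
theorem E36474 : n90957 = n82029 := ((((iv2 F126448)).symm.trans (sb E34688 (iv2 F139990)))).symm
theorem E36475 : n90961 = n88934 := (((D88934).symm.trans (sb E34688 D90961))).symm
theorem E36477 : n97787 = n19558 := ((F293932).symm.trans (sb E34689 (iv4 D41544)))
theorem E36482 : n47253 = n43582 := (((D43582).symm.trans (sb E34691 F127398))).symm
theorem F294576 : act 4 n41543 = n22153 := (sb E34692 (iv4 D46326))
theorem F294577 : act 4 n41542 = n22154 := (sb E34693 (iv4 D46330))
theorem F294578 : act 4 n88977 = n46332 := (sb E34694 F152571)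
theorem F294579 : act 0 n45454 = n91849 := (sb E34703 (iv1 F141200))
theorem F294580 : act 3 n45454 = n91855 := (sb E34703 (iv3 F141206))
theorem F294581 : act 7 n45454 = n91850 := (sb E34703 (iv7 F141198))
theorem F294582 : act 2 n90002 = n45492 := (sb E34706 F205501)
theorem F294583 : act 4 n90002 = n43937 := (sb E34706 (iv4 D94001))
theorem F294584 : act 6 n90002 = n93933 := (sb E34706 F178335)
theorem F294585 : act 7 n90002 = n45330 := (sb E34706 F178336)
theorem F294586 : act 1 n44637 = n42065 := (sb E34709 (iv0 D90001))
theorem F294587 : act 4 n96957 = n88712 := (sb E34710 F288997)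
theorem F294588 : act 7 n96957 = n88710 := (sb E34710 (iv7 D186226))
theorem F294589 : act 4 n88970 = n91850 := (sb E34711 (iv4 F141197))
theorem F294590 : act 1 n93257 = n89199 := (sb E34714 (iv0 F144926))
theorem F294591 : act 3 n93257 = n98692 := (sb E34714 (iv3 F152157))
theorem F294592 : act 4 n93257 = n93783 := (sb E34714 (iv4 F144925))
theorem F294593 : act 0 n93256 = n89199 := (sb E34715 (iv1 F144924))
theorem F294594 : act 3 n93256 = n82686 := (sb E34715 (iv3 F148778))
theorem F294595 : act 0 n93258 = n184502 := (sb E34718 F286453)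
theorem F294596 : act 0 n92664 = n98418 := (sb E34719 F157228)
theorem F294597 : act 1 n92664 = n87376 := (sb E34719 F157229)
theorem F294598 : act 2 n92664 = n88798 := (sb E34719 F151693)
theorem F294599 : act 3 n92664 = n45990 := (sb E34719 F151694)
theorem F294600 : act 6 n92664 = n45988 := (sb E34719 (iv6 D98283))
theorem F294601 : act 7 n92664 = n99067 := (sb E34719 F157230)
theorem E36500 : n43620 = n22724 := (((D22724).symm.trans (sb E34723 (iv5 D93250)))).symm
theorem F294602 : act 0 n87764 = n91998 := (sb E34726 (iv1 F144521))
theorem E36502 : n102088 = n91997 := (((iv2 F289979)).symm.trans (sb E34726 (iv2 F254759)))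
theorem F294603 : act 3 n87764 = n43829 := (sb E34726 (iv3 D93756))
theorem F294604 : act 4 n87764 = n87048 := (sb E34726 F144519)
theorem F294605 : act 7 n87764 = n90219 := (sb E34726 (iv7 F254758))
theorem F294606 : act 0 n93757 = n46633 := (sb E34727 F289935)
theorem F294607 : act 1 n93757 = n102549 := (sb E34727 F289936)
theorem F294608 : act 2 n93757 = n46704 := (sb E34727 F154173)
theorem F294609 : act 5 n93757 = n46046 := (sb E34727 (iv5 D98453))
theorem F294610 : act 6 n93757 = n46692 := (sb E34727 (iv6 F151865))
theorem F294611 : act 0 n93758 = n82029 := (sb E34728 (iv1 D171154))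
theorem E36503 : n93758 = n93138 := (((D93138).symm.trans (iv1 (sb E34728 (tr F268894 E35561))))).symm
theorem E36504 : n171154 = n93138 := (E34728).trans E36503
theorem F294612 : act 2 n93138 = n88933 := (sb E36504 F268896)
theorem F294613 : act 3 n93138 = n183007 := (sb E36504 (iv3 F284613))
theorem F294614 : act 7 n93138 = n88932 := (sb E36504 (iv7 F268906))
theorem F294615 : act 6 n46458 = n43829 := (sb E34729 (iv6 D93759))
theorem F294616 : act 0 n93762 = n102549 := (sb E34730 F289924)
theorem F294617 : act 1 n93762 = n46633 := (sb E34730 F289925)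
theorem E36505 : n161269 = n46045 := (((iv5 F255086)).symm.trans (sb E34730 (iv5 D98448)))
theorem F294618 : act 6 n93762 = n90473 := (sb E34730 (iv6 F292665))
theorem F294619 : act 7 n93762 = n46704 := (sb E34730 F154201)
theorem E36506 : n93763 = n93139 := (((D93139).symm.trans (iv0 (sb E34731 (tr (iv1 F268902) E35561))))).symm
theorem E36507 : n171153 = n93139 := (E34731).trans E36506
theorem F294620 : act 2 n93139 = n88932 := (sb E36507 F268905)
theorem F294621 : act 7 n93139 = n88933 := (sb E36507 F268904)
theorem F294622 : act 6 n47535 = n43830 := (sb E34732 (iv6 D93764))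
theorem F294623 : act 0 n88926 = n90228 := (sb E34733 (iv1 F144531))
theorem F294624 : act 1 n88926 = n43832 := (sb E34733 (iv0 D93766))
theorem F294625 : act 0 n88930 = n43832 := (sb E34734 (iv1 D93767))
theorem F294626 : act 1 n88930 = n90228 := (sb E34734 F144532)
theorem F294627 : act 3 n85876 = n43833 := (sb E34735 F144534)
theorem F294628 : act 6 n85876 = n43832 := (sb E34735 (iv6 D93769))
theorem F294629 : act 6 n93770 = n46300 := (sb E34736 (iv6 D98968))
theorem F294630 : act 3 n46307 = n88737 := (sb E34739 F143621)
theorem F294631 : act 2 n41697 = n43554 := (sb E34740 (iv2 D93083))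
theorem F294632 : act 7 n41697 = n43555 := (sb E34740 (iv7 F143576))
theorem E36509 : n100700 = n90136 := ((F154809).symm.trans (sb E34741 F144963))
theorem F294633 : act 5 n93084 = n93342 := (sb E34741 F144964)
theorem F294634 : act 6 n93084 = n89206 := (sb E34741 F144965)
theorem F294635 : act 4 n42474 = n43554 := (sb E34742 (iv4 D93085))
theorem F294636 : act 5 n43662 = n43554 := (sb E34743 (iv5 D93086))
theorem F294637 : act 6 n41683 = n43554 := (sb E34744 (iv6 D93087))
theorem F294638 : act 2 n87435 = n43555 := (sb E34745 F143577)
theorem F294639 : act 7 n87435 = n43554 := (sb E34745 (iv7 D93088))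
theorem F294640 : act 4 n93089 = n89546 := (sb E34746 F144966)
theorem F294641 : act 5 n93089 = n93345 := (sb E34746 F144967)
theorem F294642 : act 6 n93089 = n89495 := (sb E34746 F144968)
theorem F294643 : act 7 n93089 = n89243 := (sb E34746 F144969)
theorem F294644 : act 4 n41789 = n43555 := (sb E34747 (iv4 D93090))
theorem F294645 : act 5 n43663 = n43555 := (sb E34748 (iv5 D93091))
theorem F294646 : act 6 n41788 = n43555 := (sb E34749 (iv6 D93092))
theorem F294647 : act 2 n41124 = n43557 := (sb E34750 F143582)
theorem F294648 : act 1 n22681 = n43557 := (sb E34751 (iv0 D93096))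
theorem F294649 : act 0 n41126 = n43557 := (sb E34752 (iv1 D93097))
theorem F294650 : act 0 n93098 = n48197 := (sb E34753 F144972)
theorem F294651 : act 1 n93098 = n87928 := (sb E34753 F144973)
theorem F294652 : act 2 n93098 = n87925 := (sb E34753 F144970)
theorem F294653 : act 7 n93098 = n87924 := (sb E34753 F144971)
theorem F294654 : act 2 n93099 = n88067 := (sb E34754 F144960)
theorem E36510 : n82686 = n43616 := (((D43616).symm.trans (sb E34758 D82686))).symm
theorem E36511 : n82684 = n43617 := (((D43617).symm.trans (sb E34758 (iv2 F127382)))).symm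
theorem E36512 : n82687 = n43618 := (((D43618).symm.trans (sb E34758 D82687))).symm
theorem F294655 : act 6 n20632 = n18192 := (sb E34758 (iv6 D37998))
theorem F294656 : act 2 n20633 = n19608 := (sb E34759 F58834)
theorem F294657 : act 6 n87215 = n88775 := (sb E34776 (iv6 D186366))
theorem F294658 : act 6 n90992 = n88774 := (sb E34779 (iv6 D186361))
theorem F294659 : act 1 n20882 = n20635 := (sb E34782 F67388)
theorem F294660 : act 4 n21885 = n20635 := (sb E34783 (iv4 D43625))
theorem F294661 : act 5 n42707 = n89379 := (sb E34785 F270979)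
theorem F294662 : act 1 n42256 = n87437 := (sb E34788 (iv0 D183178))
theorem E36535 : n183763 = n90394 := (((D90394).symm.trans (sb E34788 (iv6 F285537)))).symm
theorem F294663 : act 6 n42257 = n40935 := (sb E34789 (iv6 D87823))
theorem F294664 : act 7 n42257 = n87437 := (sb E34789 (iv7 F134792))
theorem E36537 : n90396 = n88801 := ((D90396).symm.trans (sb E34790 F270984))
theorem E36538 : n99068 = n90397 := (((D90397).symm.trans (sb E34790 (iv0 F270983)))).symm
theorem F294665 : act 3 n20886 = n20641 := (sb E34797 F67397)
theorem E36551 : n92096 = n43998 := (((D43998).symm.trans (sb E34797 D92096))).symm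
theorem E36552 : n92097 = n43999 := (((D43999).symm.trans (sb E34797 D92097))).symm
theorem F294666 : act 7 n20886 = n20638 := (sb E34797 F67398)
theorem E36553 : n97800 = n93305 := (((D93305).symm.trans (sb E34798 D97800))).symm
theorem E36554 : n97801 = n93306 := (((D93306).symm.trans (sb E34798 D97801))).symm
theorem E36555 : n97803 = n93304 := ((((iv7 F143880)).symm.trans (sb E34798 D97803))).symm
theorem F294667 : act 0 n41239 = n41341 := (sb E34803 (iv1 F135629))
theorem E36556 : n185921 = n44829 := ((((iv5 F70410)).symm.trans (sb E34803 D185921))).symm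
theorem F294668 : act 7 n41239 = n43018 := (sb E34803 F135630)
theorem F294669 : act 0 n21905 = n42696 := (sb E34813 (iv1 F68856))
theorem E36559 : n93274 = n45810 := (((D45810).symm.trans (sb E34813 D93274))).symm
theorem F294670 : act 2 n91189 = n87425 := (sb E34814 F144983)
theorem F294671 : act 5 n91189 = n94101 := (sb E34814 (iv5 F145014))
theorem F294672 : act 2 n91193 = n183181 := (sb E34815 (iv2 F284795))
theorem F294673 : act 0 n8994 = n43803 := (sb E34817 D43803)
theorem F294674 : act 4 n637 = n982 := (sb E34938 (iv4 D1905))
theorem F294675 : act 4 n20793 = n42633 := (sb E34972 (iv4 D91015))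
theorem F294676 : act 5 n93937 = n88434 := (sb E34974 (iv5 D185650))
theorem F294677 : act 3 n172108 = n88547 := (sb E34977 (iv3 D185915))
theorem F294678 : act 0 n44078 = n92323 := (sb E34979 (iv1 F141977))
theorem F294679 : act 3 n44078 = n92330 := (sb E34979 (iv3 F141987))
theorem F294680 : act 7 n44078 = n92324 := (sb E34979 (iv7 F141975))
theorem F294681 : act 0 n44076 = n92324 := (sb E34980 (iv1 F141976))
theorem F294682 : act 1 n44048 = n92324 := (sb E34981 F141978)
theorem F294683 : act 0 n95295 = n101219 := (sb E35002 F286258)
theorem F294684 : act 5 n95295 = n87915 := (sb E35002 (iv5 D184326))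
theorem F294685 : act 1 n103294 = n101219 := (sb E35005 F286251)
theorem F294686 : act 5 n103294 = n87908 := (sb E35005 (iv5 D184311))
theorem F294687 : act 0 n41019 = n47902 := (sb E35008 (iv1 F158586))
theorem F294688 : act 1 n41019 = n47880 := (sb E35008 (iv0 D103337))
theorem E36740 : n181929 = n96077 := ((D181929).symm.trans (sb E35010 (iv0 F160641)))
theorem F294689 : act 7 n86895 = n45520 := (sb E35010 F148788)
theorem F294690 : act 2 n86897 = n45500 := (sb E35011 F148795)
theorem F294691 : act 7 n90004 = n45495 := (sb E35012 F145464)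
theorem F294692 : act 2 n90006 = n45523 := (sb E35013 F148809)
theorem F294693 : act 5 n90006 = n185463 := (sb E35013 (iv5 F287729))
theorem F294694 : act 6 n103358 = n88580 := (sb E35019 (iv6 D185957))
theorem E36741 : n182438 = n99778 := (((D99778).symm.trans (sb E35020 (iv1 F288892)))).symm
theorem E36742 : n182455 = n99779 := (((D99779).symm.trans (sb E35020 D182455))).symm
theorem E36743 : n182456 = n99773 := ((((iv2 F153596)).symm.trans (sb E35020 D182456))).symm
theorem F294695 : act 4 n46604 = n88409 := (sb E35020 F135402)
theorem F294696 : act 5 n97473 = n88409 := (sb E35021 (iv5 D185597))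
theorem F294697 : act 6 n44945 = n88409 := (sb E35022 (iv6 D185598))
theorem F294698 : act 0 n95559 = n88411 := (sb E35023 (iv1 D185602))
theorem F294699 : act 6 n104721 = n88410 := (sb E35026 (iv6 D185600))
theorem F294700 : act 3 n97421 = n181927 := (sb E35029 F287850)
theorem F294701 : act 3 n97425 = n158050 := (sb E35030 F287851)
theorem F294702 : act 5 n97425 = n158048 := (sb E35030 (iv5 F287852))
theorem F294703 : act 0 n97438 = n181935 := (sb E35032 (iv1 F287856))
theorem F294704 : act 1 n97439 = n181935 := (sb E35033 F287854)
theorem F294705 : act 2 n97440 = n87953 := (sb E35034 F159690)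
theorem F294706 : act 0 n97441 = n181934 := (sb E35035 (iv1 F287857))
theorem F294707 : act 1 n97441 = n181933 := (sb E35035 F287858)
theorem F294708 : act 2 n97441 = n181935 := (sb E35035 F287855)
theorem F294709 : act 0 n97472 = n181927 := (sb E35036 (iv1 F287894))
theorem F294710 : act 1 n97473 = n181927 := (sb E35037 F287895)
theorem F294711 : act 0 n97470 = n96077 := (sb E35038 (tr (iv1 F287891) E36740))
theorem F294712 : act 1 n97470 = n181928 := (sb E35038 F287892)
theorem F294713 : act 7 n97470 = n181927 := (sb E35038 F287890)
theorem F294714 : act 7 n97474 = n181930 := (sb E35039 F287896)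
theorem F294715 : act 6 n97483 = n181935 := (sb E35043 F287900)
theorem F294716 : act 2 n46114 = n48000 := (sb E35064 (iv2 D103639))
theorem F294717 : act 5 n99566 = n48000 := (sb E35065 (iv5 D103640))
theorem F294718 : act 2 n99895 = n48137 := (sb E35066 F159028)
theorem F294719 : act 5 n99895 = n48073 := (sb E35066 F159029)
theorem F294720 : act 7 n99895 = n48072 := (sb E35066 (iv7 F159030))
theorem F294721 : act 2 n99892 = n48072 := (sb E35067 F158988)
theorem F294722 : act 5 n99892 = n47992 := (sb E35067 (iv5 D103622))
theorem F294723 : act 7 n99892 = n48137 := (sb E35067 (iv7 F158990))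
theorem F294724 : act 5 n91271 = n48067 := (sb E35069 (iv5 D103829))
theorem E36746 : n91768 = n21373 := ((F141048).symm.trans (sb E35071 (iv1 D44851)))
theorem E36747 : n95547 = n93209 := (((D93209).symm.trans (sb E35071 F147196))).symm
theorem E36748 : n95546 = n93206 := ((((iv2 F143777)).symm.trans (sb E35071 F147189))).symm
theorem F294725 : act 6 n43607 = n45518 := (sb E35071 (iv6 F71793))
theorem F294726 : act 7 n43607 = n41632 := (sb E35071 F70452)
theorem F294727 : act 1 n98989 = n47901 := (sb E35072 (iv0 D103367))
theorem F294728 : act 0 n89580 = n47901 := (sb E35073 (iv1 D103368))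
theorem F294729 : act 2 n98993 = n47901 := (sb E35074 (iv2 D103369))
theorem F294730 : act 3 n100172 = n47902 := (sb E35075 F158659)
theorem F294731 : act 5 n100172 = n47901 := (sb E35075 (iv5 D103370))
theorem E36749 : n87086 = n46087 := ((((iv6 F136551)).symm.trans (sb E35081 (iv6 D182383)))).symm
theorem F294732 : act 0 n40463 = n46088 := (sb E35083 (iv1 F72656))
theorem E36750 : n87085 = n41593 := ((D87085).symm.trans (sb E35083 (iv0 F65828)))
theorem F294733 : act 4 n40463 = n45490 := (sb E35083 (iv4 F71742))
theorem F294734 : act 6 n40463 = n43988 := (sb E35083 (iv6 F69178))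
theorem F294735 : act 5 n94098 = n87089 := (sb E35085 (iv5 D182394))
theorem E36751 : n94106 = n91181 := ((D94106).symm.trans (sb E35086 F141669))
theorem F294736 : act 1 n42693 = n87438 := (sb E35088 (iv0 F134207))
theorem E36753 : n94107 = n91182 := (((D91182).symm.trans (sb E35088 D94107))).symm
theorem F294737 : act 5 n42693 = n20885 := (sb E35088 (iv5 D43996))
theorem F294738 : act 7 n42693 = n21905 := (sb E35088 F69207)
theorem F294739 : act 5 n93262 = n87218 := (sb E35092 (iv5 D182710))
theorem F294740 : act 1 n41680 = n20145 := (sb E35093 (iv0 D42692))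
theorem E36755 : n91178 = n89203 := (((D89203).symm.trans (sb E35093 D91178))).symm
theorem F294741 : act 7 n41680 = n43626 := (sb E35093 (iv7 F141304))
theorem F294742 : act 1 n19240 = n19144 := (sb E35099 (iv0 F293863))
theorem F294743 : act 7 n19079 = n19144 := (sb E35100 (iv7 F293865))
theorem F294744 : act 5 n93340 = n47852 := (sb E35101 (iv5 D103267))
theorem E36757 : n184408 = n97003 := ((((iv4 F149607)).symm.trans (sb E35107 F286334))).symm
theorem F294745 : act 3 n96151 = n48138 := (sb E35125 F159427)
theorem E36771 : n87232 = n43609 := ((((iv3 F68555)).symm.trans (sb E35126 D87232))).symm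
theorem E36775 : n88898 = n87223 := (((D87223).symm.trans (sb E35133 D88898))).symm
theorem E36776 : n88899 = n87224 := (((D87224).symm.trans (sb E35133 D88899))).symm
theorem F294746 : act 2 n40519 = n37484 := (sb E35133 F64017)
theorem F294747 : act 4 n40519 = n19552 := (sb E35133 F64019)
theorem F294748 : act 6 n40519 = n19542 := (sb E35133 (iv6 D41506))
theorem F294749 : act 4 n103847 = n88018 := (sb E35135 F286052)
theorem E36777 : n184404 = n44833 := ((D184404).symm.trans (sb E35138 (iv3 D96086)))
theorem E36778 : n184406 = n103875 := ((D184406).symm.trans (sb E35138 (iv5 F159296)))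
theorem E36779 : n184407 = n97484 := ((D184407).symm.trans (sb E35138 (iv6 F150267)))
theorem E36780 : n184398 = n97003 := ((F286330).symm.trans (sb E35138 F149608))
theorem E36781 : n96582 = n86892 := (((D86892).symm.trans (sb E35139 D96582))).symm
theorem E36782 : n86893 = n44635 := ((D86893).symm.trans (sb E35139 (iv0 F71014)))
theorem E36783 : n96583 = n86894 := (((D86894).symm.trans (sb E35139 D96583))).symm
theorem F294750 : act 7 n40313 = n21732 := (sb E35139 F71013)
theorem F294751 : act 2 n181908 = n87578 := (sb E35140 (iv2 F283323))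
theorem F294752 : act 3 n181908 = n98640 := (sb E35140 F283322)
theorem F294753 : act 6 n181908 = n87407 := (sb E35140 (iv6 F283326))
theorem F294754 : act 7 n181908 = n87334 := (sb E35140 F283325)
theorem F294755 : act 0 n95633 = n86882 := (sb E35141 (iv1 D181909))
theorem F294756 : act 2 n89034 = n86882 := (sb E35142 (iv2 D181910))
theorem F294757 : act 6 n89034 = n184230 := (sb E35142 (iv6 F286156))
theorem F294758 : act 5 n103817 = n88021 := (sb E35144 (iv5 D184583))
theorem F294759 : act 5 n95423 = n104193 := (sb E35145 F283342)
theorem E36784 : n87066 = n46036 := (((F72625).symm.trans (sb E35146 D87066))).symm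
theorem E36786 : n87068 = n86917 := ((((iv2 F133370)).symm.trans (sb E35146 D87068))).symm
theorem F294760 : act 4 n40330 = n20632 := (sb E35146 F61552)
theorem F294761 : act 6 n10765 = n20303 := (sb E35148 (iv6 D42997))
theorem F294762 : act 4 n43001 = n22776 := (sb E35149 F74622)
theorem E36791 : n102089 = n91999 := (((D91999).symm.trans (sb E35149 D102089))).symm
theorem E36792 : n92000 = n22774 := ((D92000).symm.trans (sb E35149 (iv6 D47412)))
theorem F294763 : act 7 n43001 = n88340 := (sb E35149 (iv7 F135286))
theorem E36793 : n92002 = n44844 := ((D92002).symm.trans (sb E35150 F134661))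
theorem F294764 : act 2 n43002 = n41255 := (sb E35150 F134659)
theorem E36794 : n94077 = n92004 := (((D92004).symm.trans (sb E35150 (iv4 F144950)))).symm
theorem E36795 : n183910 = n92005 := (((D92005).symm.trans (sb E35150 (iv6 F285760)))).symm
theorem F294765 : act 7 n43002 = n87411 := (sb E35150 F134660)
theorem F294766 : act 6 n19264 = n20304 := (sb E35151 (iv6 D43003))
theorem F294767 : act 0 n42691 = n21905 := (sb E35156 (iv1 D45809))
theorem E36814 : n94080 = n91174 := (((D91174).symm.trans (sb E35156 (iv4 F144956)))).symm
theorem E36815 : n98103 = n91175 := (((D91175).symm.trans (sb E35156 D98103))).symm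
theorem F294768 : act 7 n42691 = n87438 := (sb E35156 (iv7 F134206))
theorem F294769 : act 4 n97409 = n182716 := (sb E35162 (iv4 F284293))
theorem F294770 : act 2 n97413 = n181904 := (sb E35166 F283926)
theorem E36837 : n103430 = n47935 := (((D47935).symm.trans (sb E35169 D103430))).symm
theorem F294771 : act 5 n43665 = n40482 := (sb E35170 F75247)
theorem E36840 : n103441 = n93356 := (((D93356).symm.trans (sb E35170 D103441))).symm
theorem E36841 : n43803 = n9041 := ((F294673).symm.trans (sb E35172 (iv1 F293928)))
theorem F294772 : act 1 n8990 = n8934 := (sb E35173 (iv0 F293930))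
theorem F294773 : act 7 n8990 = n9041 := (sb E35173 (iv7 F293929))
theorem E36842 : n94706 = n87190 := (((iv6 F145978)).symm.trans (sb E35176 (iv6 D182636)))
theorem E36843 : n87377 = n87188 := (((D87188).symm.trans (sb E35177 F134150))).symm
theorem E36844 : n87372 = n87189 := (((D87189).symm.trans (sb E35177 (iv0 F134148)))).symm
theorem F294774 : act 6 n40503 = n40612 := (sb E35177 F69618)
theorem F294775 : act 7 n40503 = n40330 := (sb E35177 F69619)
theorem F294776 : act 3 n91000 = n98697 := (sb E35178 (iv3 F152160))
theorem F294777 : act 4 n91000 = n89157 := (sb E35178 F150717)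
theorem F294778 : act 3 n91001 = n89200 := (sb E35179 F150722)
theorem F294779 : act 4 n91001 = n89156 := (sb E35179 (iv4 F150719))
theorem F294780 : act 6 n91002 = n89159 := (sb E35180 F150725)
theorem E36845 : n101092 = n91206 := (((D91206).symm.trans (sb E35181 F155775))).symm
theorem F294781 : act 5 n42701 = n89197 := (sb E35182 F150736)
theorem F294782 : act 2 n46318 = n88735 := (sb E35183 (iv2 D186277))
theorem F294783 : act 7 n46318 = n88736 := (sb E35183 (iv7 F289049))
theorem F294784 : act 3 n99067 = n88735 := (sb E35184 (iv3 D186278))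
theorem F294785 : act 6 n46078 = n88735 := (sb E35185 (iv6 D186281))
theorem F294786 : act 2 n45990 = n88736 := (sb E35186 F289051)
theorem F294787 : act 7 n45990 = n88735 := (sb E35186 (iv7 D186282))
theorem F294788 : act 3 n87335 = n88736 := (sb E35187 (iv3 D186283))
theorem F294789 : act 4 n94249 = n88736 := (sb E35188 (iv4 D186284))
theorem F294790 : act 6 n41517 = n88736 := (sb E35189 (iv6 D186286))
theorem E36847 : n90948 = n40609 := ((((iv3 F72621)).symm.trans (sb E35190 D90948))).symm
theorem E36849 : n90950 = n88926 := (((D88926).symm.trans (sb E35190 D90950))).symm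
theorem E36852 : n90954 = n46032 := ((((iv4 F72615)).symm.trans (sb E35191 D90954))).symm
theorem F294791 : act 2 n87431 = n43348 := (sb E35195 F142799)
theorem F294792 : act 0 n43990 = n43346 := (sb E35196 (iv1 F138627))
theorem F294793 : act 1 n43990 = n43345 := (sb E35196 F138625)
theorem F294794 : act 2 n46340 = n43345 := (sb E35197 (iv2 D92657))
theorem F294795 : act 7 n46340 = n43346 := (sb E35197 (iv7 F142796))
theorem F294796 : act 0 n92658 = n89117 := (sb E35198 (iv1 F289246))
theorem F294797 : act 1 n92658 = n98077 := (sb E35198 F289247)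
theorem F294798 : act 2 n92658 = n97312 := (sb E35198 F289242)
theorem F294799 : act 6 n92658 = n98639 := (sb E35198 F289245)
theorem F294800 : act 7 n92658 = n88797 := (sb E35198 (iv7 D186442))
theorem F294801 : act 0 n92659 = n87376 := (sb E35199 (iv1 D183024))
theorem E36855 : n98418 = n93132 := ((((iv0 F143850)).symm.trans (sb E35199 F284652))).symm
theorem F294802 : act 2 n92659 = n99067 := (sb E35199 F284655)
theorem F294803 : act 3 n92659 = n87407 := (sb E35199 F284657)
theorem F294804 : act 6 n92659 = n98640 := (sb E35199 F284656)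
theorem F294805 : act 7 n92659 = n88798 := (sb E35199 F284653)
theorem E36856 : n186445 = n91215 := (E35200).trans E35792
theorem F294806 : act 2 n91215 = n90397 := (sb E36856 (tr F289249 E36538))
theorem F294807 : act 7 n91215 = n88801 := (sb E36856 (iv7 D186445))
theorem F294808 : act 6 n46111 = n43345 := (sb E35201 (iv6 D92661))
theorem F294809 : act 2 n41458 = n43346 := (sb E35202 F142798)
theorem F294810 : act 7 n41458 = n43345 := (sb E35202 (iv7 D92662))
theorem F294811 : act 0 n92663 = n98692 := (sb E35203 F157246)
theorem F294812 : act 1 n92663 = n98697 := (sb E35203 F157247)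
theorem F294813 : act 2 n92663 = n94218 := (sb E35203 (iv2 F145260))
theorem F294814 : act 4 n92663 = n43864 := (sb E35203 F144666)
theorem F294815 : act 6 n92663 = n43863 := (sb E35203 (iv6 D93835))
theorem F294816 : act 7 n92663 = n99066 := (sb E35203 F157248)
theorem E36857 : n185979 = n91216 := (E35204).trans E35793
theorem F294817 : act 2 n91216 = n88801 := (sb E36857 F288474)
theorem F294818 : act 6 n91216 = n99601 := (sb E36857 F288475)
theorem F294819 : act 7 n91216 = n90397 := (sb E36857 (tr F288476 E36538))
theorem F294820 : act 6 n41345 = n43346 := (sb E35205 (iv6 D92666))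
theorem E36858 : n183771 = n90388 := (E35206).trans E35496
theorem F294821 : act 2 n90388 = n93287 := (sb E36858 (tr F285554 E36010))
theorem F294822 : act 7 n90388 = n93286 := (sb E36858 (tr (iv7 F285557) E36009))
theorem E36859 : n91199 = n89100 := (((D89100).symm.trans (sb E35209 (iv5 F140241)))).symm
theorem E36860 : n91197 = n89121 := (((D89121).symm.trans (sb E35210 D91197))).symm
theorem E36861 : n91198 = n89122 := (((D89122).symm.trans (sb E35210 D91198))).symm
theorem E36862 : n91200 = n89123 := (((D89123).symm.trans (sb E35210 D91200))).symm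
theorem F294823 : act 4 n20123 = n19608 := (sb E35211 (iv4 D41645))
theorem E36865 : n89137 = n42637 := (((D42637).symm.trans (sb E35211 (iv6 F136841)))).symm
theorem E36868 : n91205 = n89138 := (((D89138).symm.trans (sb E35212 D91205))).symm
theorem F294824 : act 3 n44001 = n43646 := (sb E35247 F141676)
theorem F294825 : act 1 n22328 = n43646 := (sb E35248 (iv0 D93312))
theorem F294826 : act 0 n22324 = n43646 := (sb E35249 (iv1 D93313))
theorem F294827 : act 0 n93314 = n46634 := (sb E35250 F150776)
theorem F294828 : act 1 n93314 = n46626 := (sb E35250 F150777)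
theorem F294829 : act 2 n93314 = n47383 := (sb E35250 F150773)
theorem F294830 : act 5 n93314 = n89376 := (sb E35250 F150775)
theorem F294831 : act 7 n93314 = n47385 := (sb E35250 F150774)
theorem F294832 : act 3 n93307 = n94117 := (sb E35251 F150769)
theorem E36897 : n100666 = n99332 := (((D99332).symm.trans (sb E35259 (iv3 F154767)))).symm
theorem F294833 : act 6 n40860 = n20308 := (sb E35260 (iv6 D43020))
theorem F294834 : act 2 n43022 = n87411 := (sb E35261 F135332)
theorem E36902 : n94078 = n92042 := (((D92042).symm.trans (sb E35261 (iv4 F144953)))).symm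
theorem E36903 : n185519 = n92043 := (((D92043).symm.trans (sb E35261 D185519))).symm
theorem F294835 : act 7 n43022 = n41255 := (sb E35261 (iv7 D88372))
theorem F294836 : act 6 n40864 = n20309 := (sb E35262 (iv6 D43023))
theorem F294837 : act 1 n42687 = n43991 := (sb E35267 (iv0 F69190))
theorem F294838 : act 2 n42687 = n43997 := (sb E35267 F69209)
theorem E36922 : n94075 = n91168 := (((D91168).symm.trans (sb E35267 D94075))).symm
theorem E36923 : n94076 = n91169 := (((D91169).symm.trans (sb E35267 D94076))).symm
theorem F294839 : act 7 n42687 = n41182 := (sb E35267 F69135)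
theorem F294840 : act 6 n22826 = n20143 := (sb E35268 (iv6 D42688))
theorem E36928 : n91184 = n40632 := ((D91184).symm.trans (sb E35269 (iv1 D87426)))
theorem E36929 : n91185 = n87428 := ((D91185).symm.trans (sb E35269 F134183))
theorem E36930 : n183156 = n91186 := (((D91186).symm.trans (sb E35269 D183156))).symm
theorem E36931 : n91187 = n87433 := ((D91187).symm.trans (sb E35269 (iv5 F134192)))
theorem F294841 : act 0 n43579 = n41525 := (sb E35321 (iv1 F126456))
theorem F294842 : act 1 n43579 = n41524 := (sb E35321 F126457)
theorem E37030 : n171156 = n93136 := (((D93136).symm.trans (sb E35321 (iv5 F268901)))).symm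
theorem F294843 : act 6 n43579 = n46034 := (sb E35321 F126454)
theorem F294844 : act 7 n43579 = n37592 := (sb E35321 (iv7 D82030))
theorem F294845 : act 0 n91009 = n87335 := (sb E35323 (iv1 F157234))
theorem F294846 : act 1 n91009 = n87407 := (sb E35323 F147739)
theorem E37031 : n93686 = n44843 := (((iv2 F144434)).symm.trans (sb E35323 (iv2 D96104)))
theorem F294847 : act 0 n91010 = n43864 := (sb E35324 F157250)
theorem F294848 : act 1 n91010 = n43892 := (sb E35324 F144601)
theorem F294849 : act 3 n91010 = n43905 := (sb E35324 F144598)
theorem F294850 : act 6 n89584 = n42632 := (sb E35325 (iv6 D91012))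
theorem F294851 : act 3 n40356 = n42633 := (sb E35326 F140099)
theorem F294852 : act 6 n89571 = n42633 := (sb E35327 (iv6 D91017))
theorem F294853 : act 2 n91020 = n46289 := (sb E35328 (iv2 F293395))
theorem F294854 : act 5 n91020 = n42650 := (sb E35328 (iv5 D91053))
theorem F294855 : act 7 n91020 = n46288 := (sb E35328 (iv7 F293387))
theorem F294856 : act 2 n91021 = n46288 := (sb E35329 (iv2 F293385))
theorem F294857 : act 3 n91021 = n86944 := (sb E35329 (iv3 F293406))
theorem F294858 : act 5 n91021 = n42651 := (sb E35329 (iv5 D91056))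
theorem F294859 : act 7 n91021 = n46289 := (sb E35329 (iv7 F293397))
theorem E37033 : n172713 = n93228 := (((D93228).symm.trans (sb E35332 D172713))).symm
theorem E37034 : n93230 = n41653 := ((D93230).symm.trans (sb E35332 F136863))
theorem E37036 : n172716 = n93232 := (((D93232).symm.trans (sb E35332 D172716))).symm
theorem E37037 : n172717 = n93233 := (((D93233).symm.trans (sb E35332 D172717))).symm
theorem F294860 : act 0 n90871 = n46505 := (sb E35333 (iv1 D99471))
theorem F294861 : act 2 n90871 = n46509 := (sb E35333 F154990)
theorem F294862 : act 3 n90871 = n46643 := (sb E35333 (iv3 F153233))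
theorem F294863 : act 7 n90871 = n46508 := (sb E35333 F154991)
theorem F294864 : act 1 n90872 = n46505 := (sb E35334 (iv0 D99470))
theorem F294865 : act 2 n90872 = n46508 := (sb E35334 F154992)
theorem F294866 : act 4 n90872 = n103588 := (sb E35334 (iv4 F158916))
theorem F294867 : act 7 n90872 = n46509 := (sb E35334 F154993)
theorem F294868 : act 0 n90873 = n46509 := (sb E35335 (iv1 F153241))
theorem F294869 : act 1 n90873 = n46508 := (sb E35335 (iv0 F153242))
theorem F294870 : act 3 n90873 = n47076 := (sb E35335 F153237)
theorem F294871 : act 4 n90873 = n95452 := (sb E35335 F153238)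
theorem F294872 : act 6 n90873 = n46994 := (sb E35335 F153239)
theorem F294873 : act 7 n90873 = n46505 := (sb E35335 (iv7 D99473))
theorem F294874 : act 1 n47873 = n41341 := (sb E35388 F135620)
theorem F294875 : act 2 n47873 = n43018 := (sb E35388 (iv2 F135622))
theorem F294876 : act 3 n47873 = n89989 := (sb E35388 F138231)
theorem E37066 : n185923 = n44830 := ((((iv5 F75151)).symm.trans (sb E35388 D185923))).symm
theorem E37068 : n93718 = n45326 := (((F75154).symm.trans (sb E35389 (iv1 F144468)))).symm
theorem E37069 : n185929 = n95545 := ((((iv0 F147187)).symm.trans (sb E35389 D185929))).symm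
theorem E37077 : n91900 = n44634 := (((D44634).symm.trans (sb E35392 D91900))).symm
theorem F294877 : act 2 n88581 = n44840 := (sb E35400 F147221)
theorem E37102 : n185958 = n95541 := ((D185958).symm.trans (sb E35400 F147225))
theorem F294878 : act 7 n88581 = n44861 := (sb E35400 F147222)
theorem F294879 : act 6 n47900 = n41341 := (sb E35401 (iv6 D88582))
theorem E37107 : n91909 = n44631 := (((D44631).symm.trans (sb E35402 D91909))).symm
theorem F294880 : act 5 n96002 = n84307 := (sb E35413 (iv5 D176848))
theorem F294881 : act 4 n103221 = n87943 := (sb E35418 F286269)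
theorem F294882 : act 5 n103221 = n87918 := (sb E35418 (iv5 D184335))
theorem F294883 : act 3 n103904 = n87940 := (sb E35419 F286317)
theorem F294884 : act 5 n103904 = n87939 := (sb E35419 (iv5 D184386))
theorem F294885 : act 4 n103220 = n87940 := (sb E35420 F286281)
theorem F294886 : act 5 n103220 = n87922 := (sb E35420 (iv5 D184345))
theorem F294887 : act 1 n87551 = n48121 := (sb E35421 (iv0 D103937))
theorem F294888 : act 0 n100563 = n48121 := (sb E35422 (iv1 D103938))
theorem F294889 : act 4 n91871 = n96045 := (sb E35449 F150125)
theorem F294890 : act 7 n91871 = n45480 := (sb E35449 (iv7 D97399))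
theorem F294891 : act 0 n45452 = n91850 := (sb E35451 (iv1 F141199))
theorem F294892 : act 1 n45386 = n91850 := (sb E35452 F141201)
theorem F294893 : act 6 n96349 = n89990 := (sb E35464 F159738)
theorem F294894 : act 0 n89105 = n185956 := (sb E35467 F288464)
theorem F294895 : act 7 n89105 = n93210 := (sb E35467 F287836)
theorem F294896 : act 5 n97392 = n79952 := (sb E35469 (iv5 D166586))
theorem F294897 : act 7 n97392 = n163470 := (sb E35469 F262158)
theorem F294898 : act 5 n36419 = n45479 := (sb E35470 (iv5 D97393))
theorem F294899 : act 2 n97394 = n163473 := (sb E35471 F262161)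
theorem F294900 : act 4 n97394 = n89992 := (sb E35471 F262162)
theorem F294901 : act 5 n103627 = n89992 := (sb E35472 F159750)
theorem E37140 : n45563 = n19220 := (((D19220).symm.trans (sb E35474 D45563))).symm
theorem F294902 : act 5 n36420 = n45478 := (sb E35480 (iv5 D97390))
theorem F294903 : act 5 n97389 = n79955 := (sb E35482 (iv5 D166594))
theorem F294904 : act 7 n97389 = n163472 := (sb E35482 F262178)
theorem F294905 : act 2 n97391 = n163471 := (sb E35483 F262179)
theorem F294906 : act 4 n97391 = n90019 := (sb E35483 F262180)
theorem F294907 : act 5 n78538 = n45480 := (sb E35490 (iv5 D97398))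
theorem F294908 : act 2 n90188 = n42255 := (sb E35494 (iv2 D90385))
theorem F294909 : act 7 n90188 = n42256 := (sb E35494 (iv7 F139101))
theorem F294910 : act 3 n90387 = n184070 := (sb E35495 (iv3 F286014))
theorem F294911 : act 6 n90387 = n87679 := (sb E35495 (iv6 D183768))
theorem F294912 : act 0 n90388 = n93288 := (sb E35496 (iv1 F143869))
theorem F294913 : act 1 n90388 = n43348 := (sb E35496 (iv0 D92668))
theorem F294914 : act 6 n40846 = n42255 := (sb E35497 (iv6 D90389))
theorem F294915 : act 2 n90187 = n42256 := (sb E35498 F139103)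
theorem F294916 : act 7 n90187 = n42255 := (sb E35498 (iv7 D90390))
theorem F294917 : act 0 n182297 = n88340 := (sb E35499 (iv1 D185444))
theorem F294918 : act 5 n182297 = n183006 := (sb E35499 (iv5 F289963))
theorem F294919 : act 6 n182297 = n104239 := (sb E35499 (iv6 F289964))
theorem E37144 : n181921 = n96053 := ((((iv4 F147666)).symm.trans (sb E35501 (iv4 F283223)))).symm
theorem F294920 : act 0 n46271 = n91021 := (sb E35532 (iv1 F143711))
theorem F294921 : act 1 n46271 = n91020 := (sb E35532 F143712)
theorem F294922 : act 7 n46271 = n91018 := (sb E35532 F143710)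
theorem F294923 : act 7 n46283 = n91009 := (sb E35533 F143699)
theorem F294924 : act 7 n43894 = n91010 := (sb E35534 F143701)
theorem F294925 : act 2 n43847 = n91010 := (sb E35537 (iv2 F142000))
theorem F294926 : act 0 n46288 = n91018 := (sb E35539 (iv1 F143715))
theorem F294927 : act 1 n46289 = n91018 := (sb E35540 F143716)
theorem E37161 : n98925 = n93214 := ((D98925).symm.trans (sb E35541 (iv3 F143791)))
theorem F294928 : act 7 n46290 = n91022 := (sb E35541 F143717)
theorem F294929 : act 7 n19227 = n40463 := (sb E35552 F61636)
theorem F294930 : act 6 n43569 = n43995 := (sb E35558 F69702)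
theorem F294931 : act 0 n43577 = n37592 := (sb E35559 (iv1 F72628))
theorem F294932 : act 2 n43577 = n41525 := (sb E35559 (iv2 F152054))
theorem E37167 : n93127 = n87364 := ((D93127).symm.trans (sb E35559 (iv3 F134127)))
theorem E37168 : n93128 = n21997 := ((D93128).symm.trans (sb E35559 (iv4 D46042)))
theorem E37169 : n98438 = n93130 := (((D93130).symm.trans (sb E35559 D98438))).symm
theorem F294933 : act 7 n43577 = n41524 := (sb E35559 F152051)
theorem F294934 : act 1 n43578 = n37592 := (sb E35560 F126455)
theorem F294935 : act 2 n43578 = n41524 := (sb E35560 F152050)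
theorem E37170 : n93133 = n21996 := ((D93133).symm.trans (sb E35560 (iv4 D46037)))
theorem E37171 : n98420 = n93135 := (((D93135).symm.trans (sb E35560 D98420))).symm
theorem F294936 : act 7 n43578 = n41525 := (sb E35560 (iv7 F152055))
theorem E37172 : n179729 = n93141 := (((D93141).symm.trans (sb E35561 (iv6 F279951)))).symm
theorem F294937 : act 7 n43580 = n41526 := (sb E35561 (iv7 D88935))
theorem F294938 : act 5 n43582 = n46110 := (sb E35562 F136593)
theorem E37173 : n179724 = n93149 := (((D93149).symm.trans (sb E35562 (iv7 F279945)))).symm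
theorem F294939 : act 4 n89029 = n88774 := (sb E35587 (iv4 F283878))
theorem F294940 : act 4 n89027 = n92324 := (sb E35588 F283879)
theorem F294941 : act 3 n89037 = n44567 := (sb E35589 (iv3 D95424))
theorem F294942 : act 5 n95425 = n183896 := (sb E35590 (iv5 F285731))
theorem F294943 : act 0 n90003 = n45330 := (sb E35591 F205499)
theorem F294944 : act 1 n90003 = n45492 := (sb E35591 (iv0 F145459))
theorem F294945 : act 4 n90003 = n44088 := (sb E35591 (iv4 D94316))
theorem E37176 : n111001 = n45477 := (((iv3 F172084)).symm.trans (sb E35595 F150117))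
theorem F294946 : act 6 n51185 = n45475 := (sb E35595 (iv6 D97382))
theorem F294947 : act 3 n97415 = n88710 := (sb E35597 F276231)
theorem F294948 : act 4 n97415 = n84310 := (sb E35597 (iv4 D176859))
theorem F294951 : act 4 n81874 = n43579 := (sb E35600 F143599)
theorem F294952 : act 3 n41654 = n87213 := (sb E35601 (iv3 F143811))
theorem F294953 : act 4 n159831 = n87213 := (sb E35602 (iv4 D182690))
theorem F294954 : act 0 n182694 = n94280 := (sb E35603 F289258)
theorem F294955 : act 1 n182694 = n88804 := (sb E35603 (iv0 D186447))
theorem F294956 : act 4 n94131 = n87214 := (sb E35604 (iv4 D182695))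
theorem F294957 : act 5 n182697 = n87994 := (sb E35605 (iv5 D184522))
theorem F294958 : act 0 n91221 = n89317 := (sb E35639 F157467)
theorem F294959 : act 2 n91221 = n89379 := (sb E35639 F157465)
theorem F294960 : act 6 n91221 = n47554 := (sb E35639 (iv6 D102525))
theorem F294961 : act 0 n43606 = n41636 := (sb E35643 (iv1 F136815))
theorem F294962 : act 1 n43606 = n41635 := (sb E35643 F136816)
theorem F294963 : act 7 n43606 = n41630 := (sb E35643 (iv7 D89101))
theorem F294964 : act 0 n43604 = n41630 := (sb E35644 (iv1 D89099))
theorem E37219 : n93196 = n41636 := ((D93196).symm.trans (sb E35644 F270469))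
theorem E37220 : n93197 = n45802 := ((D93197).symm.trans (sb E35644 F145034))
theorem E37221 : n93201 = n41635 := ((D93201).symm.trans (sb E35644 F270470))
theorem F294965 : act 1 n43605 = n41630 := (sb E35645 (iv0 D89098))
theorem E37222 : n186439 = n93202 := (((D93202).symm.trans (sb E35645 (iv3 F289231)))).symm
theorem E37223 : n100880 = n93205 := (((D93205).symm.trans (sb E35645 F155007))).symm
theorem F294966 : act 7 n43608 = n41637 := (sb E35646 (iv7 D89124))
theorem F294967 : act 5 n91183 = n87128 := (sb E35648 (iv5 D182507))
theorem E37228 : n100671 = n89589 := (((D89589).symm.trans (sb E35679 (iv3 F154774)))).symm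
theorem F294968 : act 0 n182605 = n182055 := (sb E35727 (iv1 F289267))
theorem F294969 : act 1 n182605 = n89165 := (sb E35727 (iv0 F289268))
theorem F294970 : act 2 n182605 = n94280 := (sb E35727 F289263)
theorem F294971 : act 6 n182605 = n99066 := (sb E35727 F289266)
theorem F294972 : act 7 n182605 = n88804 := (sb E35727 (iv7 D186450))
theorem F294973 : act 4 n98658 = n87946 := (sb E35728 (iv4 D184405))
theorem E37248 : n183668 = n19202 := (((D19202).symm.trans (sb E35730 (iv6 F285418)))).symm
theorem E37249 : n40835 = n19203 := (((D19203).symm.trans (sb E35731 D40835))).symm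
theorem F294974 : act 5 n103868 = n181901 := (sb E35745 F286106)
theorem F294975 : act 5 n103883 = n181907 := (sb E35748 F286115)
theorem F294976 : act 2 n47384 = n93307 := (sb E35749 (iv2 F143885))
theorem F294977 : act 5 n47384 = n43639 := (sb E35749 (iv5 D93292))
theorem F294978 : act 3 n97422 = n87947 := (sb E35752 F159674)
theorem F294979 : act 4 n44852 = n91009 := (sb E35760 (iv4 F287825))
theorem E37276 : n95416 = n88310 := ((D95416).symm.trans (sb E35774 (iv6 D185367)))
theorem F294980 : act 3 n44562 = n46704 := (sb E35775 F153946)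
theorem E37277 : n95412 = n46701 := ((D95412).symm.trans (sb E35775 (iv6 D99999)))
theorem F294981 : act 3 n98405 = n95411 := (sb E35776 F262749)
theorem F294983 : act 4 n90229 = n180400 := (sb E35777 F280745)
theorem F294984 : act 5 n90229 = n43577 := (sb E35777 (iv5 D93129))
theorem F294985 : act 5 n90230 = n43578 := (sb E35778 (iv5 D93134))
theorem F294986 : act 4 n88980 = n46328 := (sb E35779 F152565)
theorem F294987 : act 4 n88739 = n46323 := (sb E35782 F152554)
theorem F294988 : act 4 n88974 = n46315 := (sb E35784 F152523)
theorem F294989 : act 3 n91217 = n87438 := (sb E35791 F284784)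
theorem F294990 : act 5 n91217 = n87437 := (sb E35791 (iv5 D183180))
theorem F294991 : act 5 n91215 = n43345 := (sb E35792 (iv5 D92660))
theorem F294992 : act 5 n91216 = n43346 := (sb E35793 (iv5 D92665))
theorem E37330 : n18229 = n4771 := ((((iv4 F6880)).symm.trans (sb E35850 (iv4 D38121)))).symm
theorem E37335 : n82709 = n1988 := ((((iv5 F293122)).symm.trans (sb E35851 D82709))).symm
theorem E37338 : n22124 = n3843 := ((((iv1 F17439)).symm.trans (sb E35853 F58909))).symm
theorem E37339 : n22227 = n1677 := ((((iv0 F17440)).symm.trans (sb E35853 F58910))).symm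
theorem E37341 : n18224 = n8428 := (((D8428).symm.trans (sb E35853 (iv5 D38106)))).symm
theorem E37342 : n46123 = n4754 := ((((iv1 F17403)).symm.trans (sb E35854 D46123))).symm
theorem E37343 : n46124 = n10241 := (((F17394).symm.trans (sb E35854 D46124))).symm
theorem E37345 : n46126 = n9023 := (((F294265).symm.trans (sb E35854 D46126))).symm
theorem E37359 : n182499 = n101275 := (((D101275).symm.trans (sb E35865 D182499))).symm
theorem F294993 : act 0 n81871 = n43569 := (sb E35866 (iv1 D93114))
theorem F294994 : act 1 n81872 = n43569 := (sb E35867 (iv0 D93113))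
theorem F294995 : act 2 n81873 = n87226 := (sb E35868 F284296)
theorem F294996 : act 5 n88020 = n87865 := (sb E35903 (iv5 D184222))
theorem E37397 : n184383 = n91385 := (((D91385).symm.trans (sb E35918 (iv3 F286315)))).symm
theorem F294997 : act 2 n40650 = n20638 := (sb E35922 F68568)
theorem E37398 : n93280 = n87434 := (((D87434).symm.trans (sb E35922 D93280))).symm
theorem E37399 : n94081 = n93282 := (((D93282).symm.trans (sb E35923 D94081))).symm
theorem E37400 : n94082 = n93283 := (((D93283).symm.trans (sb E35924 D94082))).symm
theorem E37401 : n94083 = n93284 := (((D93284).symm.trans (sb E35924 D94083))).symm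
theorem E37402 : n94085 = n93285 := (((D93285).symm.trans (sb E35924 D94085))).symm
theorem E37427 : n93267 = n45801 := (((D45801).symm.trans (sb E35933 D93267))).symm
theorem F294998 : act 5 n103854 = n87814 := (sb E35937 (iv5 D184100))
theorem F294999 : act 5 n96211 = n87810 := (sb E35940 (iv5 D184094))
theorem F295000 : act 3 n45519 = n90003 := (sb E35942 (iv3 F138265))
theorem E37436 : n185565 = n97041 := (((D97041).symm.trans (sb E35943 D185565))).symm
theorem E37438 : n185567 = n97469 := (((D97469).symm.trans (sb E35944 D185567))).symm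
theorem F295001 : act 1 n46707 = n42551 := (sb E35957 (iv0 D90840))
theorem F295002 : act 0 n46702 = n42551 := (sb E35958 (iv1 D90841))
theorem F295004 : act 2 n90717 = n104013 := (sb E35976 (iv2 F159476))
theorem F295005 : act 4 n90717 = n46943 := (sb E35976 F154738)
theorem F295006 : act 3 n42724 = n42584 := (sb E35991 F139915)
theorem F295007 : act 5 n42724 = n42695 := (sb E35991 F139916)
theorem F295008 : act 4 n90916 = n91278 := (sb E35992 F154673)
theorem F295009 : act 7 n90916 = n104011 := (sb E35992 (iv7 F159470))
theorem F295010 : act 3 n90920 = n91284 := (sb E35996 F154675)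
theorem F295011 : act 6 n90920 = n104016 := (sb E35996 (iv6 F159481))
theorem F295012 : act 0 n86942 = n43002 := (sb E36000 (iv1 D92003))
theorem F295013 : act 1 n86942 = n43022 := (sb E36000 F141503)
theorem F295014 : act 3 n86942 = n91016 := (sb E36000 (iv3 F141505))
theorem E37445 : n102073 = n91115 := (((iv1 F157018)).symm.trans (sb E36001 F148575))
theorem E37447 : n182466 = n102075 := ((((iv2 F157020)).symm.trans (sb E36001 D182466))).symm
theorem F295015 : act 1 n87429 = n91189 := (sb E36005 F144455)
theorem F295016 : act 0 n86946 = n91189 := (sb E36007 F144478)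
theorem F295017 : act 0 n93286 = n87431 := (sb E36009 (iv1 F152593))
theorem F295018 : act 5 n93286 = n90187 := (sb E36009 (iv5 F294291))
theorem F295019 : act 1 n93287 = n87431 := (sb E36010 F152594)
theorem F295020 : act 5 n93287 = n90188 := (sb E36010 (iv5 F294293))
theorem F295021 : act 3 n93288 = n43991 := (sb E36011 F145008)
theorem F295022 : act 5 n93288 = n43990 := (sb E36011 (iv5 D94099))
theorem F295023 : act 7 n93288 = n87431 := (sb E36011 F145009)
theorem F295024 : act 5 n93289 = n102010 := (sb E36013 (iv5 F156962))
theorem F295025 : act 2 n93290 = n93305 := (sb E36014 (tr (iv2 F156409) E36553))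
theorem F295026 : act 7 n93290 = n93306 := (sb E36014 (tr F156408 E36554))
theorem F295027 : act 2 n93291 = n93306 := (sb E36015 (tr F156406 E36554))
theorem F295028 : act 5 n93291 = n47332 := (sb E36015 (iv5 F152599))
theorem F295029 : act 7 n93291 = n93305 := (sb E36015 (tr (iv7 F156407) E36553))
theorem F295030 : act 5 n93293 = n102016 := (sb E36016 (iv5 F156969))
theorem F295031 : act 4 n20630 = n10557 := (sb E36020 (iv4 D22155))
theorem E37451 : n46304 = n43610 := (((D43610).symm.trans (sb E36020 (iv6 F72951)))).symm
theorem E37454 : n93183 = n46305 := (((D46305).symm.trans (sb E36021 D93183))).symm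
theorem E37456 : n94113 = n92670 := (((D92670).symm.trans (sb E36034 F150760))).symm
theorem E37461 : n44209 = n10538 := (((D10538).symm.trans (sb E36042 (iv5 D94595)))).symm
theorem F295032 : act 5 n88617 = n88784 := (sb E36046 (iv5 D186389))
theorem F295033 : act 1 n89017 = n88774 := (sb E36047 (iv0 D186357))
theorem F295034 : act 0 n89016 = n88774 := (sb E36048 (iv1 D186358))
theorem F295035 : act 4 n89016 = n182694 := (sb E36048 (iv4 F289136))
theorem F295036 : act 2 n43935 = n88774 := (sb E36049 (iv2 D186359))
theorem F295037 : act 1 n89201 = n88775 := (sb E36050 (iv0 D186362))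
theorem F295038 : act 0 n89200 = n88775 := (sb E36051 (iv1 D186363))
theorem F295039 : act 3 n94105 = n88775 := (sb E36052 (iv3 D186364))
theorem F295040 : act 7 n89202 = n93258 := (sb E36053 (iv7 F143838))
theorem F295041 : act 0 n93261 = n87423 := (sb E36060 F144935)
theorem F295042 : act 1 n93261 = n87420 := (sb E36060 F144936)
theorem F295043 : act 7 n93262 = n184735 := (sb E36061 (iv7 F287207))
theorem F295044 : act 2 n41672 = n40478 := (sb E36066 F133715)
theorem E37478 : n182476 = n89193 := (((D89193).symm.trans (sb E36066 D182476))).symm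
theorem F295045 : act 1 n37856 = n40478 := (sb E36067 (iv0 D87121))
theorem F295046 : act 0 n41674 = n40478 := (sb E36068 (iv1 D87122))
theorem E37482 : n182480 = n89176 := ((((iv3 F136877)).symm.trans (sb E36068 D182480))).symm
theorem E37485 : n182485 = n98627 := (((D98627).symm.trans (sb E36069 D182485))).symm
theorem F295047 : act 4 n46106 = n40478 := (sb E36069 (iv4 D87123))
theorem E37487 : n182487 = n98628 := (((D98628).symm.trans (sb E36069 D182487))).symm
theorem E37490 : n182761 = n96147 := (((D96147).symm.trans (sb E36075 D182761))).symm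
theorem F295048 : act 3 n44868 = n40527 := (sb E36076 F133889)
theorem E37494 : n182765 = n96152 := (((D96152).symm.trans (sb E36076 D182765))).symm
theorem F295049 : act 7 n87244 = n94809 := (sb E36077 (iv7 F146154))
theorem F295050 : act 6 n87248 = n94815 := (sb E36082 (iv6 F146161))
theorem F295051 : act 2 n86141 = n94811 := (sb E36085 F285255)
theorem F295052 : act 4 n86141 = n87599 := (sb E36085 F285256)
theorem F295053 : act 6 n56626 = n87226 := (sb E36086 (iv6 D182727))
theorem F295054 : act 6 n88102 = n86125 := (sb E36087 (iv6 D180326))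
theorem E37495 : n183520 = n86131 := ((D183520).symm.trans (sb E36091 (iv5 D180339)))
theorem F295055 : act 5 n39869 = n40771 := (sb E36092 (iv5 D87593))
theorem F295056 : act 2 n22037 = n40499 := (sb E36102 (iv2 D87182))
theorem F295057 : act 0 n87180 = n41621 := (sb E36103 F157596)
theorem E37499 : n182604 = n46111 := ((D182604).symm.trans (sb E36103 F157598))
theorem E37500 : n182606 = n98433 := ((D182606).symm.trans (sb E36103 F157599))
theorem E37501 : n186454 = n182607 := (((D182607).symm.trans (sb E36103 (iv5 F289278)))).symm
theorem E37502 : n182608 = n46340 := ((D182608).symm.trans (sb E36103 F157315))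
theorem E37503 : n182609 = n41463 := ((D182609).symm.trans (sb E36103 (iv7 D88809)))
theorem F295058 : act 1 n87181 = n41621 := (sb E36104 F157594)
theorem E37504 : n182610 = n95731 := ((D182610).symm.trans (sb E36104 (iv3 F147424)))
theorem E37505 : n182611 = n98377 := ((D182611).symm.trans (sb E36104 (iv4 F151806)))
theorem E37506 : n185978 = n182612 := (((D182612).symm.trans (sb E36104 D185978))).symm
theorem E37507 : n182613 = n41344 := ((D182613).symm.trans (sb E36104 (iv6 D88589)))
theorem F295059 : act 2 n87576 = n95423 := (sb E36111 F148584)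
theorem F295060 : act 4 n87576 = n169937 := (sb E36111 (iv4 F267357))
theorem F295061 : act 7 n87580 = n95422 := (sb E36113 F148586)
theorem F295062 : act 2 n87583 = n95425 := (sb E36114 F148587)
theorem F295063 : act 4 n87583 = n169935 := (sb E36114 (iv4 F267355))
theorem F295064 : act 5 n89068 = n45044 := (sb E36115 (iv5 D96476))
theorem F295065 : act 2 n88374 = n182593 := (sb E36116 (iv2 F284094))
theorem F295066 : act 6 n88374 = n45044 := (sb E36116 (iv6 D96477))
theorem F295067 : act 0 n46089 = n45046 := (sb E36117 (iv1 D96480))
theorem F295068 : act 1 n87550 = n45046 := (sb E36118 (iv0 D96479))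
theorem F295069 : act 0 n88776 = n186050 := (sb E36185 (iv1 F288662))
theorem F295070 : act 1 n88776 = n47705 := (sb E36185 (iv0 D102864))
theorem F295071 : act 1 n91084 = n88229 := (sb E36206 (iv0 D185112))
theorem F295072 : act 2 n91084 = n88234 := (sb E36206 F290084)
theorem F295073 : act 7 n91084 = n88235 := (sb E36206 F290085)
theorem F295074 : act 0 n91163 = n88235 := (sb E36207 (iv1 F287487))
theorem F295075 : act 1 n91163 = n88234 := (sb E36207 F287488)
theorem F295076 : act 4 n91163 = n102549 := (sb E36207 F287484)
theorem F295077 : act 6 n91163 = n102393 := (sb E36207 F287485)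
theorem F295078 : act 7 n91163 = n88229 := (sb E36207 (iv7 D185115))
theorem F295079 : act 0 n91165 = n98078 := (sb E36208 (iv1 F290065))
theorem F295080 : act 1 n91165 = n98081 := (sb E36208 F290064)
theorem F295081 : act 7 n91165 = n88236 := (sb E36208 F144945)
theorem F295082 : act 6 n47509 = n42685 := (sb E36209 (iv6 D91166))
theorem F295083 : act 2 n98446 = n95415 := (sb E36247 F261396)
theorem F295084 : act 4 n98446 = n79696 := (sb E36247 (iv4 D165987))
theorem F295085 : act 5 n98446 = n87047 := (sb E36247 (iv5 F261395))
theorem F295086 : act 7 n98446 = n95411 := (sb E36247 F261394)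
theorem F295087 : act 6 n88336 = n87047 := (sb E36248 (iv6 D182298))
theorem F295088 : act 2 n181982 = n95411 := (sb E36249 F283836)
theorem F295089 : act 5 n181982 = n87048 := (sb E36249 (iv5 D182300))
theorem F295090 : act 7 n181982 = n95415 := (sb E36249 F283837)
theorem F295091 : act 6 n87762 = n87048 := (sb E36250 (iv6 D182301))
theorem F295092 : act 2 n182303 = n181979 := (sb E36251 F284660)
theorem E37549 : n182630 = n182303 := ((D182630).symm.trans (iv5 (sb E36251 (tr (iv5 D183027) E36843))))
theorem F295094 : act 7 n182303 = n98415 := (sb E36251 F284662)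
theorem F295095 : act 2 n182304 = n98415 := (sb E36252 F284638)
theorem E37550 : n182633 = n182304 := ((D182633).symm.trans (iv5 (sb E36252 (tr (iv5 D183014) E36844))))
theorem F295096 : act 7 n182304 = n181979 := (sb E36252 F284639)
theorem F295097 : act 0 n98446 = n182635 := (sb E36253 (iv1 F284166))
theorem F295098 : act 1 n181982 = n182635 := (sb E36254 F284165)
theorem F295099 : act 0 n181978 = n182638 := (sb E36255 (iv1 F284170))
theorem F295100 : act 1 n181978 = n182637 := (sb E36255 F284169)
theorem F295101 : act 7 n181978 = n182635 := (sb E36255 (iv7 F284164))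
theorem F295102 : act 3 n181983 = n165801 := (sb E36256 F283886)
theorem F295103 : act 5 n181983 = n165799 := (sb E36256 (iv5 F283887))
theorem F295104 : act 7 n181983 = n182639 := (sb E36256 (iv7 F284171))
theorem F295105 : act 2 n157808 = n87568 := (sb E36259 F283314)
theorem F295106 : act 4 n157808 = n86922 := (sb E36259 (iv4 D181993))
theorem F295107 : act 6 n181994 = n182648 := (sb E36262 (iv6 F284180))
theorem F295108 : act 1 n96473 = n87087 := (sb E36263 (iv0 D182384))
theorem F295109 : act 0 n89068 = n87087 := (sb E36264 (iv1 D182385))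
theorem F295110 : act 2 n98586 = n87087 := (sb E36265 F283940)
theorem F295111 : act 3 n98586 = n182635 := (sb E36265 (iv3 F284163))
theorem F295112 : act 7 n157805 = n87592 := (sb E36268 (iv7 D183521))
theorem E37554 : n94974 = n19220 := (((D19220).symm.trans (sb E36276 D94974))).symm
theorem E37558 : n87440 = n1991 := ((((iv1 D4826)).symm.trans (sb E36282 D87440))).symm
theorem E37559 : n87441 = n4771 := (((F7166).symm.trans (sb E36282 D87441))).symm
theorem E37560 : n87443 = n10547 := (((D10547).symm.trans (sb E36282 D87443))).symm
theorem E37562 : n40743 = n21604 := ((((iv4 F33995)).symm.trans (sb E36284 (iv4 F61850)))).symm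
theorem F295113 : act 1 n87579 = n181908 := (sb E36296 F284131)
theorem F295114 : act 4 n42701 = n41534 := (sb E36307 (iv4 D88960))
theorem E37574 : n179723 = n91214 := (((D91214).symm.trans (sb E36307 (iv7 F279939)))).symm
theorem E37584 : n94641 = n17786 := (((D17786).symm.trans (sb E36321 D94641))).symm
theorem E37596 : n44190 = n18222 := (E36335).trans E36341
theorem E37600 : n94545 = n18916 := (((D18916).symm.trans (sb E36327 D94545))).symm
theorem E37612 : n44188 = n18228 := (E36334).trans E36340
theorem E37615 : n38119 = n18916 := ((D38119).symm.trans (sb E37612 (tr (iv2 F145767) E37600)))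
theorem E37618 : n94555 = n38100 := (((D38100).symm.trans (sb E37596 D94555))).symm
theorem E37620 : n34528 = n10538 := (((iv2 F54760)).symm.trans (sb E37596 (tr (iv2 F69560) E37461)))
theorem E37622 : n38111 = n10370 := (((F17622).symm.trans (sb E36337 D38111))).symm
theorem F295116 : act 4 n10547 = n10547 := (sb E36337 F29386)
theorem E37624 : n38114 = n8391 := (((F17629).symm.trans (sb E36338 D38114))).symm
theorem F295119 : act 2 n4827 = n8602 := (sb E36339 F29340)
theorem E37626 : n37956 = n10533 := ((((iv3 F16730)).symm.trans (sb E36339 D37956))).symm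
theorem E37627 : n10548 = n8570 := ((D10548).symm.trans (sb E36339 (iv4 D18178)))
theorem E37629 : n38118 = n18053 := ((D38118).symm.trans (sb E36340 F34446))
theorem E37632 : n45873 = n38102 := ((((iv6 F58902)).symm.trans (sb E36340 (iv6 F72436)))).symm
theorem E37633 : n45984 = n38100 := (((D38100).symm.trans (sb E36341 D45984))).symm
theorem E37634 : n38101 = n36948 := ((D38101).symm.trans (sb E36341 (iv0 F118462)))
theorem E37636 : n38103 = n10480 := ((D38103).symm.trans (sb E36341 (iv5 D21972)))
theorem E37710 : n44246 = n8422 := ((((iv4 F13219)).symm.trans (sb E36406 D44246))).symm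
theorem E37713 : n37162 = n18225 := (((iv4 F58107)).symm.trans (sb E36409 (tr (iv4 F69342) E36433)))
theorem F295120 : act 0 n98587 = n96478 := (sb E36412 (iv1 F284105))
theorem F295121 : act 1 n98587 = n87178 := (sb E36412 (iv0 D182597))
theorem F295122 : act 0 n89057 = n87178 := (sb E36413 (iv1 D182598))
theorem F295123 : act 1 n89057 = n96478 := (sb E36413 F284106)
theorem F295124 : act 7 n87554 = n182386 := (sb E36417 F284228)
theorem F295125 : act 6 n87569 = n182395 := (sb E36421 F284237)
theorem F295126 : act 6 n101274 = n75174 := (sb E36423 (iv6 D157779))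
theorem F295127 : act 0 n45494 = n90002 := (sb E36432 (iv1 F138268))
theorem F295128 : act 4 n45494 = n92330 := (sb E36432 (iv4 F141988))
theorem F295129 : act 7 n45494 = n90003 := (sb E36432 (iv7 F138266))
theorem F295130 : act 4 n92033 = n95983 := (sb E36434 (iv4 F147619))
theorem F295131 : act 6 n48418 = n43018 := (sb E36435 (iv6 D92034))
theorem F295132 : act 0 n93965 = n97380 := (sb E36436 (iv1 F292591))
theorem F295133 : act 1 n93965 = n88437 := (sb E36436 (iv0 D185658))
theorem F295134 : act 2 n156878 = n88430 := (sb E36437 F287948)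
theorem F295135 : act 3 n156878 = n97380 := (sb E36437 (iv3 F292592))
theorem F295136 : act 5 n156878 = n88429 := (sb E36437 (iv5 D185634))
theorem F295137 : act 2 n88614 = n45755 := (sb E36439 F151161)
theorem E37740 : n92581 = n45754 := (((iv7 F294551)).symm.trans (sb E36439 (iv7 D98033)))
theorem F295138 : act 7 n88615 = n45755 := (sb E36440 (iv7 F151158))
theorem F295139 : act 5 n93792 = n45755 := (sb E36441 (iv5 D98036))
theorem F295140 : act 1 n94133 = n45757 := (sb E36442 (iv0 D98039))
theorem E37776 : n94213 = n27402 := (((D27402).symm.trans (sb E36453 D94213))).symm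
theorem F295141 : act 0 n82029 = n93139 := (sb E36474 (iv1 F143643))
theorem F295142 : act 3 n88934 = n91209 := (sb E36475 (iv3 F140247))
theorem F295143 : act 5 n88934 = n162196 := (sb E36475 (iv5 F256332))
theorem F295144 : act 7 n88934 = n93140 := (sb E36475 (iv7 F143644))
theorem F295145 : act 4 n19558 = n20148 := (sb E36477 (iv4 F293932))
theorem E37791 : n101584 = n93146 := (((D93146).symm.trans (sb E36482 D101584))).symm
theorem E37792 : n101585 = n93147 := (((D93147).symm.trans (sb E36482 D101585))).symm
theorem E37797 : n93243 = n47239 := ((((iv3 F74500)).symm.trans (sb E36500 (iv3 F143822)))).symm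
theorem F295146 : act 4 n22724 = n43582 := (sb E36500 F68564)
theorem F295147 : act 6 n22724 = n20633 := (sb E36500 (iv6 D43620))
theorem E37798 : n93251 = n47254 := (((D47254).symm.trans (sb E36500 D93251))).symm
theorem F295148 : act 1 n91997 = n185438 := (sb E36502 F287703)
theorem F295149 : act 2 n91997 = n87764 := (sb E36502 F289979)
theorem F295150 : act 5 n91997 = n87381 := (sb E36502 F289981)
theorem F295151 : act 6 n91997 = n87757 := (sb E36502 F289982)
theorem F295152 : act 0 n93138 = n82029 := (sb E36503 F294611)
theorem F295153 : act 4 n93138 = n161138 := (sb E36503 F254745)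
theorem F295154 : act 5 n93138 = n43829 := (sb E36503 (iv5 D93758))
theorem E37799 : n98447 = n77414 := ((D98447).symm.trans (sb E36505 (iv4 D161269)))
theorem F295155 : act 5 n46045 = n93762 := (sb E36505 F255086)
theorem F295156 : act 5 n93139 = n43830 := (sb E36506 (iv5 D93763))
theorem F295157 : act 0 n90136 = n46964 := (sb E36509 (iv1 F154808))
theorem F295158 : act 1 n90136 = n46962 := (sb E36509 (iv0 D100700))
theorem F295159 : act 4 n90136 = n93084 := (sb E36509 (iv4 F154809))
theorem E37800 : n93256 = n93234 := (((D93234).symm.trans (sb E36510 (iv3 F294594)))).symm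
theorem F295160 : act 4 n43616 = n41654 := (sb E36510 F148779)
theorem E37802 : n172719 = n93237 := (((D93237).symm.trans (sb E36510 D172719))).symm
theorem F295161 : act 3 n43617 = n41630 := (sb E36511 F127383)
theorem E37803 : n172712 = n93238 := (((D93238).symm.trans (sb E36511 D172712))).symm
theorem F295162 : act 6 n43617 = n37997 := (sb E36511 (iv6 D82684))
theorem E37805 : n172721 = n93241 := (((D93241).symm.trans (sb E36512 D172721))).symm
theorem E37806 : n172722 = n93242 := (((D93242).symm.trans (sb E36512 D172722))).symm
theorem F295163 : act 0 n90394 = n90463 := (sb E36535 (iv1 F291501))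
theorem F295164 : act 1 n90394 = n87931 := (sb E36535 (iv0 F285540))
theorem F295165 : act 2 n90394 = n185416 := (sb E36535 F288156)
theorem F295166 : act 3 n90394 = n159730 := (sb E36535 F285536)
theorem F295167 : act 5 n90394 = n181948 := (sb E36535 (iv5 F285538))
theorem F295168 : act 7 n90394 = n87676 := (sb E36535 (iv7 D183763))
theorem F295169 : act 0 n88801 = n91217 := (sb E36537 (iv1 F140255))
theorem F295170 : act 1 n88801 = n42258 := (sb E36537 (iv0 D90396))
theorem F295171 : act 5 n90397 = n46340 := (sb E36538 (iv5 D99068))
theorem F295172 : act 7 n43998 = n43636 := (sb E36551 F141674)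
theorem F295173 : act 3 n43999 = n43643 := (sb E36552 F141675)
theorem F295174 : act 5 n93305 = n101852 := (sb E36553 (iv5 F156812))
theorem F295175 : act 5 n93306 = n99728 := (sb E36554 (iv5 F153527))
theorem F295176 : act 6 n93306 = n101560 := (sb E36554 F156365)
theorem F295177 : act 3 n93304 = n94118 := (sb E36555 F150771)
theorem F295178 : act 7 n44829 = n92033 := (sb E36556 F288432)
theorem F295179 : act 5 n45810 = n93261 := (sb E36559 F143858)
theorem F295180 : act 0 n96077 = n86895 := (sb E36740 (iv1 D181929))
theorem F295181 : act 0 n99778 = n185594 := (sb E36741 F288891)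
theorem F295182 : act 3 n99778 = n87105 := (sb E36741 (iv3 D182438))
theorem F295183 : act 1 n99779 = n185594 := (sb E36742 F287919)
theorem F295184 : act 4 n99773 = n89988 := (sb E36743 F283993)
theorem F295185 : act 7 n99773 = n185594 := (sb E36743 (iv7 F287918))
theorem F295186 : act 1 n21373 = n43607 := (sb E36746 (iv0 F141048))
theorem F295187 : act 1 n93209 = n44673 := (sb E36747 F147195)
theorem F295188 : act 2 n93209 = n44630 := (sb E36747 (iv2 D95547))
theorem F295189 : act 3 n93209 = n44826 := (sb E36747 F147192)
theorem F295190 : act 4 n93209 = n46283 := (sb E36747 F147193)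
theorem F295191 : act 7 n93209 = n44852 := (sb E36747 F147194)
theorem F295192 : act 0 n93206 = n44852 := (sb E36748 (iv1 F147190))
theorem F295193 : act 1 n93206 = n44630 := (sb E36748 (iv0 D95546))
theorem F295194 : act 3 n93206 = n97410 := (sb E36748 (iv3 F150143))
theorem E38003 : n181924 = n93206 := ((D181924).symm.trans (iv6 (sb E36748 (tr F148777 E36781))))
theorem F295195 : act 7 n93206 = n44673 := (sb E36748 F147191)
theorem F295196 : act 2 n46087 = n40463 := (sb E36749 (iv2 D87086))
theorem F295197 : act 0 n41593 = n40463 := (sb E36750 (iv1 D87085))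
theorem F295198 : act 5 n91181 = n43995 := (sb E36751 (iv5 D94106))
theorem F295199 : act 7 n91181 = n45803 := (sb E36751 F145037)
theorem F295200 : act 0 n91182 = n182039 := (sb E36753 (iv1 F283452))
theorem F295201 : act 1 n91182 = n182036 := (sb E36753 (iv0 F283443))
theorem F295202 : act 7 n91182 = n45810 := (sb E36753 F145039)
theorem F295203 : act 5 n89203 = n91182 := (sb E36755 F140229)
theorem F295204 : act 7 n89203 = n93261 := (sb E36755 (iv7 F143843))
theorem F295205 : act 0 n97003 = n87949 := (sb E36757 (iv1 F286333))
theorem F295206 : act 1 n97003 = n87947 := (sb E36757 (iv0 D184408))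
theorem E38056 : n182720 = n93216 := (((D93216).symm.trans (sb E36771 (iv1 F289152)))).symm
theorem E38058 : n181922 = n93208 := ((((iv2 F143784)).symm.trans (sb E36771 (iv2 F283224)))).symm
theorem F295207 : act 0 n87223 = n81874 := (sb E36775 (iv1 F136391))
theorem E38071 : n182715 = n81871 := ((D182715).symm.trans (sb E36775 F270465))
theorem E38072 : n182719 = n81872 := ((D182719).symm.trans (sb E36775 F270466))
theorem F295208 : act 1 n87224 = n81874 := (sb E36776 F136393)
theorem E38073 : n185124 = n182722 := (((D182722).symm.trans (sb E36776 (iv6 F290107)))).symm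
theorem F295209 : act 3 n44833 = n87946 := (sb E36777 (iv3 D184404))
theorem F295210 : act 5 n103875 = n87946 := (sb E36778 (iv5 D184406))
theorem F295211 : act 6 n97484 = n87946 := (sb E36779 (iv6 D184407))
theorem F295212 : act 2 n97003 = n87945 := (sb E36780 (iv2 D184398))
theorem F295213 : act 7 n97003 = n87946 := (sb E36780 (iv7 F286330))
theorem F295214 : act 0 n86892 = n45519 := (sb E36781 (iv1 F148775))
theorem F295215 : act 2 n86892 = n45518 := (sb E36781 (iv2 F148774))
theorem F295216 : act 7 n86892 = n45362 := (sb E36781 F148776)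
theorem F295217 : act 0 n44635 = n40313 := (sb E36782 (iv1 D86893))
theorem F295218 : act 0 n86894 = n45518 := (sb E36783 (iv1 F148786))
theorem F295219 : act 1 n86894 = n45362 := (sb E36783 F148785)
theorem F295220 : act 3 n86894 = n45494 := (sb E36783 F148782)
theorem F295221 : act 4 n86894 = n89034 := (sb E36783 F148783)
theorem F295222 : act 7 n86894 = n45519 := (sb E36783 F148784)
theorem E38076 : n165918 = n98415 := (((D98415).symm.trans (sb E36784 F261285))).symm
theorem F295223 : act 4 n86917 = n43617 := (sb E36786 F133665)
theorem F295224 : act 2 n91999 = n183016 := (sb E36791 (iv2 F290130))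
theorem F295225 : act 7 n91999 = n183126 := (sb E36791 (iv7 F284740))
theorem F295226 : act 6 n22774 = n43001 := (sb E36792 (iv6 D92000))
theorem F295227 : act 0 n44844 = n43022 := (sb E36793 (iv1 F141502))
theorem F295228 : act 1 n44844 = n43002 := (sb E36793 (iv0 D92002))
theorem F295229 : act 0 n92004 = n94101 := (sb E36794 (iv1 F145017))
theorem F295230 : act 2 n92004 = n88371 := (sb E36794 (iv2 F144951))
theorem F295231 : act 5 n92004 = n88371 := (sb E36794 F144949)
theorem F295232 : act 7 n92004 = n94112 := (sb E36794 (iv7 F145053))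
theorem F295233 : act 2 n92005 = n88368 := (sb E36795 F285759)
theorem F295234 : act 5 n92005 = n87727 := (sb E36795 (iv5 D183910))
theorem F295235 : act 0 n91174 = n86946 := (sb E36814 F144957)
theorem F295236 : act 1 n91174 = n87429 := (sb E36814 F144958)
theorem F295237 : act 7 n91174 = n87425 := (sb E36814 F144955)
theorem F295238 : act 5 n91175 = n87825 := (sb E36815 F151248)
theorem F295239 : act 5 n47935 = n87124 := (sb E36837 F158726)
theorem F295240 : act 5 n93356 = n87133 := (sb E36840 F158733)
theorem F295241 : act 1 n9041 = n8994 := (sb E36841 (iv0 F294673))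
theorem F295242 : act 0 n87190 = n86918 := (sb E36842 (iv1 F145981))
theorem F295243 : act 1 n87190 = n46036 := (sb E36842 F145980)
theorem F295244 : act 3 n87190 = n46087 := (sb E36842 F145977)
theorem F295245 : act 6 n87190 = n87366 := (sb E36842 F145978)
theorem F295246 : act 7 n87190 = n86917 := (sb E36842 F145979)
theorem F295247 : act 0 n87188 = n86917 := (sb E36843 (iv1 F134152))
theorem F295248 : act 2 n87188 = n86918 := (sb E36843 F152052)
theorem E38085 : n182629 = n40610 := ((D182629).symm.trans (sb E36843 (iv4 D87377)))
theorem E38086 : n183028 = n182631 := (((D182631).symm.trans (sb E36843 D183028))).symm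
theorem F295249 : act 7 n87188 = n46036 := (sb E36843 F152053)
theorem F295250 : act 1 n87189 = n86917 := (sb E36844 (iv0 F145035))
theorem F295251 : act 2 n87189 = n46036 := (sb E36844 F152061)
theorem E38087 : n183013 = n182632 := (((D182632).symm.trans (sb E36844 D183013))).symm
theorem E38088 : n183015 = n182634 := (((D182634).symm.trans (sb E36844 D183015))).symm
theorem F295252 : act 7 n87189 = n86918 := (sb E36844 F152062)
theorem F295253 : act 2 n91206 = n93241 := (sb E36845 (tr (iv2 F270974) E37805))
theorem F295254 : act 5 n91206 = n47092 := (sb E36845 (iv5 D101092))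
theorem F295255 : act 4 n40609 = n87189 := (sb E36847 F139986)
theorem F295256 : act 4 n88926 = n157912 := (sb E36849 F248815)
theorem F295257 : act 3 n46032 = n87188 := (sb E36852 (iv3 F139989))
theorem E38089 : n162203 = n98402 := (((D98402).symm.trans (sb E36852 F256352))).symm
theorem F295258 : act 1 n93132 = n92664 := (sb E36855 (iv0 F294596))
theorem F295259 : act 2 n93132 = n183001 := (sb E36855 (iv2 F284595))
theorem F295260 : act 4 n93132 = n183001 := (sb E36855 (iv4 F284596))
theorem F295261 : act 7 n93132 = n88929 := (sb E36855 F152066)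
theorem F295262 : act 0 n89100 = n93213 := (sb E36859 (iv1 F143790))
theorem F295263 : act 1 n89100 = n93212 := (sb E36859 F143789)
theorem F295264 : act 7 n89100 = n93207 := (sb E36859 (iv7 F143781))
theorem F295265 : act 0 n89121 = n93207 := (sb E36860 (iv1 F143783))
theorem F295266 : act 1 n89122 = n93207 := (sb E36861 F143782)
theorem F295267 : act 3 n89123 = n91022 := (sb E36862 F140242)
theorem F295268 : act 7 n89123 = n93214 := (sb E36862 (iv7 F143792))
theorem E38090 : n98975 = n91028 := (((D91028).symm.trans (sb E36865 (iv1 F275028)))).symm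
theorem E38091 : n98980 = n91029 := (((D91029).symm.trans (sb E36865 F155170))).symm
theorem F295269 : act 4 n42637 = n41641 := (sb E36865 (iv4 D89137))
theorem F295270 : act 4 n89138 = n91031 := (sb E36868 F140245)
theorem F295271 : act 6 n89138 = n93223 := (sb E36868 (iv6 F143801))
theorem F295272 : act 2 n99332 = n46950 := (sb E36897 (iv2 D100666))
theorem F295273 : act 1 n92042 = n94101 := (sb E36902 (iv0 F145016))
theorem F295274 : act 2 n92042 = n94112 := (sb E36902 F145051)
theorem F295275 : act 5 n92042 = n94112 := (sb E36902 (iv5 F145049))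
theorem F295276 : act 7 n92042 = n88371 := (sb E36902 F144952)
theorem F295277 : act 0 n92043 = n183098 := (sb E36903 F287786)
theorem F295278 : act 2 n92043 = n183127 := (sb E36903 F287784)
theorem F295279 : act 5 n92043 = n182947 := (sb E36903 F287785)
theorem F295280 : act 0 n91168 = n87412 := (sb E36922 F144947)
theorem F295281 : act 1 n91168 = n87415 := (sb E36922 F144948)
theorem F295282 : act 2 n91168 = n94110 := (sb E36922 (iv2 F145044))
theorem F295283 : act 5 n91168 = n94110 := (sb E36922 (iv5 F145045))
theorem F295284 : act 7 n91168 = n88244 := (sb E36922 F144946)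
theorem F295285 : act 0 n91169 = n184722 := (sb E36923 F287190)
theorem F295286 : act 2 n91169 = n94111 := (sb E36923 (iv2 F145047))
theorem F295287 : act 5 n91169 = n102396 := (sb E36923 (iv5 F157219))
theorem F295288 : act 1 n40632 = n42694 := (sb E36928 (iv0 D91184))
theorem F295289 : act 0 n87428 = n42694 := (sb E36929 (iv1 D91185))
theorem F295290 : act 5 n91186 = n183172 := (sb E36930 (iv5 F284769))
theorem F295291 : act 2 n87433 = n43636 := (sb E36931 F140232)
theorem F295292 : act 5 n87433 = n42694 := (sb E36931 (iv5 D91187))
theorem F295293 : act 0 n93136 = n88933 := (sb E37030 (iv1 F268903))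
theorem F295294 : act 1 n93136 = n88932 := (sb E37030 F268907)
theorem F295295 : act 7 n93136 = n82029 := (sb E37030 (iv7 D171156))
theorem F295296 : act 2 n44843 = n91009 := (sb E37031 F144434)
theorem F295297 : act 4 n93228 = n89164 := (sb E37033 F270964)
theorem F295298 : act 4 n41653 = n43615 := (sb E37034 (iv4 D93230))
theorem F295299 : act 4 n93232 = n89167 := (sb E37036 F270969)
theorem F295300 : act 4 n93233 = n89168 := (sb E37037 F270971)
theorem F295301 : act 2 n44830 = n92033 := (sb E37066 F288437)
theorem F295302 : act 0 n45326 = n88581 := (sb E37068 F144467)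
theorem F295303 : act 1 n95545 = n88581 := (sb E37069 F288447)
theorem F295304 : act 0 n44634 = n92033 := (sb E37077 (iv1 F141529))
theorem F295305 : act 4 n95541 = n88581 := (sb E37102 (iv4 D185958))
theorem F295306 : act 1 n44631 = n92033 := (sb E37107 (iv0 F141528))
theorem E38102 : n87453 = n40029 := ((((iv4 F60889)).symm.trans (sb E37140 (iv4 F134251)))).symm
theorem E38103 : n97565 = n40740 := (((D40740).symm.trans (sb E37140 D97565))).symm
theorem F295307 : act 3 n96053 = n86892 := (sb E37144 (iv3 D181921))
theorem F295308 : act 3 n93214 = n46290 := (sb E37161 (iv3 D98925))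
theorem F295309 : act 3 n87364 = n43577 := (sb E37167 (iv3 D93127))
theorem F295310 : act 4 n21997 = n43577 := (sb E37168 (iv4 D93128))
theorem F295311 : act 1 n93130 = n98387 := (sb E37169 F290008)
theorem F295312 : act 2 n93130 = n88931 := (sb E37169 F152065)
theorem F295314 : act 4 n93130 = n46044 := (sb E37169 F151861)
theorem F295315 : act 5 n93130 = n47530 := (sb E37169 F289970)
theorem F295316 : act 4 n21996 = n43578 := (sb E37170 (iv4 D93133))
theorem F295317 : act 2 n93135 = n88927 := (sb E37171 (iv2 F152071))
theorem F295318 : act 4 n93135 = n46039 := (sb E37171 F151843)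
theorem F295319 : act 5 n93135 = n46711 := (sb E37171 F151844)
theorem F295320 : act 5 n93141 = n98460 := (sb E37172 F279950)
theorem F295321 : act 7 n93141 = n85844 := (sb E37172 (iv7 D179729))
theorem F295322 : act 3 n93149 = n85844 := (sb E37173 F279943)
theorem F295323 : act 5 n93149 = n98563 := (sb E37173 F279944)
theorem F295324 : act 6 n93149 = n85842 := (sb E37173 (iv6 D179724))
theorem F295325 : act 3 n45477 = n51185 := (sb E37176 F172084)
theorem E38138 : n132026 = n97385 := ((((iv4 F150119)).symm.trans (sb E37176 (iv4 F211518)))).symm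
theorem E38139 : n92940 = n51184 := (((iv5 F143323)).symm.trans (sb E37176 (iv5 D111001)))
theorem E38140 : n107477 = n97388 := (((D97388).symm.trans (sb E37176 F172085))).symm
theorem F295331 : act 2 n41636 = n43604 := (sb E37219 (iv2 D93196))
theorem F295332 : act 7 n41636 = n43605 := (sb E37219 (iv7 F143773))
theorem F295333 : act 3 n45802 = n43604 := (sb E37220 (iv3 D93197))
theorem F295334 : act 4 n45802 = n87224 := (sb E37220 F143774)
theorem F295335 : act 2 n41635 = n43605 := (sb E37221 F143775)
theorem F295336 : act 7 n41635 = n43604 := (sb E37221 (iv7 D93201))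
theorem F295337 : act 0 n93202 = n97312 := (sb E37222 F289235)
theorem F295338 : act 1 n93202 = n88797 := (sb E37222 (iv0 D186439))
theorem F295339 : act 2 n93202 = n98077 := (sb E37222 (iv2 F289233))
theorem F295340 : act 4 n93202 = n96949 := (sb E37222 F289232)
theorem F295341 : act 7 n93202 = n89117 := (sb E37222 (iv7 F289234))
theorem F295342 : act 2 n93205 = n89115 := (sb E37223 (iv2 F270475))
theorem F295343 : act 5 n93205 = n47022 := (sb E37223 (iv5 D100880))
theorem F295344 : act 1 n89589 = n46953 := (sb E37228 (iv0 D100671))
theorem E38145 : n87646 = n40683 := (((D40683).symm.trans (sb E37248 (iv5 D183668)))).symm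
theorem E38146 : n86434 = n40685 := (((D40685).symm.trans (sb E37249 (iv4 F132525)))).symm
theorem F295345 : act 6 n88310 = n44563 := (sb E37276 (iv6 D95416))
theorem F295346 : act 6 n46701 = n44562 := (sb E37277 (iv6 D95412))
theorem F295347 : act 5 n4771 = n8602 := (sb E37330 (iv5 D18229))
theorem E38211 : n172748 = n4812 := ((((iv4 F6903)).symm.trans (sb E37335 D172748))).symm
theorem E38218 : n46257 = n8553 := ((((iv3 F13376)).symm.trans (sb E37338 (iv3 F72908)))).symm
theorem E38220 : n46417 = n3848 := ((((iv3 F5836)).symm.trans (sb E37339 D46417))).symm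
theorem F295348 : act 4 n8428 = n8601 := (sb E37341 (iv4 D18224))
theorem E38229 : n98669 = n4547 := (((F293810).symm.trans (sb E37342 D98669))).symm
theorem E38232 : n98672 = n4822 := (((F16194).symm.trans (sb E37343 D98672))).symm
theorem E38238 : n98678 = n10209 := ((((iv4 F16135)).symm.trans (sb E37345 D98678))).symm
theorem F295349 : act 6 n101275 = n182711 := (sb E37359 (iv6 F284286))
theorem F295352 : act 1 n91385 = n87939 := (sb E37397 (iv0 D184383))
theorem F295353 : act 2 n87434 = n43637 := (sb E37398 F143860)
theorem F295354 : act 2 n93282 = n183173 := (sb E37399 (iv2 F284770))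
theorem F295355 : act 0 n93283 = n183176 := (sb E37400 (iv1 F284776))
theorem F295356 : act 1 n93284 = n183176 := (sb E37401 F284775)
theorem F295357 : act 0 n93285 = n183175 := (sb E37402 (iv1 F284772))
theorem F295358 : act 1 n93285 = n183174 := (sb E37402 F284774)
theorem F295359 : act 2 n93285 = n183176 := (sb E37402 (iv2 F284773))
theorem F295360 : act 6 n93285 = n94118 := (sb E37402 (iv6 F145057))
theorem F295361 : act 4 n45801 = n87223 := (sb E37427 F143845)
theorem F295362 : act 7 n97041 = n181923 := (sb E37436 F287883)
theorem F295363 : act 2 n97469 = n181923 := (sb E37438 F287885)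
theorem F295364 : act 0 n91115 = n47408 := (sb E37445 (iv1 D102073))
theorem F295365 : act 1 n91115 = n47420 := (sb E37445 F157018)
theorem F295366 : act 3 n102075 = n185594 := (sb E37447 F287920)
theorem E38322 : n98982 = n93220 := (((D93220).symm.trans (sb E37451 D98982))).symm
theorem E38323 : n98983 = n93221 := (((D93221).symm.trans (sb E37451 D98983))).symm
theorem F295367 : act 4 n43610 = n22141 := (sb E37451 (iv4 D46304))
theorem E38325 : n98986 = n93223 := (((D93223).symm.trans (sb E37451 D98986))).symm
theorem F295368 : act 6 n46305 = n91031 := (sb E37454 F143726)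
theorem F295369 : act 3 n92670 = n43998 := (sb E37456 (iv3 D94113))
theorem F295370 : act 5 n92670 = n183154 := (sb E37456 (iv5 F284753))
theorem E38338 : n94596 = n22120 := (((D22120).symm.trans (sb E37461 D94596))).symm
theorem F295371 : act 2 n89193 = n87124 := (sb E37478 F284000)
theorem F295372 : act 4 n89176 = n165902 := (sb E37482 (iv4 F284003))
theorem F295373 : act 4 n98627 = n87129 := (sb E37485 F284008)
theorem F295374 : act 4 n98628 = n87124 := (sb E37487 F284011)
theorem F295376 : act 4 n96147 = n87244 := (sb E37490 F284334)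
theorem F295377 : act 3 n96152 = n87248 := (sb E37494 F284336)
theorem F295378 : act 5 n86131 = n87592 := (sb E37495 (iv5 D183520))
theorem F295379 : act 2 n46111 = n87180 := (sb E37499 (iv2 D182604))
theorem F295380 : act 7 n46111 = n87181 := (sb E37499 (iv7 F284115))
theorem F295381 : act 4 n98433 = n87180 := (sb E37500 (iv4 D182606))
theorem F295382 : act 0 n182607 = n89192 := (sb E37501 (iv1 F289279))
theorem F295383 : act 1 n182607 = n96444 := (sb E37501 (iv0 F294411))
theorem F295384 : act 2 n182607 = n98641 := (sb E37501 F289277)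
theorem F295385 : act 7 n182607 = n88808 := (sb E37501 (iv7 D186454))
theorem F295386 : act 6 n46340 = n87180 := (sb E37502 (iv6 D182608))
theorem F295387 : act 2 n41463 = n87181 := (sb E37503 F284117)
theorem F295388 : act 7 n41463 = n87180 := (sb E37503 (iv7 D182609))
theorem F295389 : act 3 n95731 = n87181 := (sb E37504 (iv3 D182610))
theorem F295390 : act 4 n98377 = n87181 := (sb E37505 (iv4 D182611))
theorem F295391 : act 0 n182612 = n96444 := (sb E37506 (iv1 F294412))
theorem F295392 : act 1 n182612 = n89192 := (sb E37506 (iv0 F288473))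
theorem F295393 : act 2 n182612 = n88808 := (sb E37506 F288469)
theorem F295394 : act 6 n182612 = n99595 := (sb E37506 F288470)
theorem F295395 : act 7 n182612 = n98641 := (sb E37506 F288471)
theorem F295396 : act 6 n41344 = n87181 := (sb E37507 (iv6 D182613))
theorem F295397 : act 4 n182303 = n121000 := (sb E37549 F284154)
theorem F295398 : act 5 n182303 = n87188 := (sb E37549 (iv5 D182630))
theorem F295399 : act 4 n182304 = n165910 := (sb E37550 (iv4 F284160))
theorem F295400 : act 5 n182304 = n87189 := (sb E37550 (iv5 D182633))
theorem E38341 : n40029 = n4547 := (((iv4 F60889)).symm.trans (sb E37554 (tr (iv4 F152115) E38229)))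
theorem E38345 : n98842 = n4827 := (((D4827).symm.trans (sb E37558 F152388))).symm
theorem E38348 : n183186 = n8602 := (((F295347).symm.trans (sb E37559 D183186))).symm
theorem E38352 : n183191 = n10547 := (((F295116).symm.trans (sb E37560 D183191))).symm
theorem E38358 : n87534 = n45311 := (((D45311).symm.trans (sb E37562 (iv3 F134432)))).symm
theorem F295402 : act 4 n91214 = n85842 := (sb E37574 (iv4 D179723))
theorem E38383 : n171647 = n27192 := ((((iv4 F43955)).symm.trans (sb E37584 F269529))).symm
theorem E38411 : n82680 = n37668 := ((((iv4 F58507)).symm.trans (sb E37615 (iv4 F127374)))).symm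
theorem E38415 : n75454 = n22120 := (((iv1 F113236)).symm.trans (sb E37618 (tr (iv1 F145830) E38338)))
theorem E38419 : n75452 = n22097 := ((((iv3 F34568)).symm.trans (sb E37620 D75452))).symm
theorem E38420 : n22119 = n16745 := ((D22119).symm.trans (sb E37620 (iv4 D34528)))
theorem E38421 : n75453 = n4824 := ((((iv5 D10538)).symm.trans (sb E37620 D75453))).symm
theorem E38422 : n82841 = n19203 := ((((iv1 F30847)).symm.trans (sb E37622 D82841))).symm
theorem E38423 : n82842 = n21428 := ((((iv0 F33652)).symm.trans (sb E37622 D82842))).symm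
theorem E38425 : n45311 = n21604 := ((((iv4 F33995)).symm.trans (sb E37622 (iv4 F71368)))).symm
theorem E38434 : n36965 = n17790 := (((D17790).symm.trans (sb E37624 F58925))).symm
theorem E38440 : n82618 = n17848 := ((((iv1 F29004)).symm.trans (sb E37626 D82618))).symm
theorem E38441 : n82619 = n8413 := ((((iv0 F17598)).symm.trans (sb E37626 D82619))).symm
theorem E38442 : n81237 = n22099 := (((D22099).symm.trans (sb E37626 (iv4 F125030)))).symm
theorem E38443 : n22123 = n18140 := ((((iv3 F29308)).symm.trans (sb E37627 D22123))).symm
theorem F295408 : act 4 n8570 = n4827 := (sb E37627 (iv4 D10548))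
theorem E38448 : n82865 = n27376 := ((((iv3 F44269)).symm.trans (sb E37629 D82865))).symm
theorem E38461 : n82815 = n56497 := ((D82815).symm.trans (sb E37632 F126330))
theorem E38462 : n98178 = n82816 := (((D82816).symm.trans (sb E37632 D98178))).symm
theorem E38463 : n82818 = n21938 := ((D82818).symm.trans (sb E37632 (iv5 D45873)))
theorem E38466 : n98126 = n82811 := (((D82811).symm.trans (sb E37633 (iv5 F151309)))).symm
theorem F295413 : act 0 n36948 = n18222 := (sb E37634 (iv1 D38101))
theorem E38478 : n82822 = n16758 := ((((iv4 F27523)).symm.trans (sb E37636 D82822))).symm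
theorem F295415 : act 5 n10480 = n18222 := (sb E37636 (iv5 D38103))
theorem E38522 : n87453 = n4547 := (E38102).trans E38341
theorem E38583 : n27402 = n17865 := (((D17865).symm.trans (sb E37710 (tr (iv3 F145250) E37776)))).symm
theorem E38595 : n81381 = n38109 := (((D38109).symm.trans (sb E37713 D81381))).symm
theorem F295420 : act 2 n45754 = n88615 := (sb E37740 F294550)
theorem E38616 : n98031 = n93793 := ((D98031).symm.trans (sb E37740 F144569))
theorem E38617 : n98032 = n43313 := ((D98032).symm.trans (sb E37740 (iv6 D92581)))
theorem F295421 : act 7 n45754 = n88614 := (sb E37740 F294551)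
theorem F295424 : act 2 n93146 = n91028 := (sb E37791 (tr (iv2 F275025) E38090))
theorem F295425 : act 4 n93146 = n88958 := (sb E37791 F275024)
theorem F295426 : act 7 n93146 = n91029 := (sb E37791 (tr (iv7 F275026) E38091))
theorem F295427 : act 2 n93147 = n91029 := (sb E37792 (tr F275027 E38091))
theorem F295428 : act 4 n93147 = n88959 := (sb E37792 F156493)
theorem F295429 : act 7 n93147 = n91028 := (sb E37792 (tr (iv7 F275018) E38090))
theorem F295430 : act 6 n47239 = n43618 := (sb E37797 (iv6 D93243))
theorem F295431 : act 4 n47254 = n93149 := (sb E37798 F143829)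
theorem F295432 : act 6 n47254 = n91214 := (sb E37798 F143830)
theorem E38632 : n170775 = n161268 := (((D161268).symm.trans (sb E37799 (iv0 F290050)))).symm
theorem F295434 : act 0 n93234 = n89199 := (sb E37800 F294593)
theorem F295435 : act 1 n93234 = n43624 := (sb E37800 (iv0 D93256))
theorem F295436 : act 4 n93237 = n89172 := (sb E37802 F270972)
theorem F295437 : act 3 n93238 = n89100 := (sb E37803 F270961)
theorem F295438 : act 6 n93238 = n101540 := (sb E37803 F270962)
theorem F295439 : act 3 n93241 = n184502 := (sb E37805 (iv3 F286444))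
theorem F295440 : act 4 n93241 = n183046 := (sb E37805 F286454)
theorem F295441 : act 5 n93241 = n101039 := (sb E37805 (iv5 F270973))
theorem F295442 : act 6 n93242 = n101552 := (sb E37806 F270975)
theorem F295444 : act 6 n93206 = n86892 := (sb E38003 (iv6 D181924))
theorem F295445 : act 3 n93216 = n87224 := (sb E38056 (iv3 D182720))
theorem F295446 : act 4 n93208 = n86892 := (sb E38058 (iv4 D181922))
theorem F295447 : act 2 n81871 = n87223 := (sb E38071 (iv2 D182715))
theorem F295448 : act 7 n81871 = n87224 := (sb E38071 (iv7 F284292))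
theorem F295449 : act 2 n81872 = n87224 := (sb E38072 F284295)
theorem F295450 : act 7 n81872 = n87223 := (sb E38072 (iv7 D182719))
theorem F295451 : act 2 n182722 = n170772 := (sb E38073 (iv2 F290108))
theorem F295452 : act 4 n182722 = n98082 := (sb E38073 (iv4 F290104))
theorem F295453 : act 5 n182722 = n88231 := (sb E38073 (iv5 D185124))
theorem F295454 : act 4 n98415 = n79672 := (sb E38076 (iv4 D165918))
theorem F295455 : act 4 n40610 = n87188 := (sb E38085 (iv4 D182629))
theorem F295456 : act 2 n182631 = n181980 := (sb E38086 F284663)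
theorem F295457 : act 3 n182631 = n98403 := (sb E38086 F284664)
theorem F295458 : act 4 n182631 = n87379 := (sb E38086 F284665)
theorem F295459 : act 5 n182631 = n88305 := (sb E38086 F290000)
theorem F295460 : act 0 n182632 = n98433 := (sb E38087 F284636)
theorem F295461 : act 1 n182632 = n98377 := (sb E38087 (iv0 F284637))
theorem F295462 : act 2 n182632 = n98398 := (sb E38087 F284633)
theorem F295463 : act 4 n182632 = n98398 := (sb E38087 F284634)
theorem F295464 : act 7 n182632 = n98434 := (sb E38087 F284635)
theorem F295465 : act 2 n182634 = n98416 := (sb E38088 F284640)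
theorem F295466 : act 4 n182634 = n87374 := (sb E38088 F284641)
theorem F295467 : act 5 n182634 = n87771 := (sb E38088 F284642)
theorem F295468 : act 4 n98402 = n77925 := (sb E38089 (iv4 D162203))
theorem F295469 : act 4 n91028 = n46302 := (sb E38090 (iv4 D98975))
theorem F295470 : act 4 n91029 = n46303 := (sb E38091 (iv4 D98980))
theorem E38721 : n183211 = n1896 := ((((iv3 D4547)).symm.trans (sb E38522 (iv3 F284865)))).symm
theorem E38722 : n40685 = n4754 := ((((iv5 F293810)).symm.trans (sb E38522 (iv5 D87453)))).symm
theorem E38723 : n183212 = n4288 := (((F16866).symm.trans (sb E38522 D183212))).symm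
theorem E38724 : n86435 = n4288 := (((iv4 F132530)).symm.trans (sb E38103 (tr (iv4 F284867) E38723)))
theorem F295473 : act 3 n97385 = n61953 := (sb E38138 (iv3 D132026))
theorem F295474 : act 5 n97385 = n106553 := (sb E38138 F211519)
theorem F295475 : act 7 n97385 = n131799 := (sb E38138 F211520)
theorem E38744 : n111000 = n48054 := ((D111000).symm.trans (sb E38139 F143322))
theorem F295476 : act 5 n51184 = n45477 := (sb E38139 F143323)
theorem E38745 : n110995 = n43478 := (((iv6 F172071)).symm.trans (sb E38139 (iv6 D92940)))
theorem F295477 : act 3 n97388 = n49651 := (sb E38140 (iv3 D107477))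
theorem F295478 : act 4 n97388 = n131799 := (sb E38140 F211174)
theorem F295479 : act 5 n97388 = n52091 := (sb E38140 F165810)
theorem E38761 : n180977 = n87450 := (((D87450).symm.trans (sb E38145 (iv4 F281776)))).symm
theorem E38763 : n86434 = n4754 := (E38146).trans E38722
theorem E38765 : n87450 = n1967 := ((((iv6 D4754)).symm.trans (sb E38763 (tr D180977 E38761)))).symm
theorem E38805 : n98745 = n8584 := ((((iv5 F293291)).symm.trans (sb E38211 (iv5 F271019)))).symm
theorem E38816 : n98839 = n17602 := ((((iv2 F28611)).symm.trans (sb E38218 (iv2 F152382)))).symm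
theorem E38817 : n8417 = n4827 := (((iv4 F17476)).symm.trans (sb E38218 (tr D98842 E38345)))
theorem E38825 : n99268 = n8572 := ((((iv2 F13470)).symm.trans (sb E38220 D99268))).symm
theorem E38840 : n10533 = n10209 := ((D10533).symm.trans (sb E38232 (tr (iv5 F152139) E38238)))
theorem F295481 : act 4 n93220 = n47251 := (sb E38322 F274625)
theorem F295482 : act 4 n93221 = n47252 := (sb E38323 (iv4 F155183))
theorem F295483 : act 4 n93223 = n46305 := (sb E38325 F152506)
theorem E38913 : n18924 = n4054 := ((((iv1 F17408)).symm.trans (sb E38341 (iv1 D40029)))).symm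
theorem E38914 : n22099 = n9023 := ((((iv0 F17409)).symm.trans (sb E38341 F60888))).symm
theorem E38915 : n40028 = n9029 := ((((iv2 F17421)).symm.trans (sb E38341 (iv2 F60890)))).symm
theorem E38917 : n19220 = n4676 := (((F6778).symm.trans (sb E38341 F60889))).symm
theorem E38918 : n17602 = n3855 := ((((iv4 D8602)).symm.trans (sb E38348 (tr (iv4 F284808) E38816)))).symm
theorem E38919 : n172582 = n10370 := (((F17622).symm.trans (sb E38352 F284815))).symm
theorem E38920 : n172580 = n4826 := ((((iv5 D10547)).symm.trans (sb E38352 (iv5 F284817)))).symm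
theorem E38926 : n87534 = n21604 := (E38358).trans E38425
theorem E38929 : n183373 = n21605 := (((F34000).symm.trans (sb E38926 (iv2 F285079)))).symm
theorem E38959 : n82244 = n56523 := (((D56523).symm.trans (sb E38383 F269527))).symm
theorem E38982 : n172601 = n82179 := (((D82179).symm.trans (sb E38411 (iv3 F270805)))).symm
theorem E38995 : n158293 = n36986 := ((((iv3 F118041)).symm.trans (sb E38415 (iv3 F249381)))).symm
theorem E38997 : n158296 = n10539 := (((F34588).symm.trans (sb E38415 (iv5 F249390)))).symm
theorem E39006 : n158250 = n46179 := (((D46179).symm.trans (sb E38419 (iv4 F249316)))).symm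
theorem E39008 : n37755 = n34526 := (((D34526).symm.trans (sb E38420 (iv1 F118010)))).symm
theorem E39010 : n46245 = n34508 := ((((iv3 F54738)).symm.trans (sb E38420 D46245))).symm
theorem E39014 : n158294 = n10535 := ((((iv4 F16733)).symm.trans (sb E38421 D158294))).symm
theorem E39015 : n81295 = n27332 := ((((iv3 F44232)).symm.trans (sb E38422 F127598))).symm
theorem E39017 : n173083 = n9025 := ((((iv5 D19203)).symm.trans (sb E38422 D173083))).symm
theorem E39018 : n173084 = n40683 := ((((iv6 F61789)).symm.trans (sb E38422 D173084))).symm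
theorem E39022 : n173088 = n44892 := ((((iv6 F70533)).symm.trans (sb E38423 D173088))).symm
theorem E39052 : n80919 = n36957 := ((((iv1 F57869)).symm.trans (sb E38434 D80919))).symm
theorem E39070 : n17857 = n4826 := (((iv3 F29015)).symm.trans (sb E38440 (tr D172580 E38920)))
theorem E39072 : n10370 = n8412 := ((((iv5 D17848)).symm.trans (sb E38440 (tr D172582 E38919)))).symm
theorem E39076 : n172586 = n3767 := ((((iv5 D8413)).symm.trans (sb E38441 D172586))).symm
theorem E39078 : n81237 = n9023 := (E38442).trans E38914
theorem E39081 : n37113 = n8561 := (((F14095).symm.trans (sb E39078 (iv3 D81237)))).symm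
theorem E39083 : n46179 = n4051 := ((((iv6 D9023)).symm.trans (sb E39078 (tr (iv6 F249317) E39006)))).symm
theorem E39085 : n46255 = n37678 := ((((iv0 F58526)).symm.trans (sb E38443 D46255))).symm
theorem E39086 : n46256 = n36460 := ((((iv2 F57248)).symm.trans (sb E38443 D46256))).symm
theorem E39107 : n81290 = n13115 := (((F44271).symm.trans (sb E38448 (iv1 F195135)))).symm
theorem F295503 : act 1 n56497 = n38102 := (sb E38461 (iv0 D82815))
theorem E39169 : n173023 = n84699 := ((D173023).symm.trans (sb E38462 (iv5 F151458)))
theorem F295504 : act 5 n21938 = n38102 := (sb E38463 (iv5 D82818))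
theorem E39182 : n172942 = n82783 := (((iv4 F271180)).symm.trans (sb E38466 F151313))
theorem E39183 : n173006 = n46233 := ((D173006).symm.trans (sb E38466 F151310))
theorem E39213 : n171705 = n34518 := (((F113501).symm.trans (sb E38478 (iv1 F269662)))).symm
theorem E39214 : n171683 = n27295 := (((F117956).symm.trans (sb E38478 (iv0 F269622)))).symm
theorem E39216 : n158276 = n34564 := (((D34564).symm.trans (sb E38478 (iv5 F249352)))).symm
theorem E39255 : n37171 = n37134 := (((D37134).symm.trans (sb E38583 F58115))).symm
theorem E39256 : n37135 = n17877 := ((D37135).symm.trans (sb E38583 F44283))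
theorem E39264 : n82264 = n56854 := ((((iv6 F117960)).symm.trans (sb E38595 (iv6 F141786)))).symm
theorem F295516 : act 5 n93793 = n45754 := (sb E38616 (iv5 D98031))
theorem F295517 : act 6 n43313 = n45754 := (sb E38617 (iv6 D98032))
theorem F295520 : act 4 n161268 = n81873 := (sb E38632 (iv4 D170775))
theorem E39396 : n87452 = n1983 := (((F293285).symm.trans (sb E38721 (iv5 D183211)))).symm
theorem E39397 : n21600 = n4701 := (((F17402).symm.trans (sb E38722 F61791))).symm
theorem E39400 : n19203 = n3960 := (((F6863).symm.trans (sb E38722 (iv4 D40685)))).symm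
theorem E39401 : n169299 = n9468 := (((D9468).symm.trans (sb E38724 F266420))).symm
theorem E39402 : n169300 = n9340 := ((((iv0 F17524)).symm.trans (sb E38724 (iv0 F266424)))).symm
theorem E39403 : n86432 = n9470 := (((D9470).symm.trans (sb E38724 F132529))).symm
theorem E39405 : n40740 = n9471 := (((D9471).symm.trans (sb E38724 F132530))).symm
theorem E39408 : n112852 = n103794 := (((D103794).symm.trans (sb E38744 (iv1 F175739)))).symm
theorem E39409 : n112851 = n103795 := (((D103795).symm.trans (sb E38744 F175734))).symm
theorem F295523 : act 2 n48054 = n51184 := (sb E38744 (iv2 D111000))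
theorem E39410 : n103781 = n74596 := (((iv3 F159210)).symm.trans (sb E38744 F172082))
theorem E39411 : n107008 = n103793 := ((((iv4 F159227)).symm.trans (sb E38744 F172083))).symm
theorem E39412 : n112853 = n103796 := (((D103796).symm.trans (sb E38744 (iv7 F175737)))).symm
theorem E39413 : n92936 = n51182 := (((iv3 F143311)).symm.trans (sb E38745 (iv3 D110995)))
theorem E39414 : n107010 = n92939 := (((D92939).symm.trans (sb E38745 F172070))).symm
theorem F295524 : act 6 n43478 = n51184 := (sb E38745 F172071)
theorem E39416 : n45287 = n1913 := (((F6533).symm.trans (sb E38765 F134242))).symm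
theorem E39417 : n45291 = n4451 := (((F6534).symm.trans (sb E38765 F134241))).symm
theorem E39420 : n40683 = n1715 := (((F6535).symm.trans (sb E38765 (iv4 D87450)))).symm
theorem E39449 : n98747 = n3850 := ((((iv1 D8584)).symm.trans (sb E38805 (iv1 F152232)))).symm
theorem E39451 : n98839 = n3855 := (E38816).trans E38918
theorem E39452 : n8580 = n8572 := (((iv3 F13487)).symm.trans (sb E39451 (tr (iv3 F152834) E38825)))
theorem E39453 : n36460 = n1677 := ((((iv5 D3855)).symm.trans (sb E39451 (tr (iv5 D98839) E39086)))).symm
theorem E39454 : n10543 = n3769 := (((iv1 F17023)).symm.trans (sb E38817 (iv1 D8417)))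
theorem E39455 : n10547 = n8418 := (((iv0 F17026)).symm.trans (sb E38817 F13209))
theorem E39456 : n8602 = n8270 := ((F295119).symm.trans (sb E38817 F17474))
theorem E39457 : n8570 = n8553 := (((iv4 F295408)).symm.trans (sb E38817 F17476))
theorem E39458 : n17856 = n1991 := ((((iv5 D4827)).symm.trans (sb E38817 D17856))).symm
theorem E39459 : n10538 = n3940 := (((iv6 F16734)).symm.trans (sb E38817 F17477))
theorem E39485 : n17848 = n4697 := (((F17428).symm.trans (sb E38840 (iv1 F29004)))).symm
theorem E39486 : n8413 = n4702 := (((F17429).symm.trans (sb E38840 (iv0 F17598)))).symm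
theorem E39487 : n9025 = n8874 := ((F16133).symm.trans (sb E38840 F16729))
theorem F295528 : act 3 n10209 = n4827 := (sb E38840 F16730)
theorem E39488 : n21428 = n4822 := ((D21428).symm.trans (sb E38840 (iv5 D10533)))
theorem E39489 : n22097 = n4638 := ((((iv6 D10209)).symm.trans (sb E38840 (iv6 F34569)))).symm
theorem E39495 : n40030 = n1755 := (((F5990).symm.trans (sb E38913 D40030))).symm
theorem E39497 : n86430 = n8584 := ((((iv3 F17472)).symm.trans (sb E38915 D86430))).symm
theorem E39503 : n19169 = n1940 := ((((iv1 D4676)).symm.trans (sb E38917 F30872))).symm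
theorem E39504 : n9036 = n4661 := (((F6777).symm.trans (sb E38917 F30873))).symm
theorem E39505 : n10318 = n9034 := ((((iv3 F17397)).symm.trans (sb E38917 F30870))).symm
theorem E39506 : n18057 = n8428 := ((((iv1 F17442)).symm.trans (sb E38918 (iv1 F29228)))).symm
theorem E39507 : n8601 = n8521 := (((iv0 F13506)).symm.trans (sb E38918 (iv0 F28615)))
theorem E39508 : n8591 = n8268 := (((iv6 F13500)).symm.trans (sb E38918 (iv6 D17602)))
theorem E39513 : n10384 = n3767 := ((F33999).symm.trans (sb E38929 (tr (iv4 F285081) E39076)))
theorem E39532 : n122132 = n37697 := ((D122132).symm.trans (sb E38959 F195439))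
theorem E39536 : n122135 = n37695 := ((D122135).symm.trans (sb E38959 (iv5 D82244)))
theorem E39548 : n46256 = n1677 := (E39086).trans E39453
theorem E39563 : n171499 = n122287 := ((D171499).symm.trans (sb E38982 F270808))
theorem E39564 : n171500 = n82627 := ((D171500).symm.trans (sb E38982 (iv2 D172601)))
theorem E39569 : n169110 = n80973 := (((D80973).symm.trans (sb E38995 (iv4 F266298)))).symm
theorem E39572 : n82792 = n22106 := ((((iv4 F34584)).symm.trans (sb E38997 F249389))).symm
theorem E39580 : n158250 = n4051 := (E39006).trans E39083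
theorem E39581 : n75397 = n3833 := ((((iv3 F6427)).symm.trans (sb E39580 (iv3 D158250)))).symm
theorem E39582 : n80973 = n3830 := (((F6455).symm.trans (sb E39580 (tr (iv7 F266300) E39569)))).symm
theorem E39583 : n81140 = n55398 := ((((iv3 F120596)).symm.trans (sb E39008 (iv3 F124926)))).symm
theorem E39591 : n98819 = n75375 := ((((iv2 F113120)).symm.trans (sb E39010 D98819))).symm
theorem E39597 : n82793 = n22105 := (((D22105).symm.trans (sb E39014 F249384))).symm
theorem E39598 : n169567 = n13099 := ((((iv5 D27332)).symm.trans (sb E39015 D169567))).symm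
theorem E39599 : n169568 = n56962 := ((((iv6 F90044)).symm.trans (sb E39015 D169568))).symm
theorem E39602 : n173083 = n8874 := (E39017).trans E39487
theorem E39603 : n18916 = n13099 := (((iv3 F30198)).symm.trans (sb E39602 (tr F271313 E39598)))
theorem E39604 : n173084 = n1715 := (E39018).trans E39420
theorem E39605 : n44892 = n1989 := ((((iv2 F6548)).symm.trans (sb E39604 (tr (iv2 F271324) E39022)))).symm
theorem E39606 : n56962 = n3958 := (((D3958).symm.trans (sb E39604 (tr F271315 E39599)))).symm
theorem E39615 : n168680 = n18182 := (((F57870).symm.trans (sb E39052 D168680))).symm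
theorem E39630 : n17605 = n4771 := (((F7166).symm.trans (sb E39070 (iv0 F29018)))).symm
theorem E39631 : n8419 = n4825 := ((((iv2 F17434)).symm.trans (sb E39070 F29014))).symm
theorem E39633 : n37111 = n9168 := ((((iv6 F17027)).symm.trans (sb E39070 D37111))).symm
theorem E39636 : n21753 = n9570 := ((((iv6 F14924)).symm.trans (sb E39072 D21753))).symm
theorem E39640 : n18140 = n3843 := (((F13402).symm.trans (sb E39081 (iv4 F58040)))).symm
theorem E39642 : n87519 = n1881 := (((F5987).symm.trans (sb E39083 F134407))).symm
theorem E39643 : n87520 = n3777 := (((F6408).symm.trans (sb E39083 (iv0 F134410)))).symm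
theorem E39650 : n98835 = n27186 := (((F58524).symm.trans (sb E39085 D98835))).symm
theorem E39654 : n75375 = n890 := ((((iv6 D1677)).symm.trans (sb E39548 (tr (iv6 F152355) E39591)))).symm
theorem E39659 : n169561 = n27374 := ((((iv6 F44267)).symm.trans (sb E39107 D169561))).symm
theorem F295570 : act 5 n84699 = n82816 := (sb E39169 (iv5 D173023))
theorem F295576 : act 4 n82783 = n82811 := (sb E39182 F271180)
theorem F295577 : act 6 n46233 = n82811 := (sb E39183 (iv6 D173006))
theorem E39697 : n82800 = n75430 := (((D75430).symm.trans (sb E39213 F269660))).symm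
theorem E39698 : n82256 = n56852 := (((D56852).symm.trans (sb E39214 (iv5 D171683)))).symm
theorem E39701 : n75551 = n75420 := ((D75551).symm.trans (sb E39216 F249351))
theorem E39702 : n75552 = n75419 := ((D75552).symm.trans (sb E39216 (iv7 D158276)))
theorem E39746 : n81400 = n81294 := (((D81294).symm.trans (sb E39255 D81400))).symm
theorem E39747 : n57207 = n37143 := (((F195415).symm.trans (sb E39255 (iv5 F90241)))).symm
theorem E39748 : n81401 = n81297 := (((D81297).symm.trans (sb E39255 D81401))).symm
theorem F295594 : act 0 n17877 = n37134 := (sb E39256 (iv1 F58078))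
theorem E39749 : n37145 = n37144 := (((iv3 F58089)).symm.trans (sb E39256 (iv3 F58084)))
theorem E39750 : n37172 = n37144 := ((D37172).symm.trans (sb E39256 (iv5 F58085)))
theorem E39761 : n37718 = n34519 := (((F117959).symm.trans (sb E39264 (iv1 D82264)))).symm
theorem E39810 : n81294 = n4771 := ((((iv4 F6880)).symm.trans (sb E39396 (tr F134248 E39746)))).symm
theorem E39812 : n10315 = n9035 := ((((iv4 F17419)).symm.trans (sb E39397 (iv4 D21600)))).symm
theorem E39816 : n27332 = n8869 := ((((iv3 F13829)).symm.trans (sb E39400 (iv3 F44232)))).symm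
theorem E39817 : n180971 = n19849 := ((((iv1 F31667)).symm.trans (sb E39401 (iv1 F281765)))).symm
theorem E39818 : n81194 = n19851 := ((((iv2 F31677)).symm.trans (sb E39401 F266418))).symm
theorem E39819 : n81178 = n19119 := ((((iv4 F30720)).symm.trans (sb E39401 (iv4 D169299)))).symm
theorem E39821 : n81179 = n17080 := ((((iv4 F28029)).symm.trans (sb E39402 (iv4 D169300)))).symm
theorem E39824 : n40741 = n7778 := ((((iv4 F14735)).symm.trans (sb E39403 F132521))).symm
theorem E39827 : n87525 = n7781 := (((F14686).symm.trans (sb E39405 D87525))).symm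
theorem E39828 : n87526 = n7777 := ((((iv0 F14687)).symm.trans (sb E39405 D87526))).symm
theorem E39829 : n21603 = n19221 := ((((iv3 F30875)).symm.trans (sb E39405 F61845))).symm
theorem E39830 : n86127 = n18864 := ((((iv5 F30106)).symm.trans (sb E39405 (iv5 F132073)))).symm
theorem F295616 : act 0 n103794 = n52091 := (sb E39408 (iv1 D112852))
theorem F295617 : act 1 n103795 = n52091 := (sb E39409 (iv0 D112851))
theorem F295618 : act 3 n74596 = n48054 := (sb E39410 F159210)
theorem E39832 : n156862 = n48049 := ((D156862).symm.trans (sb E39410 (iv6 D103781)))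
theorem F295619 : act 0 n103793 = n110934 := (sb E39411 (iv1 F171969))
theorem F295620 : act 1 n103793 = n110933 := (sb E39411 F171965)
theorem F295621 : act 2 n103793 = n49436 := (sb E39411 (iv2 D107008))
theorem F295622 : act 3 n103793 = n65254 := (sb E39411 F164948)
theorem F295623 : act 7 n103793 = n110935 := (sb E39411 (iv7 F171967))
theorem F295624 : act 0 n103796 = n110999 := (sb E39412 (iv1 F175740))
theorem F295625 : act 1 n103796 = n110998 := (sb E39412 F175738)
theorem F295626 : act 2 n103796 = n52091 := (sb E39412 (iv2 D112853))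
theorem F295627 : act 3 n103796 = n65222 := (sb E39412 F175735)
theorem F295628 : act 4 n103796 = n110935 := (sb E39412 F175736)
theorem F295629 : act 3 n51182 = n43478 := (sb E39413 F143311)
theorem E39833 : n110996 = n43477 := ((D110996).symm.trans (sb E39413 (iv5 D92936)))
theorem E39834 : n110997 = n48059 := ((D110997).symm.trans (sb E39413 F143312))
theorem F295630 : act 3 n92939 = n49438 := (sb E39414 F164950)
theorem F295631 : act 6 n92939 = n49436 := (sb E39414 (iv6 D107010))
theorem E39836 : n96514 = n1962 := (((F6475).symm.trans (sb E39416 (iv2 F148650)))).symm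
theorem E39838 : n21596 = n4597 := (((D4597).symm.trans (sb E39416 (iv4 D45287)))).symm
theorem E39843 : n21597 = n4668 := ((((iv4 F6762)).symm.trans (sb E39417 (iv4 D45291)))).symm
theorem E39847 : n36944 = n911 := ((((iv1 D1715)).symm.trans (sb E39420 F124043))).symm
theorem E39848 : n46240 = n3952 := (((F5912).symm.trans (sb E39420 (iv0 F122066)))).symm
theorem E39849 : n19202 = n3959 := (((D3959).symm.trans (sb E39420 (iv5 D40683)))).symm
theorem E39854 : n86438 = n4048 := ((((iv3 F6422)).symm.trans (sb E39449 F152229))).symm
theorem E39856 : n17789 = n8385 := ((((iv0 F17600)).symm.trans (sb E39452 (iv0 F28920)))).symm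
theorem E39858 : n18191 = n6241 := (((F13471).symm.trans (sb E39452 D18191))).symm
theorem E39859 : n18189 = n3845 := ((((iv6 D8572)).symm.trans (sb E39452 (iv6 F29357)))).symm
theorem E39860 : n37678 = n3772 := (((F17440).symm.trans (sb E39453 (iv1 F58527)))).symm
theorem E39861 : n18058 = n3854 := (((D3854).symm.trans (sb E39453 F57251))).symm
theorem F295633 : act 1 n3769 = n4827 := (sb E39454 F17023)
theorem E39862 : n8391 = n1646 := ((((iv3 D3769)).symm.trans (sb E39454 F17629))).symm
theorem E39863 : n22121 = n3654 := (((F5764).symm.trans (sb E39454 D22121))).symm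
theorem F295634 : act 0 n8418 = n4827 := (sb E39455 F17026)
theorem F295635 : act 5 n8418 = n4826 := (sb E39455 (iv5 D10547))
theorem E39864 : n22122 = n8113 := (((F13206).symm.trans (sb E39455 D22122))).symm
theorem F295636 : act 2 n8270 = n4827 := (sb E39456 (iv2 F295119))
theorem E39865 : n18228 = n6243 := (((F13056).symm.trans (sb E39456 D18228))).symm
theorem F295637 : act 4 n8270 = n3855 := (sb E39456 (iv4 D8602))
theorem E39866 : n18222 = n3720 := ((((iv6 D8270)).symm.trans (sb E39456 (iv6 F29379)))).symm
theorem F295638 : act 2 n8553 = n3855 := (sb E39457 F13409)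
theorem F295639 : act 4 n8553 = n4827 := (sb E39457 F295408)
theorem E39867 : n16745 = n3827 := ((((iv6 D8553)).symm.trans (sb E39457 (iv6 F27487)))).symm
theorem E39869 : n35208 = n1007 := ((((iv6 D1991)).symm.trans (sb E39458 (iv6 F55949)))).symm
theorem E39870 : n22117 = n1700 := ((((iv1 D3940)).symm.trans (sb E39459 D22117))).symm
theorem E39871 : n22118 = n3722 := (((F5881).symm.trans (sb E39459 D22118))).symm
theorem E39872 : n7997 = n4824 := (((iv5 F13317)).symm.trans (sb E39459 (iv5 D10538)))
theorem F295640 : act 6 n3940 = n4827 := (sb E39459 F16734)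
theorem F295643 : act 5 n4697 = n8412 := (sb E39485 (iv5 D17848))
theorem E39882 : n37089 = n8968 := ((((iv6 F16879)).symm.trans (sb E39485 D37089))).symm
theorem E39883 : n3768 = n3760 := ((((iv3 F6797)).symm.trans (sb E39486 F13199))).symm
theorem E39885 : n17850 = n10385 := (((D10385).symm.trans (sb E39486 D17850))).symm
theorem F295644 : act 0 n8874 = n4702 := (sb E39487 F17426)
theorem F295645 : act 1 n8874 = n4697 := (sb E39487 F17427)
theorem F295646 : act 2 n8874 = n10209 := (sb E39487 (iv2 F16133))
theorem F295647 : act 4 n8874 = n4054 := (sb E39487 F14099)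
theorem E39886 : n18922 = n4052 := (((iv6 F30204)).symm.trans (sb E39487 (iv6 D9025)))
theorem F295648 : act 5 n4822 = n10209 := (sb E39488 (iv5 D21428))
theorem E39887 : n37062 = n1926 := ((((iv1 D4638)).symm.trans (sb E39489 F118084))).symm
theorem E39888 : n27215 = n1931 := (((F6693).symm.trans (sb E39489 (iv0 F118091)))).symm
theorem E39889 : n10532 = n10208 := (((D10208).symm.trans (sb E39489 (iv5 D22097)))).symm
theorem E39893 : n82179 = n4056 := ((((iv4 F5991)).symm.trans (sb E39495 (iv4 F126594)))).symm
theorem E39902 : n56523 = n4825 := (((F17433).symm.trans (sb E39497 F132515))).symm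
theorem E39905 : n18182 = n1224 := (((F3243).symm.trans (sb E39503 F30798))).symm
theorem E39907 : n9010 = n4677 := (((D4677).symm.trans (sb E39503 (iv5 D19169)))).symm
theorem E39908 : n40589 = n993 := ((((iv6 D1940)).symm.trans (sb E39503 (iv6 F61712)))).symm
theorem E39909 : n13108 = n3801 := (((F6742).symm.trans (sb E39504 (iv3 F21868)))).symm
theorem E39910 : n10276 = n4056 := ((D10276).symm.trans (sb E39504 (iv5 D9036)))
theorem E39911 : n19218 = n1934 := ((((iv6 D4661)).symm.trans (sb E39504 (iv6 F30869)))).symm
theorem F295649 : act 5 n9034 = n4676 := (sb E39505 (iv5 D10318))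
theorem F295650 : act 0 n8428 = n8553 := (sb E39506 (iv1 F29229))
theorem E39912 : n13022 = n3773 := (((F13232).symm.trans (sb E39506 F29225))).symm
theorem E39913 : n17873 = n17223 := ((D17873).symm.trans (sb E39506 F29226))
theorem F295651 : act 0 n8521 = n3855 := (sb E39507 F13506)
theorem F295652 : act 2 n8521 = n8428 := (sb E39507 (iv2 F17443))
theorem E39914 : n13123 = n3807 := ((((iv3 D8521)).symm.trans (sb E39507 (iv3 F21890)))).symm
theorem F295653 : act 4 n8521 = n8428 := (sb E39507 (iv4 F295348))
theorem E39915 : n18225 = n16716 := ((((iv6 F28179)).symm.trans (sb E39507 D18225))).symm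
theorem E39916 : n18107 = n3823 := (((F13053).symm.trans (sb E39508 F118009))).symm
theorem E39917 : n18221 = n3797 := ((((iv0 F13054)).symm.trans (sb E39508 D18221))).symm
theorem E39918 : n16737 = n3852 := (((iv5 F27472)).symm.trans (sb E39508 (iv5 D8591)))
theorem F295654 : act 6 n8268 = n3855 := (sb E39508 F13500)
theorem E39922 : n8386 = n1645 := ((((iv3 D3767)).symm.trans (sb E39513 F16516))).symm
theorem F295656 : act 5 n3767 = n4702 := (sb E39513 (iv5 D10384))
theorem E39924 : n21762 = n4318 := ((((iv6 F6201)).symm.trans (sb E39513 D21762))).symm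
theorem E39965 : n37697 = n4771 := ((((iv1 F7165)).symm.trans (iv1 (sb E39532 (tr (iv0 D122132) E39902))))).symm
theorem F295667 : act 5 n37695 = n4825 := (sb E39536 (tr (iv5 D122135) E39902))
theorem E40005 : n122287 = n9035 := (((D9035).symm.trans (iv0 (sb E39563 (tr (iv1 D171499) E39893))))).symm
theorem E40006 : n171499 = n9035 := (E39563).trans E40005
theorem E40007 : n82627 = n4677 := (((E39907).symm.trans ((F14115).symm.trans (sb E40006 (tr F269260 E39564))))).symm
theorem E40008 : n171500 = n4677 := (E39564).trans E40007
theorem F295678 : act 1 n4677 = n171498 := (sb E40008 F269259)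
theorem E40009 : n10322 = n4048 := ((D10322).symm.trans (sb E40008 (tr F269257 E39854)))
theorem E40015 : n169110 = n3830 := (E39569).trans E39582
theorem E40016 : n81124 = n1670 := ((((iv3 D3830)).symm.trans (sb E40015 (iv3 D169110)))).symm
theorem E40018 : n172956 = n46189 := ((((iv3 F72857)).symm.trans (sb E39572 (iv3 F271187)))).symm
theorem E40019 : n46193 = n38049 := (((iv5 F72858)).symm.trans (sb E39572 (iv5 D82792)))
theorem E40027 : n34508 = n1673 := (((F5828).symm.trans (sb E39581 (iv4 D75397)))).symm
theorem E40033 : n120355 = n37074 := ((D120355).symm.trans (sb E39583 (iv4 D81140)))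
theorem E40035 : n122502 = n27396 := (((F87672).symm.trans (sb E39583 (iv6 F196029)))).symm
theorem E40055 : n46192 = n38050 := ((D46192).symm.trans (sb E39597 F127535))
theorem E40057 : n169568 = n3958 := (E39599).trans E39606
theorem E40058 : n27374 = n4761 := ((((iv2 F6869)).symm.trans (sb E40057 (tr F266906 E39659)))).symm
theorem E40059 : n81297 = n4761 := ((((iv4 F6871)).symm.trans (sb E40057 F266907))).symm
theorem E40063 : n18053 = n13114 := ((((iv1 F21881)).symm.trans (sb E39603 F30200))).symm
theorem E40064 : n18059 = n13024 := ((((iv0 F21860)).symm.trans (sb E39603 (iv0 F30201)))).symm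
theorem F295685 : act 3 n13099 = n8874 := (sb E39603 F30198)
theorem E40065 : n37668 = n6239 := (((F21858).symm.trans (sb E39603 (iv4 F58507)))).symm
theorem E40066 : n40004 = n6233 := ((((iv6 D13099)).symm.trans (sb E39603 (iv6 F60874)))).symm
theorem E40067 : n80871 = n1716 := ((((iv1 F3303)).symm.trans (sb E39605 (iv1 F124592)))).symm
theorem E40068 : n79488 = n1718 := ((((iv0 F3302)).symm.trans (sb E39605 (iv0 F122080)))).symm
theorem E40069 : n21427 = n4821 := (((D4821).symm.trans (sb E39605 (iv5 D44892)))).symm
theorem E40072 : n56501 = n3724 := (((F6872).symm.trans (sb E39606 F124081))).symm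
theorem E40073 : n81401 = n4761 := (E39748).trans E40059
theorem E40074 : n27331 = n8868 := (((D8868).symm.trans (sb E39606 (iv5 D56962)))).symm
theorem E40085 : n168680 = n1224 := (E39615).trans E39905
theorem E40086 : n27186 = n1649 := ((((iv0 F3091)).symm.trans (sb E40085 (tr F270019 E39650)))).symm
theorem F295691 : act 5 n4771 = n8270 := (sb E39630 (iv5 D17605))
theorem E40095 : n36466 = n1973 := ((((iv6 D4771)).symm.trans (sb E39630 (iv6 F57262)))).symm
theorem E40096 : n3770 = n3761 := ((((iv3 F17432)).symm.trans (sb E39631 F13210))).symm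
theorem E40097 : n37695 = n3769 := (((iv5 F295667)).symm.trans (sb E39631 (iv5 D8419)))
theorem E40098 : n17859 = n10544 := (((D10544).symm.trans (sb E39631 D17859))).symm
theorem E40102 : n81233 = n9646 := ((((iv1 F17565)).symm.trans (sb E39633 D81233))).symm
theorem E40103 : n81078 = n4122 := ((((iv0 D9168)).symm.trans (sb E39633 (iv0 F124870)))).symm
theorem E40104 : n35752 = n19498 := (((D19498).symm.trans (sb E39633 F58035))).symm
theorem E40110 : n45559 = n8118 := ((((iv1 F14926)).symm.trans (sb E39636 D45559))).symm
theorem E40111 : n45560 = n8008 := ((((iv0 F17514)).symm.trans (sb E39636 D45560))).symm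
theorem E40112 : n40452 = n20249 := (((D20249).symm.trans (sb E39636 (iv5 F61549)))).symm
theorem F295692 : act 5 n3843 = n8553 := (sb E39640 (iv5 D18140))
theorem E40124 : n40736 = n1653 := (((F3169).symm.trans (sb E39642 (iv4 D87519)))).symm
theorem E40128 : n40737 = n1652 := ((((iv4 D3777)).symm.trans (sb E39643 (iv4 D87520)))).symm
theorem E40134 : n122786 = n565 := ((((iv1 D890)).symm.trans (sb E39654 F196695))).symm
theorem E40135 : n37657 = n1667 := (((F2856).symm.trans (sb E39654 F126550))).symm
theorem E40136 : n37960 = n1674 := (((D1674).symm.trans (sb E39654 F113121))).symm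
theorem E40137 : n34502 = n1676 := (((D1676).symm.trans (sb E39654 (iv5 D75375)))).symm
theorem E40195 : n122497 = n37714 := ((((iv2 F117931)).symm.trans (sb E39697 (iv2 F196006)))).symm
theorem E40200 : n171684 = n122498 := (((D122498).symm.trans (sb E39698 D171684))).symm
theorem F295704 : act 4 n75420 = n34564 := (sb E39701 (iv4 D75551))
theorem E40206 : n158390 = n158277 := (((D158277).symm.trans (sb E39701 (iv6 F249559)))).symm
theorem E40208 : n158398 = n158267 := ((((iv6 F249332)).symm.trans (sb E39702 D158398))).symm
theorem F295706 : act 7 n75419 = n34564 := (sb E39702 (iv7 D75552))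
theorem E40225 : n81400 = n4771 := (E39746).trans E39810
theorem E40229 : n122982 = n8270 := (((F295691).symm.trans (sb E40225 (iv5 F197026)))).symm
theorem E40230 : n81318 = n8270 := ((D81318).symm.trans (sb E39747 (tr D122982 E40229)))
theorem E40233 : n37074 = n6181 := (((F9628).symm.trans (sb E40073 (tr F191698 E40033)))).symm
theorem E40234 : n37760 = n6205 := ((((iv0 F9666)).symm.trans (sb E40073 (iv0 F125205)))).symm
theorem E40237 : n81324 = n37143 := ((((iv1 F58088)).symm.trans (sb E39749 D81324))).symm
theorem F295713 : act 3 n37144 = n17877 := (sb E39749 F58089)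
theorem E40240 : n81326 = n17877 := (((F295713).symm.trans (sb E39750 (iv3 F125136)))).symm
theorem E40252 : n82265 = n55391 := ((((iv3 F120647)).symm.trans (sb E39761 D82265))).symm
theorem E40272 : n37134 = n10470 := ((((iv3 F16675)).symm.trans (sb E39810 (iv3 D81294)))).symm
theorem F295720 : act 5 n9035 = n4675 := (sb E39812 (iv5 D10315))
theorem E40279 : n21601 = n19050 := (((F30577).symm.trans (sb E39812 D21601))).symm
theorem E40289 : n27376 = n8517 := (((F17613).symm.trans (sb E39816 (iv1 F44272)))).symm
theorem E40290 : n27189 = n8522 := ((((iv0 F17623)).symm.trans (sb E39816 F44234))).symm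
theorem F295721 : act 5 n8869 = n13099 := (sb E39816 (iv5 D27332))
theorem E40291 : n87530 = n16690 := ((((iv4 F31669)).symm.trans (sb E39817 F281762))).symm
theorem E40293 : n37094 = n21166 := ((((iv4 F33406)).symm.trans (sb E39818 (iv4 D81194)))).symm
theorem E40296 : n37096 = n8973 := ((((iv1 F30722)).symm.trans (sb E39819 F124957))).symm
theorem E40297 : n82205 = n17365 := (((F30721).symm.trans (sb E39819 (iv3 F149483)))).symm
theorem E40298 : n79744 = n21479 := ((((iv5 F33768)).symm.trans (sb E39819 F124955))).symm
theorem E40299 : n91701 = n10251 := ((((iv6 F30723)).symm.trans (sb E39819 (iv6 F140971)))).symm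
theorem E40304 : n46249 = n7993 := (((F28028).symm.trans (sb E39821 F141778))).symm
theorem E40305 : n79743 = n21478 := ((((iv5 F33761)).symm.trans (sb E39821 (iv5 F124962)))).symm
theorem E40311 : n81407 = n16692 := ((((iv1 F27357)).symm.trans (sb E39824 (iv1 F194977)))).symm
theorem E40312 : n87529 = n3529 := ((((iv0 D7778)).symm.trans (sb E39824 D87529))).symm
theorem E40313 : n36956 = n16693 := (((D16693).symm.trans (sb E39824 F61847))).symm
theorem E40314 : n86870 = n16694 := (((D16694).symm.trans (sb E39824 (iv5 F133275)))).symm
theorem E40315 : n122104 = n3531 := (((F12251).symm.trans (sb E39827 F194972))).symm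
theorem E40317 : n177406 = n13311 := ((((iv5 F22116)).symm.trans (sb E39827 (iv5 F276813)))).symm
theorem E40319 : n57195 = n8856 := ((((iv3 F13793)).symm.trans (sb E39828 F194979))).symm
theorem E40321 : n160376 = n16691 := (((D16691).symm.trans (sb E39828 (iv5 F253329)))).symm
theorem E40323 : n37166 = n9562 := ((((iv1 F30878)).symm.trans (sb E39829 F126140))).symm
theorem E40324 : n45309 = n9330 := ((((iv0 F30877)).symm.trans (sb E39829 D45309))).symm
theorem E40325 : n39868 = n39866 := ((((iv5 F60658)).symm.trans (sb E39829 (iv5 F60665)))).symm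
theorem E40327 : n162179 = n8832 := ((((iv1 D18864)).symm.trans (sb E39830 F256318))).symm
theorem E40328 : n163947 = n21504 := ((((iv0 F33809)).symm.trans (sb E39830 F258407))).symm
theorem E40329 : n161006 = n39867 := (((D39867).symm.trans (sb E39830 (iv4 F254517)))).symm
theorem E40330 : n163988 = n16696 := (((F30105).symm.trans (sb E39830 (iv7 F267682)))).symm
theorem E40331 : n103776 = n74602 := (((iv2 F159207)).symm.trans (sb E39832 F246859))
theorem F295722 : act 6 n48049 = n74596 := (sb E39832 (iv6 D156862))
theorem E40333 : n92933 = n67568 := ((D92933).symm.trans (sb E39833 F172073))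
theorem E40334 : n67565 = n47801 := ((((iv0 F157743)).symm.trans (sb E39833 F172074))).symm
theorem E40335 : n107474 = n92935 := (((D92935).symm.trans (sb E39833 F172072))).symm
theorem F295723 : act 5 n43477 = n51182 := (sb E39833 (iv5 D110996))
theorem E40336 : n107109 = n103800 := (((D103800).symm.trans (sb E39834 (iv1 F172077)))).symm
theorem E40337 : n107107 = n103801 := (((D103801).symm.trans (sb E39834 F172078))).symm
theorem E40338 : n107475 = n103798 := ((((iv2 F159231)).symm.trans (sb E39834 F172075))).symm
theorem E40339 : n103802 = n51183 := ((D103802).symm.trans (sb E39834 F172076))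
theorem E40340 : n112858 = n103803 := (((D103803).symm.trans (sb E39834 (iv6 F175757)))).symm
theorem F295724 : act 7 n48059 = n51182 := (sb E39834 (iv7 D110997))
theorem E40341 : n45067 = n3781 := ((((iv4 F5785)).symm.trans (sb E39836 (iv4 D96514)))).symm
theorem E40343 : n45070 = n2617 := (((F6666).symm.trans (sb E39838 F70947))).symm
theorem E40344 : n10313 = n4038 := ((((iv0 F6667)).symm.trans (sb E39838 (iv0 D21596)))).symm
theorem E40345 : n45286 = n3746 := (((F6664).symm.trans (sb E39838 D45286))).symm
theorem E40346 : n39561 = n10110 := (((D10110).symm.trans (sb E39838 (iv5 F116842)))).symm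
theorem E40351 : n45290 = n1938 := ((((iv3 D4668)).symm.trans (sb E39843 D45290))).symm
theorem E40352 : n45292 = n10293 := (((D10293).symm.trans (sb E39843 D45292))).symm
theorem E40353 : n45293 = n10294 := (((D10294).symm.trans (sb E39843 D45293))).symm
theorem E40355 : n17782 = n592 := ((((iv3 D911)).symm.trans (sb E39847 (iv3 D36944)))).symm
theorem E40357 : n79489 = n1717 := (((D1717).symm.trans (sb E39847 (iv5 F122084)))).symm
theorem E40360 : n79478 = n8864 := (((D8864).symm.trans (sb E39848 F122065))).symm
theorem E40362 : n17773 = n3740 := ((((iv1 F7183)).symm.trans (sb E39849 F120754))).symm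
theorem E40363 : n22113 = n8011 := (((F12786).symm.trans (sb E39849 F120755))).symm
theorem E40364 : n40680 = n8870 := (((D8870).symm.trans (sb E39849 (iv4 F61788)))).symm
theorem E40365 : n9024 = n8871 := (((D8871).symm.trans (sb E39849 (iv6 D19202)))).symm
theorem E40366 : n40684 = n4743 := ((((iv7 F6854)).symm.trans (sb E39849 D40684))).symm
theorem F295726 : act 5 n8385 = n8390 := (sb E39856 (iv5 D17789))
theorem E40370 : n36964 = n12879 := ((((iv6 F21382)).symm.trans (sb E39856 D36964))).symm
theorem E40373 : n27187 = n8516 := (((F17612).symm.trans (sb E39858 (iv0 F43946)))).symm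
theorem E40377 : n37990 = n4665 := (((F6758).symm.trans (sb E39859 D37990))).symm
theorem E40378 : n37991 = n6167 := ((((iv0 F9597)).symm.trans (sb E39859 D37991))).symm
theorem E40379 : n8577 = n8571 := (((D8571).symm.trans (sb E39859 (iv5 D18189)))).symm
theorem E40382 : n82198 = n4332 := ((((iv6 F6233)).symm.trans (sb E39860 D82198))).symm
theorem E40383 : n8523 = n6247 := ((((iv3 F17452)).symm.trans (sb E39861 F29231))).symm
theorem F295728 : act 5 n3854 = n8521 := (sb E39861 (iv5 D18058))
theorem E40385 : n37680 = n7809 := ((((iv6 F13507)).symm.trans (sb E39861 D37680))).symm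
theorem E40387 : n8365 = n1220 := (((F2825).symm.trans (sb E39862 F16910))).symm
theorem E40389 : n17791 = n1603 := ((((iv6 F3098)).symm.trans (sb E39862 D17791))).symm
theorem E40391 : n36270 = n8114 := (((D8114).symm.trans (sb E39863 (iv5 F57016)))).symm
theorem E40393 : n46251 = n12901 := ((((iv1 F21417)).symm.trans (sb E39864 D46251))).symm
theorem E40394 : n46252 = n12861 := ((((iv0 F27422)).symm.trans (sb E39864 D46252))).symm
theorem E40395 : n41397 = n17327 := (((D17327).symm.trans (sb E39864 (iv5 F63834)))).symm
theorem E40397 : n38102 = n2623 := ((((iv6 D6243)).symm.trans (sb E39865 (iv6 F58902)))).symm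
theorem E40398 : n38100 = n3941 := ((((iv1 F5880)).symm.trans (sb E39866 D38100))).symm
theorem E40399 : n36948 = n1631 := ((((iv0 D3720)).symm.trans (sb E39866 (iv0 F295413)))).symm
theorem E40400 : n10480 = n8269 := (((D8269).symm.trans (sb E39866 (iv5 F295415)))).symm
theorem E40402 : n34526 = n6209 := (((F9671).symm.trans (sb E39867 D34526))).symm
theorem E40403 : n27300 = n8277 := ((((iv0 F13100)).symm.trans (sb E39867 F118021))).symm
theorem E40404 : n7822 = n7820 := ((((iv5 F12364)).symm.trans (sb E39867 (iv5 D16745)))).symm
theorem E40408 : n27214 = n1969 := ((((iv1 F3290)).symm.trans (sb E39869 (iv1 F120823)))).symm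
theorem E40409 : n37068 = n1968 := ((((iv0 F3288)).symm.trans (sb E39869 F120817))).symm
theorem E40410 : n17090 = n1990 := (((D1990).symm.trans (sb E39869 (iv5 D35208)))).symm
theorem E40412 : n36811 = n902 := ((((iv3 D1700)).symm.trans (sb E39870 (iv3 F118467)))).symm
theorem E40413 : n46238 = n3942 := (((D3942).symm.trans (sb E39870 D46238))).symm
theorem E40415 : n46242 = n8090 := ((((iv5 F12872)).symm.trans (sb E39871 D46242))).symm
theorem E40417 : n10536 = n3619 := ((D10536).symm.trans (sb E39872 (iv1 D7997)))
theorem E40418 : n10537 = n8320 := ((D10537).symm.trans (sb E39872 F13130))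
theorem E40419 : n17089 = n10535 := ((((iv4 F16733)).symm.trans (sb E39872 D17089))).symm
theorem F295729 : act 5 n4824 = n3940 := (sb E39872 F13317)
theorem E40420 : n10539 = n8271 := ((D10539).symm.trans (sb E39872 (iv7 F13314)))
theorem E40432 : n42863 = n19120 := (((D19120).symm.trans (sb E39882 (iv5 F67164)))).symm
theorem E40434 : n3755 = n2607 := (((iv1 F5753)).symm.trans (sb E39883 F5761))
theorem E40435 : n1647 = n1643 := ((((iv0 D3760)).symm.trans (sb E39883 F5762))).symm
theorem E40436 : n8414 = n8385 := (((D8385).symm.trans (sb E39883 D8414))).symm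
theorem E40437 : n8415 = n6106 := ((((iv6 F16906)).symm.trans (sb E39883 D8415))).symm
theorem E40440 : n21763 = n20253 := ((D21763).symm.trans (sb E39885 (iv5 F32124)))
theorem E40441 : n17836 = n1914 := ((((iv1 F6481)).symm.trans (sb E39886 F118082))).symm
theorem E40442 : n40025 = n1909 := ((((iv0 F5988)).symm.trans (sb E39886 D40025))).symm
theorem F295733 : act 6 n4052 = n8874 := (sb E39886 F30204)
theorem E40444 : n56589 = n4463 := ((((iv3 F6494)).symm.trans (sb E39887 (iv3 F89489)))).symm
theorem E40446 : n79719 = n4639 := (((D4639).symm.trans (sb E39887 (iv5 F122394)))).symm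
theorem E40448 : n13038 = n2596 := ((((iv3 F4166)).symm.trans (sb E39888 (iv3 D27215)))).symm
theorem E40450 : n17535 = n4652 := (((D4652).symm.trans (sb E39888 F44006))).symm
theorem E40452 : n17804 = n8954 := (((F16131).symm.trans (sb E39889 (iv1 F118023)))).symm
theorem E40453 : n13033 = n8184 := (((F16132).symm.trans (sb E39889 (iv0 F118024)))).symm
theorem F295734 : act 3 n10208 = n4824 := (sb E39889 F16728)
theorem E40454 : n22094 = n17909 := ((((iv4 F29083)).symm.trans (sb E39889 (iv4 F34565)))).symm
theorem E40455 : n17802 = n10082 := (((F16130).symm.trans (sb E39889 F118045))).symm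
theorem E40464 : n171498 = n9034 := (((D9034).symm.trans (sb E39893 D171498))).symm
theorem F295735 : act 5 n4056 = n171501 := (sb E39893 D171501)
theorem E40485 : n37965 = n729 := ((((iv6 D1224)).symm.trans (sb E39905 (iv6 F58798)))).symm
theorem F295736 : act 0 n4677 = n9035 := (sb E39907 (iv1 F14115))
theorem E40486 : n19168 = n1939 := (((D1939).symm.trans (sb E39908 (iv5 D40589)))).symm
theorem E40488 : n8433 = n3806 := (((F5797).symm.trans (sb E39909 (iv0 F21870)))).symm
theorem E40490 : n8496 = n6239 := ((D8496).symm.trans (sb E39909 (iv5 D13108)))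
theorem E40491 : n26764 = n1659 := ((((iv6 D3801)).symm.trans (sb E39909 (iv6 F43005)))).symm
theorem F295737 : act 2 n4056 = n4677 := (sb E39910 F16267)
theorem E40492 : n171501 = n4661 := ((F295735).symm.trans (sb E39910 (iv5 D10276)))
theorem E40493 : n21517 = n1753 := ((((iv6 D4056)).symm.trans (sb E39910 (iv6 F33841)))).symm
theorem E40494 : n9033 = n4660 := (((D4660).symm.trans (sb E39911 (iv5 D19218)))).symm
theorem E40496 : n6241 = n1666 := (((F5775).symm.trans (sb E39912 (iv0 F21707)))).symm
theorem E40497 : n8516 = n3775 := ((((iv2 F5779)).symm.trans (sb E39912 F21703))).symm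
theorem E40498 : n8422 = n6196 := (((iv4 F13219)).symm.trans (sb E39912 (iv4 D13022)))
theorem E40499 : n8429 = n8076 := ((D8429).symm.trans (sb E39912 F21704))
theorem E40500 : n37163 = n16719 := (((F28174).symm.trans (sb E39913 D37163))).symm
theorem E40501 : n37164 = n16715 := ((((iv0 F28177)).symm.trans (sb E39913 D37164))).symm
theorem E40502 : n35550 = n20336 := ((D35550).symm.trans (sb E39913 (iv5 F32270)))
theorem F295738 : act 6 n17223 = n8428 := (sb E39913 (iv6 D17873))
theorem E40505 : n27403 = n8524 := (((D8524).symm.trans (sb E39914 D27403))).symm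
theorem E40506 : n38108 = n17326 := ((((iv1 F28262)).symm.trans (sb E39915 D38108))).symm
theorem E40507 : n38109 = n7806 := ((((iv0 D16716)).symm.trans (sb E39915 D38109))).symm
theorem E40508 : n34468 = n34441 := ((((iv5 F54645)).symm.trans (sb E39915 (iv5 F54692)))).symm
theorem E40510 : n8538 = n6182 := ((((iv3 F9631)).symm.trans (sb E39916 (iv3 D18107)))).symm
theorem E40511 : n37756 = n8546 := (((D8546).symm.trans (sb E39916 D37756))).symm
theorem E40512 : n27296 = n7804 := ((((iv6 F17002)).symm.trans (sb E39916 F44154))).symm
theorem E40513 : n27399 = n1658 := ((((iv3 D3797)).symm.trans (sb E39917 F120665))).symm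
theorem E40514 : n38098 = n8486 := (((D8486).symm.trans (sb E39917 D38098))).symm
theorem E40516 : n8550 = n8529 := (((F117914).symm.trans (sb E39918 (iv1 F27475)))).symm
theorem E40517 : n8590 = n8503 := ((D8590).symm.trans (sb E39918 F27474))
theorem E40518 : n17664 = n8588 := ((((iv4 F13499)).symm.trans (sb E39918 (iv4 F28735)))).symm
theorem F295739 : act 5 n3852 = n8268 := (sb E39918 F27472)
theorem E40519 : n8592 = n8548 := ((D8592).symm.trans (sb E39918 F27473))
theorem F295741 : act 5 n1645 = n3760 := (sb E39922 (iv5 D8386))
theorem E40523 : n17788 = n2574 := (((F4106).symm.trans (sb E39922 D17788))).symm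
theorem E40527 : n45580 = n9155 := ((((iv0 F17517)).symm.trans (sb E39924 D45580))).symm
theorem E40528 : n45581 = n9574 := (((D9574).symm.trans (sb E39924 D45581))).symm
theorem E40567 : n18064 = n8270 := (((F295691).symm.trans (sb E39965 (iv5 D37697)))).symm
theorem F295762 : act 4 n4048 = n4677 := (sb E40009 (iv4 D10322))
theorem E40616 : n75398 = n889 := ((((iv4 D1670)).symm.trans (sb E40016 (iv4 F124920)))).symm
theorem E40618 : n98773 = n82791 := (((iv5 F152258)).symm.trans (sb E40018 (iv5 D172956)))
theorem E40619 : n98783 = n82761 := ((((iv6 F127510)).symm.trans (sb E40019 D98783))).symm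
theorem F295768 : act 7 n38049 = n22105 := (sb E40019 (iv7 D46193))
theorem E40633 : n75395 = n891 := (((F6432).symm.trans (sb E40027 D75395))).symm
theorem E40634 : n75396 = n893 := (((F6433).symm.trans (sb E40027 D75396))).symm
theorem E40635 : n16739 = n3551 := ((((iv5 F7218)).symm.trans (sb E40027 (iv5 D34508)))).symm
theorem E40642 : n120355 = n6181 := (E40033).trans E40233
theorem E40644 : n56863 = n3793 := ((((iv2 F13069)).symm.trans (sb E40642 F191694))).symm
theorem E40645 : n55398 = n2609 := (((F9627).symm.trans (sb E40642 (iv4 D120355)))).symm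
theorem E40646 : n57174 = n6142 := (((F16986).symm.trans (sb E40642 F191695))).symm
theorem E40647 : n56859 = n6142 := (((E40646).symm.trans ((D57174).symm.trans (sb E40035 F196028)))).symm
theorem E40648 : n98780 = n82748 := ((((iv3 F127506)).symm.trans (sb E40055 D98780))).symm
theorem F295774 : act 4 n38050 = n22105 := (sb E40055 (iv4 D46192))
theorem E40649 : n83790 = n82794 := (((D82794).symm.trans (sb E40055 (iv6 F128820)))).symm
theorem E40650 : n57096 = n6181 := (((F9628).symm.trans (sb E40058 D57096))).symm
theorem E40651 : n57097 = n6205 := ((((iv0 F9666)).symm.trans (sb E40058 D57097))).symm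
theorem E40652 : n13113 = n10469 := ((((iv5 F16672)).symm.trans (sb E40058 (iv5 D27374)))).symm
theorem E40665 : n37667 = n26745 := ((((iv6 F42972)).symm.trans (sb E40063 D37667))).symm
theorem E40666 : n13023 = n6197 := ((((iv3 D13024)).symm.trans (sb E40064 F29234))).symm
theorem E40667 : n37681 = n17169 := ((((iv6 F28119)).symm.trans (sb E40064 D37681))).symm
theorem F295775 : act 5 n6239 = n82180 := (sb E40065 D82180)
theorem E40671 : n82155 = n8288 := ((((iv1 F13107)).symm.trans (sb E40066 (iv1 F126567)))).symm
theorem E40672 : n82160 = n6186 := ((((iv0 F9730)).symm.trans (sb E40066 F126577))).symm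
theorem E40673 : n18915 = n13098 := ((((iv5 F21852)).symm.trans (sb E40066 (iv5 D40004)))).symm
theorem E40676 : n95259 = n3961 := (((D3961).symm.trans (sb E40067 (iv5 F146855)))).symm
theorem E40678 : n36205 = n913 := (((F2929).symm.trans (sb E40068 F122079))).symm
theorem E40680 : n36190 = n3966 := ((((iv5 F5918)).symm.trans (sb E40068 (iv5 D79488)))).symm
theorem E40682 : n36909 = n8326 := ((((iv1 F13142)).symm.trans (sb E40069 (iv1 F120972)))).symm
theorem E40683 : n36807 = n3626 := (((F7022).symm.trans (sb E40069 (iv0 F120975)))).symm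
theorem E40684 : n37265 = n10531 := (((D10531).symm.trans (sb E40069 (iv4 F58215)))).symm
theorem F295776 : act 6 n4821 = n10208 := (sb E40069 (iv6 D21427))
theorem E40685 : n36907 = n3955 := (((F6966).symm.trans (sb E40069 (iv7 F120749)))).symm
theorem E40688 : n27183 = n1632 := ((((iv3 D3724)).symm.trans (sb E40072 (iv3 D56501)))).symm
theorem E40690 : n120279 = n8057 := ((((iv5 F13442)).symm.trans (sb E40072 (iv5 F191519)))).symm
theorem E40692 : n56960 = n10466 := ((((iv1 F16662)).symm.trans (sb E40074 D56960))).symm
theorem E40693 : n27178 = n8302 := (((F16667).symm.trans (sb E40074 (iv0 F120758)))).symm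
theorem E40694 : n26775 = n18914 := (((D18914).symm.trans (sb E40074 F44230))).symm
theorem E40695 : n56959 = n10441 := ((((iv7 F16629)).symm.trans (sb E40074 (iv7 F90037)))).symm
theorem E40709 : n56509 = n1831 := ((((iv6 F3114)).symm.trans (sb E40086 D56509))).symm
theorem E40725 : n17840 = n3750 := (((F6539).symm.trans (sb E40095 F120776))).symm
theorem E40726 : n17604 = n4766 := ((((iv5 F6876)).symm.trans (sb E40095 (iv5 D36466)))).symm
theorem F295783 : act 5 n3761 = n1646 := (sb E40096 (iv5 D3770))
theorem E40729 : n8421 = n8392 := (((D8392).symm.trans (sb E40096 D8421))).symm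
theorem F295784 : act 5 n3769 = n4825 := (sb E40097 F295667)
theorem E40733 : n37117 = n9171 := ((((iv1 F17566)).symm.trans (sb E40098 D37117))).symm
theorem E40735 : n17515 = n17330 := (((iv5 F28516)).symm.trans (sb E40098 F29021))
theorem E40744 : n121674 = n20361 := (((D20361).symm.trans (sb E40102 F194173))).symm
theorem E40746 : n122119 = n9164 := ((((iv3 F14302)).symm.trans (sb E40103 F195041))).symm
theorem E40748 : n77174 = n9170 := (((D9170).symm.trans (sb E40103 F124869))).symm
theorem E40750 : n78125 = n9188 := (((F31221).symm.trans (sb E40104 F119303))).symm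
theorem E40751 : n78457 = n19711 := ((((iv0 F31458)).symm.trans (sb E40104 D78457))).symm
theorem E40752 : n78456 = n38857 := ((((iv4 F59880)).symm.trans (sb E40104 (iv4 F119644)))).symm
theorem E40753 : n78458 = n20116 := ((((iv7 F31934)).symm.trans (sb E40104 D78458))).symm
theorem E40766 : n97555 = n17337 := (((D17337).symm.trans (sb E40110 D97555))).symm
theorem E40768 : n97560 = n17118 := (((D17118).symm.trans (sb E40111 D97560))).symm
theorem E40770 : n87061 = n17120 := (((F32116).symm.trans (sb E40112 D87061))).symm
theorem E40771 : n78487 = n17339 := (((F32117).symm.trans (sb E40112 (iv0 F146853)))).symm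
theorem E40772 : n87060 = n42862 := (((D42862).symm.trans (sb E40112 (iv4 F133660)))).symm
theorem E40773 : n87063 = n17338 := (((F32115).symm.trans (sb E40112 D87063))).symm
theorem E40793 : n85655 = n3782 := (((D3782).symm.trans (sb E40124 (iv5 F131373)))).symm
theorem E40797 : n82624 = n3751 := ((((iv3 F5748)).symm.trans (sb E40128 (iv3 F127357)))).symm
theorem E40798 : n83333 = n3778 := (((D3778).symm.trans (sb E40128 (iv5 F128437)))).symm
theorem E40803 : n84061 = n892 := (((D892).symm.trans (sb E40134 F196696))).symm
theorem E40805 : n18049 = n2615 := ((((iv3 F4210)).symm.trans (sb E40135 (iv3 D37657)))).symm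
theorem E40807 : n82146 = n3814 := (((D3814).symm.trans (sb E40135 D82146))).symm
theorem E40810 : n18179 = n3847 := (((D3847).symm.trans (sb E40136 (iv5 D37960)))).symm
theorem E40812 : n57063 = n3555 := ((((iv1 F6939)).symm.trans (sb E40137 (iv1 F120939)))).symm
theorem E40813 : n18044 = n3550 := ((((iv0 F6940)).symm.trans (sb E40137 (iv0 F118229)))).symm
theorem E40814 : n36650 = n3851 := (((D3851).symm.trans (sb E40137 (iv4 F57516)))).symm
theorem E40815 : n75376 = n3552 := ((((iv7 F7168)).symm.trans (sb E40137 D75376))).symm
theorem F295806 : act 4 n37714 = n56852 := (sb E40195 (iv4 D122497))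
theorem F295809 : act 4 n122498 = n82257 := (sb E40200 F269624)
theorem F295812 : act 0 n158277 = n172865 := (sb E40206 F274646)
theorem F295813 : act 1 n158277 = n172870 := (sb E40206 (iv0 F271133))
theorem F295814 : act 4 n158277 = n75537 := (sb E40206 (iv4 D158390))
theorem F295817 : act 5 n158267 = n98256 := (sb E40208 F249578)
theorem E40878 : n37143 = n6243 := (((F13056).symm.trans (sb E40230 (iv3 D81318)))).symm
theorem E40884 : n17843 = n2601 := ((((iv3 D6181)).symm.trans (sb E40233 (iv3 D37074)))).symm
theorem E40887 : n18111 = n2608 := ((((iv4 D6205)).symm.trans (sb E40234 (iv4 D37760)))).symm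
theorem E40891 : n81324 = n6243 := (E40237).trans E40878
theorem F295822 : act 5 n6243 = n169632 := (sb E40891 D169632)
theorem E40900 : n169632 = n10470 := (((E40272).symm.trans ((F295594).symm.trans (sb E40240 (iv1 F266992))))).symm
theorem E40917 : n120353 = n37727 := ((D120353).symm.trans (sb E40252 F126737))
theorem E40960 : n45302 = n9591 := ((((iv1 F30576)).symm.trans (sb E40279 D45302))).symm
theorem E40961 : n37181 = n8922 := ((((iv0 D19050)).symm.trans (sb E40279 F126100))).symm
theorem E40962 : n40301 = n34423 := ((D40301).symm.trans (sb E40279 (iv5 F54623)))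
theorem F295839 : act 5 n8517 = n13114 := (sb E40289 (iv5 D27376))
theorem E40969 : n57100 = n17219 := ((((iv6 F28167)).symm.trans (sb E40289 D57100))).symm
theorem E40970 : n13025 = n6196 := (((F13287).symm.trans (sb E40290 F43948))).symm
theorem F295840 : act 5 n8522 = n13024 := (sb E40290 (iv5 D27189))
theorem E40971 : n56516 = n8075 := ((((iv6 F21530)).symm.trans (sb E40290 D56516))).symm
theorem E40972 : n80899 = n12881 := ((((iv3 F27348)).symm.trans (sb E40291 F134424))).symm
theorem E40973 : n181878 = n18863 := ((((iv5 F30102)).symm.trans (sb E40291 (iv5 F283161)))).symm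
theorem E40974 : n78394 = n21168 := ((((iv5 F33413)).symm.trans (sb E40293 F124959))).symm
theorem E40976 : n17855 = n12864 := (((F21350).symm.trans (sb E40296 F58019))).symm
theorem E40978 : n42874 = n17512 := ((((iv5 F28514)).symm.trans (sb E40296 (iv5 F67185)))).symm
theorem E40979 : n82178 = n17229 := ((((iv1 F30570)).symm.trans (sb E40297 (iv1 F126651)))).symm
theorem E40980 : n82176 = n17228 := ((((iv2 F28311)).symm.trans (sb E40297 (iv2 F149479)))).symm
theorem E40982 : n166102 = n35859 := (((D35859).symm.trans (sb E40297 (iv5 F261515)))).symm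
theorem E40983 : n171552 = n17057 := (((F28305).symm.trans (sb E40297 D171552))).symm
theorem E40985 : n36316 = n10252 := ((((iv1 D21479)).symm.trans (sb E40298 (iv1 D79744)))).symm
theorem E40986 : n78388 = n19114 := (((F33766).symm.trans (sb E40298 F122432))).symm
theorem E40987 : n166103 = n37217 := ((((iv4 F58171)).symm.trans (sb E40298 D166103))).symm
theorem E40988 : n163925 = n44985 := (((D44985).symm.trans (sb E40298 F258361))).symm
theorem E40989 : n78395 = n21167 := (((F33767).symm.trans (sb E40298 F124490))).symm
theorem E40991 : n42873 = n21477 := (((D21477).symm.trans (sb E40299 (iv5 D91701)))).symm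
theorem E40998 : n98826 = n17083 := (((D17083).symm.trans (sb E40304 D98826))).symm
theorem E41000 : n166101 = n37216 := ((((iv4 F58170)).symm.trans (sb E40305 D166101))).symm
theorem E41001 : n44489 = n36424 := (((iv6 F70005)).symm.trans (sb E40305 (iv6 F122431)))
theorem E41013 : n37174 = n17364 := ((((iv3 F28298)).symm.trans (sb E40311 (iv3 D81407)))).symm
theorem E41015 : n169773 = n21558 := ((((iv5 F33927)).symm.trans (sb E40311 D169773))).symm
theorem E41017 : n82174 = n1559 := (((F5554).symm.trans (sb E40312 (iv3 F194970)))).symm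
theorem E41019 : n170157 = n7780 := (((D7780).symm.trans (sb E40312 (iv5 F267678)))).symm
theorem E41021 : n80897 = n17374 := (((F30729).symm.trans (sb E40313 D80897))).symm
theorem E41023 : n55778 = n34421 := (((D34421).symm.trans (sb E40313 (iv5 F88214)))).symm
theorem E41024 : n78781 = n17893 := ((((iv1 F29068)).symm.trans (sb E40314 F148914))).symm
theorem E41026 : n181693 = n34422 := (((D34422).symm.trans (sb E40314 (iv4 F282815)))).symm
theorem E41027 : n82175 = n2578 := ((((iv1 F5559)).symm.trans (sb E40315 (iv1 F194969)))).symm
theorem E41030 : n178002 = n6313 := ((((iv5 F9829)).symm.trans (sb E40315 (iv5 F277551)))).symm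
theorem E41035 : n174353 = n8441 := (((F22118).symm.trans (sb E40317 (iv1 F276815)))).symm
theorem E41036 : n84523 = n18905 := ((((iv0 F30176)).symm.trans (sb E40317 (iv0 D177406)))).symm
theorem E41037 : n163027 = n27914 := (((D27914).symm.trans (sb E40317 F276812))).symm
theorem E41040 : n37176 = n17232 := ((((iv0 F28185)).symm.trans (sb E40319 F90212))).symm
theorem E41041 : n37175 = n3947 := (((F13792).symm.trans (sb E40319 F124414))).symm
theorem E41043 : n76882 = n18900 := (((D18900).symm.trans (sb E40319 (iv5 F115496)))).symm
theorem E41048 : n163028 = n34420 := (((D34420).symm.trans (sb E40321 F257387))).symm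
theorem E41049 : n76880 = n18480 := ((((iv6 F29662)).symm.trans (sb E40321 (iv6 D160376)))).symm
theorem E41052 : n17874 = n17221 := (((F28170).symm.trans (sb E40323 (iv3 D37166)))).symm
theorem E41054 : n81397 = n20248 := (((D20248).symm.trans (sb E40323 D81397))).symm
theorem E41056 : n37686 = n6052 := (((F14519).symm.trans (sb E40324 F126142))).symm
theorem E41058 : n84528 = n19833 := (((D19833).symm.trans (sb E40324 (iv5 F129695)))).symm
theorem E41060 : n43114 = n19409 := ((((iv1 F60661)).symm.trans (sb E40325 (iv1 F126054)))).symm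
theorem E41061 : n78818 = n19412 := ((((iv0 F60660)).symm.trans (sb E40325 F126150))).symm
theorem E41062 : n86130 = n77264 := ((((iv4 F116035)).symm.trans (sb E40325 (iv4 F132081)))).symm
theorem F295841 : act 6 n39866 = n18864 := (sb E40325 (iv6 D39868))
theorem E41063 : n78817 = n34424 := (((F60659).symm.trans (sb E40325 (iv7 F126138)))).symm
theorem E41064 : n77916 = n3934 := (((F13724).symm.trans (sb E40327 (iv3 D162179)))).symm
theorem E41065 : n91694 = n18865 := (((D18865).symm.trans (sb E40327 (iv4 F256317)))).symm
theorem E41066 : n87305 = n13232 := ((((iv6 F22036)).symm.trans (sb E40327 F256316))).symm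
theorem E41067 : n78763 = n18002 := (((F33807).symm.trans (sb E40328 (iv3 D163947)))).symm
theorem E41069 : n181691 = n44505 := ((((iv1 F70012)).symm.trans (sb E40329 F282810))).symm
theorem E41070 : n157773 = n34426 := (((D34426).symm.trans (sb E40330 F267681))).symm
theorem E41071 : n156881 = n48048 := ((D156881).symm.trans (sb E40331 (iv5 D103776)))
theorem E41072 : n144246 = n48058 := (((iv1 F226935)).symm.trans (sb E40333 (iv1 F143299)))
theorem F295844 : act 1 n67568 = n43477 := (sb E40333 (iv0 D92933))
theorem E41073 : n144024 = n48057 := (((iv2 F226706)).symm.trans (sb E40333 F154073))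
theorem E41074 : n144253 = n100843 := (((iv3 F226942)).symm.trans (sb E40333 (iv3 F154945)))
theorem E41075 : n144255 = n70288 := ((D144255).symm.trans (sb E40333 (iv4 F157729)))
theorem E41076 : n144256 = n90722 := ((D144256).symm.trans (sb E40333 (iv6 F177342)))
theorem E41077 : n139582 = n48013 := (((iv7 F222722)).symm.trans (sb E40333 (iv7 F157755)))
theorem E41078 : n144244 = n48003 := ((((iv3 F75412)).symm.trans (sb E40334 (iv3 F226932)))).symm
theorem E41080 : n103110 = n31388 := ((D103110).symm.trans (sb E40334 (iv5 D67565)))
theorem F295845 : act 5 n92935 = n49647 := (sb E40335 (iv5 D107474))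
theorem F295846 : act 0 n103800 = n49647 := (sb E40336 F165083)
theorem F295847 : act 2 n103800 = n110994 := (sb E40336 F172068)
theorem F295848 : act 4 n103800 = n49482 := (sb E40336 (iv4 D107109))
theorem F295849 : act 5 n103800 = n67571 := (sb E40336 F165084)
theorem F295850 : act 6 n103800 = n66271 := (sb E40336 F165082)
theorem F295851 : act 7 n103800 = n110993 := (sb E40336 F172063)
theorem F295852 : act 1 n103801 = n49647 := (sb E40337 F165080)
theorem F295853 : act 2 n103801 = n110993 := (sb E40337 F172062)
theorem F295854 : act 4 n103801 = n49481 := (sb E40337 (iv4 D107107))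
theorem F295855 : act 5 n103801 = n67570 := (sb E40337 F165079)
theorem F295856 : act 7 n103801 = n110994 := (sb E40337 (iv7 F172066))
theorem F295857 : act 0 n103798 = n110994 := (sb E40338 (iv1 F172065))
theorem F295859 : act 3 n103798 = n156882 := (sb E40338 (iv3 F246905))
theorem F295861 : act 6 n103798 = n108221 := (sb E40338 (iv6 F167335))
theorem F295862 : act 7 n103798 = n49647 := (sb E40338 (iv7 D107475))
theorem F295863 : act 4 n51183 = n48059 := (sb E40339 (iv4 D103802))
theorem F295864 : act 0 n103803 = n108219 := (sb E40340 (iv1 F175758))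
theorem F295865 : act 1 n103803 = n108218 := (sb E40340 F175759)
theorem F295866 : act 2 n103803 = n108221 := (sb E40340 F175755)
theorem F295867 : act 4 n103803 = n52095 := (sb E40340 F175756)
theorem F295868 : act 5 n103803 = n144134 := (sb E40340 (iv5 F226847))
theorem F295869 : act 7 n103803 = n52092 := (sb E40340 (iv7 D112858))
theorem E41082 : n21599 = n1748 := (((F6471).symm.trans (sb E40341 (iv1 F70945)))).symm
theorem E41083 : n39583 = n8443 := (((D8443).symm.trans (sb E40341 F116970))).symm
theorem E41084 : n21594 = n7775 := ((((iv6 F16792)).symm.trans (sb E40341 F70936))).symm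
theorem E41088 : n37532 = n1225 := ((((iv3 D2617)).symm.trans (sb E40343 F70942))).symm
theorem E41090 : n21518 = n6230 := (((D6230).symm.trans (sb E40343 F70943))).symm
theorem E41091 : n6222 = n3846 := (((F6420).symm.trans (sb E40344 F16402))).symm
theorem E41092 : n9009 = n4674 := (((iv5 F14061)).symm.trans (sb E40344 (iv5 D10313)))
theorem F295870 : act 6 n4038 = n4677 := (sb E40344 F16403)
theorem E41094 : n84136 = n8343 := (((D8343).symm.trans (sb E40345 (iv5 F129178)))).symm
theorem E41096 : n85631 = n6254 := (((F15960).symm.trans (sb E40346 D85631))).symm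
theorem E41097 : n27900 = n9328 := (((F15961).symm.trans (sb E40346 F126056))).symm
theorem E41098 : n85629 = n18938 := ((((iv4 F30242)).symm.trans (sb E40346 (iv4 F131294)))).symm
theorem E41099 : n21201 = n18734 := ((D21201).symm.trans (sb E40346 (iv6 D39561)))
theorem E41100 : n27717 = n9003 := (((F15959).symm.trans (sb E40346 F116968))).symm
theorem E41107 : n86884 = n4669 := (((D4669).symm.trans (sb E40351 (iv5 F133298)))).symm
theorem E41109 : n96871 = n18937 := ((((iv4 F30238)).symm.trans (sb E40352 D96871))).symm
theorem E41110 : n27704 = n21549 := (((D21549).symm.trans (sb E40352 F71346))).symm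
theorem E41111 : n82270 = n9104 := ((((iv1 F16926)).symm.trans (sb E40353 (iv1 F129701)))).symm
theorem E41115 : n36813 = n555 := (((F1110).symm.trans (sb E40355 F57729))).symm
theorem E41116 : n8382 = n560 := ((((iv0 F1070)).symm.trans (sb E40355 (iv0 D17782)))).symm
theorem E41118 : n36206 = n912 := (((D912).symm.trans (sb E40355 (iv5 F118158)))).symm
theorem E41124 : n95260 = n3962 := (((D3962).symm.trans (sb E40357 (iv1 F146867)))).symm
theorem E41125 : n44977 = n3963 := (((D3963).symm.trans (sb E40357 F146859))).symm
theorem E41126 : n85622 = n3964 := (((D3964).symm.trans (sb E40357 (iv4 F131274)))).symm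
theorem E41127 : n85621 = n3965 := (((D3965).symm.trans (sb E40357 F131272))).symm
theorem E41130 : n58128 = n18906 := (((D18906).symm.trans (sb E40360 F122064))).symm
theorem E41131 : n36187 = n18907 := (((D18907).symm.trans (sb E40360 (iv6 D79478)))).symm
theorem E41136 : n8380 = n1637 := ((((iv3 D3740)).symm.trans (sb E40362 (iv3 D17773)))).symm
theorem E41137 : n36910 = n8327 := (((D8327).symm.trans (sb E40362 D36910))).symm
theorem E41138 : n36912 = n8328 := (((D8328).symm.trans (sb E40362 D36912))).symm
theorem E41139 : n45055 = n17121 := (((D17121).symm.trans (sb E40363 (iv4 F118318)))).symm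
theorem E41140 : n46227 = n17122 := (((D17122).symm.trans (sb E40363 D46227))).symm
theorem E41141 : n21588 = n18909 := ((((iv1 F30188)).symm.trans (sb E40364 F120756))).symm
theorem E41142 : n21593 = n18908 := (((F30186).symm.trans (sb E40364 F120757))).symm
theorem E41143 : n87446 = n18917 := (((D18917).symm.trans (sb E40364 (iv3 F134230)))).symm
theorem E41144 : n87448 = n18918 := (((D18918).symm.trans (sb E40364 D87448))).symm
theorem E41145 : n19201 = n18919 := (((D18919).symm.trans (sb E40364 (iv6 D40680)))).symm
theorem E41146 : n87449 = n10442 := ((((iv7 F16631)).symm.trans (sb E40364 D87449))).symm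
theorem E41147 : n8397 = n8367 := ((F118054).symm.trans (sb E40365 F14097))
theorem E41148 : n18921 = n8981 := ((D18921).symm.trans (sb E40365 F14098))
theorem F295871 : act 2 n8871 = n10208 := (sb E40365 (iv2 F16128))
theorem F295872 : act 5 n8871 = n4052 := (sb E40365 (iv5 D9024))
theorem E41149 : n18923 = n10207 := ((D18923).symm.trans (sb E40365 (iv7 F16125)))
theorem E41150 : n44889 = n10443 := (((D10443).symm.trans (sb E40366 (iv6 F70526)))).symm
theorem E41156 : n80916 = n26917 := (((D26917).symm.trans (sb E40370 D80916))).symm
theorem E41157 : n80917 = n16712 := ((((iv0 F27430)).symm.trans (sb E40370 D80917))).symm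
theorem E41158 : n75164 = n26918 := (((D26918).symm.trans (sb E40370 (iv5 F112711)))).symm
theorem E41160 : n27187 = n3775 := (E40373).trans E40497
theorem E41165 : n8423 = n6197 := (((iv4 F13224)).symm.trans (sb E41160 (tr (iv4 D27187) E40666)))
theorem E41178 : n82671 = n10285 := (((D10285).symm.trans (sb E40377 D82671))).symm
theorem E41181 : n58147 = n12987 := (((D12987).symm.trans (sb E40378 (iv5 F118446)))).symm
theorem E41182 : n82672 = n12988 := (((D12988).symm.trans (sb E40378 D82672))).symm
theorem E41183 : n18187 = n8199 := (((F13412).symm.trans (sb E40379 D18187))).symm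
theorem E41184 : n18188 = n8188 := (((F13419).symm.trans (sb E40379 D18188))).symm
theorem F295873 : act 3 n8571 = n3852 := (sb E40379 F13484)
theorem E41185 : n18186 = n17145 := ((((iv4 F28093)).symm.trans (sb E40379 (iv4 F29355)))).symm
theorem E41186 : n18190 = n16747 := ((((iv7 F27495)).symm.trans (sb E40379 D18190))).symm
theorem E41188 : n168677 = n7802 := ((((iv0 F17488)).symm.trans (sb E40382 (iv0 F265670)))).symm
theorem E41189 : n77913 = n9616 := (((D9616).symm.trans (sb E40382 F126636))).symm
theorem E41191 : n3808 = n2625 := ((((iv1 D6247)).symm.trans (sb E40383 F17005))).symm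
theorem E41192 : n8518 = n3774 := (((F17467).symm.trans (sb E40383 F21692))).symm
theorem F295874 : act 5 n6247 = n3807 := (sb E40383 (iv5 D8523))
theorem E41193 : n18061 = n8133 := (((F17469).symm.trans (sb E40383 D18061))).symm
theorem E41196 : n75216 = n16723 := (((D16723).symm.trans (sb E40385 (iv5 F112767)))).symm
theorem E41199 : n13012 = n2605 := ((((iv3 F4188)).symm.trans (sb E40387 (iv3 F21650)))).symm
theorem E41207 : n17517 = n3655 := (((D3655).symm.trans (sb E40389 F28924))).symm
theorem E41211 : n79642 = n17079 := (((F28027).symm.trans (sb E40391 D79642))).symm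
theorem E41212 : n79643 = n17328 := (((D17328).symm.trans (sb E40391 D79643))).symm
theorem E41213 : n75304 = n17329 := (((D17329).symm.trans (sb E40391 (iv4 F112907)))).symm
theorem E41215 : n98827 = n17595 := (((F28606).symm.trans (sb E40393 D98827))).symm
theorem E41217 : n82206 = n17046 := ((((iv3 F27958)).symm.trans (sb E40394 F149463))).symm
theorem E41218 : n98209 = n17594 := ((((iv5 F28600)).symm.trans (sb E40394 (iv5 F151545)))).symm
theorem E41220 : n88659 = n17100 := (((F28264).symm.trans (sb E40395 D88659))).symm
theorem E41221 : n88660 = n17099 := ((((iv0 F28265)).symm.trans (sb E40395 D88660))).symm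
theorem E41222 : n84255 = n35751 := (((D35751).symm.trans (sb E40395 (iv4 F129331)))).symm
theorem F295875 : act 6 n17327 = n19498 := (sb E40395 (iv6 D41397))
theorem E41223 : n88661 = n26962 := ((((iv7 F43508)).symm.trans (sb E40395 D88661))).symm
theorem E41224 : n56497 = n3729 := ((((iv1 F9717)).symm.trans (sb E40397 (iv1 F295503)))).symm
theorem E41225 : n82816 = n6231 := ((((iv0 F9726)).symm.trans (sb E40397 D82816))).symm
theorem E41226 : n21938 = n6242 := (((D6242).symm.trans (sb E40397 (iv5 F295504)))).symm
theorem E41228 : n82811 = n8845 := (((D8845).symm.trans (sb E40398 D82811))).symm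
theorem E41230 : n17783 = n875 := ((((iv3 D1631)).symm.trans (sb E40399 (iv3 D36948)))).symm
theorem E41231 : n41430 = n3648 := ((((iv5 F5672)).symm.trans (sb E40399 F118465))).symm
theorem E41233 : n21970 = n7994 := (((F13315).symm.trans (sb E40400 D21970))).symm
theorem E41234 : n17778 = n3738 := (((F13316).symm.trans (sb E40400 (iv0 F118019)))).symm
theorem F295876 : act 2 n8269 = n4824 := (sb E40400 F16689)
theorem E41235 : n17603 = n16758 := ((D17603).symm.trans (sb E40400 (iv4 F27523)))
theorem E41236 : n21969 = n7996 := ((((iv7 F13312)).symm.trans (sb E40400 (iv7 F34465)))).symm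
theorem E41237 : n38752 = n13047 := (((D13047).symm.trans (sb E40402 (iv5 F59533)))).symm
theorem E41239 : n13082 = n3725 := ((((iv3 D8277)).symm.trans (sb E40403 (iv3 D27300)))).symm
theorem E41240 : n18332 = n17610 := (((D17610).symm.trans (sb E40403 F118007))).symm
theorem E41242 : n16743 = n13054 := ((((iv1 F21773)).symm.trans (sb E40404 D16743))).symm
theorem E41243 : n16714 = n13077 := (((iv0 F27411)).symm.trans (sb E40404 F117917))
theorem F295877 : act 2 n7820 = n3852 := (sb E40404 F12368)
theorem E41244 : n16742 = n16738 := (((D16738).symm.trans (sb E40404 (iv4 F27484)))).symm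
theorem E41245 : n16746 = n3825 := (((F12365).symm.trans (sb E40404 D16746))).symm
theorem E41249 : n13037 = n2597 := (((F6437).symm.trans (sb E40408 (iv3 D27214)))).symm
theorem E41250 : n56203 = n4757 := (((D4757).symm.trans (sb E40408 (iv5 F88887)))).symm
theorem E41252 : n56192 = n4755 := (((D4755).symm.trans (sb E40409 F88875))).symm
theorem E41254 : n13028 = n4763 := ((((iv1 F6874)).symm.trans (sb E40410 F120770))).symm
theorem E41255 : n17826 = n4762 := (((F6877).symm.trans (sb E40410 F120771))).symm
theorem E41256 : n35205 = n4823 := (((D4823).symm.trans (sb E40410 (iv4 F55948)))).symm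
theorem E41257 : n17825 = n4728 := ((((iv7 F6826)).symm.trans (sb E40410 (iv7 F120743)))).symm
theorem E41258 : n17785 = n725 := (((F1676).symm.trans (sb E40412 (iv1 F57727)))).symm
theorem E41260 : n79246 = n1701 := (((D1701).symm.trans (sb E40412 (iv5 F120545)))).symm
theorem E41262 : n98127 = n8846 := (((D8846).symm.trans (sb E40413 (iv1 F151321)))).symm
theorem E41263 : n79320 = n8847 := (((D8847).symm.trans (sb E40413 F126792))).symm
theorem E41264 : n84111 = n8848 := (((D8848).symm.trans (sb E40413 (iv4 F129117)))).symm
theorem E41265 : n79522 = n8849 := (((D8849).symm.trans (sb E40413 (iv6 F122147)))).symm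
theorem E41268 : n38422 = n17245 := (((D17245).symm.trans (sb E40415 F118453))).symm
theorem E41269 : n38420 = n17246 := (((D17246).symm.trans (sb E40415 (iv6 F118366)))).symm
theorem F295878 : act 1 n3619 = n4824 := (sb E40417 (iv0 D10536))
theorem E41273 : n17740 = n1592 := (((F5655).symm.trans (sb E40417 (iv3 F118305)))).symm
theorem E41274 : n22109 = n7998 := (((D7998).symm.trans (sb E40417 D22109))).symm
theorem E41275 : n22111 = n7999 := (((D7999).symm.trans (sb E40417 D22111))).symm
theorem F295879 : act 0 n8320 = n4824 := (sb E40418 (iv1 D10537))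
theorem E41276 : n22114 = n17662 := (((D17662).symm.trans (sb E40418 D22114))).symm
theorem E41277 : n22116 = n17663 := (((D17663).symm.trans (sb E40418 D22116))).symm
theorem E41278 : n18132 = n18075 := (((F117930).symm.trans (sb E40419 (iv1 F29301)))).symm
theorem E41279 : n18217 = n18021 := (((iv0 F59466)).symm.trans (sb E40419 (iv0 F29192)))
theorem E41280 : n35203 = n22102 := ((((iv3 F34583)).symm.trans (sb E40419 D35203))).symm
theorem E41281 : n35204 = n22105 := (((D22105).symm.trans (sb E40419 D35204))).symm
theorem E41282 : n22106 = n17606 := ((D22106).symm.trans (sb E40419 (iv7 F28624)))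
theorem E41283 : n21879 = n17607 := (((D17607).symm.trans (sb E40420 (iv6 F34343)))).symm
theorem F295880 : act 7 n8271 = n4824 := (sb E40420 (iv7 D10539))
theorem E41299 : n86717 = n21164 := ((((iv1 F33400)).symm.trans (sb E40432 F132995))).symm
theorem E41300 : n91675 = n21165 := ((((iv0 F33402)).symm.trans (sb E40432 D91675))).symm
theorem E41301 : n91674 = n40451 := (((D40451).symm.trans (sb E40432 (iv4 F140915)))).symm
theorem F295888 : act 6 n19120 = n20249 := (sb E40432 (iv6 D42863))
theorem E41302 : n91676 = n36259 := ((((iv7 F57002)).symm.trans (sb E40432 D91676))).symm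
theorem F295889 : act 0 n2607 = n3761 := (sb E40434 (iv1 F5754))
theorem F295890 : act 1 n2607 = n3760 := (sb E40434 F5753)
theorem E41303 : n6198 = n6191 := (((iv3 F9652)).symm.trans (sb E40434 (iv3 F9643)))
theorem E41304 : n6203 = n6191 := ((D6203).symm.trans (sb E40434 (iv4 F9644)))
theorem E41305 : n6201 = n1641 := (((iv6 F9656)).symm.trans (sb E40434 (iv6 D3755)))
theorem F295891 : act 2 n1643 = n2607 := (sb E40435 (iv2 F4192))
theorem F295892 : act 5 n1643 = n880 := (sb E40435 (iv5 D1647))
theorem E41307 : n3765 = n878 := ((((iv6 D1643)).symm.trans (sb E40435 (iv6 F5757)))).symm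
theorem E41308 : n8572 = n3813 := ((F17600).symm.trans (sb E40436 F13202))
theorem E41309 : n6224 = n3848 := (((F17601).symm.trans (sb E40436 F13203))).symm
theorem E41310 : n17852 = n12879 := ((((iv6 F21382)).symm.trans (sb E40436 D17852))).symm
theorem E41312 : n17854 = n2572 := ((((iv0 D6106)).symm.trans (sb E40437 D17854))).symm
theorem E41313 : n12899 = n12880 := (((D12880).symm.trans (sb E40437 (iv5 F21410)))).symm
theorem E41316 : n42872 = n21476 := ((D42872).symm.trans (sb E40440 F34204))
theorem F295893 : act 2 n20253 = n19120 := (sb E40440 F34201)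
theorem E41317 : n42871 = n39870 := (((iv4 F67183)).symm.trans (sb E40440 (iv4 F60669)))
theorem F295894 : act 5 n20253 = n10385 := (sb E40440 (iv5 D21763))
theorem E41318 : n8406 = n1639 := ((((iv3 F3214)).symm.trans (sb E40441 (iv3 D17836)))).symm
theorem E41319 : n36319 = n4600 := (((D4600).symm.trans (sb E40441 (iv5 F57040)))).symm
theorem E41320 : n36307 = n4587 := (((D4587).symm.trans (sb E40442 F118089))).symm
theorem E41322 : n121656 = n9848 := (((D9848).symm.trans (sb E40444 (iv5 F194135)))).symm
theorem E41327 : n36318 = n10210 := (((D10210).symm.trans (sb E40446 (iv1 F122397)))).symm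
theorem E41329 : n166039 = n10212 := (((D10212).symm.trans (sb E40446 (iv4 F261429)))).symm
theorem E41330 : n40184 = n10213 := (((D10213).symm.trans (sb E40446 F122395))).symm
theorem E41331 : n8409 = n1216 := ((((iv0 D2596)).symm.trans (sb E40448 F21722))).symm
theorem E41332 : n8407 = n1640 := (((F6442).symm.trans (sb E40448 F30473))).symm
theorem E41333 : n18115 = n6167 := (((D6167).symm.trans (sb E40448 (iv4 F30460)))).symm
theorem E41334 : n8246 = n6102 := ((((iv5 F13446)).symm.trans (sb E40448 (iv5 F21723)))).symm
theorem E41339 : n36312 = n10248 := (((D10248).symm.trans (sb E40450 (iv4 F57036)))).symm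
theorem E41340 : n10249 = n8243 := ((D10249).symm.trans (sb E40450 (iv6 D17535)))
theorem E41343 : n27198 = n9160 := ((((iv3 F14276)).symm.trans (sb E40452 (iv3 F43966)))).symm
theorem E41344 : n36993 = n10306 := ((((iv4 F16388)).symm.trans (sb E40452 D36993))).symm
theorem E41345 : n36995 = n19113 := (((D19113).symm.trans (sb E40452 D36995))).symm
theorem E41346 : n6200 = n3693 := (((F12961).symm.trans (sb E40453 (iv3 D13033)))).symm
theorem E41347 : n27210 = n10307 := ((((iv4 F16394)).symm.trans (sb E40453 D27210))).symm
theorem E41348 : n27212 = n17429 := (((D17429).symm.trans (sb E40453 D27212))).symm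
theorem E41349 : n40728 = n8457 := ((((iv1 F29084)).symm.trans (sb E40454 (iv1 F120694)))).symm
theorem E41350 : n40733 = n8454 := ((((iv0 D17909)).symm.trans (sb E40454 (iv0 F120700)))).symm
theorem E41351 : n46162 = n37264 := (((D37264).symm.trans (sb E40454 (iv3 F72821)))).symm
theorem E41352 : n46165 = n37194 := ((((iv5 F58156)).symm.trans (sb E40454 D46165))).symm
theorem E41353 : n36985 = n21154 := ((((iv7 F33384)).symm.trans (sb E40454 (iv7 F118037)))).symm
theorem E41354 : n21155 = n18913 := ((D21155).symm.trans (sb E40455 (iv6 F118044)))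
theorem F295895 : act 0 n9034 = n4677 := (sb E40464 (iv1 F295678))
theorem E41374 : n18181 = n1223 := (((D1223).symm.trans (sb E40485 (iv5 D37965)))).symm
theorem E41376 : n37981 = n4671 := (((D4671).symm.trans (sb E40486 F120719))).symm
theorem E41380 : n17878 = n8519 := (((D8519).symm.trans (sb E40488 D17878))).symm
theorem E41382 : n82180 = n3801 := ((F295775).symm.trans (sb E40490 (iv5 D8496)))
theorem E41383 : n18010 = n2621 := ((((iv6 D6239)).symm.trans (sb E40490 (iv6 F29175)))).symm
theorem E41384 : n12806 = n3800 := (((D3800).symm.trans (sb E40491 (iv5 D26764)))).symm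
theorem F295896 : act 5 n4661 = n4056 := (sb E40492 (iv5 F295735))
theorem E41386 : n10275 = n4055 := (((D4055).symm.trans (sb E40493 (iv5 D21517)))).symm
theorem E41387 : n19216 = n3786 := ((((iv1 F6739)).symm.trans (sb E40494 D19216))).symm
theorem E41388 : n19217 = n3785 := (((F6740).symm.trans (sb E40494 D19217))).symm
theorem E41389 : n19215 = n10274 := (((D10274).symm.trans (sb E40494 (iv4 F30868)))).symm
theorem E41390 : n19219 = n3784 := (((F6738).symm.trans (sb E40494 D19219))).symm
theorem E41391 : n3811 = n2622 := (((iv6 F5801)).symm.trans (sb E40496 (iv6 D6241)))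
theorem F295897 : act 3 n3775 = n3806 := (sb E40497 (iv3 D8516))
theorem E41392 : n17170 = n8434 := (((D8434).symm.trans (sb E40497 (iv6 F28122)))).symm
theorem F295898 : act 4 n6196 = n3773 := (sb E40498 F13219)
theorem E41394 : n17875 = n17044 := ((((iv0 F28309)).symm.trans (sb E40499 D17875))).symm
theorem E41395 : n17224 = n9618 := ((D17224).symm.trans (sb E40499 (iv5 F14994)))
theorem F295899 : act 6 n8076 = n3773 := (sb E40499 (iv6 D8429))
theorem E41397 : n81387 = n34466 := ((((iv5 F54687)).symm.trans (sb E40500 D81387))).symm
theorem E41399 : n81392 = n34462 := (((D34462).symm.trans (sb E40501 D81392))).symm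
theorem E41401 : n43103 = n18462 := ((D43103).symm.trans (sb E40502 F56226))
theorem E41402 : n43104 = n35234 := ((D43104).symm.trans (sb E40502 F56227))
theorem E41403 : n77016 = n43102 := ((((iv4 F67478)).symm.trans (sb E40502 (iv4 F115755)))).symm
theorem F295900 : act 5 n20336 = n17223 := (sb E40502 (iv5 D35550))
theorem E41404 : n43105 = n34463 := ((D43105).symm.trans (sb E40502 F56225))
theorem E41407 : n57194 = n8130 := (((F21532).symm.trans (sb E40505 D57194))).symm
theorem E41408 : n35861 = n16706 := (((F27392).symm.trans (sb E40505 (iv5 F56524)))).symm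
theorem E41410 : n82837 = n35750 := (((D35750).symm.trans (sb E40506 D82837))).symm
theorem E41412 : n75794 = n16718 := (((D16718).symm.trans (sb E40507 (iv5 F113662)))).symm
theorem E41414 : n38838 = n35172 := ((((iv1 F55921)).symm.trans (sb E40508 F59856))).symm
theorem E41415 : n75282 = n34664 := ((((iv0 F54906)).symm.trans (sb E40508 D75282))).symm
theorem F295901 : act 2 n34441 = n20336 := (sb E40508 F54691)
theorem E41416 : n75281 = n75215 := (((D75215).symm.trans (sb E40508 (iv4 F112872)))).symm
theorem E41417 : n75283 = n38853 := ((((iv7 F59866)).symm.trans (sb E40508 D75283))).symm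
theorem E41418 : n13084 = n4035 := (((F9630).symm.trans (sb E40510 F21805))).symm
theorem E41419 : n13081 = n3730 := ((((iv2 F13079)).symm.trans (sb E40510 (iv2 F29775)))).symm
theorem E41420 : n18109 = n13008 := (((D13008).symm.trans (sb E40510 D18109))).symm
theorem E41421 : n13079 = n6143 := (((F17003).symm.trans (sb E40510 F21793))).symm
theorem E41422 : n82299 = n3871 := (((F13534).symm.trans (sb E40511 D82299))).symm
theorem E41423 : n18458 = n17075 := ((((iv0 F28019)).symm.trans (sb E40511 F117945))).symm
theorem E41424 : n82300 = n18129 := (((D18129).symm.trans (sb E40511 D82300))).symm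
theorem E41425 : n18432 = n18130 := (((D18130).symm.trans (sb E40511 F117947))).symm
theorem E41427 : n18076 = n8028 := (((F12815).symm.trans (sb E40512 F44153))).symm
theorem E41428 : n57184 = n3798 := (((D3798).symm.trans (sb E40513 D57184))).symm
theorem E41430 : n82808 = n17992 := (((D17992).symm.trans (sb E40514 D82808))).symm
theorem E41431 : n18244 = n17993 := (((D17993).symm.trans (sb E40514 (iv6 F58901)))).symm
theorem E41435 : n8029 = n3809 := ((((iv3 D8529)).symm.trans (sb E40516 (iv3 F13307)))).symm
theorem E41436 : n18133 = n18077 := (((D18077).symm.trans (sb E40516 D18133))).symm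
theorem F295902 : act 0 n8503 = n3852 := (sb E40517 (iv1 D8590))
theorem E41437 : n13120 = n3803 := ((((iv3 D8503)).symm.trans (sb E40517 F120610))).symm
theorem E41438 : n18219 = n18022 := (((D18022).symm.trans (sb E40517 D18219))).symm
theorem E41439 : n18206 = n17084 := ((D18206).symm.trans (sb E40518 (iv1 F28737)))
theorem E41440 : n18207 = n8321 := ((D18207).symm.trans (sb E40518 (iv0 D17664)))
theorem E41441 : n36649 = n18204 := ((((iv3 F29374)).symm.trans (sb E40518 D36649))).symm
theorem E41442 : n35607 = n18208 := (((D18208).symm.trans (sb E40518 (iv5 F56286)))).symm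
theorem E41443 : n18209 = n17091 := ((D18209).symm.trans (sb E40518 F28738))
theorem E41444 : n18131 = n16755 := ((D18131).symm.trans (sb E40519 (iv6 F27512)))
theorem F295903 : act 7 n8548 = n3852 := (sb E40519 (iv7 D8592))
theorem E41449 : n36962 = n1203 := ((((iv0 D2574)).symm.trans (sb E40523 D36962))).symm
theorem E41450 : n26920 = n6114 := (((D6114).symm.trans (sb E40523 (iv5 F43414)))).symm
theorem E41457 : n97600 = n19481 := ((((iv3 F31166)).symm.trans (sb E40527 D97600))).symm
theorem E41458 : n97601 = n17585 := ((((iv5 F28577)).symm.trans (sb E40527 D97601))).symm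
theorem E41460 : n95258 = n18988 := (((F30313).symm.trans (sb E40528 F146851))).symm
theorem E41461 : n97602 = n18989 := ((((iv0 F30316)).symm.trans (sb E40528 D97602))).symm
theorem E41462 : n86136 = n20252 := (((D20252).symm.trans (sb E40528 (iv4 F132097)))).symm
theorem E41538 : n8542 = n3855 := (((F295637).symm.trans (sb E40567 F29246))).symm
theorem E41598 : n34509 = n1671 := (((D1671).symm.trans (sb E40616 F113148))).symm
theorem E41600 : n174949 = n172953 := (((D172953).symm.trans (sb E40618 F273840))).symm
theorem F295915 : act 7 n82791 = n46188 := (sb E40618 (iv7 D98773))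
theorem E41601 : n172875 = n158432 := ((D172875).symm.trans (sb E40619 (iv5 F249628)))
theorem E41602 : n175469 = n172876 := (((D172876).symm.trans (sb E40619 (iv7 F274725)))).symm
theorem E41615 : n37529 = n1227 := ((((iv3 F2294)).symm.trans (sb E40633 (iv3 F118277)))).symm
theorem E41617 : n84053 = n1680 := (((D1680).symm.trans (sb E40633 (iv5 F129013)))).symm
theorem E41620 : n123363 = n1685 := ((((iv5 F2864)).symm.trans (sb E40634 (iv5 F197693)))).symm
theorem E41622 : n34506 = n7796 := ((((iv1 F12261)).symm.trans (sb E40635 D34506))).symm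
theorem E41623 : n34507 = n1565 := ((((iv0 D3551)).symm.trans (sb E40635 D34507))).symm
theorem E41624 : n34505 = n7821 := (((D7821).symm.trans (sb E40635 (iv4 F54737)))).symm
theorem F295918 : act 6 n3551 = n7820 := (sb E40635 (iv6 D16739))
theorem E41632 : n27299 = n1657 := ((((iv4 D3793)).symm.trans (sb E40644 (iv4 D56863)))).symm
theorem E41635 : n27401 = n1221 := ((((iv1 D2609)).symm.trans (sb E40645 (iv1 F87681)))).symm
theorem E41636 : n57830 = n6210 := (((D6210).symm.trans (sb E40645 (iv5 F90993)))).symm
theorem E41641 : n37727 = n3629 := (((F12829).symm.trans (sb E40646 (tr (iv7 F191686) E40917)))).symm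
theorem E41644 : n27298 = n2588 := ((((iv3 D6142)).symm.trans (sb E40647 (iv3 D56859)))).symm
theorem E41646 : n175466 = n172843 := (((D172843).symm.trans (sb E40648 (iv6 F274719)))).symm
theorem E41647 : n175464 = n172960 := (((D172960).symm.trans (sb E40649 D175464))).symm
theorem E41648 : n175465 = n172961 := (((D172961).symm.trans (sb E40649 D175465))).symm
theorem F295919 : act 4 n82794 = n38604 := (sb E40649 (iv4 D83790))
theorem E41650 : n175468 = n172877 := ((((iv7 F271137)).symm.trans (sb E40649 D175468))).symm
theorem E41651 : n56425 = n2601 := ((((iv3 D6181)).symm.trans (sb E40650 (iv3 F120988)))).symm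
theorem E41652 : n122815 = n12951 := ((((iv5 F21534)).symm.trans (sb E40650 D122815))).symm
theorem E41654 : n122816 = n13042 := (((D13042).symm.trans (sb E40651 D122816))).symm
theorem E41656 : n27372 = n8025 := ((((iv1 F16673)).symm.trans (sb E40652 D27372))).symm
theorem E41657 : n27373 = n16699 := ((((iv0 F27375)).symm.trans (sb E40652 D27373))).symm
theorem E41658 : n27371 = n18015 := ((((iv4 F29189)).symm.trans (sb E40652 (iv4 F44266)))).symm
theorem E41659 : n27375 = n4759 := ((((iv7 D10469)).symm.trans (sb E40652 D27375))).symm
theorem E41666 : n77907 = n55345 := (((D55345).symm.trans (sb E40665 (iv5 F119129)))).symm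
theorem E41667 : n27188 = n8052 := (((F21568).symm.trans (sb E40666 D27188))).symm
theorem E41668 : n35549 = n27068 := ((((iv5 F43728)).symm.trans (sb E40667 F58534))).symm
theorem E41678 : n171290 = n17181 := ((((iv5 F28139)).symm.trans (sb E40671 (iv5 F269016)))).symm
theorem E41680 : n56117 = n2602 := ((((iv3 D6186)).symm.trans (sb E40672 F126569))).symm
theorem E41682 : n56102 = n12954 := ((((iv5 F21542)).symm.trans (sb E40672 (iv5 F126570)))).symm
theorem E41684 : n37599 = n17630 := ((((iv1 F28687)).symm.trans (sb E40673 (iv1 F118213)))).symm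
theorem E41685 : n37604 = n8040 := ((((iv0 F21853)).symm.trans (sb E40673 (iv0 F118209)))).symm
theorem F295920 : act 3 n13098 = n8871 := (sb E40673 F30197)
theorem E41686 : n40001 = n12810 := ((((iv4 F21854)).symm.trans (sb E40673 (iv4 F60872)))).symm
theorem F295921 : act 6 n13098 = n8868 := (sb E40673 (iv6 D18915))
theorem E41687 : n40005 = n6232 := ((((iv7 D13098)).symm.trans (sb E40673 D40005))).symm
theorem E41690 : n79487 = n8875 := (((D8875).symm.trans (sb E40676 (iv1 F146860)))).symm
theorem E41691 : n44500 = n8876 := (((D8876).symm.trans (sb E40676 (iv0 D95259)))).symm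
theorem E41692 : n85640 = n8877 := (((D8877).symm.trans (sb E40676 F146857))).symm
theorem E41693 : n85638 = n8878 := (((D8878).symm.trans (sb E40676 F146854))).symm
theorem E41697 : n17492 = n1721 := ((((iv5 F2933)).symm.trans (sb E40678 (iv5 D36205)))).symm
theorem E41702 : n79481 = n8890 := ((((iv4 F13857)).symm.trans (sb E40680 (iv4 F122072)))).symm
theorem E41703 : n17489 = n8894 := (((D8894).symm.trans (sb E40680 (iv6 D36190)))).symm
theorem E41707 : n21582 = n17680 := (((D17680).symm.trans (sb E40682 F118264))).symm
theorem E41708 : n80821 = n17681 := (((D17681).symm.trans (sb E40682 D80821))).symm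
theorem E41709 : n17741 = n1595 := (((F5661).symm.trans (sb E40683 (iv3 D36807)))).symm
theorem E41710 : n21583 = n8012 := (((D8012).symm.trans (sb E40683 F57719))).symm
theorem E41711 : n80651 = n8013 := (((D8013).symm.trans (sb E40683 D80651))).symm
theorem E41712 : n45060 = n17917 := ((((iv1 F29090)).symm.trans (sb E40684 F120772))).symm
theorem E41713 : n45064 = n19161 := ((((iv0 F30790)).symm.trans (sb E40684 F120986))).symm
theorem E41714 : n81571 = n22093 := (((D22093).symm.trans (sb E40684 (iv3 F125471)))).symm
theorem E41715 : n81572 = n21901 := ((((iv5 F34395)).symm.trans (sb E40684 D81572))).symm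
theorem F295922 : act 6 n10531 = n17909 := (sb E40684 (iv6 D37265))
theorem E41716 : n45257 = n8866 := (((F16726).symm.trans (sb E40684 (iv7 F120990)))).symm
theorem E41717 : n44478 = n8867 := (((D8867).symm.trans (sb E40685 F120748))).symm
theorem E41724 : n13019 = n2603 := ((((iv1 F4183)).symm.trans (sb E40688 (iv1 D27183)))).symm
theorem E41727 : n56021 = n3640 := (((F13443).symm.trans (sb E40688 (iv5 F88676)))).symm
theorem E41732 : n96324 = n8882 := ((((iv1 F21537)).symm.trans (sb E40690 F198525))).symm
theorem E41733 : n169024 = n9163 := ((((iv0 F14290)).symm.trans (sb E40690 (iv0 F266203)))).symm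
theorem E41734 : n122903 = n8725 := (((F13628).symm.trans (sb E40690 (iv4 F196890)))).symm
theorem E41735 : n55351 = n17174 := (((D17174).symm.trans (sb E40690 (iv6 D120279)))).symm
theorem E41738 : n27384 = n8507 := (((F16666).symm.trans (sb E40692 F120963))).symm
theorem E41739 : n122630 = n21931 := (((D21931).symm.trans (sb E40692 D122630))).symm
theorem E41740 : n13018 = n3734 := ((((iv3 D8302)).symm.trans (sb E40693 (iv3 D27178)))).symm
theorem E41741 : n27385 = n8508 := (((F13277).symm.trans (sb E40693 F120723))).symm
theorem E41742 : n56488 = n17622 := (((D17622).symm.trans (sb E40693 D56488))).symm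
theorem E41743 : n55390 = n13055 := (((F30195).symm.trans (sb E40694 (iv1 F120760)))).symm
theorem E41744 : n18097 = n13052 := (((F30196).symm.trans (sb E40694 (iv0 F120761)))).symm
theorem E41745 : n55427 = n39999 := (((D39999).symm.trans (sb E40694 (iv3 F87720)))).symm
theorem E41747 : n55432 = n18014 := (((F30194).symm.trans (sb E40694 D55432))).symm
theorem E41748 : n27330 = n21886 := (((D21886).symm.trans (sb E40695 (iv6 D56959)))).symm
theorem E41758 : n35552 = n4333 := (((D4333).symm.trans (sb E40709 F89364))).symm
theorem E41767 : n27082 = n8218 := ((((iv5 F13338)).symm.trans (sb E40725 F43747))).symm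
theorem E41769 : n8402 = n8372 := ((((iv0 F13371)).symm.trans (sb E40726 (iv0 F120739)))).symm
theorem E41770 : n36463 = n7826 := ((((iv4 F12375)).symm.trans (sb E40726 (iv4 F57258)))).symm
theorem F295925 : act 6 n4766 = n8269 := (sb E40726 (iv6 D17604))
theorem E41771 : n27196 = n1971 := ((((iv7 D4766)).symm.trans (sb E40726 F120769))).symm
theorem E41773 : n17862 = n6109 := ((((iv1 F21353)).symm.trans (sb E40729 D17862))).symm
theorem E41774 : n17863 = n6101 := ((((iv0 F16911)).symm.trans (sb E40729 D17863))).symm
theorem E41775 : n8239 = n8116 := ((F13427).symm.trans (sb E40729 F13218))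
theorem E41785 : n81252 = n19500 := ((((iv5 F31225)).symm.trans (sb E40733 D81252))).symm
theorem E41790 : n35760 = n10833 := ((D35760).symm.trans (sb E40735 (iv1 F28517)))
theorem E41791 : n35761 = n10837 := ((D35761).symm.trans (sb E40735 (iv0 F28518)))
theorem F295926 : act 2 n17330 = n19498 := (sb E40735 (iv2 F31219))
theorem E41792 : n35759 = n34479 := (((iv4 F56438)).symm.trans (sb E40735 (iv4 F54713)))
theorem F295927 : act 5 n17330 = n10544 := (sb E40735 F28516)
theorem E41793 : n35762 = n19499 := ((D35762).symm.trans (sb E40735 (iv7 F31223)))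
theorem E41796 : n56200 = n17509 := (((F32315).symm.trans (sb E40744 (iv1 D121674)))).symm
theorem E41797 : n121069 = n19487 := (((F32314).symm.trans (sb E40744 F194171))).symm
theorem E41798 : n160824 = n43167 := (((D43167).symm.trans (sb E40744 (iv6 F253991)))).symm
theorem E41803 : n160813 = n19491 := (((D19491).symm.trans (sb E40746 (iv5 F253979)))).symm
theorem E41806 : n35230 = n19495 := ((((iv6 F31215)).symm.trans (sb E40748 (iv6 D77174)))).symm
theorem E41810 : n162650 = n19516 := (((D19516).symm.trans (sb E40750 (iv4 F256887)))).symm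
theorem E41811 : n35622 = n19514 := ((((iv6 F31249)).symm.trans (sb E40750 (iv6 D78125)))).symm
theorem E41814 : n121706 = n41870 := (((D41870).symm.trans (sb E40751 (iv6 F194242)))).symm
theorem E41815 : n163241 = n18464 := ((((iv1 D38857)).symm.trans (sb E40752 D163241))).symm
theorem E41820 : n121137 = n42619 := (((D42619).symm.trans (sb E40753 (iv6 F193190)))).symm
theorem E41832 : n177414 = n35778 := (((D35778).symm.trans (sb E40766 (iv4 F276825)))).symm
theorem E41833 : n177415 = n35269 := (((D35269).symm.trans (sb E40768 F276829))).symm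
theorem E41834 : n79576 = n18943 := ((((iv6 F30248)).symm.trans (sb E40768 (iv6 F150345)))).symm
theorem E41835 : n121587 = n35270 := ((((iv3 F55995)).symm.trans (sb E40770 F194031))).symm
theorem E41836 : n180334 = n35271 := (((D35271).symm.trans (sb E40770 (iv4 F280639)))).symm
theorem E41837 : n44976 = n18953 := ((((iv6 F30263)).symm.trans (sb E40770 F133661))).symm
theorem E41839 : n163309 = n35783 := (((D35783).symm.trans (sb E40771 D163309))).symm
theorem E41840 : n157767 = n35785 := (((F67160).symm.trans (sb E40772 (iv1 F248656)))).symm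
theorem E41841 : n78819 = n35784 := (((F67161).symm.trans (sb E40772 F149455))).symm
theorem E41842 : n182331 = n91673 := (((D91673).symm.trans (sb E40772 (iv3 F283870)))).symm
theorem E41845 : n165782 = n35781 := (((D35781).symm.trans (sb E40773 (iv6 F261183)))).symm
theorem E41874 : n39580 = n8446 := (((D8446).symm.trans (sb E40793 (iv6 D85655)))).symm
theorem E41876 : n38391 = n8355 := (((D8355).symm.trans (sb E40797 (iv5 F127256)))).symm
theorem E41878 : n86527 = n8437 := (((D8437).symm.trans (sb E40798 (iv4 F132735)))).symm
theorem E41879 : n38388 = n8438 := (((D8438).symm.trans (sb E40798 (iv6 D83333)))).symm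
theorem E41887 : n170741 = n1681 := (((D1681).symm.trans (sb E40803 (iv1 F268321)))).symm
theorem E41889 : n162645 = n1683 := (((D1683).symm.trans (sb E40803 (iv4 F256882)))).symm
theorem E41890 : n38726 = n1684 := (((D1684).symm.trans (sb E40803 (iv6 D84061)))).symm
theorem E41893 : n8513 = n1226 := ((((iv1 F4213)).symm.trans (sb E40805 (iv1 D18049)))).symm
theorem E41894 : n37530 = n1229 := ((((iv2 F4209)).symm.trans (sb E40805 (iv2 F117517)))).symm
theorem E41896 : n37659 = n6225 := (((D6225).symm.trans (sb E40805 D37659))).symm
theorem E41901 : n160600 = n8543 := (((D8543).symm.trans (sb E40807 (iv4 F253687)))).symm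
theorem E41902 : n38153 = n8544 := (((D8544).symm.trans (sb E40807 (iv6 F126557)))).symm
theorem E41909 : n21587 = n8575 := (((D8575).symm.trans (sb E40810 (iv1 F118227)))).symm
theorem E41910 : n37959 = n8453 := (((F13481).symm.trans (sb E40810 D37959))).symm
theorem E41911 : n35320 = n8576 := (((D8576).symm.trans (sb E40810 (iv4 F56043)))).symm
theorem F295928 : act 6 n3847 = n8571 := (sb E40810 (iv6 D18179))
theorem E41912 : n37961 = n7823 := ((((iv7 F12370)).symm.trans (sb E40810 D37961))).symm
theorem E41913 : n27365 = n1569 := (((F5576).symm.trans (sb E40812 (iv3 D57063)))).symm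
theorem E41914 : n77088 = n7831 := ((((iv4 F12383)).symm.trans (sb E40812 (iv4 F120773)))).symm
theorem E41915 : n83137 = n7835 := (((D7835).symm.trans (sb E40812 (iv6 F128165)))).symm
theorem E41916 : n8512 = n6058 := ((((iv3 F9417)).symm.trans (sb E40813 (iv3 D18044)))).symm
theorem E41917 : n37642 = n7818 := (((D7818).symm.trans (sb E40813 D37642))).symm
theorem E41918 : n37644 = n7819 := (((D7819).symm.trans (sb E40813 D37644))).symm
theorem E41919 : n56544 = n8563 := ((((iv1 F13406)).symm.trans (sb E40814 F118230))).symm
theorem E41920 : n17827 = n8562 := (((F13405).symm.trans (sb E40814 F118231))).symm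
theorem E41922 : n80420 = n8587 := (((D8587).symm.trans (sb E40814 D80420))).symm
theorem E41923 : n56547 = n7824 := ((((iv7 F12372)).symm.trans (sb E40814 (iv7 F118217)))).symm
theorem E41924 : n37815 = n7825 := (((D7825).symm.trans (sb E40815 F113125))).symm
theorem E41983 : n27221 = n1634 := ((((iv1 F4179)).symm.trans (sb E40884 (iv1 F44027)))).symm
theorem E41984 : n8408 = n1218 := ((((iv0 D2601)).symm.trans (sb E40884 (iv0 D17843)))).symm
theorem E41986 : n37075 = n6153 := ((((iv5 F13345)).symm.trans (sb E40884 D37075))).symm
theorem E41995 : n8539 = n6187 := ((((iv3 F9634)).symm.trans (sb E40887 (iv3 D18111)))).symm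
theorem E41996 : n27505 = n6206 := (((D6206).symm.trans (sb E40887 F120597))).symm
theorem F295935 : act 5 n10470 = n6243 := (sb E40900 (iv5 F295822))
theorem E42066 : n37673 = n8131 := ((((iv3 F14945)).symm.trans (sb E40960 F126103))).symm
theorem E42067 : n96899 = n20277 := (((D20277).symm.trans (sb E40960 D96899))).symm
theorem E42068 : n19048 = n17880 := (((iv3 F30562)).symm.trans (sb E40961 (iv3 D37181)))
theorem E42069 : n76182 = n19051 := (((D19051).symm.trans (sb E40961 (iv5 F114149)))).symm
theorem E42071 : n75168 = n19055 := ((D75168).symm.trans (sb E40962 F61354))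
theorem E42072 : n35881 = n19836 := ((F126096).symm.trans (sb E40962 F61355))
theorem F295937 : act 2 n34423 = n39866 := (sb E40962 F61352)
theorem E42073 : n86718 = n75167 := ((((iv4 F112714)).symm.trans (sb E40962 (iv4 F132999)))).symm
theorem F295938 : act 5 n34423 = n19050 := (sb E40962 (iv5 D40301))
theorem E42074 : n75170 = n40460 := ((D75170).symm.trans (sb E40962 (iv7 F61558)))
theorem E42076 : n120264 = n35547 := (((D35547).symm.trans (sb E40969 (iv5 F191491)))).symm
theorem F295939 : act 5 n6196 = n6197 := (sb E40970 (iv5 D13025))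
theorem E42077 : n27191 = n3644 := (((F21529).symm.trans (sb E40970 D27191))).symm
theorem E42078 : n56157 = n17220 := (((D17220).symm.trans (sb E40971 F89374))).symm
theorem E42081 : n120936 = n26921 := (((D26921).symm.trans (sb E40972 (iv5 F192852)))).symm
theorem E42082 : n182367 = n39865 := (((D39865).symm.trans (sb E40973 (iv6 F283912)))).symm
theorem E42083 : n79718 = n10088 := ((((iv1 D21168)).symm.trans (sb E40974 (iv1 F122392)))).symm
theorem E42084 : n35729 = n17502 := (((F33412).symm.trans (sb E40974 (iv0 D78394)))).symm
theorem E42086 : n163031 = n44511 := (((D44511).symm.trans (sb E40974 D163031))).symm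
theorem E42088 : n26961 = n8238 := ((((iv5 F21352)).symm.trans (sb E40976 (iv5 F43501)))).symm
theorem E42091 : n91697 = n36260 := (((D36260).symm.trans (sb E40978 (iv4 F140965)))).symm
theorem E42092 : n36261 = n35791 := ((D36261).symm.trans (sb E40978 F67186))
theorem F295940 : act 7 n17512 = n20253 := (sb E40978 (iv7 D42874))
theorem E42094 : n162161 = n35560 := (((D35560).symm.trans (sb E40979 (iv5 F256255)))).symm
theorem E42096 : n171497 = n35239 := ((((iv5 F55974)).symm.trans (sb E40980 D171497))).symm
theorem E42103 : n177918 = n27324 := (((F56518).symm.trans (sb E40982 (iv1 F277485)))).symm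
theorem E42104 : n161444 = n27020 := (((F56519).symm.trans (sb E40982 F269364))).symm
theorem E42105 : n161125 = n26746 := (((F56517).symm.trans (sb E40982 F261516))).symm
theorem E42107 : n91699 = n35135 := (((D35135).symm.trans (sb E40983 F269357))).symm
theorem E42110 : n17546 = n12989 := ((((iv3 F21600)).symm.trans (sb E40985 F57037))).symm
theorem E42111 : n79742 = n21480 := (((D21480).symm.trans (sb E40985 (iv4 F122428)))).symm
theorem E42112 : n21474 = n17534 := (((iv6 F33750)).symm.trans (sb E40985 (iv6 D36316)))
theorem E42113 : n163014 = n34427 := ((((iv4 F54628)).symm.trans (sb E40986 (iv4 F257370)))).symm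
theorem E42114 : n40444 = n35727 := (((iv6 F61532)).symm.trans (sb E40986 (iv6 D78388)))
theorem E42115 : n177405 = n39975 := ((((iv0 F60838)).symm.trans (sb E40987 F276809))).symm
theorem E42116 : n163032 = n44508 := ((((iv7 F70017)).symm.trans (sb E40987 F261518))).symm
theorem E42117 : n96339 = n78753 := ((D96339).symm.trans (sb E40988 (iv1 D163925)))
theorem E42118 : n166574 = n96340 := (((D96340).symm.trans (sb E40988 (iv0 F262128)))).symm
theorem E42119 : n91702 = n44984 := (((F70731).symm.trans (sb E40988 (iv5 F258360)))).symm
theorem E42120 : n96341 = n79973 := ((D96341).symm.trans (sb E40988 F258359))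
theorem E42121 : n79939 = n44509 := (((D44509).symm.trans (sb E40989 (iv6 F122681)))).symm
theorem F295941 : act 0 n21477 = n20253 := (sb E40991 (iv1 D42873))
theorem E42128 : n174229 = n35188 := (((D35188).symm.trans (sb E40998 (iv4 F273023)))).symm
theorem E42129 : n79968 = n35186 := ((((iv6 F55931)).symm.trans (sb E40998 F152366))).symm
theorem E42131 : n81505 = n79969 := ((D81505).symm.trans (sb E41000 F261513))
theorem E42132 : n84532 = n79941 := (((F122695).symm.trans (sb E41001 (iv1 F129707)))).symm
theorem E42133 : n80831 = n17587 := ((((iv0 D36424)).symm.trans (sb E41001 (iv0 F124543)))).symm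
theorem E42134 : n35699 = n21159 := ((F119535).symm.trans (sb E41001 (iv5 D44489)))
theorem F295942 : act 6 n36424 = n21478 := (sb E41001 F70005)
theorem E42145 : n81409 = n18003 := (((F29164).symm.trans (sb E41013 D81409))).symm
theorem E42147 : n177407 = n10299 := ((((iv1 D21558)).symm.trans (sb E41015 (iv1 F276822)))).symm
theorem E42148 : n123194 = n16689 := (((F33925).symm.trans (sb E41015 (iv0 F268069)))).symm
theorem E42151 : n161143 = n3530 := (((D3530).symm.trans (sb E41017 (iv5 F254784)))).symm
theorem E42154 : n166098 = n16697 := (((D16697).symm.trans (sb E41019 F267676))).symm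
theorem E42155 : n81608 = n8696 := ((((iv6 F13616)).symm.trans (sb E41019 (iv6 D170157)))).symm
theorem E42157 : n168633 = n18469 := ((((iv5 F29652)).symm.trans (sb E41021 D168633))).symm
theorem E42162 : n120935 = n16728 := (((F54620).symm.trans (sb E41023 D120935))).symm
theorem E42165 : n35867 = n16702 := (((F29067).symm.trans (sb E41024 (iv3 D78781)))).symm
theorem E42167 : n96646 = n27706 := ((((iv6 F44715)).symm.trans (sb E41024 F148913))).symm
theorem E42169 : n91698 = n44982 := ((((iv1 F70724)).symm.trans (sb E41026 F282817))).symm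
theorem E42170 : n37676 = n6119 := (((D6119).symm.trans (sb E41027 F126586))).symm
theorem E42172 : n161464 = n6120 := (((D6120).symm.trans (sb E41027 (iv5 F255408)))).symm
theorem E42180 : n84731 = n2646 := ((((iv1 D6313)).symm.trans (sb E41030 (iv1 D178002)))).symm
theorem E42181 : n173841 = n3563 := (((F9827).symm.trans (sb E41030 F277549))).symm
theorem E42182 : n165563 = n13312 := (((D13312).symm.trans (sb E41030 F277554))).symm
theorem E42186 : n83337 = n17510 := ((((iv3 F28510)).symm.trans (sb E41035 F273167))).symm
theorem E42187 : n83332 = n17891 := ((((iv6 F29065)).symm.trans (sb E41035 (iv6 D174353)))).symm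
theorem E42188 : n39974 = n38993 := (((iv3 F60830)).symm.trans (sb E41036 F129687))
theorem E42189 : n38990 = n17924 := (((F30174).symm.trans (sb E41036 (iv6 D84523)))).symm
theorem E42190 : n166042 = n21169 := (((F45081).symm.trans (sb E41037 (iv1 F261439)))).symm
theorem E42191 : n78393 = n36239 := ((((iv0 F56942)).symm.trans (sb E41037 (iv0 D163027)))).symm
theorem E42193 : n17881 = n8081 := ((((iv3 D17232)).symm.trans (sb E41040 F58119))).symm
theorem E42195 : n35869 = n16705 := ((((iv5 F28188)).symm.trans (sb E41040 F58120))).symm
theorem E42197 : n81413 = n8859 := (((D8859).symm.trans (sb E41041 D81413))).symm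
theorem E42201 : n123012 = n16701 := (((F30157).symm.trans (sb E41043 F197110))).symm
theorem E42202 : n57526 = n13046 := ((((iv0 F30158)).symm.trans (sb E41043 (iv0 F115498)))).symm
theorem E42203 : n160380 = n39967 := (((D39967).symm.trans (sb E41043 (iv4 F253334)))).symm
theorem E42204 : n35131 = n27655 := ((((iv6 F44582)).symm.trans (sb E41043 (iv6 D76882)))).symm
theorem E42212 : n160375 = n38905 := ((((iv6 F59944)).symm.trans (sb E41048 F257388))).symm
theorem E42213 : n81611 = n38903 := (((D38903).symm.trans (sb E41049 (iv1 F196354)))).symm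
theorem E42214 : n56913 = n38904 := (((D38904).symm.trans (sb E41049 F196356))).symm
theorem E42215 : n123192 = n8689 := ((((iv5 D18480)).symm.trans (sb E41049 (iv5 F197470)))).symm
theorem E42218 : n26977 = n17879 := (((iv2 F43533)).symm.trans (sb E41052 F44766))
theorem E42219 : n37124 = n17374 := ((((iv4 F28324)).symm.trans (sb E41052 (iv4 F92686)))).symm
theorem E42220 : n37168 = n35318 := ((((iv5 F56037)).symm.trans (sb E41052 D37168))).symm
theorem E42225 : n58158 = n19159 := (((F32112).symm.trans (sb E41054 (iv1 F129696)))).symm
theorem E42227 : n160511 = n42861 := (((D42861).symm.trans (sb E41054 (iv6 F253563)))).symm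
theorem E42230 : n81990 = n12798 := (((D12798).symm.trans (sb E41056 (iv5 F126407)))).symm
theorem E42233 : n177419 = n36420 := ((((iv4 F57186)).symm.trans (sb E41058 D177419))).symm
theorem E42236 : n34475 = n20339 := (((iv3 F54703)).symm.trans (sb E41060 (iv3 D43114)))
theorem E42237 : n92213 = n41261 := (((D41261).symm.trans (sb E41060 D92213))).symm
theorem E42238 : n41262 = n27899 := ((D41262).symm.trans (sb E41060 F67506))
theorem E42239 : n75221 = n17058 := (((F31073).symm.trans (sb E41061 (iv3 F124439)))).symm
theorem E42241 : n124604 = n41268 := (((D41268).symm.trans (sb E41061 (iv6 F199294)))).symm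
theorem E42242 : n180332 = n161005 := (((D161005).symm.trans (sb E41062 (iv3 F280632)))).symm
theorem F295943 : act 6 n77264 = n39867 := (sb E41062 (iv6 D86130))
theorem E42244 : n164059 = n75171 := (((F116034).symm.trans (sb E41062 (iv7 F258540)))).symm
theorem E42245 : n75178 = n75172 := (((D75172).symm.trans (sb E41063 (iv6 F126146)))).symm
theorem E42246 : n124196 = n3536 := (((F5868).symm.trans (sb E41064 (iv2 F198674)))).symm
theorem E42247 : n79651 = n8833 := (((D8833).symm.trans (sb E41064 (iv4 F194971)))).symm
theorem E42248 : n121963 = n6290 := ((((iv6 F9789)).symm.trans (sb E41064 F194758))).symm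
theorem E42249 : n167905 = n27725 := ((((iv6 F44729)).symm.trans (sb E41065 F264555))).symm
theorem E42250 : n124172 = n27723 := (((D27723).symm.trans (sb E41066 (iv1 F198636)))).symm
theorem E42251 : n81784 = n27724 := (((D27724).symm.trans (sb E41066 (iv0 F134045)))).symm
theorem E42252 : n40557 = n6287 := ((((iv5 D13232)).symm.trans (sb E41066 (iv5 D87305)))).symm
theorem E42254 : n35868 = n8836 := (((F29159).symm.trans (sb E41067 F124420))).symm
theorem E42256 : n123481 = n37504 := (((D37504).symm.trans (sb E41067 (iv6 F197893)))).symm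
theorem E42257 : n95236 = n86716 := (((iv6 F146780)).symm.trans (sb E41069 (iv6 D181691)))
theorem E42258 : n162249 = n35902 := ((((iv1 F116818)).symm.trans (sb E41070 (iv1 F256413)))).symm
theorem E42259 : n121279 = n75177 := (((D75177).symm.trans (sb E41070 F256414))).symm
theorem E42260 : n163488 = n75175 := ((((iv4 F112722)).symm.trans (sb E41070 (iv4 F257766)))).symm
theorem F295944 : act 5 n48048 = n74602 := (sb E41071 (iv5 D156881))
theorem F295945 : act 1 n48058 = n67568 := (sb E41072 F226935)
theorem F295946 : act 2 n48057 = n67568 := (sb E41073 F226706)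
theorem E42261 : n103797 = n67475 := ((D103797).symm.trans (sb E41073 (iv5 D144024)))
theorem F295947 : act 3 n100843 = n67568 := (sb E41074 F226942)
theorem F295948 : act 5 n100843 = n67567 := (sb E41074 (iv5 D144253))
theorem F295949 : act 4 n70288 = n67568 := (sb E41075 (iv4 D144255))
theorem F295950 : act 6 n90722 = n67568 := (sb E41076 (iv6 D144256))
theorem E42262 : n103665 = n65503 := ((D103665).symm.trans (sb E41077 (iv5 D139582)))
theorem F295951 : act 7 n48013 = n67568 := (sb E41077 F222722)
theorem E42263 : n103645 = n67564 := ((D103645).symm.trans (sb E41078 (iv5 D144244)))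
theorem F295952 : act 5 n31388 = n47801 := (sb E41080 (iv5 D103110))
theorem E42264 : n164482 = n67566 := (((D67566).symm.trans (sb E41080 (iv6 F259220)))).symm
theorem E42265 : n10314 = n4036 := (((D4036).symm.trans (sb E41082 F33989))).symm
theorem E42266 : n58161 = n8921 := ((((iv1 F13895)).symm.trans (sb E41083 F116938))).symm
theorem E42267 : n45155 = n8928 := (((F14039).symm.trans (sb E41083 (iv0 F116972)))).symm
theorem E42268 : n85658 = n17895 := (((D17895).symm.trans (sb E41083 (iv4 F131379)))).symm
theorem E42269 : n18739 = n17896 := (((D17896).symm.trans (sb E41083 (iv6 D39583)))).symm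
theorem E42270 : n10312 = n10303 := ((((iv5 F16381)).symm.trans (sb E41084 (iv5 D21594)))).symm
theorem E42272 : n18051 = n2616 := (((D2616).symm.trans (sb E41088 F58414))).symm
theorem E42273 : n18011 = n2619 := (((D2619).symm.trans (sb E41088 F58415))).symm
theorem E42274 : n13090 = n10311 := ((D13090).symm.trans (sb E41090 F33847))
theorem E42275 : n45057 = n13091 := (((D13091).symm.trans (sb E41090 (iv4 F70928)))).symm
theorem E42276 : n17907 = n13092 := (((D13092).symm.trans (sb E41090 F33844))).symm
theorem E42277 : n13083 = n1674 := ((((iv4 D3846)).symm.trans (sb E41091 D13083))).symm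
theorem E42278 : n8573 = n2613 := ((D8573).symm.trans (sb E41091 (iv5 D6222)))
theorem F295953 : act 6 n3846 = n2614 := (sb E41091 F9691)
theorem E42279 : n17123 = n10310 := ((((iv4 F16401)).symm.trans (sb E41092 (iv4 F28069)))).symm
theorem F295954 : act 5 n4674 = n4038 := (sb E41092 F14061)
theorem E42283 : n83339 = n17430 := ((((iv1 F28428)).symm.trans (sb E41094 (iv1 F129180)))).symm
theorem E42284 : n80622 = n3876 := ((((iv0 F13358)).symm.trans (sb E41094 (iv0 F129652)))).symm
theorem E42285 : n176466 = n12957 := ((((iv4 F21547)).symm.trans (sb E41094 (iv4 F275763)))).symm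
theorem E42286 : n38781 = n17736 := (((D17736).symm.trans (sb E41094 (iv6 D84136)))).symm
theorem E42289 : n81889 = n2629 := ((((iv3 D6254)).symm.trans (sb E41096 (iv3 F131303)))).symm
theorem E42290 : n165495 = n13138 := (((D13138).symm.trans (sb E41096 (iv4 F260715)))).symm
theorem E42291 : n81482 = n13139 := (((D13139).symm.trans (sb E41096 F131299))).symm
theorem E42292 : n13305 = n13149 := ((((iv3 F21927)).symm.trans (sb E41097 F45050))).symm
theorem E42293 : n58672 = n18930 := ((((iv4 F30225)).symm.trans (sb E41097 (iv4 F92665)))).symm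
theorem E42294 : n19831 = n13302 := ((D19831).symm.trans (sb E41097 (iv6 D27900)))
theorem E42296 : n81458 = n8883 := (((F30241).symm.trans (sb E41098 (iv0 F146842)))).symm
theorem E42297 : n179484 = n40065 := (((D40065).symm.trans (sb E41098 (iv3 F279424)))).symm
theorem E42299 : n40066 = n39559 := ((D40066).symm.trans (sb E41098 (iv6 D85629)))
theorem E42300 : n58153 = n19157 := ((((iv7 F30783)).symm.trans (sb E41098 F131295))).symm
theorem E42301 : n18728 = n13183 := (((iv1 F29977)).symm.trans (sb E41099 (iv1 F116683)))
theorem E42302 : n44571 = n8785 := ((((iv0 D18734)).symm.trans (sb E41099 D44571))).symm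
theorem E42303 : n39560 = n19162 := ((D39560).symm.trans (sb E41099 F33438))
theorem F295955 : act 6 n18734 = n10110 := (sb E41099 (iv6 D21201))
theorem E42305 : n19158 = n13230 := ((D19158).symm.trans (sb E41100 (iv6 D27717)))
theorem E42311 : n180931 = n10295 := (((D10295).symm.trans (sb E41107 (iv4 F281677)))).symm
theorem E42314 : n58112 = n40064 := (((D40064).symm.trans (sb E41109 F149362))).symm
theorem E42315 : n45132 = n13233 := ((D45132).symm.trans (sb E41110 (iv1 F44719)))
theorem E42316 : n45133 = n13227 := ((D45133).symm.trans (sb E41110 (iv0 D27704)))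
theorem E42317 : n58113 = n45134 := (((D45134).symm.trans (sb E41110 D58113))).symm
theorem E42318 : n45135 = n13231 := ((D45135).symm.trans (sb E41110 F116958))
theorem E42319 : n37724 = n16727 := ((((iv3 F27451)).symm.trans (sb E41111 F126746))).symm
theorem E42324 : n17743 = n877 := (((D877).symm.trans (sb E41115 F57725))).symm
theorem E42326 : n3759 = n879 := (((D879).symm.trans (sb E41116 (iv5 D8382)))).symm
theorem E42332 : n40294 = n872 := (((F1710).symm.trans (sb E41118 (iv0 F121734)))).symm
theorem E42333 : n79503 = n1719 := (((D1719).symm.trans (sb E41118 (iv4 F122094)))).symm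
theorem E42334 : n79256 = n1720 := (((D1720).symm.trans (sb E41118 (iv6 F121603)))).symm
theorem E42343 : n56202 = n8879 := (((D8879).symm.trans (sb E41124 F146865))).symm
theorem E42344 : n96322 = n8881 := (((D8881).symm.trans (sb E41124 (iv6 F148219)))).symm
theorem E42345 : n21473 = n8884 := (((D8884).symm.trans (sb E41125 (iv6 D44977)))).symm
theorem E42346 : n124545 = n8885 := (((D8885).symm.trans (sb E41126 (iv1 F199210)))).symm
theorem E42347 : n96311 = n8886 := (((D8886).symm.trans (sb E41126 (iv0 F148175)))).symm
theorem E42349 : n96503 = n8888 := (((D8888).symm.trans (sb E41126 (iv5 F148617)))).symm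
theorem E42350 : n39555 = n8889 := (((D8889).symm.trans (sb E41126 (iv6 D85622)))).symm
theorem E42351 : n44584 = n8891 := (((D8891).symm.trans (sb E41127 F131268))).symm
theorem E42352 : n44910 = n8892 := (((D8892).symm.trans (sb E41127 F131269))).symm
theorem E42354 : n124540 = n39976 := (((D39976).symm.trans (sb E41130 (iv3 F199204)))).symm
theorem E42356 : n39977 = n27709 := ((D39977).symm.trans (sb E41130 (iv6 D58128)))
theorem E42357 : n44484 = n39978 := (((D39978).symm.trans (sb E41131 F120828))).symm
theorem E42358 : n39979 = n21430 := ((D39979).symm.trans (sb E41131 F120829))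
theorem E42359 : n79477 = n35806 := ((((iv5 F56467)).symm.trans (sb E41131 D79477))).symm
theorem E42361 : n17774 = n3335 := ((((iv4 F5324)).symm.trans (sb E41136 D17774))).symm
theorem E42362 : n17776 = n3741 := (((D3741).symm.trans (sb E41136 D17776))).symm
theorem E42363 : n21585 = n9007 := ((((iv1 F14057)).symm.trans (sb E41137 F57840))).symm
theorem E42364 : n21514 = n9032 := ((((iv0 F14113)).symm.trans (sb E41137 (iv0 F57841)))).symm
theorem E42367 : n80824 = n17683 := (((D17683).symm.trans (sb E41137 D80824))).symm
theorem E42368 : n80445 = n17684 := (((D17684).symm.trans (sb E41138 (iv1 F146862)))).symm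
theorem E42369 : n80830 = n17685 := (((D17685).symm.trans (sb E41138 D80830))).symm
theorem E42372 : n96502 = n19623 := ((((iv5 F31396)).symm.trans (sb E41139 D96502))).symm
theorem E42373 : n85602 = n35273 := (((D35273).symm.trans (sb E41139 (iv6 F131236)))).symm
theorem E42374 : n87172 = n35274 := (((D35274).symm.trans (sb E41140 F133765))).symm
theorem E42375 : n80444 = n35275 := (((D35275).symm.trans (sb E41140 F131246))).symm
theorem E42377 : n45259 = n39983 := (((D39983).symm.trans (sb E41141 D45259))).symm
theorem E42379 : n45261 = n39984 := (((D39984).symm.trans (sb E41141 D45261))).symm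
theorem E42380 : n45278 = n39981 := (((D39981).symm.trans (sb E41142 D45278))).symm
theorem E42382 : n45280 = n39982 := (((D39982).symm.trans (sb E41142 D45280))).symm
theorem E42383 : n149956 = n40006 := (((D40006).symm.trans (sb E41143 F235868))).symm
theorem E42385 : n149796 = n36143 := ((((iv2 F56879)).symm.trans (sb E41143 (iv2 F235634)))).symm
theorem E42387 : n40678 = n40008 := (((D40008).symm.trans (sb E41143 (iv6 D87446)))).symm
theorem E42388 : n183198 = n21887 := ((((iv7 F34362)).symm.trans (sb E41143 D183198))).symm
theorem E42390 : n183201 = n40009 := (((D40009).symm.trans (sb E41144 (iv6 F284832)))).symm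
theorem E42392 : n40010 = n10301 := ((D40010).symm.trans (sb E41145 F30843))
theorem E42393 : n40011 = n10304 := ((D40011).symm.trans (sb E41145 F30844))
theorem F295956 : act 2 n18919 = n17909 := (sb E41145 F30841)
theorem E42394 : n40679 = n40012 := (((D40012).symm.trans (sb E41145 D40679))).symm
theorem E42395 : n40013 = n17910 := ((D40013).symm.trans (sb E41145 F30842))
theorem E42396 : n81562 = n21889 := (((D21889).symm.trans (sb E41146 F134237))).symm
theorem F295957 : act 1 n8367 = n8871 := (sb E41147 (iv0 F118054))
theorem E42397 : n3763 = n3756 := ((((iv3 D8367)).symm.trans (sb E41147 (iv3 D8397)))).symm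
theorem E42398 : n17805 = n8460 := (((F13259).symm.trans (sb E41147 D17805))).symm
theorem E42399 : n17807 = n17745 := (((D17745).symm.trans (sb E41147 D17807))).symm
theorem F295958 : act 0 n8981 = n8871 := (sb E41148 (iv1 D18921))
theorem E42400 : n40021 = n8459 := (((F13963).symm.trans (sb E41148 D40021))).symm
theorem E42401 : n40023 = n19135 := (((D19135).symm.trans (sb E41148 D40023))).symm
theorem E42402 : n21426 = n17723 := ((D21426).symm.trans (sb E41149 F118864))
theorem F295959 : act 7 n10207 = n8871 := (sb E41149 (iv7 D18923))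
theorem E42403 : n37354 = n13000 := ((((iv1 F118881)).symm.trans (sb E41150 F121459))).symm
theorem E42404 : n21960 = n17724 := (((F118870).symm.trans (sb E41150 (iv0 F121460)))).symm
theorem E42413 : n168675 = n36243 := ((((iv5 F56956)).symm.trans (sb E41156 D168675))).symm
theorem E42416 : n165695 = n34458 := (((D34458).symm.trans (sb E41157 (iv5 F261003)))).symm
theorem E42418 : n84207 = n34474 := (((F54701).symm.trans (sb E41158 F129269))).symm
theorem F295960 : act 3 n26918 = n34423 := (sb E41158 F112709)
theorem E42420 : n56169 = n55777 := (((D55777).symm.trans (sb E41158 F112710))).symm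
theorem E42421 : n157756 = n34476 := ((((iv7 F54708)).symm.trans (sb E41158 D157756))).symm
theorem F295962 : act 4 n6197 = n3775 := (sb E41165 F13224)
theorem E42426 : n17868 = n8052 := (((F21568).symm.trans (sb E41165 D17868))).symm
theorem E42454 : n124568 = n8603 := ((((iv1 F21592)).symm.trans (sb E41178 (iv1 F199238)))).symm
theorem E42455 : n38833 = n8632 := (((F16295).symm.trans (sb E41178 (iv0 F129265)))).symm
theorem E42456 : n121478 = n8067 := ((((iv4 F16296)).symm.trans (sb E41178 (iv4 F193836)))).symm
theorem E42457 : n83063 = n21542 := (((D21542).symm.trans (sb E41178 (iv6 F128014)))).symm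
theorem E42463 : n121398 = n8066 := (((F21591).symm.trans (sb E41181 (iv4 F193661)))).symm
theorem E42464 : n27714 = n27112 := (((D27112).symm.trans (sb E41181 (iv6 D58147)))).symm
theorem E42466 : n124567 = n27113 := (((D27113).symm.trans (sb E41182 (iv5 F199237)))).symm
theorem E42468 : n27168 = n8312 := (((F13120).symm.trans (sb E41183 (iv4 F118222)))).symm
theorem E42469 : n37984 = n17441 := (((D17441).symm.trans (sb E41183 D37984))).symm
theorem E42470 : n27169 = n8311 := ((((iv4 F13429)).symm.trans (sb E41184 F118218))).symm
theorem E42471 : n37989 = n17432 := (((D17432).symm.trans (sb E41184 D37989))).symm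
theorem E42472 : n37976 = n8033 := ((((iv1 D17145)).symm.trans (sb E41185 D37976))).symm
theorem E42473 : n37977 = n8044 := (((F28092).symm.trans (sb E41185 D37977))).symm
theorem E42474 : n37974 = n35319 := (((D35319).symm.trans (sb E41185 (iv3 F58811)))).symm
theorem E42475 : n37978 = n34566 := ((((iv5 F54833)).symm.trans (sb E41185 D37978))).symm
theorem E42476 : n37979 = n17623 := ((((iv7 F28663)).symm.trans (sb E41185 D37979))).symm
theorem E42477 : n34536 = n34530 := (((D34530).symm.trans (sb E41186 (iv6 F54781)))).symm
theorem E42478 : n173845 = n16713 := (((D16713).symm.trans (sb E41188 (iv5 F272465)))).symm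
theorem E42480 : n92184 = n8681 := ((((iv1 F17609)).symm.trans (sb E41189 F141790))).symm
theorem F295963 : act 3 n2625 = n1666 := (sb E41191 F5799)
theorem F295964 : act 5 n2625 = n1661 := (sb E41191 (iv5 D3808))
theorem F295965 : act 5 n3774 = n3806 := (sb E41192 (iv5 D8518))
theorem E42485 : n37177 = n12909 := ((((iv1 F21440)).symm.trans (sb E41193 F125227))).symm
theorem E42486 : n34443 = n17366 := (((D17366).symm.trans (sb E41193 (iv5 F54646)))).symm
theorem E42494 : n157884 = n34467 := (((D34467).symm.trans (sb E41196 (iv4 F248802)))).symm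
theorem F295966 : act 6 n16723 = n34441 := (sb E41196 (iv6 D75216))
theorem E42496 : n27161 = n1218 := ((((iv6 D2605)).symm.trans (sb E41199 (iv6 F43918)))).symm
theorem E42509 : n35771 = n1629 := (((F5676).symm.trans (sb E41207 F121737))).symm
theorem E42510 : n36275 = n6166 := (((F9592).symm.trans (sb E41207 D36275))).symm
theorem E42516 : n161503 = n26750 := ((((iv3 F42978)).symm.trans (sb E41211 (iv3 F255478)))).symm
theorem E42517 : n92180 = n35180 := (((D35180).symm.trans (sb E41211 (iv4 F248986)))).symm
theorem E42518 : n45834 = n35178 := ((((iv6 F55929)).symm.trans (sb E41211 F122349))).symm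
theorem E42519 : n92181 = n35753 := (((D35753).symm.trans (sb E41212 F141776))).symm
theorem E42520 : n165832 = n35754 := (((D35754).symm.trans (sb E41212 D165832))).symm
theorem E42521 : n84219 = n35755 := (((D35755).symm.trans (sb E41213 F151328))).symm
theorem E42525 : n158105 = n26963 := ((((iv7 F43511)).symm.trans (sb E41213 D158105))).symm
theorem E42527 : n88743 = n8264 := ((((iv1 D17595)).symm.trans (sb E41215 F152372))).symm
theorem E42528 : n174244 = n17086 := (((F28604).symm.trans (sb E41215 (iv0 F273043)))).symm
theorem E42529 : n174621 = n36439 := (((D36439).symm.trans (sb E41215 (iv4 F273484)))).symm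
theorem E42531 : n171553 = n35107 := (((D35107).symm.trans (sb E41217 D171553))).symm
theorem E42533 : n158854 = n36437 := (((D36437).symm.trans (sb E41218 (iv4 F250109)))).symm
theorem E42534 : n45902 = n36438 := (((D36438).symm.trans (sb E41218 (iv6 D98209)))).symm
theorem E42537 : n158035 = n35237 := (((D35237).symm.trans (sb E41220 (iv4 F248984)))).symm
theorem E42538 : n79319 = n35238 := (((D35238).symm.trans (sb E41220 F135974))).symm
theorem E42539 : n77911 = n27641 := ((((iv3 F44563)).symm.trans (sb E41221 F248976))).symm
theorem E42541 : n186089 = n35236 := (((D35236).symm.trans (sb E41221 D186089))).symm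
theorem E42542 : n92185 = n38854 := ((((iv1 F59871)).symm.trans (sb E41222 (iv1 F141796)))).symm
theorem E42544 : n176720 = n78454 := (((D78454).symm.trans (sb E41222 (iv3 F276099)))).symm
theorem F295967 : act 6 n35751 = n38857 := (sb E41222 (iv6 D84255))
theorem E42546 : n176641 = n55895 := ((((iv7 F88430)).symm.trans (sb E41222 (iv7 F276019)))).symm
theorem E42547 : n90989 = n55896 := (((D55896).symm.trans (sb E41223 (iv6 F140017)))).symm
theorem E42548 : n27182 = n1633 := ((((iv3 D3729)).symm.trans (sb E41224 (iv3 D56497)))).symm
theorem E42549 : n121505 = n8062 := ((((iv5 F13438)).symm.trans (sb E41224 (iv5 F193864)))).symm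
theorem E42551 : n84699 = n13093 := (((D13093).symm.trans (sb E41225 (iv5 F295570)))).symm
theorem E42553 : n27173 = n8307 := ((((iv1 F21819)).symm.trans (sb E41226 (iv1 F118050)))).symm
theorem E42554 : n45872 = n13095 := (((F21845).symm.trans (sb E41226 D45872))).symm
theorem E42555 : n37541 = n13112 := (((D13112).symm.trans (sb E41226 (iv4 F58437)))).symm
theorem F295968 : act 6 n6242 = n10469 := (sb E41226 (iv6 D21938))
theorem E42556 : n45870 = n13089 := ((((iv7 F21818)).symm.trans (sb E41226 (iv7 F72429)))).symm
theorem E42558 : n82783 = n18272 := ((((iv4 F29470)).symm.trans (sb E41228 (iv4 F295576)))).symm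
theorem E42559 : n46233 = n18885 := (((D18885).symm.trans (sb E41228 (iv6 F295577)))).symm
theorem E42561 : n36073 = n1601 := ((((iv5 F2780)).symm.trans (sb E41230 (iv5 F56810)))).symm
theorem E42563 : n82787 = n8091 := (((D8091).symm.trans (sb E41231 (iv4 F127532)))).symm
theorem E42564 : n19512 = n8092 := (((D8092).symm.trans (sb E41231 (iv6 D41430)))).symm
theorem E42565 : n45978 = n17085 := (((D17085).symm.trans (sb E41233 D45978))).symm
theorem E42566 : n8381 = n1636 := ((((iv3 D3738)).symm.trans (sb E41234 (iv3 D17778)))).symm
theorem E42567 : n36935 = n8322 := (((D8322).symm.trans (sb E41234 D36935))).symm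
theorem E42568 : n34518 = n27249 := ((F113501).symm.trans (sb E41235 (iv1 F44092)))
theorem E42569 : n34460 = n27295 := (((F117956).symm.trans (sb E41235 (iv0 F54675)))).symm
theorem E42570 : n36461 = n34560 := ((((iv3 F54820)).symm.trans (sb E41235 D36461))).symm
theorem F295969 : act 4 n16758 = n8269 := (sb E41235 (iv4 D17603))
theorem E42571 : n36462 = n34564 := (((D34564).symm.trans (sb E41235 D36462))).symm
theorem E42572 : n34565 = n17087 := ((D34565).symm.trans (sb E41235 F28617))
theorem E42573 : n17088 = n10479 := ((D17088).symm.trans (sb E41236 (iv6 D21969)))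
theorem E42574 : n38457 = n8619 := (((F21748).symm.trans (sb E41237 (iv1 F59537)))).symm
theorem E42576 : n84106 = n27233 := (((D27233).symm.trans (sb E41237 (iv4 F129098)))).symm
theorem E42577 : n27234 = n18426 := ((D27234).symm.trans (sb E41237 (iv6 D38752)))
theorem E42580 : n8541 = n6227 := (((F9711).symm.trans (sb E41239 F21796))).symm
theorem E42581 : n8736 = n8278 := (((D8278).symm.trans (sb E41239 (iv5 F21797)))).symm
theorem E42582 : n27301 = n8279 := (((D8279).symm.trans (sb E41239 D27301))).symm
theorem E42583 : n38449 = n35173 := ((((iv4 F55925)).symm.trans (sb E41240 (iv4 F59293)))).symm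
theorem E42584 : n36477 = n8638 := ((D36477).symm.trans (sb E41240 (iv6 D18332)))
theorem F295970 : act 2 n13054 = n8529 := (sb E41242 F117888)
theorem E42588 : n26762 = n6214 := ((((iv3 D13054)).symm.trans (sb E41242 F120632))).symm
theorem E42589 : n34520 = n27250 := (((D27250).symm.trans (sb E41242 D34520))).symm
theorem F295971 : act 0 n13077 = n7820 := (sb E41243 F27411)
theorem F295972 : act 1 n13077 = n8548 := (sb E41243 (iv0 F27413))
theorem F295973 : act 2 n13077 = n8503 := (sb E41243 F27408)
theorem E42590 : n12944 = n6221 := ((((iv3 D13077)).symm.trans (sb E41243 F27409))).symm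
theorem F295974 : act 5 n13077 = n7804 := (sb E41243 (iv5 D16714))
theorem E42591 : n34461 = n27297 := (((D27297).symm.trans (sb E41243 D34461))).symm
theorem F295975 : act 2 n16738 = n8588 := (sb E41244 F27483)
theorem E42592 : n34510 = n34503 := (((D34503).symm.trans (sb E41244 (iv3 F54742)))).symm
theorem E42593 : n34514 = n34504 := (((D34504).symm.trans (sb E41244 D34514))).symm
theorem E42594 : n34515 = n8551 := (((F27476).symm.trans (sb E41244 D34515))).symm
theorem F295976 : act 1 n3825 = n8529 := (sb E41245 F117913)
theorem E42595 : n8569 = n8552 := (((D8552).symm.trans (sb E41245 F27489))).symm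
theorem E42599 : n27089 = n6103 := ((((iv5 F13450)).symm.trans (sb E41249 (iv5 F43764)))).symm
theorem E42602 : n121666 = n10460 := (((D10460).symm.trans (sb E41250 (iv4 F194154)))).symm
theorem E42603 : n36366 = n10461 := (((D10461).symm.trans (sb E41250 F88888))).symm
theorem E42606 : n121653 = n10454 := (((D10454).symm.trans (sb E41252 (iv4 F194119)))).symm
theorem E42607 : n27079 = n10455 := (((D10455).symm.trans (sb E41252 (iv6 D56192)))).symm
theorem E42609 : n6199 = n3698 := (((F12105).symm.trans (sb E41254 (iv3 D13028)))).symm
theorem E42610 : n27199 = n10473 := (((D10473).symm.trans (sb E41254 D27199))).symm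
theorem E42611 : n27201 = n10474 := (((D10474).symm.trans (sb E41254 D27201))).symm
theorem E42612 : n37038 = n10471 := (((D10471).symm.trans (sb E41255 D37038))).symm
theorem E42613 : n37040 = n10472 := (((D10472).symm.trans (sb E41255 D37040))).symm
theorem E42614 : n77086 = n10534 := (((D10534).symm.trans (sb E41256 (iv3 F115813)))).symm
theorem E42617 : n27149 = n10434 := (((D10434).symm.trans (sb E41257 F121327))).symm
theorem E42619 : n8383 = n1217 := (((D1217).symm.trans (sb E41258 F28912))).symm
theorem E42623 : n36204 = n1202 := (((F2892).symm.trans (sb E41260 (iv1 F120548)))).symm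
theorem E42624 : n36134 = n1213 := (((F2893).symm.trans (sb E41260 (iv0 F120549)))).symm
theorem E42625 : n164930 = n2890 := ((((iv4 F4487)).symm.trans (sb E41260 (iv4 F260019)))).symm
theorem E42626 : n36222 = n3943 := (((D3943).symm.trans (sb E41260 F120546))).symm
theorem E42630 : n121504 = n17045 := ((((iv3 F27953)).symm.trans (sb E41262 (iv3 F193860)))).symm
theorem E42631 : n171792 = n18886 := (((D18886).symm.trans (sb E41262 (iv4 F269782)))).symm
theorem E42632 : n88653 = n18887 := (((D18887).symm.trans (sb E41262 F151319))).symm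
theorem E42633 : n38700 = n18888 := (((D18888).symm.trans (sb E41263 F121717))).symm
theorem E42635 : n83411 = n18270 := ((((iv1 F29466)).symm.trans (sb E41264 F129120))).symm
theorem E42636 : n82412 = n18239 := ((((iv0 F29419)).symm.trans (sb E41264 (iv0 F129121)))).symm
theorem E42637 : n176406 = n13657 := ((((iv3 F22812)).symm.trans (sb E41264 (iv3 F275703)))).symm
theorem E42639 : n38756 = n18891 := (((D18891).symm.trans (sb E41264 (iv6 D84111)))).symm
theorem E42640 : n38648 = n18892 := (((D18892).symm.trans (sb E41265 (iv1 F122148)))).symm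
theorem E42641 : n40176 = n18893 := (((D18893).symm.trans (sb E41265 F122149))).symm
theorem E42643 : n83405 = n35598 := (((D35598).symm.trans (sb E41268 (iv3 F128512)))).symm
theorem E42644 : n75418 = n35599 := (((D35599).symm.trans (sb E41268 F113165))).symm
theorem E42645 : n35600 = n18324 := ((D35600).symm.trans (sb E41268 (iv6 D38422)))
theorem E42646 : n35601 = n19515 := ((D35601).symm.trans (sb E41269 F118362))
theorem E42647 : n35602 = n19497 := ((D35602).symm.trans (sb E41269 F118363))
theorem E42648 : n83406 = n35603 := (((D35603).symm.trans (sb E41269 D83406))).symm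
theorem E42649 : n35604 = n19513 := ((D35604).symm.trans (sb E41269 F118367))
theorem E42651 : n36803 = n3385 := ((((iv4 F5378)).symm.trans (sb E41273 D36803))).symm
theorem E42652 : n36805 = n3621 := (((D3621).symm.trans (sb E41273 D36805))).symm
theorem E42653 : n46209 = n15696 := ((((iv3 F25180)).symm.trans (sb E41274 D46209))).symm
theorem E42654 : n46210 = n17092 := (((D17092).symm.trans (sb E41274 D46210))).symm
theorem E42655 : n46211 = n17093 := (((D17093).symm.trans (sb E41274 D46211))).symm
theorem E42656 : n45886 = n17094 := (((D17094).symm.trans (sb E41275 (iv1 F123904)))).symm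
theorem E42657 : n46219 = n17095 := (((D17095).symm.trans (sb E41275 D46219))).symm
theorem E42658 : n41392 = n17096 := (((D17096).symm.trans (sb E41275 F63823))).symm
theorem E42660 : n46228 = n36644 := (((D36644).symm.trans (sb E41276 D46228))).symm
theorem E42661 : n46229 = n35214 := ((((iv5 F55959)).symm.trans (sb E41276 D46229))).symm
theorem E42662 : n46230 = n36645 := (((D36645).symm.trans (sb E41276 D46230))).symm
theorem E42663 : n45881 = n36646 := (((D36646).symm.trans (sb E41277 F72880))).symm
theorem E42664 : n45885 = n36647 := (((D36647).symm.trans (sb E41277 (iv0 F113070)))).symm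
theorem E42666 : n36867 = n33148 := ((((iv3 F52373)).symm.trans (sb E41278 (iv3 F57808)))).symm
theorem E42667 : n37816 = n37714 := (((D37714).symm.trans (sb E41278 D37816))).symm
theorem F295977 : act 0 n18021 = n10535 := (sb E41279 F59466)
theorem E42669 : n38085 = n37560 := (((D37560).symm.trans (sb E41279 D38085))).symm
theorem E42670 : n38086 = n37561 := (((D37561).symm.trans (sb E41279 D38086))).symm
theorem E42671 : n38087 = n37562 := (((D37562).symm.trans (sb E41279 D38087))).symm
theorem E42672 : n77083 = n46186 := (((D46186).symm.trans (sb E41280 D77083))).symm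
theorem E42673 : n60070 = n46187 := (((D46187).symm.trans (sb E41280 (iv0 F94612)))).symm
theorem E42674 : n77084 = n46185 := ((((iv2 F72853)).symm.trans (sb E41280 D77084))).symm
theorem E42675 : n77085 = n46188 := (((D46188).symm.trans (sb E41280 D77085))).symm
theorem E42676 : n46189 = n36469 := ((D46189).symm.trans (sb E41280 (iv7 F57270)))
theorem E42677 : n46190 = n37808 := ((D46190).symm.trans (sb E41281 (iv1 F58660)))
theorem E42678 : n46191 = n37473 := ((D46191).symm.trans (sb E41281 (iv0 F58358)))
theorem E42679 : n38050 = n35211 := (((iv4 F295774)).symm.trans (sb E41281 (iv4 F55951)))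
theorem E42680 : n77087 = n38604 := ((((iv6 F59420)).symm.trans (sb E41281 D77087))).symm
theorem E42681 : n38049 = n36470 := (((iv7 F295768)).symm.trans (sb E41281 (iv7 F57273)))
theorem E42682 : n36471 = n34572 := ((D36471).symm.trans (sb E41282 (iv6 F54843)))
theorem F295978 : act 7 n17606 = n10535 := (sb E41282 (iv7 D22106))
theorem E42683 : n10478 = n8333 := (((F121355).symm.trans (sb E41283 (iv1 F34345)))).symm
theorem E42684 : n27150 = n10477 := ((F121356).symm.trans (sb E41283 F34346))
theorem E42692 : n77910 = n27638 := ((((iv3 F44557)).symm.trans (sb E41299 F132992))).symm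
theorem E42693 : n44483 = n40212 := (((iv6 F69999)).symm.trans (sb E41299 (iv6 D86717)))
theorem E42694 : n79869 = n44507 := (((D44507).symm.trans (sb E41300 (iv6 F140919)))).symm
theorem F295979 : act 6 n40451 = n42862 := (sb E41301 (iv6 D91674))
theorem E42695 : n79622 = n78541 := ((D79622).symm.trans (sb E41302 F140926))
theorem F295980 : act 3 n6191 = n2607 := (sb E41303 F9652)
theorem F295981 : act 5 n6191 = n2605 := (sb E41303 (iv5 D6198))
theorem F295982 : act 4 n6191 = n2607 := (sb E41304 (iv4 D6203))
theorem E42697 : n3754 = n2606 := ((D3754).symm.trans (sb E41305 (iv5 D6201)))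
theorem F295983 : act 6 n1641 = n2607 := (sb E41305 F9656)
theorem E42699 : n1644 = n1642 := (((D1642).symm.trans (sb E41307 (iv5 D3765)))).symm
theorem F295984 : act 0 n3813 = n8390 := (sb E41308 (iv1 F17605))
theorem F295985 : act 1 n3813 = n8385 := (sb E41308 (iv0 F17600))
theorem E42700 : n8540 = n3845 := (((iv6 F13293)).symm.trans (sb E41308 (iv6 D8572)))
theorem F295986 : act 2 n3848 = n3813 := (sb E41309 F9697)
theorem F295987 : act 4 n3848 = n2614 := (sb E41309 (iv4 D6224))
theorem F295988 : act 5 n3848 = n3813 := (sb E41309 F9699)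
theorem E42701 : n37101 = n26917 := (((D26917).symm.trans (sb E41310 D37101))).symm
theorem E42702 : n37102 = n16712 := ((((iv0 F27430)).symm.trans (sb E41310 D37102))).symm
theorem E42709 : n35260 = n6108 := (((D6108).symm.trans (sb E41312 (iv5 F55987)))).symm
theorem E42711 : n26959 = n8210 := (((F21385).symm.trans (sb E41313 D26959))).symm
theorem E42712 : n26960 = n8241 := ((((iv0 F21386)).symm.trans (sb E41313 D26960))).symm
theorem F295989 : act 3 n12880 = n20253 := (sb E41313 (iv3 F32123))
theorem E42713 : n26958 = n26919 := (((D26919).symm.trans (sb E41313 (iv4 F43497)))).symm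
theorem F295990 : act 1 n21476 = n20253 := (sb E41316 (iv0 D42872))
theorem E42720 : n80586 = n44900 := ((((iv6 F70553)).symm.trans (sb E41316 F123913))).symm
theorem F295991 : act 4 n39870 = n20253 := (sb E41317 F67183)
theorem E42723 : n17837 = n3746 := (((D3746).symm.trans (sb E41318 D17837))).symm
theorem E42724 : n17550 = n3702 := (((F13334).symm.trans (sb E41318 (iv5 F30471)))).symm
theorem E42726 : n79734 = n8691 := (((F13613).symm.trans (sb E41319 (iv4 F122424)))).symm
theorem E42727 : n40190 = n10118 := (((D10118).symm.trans (sb E41319 (iv6 F118076)))).symm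
theorem E42728 : n79716 = n8690 := ((((iv4 F13612)).symm.trans (sb E41320 (iv4 F122386)))).symm
theorem E42729 : n17532 = n10085 := (((D10085).symm.trans (sb E41320 (iv6 D36307)))).symm
theorem E42731 : n176238 = n8623 := (((F15484).symm.trans (sb E41322 (iv4 F275461)))).symm
theorem E42732 : n79804 = n20754 := (((D20754).symm.trans (sb E41322 F194136))).symm
theorem E42736 : n79748 = n12796 := ((((iv3 F21241)).symm.trans (sb E41327 D79748))).symm
theorem E42737 : n79749 = n17885 := ((((iv4 F29062)).symm.trans (sb E41327 D79749))).symm
theorem E42738 : n78281 = n21429 := (((D21429).symm.trans (sb E41327 (iv6 F122406)))).symm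
theorem E42742 : n86687 = n21433 := (((D21433).symm.trans (sb E41329 F261431))).symm
theorem E42743 : n21434 = n18983 := ((D21434).symm.trans (sb E41330 (iv1 F61113)))
theorem E42744 : n21435 = n18978 := ((D21435).symm.trans (sb E41330 (iv0 D40184)))
theorem E42746 : n17847 = n876 := (((F2270).symm.trans (sb E41331 (iv4 F29000)))).symm
theorem E42747 : n3766 = n2599 := (((D2599).symm.trans (sb E41331 F13193))).symm
theorem E42749 : n12975 = n3703 := (((F13340).symm.trans (sb E41332 (iv5 F21574)))).symm
theorem E42751 : n27304 = n3818 := ((((iv0 F9598)).symm.trans (sb E41333 F44173))).symm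
theorem E42753 : n37765 = n12987 := (((D12987).symm.trans (sb E41333 D37765))).symm
theorem E42755 : n16414 = n3700 := ((((iv1 F9480)).symm.trans (sb E41334 (iv1 F43771)))).symm
theorem E42756 : n17549 = n2571 := ((((iv0 D6102)).symm.trans (sb E41334 D17549))).symm
theorem E42757 : n17541 = n12867 := (((D12867).symm.trans (sb E41334 (iv4 F28534)))).symm
theorem E42758 : n12868 = n3710 := ((D12868).symm.trans (sb E41334 (iv6 D8246)))
theorem E42767 : n79726 = n21470 := (((D21470).symm.trans (sb E41339 (iv3 F122421)))).symm
theorem E42768 : n79733 = n21448 := ((((iv5 F33709)).symm.trans (sb E41339 D79733))).symm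
theorem E42769 : n21471 = n17533 := ((D21471).symm.trans (sb E41339 (iv6 D36312)))
theorem E42770 : n21472 = n17530 := (((D17530).symm.trans (sb E41340 D21472))).symm
theorem F295992 : act 6 n8243 = n4652 := (sb E41340 (iv6 D10249))
theorem E42772 : n56546 = n19486 := (((D19486).symm.trans (sb E41343 D56546))).symm
theorem E42773 : n40725 = n8451 := ((((iv1 F16389)).symm.trans (sb E41344 F120722))).symm
theorem E42774 : n80974 = n21574 := (((D21574).symm.trans (sb E41344 D80974))).symm
theorem E42776 : n80976 = n21575 := (((D21575).symm.trans (sb E41344 D80976))).symm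
theorem E42777 : n40442 = n35293 := ((D40442).symm.trans (sb E41345 F119513))
theorem E42778 : n78307 = n35226 := ((((iv0 F115866)).symm.trans (sb E41345 F119512))).symm
theorem E42780 : n3764 = n3757 := (((F13319).symm.trans (sb E41346 (iv2 F30480)))).symm
theorem E42781 : n8192 = n7384 := ((D8192).symm.trans (sb E41346 F30457))
theorem E42782 : n13036 = n8193 := (((D8193).symm.trans (sb E41346 D13036))).symm
theorem E42783 : n32826 = n21576 := (((D21576).symm.trans (sb E41347 (iv3 F51974)))).symm
theorem E42785 : n56580 = n21577 := (((D21577).symm.trans (sb E41347 D56580))).symm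
theorem E42786 : n36000 = n35287 := ((D36000).symm.trans (sb E41348 (iv1 F118540)))
theorem E42787 : n36001 = n35292 := ((D36001).symm.trans (sb E41348 F118539))
theorem E42791 : n87507 = n17921 := (((D17921).symm.trans (sb E41349 D87507))).symm
theorem E42792 : n87514 = n17911 := (((D17911).symm.trans (sb E41350 D87514))).symm
theorem E42794 : n87516 = n17913 := (((D17913).symm.trans (sb E41350 D87516))).symm
theorem E42795 : n98737 = n81568 := (((D81568).symm.trans (sb E41351 D98737))).symm
theorem E42796 : n98738 = n81569 := (((D81569).symm.trans (sb E41351 D98738))).symm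
theorem E42797 : n81570 = n36145 := ((D81570).symm.trans (sb E41351 F72820))
theorem F295993 : act 4 n37264 = n22102 := (sb E41351 F72822)
theorem E42804 : n80972 = n40695 := ((((iv7 F61813)).symm.trans (sb E41352 (iv7 F124720)))).symm
theorem E42805 : n44475 = n39988 := ((D44475).symm.trans (sb E41353 F118036))
theorem F295994 : act 3 n18913 = n17607 := (sb E41354 F33387)
theorem F295995 : act 6 n18913 = n10082 := (sb E41354 (iv6 D21155))
theorem E42827 : n18039 = n1589 := ((((iv1 F2767)).symm.trans (sb E41374 F120706))).symm
theorem E42829 : n36822 = n2517 := ((((iv4 F3996)).symm.trans (sb E41374 (iv4 F57744)))).symm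
theorem E42831 : n82659 = n10302 := (((D10302).symm.trans (sb E41376 D82659))).symm
theorem E42837 : n18056 = n17368 := ((D18056).symm.trans (sb E41380 F29048))
theorem F295996 : act 5 n3801 = n6239 := (sb E41382 (iv5 F295775))
theorem E42840 : n8495 = n6059 := ((((iv5 F14017)).symm.trans (sb E41383 (iv5 D18010)))).symm
theorem E42841 : n8534 = n6213 := (((F9677).symm.trans (sb E41384 F120589))).symm
theorem E42843 : n26765 = n6212 := ((((iv7 F9674)).symm.trans (sb E41384 D26765))).symm
theorem E42844 : n21515 = n8456 := ((((iv1 F13810)).symm.trans (sb E41386 D21515))).symm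
theorem F295997 : act 2 n4055 = n4674 := (sb E41386 F16265)
theorem F295998 : act 6 n4055 = n4660 := (sb E41386 (iv6 D10275))
theorem E42845 : n40730 = n8458 := (((D8458).symm.trans (sb E41387 D40730))).symm
theorem E42846 : n40735 = n8455 := (((D8455).symm.trans (sb E41388 D40735))).symm
theorem E42847 : n40721 = n21513 := (((D21513).symm.trans (sb E41389 (iv3 F61838)))).symm
theorem E42848 : n40724 = n10175 := (((F16262).symm.trans (sb E41389 D40724))).symm
theorem E42849 : n27321 = n8452 := (((D8452).symm.trans (sb E41390 (iv6 F44211)))).symm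
theorem E42850 : n6240 = n1663 := ((D6240).symm.trans (sb E41391 (iv5 D3811)))
theorem F295999 : act 6 n2622 = n1666 := (sb E41391 F5801)
theorem F296000 : act 2 n8434 = n8076 := (sb E41392 F28121)
theorem F296001 : act 3 n8434 = n8519 := (sb E41392 (iv3 F28124))
theorem E42851 : n35392 = n8136 := (((F13243).symm.trans (sb E41392 D35392))).symm
theorem E42855 : n35159 = n35105 := (((D35105).symm.trans (sb E41394 (iv5 F55883)))).symm
theorem E42857 : n27640 = n20340 := (((D20340).symm.trans (sb E41395 (iv0 F44562)))).symm
theorem E42858 : n35551 = n20338 := ((((iv4 F32274)).symm.trans (sb E41395 D35551))).symm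
theorem F296002 : act 5 n9618 = n8076 := (sb E41395 (iv5 D17224))
theorem E42859 : n35393 = n20341 := (((D20341).symm.trans (sb E41395 (iv7 F56106)))).symm
theorem E42862 : n169748 = n75279 := (((D75279).symm.trans (sb E41397 D169748))).symm
theorem E42863 : n169751 = n36441 := ((((iv4 F57228)).symm.trans (sb E41399 D169751))).symm
theorem E42864 : n75262 = n38246 := ((((iv6 F59124)).symm.trans (sb E41399 F125195))).symm
theorem F296003 : act 1 n18462 = n20336 := (sb E41401 (iv0 D43103))
theorem E42865 : n38155 = n37801 := (((iv6 F59006)).symm.trans (sb E41401 F67479))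
theorem F296004 : act 0 n35234 = n20336 := (sb E41402 (iv1 D43104))
theorem E42866 : n92188 = n77185 := (((D77185).symm.trans (sb E41402 D92188))).symm
theorem E42867 : n160613 = n92178 := ((((iv3 F141774)).symm.trans (sb E41403 D160613))).symm
theorem E42868 : n160614 = n92182 := (((D92182).symm.trans (sb E41403 D160614))).symm
theorem E42869 : n92183 = n75273 := ((D92183).symm.trans (sb E41403 F115754))
theorem E42870 : n75274 = n35893 := ((D75274).symm.trans (sb E41404 F67482))
theorem F296005 : act 7 n34463 = n20336 := (sb E41404 (iv7 D43105))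
theorem E42876 : n122952 = n8839 := ((((iv5 F13740)).symm.trans (sb E41407 D122952))).symm
theorem E42878 : n57905 = n7794 := ((((iv1 D16706)).symm.trans (sb E41408 F91631))).symm
theorem E42880 : n78764 = n18867 := ((((iv7 F30109)).symm.trans (sb E41408 D78764))).symm
theorem E42883 : n158851 = n78453 := (((D78453).symm.trans (sb E41410 (iv6 F250106)))).symm
theorem E42884 : n158846 = n34465 := (((D34465).symm.trans (sb E41412 (iv4 F250102)))).symm
theorem E42885 : n34661 = n18278 := ((((iv6 F29476)).symm.trans (sb E41412 (iv6 D75794)))).symm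
theorem E42886 : n76992 = n18457 := (((iv6 F115729)).symm.trans (sb E41414 (iv6 D38838)))
theorem E42887 : n83460 = n75803 := (((D75803).symm.trans (sb E41415 (iv6 F128570)))).symm
theorem F296006 : act 2 n75215 = n43102 := (sb E41416 F112871)
theorem E42888 : n158034 = n157882 := (((D157882).symm.trans (sb E41416 (iv3 F248972)))).symm
theorem E42889 : n158037 = n157883 := (((D157883).symm.trans (sb E41416 D158037))).symm
theorem E42890 : n158038 = n77015 := (((F115752).symm.trans (sb E41416 D158038))).symm
theorem E42891 : n84247 = n78829 := ((D84247).symm.trans (sb E41417 (iv6 F119996)))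
theorem E42892 : n9005 = n6223 := ((D9005).symm.trans (sb E41418 F21801))
theorem E42893 : n18764 = n8291 := (((D8291).symm.trans (sb E41419 (iv5 F29999)))).symm
theorem E42894 : n8536 = n3635 := ((((iv6 F16981)).symm.trans (sb E41419 F21795))).symm
theorem E42895 : n27737 = n19047 := ((((iv1 F30560)).symm.trans (sb E41420 (iv1 F44757)))).symm
theorem E42896 : n8826 = n6259 := (((F21630).symm.trans (sb E41420 (iv0 F29712)))).symm
theorem E42897 : n26677 = n8222 := (((F21631).symm.trans (sb E41420 F42745))).symm
theorem E42898 : n27155 = n8800 := ((D27155).symm.trans (sb E41420 F29277))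
theorem E42899 : n27289 = n8920 := (((F13894).symm.trans (sb E41421 (iv1 F44140)))).symm
theorem E42901 : n8531 = n3630 := ((((iv7 F12816)).symm.trans (sb E41421 F29743))).symm
theorem E42902 : n171791 = n8620 := (((D8620).symm.trans (sb E41422 D171791))).symm
theorem E42903 : n38353 = n8621 := (((D8621).symm.trans (sb E41422 F126784))).symm
theorem E42904 : n38836 = n17247 := ((((iv4 F28199)).symm.trans (sb E41423 (iv4 F59855)))).symm
theorem E42905 : n35171 = n8677 := ((D35171).symm.trans (sb E41423 (iv6 D18458)))
theorem E42906 : n119521 = n36142 := ((((iv3 F56877)).symm.trans (sb E41424 (iv3 F191071)))).symm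
theorem E42907 : n38656 = n37809 := (((D37809).symm.trans (sb E41424 F126788))).symm
theorem E42908 : n8669 = n8666 := ((((iv1 F117226)).symm.trans (sb E41425 (iv1 D18432)))).symm
theorem E42909 : n37811 = n18265 := ((D37811).symm.trans (sb E41425 F29598))
theorem E42910 : n37812 = n18427 := ((D37812).symm.trans (sb E41425 F59574))
theorem F296007 : act 5 n8028 = n8529 := (sb E41427 (iv5 D18076))
theorem E42912 : n122924 = n8488 := (((D8488).symm.trans (sb E41428 D122924))).symm
theorem E42913 : n27419 = n8489 := (((D8489).symm.trans (sb E41428 (iv6 F90200)))).symm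
theorem E42917 : n172998 = n37472 := (((D37472).symm.trans (sb E41430 D172998))).symm
theorem E42918 : n38165 = n37474 := (((D37474).symm.trans (sb E41430 F127545))).symm
theorem E42919 : n37475 = n8641 := ((D37475).symm.trans (sb E41431 (iv1 F29437)))
theorem E42920 : n37476 = n8608 := ((D37476).symm.trans (sb E41431 (iv0 D18244)))
theorem E42921 : n38166 = n37477 := (((D37477).symm.trans (sb E41431 D38166))).symm
theorem E42922 : n37478 = n8639 := ((D37478).symm.trans (sb E41431 (iv7 F59557)))
theorem E42924 : n8498 = n6220 := ((((iv2 F29745)).symm.trans (sb E41435 F13467))).symm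
theorem E42925 : n8376 = n7480 := (((F29940).symm.trans (sb E41435 (iv4 F13318)))).symm
theorem E42926 : n17142 = n8532 := (((D8532).symm.trans (sb E41435 D17142))).symm
theorem E42927 : n34653 = n34501 := ((((iv1 F117875)).symm.trans (sb E41436 F117353))).symm
theorem E42928 : n37819 = n34650 := ((((iv0 F117874)).symm.trans (sb E41436 D37819))).symm
theorem E42929 : n37820 = n18306 := ((((iv5 F117883)).symm.trans (sb E41436 D37820))).symm
theorem E42931 : n27395 = n8504 := (((D8504).symm.trans (sb E41437 D27395))).symm
theorem E42932 : n27397 = n8506 := (((D8506).symm.trans (sb E41437 D27397))).symm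
theorem E42933 : n34616 = n34495 := (((iv1 F117257)).symm.trans (sb E41438 F58892))
theorem E42934 : n34500 = n34498 := ((((iv0 F117258)).symm.trans (sb E41438 (iv0 F59599)))).symm
theorem F296008 : act 1 n17084 = n8588 := (sb E41439 (iv0 D18206))
theorem E42936 : n38038 = n35189 := (((D35189).symm.trans (sb E41439 D38038))).symm
theorem E42937 : n38040 = n35190 := (((D35190).symm.trans (sb E41439 D38040))).symm
theorem E42938 : n38041 = n35191 := (((D35191).symm.trans (sb E41439 D38041))).symm
theorem F296009 : act 0 n8321 = n8588 := (sb E41440 (iv1 D18207))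
theorem E42939 : n38043 = n15291 := ((((iv3 F24876)).symm.trans (sb E41440 D38043))).symm
theorem E42940 : n38045 = n17665 := (((D17665).symm.trans (sb E41440 D38045))).symm
theorem E42941 : n38046 = n17666 := (((D17666).symm.trans (sb E41440 D38046))).symm
theorem E42942 : n80416 = n38029 := (((D38029).symm.trans (sb E41441 D80416))).symm
theorem E42943 : n80417 = n38030 := (((D38030).symm.trans (sb E41441 D80417))).symm
theorem E42944 : n80418 = n38024 := ((((iv2 F58856)).symm.trans (sb E41441 D80418))).symm
theorem E42945 : n78068 = n38031 := (((D38031).symm.trans (sb E41441 (iv5 F119263)))).symm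
theorem E42946 : n38032 = n35210 := ((D38032).symm.trans (sb E41441 F57514))
theorem E42947 : n38047 = n35608 := ((D38047).symm.trans (sb E41442 (iv1 F56293)))
theorem E42948 : n38048 = n17248 := ((D38048).symm.trans (sb E41442 (iv0 D35607)))
theorem E42950 : n35212 = n34546 := ((D35212).symm.trans (sb E41443 (iv6 F54798)))
theorem F296010 : act 7 n17091 = n8588 := (sb E41443 (iv7 D18209))
theorem E42952 : n27269 = n8567 := (((F27515).symm.trans (sb E41444 (iv0 F117820)))).symm
theorem F296011 : act 6 n16755 = n8548 := (sb E41444 (iv6 D18131))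
theorem E42960 : n77235 = n2576 := (((D2576).symm.trans (sb E41449 F121757))).symm
theorem E42963 : n55782 = n12898 := (((D12898).symm.trans (sb E41450 (iv4 F88223)))).symm
theorem F296012 : act 6 n6114 = n12880 := (sb E41450 (iv6 D26920))
theorem E42964 : n55785 = n3657 := (((F9497).symm.trans (sb E41450 D55785))).symm
theorem E42966 : n167074 = n36416 := ((((iv5 F57172)).symm.trans (sb E41457 (iv5 F263142)))).symm
theorem E42968 : n170239 = n36417 := (((D36417).symm.trans (sb E41458 (iv4 F267760)))).symm
theorem E42969 : n87045 = n36418 := (((D36418).symm.trans (sb E41458 F150447))).symm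
theorem E42970 : n157763 = n40214 := (((D40214).symm.trans (sb E41460 (iv4 F248650)))).symm
theorem E42971 : n44499 = n40041 := ((((iv6 F60916)).symm.trans (sb E41460 (iv6 D95258)))).symm
theorem E42972 : n157764 = n40215 := (((D40215).symm.trans (sb E41461 (iv4 F248652)))).symm
theorem E42973 : n180347 = n42869 := (((D42869).symm.trans (sb E41462 (iv3 F280661)))).symm
theorem F296013 : act 6 n20252 = n39870 := (sb E41462 (iv6 D86136))
theorem F296014 : act 3 n3855 = n3813 := (sb E41538 (iv3 D8542))
theorem E43026 : n18116 = n8268 := ((((iv6 F295654)).symm.trans (sb E41538 (iv6 F29279)))).symm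
theorem E43116 : n37042 = n3836 := (((D3836).symm.trans (sb E41598 (iv4 F117980)))).symm
theorem E43117 : n18139 = n3837 := (((D3837).symm.trans (sb E41598 F54741))).symm
theorem F296015 : act 0 n172953 = n98758 := (sb E41600 F273839)
theorem F296016 : act 5 n172953 = n83558 := (sb E41600 (iv5 D174949))
theorem F296017 : act 5 n158432 = n82761 := (sb E41601 (iv5 D172875))
theorem F296019 : act 6 n172876 = n83791 := (sb E41602 (iv6 D175469))
theorem E43133 : n39732 = n2628 := (((D2628).symm.trans (sb E41615 F117510))).symm
theorem E43136 : n171401 = n3866 := (((D3866).symm.trans (sb E41617 (iv1 F269147)))).symm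
theorem E43141 : n180733 = n3885 := ((((iv4 F5848)).symm.trans (sb E41620 (iv4 F281323)))).symm
theorem E43142 : n57457 = n3889 := (((D3889).symm.trans (sb E41620 (iv6 D123363)))).symm
theorem E43144 : n18008 = n7974 := ((((iv3 F12733)).symm.trans (sb E41622 (iv3 F118240)))).symm
theorem E43145 : n75387 = n16709 := (((D16709).symm.trans (sb E41622 D75387))).symm
theorem E43146 : n75389 = n16710 := (((D16710).symm.trans (sb E41622 D75389))).symm
theorem E43147 : n75392 = n3553 := (((D3553).symm.trans (sb E41623 D75392))).symm
theorem E43148 : n75394 = n3554 := (((D3554).symm.trans (sb E41623 D75394))).symm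
theorem E43149 : n75379 = n16740 := (((D16740).symm.trans (sb E41624 (iv3 F113140)))).symm
theorem E43150 : n75383 = n16741 := (((D16741).symm.trans (sb E41624 D75383))).symm
theorem F296020 : act 6 n7821 = n16738 := (sb E41624 (iv6 D34505))
theorem E43166 : n39627 = n3794 := (((D3794).symm.trans (sb E41632 (iv5 F60501)))).symm
theorem E43169 : n13122 = n2611 := (((D2611).symm.trans (sb E41635 F44281))).symm
theorem E43170 : n57529 = n2635 := (((F14055).symm.trans (sb E41636 (iv1 F90997)))).symm
theorem E43172 : n124108 = n13048 := (((D13048).symm.trans (sb E41636 (iv4 F198520)))).symm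
theorem E43173 : n27602 = n13049 := (((D13049).symm.trans (sb E41636 (iv6 D57830)))).symm
theorem E43174 : n18087 = n1596 := ((((iv3 D3629)).symm.trans (sb E41641 (iv3 D37727)))).symm
theorem E43180 : n56607 = n3734 := ((((iv5 F13421)).symm.trans (sb E41644 (iv5 F89530)))).symm
theorem F296021 : act 4 n172843 = n161537 := (sb E41646 F274718)
theorem F296022 : act 2 n172960 = n172865 := (sb E41647 (iv2 F274713))
theorem F296023 : act 4 n172960 = n158265 := (sb E41647 F274712)
theorem F296025 : act 2 n172961 = n172870 := (sb E41648 (iv2 F274717))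
theorem F296026 : act 4 n172961 = n158266 := (sb E41648 F274716)
theorem F296030 : act 4 n172877 = n83791 := (sb E41650 F274720)
theorem E43181 : n27185 = n1634 := ((((iv1 F4179)).symm.trans (sb E41651 (iv1 F89293)))).symm
theorem E43182 : n86841 = n6153 := ((((iv5 F13345)).symm.trans (sb E41651 (iv5 F133164)))).symm
theorem E43184 : n162038 = n18925 := (((F30210).symm.trans (sb E41652 F256086))).symm
theorem E43186 : n124111 = n13206 := (((F22000).symm.trans (sb E41652 (iv4 F198532)))).symm
theorem E43187 : n86839 = n27030 := (((D27030).symm.trans (sb E41652 F196778))).symm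
theorem E43190 : n57494 = n13205 := ((((iv4 F21993)).symm.trans (sb E41654 F196783))).symm
theorem E43191 : n57492 = n27225 := (((D27225).symm.trans (sb E41654 F196785))).symm
theorem E43192 : n27159 = n3631 := (((F12803).symm.trans (sb E41656 (iv3 F120744)))).symm
theorem E43193 : n55384 = n10655 := (((F17201).symm.trans (sb E41656 (iv4 F120956)))).symm
theorem E43194 : n57090 = n17138 := (((D17138).symm.trans (sb E41656 D57090))).symm
theorem E43195 : n55385 = n13057 := (((F27377).symm.trans (sb E41657 (iv4 F120968)))).symm
theorem E43196 : n57095 = n34433 := (((D34433).symm.trans (sb E41657 D57095))).symm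
theorem E43197 : n27286 = n8499 := ((((iv1 D18015)).symm.trans (sb E41658 F120633))).symm
theorem E43199 : n57084 = n21898 := ((((iv5 F34386)).symm.trans (sb E41658 D57084))).symm
theorem E43200 : n37743 = n10467 := (((F29188).symm.trans (sb E41658 (iv7 F120764)))).symm
theorem E43201 : n36631 = n10468 := (((D10468).symm.trans (sb E41659 (iv6 F121303)))).symm
theorem E43212 : n86157 = n57921 := ((((iv4 F91643)).symm.trans (sb E41666 (iv4 F132117)))).symm
theorem E43213 : n37131 = n3639 := ((((iv0 D8052)).symm.trans (sb E41667 F126034))).symm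
theorem E43214 : n17226 = n12968 := ((((iv5 F21567)).symm.trans (sb E41667 F43947))).symm
theorem E43216 : n75228 = n55357 := ((((iv4 F87617)).symm.trans (sb E41668 (iv4 F112776)))).symm
theorem E43235 : n82073 = n13141 := ((((iv4 F28143)).symm.trans (sb E41678 (iv4 D171290)))).symm
theorem E43236 : n125142 = n35422 := (((D35422).symm.trans (sb E41678 F269014))).symm
theorem E43239 : n27054 = n6154 := ((((iv5 F13342)).symm.trans (sb E41680 (iv5 D56117)))).symm
theorem E43244 : n82078 = n13140 := ((((iv4 F21922)).symm.trans (sb E41682 F126492))).symm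
theorem E43245 : n27051 = n27035 := (((D27035).symm.trans (sb E41682 (iv6 D56102)))).symm
theorem E43247 : n18034 = n13101 := ((((iv4 F28689)).symm.trans (sb E41684 (iv4 D37599)))).symm
theorem E43248 : n82051 = n36532 := (((D36532).symm.trans (sb E41684 D82051))).symm
theorem E43249 : n27160 = n3636 := (((F12849).symm.trans (sb E41685 F58467))).symm
theorem E43250 : n18035 = n13100 := ((((iv4 F21862)).symm.trans (sb E41685 (iv4 D37604)))).symm
theorem E43251 : n82067 = n17154 := (((D17154).symm.trans (sb E41685 D82067))).symm
theorem E43252 : n37522 = n17048 := ((((iv1 F27967)).symm.trans (sb E41686 F118258))).symm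
theorem E43253 : n37526 = n6061 := ((((iv0 D12810)).symm.trans (sb E41686 F118260))).symm
theorem E43254 : n86394 = n26773 := (((D26773).symm.trans (sb E41686 (iv3 F132441)))).symm
theorem E43255 : n86396 = n26774 := (((D26774).symm.trans (sb E41686 D86396))).symm
theorem F296031 : act 6 n12810 = n18914 := (sb E41686 (iv6 D40001))
theorem E43257 : n36607 = n13097 := (((D13097).symm.trans (sb E41687 (iv6 F118857)))).symm
theorem E43260 : n124580 = n18926 := (((D18926).symm.trans (sb E41690 F199255))).symm
theorem E43261 : n95253 = n18927 := (((D18927).symm.trans (sb E41690 (iv6 F146831)))).symm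
theorem E43262 : n95256 = n18928 := (((D18928).symm.trans (sb E41691 (iv4 F146845)))).symm
theorem E43263 : n21161 = n18929 := (((D18929).symm.trans (sb E41691 (iv6 D44500)))).symm
theorem E43264 : n179500 = n18931 := (((D18931).symm.trans (sb E41692 (iv3 F279457)))).symm
theorem E43266 : n39567 = n18932 := (((D18932).symm.trans (sb E41692 (iv6 D85640)))).symm
theorem E43267 : n44588 = n18933 := (((D18933).symm.trans (sb E41693 F131322))).symm
theorem E43268 : n44583 = n18934 := (((D18934).symm.trans (sb E41693 F131324))).symm
theorem E43273 : n36196 = n2110 := ((((iv4 F3437)).symm.trans (sb E41697 (iv4 F56914)))).symm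
theorem E43274 : n8226 = n3973 := (((D3973).symm.trans (sb E41697 (iv6 D17492)))).symm
theorem E43279 : n165491 = n11196 := ((((iv3 F18162)).symm.trans (sb E41702 (iv3 F260702)))).symm
theorem E43281 : n36188 = n18974 := (((D18974).symm.trans (sb E41702 (iv6 D79481)))).symm
theorem E43282 : n36185 = n18986 := (((D18986).symm.trans (sb E41703 D36185))).symm
theorem E43283 : n21157 = n18987 := (((D18987).symm.trans (sb E41703 F120798))).symm
theorem E43284 : n36189 = n17349 := ((((iv5 F28282)).symm.trans (sb E41703 D36189))).symm
theorem E43285 : n36075 = n18985 := ((((iv7 F30308)).symm.trans (sb E41703 (iv7 F118136)))).symm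
theorem E43287 : n45232 = n36680 := (((D36680).symm.trans (sb E41707 D45232))).symm
theorem E43289 : n45235 = n36681 := (((D36681).symm.trans (sb E41707 D45235))).symm
theorem E43290 : n79108 = n36682 := (((D36682).symm.trans (sb E41708 F150363))).symm
theorem E43291 : n122188 = n36683 := (((D36683).symm.trans (sb E41708 F195249))).symm
theorem E43292 : n95278 = n36413 := ((((iv5 F57166)).symm.trans (sb E41708 F146917))).symm
theorem E43294 : n36808 = n3386 := ((((iv4 F5385)).symm.trans (sb E41709 D36808))).symm
theorem E43295 : n36810 = n3627 := (((D3627).symm.trans (sb E41709 D36810))).symm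
theorem E43296 : n45237 = n15704 := ((((iv3 F25197)).symm.trans (sb E41710 D45237))).symm
theorem E43298 : n45239 = n17125 := (((D17125).symm.trans (sb E41710 D45239))).symm
theorem E43300 : n79107 = n17127 := (((D17127).symm.trans (sb E41711 F124049))).symm
theorem E43302 : n96507 = n37289 := (((D37289).symm.trans (sb E41712 D96507))).symm
theorem E43304 : n84527 = n37291 := (((D37291).symm.trans (sb E41712 (iv6 F129690)))).symm
theorem E43305 : n96511 = n36565 := ((((iv3 F57434)).symm.trans (sb E41713 D96511))).symm
theorem E43310 : n170075 = n17476 := (((F34562).symm.trans (sb E41714 (iv2 F267569)))).symm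
theorem F296032 : act 6 n22093 = n37264 := (sb E41714 (iv6 D81571))
theorem E43312 : n96827 = n17479 := (((F34560).symm.trans (sb E41714 (iv7 F149295)))).symm
theorem E43316 : n169832 = n45804 := (((D45804).symm.trans (sb E41715 (iv6 F267266)))).symm
theorem E43318 : n37373 = n18910 := (((D18910).symm.trans (sb E41716 F121466))).symm
theorem E43319 : n44888 = n18911 := (((D18911).symm.trans (sb E41717 (iv1 F70522)))).symm
theorem E43320 : n27131 = n8338 := (((F118838).symm.trans (sb E41717 (iv0 F121328)))).symm
theorem E43324 : n6195 = n6190 := (((D6190).symm.trans (sb E41724 (iv5 D13019)))).symm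
theorem E43329 : n33960 = n6151 := ((((iv1 F9569)).symm.trans (sb E41727 F125956))).symm
theorem E43330 : n121405 = n1599 := ((((iv0 D3640)).symm.trans (sb E41727 D121405))).symm
theorem E43331 : n83325 = n8058 := (((D8058).symm.trans (sb E41727 (iv4 F128426)))).symm
theorem E43332 : n27025 = n8060 := (((D8060).symm.trans (sb E41727 (iv6 D56021)))).symm
theorem E43339 : n122566 = n18946 := (((D18946).symm.trans (sb E41732 (iv4 F196263)))).symm
theorem E43341 : n123460 = n19488 := (((D19488).symm.trans (sb E41733 F266202))).symm
theorem E43342 : n121058 = n19489 := (((D19489).symm.trans (sb E41733 F266200))).symm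
theorem E43343 : n57903 = n3905 := ((((iv1 D8725)).symm.trans (sb E41734 (iv1 F198537)))).symm
theorem E43344 : n171760 = n13203 := ((((iv0 F21989)).symm.trans (sb E41734 (iv0 F269740)))).symm
theorem E43345 : n57134 = n4784 := ((((iv5 F13630)).symm.trans (sb E41734 (iv5 D122903)))).symm
theorem E43346 : n57239 = n18569 := (((D18569).symm.trans (sb E41734 (iv6 F196891)))).symm
theorem E43347 : n76800 = n35398 := (((D35398).symm.trans (sb E41735 (iv1 F115287)))).symm
theorem E43348 : n35399 = n26749 := ((D35399).symm.trans (sb E41735 (iv0 D55351)))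
theorem E43349 : n120278 = n35400 := (((D35400).symm.trans (sb E41735 D120278))).symm
theorem E43350 : n35401 = n27056 := ((D35401).symm.trans (sb E41735 F120833))
theorem E43353 : n55387 = n13050 := ((((iv1 F21758)).symm.trans (sb E41738 (iv1 F87667)))).symm
theorem E43354 : n13118 = n3804 := ((((iv0 D8507)).symm.trans (sb E41738 (iv0 D27384)))).symm
theorem E43355 : n57124 = n18029 := (((D18029).symm.trans (sb E41738 D57124))).symm
theorem E43357 : n57127 = n18030 := (((D18030).symm.trans (sb E41738 D57127))).symm
theorem E43358 : n77420 = n45849 := (((D45849).symm.trans (sb E41739 (iv1 F196473)))).symm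
theorem E43359 : n162033 = n36696 := ((((iv0 F114029)).symm.trans (sb E41739 (iv0 F256071)))).symm
theorem E43360 : n77875 = n45851 := (((D45851).symm.trans (sb E41739 F196472))).symm
theorem E43361 : n27179 = n8303 := (((D8303).symm.trans (sb E41740 D27179))).symm
theorem E43362 : n27181 = n8305 := (((D8305).symm.trans (sb E41740 D27181))).symm
theorem E43365 : n57132 = n18031 := (((D18031).symm.trans (sb E41741 D57132))).symm
theorem E43366 : n77418 = n36509 := (((D36509).symm.trans (sb E41742 (iv1 F133150)))).symm
theorem E43367 : n77143 = n36510 := (((D36510).symm.trans (sb E41742 F133149))).symm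
theorem E43370 : n120351 = n19343 := ((((iv5 F30984)).symm.trans (sb E41743 D120351))).symm
theorem E43371 : n120352 = n27252 := (((D27252).symm.trans (sb E41743 D120352))).symm
theorem E43372 : n33158 = n10643 := (((F21766).symm.trans (sb E41744 (iv3 F52380)))).symm
theorem E43374 : n37745 = n27245 := (((D27245).symm.trans (sb E41744 D37745))).symm
theorem E43376 : n120397 = n86392 := (((D86392).symm.trans (sb E41745 D120397))).symm
theorem E43379 : n120399 = n37539 := (((F60865).symm.trans (sb E41745 D120399))).symm
theorem E43385 : n37540 = n37416 := ((D37540).symm.trans (sb E41747 (iv6 F121347)))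
theorem E43386 : n36632 = n36609 := ((((iv1 F119025)).symm.trans (sb E41748 (iv1 F121339)))).symm
theorem E43387 : n36506 = n36501 := (((iv0 F119022)).symm.trans (sb E41748 (iv0 F121433)))
theorem E43393 : n77917 = n3936 := (((F6238).symm.trans (sb E41758 D77917))).symm
theorem E43399 : n56196 = n8622 := ((((iv4 F13536)).symm.trans (sb E41767 (iv4 F88879)))).symm
theorem E43400 : n17467 = n12972 := ((D17467).symm.trans (sb E41767 (iv6 D27082)))
theorem E43403 : n17829 = n17754 := (((D17754).symm.trans (sb E41769 D17829))).symm
theorem E43404 : n80074 = n16756 := (((D16756).symm.trans (sb E41770 (iv3 F122873)))).symm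
theorem E43407 : n17702 = n4765 := (((D4765).symm.trans (sb E41771 F121353))).symm
theorem E43411 : n36340 = n12884 := ((((iv5 F21393)).symm.trans (sb E41773 F57091))).symm
theorem E43413 : n36339 = n12865 := (((D12865).symm.trans (sb E41774 (iv5 F57085)))).symm
theorem E43415 : n17333 = n3708 := ((D17333).symm.trans (sb E41775 (iv1 D8239)))
theorem E43416 : n17458 = n17334 := (((D17334).symm.trans (sb E41775 F28455))).symm
theorem F296033 : act 2 n8116 = n12880 := (sb E41775 (iv2 F21383))
theorem E43417 : n17516 = n17332 := ((((iv4 F28271)).symm.trans (sb E41775 D17516))).symm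
theorem F296034 : act 5 n8116 = n8392 := (sb E41775 (iv5 F13427))
theorem E43418 : n17335 = n12882 := ((D17335).symm.trans (sb E41775 (iv7 F21389)))
theorem E43429 : n163909 = n41399 := (((D41399).symm.trans (sb E41785 (iv6 F258336)))).symm
theorem F296035 : act 1 n10833 = n17330 := (sb E41790 (iv0 D35760))
theorem E43435 : n78483 = n22946 := ((((iv3 F36001)).symm.trans (sb E41790 D78483))).symm
theorem E43436 : n78484 = n22947 := (((D22947).symm.trans (sb E41790 D78484))).symm
theorem E43437 : n78057 = n22948 := (((D22948).symm.trans (sb E41790 F119247))).symm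
theorem F296036 : act 0 n10837 = n17330 := (sb E41791 (iv1 D35761))
theorem E43439 : n78490 = n22954 := (((D22954).symm.trans (sb E41791 D78490))).symm
theorem E43442 : n78475 = n75303 := (((D75303).symm.trans (sb E41792 (iv3 F119676)))).symm
theorem F296037 : act 4 n34479 = n17330 := (sb E41792 F56438)
theorem E43443 : n78480 = n75291 := ((((iv5 F112885)).symm.trans (sb E41792 D78480))).symm
theorem F296038 : act 6 n34479 = n17329 := (sb E41792 (iv6 D35759))
theorem E43444 : n78481 = n38856 := (((F59877).symm.trans (sb E41792 D78481))).symm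
theorem E43445 : n55903 = n41398 := (((D41398).symm.trans (sb E41793 (iv6 F88446)))).symm
theorem F296039 : act 7 n19499 = n17330 := (sb E41793 (iv7 D35762))
theorem E43447 : n27086 = n8236 := (((F28507).symm.trans (sb E41796 F88883))).symm
theorem E43448 : n121673 = n36255 := (((D36255).symm.trans (sb E41796 (iv4 F194169)))).symm
theorem E43449 : n36113 = n27081 := (((iv6 F56858)).symm.trans (sb E41796 (iv6 D56200)))
theorem E43450 : n173850 = n41374 := (((D41374).symm.trans (sb E41797 (iv4 F272487)))).symm
theorem E43451 : n55866 = n41372 := ((((iv6 F63796)).symm.trans (sb E41797 (iv6 D121069)))).symm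
theorem E43452 : n92310 = n78743 := ((D92310).symm.trans (sb E41798 (iv1 F254933)))
theorem E43453 : n160877 = n92311 := (((D92311).symm.trans (sb E41798 (iv0 F254040)))).symm
theorem E43454 : n92312 = n77179 := ((D92312).symm.trans (sb E41798 (iv7 D160824)))
theorem E43457 : n77171 = n41378 := ((((iv6 F63812)).symm.trans (sb E41803 (iv6 D160813)))).symm
theorem E43463 : n77064 = n41391 := (((D41391).symm.trans (sb E41806 (iv1 F115798)))).symm
theorem E43464 : n55853 = n9166 := ((((iv5 D19495)).symm.trans (sb E41806 (iv5 F121376)))).symm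
theorem E43467 : n78124 = n41438 := ((((iv6 F63882)).symm.trans (sb E41810 (iv6 D162650)))).symm
theorem E43468 : n73840 = n41436 := (((D41436).symm.trans (sb E41811 (iv1 F121365)))).symm
theorem E43469 : n78106 = n41437 := (((D41437).symm.trans (sb E41811 F119296))).symm
theorem E43470 : n17251 = n9186 := ((((iv5 D19514)).symm.trans (sb E41811 (iv5 D35622)))).symm
theorem E43473 : n160793 = n89645 := (((D89645).symm.trans (sb E41814 F253945))).symm
theorem E43474 : n79709 = n56239 := (((iv0 F136125)).symm.trans (sb E41814 (iv0 D121706)))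
theorem E43475 : n89646 = n78109 := ((D89646).symm.trans (sb E41814 (iv7 F194244)))
theorem E43476 : n170740 = n38174 := ((((iv6 F59027)).symm.trans (sb E41815 (iv6 F268311)))).symm
theorem E43477 : n78563 = n55902 := ((F119750).symm.trans (sb E41820 (iv1 F193191)))
theorem E43478 : n90988 = n55901 := ((D90988).symm.trans (sb E41820 F193192))
theorem E43485 : n124589 = n40560 := ((((iv1 F61687)).symm.trans (sb E41832 F276827))).symm
theorem E43486 : n84526 = n77259 := (((F116022).symm.trans (sb E41832 (iv0 D177414)))).symm
theorem E43487 : n96706 = n40085 := ((((iv6 F60978)).symm.trans (sb E41833 F276831))).symm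
theorem E43488 : n87046 = n40083 := (((D40083).symm.trans (sb E41834 (iv1 F133631)))).symm
theorem E43489 : n36240 = n17316 := (((F118085).symm.trans (sb E41834 (iv0 D79576)))).symm
theorem E43491 : n78776 = n77262 := (((D77262).symm.trans (sb E41835 (iv4 F194032)))).symm
theorem E43492 : n96323 = n40092 := ((((iv6 F60988)).symm.trans (sb E41835 F194029))).symm
theorem E43493 : n157766 = n77263 := (((D77263).symm.trans (sb E41836 (iv1 F280637)))).symm
theorem E43494 : n96325 = n40115 := ((((iv6 F61005)).symm.trans (sb E41836 F280635))).symm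
theorem E43495 : n96317 = n17567 := ((((iv1 F118847)).symm.trans (sb E41837 (iv1 F148197)))).symm
theorem E43496 : n96316 = n40114 := (((D40114).symm.trans (sb E41837 F148191))).symm
theorem E43498 : n79543 = n56270 := ((((iv0 F119056)).symm.trans (sb E41839 (iv0 F260740)))).symm
theorem E43500 : n96672 = n78550 := (((D78550).symm.trans (sb E41840 F248655))).symm
theorem E43501 : n164062 = n78545 := (((D78545).symm.trans (sb E41841 D164062))).symm
theorem E43503 : n164064 = n78547 := (((D78547).symm.trans (sb E41841 D164064))).symm
theorem F296040 : act 6 n91673 = n87059 := (sb E41842 (iv6 D182331))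
theorem E43505 : n79626 = n78540 := (((D78540).symm.trans (sb E41845 (iv1 F261184)))).symm
theorem E43515 : n27593 = n13289 := ((((iv0 F116722)).symm.trans (sb E41874 F121002))).symm
theorem E43517 : n56082 = n12958 := (((F21553).symm.trans (sb E41876 F118420))).symm
theorem E43518 : n18314 = n17737 := (((D17737).symm.trans (sb E41876 (iv6 D38391)))).symm
theorem E43521 : n181187 = n17886 := (((D17886).symm.trans (sb E41878 (iv3 F282218)))).symm
theorem E43522 : n40099 = n17888 := (((D17888).symm.trans (sb E41878 (iv6 D86527)))).symm
theorem E43523 : n40310 = n17889 := (((D17889).symm.trans (sb E41879 F120684))).symm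
theorem E43536 : n121664 = n3872 := (((D3872).symm.trans (sb E41887 F268317))).symm
theorem E43537 : n83130 = n3874 := (((D3874).symm.trans (sb E41887 F268319))).symm
theorem E43542 : n84060 = n3884 := (((D3884).symm.trans (sb E41889 (iv6 F256883)))).symm
theorem E43543 : n18418 = n3886 := (((D3886).symm.trans (sb E41890 (iv1 D38726)))).symm
theorem E43544 : n38715 = n3887 := (((D3887).symm.trans (sb E41890 F59513))).symm
theorem E43546 : n3805 = n2624 := (((D2624).symm.trans (sb E41893 (iv5 D8513)))).symm
theorem E43547 : n18580 = n2633 := ((((iv5 F4224)).symm.trans (sb E41894 (iv5 F58411)))).symm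
theorem E43552 : n18844 = n2630 := ((((iv1 F9703)).symm.trans (sb E41896 F124307))).symm
theorem E43553 : n82151 = n13086 := (((D13086).symm.trans (sb E41896 D82151))).symm
theorem E43554 : n18563 = n13087 := (((D13087).symm.trans (sb E41896 F58500))).symm
theorem E43560 : n76997 = n18123 := (((D18123).symm.trans (sb E41901 (iv6 D160600)))).symm
theorem E43561 : n76993 = n18124 := (((D18124).symm.trans (sb E41902 (iv1 F115735)))).symm
theorem E43562 : n18240 = n18125 := (((D18125).symm.trans (sb E41902 (iv0 D38153)))).symm
theorem E43563 : n82920 = n18126 := (((D18126).symm.trans (sb E41902 D82920))).symm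
theorem E43570 : n45253 = n13013 := ((((iv4 F21652)).symm.trans (sb E41909 D45253))).symm
theorem E43571 : n45255 = n18183 := (((D18183).symm.trans (sb E41909 D45255))).symm
theorem E43572 : n56414 = n13014 := (((F21658).symm.trans (sb E41910 F118199))).symm
theorem E43573 : n75746 = n17908 := (((D17908).symm.trans (sb E41910 (iv6 F120391)))).symm
theorem E43574 : n27174 = n8308 := ((((iv1 F13483)).symm.trans (sb E41911 F118029))).symm
theorem E43575 : n77364 = n18184 := (((D18184).symm.trans (sb E41911 (iv3 F116177)))).symm
theorem F296041 : act 6 n8576 = n17145 := (sb E41911 (iv6 D35320))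
theorem E43577 : n77368 = n16748 := ((((iv7 F27498)).symm.trans (sb E41911 D77368))).symm
theorem E43578 : n75457 = n16749 := (((D16749).symm.trans (sb E41912 (iv6 F113241)))).symm
theorem E43579 : n17768 = n2554 := ((((iv4 F4062)).symm.trans (sb E41913 (iv4 F120943)))).symm
theorem E43581 : n80786 = n12790 := ((((iv3 F21226)).symm.trans (sb E41914 (iv3 F124274)))).symm
theorem E43583 : n160702 = n16773 := (((D16773).symm.trans (sb E41914 D160702))).symm
theorem E43584 : n75366 = n16785 := (((D16785).symm.trans (sb E41915 F128164))).symm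
theorem E43585 : n173839 = n16786 := (((D16786).symm.trans (sb E41915 F272443))).symm
theorem E43586 : n38270 = n16787 := (((D16787).symm.trans (sb E41915 (iv5 D83137)))).symm
theorem E43588 : n18009 = n2558 := (((F9416).symm.trans (sb E41916 F117457))).symm
theorem E43589 : n18045 = n12803 := (((D12803).symm.trans (sb E41916 D18045))).symm
theorem E43590 : n18047 = n12804 := (((D12804).symm.trans (sb E41916 D18047))).symm
theorem E43591 : n82117 = n16731 := (((D16731).symm.trans (sb E41917 D82117))).symm
theorem E43593 : n82119 = n16733 := (((D16733).symm.trans (sb E41917 D82119))).symm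
theorem E43594 : n75700 = n16734 := (((D16734).symm.trans (sb E41918 (iv1 F129021)))).symm
theorem E43595 : n75365 = n16735 := (((D16735).symm.trans (sb E41918 (iv0 F129022)))).symm
theorem E43599 : n122168 = n18157 := (((D18157).symm.trans (sb E41919 D122168))).symm
theorem E43600 : n37043 = n18152 := (((D18152).symm.trans (sb E41920 D37043))).symm
theorem E43602 : n37045 = n18154 := (((D18154).symm.trans (sb E41920 D37045))).symm
theorem E43609 : n121665 = n18161 := (((F29333).symm.trans (sb E41922 (iv0 F194153)))).symm
theorem E43613 : n36726 = n16752 := (((D16752).symm.trans (sb E41923 F118216))).symm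
theorem E43614 : n18138 = n13064 := ((((iv1 F117761)).symm.trans (sb E41924 (iv1 F58666)))).symm
theorem E43615 : n18137 = n16754 := (((D16754).symm.trans (sb E41924 F58667))).symm
theorem E43658 : n56609 = n3733 := (((D3733).symm.trans (sb E41983 (iv5 F89538)))).symm
theorem E43659 : n17846 = n2604 := (((D2604).symm.trans (sb E41984 D17846))).symm
theorem E43661 : n81142 = n3638 := ((((iv1 F9573)).symm.trans (sb E41986 D81142))).symm
theorem E43662 : n81143 = n2591 := ((((iv0 D6153)).symm.trans (sb E41986 D81143))).symm
theorem E43663 : n61802 = n12952 := (((D12952).symm.trans (sb E41986 (iv4 F96370)))).symm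
theorem E43666 : n13238 = n13009 := (((D13009).symm.trans (sb E41995 (iv5 F22040)))).symm
theorem E43668 : n57521 = n13044 := (((D13044).symm.trans (sb E41996 (iv4 F90674)))).symm
theorem E43669 : n13155 = n13045 := (((D13045).symm.trans (sb E41996 (iv6 D27505)))).symm
theorem E43747 : n82195 = n17059 := ((((iv5 F27991)).symm.trans (sb E42066 D82195))).symm
theorem E43748 : n84366 = n36242 := ((((iv0 F56954)).symm.trans (sb E42067 (iv0 F149390)))).symm
theorem E43749 : n170236 = n42930 := (((D42930).symm.trans (sb E42067 (iv6 F267756)))).symm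
theorem F296042 : act 1 n17880 = n17172 := (sb E42068 F30567)
theorem F296043 : act 2 n17880 = n17044 := (sb E42068 F30561)
theorem F296044 : act 3 n17880 = n8922 := (sb E42068 F30562)
theorem E43750 : n36482 = n34800 := ((((iv5 F55002)).symm.trans (sb E42068 (iv5 F57293)))).symm
theorem F296045 : act 7 n17880 = n17221 := (sb E42068 F30564)
theorem E43751 : n159238 = n35807 := ((((iv4 F56468)).symm.trans (sb E42069 (iv4 F250728)))).symm
theorem E43752 : n40299 = n34798 := (((iv6 F61346)).symm.trans (sb E42069 (iv6 D76182)))
theorem F296046 : act 1 n19055 = n34423 := (sb E42071 (iv0 D75168))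
theorem E43753 : n78810 = n13197 := (((F30582).symm.trans (sb E42071 (iv3 F126149)))).symm
theorem E43754 : n45154 = n40309 := ((((iv6 F61365)).symm.trans (sb E42071 F112715))).symm
theorem F296047 : act 0 n19836 = n34423 := (sb E42072 (iv1 F126096))
theorem E43755 : n35317 = n17372 := (((iv3 F56034)).symm.trans (sb E42072 (iv3 D35881)))
theorem E43756 : n78821 = n42064 := (((D42064).symm.trans (sb E42072 D78821))).symm
theorem F296048 : act 2 n75167 = n77264 := (sb E42073 (iv2 F133000))
theorem E43757 : n181692 = n157761 := ((((iv3 F248647)).symm.trans (sb E42073 D181692))).symm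
theorem E43758 : n157765 = n97371 := ((D157765).symm.trans (sb E42073 F294095))
theorem E43759 : n87077 = n78867 := ((D87077).symm.trans (sb E42074 F120023))
theorem F296049 : act 7 n40460 = n34423 := (sb E42074 (iv7 D75170))
theorem E43760 : n124232 = n39878 := ((((iv4 F60676)).symm.trans (sb E42076 (iv4 F198725)))).symm
theorem F296050 : act 6 n35547 = n55345 := (sb E42076 (iv6 D120264))
theorem E43761 : n27070 = n8077 := (((D8077).symm.trans (sb E42077 F43954))).symm
theorem E43763 : n120290 = n34445 := (((F54647).symm.trans (sb E42078 (iv4 F191547)))).symm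
theorem F296051 : act 6 n17220 = n27068 := (sb E42078 (iv6 D56157))
theorem E43764 : n121589 = n27065 := ((((iv7 F43722)).symm.trans (sb E42078 D121589))).symm
theorem E43765 : n158086 = n55787 := (((D55787).symm.trans (sb E42081 (iv6 F249038)))).symm
theorem E43766 : n157772 = n78868 := ((((iv1 F120029)).symm.trans (sb E42082 (iv1 F283913)))).symm
theorem E43767 : n157771 = n55962 := ((((iv0 F117091)).symm.trans (sb E42082 F283914))).symm
theorem E43768 : n36306 = n21162 := ((((iv6 F33398)).symm.trans (sb E42083 (iv6 D79718)))).symm
theorem E43769 : n17318 = n8233 := (((F28484).symm.trans (sb E42084 F56411))).symm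
theorem E43771 : n163420 = n95283 := (((D95283).symm.trans (sb E42086 F257702))).symm
theorem E43772 : n121251 = n95284 := (((D95284).symm.trans (sb E42086 (iv0 F257390)))).symm
theorem E43773 : n163924 = n95285 := (((D95285).symm.trans (sb E42086 F258358))).symm
theorem E43775 : n55889 = n17513 := (((D17513).symm.trans (sb E42088 (iv4 F88413)))).symm
theorem E43776 : n17514 = n17346 := ((D17514).symm.trans (sb E42088 F43502))
theorem E43777 : n79624 = n78562 := ((D79624).symm.trans (sb E42091 F140966))
theorem F296052 : act 6 n35791 = n17512 := (sb E42092 (iv6 D36261))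
theorem E43780 : n164047 = n55356 := ((((iv4 F87612)).symm.trans (sb E42094 (iv4 F258511)))).symm
theorem E43781 : n186086 = n77939 := (((D77939).symm.trans (sb E42094 (iv6 F288760)))).symm
theorem E43785 : n178058 = n27648 := (((F55976).symm.trans (sb E42096 F277606))).symm
theorem E43796 : n84698 = n56936 := ((((iv6 F90006)).symm.trans (sb E42103 (iv6 D177918)))).symm
theorem E43798 : n124449 = n55346 := ((((iv4 F87594)).symm.trans (sb E42104 F255366))).symm
theorem E43800 : n171063 = n27647 := ((((iv4 F44571)).symm.trans (sb E42105 (iv4 F268787)))).symm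
theorem E43805 : n157895 = n55944 := ((((iv4 F88527)).symm.trans (sb E42107 (iv4 F255484)))).symm
theorem E43806 : n36338 = n27114 := (((D27114).symm.trans (sb E42110 (iv4 F57082)))).symm
theorem E43807 : n26885 = n8245 := (((iv6 F43361)).symm.trans (sb E42110 (iv6 D17546)))
theorem E43808 : n166094 = n44987 := (((D44987).symm.trans (sb E42111 (iv3 F261505)))).symm
theorem E43810 : n44980 = n36315 := (((iv6 F70714)).symm.trans (sb E42111 (iv6 D79742)))
theorem E43811 : n44978 = n36313 := (((D36313).symm.trans (sb E42112 D44978))).symm
theorem E43812 : n44979 = n36314 := (((D36314).symm.trans (sb E42112 D44979))).symm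
theorem F296053 : act 6 n17534 = n10252 := (sb E42112 F33750)
theorem E43814 : n78387 = n75180 := (((D75180).symm.trans (sb E42113 (iv6 D163014)))).symm
theorem F296054 : act 5 n35727 = n19113 := (sb E42114 (iv5 D40444))
theorem F296055 : act 6 n35727 = n19114 := (sb E42114 F61532)
theorem E43815 : n84522 = n37317 := (((F60836).symm.trans (sb E42115 (iv6 D177405)))).symm
theorem E43816 : n166560 = n84515 := ((((iv6 F129665)).symm.trans (sb E42116 (iv6 F262084)))).symm
theorem F296056 : act 1 n78753 = n44985 := (sb E42117 (iv0 D96339))
theorem E43818 : n177467 = n163926 := (((D163926).symm.trans (sb E42117 (iv4 F276880)))).symm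
theorem F296058 : act 6 n96340 = n163491 := (sb E42118 F262126)
theorem E43819 : n79707 = n78317 := ((F129589).symm.trans (sb E42119 F140975))
theorem E43820 : n96337 = n79863 := ((D96337).symm.trans (sb E42119 (iv0 F140976)))
theorem E43821 : n96338 = n79870 := ((D96338).symm.trans (sb E42119 F140974))
theorem E43823 : n169923 = n166629 := ((((iv4 F262229)).symm.trans (sb E42120 (iv4 F267345)))).symm
theorem E43824 : n95279 = n36425 := ((((iv6 D79973)).symm.trans (sb E42120 F148276))).symm
theorem E43825 : n55764 = n36426 := ((F120831).symm.trans (sb E42121 F122682))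
theorem F296060 : act 2 n44509 = n36424 := (sb E42121 F124476)
theorem E43829 : n83283 = n77042 := (((D77042).symm.trans (sb E42128 (iv1 D174229)))).symm
theorem E43830 : n157998 = n77040 := ((((iv6 F115766)).symm.trans (sb E42128 (iv6 F273025)))).symm
theorem F296061 : act 3 n35186 = n36424 := (sb E42129 (iv3 D79968))
theorem E43832 : n78319 = n17082 := ((((iv5 D35186)).symm.trans (sb E42129 F122754))).symm
theorem E43833 : n55840 = n45903 := ((F121290).symm.trans (sb E42129 F124475))
theorem E43835 : n166623 = n84363 := ((D166623).symm.trans (sb E42131 (iv1 F129458)))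
theorem E43836 : n122596 = n84365 := (((iv0 F196362)).symm.trans (sb E42131 (iv0 F129457)))
theorem E43837 : n169914 = n166624 := (((D166624).symm.trans (sb E42131 (iv3 F267337)))).symm
theorem E43838 : n169916 = n166625 := (((D166625).symm.trans (sb E42131 D169916))).symm
theorem F296062 : act 6 n79969 = n37216 := (sb E42131 (iv6 D81505))
theorem E43839 : n166561 = n84514 := (((iv7 F262088)).symm.trans (sb E42131 (iv7 F129666)))
theorem E43840 : n166559 = n38994 := (((iv4 F262079)).symm.trans (sb E42132 (iv4 D84532)))
theorem E43842 : n36927 = n8260 := (((F28580).symm.trans (sb E42133 F124542))).symm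
theorem E43843 : n38995 = n36423 := ((((iv4 F57191)).symm.trans (sb E42133 F124545))).symm
theorem E43845 : n38935 = n17301 := (((iv0 F121262)).symm.trans (sb E42134 (iv0 D35699)))
theorem E43846 : n78320 = n44486 := ((((iv4 F70003)).symm.trans (sb E42134 D78320))).symm
theorem F296063 : act 5 n21159 = n36424 := (sb E42134 (iv5 F119535))
theorem E43847 : n44490 = n40208 := ((D44490).symm.trans (sb E42134 (iv7 F124472)))
theorem E43858 : n57435 = n16704 := (((F29163).symm.trans (sb E42145 (iv0 F126774)))).symm
theorem E43859 : n169778 = n37505 := (((D37505).symm.trans (sb E42145 D169778))).symm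
theorem E43860 : n169779 = n37506 := (((D37506).symm.trans (sb E42145 D169779))).symm
theorem E43861 : n86883 = n21556 := ((((iv6 F33919)).symm.trans (sb E42147 F276820))).symm
theorem E43863 : n57340 = n21565 := ((((iv6 F33940)).symm.trans (sb E42148 (iv6 D123194)))).symm
theorem E43867 : n171326 = n3615 := ((((iv1 F5652)).symm.trans (sb E42151 F269049))).symm
theorem E43868 : n123367 = n1699 := (((F5556).symm.trans (sb E42151 (iv0 F254786)))).symm
theorem E43869 : n164812 = n7782 := (((D7782).symm.trans (sb E42151 (iv4 F259864)))).symm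
theorem E43872 : n79963 = n18505 := ((((iv6 F29684)).symm.trans (sb E42154 (iv6 F262215)))).symm
theorem E43873 : n122597 = n18503 := (((D18503).symm.trans (sb E42155 (iv1 F196369)))).symm
theorem E43874 : n37294 = n18504 := (((D18504).symm.trans (sb E42155 (iv0 D81608)))).symm
theorem E43876 : n162102 = n35343 := ((((iv4 F56061)).symm.trans (sb E42157 F265595))).symm
theorem E43880 : n121596 = n34477 := (((D34477).symm.trans (sb E42162 (iv4 F194053)))).symm
theorem E43881 : n80621 = n18316 := ((((iv6 F29516)).symm.trans (sb E42162 F192849))).symm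
theorem E43885 : n78782 = n34436 := (((D34436).symm.trans (sb E42165 D78782))).symm
theorem E43886 : n56901 = n18565 := ((((iv6 F29804)).symm.trans (sb E42165 F89943))).symm
theorem E43887 : n86027 = n58117 := (((D58117).symm.trans (sb E42167 F196400))).symm
theorem E43888 : n122610 = n37386 := ((((iv0 F58307)).symm.trans (sb E42167 (iv0 F196414)))).symm
theorem E43889 : n58119 = n57879 := ((D58119).symm.trans (sb E42167 F148912))
theorem E43891 : n167903 = n96180 := ((((iv6 F147882)).symm.trans (sb E42169 (iv6 F264549)))).symm
theorem E43892 : n78808 = n12911 := (((D12911).symm.trans (sb E42170 (iv5 F124434)))).symm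
theorem E43895 : n79678 = n12912 := (((D12912).symm.trans (sb E42172 F255407))).symm
theorem E43896 : n77950 = n12913 := (((D12913).symm.trans (sb E42172 F255409))).symm
theorem E43907 : n39154 = n6275 := ((((iv3 F9762)).symm.trans (sb E42180 F129951))).symm
theorem E43908 : n178001 = n6314 := (((D6314).symm.trans (sb E42180 (iv4 F277543)))).symm
theorem E43912 : n83135 = n7859 := ((((iv6 F12402)).symm.trans (sb E42181 (iv6 D173841)))).symm
theorem E43914 : n120914 = n8007 := (((F22123).symm.trans (sb E42182 F260815))).symm
theorem E43917 : n174357 = n17240 := (((F28512).symm.trans (sb E42186 (iv4 F273181)))).symm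
theorem E43919 : n123461 = n37211 := (((D37211).symm.trans (sb E42187 F197848))).symm
theorem E43920 : n124590 = n27905 := (((F116795).symm.trans (sb E42187 F199279))).symm
theorem E43921 : n166078 = n37213 := (((D37213).symm.trans (sb E42187 (iv4 F261486)))).symm
theorem F296064 : act 0 n38993 = n20248 := (sb E42188 F60833)
theorem F296065 : act 1 n38993 = n19833 := (sb E42188 F60834)
theorem F296066 : act 3 n38993 = n18905 := (sb E42188 F60830)
theorem F296067 : act 5 n38993 = n18904 := (sb E42188 (iv5 D39974))
theorem F296068 : act 7 n38993 = n21550 := (sb E42188 F60832)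
theorem E43923 : n57342 = n37316 := (((D37316).symm.trans (sb E42189 (iv0 F121035)))).symm
theorem E43924 : n57339 = n37318 := (((D37318).symm.trans (sb E42189 (iv7 F121015)))).symm
theorem E43925 : n79717 = n44503 := ((((iv6 F70009)).symm.trans (sb E42190 (iv6 D166042)))).symm
theorem E43926 : n163022 = n79574 := (((D79574).symm.trans (sb E42191 (iv3 F257379)))).symm
theorem E43928 : n79575 = n35728 := ((D79575).symm.trans (sb E42191 (iv6 D78393)))
theorem E43930 : n17373 = n17233 := (((D17233).symm.trans (sb E42193 F29051))).symm
theorem F296069 : act 7 n8081 = n8434 := (sb E42193 (iv7 D17881))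
theorem E43933 : n55950 = n34440 := (((D34440).symm.trans (sb E42195 (iv6 F88537)))).symm
theorem E43938 : n76824 = n13211 := ((((iv6 F22010)).symm.trans (sb E42197 F125217))).symm
theorem E43942 : n57233 = n27255 := ((((iv6 F44102)).symm.trans (sb E42201 (iv6 D123012)))).symm
theorem E43943 : n27736 = n27064 := ((((iv3 F43718)).symm.trans (sb E42202 F120667))).symm
theorem E43944 : n123468 = n27232 := (((D27232).symm.trans (sb E42202 (iv4 F197873)))).symm
theorem E43945 : n27504 = n27230 := ((((iv6 F44041)).symm.trans (sb E42202 (iv6 D57526)))).symm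
theorem E43946 : n162093 = n35311 := (((F60814).symm.trans (sb E42203 F256193))).symm
theorem E43947 : n76881 = n57965 := ((((iv6 F91710)).symm.trans (sb E42203 (iv6 D160380)))).symm
theorem E43948 : n76826 = n39170 := (((F60159).symm.trans (sb E42204 F115363))).symm
theorem E43949 : n37636 = n17055 := (((iv0 F58491)).symm.trans (sb E42204 (iv0 D35131)))
theorem E43950 : n57424 = n13204 := ((((iv5 D27655)).symm.trans (sb E42204 F91114))).symm
theorem E43951 : n57966 = n57892 := ((D57966).symm.trans (sb E42204 (iv7 F124405)))
theorem E43953 : n84367 = n79966 := ((D84367).symm.trans (sb E42212 F253325))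
theorem E43954 : n84368 = n79938 := ((D84368).symm.trans (sb E42212 (iv0 F253326)))
theorem E43955 : n84371 = n79964 := ((D84371).symm.trans (sb E42212 F253324))
theorem E43956 : n84364 = n37295 := ((D84364).symm.trans (sb E42213 F125521))
theorem E43957 : n96651 = n27721 := (((F59940).symm.trans (sb E42213 (iv6 F148935)))).symm
theorem E43958 : n77893 = n36244 := ((F119109).symm.trans (sb E42214 F89966))
theorem E43959 : n27316 = n21590 := ((((iv5 F59942)).symm.trans (sb E42214 (iv5 D56913)))).symm
theorem E43960 : n84497 = n18478 := (((D18478).symm.trans (sb E42215 (iv1 F197472)))).symm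
theorem E43961 : n57338 = n18479 := (((D18479).symm.trans (sb E42215 (iv0 D123192)))).symm
theorem E43962 : n162850 = n18477 := ((((iv4 F29658)).symm.trans (sb E42215 (iv4 F257122)))).symm
theorem F296070 : act 0 n17879 = n17172 := (sb E42218 F43537)
theorem F296071 : act 2 n17879 = n17221 := (sb E42218 F43533)
theorem E43967 : n37179 = n27644 := ((D37179).symm.trans (sb E42218 (iv5 F44567)))
theorem E43968 : n37180 = n13198 := ((D37180).symm.trans (sb E42218 F43535))
theorem F296072 : act 7 n17879 = n17044 := (sb E42218 F43536)
theorem E43970 : n81273 = n18469 := ((((iv5 F29652)).symm.trans (sb E42219 D81273))).symm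
theorem E43973 : n79792 = n36058 := ((((iv4 F56796)).symm.trans (sb E42220 (iv4 F122499)))).symm
theorem E43974 : n77362 = n76965 := ((D77362).symm.trans (sb E42220 (iv6 F115681)))
theorem E43976 : n40558 = n27716 := (((iv6 F61685)).symm.trans (sb E42225 (iv6 D58158)))
theorem E43978 : n125388 = n91670 := (((D91670).symm.trans (sb E42227 (iv1 F253564)))).symm
theorem E43979 : n170235 = n91671 := (((D91671).symm.trans (sb E42227 (iv0 F267753)))).symm
theorem E43980 : n91672 = n76961 := ((D91672).symm.trans (sb E42227 (iv7 D160511)))
theorem E43987 : n171059 = n26747 := (((D26747).symm.trans (sb E42230 (iv4 F268779)))).symm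
theorem E43992 : n96705 = n57341 := ((((iv6 F90523)).symm.trans (sb E42233 F276840))).symm
theorem E43993 : n26748 = n17371 := ((((iv2 F44685)).symm.trans (sb E42236 F54702))).symm
theorem F296073 : act 3 n20339 = n19409 := (sb E42236 F54703)
theorem E43994 : n36263 = n35767 := ((((iv4 F92675)).symm.trans (sb E42236 (iv4 F57011)))).symm
theorem E43995 : n57444 = n13304 := (((F32275).symm.trans (sb E42236 (iv6 F90627)))).symm
theorem E43996 : n163366 = n88378 := (((D88378).symm.trans (sb E42237 (iv3 F257659)))).symm
theorem E43997 : n88379 = n58675 := ((D88379).symm.trans (sb E42237 F141839))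
theorem E43998 : n83341 = n58673 := (((D58673).symm.trans (sb E42238 F132775))).symm
theorem E43999 : n58183 = n37401 := ((((iv0 F126044)).symm.trans (sb E42238 (iv0 F121491)))).symm
theorem F296074 : act 6 n27899 = n19409 := (sb E42238 (iv6 D41262))
theorem E44001 : n43116 = n13200 := (((F27988).symm.trans (sb E42239 (iv2 F124438)))).symm
theorem E44003 : n84783 = n35137 := (((D35137).symm.trans (sb E42239 (iv6 F129994)))).symm
theorem E44004 : n84511 = n84493 := (((F129620).symm.trans (sb E42241 (iv1 F199296)))).symm
theorem E44005 : n88393 = n58181 := ((D88393).symm.trans (sb E42241 (iv0 D124604)))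
theorem E44006 : n88394 = n81481 := ((D88394).symm.trans (sb E42241 F199297))
theorem F296075 : act 6 n161005 = n86128 := (sb E42242 (iv6 D180332))
theorem E44007 : n157783 = n157770 := (((D157770).symm.trans (sb E42244 F258539))).symm
theorem F296076 : act 7 n75172 = n34426 := (sb E42245 (iv7 D75178))
theorem E44008 : n120945 = n7795 := (((D7795).symm.trans (sb E42246 F198677))).symm
theorem E44013 : n165857 = n13246 := ((((iv6 F22046)).symm.trans (sb E42247 D165857))).symm
theorem E44014 : n86050 = n13244 := (((D13244).symm.trans (sb E42248 F244332))).symm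
theorem E44015 : n172197 = n13245 := (((D13245).symm.trans (sb E42248 (iv0 F270376)))).symm
theorem E44016 : n56409 = n2638 := ((((iv5 D6290)).symm.trans (sb E42248 (iv5 D121963)))).symm
theorem E44018 : n80588 = n58187 := (((D58187).symm.trans (sb E42249 (iv0 D167905)))).symm
theorem E44020 : n181679 = n58179 := (((D58179).symm.trans (sb E42250 (iv4 F282787)))).symm
theorem E44021 : n120512 = n37387 := ((((iv5 F116846)).symm.trans (sb E42250 (iv5 F198638)))).symm
theorem E44022 : n170617 = n58184 := (((D58184).symm.trans (sb E42251 D170617))).symm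
theorem E44023 : n37394 = n37257 := ((((iv5 F58205)).symm.trans (sb E42251 (iv5 D81784)))).symm
theorem E44024 : n58185 = n57333 := ((D58185).symm.trans (sb E42251 F125716))
theorem E44025 : n86365 = n13229 := ((((iv4 F22034)).symm.trans (sb E42252 F132364))).symm
theorem E44027 : n78788 = n18869 := (((D18869).symm.trans (sb E42254 D78788))).symm
theorem E44028 : n160356 = n58023 := (((F91789).symm.trans (sb E42256 F253282))).symm
theorem E44029 : n81899 = n57547 := ((D81899).symm.trans (sb E42256 (iv0 D123481)))
theorem E44030 : n81900 = n57890 := ((D81900).symm.trans (sb E42256 F197895))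
theorem F296077 : act 6 n86716 = n44505 := (sb E42257 F146780)
theorem E44031 : n170604 = n167904 := ((((iv7 F264553)).symm.trans (sb E42257 (iv7 F268045)))).symm
theorem E44033 : n162903 = n78869 := (((D78869).symm.trans (sb E42258 (iv4 F257218)))).symm
theorem E44035 : n78875 = n55948 := (((iv3 F120047)).symm.trans (sb E42259 (iv3 D121279)))
theorem E44036 : n163426 = n157784 := (((D157784).symm.trans (sb E42259 (iv4 F257710)))).symm
theorem E44037 : n84358 = n81606 := ((F129434).symm.trans (sb E42259 F193387))
theorem E44038 : n157780 = n78567 := ((D157780).symm.trans (sb E42260 (iv1 F257767)))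
theorem E44039 : n157781 = n78564 := ((D157781).symm.trans (sb E42260 (iv0 D163488)))
theorem E44040 : n48066 = n31355 := ((((iv1 D67475)).symm.trans (sb E42261 (iv1 F159230)))).symm
theorem E44041 : n144023 = n103206 := ((D144023).symm.trans (sb E42261 F159228))
theorem F296078 : act 5 n67475 = n48057 := (sb E42261 (iv5 D103797))
theorem F296079 : act 5 n65503 = n48013 := (sb E42262 (iv5 D103665))
theorem E44042 : n144240 = n103252 := ((D144240).symm.trans (sb E42263 (iv1 F159042)))
theorem E44043 : n144241 = n97328 := ((D144241).symm.trans (sb E42263 (iv0 F159041)))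
theorem E44044 : n144242 = n103083 := ((D144242).symm.trans (sb E42263 F159038))
theorem F296080 : act 5 n67564 = n48003 := (sb E42263 (iv5 D103645))
theorem E44045 : n144249 = n78993 := ((D144249).symm.trans (sb E42264 (iv5 D164482)))
theorem E44046 : n9008 = n8465 := ((D9008).symm.trans (sb E42265 F16405))
theorem F296081 : act 7 n4036 = n4674 := (sb E42265 (iv7 D10314))
theorem E44047 : n38980 = n19049 := (((D19049).symm.trans (sb E42266 (iv6 F91963)))).symm
theorem E44049 : n21555 = n19054 := (((D19054).symm.trans (sb E42267 (iv6 D45155)))).symm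
theorem E44050 : n179534 = n37220 := (((D37220).symm.trans (sb E42268 (iv3 F279546)))).symm
theorem E44051 : n39581 = n37222 := (((D37222).symm.trans (sb E42268 (iv6 D85658)))).symm
theorem E44052 : n27591 = n8786 := (((iv1 F116733)).symm.trans (sb E42269 (iv1 D18739)))
theorem E44053 : n27444 = n18727 := (((iv0 F116730)).symm.trans (sb E42269 F29984))
theorem F296082 : act 2 n17896 = n18734 := (sb E42269 (iv2 F116941))
theorem E44054 : n21595 = n21567 := ((((iv5 F33948)).symm.trans (sb E42269 F116761))).symm
theorem E44055 : n27589 = n18735 := (((iv7 F116737)).symm.trans (sb E42269 (iv7 F116942)))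
theorem F296083 : act 0 n10303 = n4674 := (sb E42270 (iv1 D10312))
theorem E44057 : n8514 = n6060 := ((((iv5 F14013)).symm.trans (sb E42272 F29210))).symm
theorem E44059 : n37519 = n6236 := (((D6236).symm.trans (sb E42273 (iv4 F58402)))).symm
theorem E44060 : n27244 = n6237 := (((D6237).symm.trans (sb E42273 (iv6 F44075)))).symm
theorem F296084 : act 0 n10311 = n6230 := (sb E42274 (iv1 D13090))
theorem F296085 : act 3 n10311 = n8575 := (sb E42274 (iv3 F21825))
theorem F296086 : act 4 n10311 = n18909 := (sb E42274 (iv4 F30189))
theorem F296087 : act 5 n10311 = n8919 := (sb E42274 F21823)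
theorem F296088 : act 7 n10311 = n9006 := (sb E42274 F21822)
theorem E44061 : n96500 = n27317 := (((D27317).symm.trans (sb E42275 (iv3 F148610)))).symm
theorem E44063 : n37252 = n27318 := (((D27318).symm.trans (sb E42275 F70929))).symm
theorem E44064 : n27319 = n8464 := ((D27319).symm.trans (sb E42276 (iv1 F29079)))
theorem E44065 : n27320 = n8463 := ((D27320).symm.trans (sb E42276 F29080))
theorem E44066 : n27303 = n3847 := (((D3847).symm.trans (sb E42277 D27303))).symm
theorem E44067 : n17747 = n5964 := ((((iv4 F9266)).symm.trans (sb E42278 (iv4 F28865)))).symm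
theorem F296089 : act 5 n2613 = n3846 := (sb E42278 (iv5 D8573))
theorem F296090 : act 0 n10310 = n17680 := (sb E42279 (iv1 F28750))
theorem F296091 : act 1 n10310 = n8012 := (sb E42279 (iv0 D17123))
theorem E44068 : n35277 = n21580 := ((((iv3 F33979)).symm.trans (sb E42279 D35277))).symm
theorem E44069 : n22691 = n21584 := (((D21584).symm.trans (sb E42279 (iv5 F35271)))).symm
theorem E44077 : n174338 = n17175 := (((F28429).symm.trans (sb E42283 (iv4 F273139)))).symm
theorem E44078 : n161897 = n36003 := (((D36003).symm.trans (sb E42283 (iv6 F255890)))).symm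
theorem E44079 : n77556 = n8633 := (((D8633).symm.trans (sb E42284 F123969))).symm
theorem E44080 : n36792 = n8634 := (((D8634).symm.trans (sb E42284 (iv6 D80622)))).symm
theorem E44081 : n121476 = n8050 := ((((iv1 F21548)).symm.trans (sb E42285 F275765))).symm
theorem E44082 : n121436 = n6155 := ((((iv0 D12957)).symm.trans (sb E42285 (iv0 F275767)))).symm
theorem E44083 : n121974 = n27042 := (((D27042).symm.trans (sb E42285 F275766))).symm
theorem E44084 : n84135 = n27043 := (((D27043).symm.trans (sb E42285 (iv6 D176466)))).symm
theorem E44085 : n36788 = n18439 := ((D36788).symm.trans (sb E42286 (iv1 D38781)))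
theorem E44086 : n80613 = n8671 := ((((iv0 F116651)).symm.trans (sb E42286 (iv0 F123955)))).symm
theorem F296092 : act 3 n17736 = n18734 := (sb E42286 F123057)
theorem E44087 : n38396 = n36790 := (((D36790).symm.trans (sb E42286 F123059))).symm
theorem E44089 : n39157 = n6249 := ((((iv2 F14025)).symm.trans (sb E42289 F125905))).symm
theorem E44090 : n170805 = n6255 := (((D6255).symm.trans (sb E42289 (iv4 F268390)))).symm
theorem E44091 : n81989 = n6257 := (((D6257).symm.trans (sb E42289 (iv6 F126404)))).symm
theorem E44093 : n169885 = n27448 := (((D27448).symm.trans (sb E42290 (iv6 F267313)))).symm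
theorem E44094 : n38983 = n27449 := (((D27449).symm.trans (sb E42291 (iv1 F125334)))).symm
theorem E44095 : n38902 = n27450 := (((D27450).symm.trans (sb E42291 F125335))).symm
theorem E44096 : n37205 = n27452 := (((D27452).symm.trans (sb E42291 (iv7 D81482)))).symm
theorem E44097 : n23921 = n17460 := ((((iv4 F28461)).symm.trans (sb E42292 (iv4 F37332)))).symm
theorem E44098 : n27483 = n6310 := ((D27483).symm.trans (sb E42292 (iv6 D13305)))
theorem E44099 : n106092 = n40043 := (((D40043).symm.trans (sb E42293 (iv3 F163103)))).symm
theorem E44101 : n40044 = n27898 := ((D40044).symm.trans (sb E42293 (iv6 D58672)))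
theorem E44102 : n27719 = n21557 := ((((iv0 F126004)).symm.trans (sb E42294 F120717))).symm
theorem F296093 : act 6 n13302 = n9328 := (sb E42294 (iv6 D19831))
theorem E44105 : n169864 = n18948 := (((D18948).symm.trans (sb E42296 (iv3 F267296)))).symm
theorem E44107 : n37198 = n18950 := (((D18950).symm.trans (sb E42296 (iv6 D81458)))).symm
theorem E44108 : n86483 = n85627 := ((D86483).symm.trans (sb E42297 (iv6 D179484)))
theorem E44109 : n124575 = n35449 := (((F60963).symm.trans (sb E42297 F279425))).symm
theorem E44111 : n85625 = n18977 := ((D85625).symm.trans (sb E42299 F116689))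
theorem E44112 : n85626 = n18982 := ((D85626).symm.trans (sb E42299 F116690))
theorem F296094 : act 6 n39559 = n18938 := (sb E42299 (iv6 D40066))
theorem E44114 : n86470 = n39576 := (((F117018).symm.trans (sb E42299 (iv7 F132606)))).symm
theorem E44115 : n40555 = n27715 := ((D40555).symm.trans (sb E42300 (iv6 D58153)))
theorem F296095 : act 1 n13183 = n18734 := (sb E42301 F29977)
theorem E44116 : n18785 = n6269 := ((((iv3 D13183)).symm.trans (sb E42301 (iv3 F30033)))).symm
theorem E44117 : n39540 = n27592 := (((D27592).symm.trans (sb E42301 (iv4 F60423)))).symm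
theorem E44118 : n27594 = n8783 := ((D27594).symm.trans (sb E42301 (iv6 D18728)))
theorem E44119 : n27613 = n3922 := (((F13660).symm.trans (sb E42302 F116685))).symm
theorem E44120 : n40049 = n18736 := (((D18736).symm.trans (sb E42302 F116686))).symm
theorem E44122 : n34724 = n26791 := ((((iv1 F116642)).symm.trans (sb E42303 F113878))).symm
theorem F296096 : act 5 n19162 = n18734 := (sb E42303 (iv5 D39560))
theorem E44124 : n40567 = n34731 := ((D40567).symm.trans (sb E42303 F116945))
theorem E44126 : n27707 = n27626 := (((iv1 F44721)).symm.trans (sb E42305 F126120))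
theorem F296097 : act 2 n13230 = n21549 := (sb E42305 (iv2 F33905))
theorem F296098 : act 6 n13230 = n9003 := (sb E42305 (iv6 D19158))
theorem E44132 : n86416 = n21552 := (((D21552).symm.trans (sb E42311 (iv5 D180931)))).symm
theorem E44133 : n86444 = n21553 := (((D21553).symm.trans (sb E42311 F281679))).symm
theorem E44135 : n95235 = n86368 := (((F132376).symm.trans (sb E42314 (iv1 F146779)))).symm
theorem E44136 : n86369 = n37189 := (((iv0 F132381)).symm.trans (sb E42314 F120910))
theorem E44137 : n124513 = n86479 := ((((iv3 F132639)).symm.trans (sb E42314 D124513))).symm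
theorem E44138 : n124514 = n86480 := (((D86480).symm.trans (sb E42314 D124514))).symm
theorem E44139 : n86481 = n27720 := ((D86481).symm.trans (sb E42314 F116961))
theorem F296099 : act 1 n13233 = n21549 := (sb E42315 (iv0 D45132))
theorem E44140 : n36478 = n6291 := (((F22037).symm.trans (sb E42315 F126176))).symm
theorem E44141 : n40166 = n27712 := ((((iv4 F44725)).symm.trans (sb E42315 F126177))).symm
theorem F296100 : act 0 n13227 = n21549 := (sb E42316 (iv1 D45133))
theorem E44143 : n27311 = n8723 := (((F22030).symm.trans (sb E42316 F126180))).symm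
theorem E44144 : n40167 = n27703 := ((((iv4 F44711)).symm.trans (sb E42316 F126181))).symm
theorem E44145 : n96648 = n39214 := ((D96648).symm.trans (sb E42317 (iv1 F117026)))
theorem E44146 : n96649 = n84521 := ((D96649).symm.trans (sb E42317 F129682))
theorem F296101 : act 7 n13231 = n21549 := (sb E42318 (iv7 D45135))
theorem E44149 : n35880 = n12799 := (((F27450).symm.trans (sb E42319 F58581))).symm
theorem F296102 : act 5 n16727 = n20339 := (sb E42319 F58582)
theorem E44157 : n27120 = n1638 := (((D1638).symm.trans (sb E42324 (iv6 F43850)))).symm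
theorem E44159 : n8379 = n1504 := ((((iv4 F2619)).symm.trans (sb E42326 (iv4 F13179)))).symm
theorem E44177 : n86862 = n1514 := ((((iv4 F2626)).symm.trans (sb E42332 (iv4 F133239)))).symm
theorem E44183 : n124131 = n3969 := (((D3969).symm.trans (sb E42333 F198583))).symm
theorem E44184 : n36105 = n3970 := (((D3970).symm.trans (sb E42334 (iv1 F121604)))).symm
theorem E44185 : n36219 = n3971 := (((D3971).symm.trans (sb E42334 F121605))).symm
theorem E44193 : n121676 = n8609 := (((F13847).symm.trans (sb E42343 D121676))).symm
theorem E44194 : n80522 = n18936 := (((D18936).symm.trans (sb E42343 F123792))).symm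
theorem E44195 : n95252 = n18941 := (((D18941).symm.trans (sb E42344 (iv1 F148220)))).symm
theorem E44196 : n84445 = n8103 := ((((iv0 F118793)).symm.trans (sb E42344 F148221))).symm
theorem E44198 : n21163 = n18952 := (((D18952).symm.trans (sb E42345 F33748))).symm
theorem E44199 : n21160 = n18954 := (((D18954).symm.trans (sb E42345 F121830))).symm
theorem E44200 : n166139 = n18955 := (((D18955).symm.trans (sb E42346 (iv3 F261620)))).symm
theorem E44202 : n84448 = n18957 := (((D18957).symm.trans (sb E42346 (iv6 F199213)))).symm
theorem E44204 : n44965 = n18960 := (((D18960).symm.trans (sb E42347 (iv6 D96311)))).symm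
theorem E44206 : n45243 = n18966 := (((D18966).symm.trans (sb E42349 (iv1 F148620)))).symm
theorem E44207 : n45056 = n18967 := (((D18967).symm.trans (sb E42349 (iv0 D96503)))).symm
theorem E44208 : n18970 = n18733 := ((D18970).symm.trans (sb E42350 (iv1 D39555)))
theorem E44209 : n39541 = n18971 := (((D18971).symm.trans (sb E42350 F60436))).symm
theorem E44210 : n75992 = n18972 := (((D18972).symm.trans (sb E42350 (iv5 F113902)))).symm
theorem E44211 : n39568 = n18973 := (((D18973).symm.trans (sb E42350 (iv7 F131263)))).symm
theorem E44212 : n36364 = n18976 := (((D18976).symm.trans (sb E42351 (iv3 F120882)))).symm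
theorem E44213 : n21208 = n18979 := (((D18979).symm.trans (sb E42351 (iv6 D44584)))).symm
theorem E44214 : n57738 = n18981 := (((D18981).symm.trans (sb E42352 (iv3 F90913)))).symm
theorem E44215 : n95447 = n18984 := (((D18984).symm.trans (sb E42352 (iv6 F147079)))).symm
theorem E44216 : n86364 = n58125 := ((D86364).symm.trans (sb E42354 (iv6 D124540)))
theorem E44217 : n58109 = n57878 := (((iv1 F91914)).symm.trans (sb E42356 F91611))
theorem F296103 : act 4 n27709 = n18907 := (sb E42356 F60844)
theorem E44218 : n86366 = n58127 := (((D58127).symm.trans (sb E42356 D86366))).symm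
theorem F296104 : act 6 n27709 = n18906 := (sb E42356 (iv6 D39977))
theorem E44219 : n86367 = n58107 := ((((iv7 F118154)).symm.trans (sb E42356 D86367))).symm
theorem E44221 : n44897 = n35700 := (((F119486).symm.trans (sb E42357 (iv6 F70546)))).symm
theorem F296105 : act 0 n21430 = n18907 := (sb E42358 (iv1 D39979))
theorem E44222 : n164937 = n78600 := (((D78600).symm.trans (sb E42359 (iv1 F260047)))).symm
theorem E44224 : n165485 = n78599 := ((((iv4 F119764)).symm.trans (sb E42359 D165485))).symm
theorem E44226 : n36916 = n7250 := ((((iv3 F11565)).symm.trans (sb E42361 D36916))).symm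
theorem E44228 : n36918 = n7251 := (((D7251).symm.trans (sb E42361 D36918))).symm
theorem E44229 : n36863 = n8329 := (((D8329).symm.trans (sb E42362 (iv1 F89135)))).symm
theorem E44230 : n36926 = n8330 := (((D8330).symm.trans (sb E42362 D36926))).symm
theorem E44232 : n45226 = n19163 := (((D19163).symm.trans (sb E42363 (iv3 F71293)))).symm
theorem E44233 : n19164 = n17938 := ((D19164).symm.trans (sb E42363 F33984))
theorem F296106 : act 7 n9007 = n10310 := (sb E42363 (iv7 D21585))
theorem F296107 : act 2 n9032 = n10310 := (sb E42364 F33836)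
theorem E44234 : n45054 = n19214 := (((D19214).symm.trans (sb E42364 (iv3 F70922)))).symm
theorem F296108 : act 6 n9032 = n10274 := (sb E42364 (iv6 D21514))
theorem E44242 : n55597 = n36686 := (((D36686).symm.trans (sb E42367 F124536))).symm
theorem E44243 : n168472 = n36687 := (((D36687).symm.trans (sb E42367 D168472))).symm
theorem E44244 : n38939 = n36688 := (((D36688).symm.trans (sb E42367 F124535))).symm
theorem E44246 : n36691 = n36667 := ((D36691).symm.trans (sb E42368 F123651))
theorem E44247 : n96732 = n36692 := (((D36692).symm.trans (sb E42368 (iv4 F149166)))).symm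
theorem E44248 : n120870 = n36693 := (((D36693).symm.trans (sb E42368 (iv5 F192770)))).symm
theorem E44249 : n36694 = n36664 := ((D36694).symm.trans (sb E42368 (iv6 D80445)))
theorem E44250 : n96838 = n36697 := (((D36697).symm.trans (sb E42369 (iv4 F149304)))).symm
theorem E44251 : n120871 = n36698 := (((D36698).symm.trans (sb E42369 F192777))).symm
theorem E44254 : n179421 = n41687 := (((D41687).symm.trans (sb E42372 (iv6 F279369)))).symm
theorem E44255 : n75979 = n55482 := (((F87772).symm.trans (sb E42373 (iv1 F131245)))).symm
theorem E44256 : n77270 = n55600 := ((D77270).symm.trans (sb E42373 F131235))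
theorem E44259 : n96859 = n77273 := (((D77273).symm.trans (sb E42374 (iv4 F149342)))).symm
theorem E44260 : n77274 = n40493 := ((D77274).symm.trans (sb E42374 (iv5 D87172)))
theorem E44261 : n121898 = n36773 := ((((iv6 F118867)).symm.trans (sb E42374 F194568))).symm
theorem E44264 : n37005 = n36816 := (((iv6 F122404)).symm.trans (sb E42375 F123649))
theorem E44265 : n96829 = n48969 := (((F77260).symm.trans (sb E42377 D96829))).symm
theorem E44266 : n96682 = n71555 := ((((iv0 F116237)).symm.trans (sb E42377 (iv0 F287084)))).symm
theorem E44268 : n96821 = n27164 := (((F60857).symm.trans (sb E42377 (iv4 F149276)))).symm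
theorem E44270 : n96833 = n86375 := (((D86375).symm.trans (sb E42377 D96833))).symm
theorem E44275 : n96839 = n86376 := (((D86376).symm.trans (sb E42379 D96839))).symm
theorem E44276 : n86377 = n84520 := ((D86377).symm.trans (sb E42379 (iv7 F129678)))
theorem E44277 : n96714 = n86370 := (((D86370).symm.trans (sb E42380 (iv1 F235588)))).symm
theorem E44278 : n96853 = n86371 := (((D86371).symm.trans (sb E42380 D96853))).symm
theorem E44285 : n96860 = n86374 := (((D86374).symm.trans (sb E42382 D96860))).symm
theorem E44287 : n86398 = n70530 := ((D86398).symm.trans (sb E42383 F235866))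
theorem E44288 : n72466 = n19308 := (((F60876).symm.trans (sb E42383 F235867))).symm
theorem E44289 : n86399 = n70528 := ((D86399).symm.trans (sb E42383 (iv6 D149956)))
theorem E44291 : n79373 = n70379 := ((D79373).symm.trans (sb E42385 (iv6 D149796)))
theorem E44292 : n86401 = n32844 := ((D86401).symm.trans (sb E42387 F61781))
theorem E44293 : n86402 = n70380 := ((D86402).symm.trans (sb E42387 F107382))
theorem E44294 : n86403 = n76766 := ((D86403).symm.trans (sb E42387 (iv5 F115184)))
theorem E44295 : n86404 = n37266 := ((D86404).symm.trans (sb E42387 F61780))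
theorem E44296 : n150540 = n45777 := (((D45777).symm.trans (sb E42388 F284828))).symm
theorem E44297 : n87447 = n86407 := (((D86407).symm.trans (sb E42390 (iv5 D183201)))).symm
theorem F296109 : act 1 n10301 = n18919 := (sb E42392 (iv0 D40010))
theorem E44298 : n86409 = n21560 := (((D21560).symm.trans (sb E42392 D86409))).symm
theorem E44300 : n86411 = n21562 := (((D21562).symm.trans (sb E42392 D86411))).symm
theorem F296110 : act 0 n10304 = n18919 := (sb E42393 (iv1 D40011))
theorem E44302 : n86414 = n21570 := (((D21570).symm.trans (sb E42393 D86414))).symm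
theorem E44303 : n86415 = n21544 := ((D86415).symm.trans (sb E42394 F61785))
theorem F296111 : act 2 n40012 = n37194 := (sb E42394 F61782)
theorem F296112 : act 4 n40012 = n21177 := (sb E42394 F61784)
theorem E44304 : n86418 = n37195 := ((D86418).symm.trans (sb E42394 F61783))
theorem E44305 : n37267 = n36758 := ((D37267).symm.trans (sb E42395 (iv6 F118862)))
theorem F296113 : act 7 n17910 = n18919 := (sb E42395 (iv7 D40013))
theorem E44306 : n40578 = n37259 := (((iv1 F121280)).symm.trans (sb E42396 (iv1 F125455)))
theorem E44307 : n37392 = n37255 := (((iv0 F118887)).symm.trans (sb E42396 (iv0 D81562)))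
theorem E44308 : n170058 = n45781 := (((D45781).symm.trans (sb E42396 D170058))).symm
theorem E44309 : n6202 = n6172 := ((((iv1 F9613)).symm.trans (sb E42397 (iv1 F9661)))).symm
theorem E44310 : n8398 = n8368 := (((D8368).symm.trans (sb E42397 D8398))).symm
theorem E44311 : n8400 = n8370 := (((D8370).symm.trans (sb E42397 D8400))).symm
theorem E44312 : n36998 = n17929 := (((D17929).symm.trans (sb E42398 D36998))).symm
theorem E44314 : n37000 = n17931 := (((D17931).symm.trans (sb E42398 D37000))).symm
theorem E44315 : n37006 = n36817 := (((D36817).symm.trans (sb E42399 D37006))).symm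
theorem E44316 : n37007 = n36818 := (((D36818).symm.trans (sb E42399 D37007))).symm
theorem E44319 : n86421 = n17928 := (((D17928).symm.trans (sb E42400 D86421))).symm
theorem E44320 : n77305 = n40495 := (((D40495).symm.trans (sb E42401 (iv7 F118538)))).symm
theorem F296114 : act 6 n17723 = n10207 := (sb E42402 (iv6 D21426))
theorem E44321 : n27119 = n6177 := ((((iv3 D13000)).symm.trans (sb E42403 F58282))).symm
theorem E44322 : n27143 = n17936 := ((D27143).symm.trans (sb E42403 (iv4 D37354)))
theorem E44323 : n55733 = n27144 := (((D27144).symm.trans (sb E42403 F88170))).symm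
theorem E44325 : n36761 = n17935 := ((D36761).symm.trans (sb E42404 (iv4 F118922)))
theorem E44326 : n45941 = n36762 := (((D36762).symm.trans (sb E42404 D45941))).symm
theorem E44333 : n162125 = n17505 := ((((iv0 D36243)).symm.trans (sb E42413 (iv0 F265661)))).symm
theorem E44335 : n167149 = n36484 := ((((iv4 F57303)).symm.trans (sb E42416 (iv4 F263292)))).symm
theorem E44336 : n79582 = n38127 := ((((iv6 F58949)).symm.trans (sb E42416 (iv6 D165695)))).symm
theorem E44337 : n77928 = n56150 := ((((iv4 F88808)).symm.trans (sb E42418 (iv4 F129270)))).symm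
theorem E44338 : n38832 = n38375 := ((((iv6 F59238)).symm.trans (sb E42418 (iv6 D84207)))).symm
theorem E44343 : n121617 = n120933 := (((D120933).symm.trans (sb E42420 (iv3 F194082)))).symm
theorem E44346 : n120956 = n75298 := (((D75298).symm.trans (sb E42421 F248642))).symm
theorem F296116 : act 4 n8052 = n8434 := (sb E42426 F29038)
theorem E44368 : n121515 = n18230 := (((D18230).symm.trans (sb E42454 F199240))).symm
theorem E44369 : n162057 = n18231 := (((D18231).symm.trans (sb E42454 (iv6 F256114)))).symm
theorem E44370 : n84203 = n18309 := (((D18309).symm.trans (sb E42455 (iv4 F129260)))).symm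
theorem E44371 : n18455 = n18310 := (((D18310).symm.trans (sb E42455 (iv6 D38833)))).symm
theorem E44372 : n73941 = n12948 := ((((iv0 F21522)).symm.trans (sb E42456 (iv0 F193839)))).symm
theorem E44373 : n56452 = n17194 := (((D17194).symm.trans (sb E42456 (iv5 F193838)))).symm
theorem E44374 : n86837 = n17195 := (((D17195).symm.trans (sb E42456 F193837))).symm
theorem E44375 : n38773 = n18263 := ((((iv1 F116633)).symm.trans (sb E42457 (iv1 F128016)))).symm
theorem E44376 : n38228 = n18437 := ((((iv0 F116634)).symm.trans (sb E42457 (iv0 D83063)))).symm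
theorem E44377 : n38780 = n18436 := ((((iv7 F116635)).symm.trans (sb E42457 F128017))).symm
theorem E44380 : n56013 = n17192 := (((D17192).symm.trans (sb E42463 (iv6 D121398)))).symm
theorem E44381 : n56271 = n18317 := ((D56271).symm.trans (sb E42464 (iv1 F118383)))
theorem F296117 : act 3 n27112 = n13230 := (sb E42464 (iv3 D27714))
theorem E44382 : n58146 = n56273 := (((D56273).symm.trans (sb E42464 D58146))).symm
theorem E44383 : n56274 = n18315 := ((D56274).symm.trans (sb E42464 F118407))
theorem E44384 : n162129 = n35395 := ((((iv4 F56116)).symm.trans (sb E42466 (iv4 F256231)))).symm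
theorem E44385 : n56416 = n3736 := ((((iv1 D8312)).symm.trans (sb E42468 (iv1 F89282)))).symm
theorem E44386 : n13016 = n13010 := ((((iv0 F21645)).symm.trans (sb E42468 (iv0 D27168)))).symm
theorem E44387 : n56444 = n17643 := (((D17643).symm.trans (sb E42468 D56444))).symm
theorem E44389 : n56447 = n17645 := (((D17645).symm.trans (sb E42468 D56447))).symm
theorem E44390 : n75742 = n36031 := (((D36031).symm.trans (sb E42469 (iv1 F129646)))).symm
theorem E44391 : n75752 = n36032 := (((D36032).symm.trans (sb E42469 (iv0 F129647)))).symm
theorem E44396 : n56451 = n17642 := (((D17642).symm.trans (sb E42470 D56451))).symm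
theorem E44397 : n75351 = n36005 := (((D36005).symm.trans (sb E42471 (iv1 F120392)))).symm
theorem E44398 : n75741 = n16780 := ((((iv0 F116629)).symm.trans (sb E42471 (iv0 F118502)))).symm
theorem E44399 : n75747 = n36007 := (((D36007).symm.trans (sb E42471 (iv7 F120389)))).symm
theorem E44400 : n82650 = n8648 := (((F13554).symm.trans (sb E42472 D82650))).symm
theorem E44402 : n77882 = n17146 := (((D17146).symm.trans (sb E42472 (iv6 F119097)))).symm
theorem E44403 : n75630 = n17156 := (((D17156).symm.trans (sb E42473 F286838))).symm
theorem E44406 : n82642 = n33253 := (((F56041).symm.trans (sb E42474 D82642))).symm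
theorem E44408 : n82639 = n77363 := (((D77363).symm.trans (sb E42474 (iv2 F127312)))).symm
theorem F296118 : act 4 n35319 = n18204 := (sb E42474 F58812)
theorem E44410 : n82645 = n36512 := ((((iv7 F57344)).symm.trans (sb E42474 D82645))).symm
theorem E44414 : n82648 = n75554 := (((D75554).symm.trans (sb E42475 (iv6 F127322)))).symm
theorem E44416 : n36614 = n36513 := (((D36513).symm.trans (sb E42476 (iv6 F117805)))).symm
theorem E44417 : n56928 = n17940 := ((((iv1 F117824)).symm.trans (sb E42477 (iv1 F121238)))).symm
theorem F296119 : act 3 n34530 = n16755 := (sb E42477 F54779)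
theorem E44418 : n160827 = n34459 := (((D34459).symm.trans (sb E42478 F272464))).symm
theorem E44420 : n81856 = n18246 := ((((iv6 F29434)).symm.trans (sb E42480 F141789))).symm
theorem F296120 : act 3 n12909 = n17879 := (sb E42485 (iv3 D37177))
theorem E44423 : n81417 = n13201 := (((F21985).symm.trans (sb E42485 D81417))).symm
theorem E44424 : n35878 = n12802 := (((F28319).symm.trans (sb E42486 F124309))).symm
theorem E44425 : n75219 = n35860 := (((D35860).symm.trans (sb E42486 (iv4 F112768)))).symm
theorem F296121 : act 6 n17366 = n16706 := (sb E42486 (iv6 D34443))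
theorem E44426 : n75222 = n26978 := ((((iv7 F43541)).symm.trans (sb E42486 D75222))).symm
theorem F296122 : act 6 n34467 = n75215 := (sb E42494 (iv6 D157884))
theorem E44431 : n13011 = n2604 := (((D2604).symm.trans (sb E42496 (iv5 D27161)))).symm
theorem E44455 : n40293 = n3712 := ((((iv6 F5713)).symm.trans (sb E42509 F61332))).symm
theorem E44456 : n56162 = n12970 := ((((iv3 F21569)).symm.trans (sb E42510 (iv3 F125998)))).symm
theorem E44465 : n77536 = n55353 := ((((iv6 F87605)).symm.trans (sb E42516 (iv6 D161503)))).symm
theorem F296123 : act 1 n35180 = n43102 := (sb E42517 (iv0 D92180))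
theorem E44466 : n98125 = n77013 := ((((iv6 F115747)).symm.trans (sb E42517 (iv6 F248989)))).symm
theorem E44467 : n98122 = n56237 := ((((iv1 F121318)).symm.trans (sb E42518 (iv1 F151299)))).symm
theorem E44468 : n45971 = n17572 := ((((iv0 F121315)).symm.trans (sb E42518 F124498))).symm
theorem E44469 : n21921 = n17078 := ((((iv5 D35178)).symm.trans (sb E42518 (iv5 D45834)))).symm
theorem F296124 : act 0 n35753 = n43102 := (sb E42519 (iv1 D92181))
theorem E44471 : n102821 = n55852 := ((((iv1 F121493)).symm.trans (sb E42520 (iv1 F261228)))).symm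
theorem E44472 : n102788 = n78463 := (((D78463).symm.trans (sb E42520 (iv0 F261227)))).symm
theorem E44474 : n176639 = n78465 := (((D78465).symm.trans (sb E42521 (iv3 F276014)))).symm
theorem E44476 : n78467 = n38837 := ((D78467).symm.trans (sb E42521 (iv6 D84219)))
theorem E44478 : n164119 = n55900 := (((D55900).symm.trans (sb E42525 F258664))).symm
theorem E44479 : n79243 = n3717 := (((F13044).symm.trans (sb E42527 F136098))).symm
theorem E44480 : n186296 = n17596 := (((D17596).symm.trans (sb E42527 (iv4 F289058)))).symm
theorem E44481 : n41429 = n17252 := ((((iv6 F28204)).symm.trans (sb E42527 (iv6 D88743)))).symm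
theorem E44482 : n83289 = n35196 := (((D35196).symm.trans (sb E42528 F273040))).symm
theorem E44483 : n83287 = n35194 := ((((iv6 F55938)).symm.trans (sb E42528 (iv6 D174244)))).symm
theorem E44484 : n83445 = n75275 := ((((iv1 F112864)).symm.trans (sb E42529 (iv1 D174621)))).symm
theorem E44485 : n173253 = n75201 := ((((iv0 F112750)).symm.trans (sb E42529 F273482))).symm
theorem E44488 : n98156 = n76803 := ((((iv6 F115292)).symm.trans (sb E42531 F269361))).symm
theorem E44490 : n79997 = n75799 := ((D79997).symm.trans (sb E42533 (iv6 D158854)))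
theorem E44491 : n88639 = n35720 := (((F120872).symm.trans (sb E42534 (iv1 F135890)))).symm
theorem E44492 : n26949 = n21949 := ((F120873).symm.trans (sb E42534 (iv0 D45902)))
theorem E44493 : n88637 = n35637 := (((F121256).symm.trans (sb E42534 F135879))).symm
theorem E44494 : n165093 = n77194 := (((D77194).symm.trans (sb E42537 (iv6 F260355)))).symm
theorem E44495 : n98275 = n27098 := (((F121319).symm.trans (sb E42538 (iv1 F151679)))).symm
theorem E44496 : n88651 = n36390 := (((F121320).symm.trans (sb E42538 (iv0 F135939)))).symm
theorem E44499 : n162170 = n57925 := (((D57925).symm.trans (sb E42539 D162170))).symm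
theorem E44500 : n88748 = n36458 := ((((iv0 F121379)).symm.trans (sb E42541 (iv0 F288767)))).symm
theorem E44502 : n82924 = n82413 := (((iv6 F127770)).symm.trans (sb E42542 F141792))
theorem F296125 : act 6 n78454 = n84253 := (sb E42544 (iv6 D176720))
theorem E44503 : n158099 = n121136 := (((D121136).symm.trans (sb E42546 (iv6 F276020)))).symm
theorem E44504 : n88663 = n77165 := (((F115929).symm.trans (sb E42547 (iv1 F140018)))).symm
theorem E44505 : n121050 = n88662 := (((iv0 F193042)).symm.trans (sb E42547 F140019))
theorem F296126 : act 7 n55896 = n42619 := (sb E42547 (iv7 D90989))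
theorem E44506 : n56118 = n3641 := (((F13439).symm.trans (sb E42548 (iv5 F91506)))).symm
theorem E44509 : n85901 = n17182 := (((D17182).symm.trans (sb E42549 F193863))).symm
theorem E44510 : n85899 = n17183 := (((D17183).symm.trans (sb E42549 F193865))).symm
theorem E44511 : n39123 = n27322 := (((D27322).symm.trans (sb E42551 F129932))).symm
theorem E44512 : n39121 = n27323 := (((D27323).symm.trans (sb E42551 (iv6 D84699)))).symm
theorem E44513 : n13017 = n3735 := ((((iv3 D8307)).symm.trans (sb E42553 (iv3 D27173)))).symm
theorem E44514 : n37516 = n17631 := (((D17631).symm.trans (sb E42553 (iv4 F58397)))).symm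
theorem E44515 : n56466 = n17632 := (((D17632).symm.trans (sb E42553 D56466))).symm
theorem E44516 : n37517 = n26758 := ((((iv4 F42994)).symm.trans (sb E42554 F118322))).symm
theorem E44517 : n98177 = n27325 := (((D27325).symm.trans (sb E42554 D98177))).symm
theorem E44518 : n18040 = n7978 := (((F21879).symm.trans (sb E42555 F118233))).symm
theorem E44519 : n75529 = n27370 := (((D27370).symm.trans (sb E42555 (iv3 F113372)))).symm
theorem E44520 : n81974 = n13173 := ((((iv5 F21954)).symm.trans (sb E42555 D81974))).symm
theorem F296127 : act 6 n13112 = n18015 := (sb E42555 (iv6 D37541))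
theorem E44521 : n81941 = n12811 := (((F21878).symm.trans (sb E42555 (iv7 F126296)))).symm
theorem E44522 : n27315 = n21937 := ((D27315).symm.trans (sb E42556 (iv6 D45870)))
theorem E44524 : n172927 = n38248 := (((D38248).symm.trans (sb E42558 (iv3 F271170)))).symm
theorem E44525 : n38747 = n38249 := (((D38249).symm.trans (sb E42558 F127524))).symm
theorem E44526 : n39935 = n38666 := ((D39935).symm.trans (sb E42559 (iv1 F72887)))
theorem E44527 : n39936 = n38647 := ((D39936).symm.trans (sb E42559 (iv0 F72885)))
theorem E44528 : n41435 = n39937 := (((D39937).symm.trans (sb E42559 (iv7 F118346)))).symm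
theorem E44531 : n79240 = n1312 := (((F2781).symm.trans (sb E42561 (iv4 F120529)))).symm
theorem E44532 : n17453 = n3649 := (((D3649).symm.trans (sb E42561 (iv6 D36073)))).symm
theorem E44533 : n172939 = n6490 := (((F12873).symm.trans (sb E42563 (iv3 F271176)))).symm
theorem E44534 : n38159 = n17249 := (((D17249).symm.trans (sb E42563 (iv6 F127533)))).symm
theorem E44535 : n41394 = n17250 := (((D17250).symm.trans (sb E42564 (iv1 F63829)))).symm
theorem E44536 : n17494 = n17253 := (((D17253).symm.trans (sb E42564 F118358))).symm
theorem E44537 : n75665 = n35192 := (((D35192).symm.trans (sb E42565 F128368))).symm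
theorem E44538 : n98188 = n35193 := (((D35193).symm.trans (sb E42565 F151492))).symm
theorem E44539 : n88656 = n35195 := (((D35195).symm.trans (sb E42565 (iv7 F135967)))).symm
theorem E44541 : n17781 = n3739 := (((D3739).symm.trans (sb E42566 D17781))).symm
theorem E44542 : n75645 = n17667 := (((D17667).symm.trans (sb E42567 (iv1 F118343)))).symm
theorem E44543 : n75664 = n17668 := (((D17668).symm.trans (sb E42567 F118341))).symm
theorem F296128 : act 1 n27249 = n16758 := (sb E42568 (iv0 F113501))
theorem F296129 : act 2 n27249 = n18075 := (sb E42568 F117918)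
theorem E44545 : n75429 = n56692 := (((D56692).symm.trans (sb E42568 D75429))).symm
theorem E44546 : n75430 = n56693 := (((D56693).symm.trans (sb E42568 D75430))).symm
theorem E44547 : n75431 = n56694 := (((D56694).symm.trans (sb E42568 D75431))).symm
theorem F296130 : act 1 n27295 = n17606 := (sb E42569 F54676)
theorem F296131 : act 2 n27295 = n18021 := (sb E42569 F54673)
theorem E44548 : n56295 = n54612 := ((((iv3 F86312)).symm.trans (sb E42569 (iv3 F89058)))).symm
theorem E44549 : n75268 = n56852 := (((D56852).symm.trans (sb E42569 D75268))).symm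
theorem E44550 : n75269 = n56853 := (((D56853).symm.trans (sb E42569 D75269))).symm
theorem E44551 : n75531 = n71918 := ((D75531).symm.trans (sb E42570 (iv1 F108430)))
theorem E44552 : n80072 = n75532 := (((D75532).symm.trans (sb E42570 D80072))).symm
theorem E44553 : n80073 = n75528 := ((((iv2 F113368)).symm.trans (sb E42570 D80073))).symm
theorem E44554 : n75533 = n71876 := ((D75533).symm.trans (sb E42570 (iv5 F108357)))
theorem E44555 : n75534 = n35197 := ((D75534).symm.trans (sb E42570 F57253))
theorem E44556 : n75549 = n56647 := ((D75549).symm.trans (sb E42571 (iv1 F89594)))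
theorem E44557 : n76994 = n75550 := (((D75550).symm.trans (sb E42571 (iv0 F115739)))).symm
theorem E44558 : n75420 = n18135 := (((iv4 F295704)).symm.trans (sb E42571 F57256))
theorem E44559 : n80075 = n75537 := ((((iv6 F113381)).symm.trans (sb E42571 D80075))).symm
theorem E44560 : n75419 = n35198 := (((iv7 F295706)).symm.trans (sb E42571 F57255))
theorem F296132 : act 1 n17087 = n18075 := (sb E42572 F117929)
theorem E44561 : n35199 = n21958 := ((D35199).symm.trans (sb E42572 F54827))
theorem F296133 : act 7 n17087 = n16758 := (sb E42572 (iv7 D34565))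
theorem E44562 : n21878 = n17704 := (((iv1 F34339)).symm.trans (sb E42573 (iv1 F121322)))
theorem E44563 : n21877 = n13005 := ((F34344).symm.trans (sb E42573 F121314))
theorem F296134 : act 2 n10479 = n17607 := (sb E42573 (iv2 F28625))
theorem F296135 : act 6 n10479 = n7996 := (sb E42573 (iv6 D17088))
theorem E44564 : n82409 = n18271 := (((D18271).symm.trans (sb E42574 (iv6 F126950)))).symm
theorem E44565 : n176398 = n56646 := (((D56646).symm.trans (sb E42576 (iv3 F275682)))).symm
theorem E44566 : n56648 = n38751 := ((D56648).symm.trans (sb E42576 (iv6 D84106)))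
theorem E44567 : n18415 = n8673 := ((((iv1 F29595)).symm.trans (sb E42577 (iv1 F117190)))).symm
theorem E44568 : n18267 = n8668 := ((((iv0 D18426)).symm.trans (sb E42577 (iv0 F117191)))).symm
theorem F296136 : act 2 n18426 = n18130 := (sb E42577 F44052)
theorem F296137 : act 5 n18426 = n18022 := (sb E42577 F44054)
theorem F296138 : act 6 n18426 = n13047 := (sb E42577 (iv6 D27234))
theorem E44569 : n18413 = n18337 := (((F59219).symm.trans (sb E42577 (iv7 F117182)))).symm
theorem E44571 : n12807 = n3812 := (((iv5 F21260)).symm.trans (sb E42580 F13294))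
theorem E44572 : n18606 = n13125 := (((F21897).symm.trans (sb E42581 D18606))).symm
theorem E44573 : n16333 = n12871 := ((((iv4 F21372)).symm.trans (sb E42581 (iv4 F42179)))).symm
theorem E44574 : n17612 = n3907 := ((D17612).symm.trans (sb E42581 (iv6 D8736)))
theorem E44575 : n18604 = n17613 := (((D17613).symm.trans (sb E42582 F44165))).symm
theorem E44576 : n73523 = n55692 := ((((iv3 F88128)).symm.trans (sb E42583 F118006))).symm
theorem E44577 : n76995 = n18330 := ((D76995).symm.trans (sb E42583 (iv6 D38449)))
theorem F296139 : act 2 n8638 = n17993 := (sb E42584 F57290)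
theorem E44579 : n75276 = n18331 := (((D18331).symm.trans (sb E42584 (iv5 F112867)))).symm
theorem F296140 : act 6 n8638 = n17610 := (sb E42584 (iv6 D36477))
theorem E44581 : n13072 = n3802 := (((F14050).symm.trans (sb E42588 F120615))).symm
theorem E44582 : n55392 = n13056 := (((D13056).symm.trans (sb E42588 D55392))).symm
theorem E44583 : n56695 = n16783 := ((D56695).symm.trans (sb E42589 F59605))
theorem E44584 : n75372 = n56696 := (((D56696).symm.trans (sb E42589 F113117))).symm
theorem F296141 : act 2 n27250 = n18077 := (sb E42589 F117873)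
theorem E44585 : n56697 = n38148 := ((D56697).symm.trans (sb E42589 F58991))
theorem E44586 : n56698 = n38360 := ((D56698).symm.trans (sb E42589 F59596))
theorem E44587 : n8042 = n3810 := ((((iv2 F29738)).symm.trans (sb E42590 F21508))).symm
theorem E44588 : n12992 = n12602 := ((((iv4 F42172)).symm.trans (sb E42590 (iv4 F21611)))).symm
theorem F296142 : act 5 n6221 = n6143 := (sb E42590 (iv5 D12944))
theorem E44589 : n27019 = n13080 := (((D13080).symm.trans (sb E42590 D27019))).symm
theorem E44590 : n16777 = n16775 := (((iv1 F117907)).symm.trans (sb E42591 (iv1 F117277)))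
theorem E44591 : n75271 = n16782 := ((((iv0 F117908)).symm.trans (sb E42591 D75271))).symm
theorem F296143 : act 2 n27297 = n18022 := (sb E42591 F54677)
theorem F296144 : act 5 n27297 = n18130 := (sb E42591 F54679)
theorem E44592 : n75272 = n38755 := (((F117885).symm.trans (sb E42591 D75272))).symm
theorem E44593 : n75399 = n75377 := (((D75377).symm.trans (sb E42592 D75399))).symm
theorem E44595 : n72009 = n71888 := ((((iv2 F108380)).symm.trans (sb E42592 (iv2 F108491)))).symm
theorem E44596 : n75401 = n52640 := ((((iv5 F83177)).symm.trans (sb E42592 D75401))).symm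
theorem E44597 : n75402 = n18134 := (((F54734).symm.trans (sb E42592 D75402))).symm
theorem F296145 : act 2 n34504 = n18208 := (sb E42593 F54746)
theorem E44598 : n75405 = n75380 := (((D75380).symm.trans (sb E42593 (iv6 F113155)))).symm
theorem E44599 : n18167 = n18136 := (((D18136).symm.trans (sb E42594 F54749))).symm
theorem F296146 : act 2 n8552 = n16755 := (sb E42595 (iv2 F27510))
theorem E44602 : n28693 = n12869 := (((D12869).symm.trans (sb E42599 (iv4 F46241)))).symm
theorem E44603 : n17565 = n12870 := (((D12870).symm.trans (sb E42599 F43765))).symm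
theorem E44608 : n128244 = n21925 := (((D21925).symm.trans (sb E42602 F206373))).symm
theorem E44610 : n79818 = n21927 := (((D21927).symm.trans (sb E42602 F194155))).symm
theorem E44611 : n39956 = n18391 := (((F59748).symm.trans (sb E42603 F120861))).symm
theorem E44612 : n78231 = n18396 := ((((iv0 F59749)).symm.trans (sb E42603 (iv0 F121401)))).symm
theorem E44613 : n21930 = n17557 := ((D21930).symm.trans (sb E42603 (iv7 D36366)))
theorem E44615 : n56190 = n21919 := (((D21919).symm.trans (sb E42606 (iv6 D121653)))).symm
theorem E44616 : n21920 = n17553 := ((D21920).symm.trans (sb E42607 (iv1 F43742)))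
theorem E44617 : n56191 = n21922 := (((D21922).symm.trans (sb E42607 D56191))).symm
theorem E44618 : n21923 = n17554 := ((D21923).symm.trans (sb E42607 F43739))
theorem E44619 : n8201 = n7383 := ((D8201).symm.trans (sb E42609 F30461))
theorem E44620 : n13031 = n8202 := (((D8202).symm.trans (sb E42609 D13031))).symm
theorem E44621 : n32813 = n21945 := (((D21945).symm.trans (sb E42610 (iv3 F51954)))).symm
theorem E44623 : n56550 = n21946 := (((D21946).symm.trans (sb E42610 D56550))).symm
theorem E44624 : n56555 = n21947 := (((D21947).symm.trans (sb E42611 D56555))).symm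
theorem E44625 : n56556 = n21948 := (((D21948).symm.trans (sb E42611 D56556))).symm
theorem E44626 : n35722 = n21950 := (((D21950).symm.trans (sb E42611 (iv7 F56410)))).symm
theorem E44629 : n81059 = n21941 := (((D21941).symm.trans (sb E42612 D81059))).symm
theorem E44630 : n79831 = n21942 := (((D21942).symm.trans (sb E42613 (iv1 F122561)))).symm
theorem E44631 : n35224 = n21943 := (((D21943).symm.trans (sb E42613 F120889))).symm
theorem E44633 : n160695 = n18185 := ((((iv1 F29354)).symm.trans (sb E42614 D160695))).symm
theorem E44634 : n127908 = n22100 := (((D22100).symm.trans (sb E42614 (iv0 F205820)))).symm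
theorem E44635 : n160692 = n22101 := (((D22101).symm.trans (sb E42614 (iv2 F253831)))).symm
theorem E44637 : n81054 = n16759 := ((((iv7 F27524)).symm.trans (sb E42614 (iv7 F124829)))).symm
theorem F296147 : act 7 n10434 = n17607 := (sb E42617 (iv7 F121323))
theorem E44644 : n17771 = n2528 := ((((iv4 F4022)).symm.trans (sb E42619 (iv4 F28907)))).symm
theorem E44651 : n79446 = n2536 := ((((iv4 F4041)).symm.trans (sb E42623 (iv4 F122016)))).symm
theorem E44653 : n56062 = n2591 := ((((iv3 F4155)).symm.trans (sb E42624 (iv3 F125943)))).symm
theorem E44654 : n79355 = n2535 := ((((iv4 F4034)).symm.trans (sb E42624 (iv4 F121946)))).symm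
theorem E44659 : n79532 = n6497 := (((D6497).symm.trans (sb E42625 F260020))).symm
theorem E44660 : n19034 = n8850 := (((D8850).symm.trans (sb E42626 F118507))).symm
theorem E44661 : n36104 = n8851 := (((D8851).symm.trans (sb E42626 F118508))).symm
theorem E44666 : n84745 = n13130 := (((F27956).symm.trans (sb E42630 F193859))).symm
theorem E44667 : n167447 = n35106 := (((D35106).symm.trans (sb E42630 F263602))).symm
theorem E44668 : n122496 = n39939 := (((D39939).symm.trans (sb E42631 F269781))).symm
theorem E44669 : n83269 = n39940 := (((D39940).symm.trans (sb E42631 F269784))).symm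
theorem E44670 : n45953 = n17276 := ((((iv1 F121248)).symm.trans (sb E42632 (iv1 F135945)))).symm
theorem E44671 : n41390 = n12890 := ((((iv0 F121249)).symm.trans (sb E42632 (iv0 D88653)))).symm
theorem E44673 : n84022 = n39944 := (((D39944).symm.trans (sb E42633 (iv3 F128984)))).symm
theorem E44674 : n84026 = n39945 := (((D39945).symm.trans (sb E42633 D84026))).symm
theorem E44675 : n39946 = n18405 := ((D39946).symm.trans (sb E42633 (iv6 D38700)))
theorem E44676 : n174528 = n38242 := (((D38242).symm.trans (sb E42635 D174528))).symm
theorem E44678 : n172062 = n38243 := (((D38243).symm.trans (sb E42635 (iv6 F270165)))).symm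
theorem E44679 : n172073 = n38151 := (((D38151).symm.trans (sb E42636 (iv3 F270201)))).symm
theorem E44680 : n82768 = n36652 := ((((iv5 F57523)).symm.trans (sb E42636 (iv5 F127514)))).symm
theorem E44681 : n38152 = n37800 := ((D38152).symm.trans (sb E42636 (iv6 D82412)))
theorem E44683 : n84109 = n28646 := (((D28646).symm.trans (sb E42637 (iv6 D176406)))).symm
theorem E44685 : n38714 = n18444 := (((iv1 F59495)).symm.trans (sb E42639 (iv1 F59661)))
theorem E44686 : n38237 = n18428 := (((iv0 F59110)).symm.trans (sb E42639 (iv0 D38756)))
theorem E44687 : n84110 = n39951 := (((D39951).symm.trans (sb E42639 D84110))).symm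
theorem E44688 : n38717 = n38427 := ((F59503).symm.trans (sb E42639 F118354))
theorem E44689 : n81831 = n39953 := (((D39953).symm.trans (sb E42640 (iv3 F125780)))).symm
theorem E44690 : n39954 = n18393 := ((D39954).symm.trans (sb E42640 F59460))
theorem E44691 : n38217 = n36363 := ((((iv5 F120899)).symm.trans (sb E42640 (iv5 F59477)))).symm
theorem E44692 : n83041 = n39959 := (((D39959).symm.trans (sb E42641 (iv4 F127972)))).symm
theorem E44694 : n119597 = n78044 := (((D78044).symm.trans (sb E42643 F269783))).symm
theorem E44696 : n174507 = n28607 := (((F56271).symm.trans (sb E42643 (iv2 F273387)))).symm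
theorem E44698 : n78046 = n38419 := ((D78046).symm.trans (sb E42643 (iv6 D83405)))
theorem E44699 : n158271 = n78047 := (((D78047).symm.trans (sb E42644 D158271))).symm
theorem E44700 : n38811 = n38162 := ((((iv1 F59020)).symm.trans (sb E42645 F60847))).symm
theorem F296148 : act 4 n18324 = n17246 := (sb E42645 F56277)
theorem F296149 : act 6 n18324 = n17245 := (sb E42645 (iv6 D35600))
theorem F296150 : act 1 n19515 = n17246 := (sb E42646 (iv0 D35601))
theorem E44704 : n78053 = n18359 := (((F31250).symm.trans (sb E42646 D78053))).symm
theorem F296151 : act 0 n19497 = n17246 := (sb E42647 (iv1 D35602))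
theorem E44706 : n56046 = n40087 := ((((iv3 F60981)).symm.trans (sb E42647 (iv3 F126172)))).symm
theorem E44707 : n78056 = n18251 := (((F31218).symm.trans (sb E42647 D78056))).symm
theorem E44708 : n79518 = n78059 := (((D78059).symm.trans (sb E42648 F128516))).symm
theorem E44709 : n79517 = n78060 := (((D78060).symm.trans (sb E42648 (iv0 F128517)))).symm
theorem E44710 : n174513 = n78061 := (((D78061).symm.trans (sb E42648 D174513))).symm
theorem E44711 : n78062 = n41434 := ((D78062).symm.trans (sb E42648 F128515))
theorem F296152 : act 3 n19513 = n39980 := (sb E42649 (iv3 F60849))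
theorem F296153 : act 7 n19513 = n17246 := (sb E42649 (iv7 D35604))
theorem E44713 : n80643 = n7379 := (((D7379).symm.trans (sb E42651 D80643))).symm
theorem E44715 : n80645 = n7380 := (((D7380).symm.trans (sb E42651 D80645))).symm
theorem E44716 : n35304 = n8003 := (((D8003).symm.trans (sb E42652 F122165))).symm
theorem E44717 : n80649 = n8004 := (((D8004).symm.trans (sb E42652 D80649))).symm
theorem E44718 : n26914 = n8005 := (((D8005).symm.trans (sb E42652 F57717))).symm
theorem E44721 : n98192 = n16121 := ((((iv0 F25738)).symm.trans (sb E42653 (iv0 F285928)))).symm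
theorem E44724 : n98788 = n32789 := (((D32789).symm.trans (sb E42653 D98788))).symm
theorem E44725 : n84216 = n35213 := (((D35213).symm.trans (sb E42654 (iv1 F129284)))).symm
theorem E44727 : n98791 = n35215 := (((D35215).symm.trans (sb E42654 D98791))).symm
theorem E44728 : n35216 = n34645 := ((D35216).symm.trans (sb E42655 F128324))
theorem E44729 : n98792 = n35217 := (((D35217).symm.trans (sb E42655 D98792))).symm
theorem E44730 : n82902 = n35218 := (((D35218).symm.trans (sb E42655 F127703))).symm
theorem E44732 : n80164 = n35221 := (((D35221).symm.trans (sb E42656 (iv3 F123100)))).symm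
theorem E44733 : n75339 = n35222 := (((D35222).symm.trans (sb E42656 (iv4 F112958)))).symm
theorem E44734 : n98187 = n35223 := (((D35223).symm.trans (sb E42656 D98187))).symm
theorem E44735 : n75671 = n35227 := (((D35227).symm.trans (sb E42657 (iv4 F123903)))).symm
theorem E44736 : n78305 = n35228 := (((D35228).symm.trans (sb E42657 (iv5 F123907)))).symm
theorem F296154 : act 0 n17096 = n19495 := (sb E42658 (iv1 D41392))
theorem E44738 : n86475 = n35231 := (((D35231).symm.trans (sb E42658 F132622))).symm
theorem E44739 : n82912 = n35232 := (((D35232).symm.trans (sb E42658 F127735))).symm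
theorem E44740 : n79520 = n35233 := (((D35233).symm.trans (sb E42658 F122130))).symm
theorem E44741 : n98179 = n80408 := (((D80408).symm.trans (sb E42660 F151465))).symm
theorem E44742 : n98802 = n80409 := (((D80409).symm.trans (sb E42660 D98802))).symm
theorem E44745 : n98805 = n80410 := (((D80410).symm.trans (sb E42660 D98805))).symm
theorem E44746 : n98807 = n77119 := (((D77119).symm.trans (sb E42661 D98807))).symm
theorem E44747 : n34629 = n34617 := (((F57504).symm.trans (sb E42662 (iv1 F113069)))).symm
theorem E44748 : n80411 = n34646 := ((D80411).symm.trans (sb E42662 (iv0 F72889)))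
theorem E44749 : n83071 = n80412 := (((D80412).symm.trans (sb E42662 (iv5 F128035)))).symm
theorem E44751 : n82802 = n80414 := (((D80414).symm.trans (sb E42663 (iv4 F127539)))).symm
theorem E44752 : n98046 = n56403 := ((((iv6 F121386)).symm.trans (sb E42663 F151173))).symm
theorem E44753 : n80163 = n35348 := ((((iv3 F91464)).symm.trans (sb E42664 (iv3 F123097)))).symm
theorem E44754 : n80415 = n75688 := ((D80415).symm.trans (sb E42664 (iv4 F113549)))
theorem E44755 : n71692 = n28580 := ((D71692).symm.trans (sb E42666 F57809))
theorem E44756 : n80739 = n55308 := (((F189864).symm.trans (sb E42666 D80739))).symm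
theorem E44757 : n80737 = n54827 := ((((iv2 F86764)).symm.trans (sb E42666 (iv2 F124223)))).symm
theorem E44758 : n17761 = n15984 := ((((iv4 D33148)).symm.trans (sb E42666 (iv4 D36867)))).symm
theorem E44759 : n80740 = n71694 := (((D71694).symm.trans (sb E42666 D80740))).symm
theorem E44760 : n80741 = n71695 := (((D71695).symm.trans (sb E42666 D80741))).symm
theorem E44761 : n82254 = n35174 := ((D82254).symm.trans (sb E42667 F58668))
theorem E44762 : n82255 = n35182 := ((D82255).symm.trans (sb E42667 F58669))
theorem E44767 : n82796 = n46715 := ((((iv0 F73832)).symm.trans (sb E42669 D82796))).symm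
theorem E44768 : n82797 = n41075 := ((((iv2 F62319)).symm.trans (sb E42669 D82797))).symm
theorem E44769 : n57171 = n18023 := (((F58445).symm.trans (sb E42669 (iv4 F121576)))).symm
theorem E44770 : n82798 = n68904 := ((((iv5 F105081)).symm.trans (sb E42669 D82798))).symm
theorem E44771 : n82799 = n81997 := (((D81997).symm.trans (sb E42669 D82799))).symm
theorem E44772 : n82801 = n81998 := (((D81998).symm.trans (sb E42670 D82801))).symm
theorem E44773 : n81999 = n38650 := ((D81999).symm.trans (sb E42671 (iv5 F59464)))
theorem E44775 : n98759 = n80082 := (((iv1 F152253)).symm.trans (sb E42672 (iv1 F122893)))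
theorem E44776 : n98760 = n70533 := ((D98760).symm.trans (sb E42672 (iv2 F115811)))
theorem E44777 : n119408 = n98761 := (((D98761).symm.trans (sb E42672 (iv3 F188152)))).symm
theorem E44778 : n79294 = n70548 := (((iv4 F192628)).symm.trans (sb E42672 F115810))
theorem E44779 : n160624 = n98763 := (((D98763).symm.trans (sb E42672 (iv5 F253728)))).symm
theorem E44781 : n98765 = n80081 := ((D98765).symm.trans (sb E42672 (iv7 F122890)))
theorem E44782 : n98766 = n28535 := ((D98766).symm.trans (sb E42673 (iv3 D60070)))
theorem E44783 : n79295 = n32849 := (((iv4 F249524)).symm.trans (sb E42673 F94611))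
theorem E44784 : n127887 = n98768 := (((D98768).symm.trans (sb E42673 D127887))).symm
theorem E44785 : n127888 = n98769 := (((D98769).symm.trans (sb E42673 D127888))).symm
theorem E44786 : n98756 = n70533 := ((D98756).symm.trans (sb E42674 F122872))
theorem E44787 : n98757 = n80081 := ((D98757).symm.trans (sb E42674 F122889))
theorem E44788 : n114817 = n98758 := (((D98758).symm.trans (sb E42674 (iv5 F178892)))).symm
theorem E44789 : n160693 = n98770 := (((D98770).symm.trans (sb E42675 D160693))).symm
theorem E44790 : n127900 = n98771 := (((D98771).symm.trans (sb E42675 (iv0 F205816)))).symm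
theorem E44791 : n118026 = n98772 := (((D98772).symm.trans (sb E42675 F185398))).symm
theorem E44793 : n82791 = n80083 := (((iv7 F295915)).symm.trans (sb E42675 (iv7 F122896)))
theorem E44794 : n80084 = n75558 := ((D80084).symm.trans (sb E42676 (iv6 F113406)))
theorem F296155 : act 7 n36469 = n22102 := (sb E42676 (iv7 D46189))
theorem F296156 : act 1 n37808 = n22105 := (sb E42677 (iv0 D46190))
theorem E44796 : n98775 = n82425 := (((D82425).symm.trans (sb E42677 D98775))).symm
theorem F296157 : act 0 n37473 = n22105 := (sb E42678 (iv1 D46191))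
theorem E44798 : n98777 = n81850 := (((D81850).symm.trans (sb E42678 D98777))).symm
theorem E44799 : n82748 = n77109 := ((((iv3 F115824)).symm.trans (sb E42679 (iv3 F127506)))).symm
theorem F296158 : act 4 n35211 = n22105 := (sb E42679 F295774)
theorem E44800 : n82794 = n77111 := (((D77111).symm.trans (sb E42679 D82794))).symm
theorem F296159 : act 7 n35211 = n18208 := (sb E42679 (iv7 D38050))
theorem E44803 : n160700 = n83791 := (((D83791).symm.trans (sb E42680 D160700))).symm
theorem F296160 : act 4 n36470 = n18208 := (sb E42681 (iv4 D38049))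
theorem E44804 : n82761 = n80085 := (((D80085).symm.trans (sb E42681 (iv6 F127510)))).symm
theorem F296161 : act 7 n36470 = n22105 := (sb E42681 F295768)
theorem E44805 : n80086 = n17977 := ((((iv1 F118892)).symm.trans (sb E42682 D80086))).symm
theorem E44806 : n56768 = n18170 := ((((iv0 F118893)).symm.trans (sb E42682 F121427))).symm
theorem F296162 : act 4 n34572 = n17607 := (sb E42682 F57275)
theorem F296163 : act 6 n34572 = n17606 := (sb E42682 (iv6 D36471))
theorem E44809 : n21966 = n17705 := (((D17705).symm.trans (sb E42683 D21966))).symm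
theorem E44810 : n21967 = n17706 := (((D17706).symm.trans (sb E42683 D21967))).symm
theorem F296164 : act 0 n10477 = n17607 := (sb E42684 (iv1 F121356))
theorem F296165 : act 3 n10477 = n17724 := (sb E42684 F43889)
theorem E44812 : n37828 = n21961 := (((D21961).symm.trans (sb E42684 (iv4 F117812)))).symm
theorem E44813 : n35646 = n21962 := (((D21962).symm.trans (sb E42684 F56316))).symm
theorem E44814 : n56397 = n21963 := (((D21963).symm.trans (sb E42684 D56397))).symm
theorem E44817 : n162166 = n35862 := ((((iv4 F56525)).symm.trans (sb E42692 D162166))).symm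
theorem E44818 : n86711 = n57920 := (((D57920).symm.trans (sb E42692 F132980))).symm
theorem E44819 : n80589 = n36224 := ((F123922).symm.trans (sb E42693 F122172))
theorem E44820 : n88749 = n80561 := ((((iv0 F123858)).symm.trans (sb E42693 F136130))).symm
theorem F296166 : act 6 n40212 = n21164 := (sb E42693 F69999)
theorem E44821 : n162856 = n95273 := (((D95273).symm.trans (sb E42694 F257147))).symm
theorem E44822 : n95274 = n36384 := ((D95274).symm.trans (sb E42694 (iv0 D79869)))
theorem E44823 : n166331 = n95272 := ((((iv4 F146899)).symm.trans (sb E42694 D166331))).symm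
theorem E44824 : n95275 = n86710 := ((D95275).symm.trans (sb E42694 (iv7 F140920)))
theorem E44825 : n162239 = n35790 := ((((iv1 F119724)).symm.trans (sb E42695 F256386))).symm
theorem E44826 : n121153 = n35789 := (((F119725).symm.trans (sb E42695 (iv0 F193220)))).symm
theorem F296167 : act 3 n78541 = n42619 := (sb E42695 F122333)
theorem E44827 : n163428 = n86133 := (((iv4 F257715)).symm.trans (sb E42695 (iv4 F132089)))
theorem F296168 : act 6 n78541 = n36259 := (sb E42695 (iv6 D79622))
theorem F296169 : act 0 n2606 = n3698 := (sb E42697 F13414)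
theorem F296170 : act 1 n2606 = n3693 := (sb E42697 (iv0 F13415))
theorem E44829 : n8363 = n5986 := ((((iv4 F9300)).symm.trans (sb E42697 D8363))).symm
theorem F296171 : act 5 n2606 = n1641 := (sb E42697 (iv5 D3754))
theorem F296172 : act 2 n1642 = n2606 := (sb E42699 (iv2 F4191))
theorem E44830 : n3758 = n3417 := ((D3758).symm.trans (sb E42699 (iv4 F5408)))
theorem F296173 : act 6 n1642 = n879 := (sb E42699 (iv6 D1644))
theorem E44831 : n18117 = n8571 := (((D8571).symm.trans (sb E42700 D18117))).symm
theorem F296174 : act 6 n3845 = n3813 := (sb E42700 F13293)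

end Cfsg.Agent.Helper17.ONTC
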