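import Cfsg.Agent.Helper17.ONTC.Facts35

set_option autoImplicit false
set_option linter.all false

noncomputable section

namespace Cfsg.Agent.Helper17.ONTC

theorem F296175 : act 4 n26917 = n17879 := (sb E42701 F67518)
theorem F296176 : act 4 n16712 = n17880 := (sb E42702 F67514)
theorem E44850 : n76968 = n12883 := (((D12883).symm.trans (sb E42709 (iv4 F115689)))).symm
theorem E44851 : n17113 = n12877 := ((((iv6 F21379)).symm.trans (sb E42709 (iv6 D35260)))).symm
theorem E44853 : n43110 = n17457 := (((D17457).symm.trans (sb E42711 (iv4 F92754)))).symm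
theorem E44854 : n17455 = n16413 := (((iv6 F28446)).symm.trans (sb E42711 F43498))
theorem E44855 : n43111 = n17522 := ((((iv4 F28520)).symm.trans (sb E42712 (iv4 F92758)))).symm
theorem E44857 : n55350 = n35879 := (((iv1 F87603)).symm.trans (sb E42713 F60648))
theorem E44858 : n55779 = n35882 := ((D55779).symm.trans (sb E42713 F67511))
theorem E44859 : n55887 = n55780 := (((D55780).symm.trans (sb E42713 (iv3 F88409)))).symm
theorem E44861 : n167858 = n79540 := ((((iv1 F122169)).symm.trans (sb E42720 (iv1 F264468)))).symm
theorem E44862 : n79259 = n36774 := (((iv0 F121613)).symm.trans (sb E42720 (iv0 D80586)))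
theorem F296177 : act 2 n44900 = n40212 := (sb E42720 F124466)
theorem E44863 : n79476 = n40207 := (((iv7 F122060)).symm.trans (sb E42720 (iv7 F124465)))
theorem E44864 : n37065 = n8343 := (((D8343).symm.trans (sb E42723 D37065))).symm
theorem E44865 : n27088 = n6100 := ((((iv1 F9476)).symm.trans (sb E42724 (iv1 F43761)))).symm
theorem E44866 : n29764 = n8214 := (((D8214).symm.trans (sb E42724 (iv4 F47869)))).symm
theorem E44867 : n19029 = n8216 := (((D8216).symm.trans (sb E42724 F30472))).symm
theorem E44868 : n133930 = n18484 := (((D18484).symm.trans (sb E42726 (iv3 F215764)))).symm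
theorem E44870 : n86638 = n18485 := (((D18485).symm.trans (sb E42726 F132883))).symm
theorem E44871 : n40055 = n21209 := (((D21209).symm.trans (sb E42727 F61116))).symm
theorem E44872 : n27095 = n21210 := (((D21210).symm.trans (sb E42727 F118077))).symm
theorem E44873 : n166036 = n18482 := (((D18482).symm.trans (sb E42728 (iv3 F261425)))).symm
theorem E44874 : n87502 = n17932 := ((((iv5 F29102)).symm.trans (sb E42728 F134369))).symm
theorem E44875 : n36305 = n18483 := (((D18483).symm.trans (sb E42728 (iv6 D79716)))).symm
theorem F296178 : act 2 n10085 = n8243 := (sb E42729 (iv2 D17532))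
theorem E44877 : n84051 = n18283 := (((D18283).symm.trans (sb E42731 (iv6 D176238)))).symm
theorem E44878 : n38644 = n36354 := (((iv7 F59751)).symm.trans (sb E42732 (iv7 D79804)))
theorem E44880 : n166107 = n6263 := (((F21243).symm.trans (sb E42736 D166107))).symm
theorem E44881 : n161124 = n26744 := (((D26744).symm.trans (sb E42736 (iv6 F254721)))).symm
theorem E44884 : n162857 = n37191 := (((D37191).symm.trans (sb E42737 (iv6 F257149)))).symm
theorem E44885 : n35702 = n26904 := ((((iv1 F121220)).symm.trans (sb E42738 (iv1 F119483)))).symm
theorem E44886 : n44896 = n35689 := ((D44896).symm.trans (sb E42738 (iv0 D78281)))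
theorem E44892 : n57798 = n18726 := (((F59766).symm.trans (sb E42742 F132935))).symm
theorem E44893 : n86640 = n13290 := (((F59767).symm.trans (sb E42742 F132936))).symm
theorem F296179 : act 1 n18983 = n10213 := (sb E42743 (iv0 D21434))
theorem E44897 : n40196 = n27567 := (((iv3 F61179)).symm.trans (sb E42743 (iv3 F59771)))
theorem E44898 : n40201 = n37232 := ((D40201).symm.trans (sb E42743 (iv4 F116752)))
theorem F296180 : act 0 n18978 = n10213 := (sb E42744 (iv1 D21435))
theorem F296181 : act 3 n18978 = n18893 := (sb E42744 F90412)
theorem E44899 : n40186 = n37233 := ((D40186).symm.trans (sb E42744 (iv4 F116756)))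
theorem E44900 : n44914 = n40187 := (((D40187).symm.trans (sb E42744 D44914))).symm
theorem E44902 : n37087 = n1635 := (((D1635).symm.trans (sb E42746 (iv5 F58006)))).symm
theorem E44903 : n7483 = n6175 := (((D6175).symm.trans (sb E42747 (iv4 F11732)))).symm
theorem E44904 : n6179 = n6176 := (((D6176).symm.trans (sb E42747 (iv6 F9622)))).symm
theorem E44907 : n15403 = n8219 := (((D8219).symm.trans (sb E42749 F41796))).symm
theorem E44908 : n8221 = n6161 := ((D8221).symm.trans (sb E42749 (iv6 D12975)))
theorem E44911 : n56875 = n7823 := ((((iv5 F12369)).symm.trans (sb E42751 (iv5 F89919)))).symm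
theorem E44919 : n61812 = n8066 := (((F21591).symm.trans (sb E42753 (iv4 F96379)))).symm
theorem E44924 : n8206 = n7613 := ((D8206).symm.trans (sb E42755 F25899))
theorem E44925 : n8207 = n7611 := ((D8207).symm.trans (sb E42755 (iv6 D16414)))
theorem E44926 : n26679 = n6104 := (((D6104).symm.trans (sb E42756 (iv4 F53065)))).symm
theorem E44927 : n26946 = n6105 := (((D6105).symm.trans (sb E42756 (iv6 F43460)))).symm
theorem E44928 : n13674 = n13150 := ((((iv1 F21932)).symm.trans (sb E42757 F46246))).symm
theorem E44929 : n36329 = n26879 := (((D26879).symm.trans (sb E42757 D36329))).symm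
theorem E44930 : n36324 = n26880 := (((D26880).symm.trans (sb E42757 (iv3 F57049)))).symm
theorem E44931 : n26881 = n13920 := ((D26881).symm.trans (sb E42757 (iv5 F30463)))
theorem E44932 : n26882 = n8244 := ((D26882).symm.trans (sb E42757 (iv6 D17541)))
theorem F296182 : act 6 n3710 = n6102 := (sb E42758 (iv6 D12868))
theorem E44938 : n166056 = n44960 := (((D44960).symm.trans (sb E42767 D166056))).symm
theorem E44940 : n166051 = n44962 := (((D44962).symm.trans (sb E42767 (iv2 F261456)))).symm
theorem E44941 : n166058 = n44937 := ((((iv5 F70634)).symm.trans (sb E42767 D166058))).symm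
theorem E44942 : n44963 = n36310 := ((D44963).symm.trans (sb E42767 (iv6 D79726)))
theorem E44944 : n166072 = n44938 := (((D44938).symm.trans (sb E42768 (iv6 F261477)))).symm
theorem E44945 : n36308 = n18823 := ((D36308).symm.trans (sb E42769 F121723))
theorem E44946 : n44966 = n36311 := (((D36311).symm.trans (sb E42769 D44966))).symm
theorem F296183 : act 6 n17533 = n10248 := (sb E42769 (iv6 D21471))
theorem E44947 : n44967 = n27093 := ((((iv7 F43778)).symm.trans (sb E42769 D44967))).symm
theorem E44948 : n37197 = n36297 := (((D36297).symm.trans (sb E42770 F126089))).symm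
theorem E44949 : n44971 = n36298 := (((D36298).symm.trans (sb E42770 D44971))).symm
theorem E44950 : n78378 = n41371 := (((D41371).symm.trans (sb E42772 F119585))).symm
theorem E44951 : n78374 = n41373 := (((D41373).symm.trans (sb E42772 (iv7 F119581)))).symm
theorem E44952 : n87500 = n17903 := (((D17903).symm.trans (sb E42773 (iv3 F134364)))).symm
theorem E44953 : n36765 = n17904 := (((D17904).symm.trans (sb E42773 (iv6 F121231)))).symm
theorem E44954 : n168828 = n45207 := (((D45207).symm.trans (sb E42774 D168828))).symm
theorem E44955 : n167640 = n45208 := (((D45208).symm.trans (sb E42774 (iv0 F287080)))).symm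
theorem E44963 : n77295 = n45173 := ((((iv1 F116788)).symm.trans (sb E42776 (iv1 F132679)))).symm
theorem E44964 : n162874 = n35153 := (((F59805).symm.trans (sb E42776 (iv0 F257186)))).symm
theorem E44965 : n123184 = n45212 := (((D45212).symm.trans (sb E42776 F197427))).symm
theorem F296184 : act 1 n35293 = n19113 := (sb E42777 (iv0 D40442))
theorem E44967 : n77315 = n36535 := (((iv3 F116119)).symm.trans (sb E42777 F115333))
theorem E44968 : n77318 = n37302 := (((iv4 F116120)).symm.trans (sb E42777 (iv4 F117065)))
theorem E44970 : n162897 = n37303 := ((((iv4 F116760)).symm.trans (sb E42778 D162897))).symm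
theorem E44971 : n77159 = n35695 := ((D77159).symm.trans (sb E42778 (iv5 D78307)))
theorem E44972 : n77160 = n36772 := ((D77160).symm.trans (sb E42778 (iv6 F119510)))
theorem E44973 : n8403 = n8373 := (((D8373).symm.trans (sb E42780 D8403))).symm
theorem E44974 : n8405 = n8375 := (((D8375).symm.trans (sb E42780 D8405))).symm
theorem E44975 : n13109 = n3387 := ((((iv1 D7384)).symm.trans (sb E42781 (iv1 F21873)))).symm
theorem E44977 : n17434 = n15716 := (((D15716).symm.trans (sb E42781 D17434))).symm
theorem F296185 : act 4 n7384 = n3693 := (sb E42781 (iv4 D8192))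
theorem E44978 : n17435 = n15718 := (((D15718).symm.trans (sb E42781 D17435))).symm
theorem E44979 : n17436 = n15719 := (((D15719).symm.trans (sb E42781 D17436))).symm
theorem E44980 : n17437 = n17132 := ((D17437).symm.trans (sb E42782 F30456))
theorem E44981 : n17135 = n17107 := ((F59788).symm.trans (sb E42782 F30482))
theorem E44983 : n70761 = n45214 := (((D45214).symm.trans (sb E42783 (iv1 F107303)))).symm
theorem E44984 : n70831 = n45215 := (((D45215).symm.trans (sb E42783 D70831))).symm
theorem E44985 : n70827 = n45216 := (((D45216).symm.trans (sb E42783 (iv2 F107298)))).symm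
theorem E44987 : n70833 = n45217 := (((D45217).symm.trans (sb E42783 D70833))).symm
theorem E44992 : n122202 = n45219 := (((D45219).symm.trans (sb E42785 D122202))).symm
theorem F296186 : act 1 n35287 = n17429 := (sb E42786 (iv0 D36000))
theorem F296187 : act 3 n35287 = n36646 := (sb E42786 F115906)
theorem E44994 : n77307 = n37275 := ((D77307).symm.trans (sb E42786 F117096))
theorem E44995 : n79106 = n77308 := (((D77308).symm.trans (sb E42786 D79106))).symm
theorem F296188 : act 0 n35292 = n17429 := (sb E42787 (iv1 D36001))
theorem E44996 : n77314 = n56939 := (((iv3 F116117)).symm.trans (sb E42787 F91436))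
theorem E44997 : n77319 = n37276 := ((D77319).symm.trans (sb E42787 (iv4 F117104)))
theorem E45006 : n180996 = n37304 := (((D37304).symm.trans (sb E42791 (iv5 F281811)))).symm
theorem E45008 : n148923 = n37268 := (((D37268).symm.trans (sb E42792 F233998))).symm
theorem E45009 : n183342 = n34579 := ((((iv0 F54855)).symm.trans (sb E42792 D183342))).symm
theorem E45011 : n121971 = n18637 := (((F29914).symm.trans (sb E42792 (iv4 F194770)))).symm
theorem E45016 : n181063 = n37277 := (((D37277).symm.trans (sb E42794 (iv5 F281982)))).symm
theorem E45019 : n170072 = n77644 := ((D170072).symm.trans (sb E42795 F187444))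
theorem E45020 : n82441 = n77645 := (((iv4 F127019)).symm.trans (sb E42796 (iv4 F187442)))
theorem E45021 : n95229 = n79378 := (((D79378).symm.trans (sb E42797 (iv1 F146764)))).symm
theorem E45022 : n95228 = n79379 := (((D79379).symm.trans (sb E42797 F146759))).symm
theorem E45023 : n149487 = n79380 := (((D79380).symm.trans (sb E42797 (iv5 F235110)))).symm
theorem E45030 : n168825 = n87470 := (((D87470).symm.trans (sb E42804 D168825))).symm
theorem E45031 : n95232 = n86387 := ((((iv5 F132417)).symm.trans (sb E42805 D95232))).symm
theorem F296190 : act 6 n39988 = n21154 := (sb E42805 (iv6 D44475))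
theorem E45055 : n37621 = n3614 := (((D3614).symm.trans (sb E42827 D37621))).symm
theorem E45058 : n80675 = n5963 := ((((iv3 F9263)).symm.trans (sb E42829 (iv3 F124105)))).symm
theorem E45061 : n96713 = n21563 := (((D21563).symm.trans (sb E42831 (iv1 F149112)))).symm
theorem F296191 : act 0 n17368 = n16702 := (sb E42837 F29223)
theorem F296192 : act 1 n17368 = n8836 := (sb E42837 (iv0 F29224))
theorem F296193 : act 2 n17368 = n16706 := (sb E42837 F29221)
theorem E45076 : n37677 = n35866 := ((((iv4 F56528)).symm.trans (sb E42837 D37677))).symm
theorem F296194 : act 5 n17368 = n8519 := (sb E42837 (iv5 D18056))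
theorem F296195 : act 7 n17368 = n16705 := (sb E42837 F29222)
theorem E45077 : n18007 = n12805 := (((D12805).symm.trans (sb E42840 (iv4 F29172)))).symm
theorem F296196 : act 6 n6059 = n3800 := (sb E42840 (iv6 D8495))
theorem E45078 : n18099 = n13053 := (((D13053).symm.trans (sb E42841 D18099))).symm
theorem E45081 : n13107 = n13051 := (((D13051).symm.trans (sb E42843 F43008))).symm
theorem F296197 : act 2 n8456 = n10311 := (sb E42844 (iv2 F116974))
theorem E45082 : n38992 = n17918 := (((D17918).symm.trans (sb E42844 (iv6 F60008)))).symm
theorem E45084 : n87512 = n17923 := (((D17923).symm.trans (sb E42845 D87512))).symm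
theorem E45086 : n55483 = n16817 := ((((iv1 F116630)).symm.trans (sb E42846 F134383))).symm
theorem E45091 : n87496 = n45053 := (((D45053).symm.trans (sb E42847 (iv2 F134361)))).symm
theorem E45092 : n87499 = n21320 := (((F33834).symm.trans (sb E42847 D87499))).symm
theorem E45094 : n86608 = n21321 := (((D21321).symm.trans (sb E42848 (iv6 F132853)))).symm
theorem E45095 : n17945 = n17905 := (((D17905).symm.trans (sb E42849 (iv1 F121224)))).symm
theorem F296198 : act 7 n8452 = n13092 := (sb E42849 (iv7 D27321))
theorem F296199 : act 5 n1663 = n2622 := (sb E42850 (iv5 D6240))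
theorem E45097 : n17519 = n17370 := ((((iv4 F28322)).symm.trans (sb E42851 (iv4 F56103)))).symm
theorem E45105 : n76956 = n36059 := ((((iv4 F56799)).symm.trans (sb E42855 (iv4 F115660)))).symm
theorem E45106 : n57211 = n17070 := (((iv6 F90246)).symm.trans (sb E42855 (iv6 D35159)))
theorem E45107 : n36262 = n35768 := ((((iv4 F92679)).symm.trans (sb E42857 (iv4 F57008)))).symm
theorem E45108 : n57924 = n43118 := (((D43118).symm.trans (sb E42857 D57924))).symm
theorem E45109 : n77914 = n43109 := ((((iv3 F67490)).symm.trans (sb E42858 D77914))).symm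
theorem E45111 : n43113 = n17518 := ((D43113).symm.trans (sb E42858 F56230))
theorem F296200 : act 3 n20341 = n34463 := (sb E42859 F56105)
theorem F296201 : act 5 n20341 = n17172 := (sb E42859 (iv5 D35393))
theorem E45113 : n158029 = n84298 := ((D158029).symm.trans (sb E42862 F267139))
theorem E45114 : n158030 = n84293 := ((D158030).symm.trans (sb E42862 (iv0 F267140)))
theorem E45116 : n98211 = n80006 := (((D80006).symm.trans (sb E42863 F267142))).symm
theorem E45117 : n83093 = n34651 := ((D83093).symm.trans (sb E42864 (iv1 F112835)))
theorem E45118 : n58033 = n34455 := (((iv0 F118256)).symm.trans (sb E42864 (iv0 D75262)))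
theorem F296202 : act 6 n37801 = n18462 := (sb E42865 F59006)
theorem E45123 : n83275 = n83129 := (((F128144).symm.trans (sb E42866 F141799))).symm
theorem E45124 : n86172 = n82946 := ((F198995).symm.trans (sb E42866 (iv0 F141800)))
theorem E45125 : n160841 = n82408 := ((D160841).symm.trans (sb E42866 F141798))
theorem F296203 : act 7 n92178 = n79660 := (sb E42867 F253711)
theorem F296204 : act 0 n92182 = n77200 := (sb E42868 F253715)
theorem F296205 : act 1 n92182 = n77044 := (sb E42868 F253716)
theorem F296206 : act 4 n92182 = n158015 := (sb E42868 F253713)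
theorem F296207 : act 7 n92182 = n158015 := (sb E42868 F253714)
theorem E45126 : n158016 = n78841 := ((D158016).symm.trans (sb E42869 F141788))
theorem F296208 : act 7 n75273 = n43102 := (sb E42869 (iv7 D92183))
theorem E45128 : n158017 = n75789 := ((((iv0 F113664)).symm.trans (sb E42870 D158017))).symm
theorem F296209 : act 6 n35893 = n34463 := (sb E42870 (iv6 D75274))
theorem E45140 : n160385 = n18874 := (((D18874).symm.trans (sb E42876 (iv6 F253338)))).symm
theorem E45141 : n124205 = n16707 := (((D16707).symm.trans (sb E42878 (iv4 F198694)))).symm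
theorem E45142 : n27633 = n8730 := ((((iv6 F13634)).symm.trans (sb E42878 (iv6 D57905)))).symm
theorem E45148 : n121266 = n39877 := (((D39877).symm.trans (sb E42880 (iv6 F193367)))).symm
theorem E45149 : n163233 = n84294 := ((D163233).symm.trans (sb E42883 (iv1 F250107)))
theorem E45150 : n158080 = n86210 := (((F256266).symm.trans (sb E42883 (iv0 F250108)))).symm
theorem E45151 : n163234 = n75798 := ((D163234).symm.trans (sb E42883 (iv7 D158851)))
theorem E45152 : n75793 = n38271 := ((((iv6 F59142)).symm.trans (sb E42884 (iv6 D158846)))).symm
theorem E45153 : n75264 = n38269 := (((D38269).symm.trans (sb E42885 F112837))).symm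
theorem E45154 : n38825 = n38272 := (((D38272).symm.trans (sb E42885 (iv7 F125860)))).symm
theorem E45155 : n123370 = n38821 := ((((iv1 F59845)).symm.trans (sb E42886 F197725))).symm
theorem F296210 : act 6 n18457 = n35172 := (sb E42886 F115729)
theorem E45158 : n158826 = n124418 := (((F198993).symm.trans (sb E42887 F250068))).symm
theorem E45159 : n158866 = n38475 := ((D158866).symm.trans (sb E42887 (iv0 D83460)))
theorem E45160 : n158867 = n38823 := ((D158867).symm.trans (sb E42887 (iv7 F128571)))
theorem F296211 : act 6 n157882 = n75280 := (sb E42888 (iv6 D158034))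
theorem F296212 : act 2 n157883 = n92182 := (sb E42889 F248978)
theorem E45161 : n164080 = n160612 := (((D160612).symm.trans (sb E42890 (iv6 F258584)))).symm
theorem E45163 : n164081 = n35891 := (((F119998).symm.trans (sb E42891 F258593))).symm
theorem F296213 : act 6 n78829 = n38853 := (sb E42891 (iv6 D84247))
theorem F296214 : act 3 n6223 = n4036 := (sb E42892 F14041)
theorem F296215 : act 5 n6223 = n4035 := (sb E42892 (iv5 D9005))
theorem E45164 : n19160 = n3791 := (((F9693).symm.trans (sb E42892 D19160))).symm
theorem E45165 : n16417 = n12872 := (((F21375).symm.trans (sb E42893 F42171))).symm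
theorem E45166 : n17615 = n8794 := ((D17615).symm.trans (sb E42893 (iv6 D18764)))
theorem E45167 : n13074 = n6148 := ((((iv7 F12822)).symm.trans (sb E42894 (iv7 F29751)))).symm
theorem E45168 : n40296 = n18543 := ((D40296).symm.trans (sb E42895 (iv6 F44759)))
theorem E45169 : n13151 = n3931 := ((D13151).symm.trans (sb E42896 (iv6 D8826)))
theorem E45170 : n16420 = n12862 := ((((iv1 F21344)).symm.trans (sb E42897 (iv1 F53094)))).symm
theorem E45171 : n12743 = n3704 := ((((iv0 D8222)).symm.trans (sb E42897 (iv0 D26677)))).symm
theorem E45172 : n55032 = n17475 := (((D17475).symm.trans (sb E42897 (iv3 F130336)))).symm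
theorem E45173 : n17476 = n15993 := ((D17476).symm.trans (sb E42897 F42742))
theorem E45174 : n18685 = n17477 := (((D17477).symm.trans (sb E42897 F42746))).symm
theorem E45176 : n13188 = n6303 := (((F13678).symm.trans (sb E42898 F117247))).symm
theorem F296216 : act 3 n8800 = n18130 := (sb E42898 F43905)
theorem F296217 : act 6 n8800 = n13008 := (sb E42898 (iv6 D27155))
theorem F296218 : act 6 n8920 = n17880 := (sb E42899 F44762)
theorem F296219 : act 5 n3630 = n3809 := (sb E42901 (iv5 D8531))
theorem E45180 : n83236 = n18275 := (((D18275).symm.trans (sb E42902 F269776))).symm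
theorem E45181 : n37937 = n18276 := (((D18276).symm.trans (sb E42903 (iv1 F59652)))).symm
theorem E45184 : n84213 = n35605 := (((D35605).symm.trans (sb E42904 (iv3 F129280)))).symm
theorem E45185 : n35606 = n18456 := ((D35606).symm.trans (sb E42904 (iv6 D38836)))
theorem F296220 : act 6 n8677 = n17075 := (sb E42905 (iv6 D35171))
theorem E45186 : n79370 = n54987 := ((D79370).symm.trans (sb E42906 (iv0 D119521)))
theorem E45187 : n83725 = n79372 := (((D79372).symm.trans (sb E42906 F191074))).symm
theorem E45188 : n82426 = n75649 := ((D82426).symm.trans (sb E42907 F113511))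
theorem E45189 : n82427 = n38754 := ((D82427).symm.trans (sb E42907 (iv7 F59658)))
theorem E45190 : n18424 = n18416 := (((D18416).symm.trans (sb E42908 (iv4 F29585)))).symm
theorem E45191 : n18417 = n8615 := ((D18417).symm.trans (sb E42908 F13579))
theorem F296221 : act 0 n18265 = n18130 := (sb E42909 (iv1 D37811))
theorem E45192 : n82428 = n38233 := (((D38233).symm.trans (sb E42909 D82428))).symm
theorem F296222 : act 7 n18427 = n18130 := (sb E42910 (iv7 D37812))
theorem E45197 : n171743 = n17986 := (((F29152).symm.trans (sb E42912 (iv0 F269720)))).symm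
theorem E45199 : n57245 = n17997 := (((D17997).symm.trans (sb E42912 F196923))).symm
theorem E45200 : n13297 = n13158 := (((iv1 F124341)).symm.trans (sb E42913 (iv1 F44327)))
theorem E45201 : n17999 = n13129 := ((D17999).symm.trans (sb E42913 (iv0 D27419)))
theorem E45202 : n57246 = n18000 := (((D18000).symm.trans (sb E42913 D57246))).symm
theorem E45203 : n18001 = n13156 := ((D18001).symm.trans (sb E42913 (iv7 F91018)))
theorem E45204 : n82942 = n81849 := (((D81849).symm.trans (sb E42917 F271209))).symm
theorem E45205 : n82943 = n81851 := (((D81851).symm.trans (sb E42918 D82943))).symm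
theorem E45206 : n78100 = n18335 := (((iv7 F124369)).symm.trans (sb E42918 F59551))
theorem F296223 : act 1 n8641 = n17993 := (sb E42919 (iv0 D37475))
theorem E45207 : n35610 = n18327 := ((((iv4 F29522)).symm.trans (sb E42919 F124380))).symm
theorem E45208 : n81854 = n18341 := ((((iv5 F29528)).symm.trans (sb E42919 D81854))).symm
theorem F296224 : act 0 n8608 = n17993 := (sb E42920 (iv1 D37476))
theorem E45210 : n35611 = n18243 := ((((iv4 F29431)).symm.trans (sb E42920 F124358))).symm
theorem E45211 : n81858 = n58235 := ((D81858).symm.trans (sb E42921 F117926))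
theorem E45212 : n75711 = n58234 := (((iv0 F117616)).symm.trans (sb E42921 F117927))
theorem E45213 : n82944 = n81859 := (((D81859).symm.trans (sb E42921 D82944))).symm
theorem E45214 : n81860 = n18336 := ((D81860).symm.trans (sb E42921 F59553))
theorem F296225 : act 7 n8639 = n17993 := (sb E42922 (iv7 D37478))
theorem E45215 : n12993 = n12601 := (((F42177).symm.trans (sb E42924 (iv4 F21617)))).symm
theorem E45216 : n18013 = n13075 := (((D13075).symm.trans (sb E42924 D18013))).symm
theorem E45217 : n12990 = n12604 := ((((iv1 F20989)).symm.trans (sb E42925 (iv1 F21607)))).symm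
theorem E45218 : n17762 = n15986 := (((D15986).symm.trans (sb E42925 D17762))).symm
theorem E45219 : n17763 = n15987 := (((D15987).symm.trans (sb E42925 D17763))).symm
theorem E45220 : n35313 = n12835 := ((((iv1 F30019)).symm.trans (sb E42926 D35313))).symm
theorem E45221 : n35127 = n16850 := ((((iv0 F43192)).symm.trans (sb E42926 F117579))).symm
theorem E45222 : n35315 = n8709 := (((F13621).symm.trans (sb E42926 D35315))).symm
theorem E45224 : n75773 = n75369 := ((((iv4 F113103)).symm.trans (sb E42927 D75773))).symm
theorem E45225 : n75774 = n58056 := ((((iv5 F117715)).symm.trans (sb E42927 D75774))).symm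
theorem E45226 : n77050 = n75763 := ((((iv4 F113619)).symm.trans (sb E42928 F117570))).symm
theorem E45230 : n82439 = n38363 := (((D38363).symm.trans (sb E42929 D82439))).symm
theorem F296226 : act 6 n18306 = n35312 := (sb E42929 F58672)
theorem E45233 : n57173 = n18025 := (((D18025).symm.trans (sb E42931 D57173))).symm
theorem E45234 : n55373 = n12827 := ((((iv1 F117201)).symm.trans (sb E42932 F90191))).symm
theorem E45235 : n35125 = n16839 := ((((iv0 F117202)).symm.trans (sb E42932 (iv0 F91060)))).symm
theorem F296227 : act 1 n34495 = n18022 := (sb E42933 F117257)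
theorem E45237 : n75358 = n36654 := ((D75358).symm.trans (sb E42933 (iv4 F113063)))
theorem E45239 : n75370 = n36655 := (((F57526).symm.trans (sb E42934 D75370))).symm
theorem E45240 : n82763 = n77045 := (((D77045).symm.trans (sb E42936 D82763))).symm
theorem E45241 : n77639 = n77046 := (((D77046).symm.trans (sb E42936 (iv0 F186529)))).symm
theorem E45242 : n82765 = n60062 := ((((iv2 F94598)).symm.trans (sb E42936 D82765))).symm
theorem E45243 : n82766 = n77047 := (((D77047).symm.trans (sb E42936 D82766))).symm
theorem E45244 : n82767 = n77048 := (((D77048).symm.trans (sb E42936 D82767))).symm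
theorem E45245 : n82771 = n77049 := (((D77049).symm.trans (sb E42937 D82771))).symm
theorem E45246 : n77051 = n38314 := ((D77051).symm.trans (sb E42938 F59172))
theorem E45247 : n77052 = n75760 := ((D77052).symm.trans (sb E42938 (iv7 F127712)))
theorem E45249 : n82774 = n16194 := (((F25744).symm.trans (sb E42939 D82774))).symm
theorem E45251 : n36936 = n7239 := ((((iv4 D15291)).symm.trans (sb E42939 F118561))).symm
theorem E45253 : n82777 = n32388 := (((D32388).symm.trans (sb E42939 D82777))).symm
theorem E45254 : n82779 = n36653 := (((D36653).symm.trans (sb E42940 D82779))).symm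
theorem E45255 : n38742 = n36656 := (((D36656).symm.trans (sb E42941 (iv5 F59816)))).symm
theorem E45256 : n75730 = n36657 := (((D36657).symm.trans (sb E42941 (iv7 F118487)))).symm
theorem E45257 : n82726 = n77108 := (((iv1 F127492)).symm.trans (sb E42942 (iv1 F123601)))
theorem E45258 : n82723 = n77107 := (((iv2 F186408)).symm.trans (sb E42942 (iv2 F128188)))
theorem E45259 : n82736 = n72622 := ((D82736).symm.trans (sb E42942 F123600))
theorem E45260 : n82737 = n82499 := ((D82737).symm.trans (sb E42942 F127152))
theorem E45261 : n119058 = n82738 := (((D82738).symm.trans (sb E42942 (iv5 F187324)))).symm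
theorem E45263 : n82724 = n77106 := (((iv7 F186412)).symm.trans (sb E42942 F128191))
theorem E45264 : n97188 = n54823 := ((((iv3 F191013)).symm.trans (sb E42943 (iv3 F149941)))).symm
theorem E45265 : n82742 = n80120 := ((D82742).symm.trans (sb E42943 (iv4 F123602)))
theorem E45266 : n96658 = n82743 := (((D82743).symm.trans (sb E42943 (iv5 F148961)))).symm
theorem E45268 : n82725 = n71887 := ((D82725).symm.trans (sb E42944 F123606))
theorem E45269 : n114718 = n82745 := (((D82745).symm.trans (sb E42945 (iv1 F178820)))).symm
theorem E45270 : n82746 = n81616 := ((D82746).symm.trans (sb E42945 (iv0 F125531)))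
theorem E45271 : n149618 = n82747 := (((D82747).symm.trans (sb E42945 (iv4 F235208)))).symm
theorem E45273 : n77110 = n75485 := ((D77110).symm.trans (sb E42946 (iv6 F113294)))
theorem F296228 : act 7 n35210 = n18204 := (sb E42946 (iv7 D38032))
theorem F296229 : act 1 n35608 = n18208 := (sb E42947 (iv0 D38047))
theorem E45275 : n82784 = n78070 := (((D78070).symm.trans (sb E42947 D82784))).symm
theorem F296230 : act 0 n17248 = n18208 := (sb E42948 (iv1 D38048))
theorem E45277 : n82788 = n35609 := (((D35609).symm.trans (sb E42948 D82788))).symm
theorem E45281 : n36723 = n18165 := ((((iv1 F54800)).symm.trans (sb E42950 F117814))).symm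
theorem E45282 : n27151 = n18164 := (((F54801).symm.trans (sb E42950 F117815))).symm
theorem E45283 : n77114 = n75503 := ((((iv5 F113313)).symm.trans (sb E42950 D77114))).symm
theorem F296231 : act 6 n34546 = n17091 := (sb E42950 (iv6 D35212))
theorem E45287 : n13105 = n13061 := ((F121199).symm.trans (sb E42952 (iv3 D27269)))
theorem E45288 : n38263 = n18171 := (((D18171).symm.trans (sb E42952 (iv5 F117823)))).symm
theorem E45305 : n35259 = n6112 := ((((iv6 F9490)).symm.trans (sb E42960 (iv6 D77235)))).symm
theorem E45311 : n120943 = n26957 := (((D26957).symm.trans (sb E42963 (iv3 F192866)))).symm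
theorem F296232 : act 6 n12898 = n26919 := (sb E42963 (iv6 D55782))
theorem E45313 : n36269 = n8122 := (((D8122).symm.trans (sb E42964 F88228))).symm
theorem E45315 : n160388 = n56642 := ((((iv4 F89574)).symm.trans (sb E42966 F263141))).symm
theorem E45316 : n80207 = n79948 := (((D79948).symm.trans (sb E42966 (iv6 D167074)))).symm
theorem E45317 : n177008 = n79580 := ((((iv1 F122221)).symm.trans (sb E42968 F276410))).symm
theorem E45318 : n81646 = n79951 := (((D79951).symm.trans (sb E42968 (iv6 D170239)))).symm
theorem E45319 : n79578 = n26948 := (((F118523).symm.trans (sb E42969 (iv1 F133625)))).symm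
theorem F296233 : act 1 n40214 = n75167 := (sb E42970 (iv0 D157763))
theorem E45321 : n95257 = n86447 := ((((iv6 F132561)).symm.trans (sb E42970 (iv6 F248651)))).symm
theorem E45322 : n95249 = n36381 := (((F118848).symm.trans (sb E42971 (iv1 F146822)))).symm
theorem F296234 : act 0 n40215 = n75167 := (sb E42972 (iv1 D157764))
theorem F296235 : act 6 n42869 = n86134 := (sb E42973 (iv6 D180347))
theorem E45384 : n37770 = n3852 := ((((iv5 F295739)).symm.trans (sb E43026 D37770))).symm
theorem E45450 : n81061 = n8564 := (((D8564).symm.trans (sb E43116 D81061))).symm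
theorem E45452 : n37830 = n8566 := (((D8566).symm.trans (sb E43116 F117981))).symm
theorem F296236 : act 7 n3837 = n8552 := (sb E43117 (iv7 D18139))
theorem E45473 : n85893 = n6251 := (((D6251).symm.trans (sb E43133 (iv4 F131767)))).symm
theorem E45476 : n124419 = n8605 := (((D8605).symm.trans (sb E43136 F269148))).symm
theorem E45480 : n165383 = n6016 := ((((iv3 F9344)).symm.trans (sb E43141 F281322))).symm
theorem E45482 : n86326 = n8664 := (((D8664).symm.trans (sb E43141 (iv6 D180733)))).symm
theorem E45483 : n38156 = n8676 := (((D8676).symm.trans (sb E43142 F120923))).symm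
theorem E45484 : n123362 = n8678 := (((D8678).symm.trans (sb E43142 D123362))).symm
theorem E45486 : n34771 = n17049 := (((D17049).symm.trans (sb E43144 F117450))).symm
theorem E45487 : n158237 = n34451 := (((D34451).symm.trans (sb E43145 D158237))).symm
theorem E45490 : n158014 = n34453 := (((D34453).symm.trans (sb E43146 (iv1 F249236)))).symm
theorem E45491 : n158213 = n34454 := (((D34454).symm.trans (sb E43146 (iv0 F249234)))).symm
theorem E45492 : n83134 = n34456 := (((D34456).symm.trans (sb E43146 (iv7 F128156)))).symm
theorem E45493 : n158243 = n7828 := (((D7828).symm.trans (sb E43147 D158243))).symm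
theorem E45496 : n34618 = n7832 := (((D7832).symm.trans (sb E43148 F122575))).symm
theorem E45501 : n152378 = n33263 := (((F52497).symm.trans (sb E43149 (iv2 F239573)))).symm
theorem F296237 : act 6 n16740 = n34503 := (sb E43149 (iv6 D75379))
theorem E45504 : n158232 = n34511 := (((D34511).symm.trans (sb E43150 (iv6 F249273)))).symm
theorem E45532 : n85794 = n8480 := (((D8480).symm.trans (sb E43166 (iv4 F131585)))).symm
theorem E45533 : n18762 = n8481 := (((D8481).symm.trans (sb E43166 (iv6 D39627)))).symm
theorem E45534 : n27387 = n6215 := (((D6215).symm.trans (sb E43169 (iv4 F44277)))).symm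
theorem E45536 : n123435 = n6279 := (((D6279).symm.trans (sb E43170 (iv4 F197815)))).symm
theorem E45537 : n81812 = n6280 := (((D6280).symm.trans (sb E43170 F125755))).symm
theorem E45539 : n57829 = n27236 := (((D27236).symm.trans (sb E43172 (iv6 D124108)))).symm
theorem E45540 : n13190 = n6301 := ((((iv1 F117177)).symm.trans (sb E43173 (iv1 F44506)))).symm
theorem E45541 : n13185 = n8805 := (((F117172).symm.trans (sb E43173 (iv0 D27602)))).symm
theorem F296238 : act 3 n13049 = n18426 := (sb E43173 (iv3 F120574))
theorem E45542 : n27510 = n8804 := ((((iv7 F117174)).symm.trans (sb E43173 F90612))).symm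
theorem E45545 : n37084 = n3631 := (((D3631).symm.trans (sb E43174 (iv5 F58004)))).symm
theorem E45558 : n62898 = n8303 := (((D8303).symm.trans (sb E43180 (iv4 F98119)))).symm
theorem E45560 : n13020 = n3733 := (((D3733).symm.trans (sb E43181 F43938))).symm
theorem E45561 : n56116 = n3638 := ((((iv1 F9573)).symm.trans (sb E43182 F133166))).symm
theorem E45563 : n40269 = n12953 := (((D12953).symm.trans (sb E43182 (iv6 D86841)))).symm
theorem E45566 : n77838 = n40032 := (((D40032).symm.trans (sb E43184 (iv6 D162038)))).symm
theorem E45569 : n57834 = n27659 := (((D27659).symm.trans (sb E43186 (iv6 D124111)))).symm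
theorem E45570 : n57739 = n40053 := ((((iv1 F91425)).symm.trans (sb E43187 (iv1 F133148)))).symm
theorem E45571 : n79828 = n40194 := ((((iv0 F91422)).symm.trans (sb E43187 (iv0 F133147)))).symm
theorem E45573 : n56125 = n39707 := ((((iv7 F91164)).symm.trans (sb E43187 F133144))).symm
theorem E45574 : n123429 = n27657 := (((D27657).symm.trans (sb E43190 (iv3 F197803)))).symm
theorem E45576 : n27658 = n27497 := ((D27658).symm.trans (sb E43190 (iv6 D57494)))
theorem E45577 : n56620 = n55354 := ((D56620).symm.trans (sb E43191 F120838))
theorem E45578 : n40210 = n35104 := (((iv0 F126109)).symm.trans (sb E43191 F120839))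
theorem E45579 : n123430 = n56622 := (((D56622).symm.trans (sb E43191 D123430))).symm
theorem E45580 : n56623 = n55352 := ((D56623).symm.trans (sb E43191 F120842))
theorem E45581 : n35539 = n8034 := (((D8034).symm.trans (sb E43192 (iv6 F56208)))).symm
theorem E45584 : n120342 = n22395 := (((D22395).symm.trans (sb E43193 D120342))).symm
theorem E45585 : n122614 = n35305 := (((D35305).symm.trans (sb E43194 (iv1 F196756)))).symm
theorem E45586 : n122810 = n35306 := (((D35306).symm.trans (sb E43194 D122810))).symm
theorem E45587 : n35537 = n35307 := (((D35307).symm.trans (sb E43194 F120746))).symm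
theorem E45589 : n120343 = n22508 := ((((iv3 F35062)).symm.trans (sb E43195 D120343))).symm
theorem E45591 : n120345 = n27257 := (((D27257).symm.trans (sb E43195 D120345))).symm
theorem E45592 : n80438 = n75198 := (((D75198).symm.trans (sb E43196 (iv1 F192240)))).symm
theorem E45593 : n80204 = n35290 := ((((iv0 F114048)).symm.trans (sb E43196 (iv0 F192237)))).symm
theorem E45595 : n54605 = n9084 := (((F14158).symm.trans (sb E43197 (iv3 F86295)))).symm
theorem E45597 : n56827 = n18016 := (((D18016).symm.trans (sb E43197 D56827))).symm
theorem E45605 : n57703 = n45799 := (((D45799).symm.trans (sb E43199 (iv6 F90881)))).symm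
theorem E45607 : n55441 = n21934 := (((D21934).symm.trans (sb E43200 F120763))).symm
theorem E45608 : n17658 = n17653 := (((F118884).symm.trans (sb E43201 (iv1 D36631)))).symm
theorem E45609 : n27328 = n21936 := (((D21936).symm.trans (sb E43201 F121298))).symm
theorem E45614 : n164046 = n27639 := ((((iv1 D57921)).symm.trans (sb E43212 (iv1 F258510)))).symm
theorem E45615 : n92214 = n27642 := (((F91641).symm.trans (sb E43212 (iv0 F141843)))).symm
theorem E45616 : n180394 = n124230 := (((D124230).symm.trans (sb E43212 (iv3 F280732)))).symm
theorem E45618 : n79794 = n8054 := (((D8054).symm.trans (sb E43213 (iv5 F122505)))).symm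
theorem E45619 : n35558 = n17151 := ((((iv0 F28099)).symm.trans (sb E43214 D35558))).symm
theorem E45622 : n78811 = n26751 := ((((iv1 D55357)).symm.trans (sb E43216 F126197))).symm
theorem E45654 : n39828 = n6260 := (((F21924).symm.trans (sb E43235 F126487))).symm
theorem E45655 : n171283 = n27455 := (((D27455).symm.trans (sb E43235 (iv3 F269001)))).symm
theorem E45656 : n37607 = n27345 := ((((iv5 F44248)).symm.trans (sb E43235 (iv5 D82073)))).symm
theorem E45657 : n58521 = n27456 := (((D27456).symm.trans (sb E43235 F126488))).symm
theorem E45658 : n86469 = n44586 := (((F91150).symm.trans (sb E43236 F201061))).symm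
theorem E45660 : n56108 = n12955 := (((D12955).symm.trans (sb E43239 (iv4 F88770)))).symm
theorem E45661 : n12961 = n12956 := (((D12956).symm.trans (sb E43239 (iv6 D27054)))).symm
theorem E45673 : n171298 = n27453 := (((D27453).symm.trans (sb E43244 (iv3 F269019)))).symm
theorem E45674 : n37608 = n27344 := ((((iv5 F44245)).symm.trans (sb E43244 (iv5 D82078)))).symm
theorem E45675 : n39087 = n27454 := (((D27454).symm.trans (sb E43244 F126490))).symm
theorem E45676 : n44492 = n40093 := (((iv1 F126170)).symm.trans (sb E43245 (iv1 F118393)))
theorem E45677 : n56101 = n35572 := ((((iv5 F56254)).symm.trans (sb E43245 D56101))).symm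
theorem E45678 : n56047 = n39126 := ((D56047).symm.trans (sb E43245 (iv7 F91536)))
theorem E45679 : n8510 = n6244 := (((F21864).symm.trans (sb E43247 (iv0 D18034)))).symm
theorem E45680 : n37598 = n27336 := (((D27336).symm.trans (sb E43247 D37598))).symm
theorem E45681 : n37600 = n27337 := (((D27337).symm.trans (sb E43247 D37600))).symm
theorem E45682 : n37601 = n27338 := (((D27338).symm.trans (sb E43247 D37601))).symm
theorem E45683 : n81006 = n80195 := (((D80195).symm.trans (sb E43248 F132468))).symm
theorem E45686 : n56424 = n8045 := (((D8045).symm.trans (sb E43249 D56424))).symm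
theorem E45687 : n37603 = n27333 := (((D27333).symm.trans (sb E43250 D37603))).symm
theorem E45688 : n37605 = n27334 := (((D27334).symm.trans (sb E43250 D37605))).symm
theorem E45689 : n37606 = n27335 := (((D27335).symm.trans (sb E43250 D37606))).symm
theorem E45690 : n80161 = n35347 := (((D35347).symm.trans (sb E43251 F152293))).symm
theorem E45692 : n81942 = n35109 := (((D35109).symm.trans (sb E43252 D81942))).symm
theorem E45694 : n76116 = n35110 := (((D35110).symm.trans (sb E43252 (iv6 F117453)))).symm
theorem E45695 : n41689 = n12812 := (((D12812).symm.trans (sb E43253 F286743))).symm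
theorem E45697 : n76097 = n12814 := (((D12814).symm.trans (sb E43253 (iv6 F117509)))).symm
theorem E45698 : n180880 = n55423 := (((D55423).symm.trans (sb E43254 D180880))).symm
theorem E45700 : n100804 = n55425 := (((D55425).symm.trans (sb E43254 (iv2 F154900)))).symm
theorem F296239 : act 4 n26773 = n40008 := (sb E43254 F132442)
theorem F296240 : act 6 n26773 = n39999 := (sb E43254 (iv6 D86394))
theorem E45702 : n82093 = n27326 := ((((iv7 F44224)).symm.trans (sb E43254 (iv7 F132443)))).symm
theorem E45706 : n180885 = n55428 := (((D55428).symm.trans (sb E43255 (iv6 F281623)))).symm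
theorem F296241 : act 3 n13097 = n17723 := (sb E43257 F118648)
theorem F296242 : act 7 n13097 = n21886 := (sb E43257 F118858)
theorem E45709 : n84505 = n40034 := (((D40034).symm.trans (sb E43260 (iv6 F199256)))).symm
theorem E45711 : n96179 = n17298 := ((((iv0 F118775)).symm.trans (sb E43261 F148214))).symm
theorem E45713 : n44498 = n40038 := (((D40038).symm.trans (sb E43262 (iv6 D95256)))).symm
theorem F296243 : act 0 n18929 = n10085 := (sb E43263 (iv1 D21161))
theorem E45715 : n85637 = n40048 := (((D40048).symm.trans (sb E43264 (iv6 D179500)))).symm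
theorem E45718 : n85639 = n40050 := (((D40050).symm.trans (sb E43266 D85639))).symm
theorem E45719 : n40051 = n39554 := ((D40051).symm.trans (sb E43266 (iv7 F131266)))
theorem E45720 : n81537 = n40054 := (((D40054).symm.trans (sb E43267 (iv4 F125410)))).symm
theorem E45721 : n85651 = n40057 := (((D40057).symm.trans (sb E43268 (iv4 F131360)))).symm
theorem E45725 : n79496 = n5124 := ((((iv3 F7641)).symm.trans (sb E43273 (iv3 F122089)))).symm
theorem E45727 : n17490 = n5125 := (((D5125).symm.trans (sb E43273 (iv6 D36196)))).symm
theorem E45728 : n17456 = n8916 := (((D8916).symm.trans (sb E43274 (iv1 F28450)))).symm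
theorem E45729 : n8917 = n3705 := ((D8917).symm.trans (sb E43274 (iv0 D8226)))
theorem E45730 : n17491 = n8125 := ((((iv5 F12891)).symm.trans (sb E43274 D17491))).symm
theorem E45734 : n79479 = n23910 := (((D23910).symm.trans (sb E43279 (iv6 D165491)))).symm
theorem F296244 : act 2 n18974 = n27709 := (sb E43281 F118129)
theorem E45737 : n79480 = n40168 := (((D40168).symm.trans (sb E43281 D79480))).symm
theorem E45738 : n40165 = n27710 := (((iv7 F61059)).symm.trans (sb E43281 F118130))
theorem E45739 : n58149 = n40206 := (((D40206).symm.trans (sb E43282 F118429))).symm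
theorem F296245 : act 7 n18986 = n21430 := (sb E43282 F120804)
theorem F296246 : act 2 n18987 = n21430 := (sb E43283 (iv2 F33655))
theorem E45740 : n44480 = n40211 := (((D40211).symm.trans (sb E43283 (iv4 F69998)))).symm
theorem F296247 : act 6 n18987 = n10083 := (sb E43283 (iv6 D21157))
theorem E45741 : n79482 = n35812 := (((D35812).symm.trans (sb E43284 D79482))).symm
theorem E45742 : n79483 = n35813 := (((D35813).symm.trans (sb E43284 D79483))).symm
theorem E45743 : n79484 = n35811 := ((((iv4 F56471)).symm.trans (sb E43284 D79484))).symm
theorem F296248 : act 0 n18985 = n21430 := (sb E43285 (iv1 F120826))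
theorem E45749 : n96795 = n80455 := (((D80455).symm.trans (sb E43287 D96795))).symm
theorem E45752 : n96739 = n76854 := (((F115388).symm.trans (sb E43289 (iv1 F149271)))).symm
theorem E45753 : n96801 = n80456 := (((D80456).symm.trans (sb E43289 D96801))).symm
theorem E45754 : n84353 = n80457 := (((D80457).symm.trans (sb E43289 F129415))).symm
theorem E45756 : n81593 = n80459 := (((D80459).symm.trans (sb E43290 (iv4 F125490)))).symm
theorem E45757 : n164632 = n78310 := ((((iv5 F119520)).symm.trans (sb E43290 D164632))).symm
theorem E45758 : n177401 = n80460 := (((D80460).symm.trans (sb E43291 (iv4 F276798)))).symm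
theorem E45759 : n78326 = n78211 := (((iv5 F119537)).symm.trans (sb E43291 F195245))
theorem F296249 : act 0 n36413 = n44509 := (sb E43292 (iv1 D95278))
theorem E45761 : n80652 = n7381 := (((D7381).symm.trans (sb E43294 D80652))).symm
theorem E45763 : n80654 = n7382 := (((D7382).symm.trans (sb E43294 D80654))).symm
theorem E45765 : n35250 = n8015 := (((D8015).symm.trans (sb E43295 F118512))).symm
theorem E45771 : n96806 = n32803 := (((D32803).symm.trans (sb E43296 D96806))).symm
theorem E45774 : n35280 = n34733 := ((D35280).symm.trans (sb E43298 F124047))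
theorem E45775 : n96703 = n35281 := (((D35281).symm.trans (sb E43298 F149066))).symm
theorem E45776 : n58585 = n35282 := (((D35282).symm.trans (sb E43298 (iv5 F92561)))).symm
theorem E45777 : n85606 = n35283 := (((D35283).symm.trans (sb E43298 (iv7 F131248)))).symm
theorem E45780 : n81628 = n35291 := (((D35291).symm.trans (sb E43300 (iv4 F125538)))).symm
theorem E45781 : n81614 = n81598 := (((D81598).symm.trans (sb E43302 (iv0 F149235)))).symm
theorem E45782 : n177418 = n81601 := (((D81601).symm.trans (sb E43302 (iv6 F276837)))).symm
theorem E45783 : n169811 = n81603 := (((D81603).symm.trans (sb E43304 F267233))).symm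
theorem E45785 : n81575 = n69811 := (((F106238).symm.trans (sb E43305 F286770))).symm
theorem E45789 : n170075 = n15993 := (E43310).trans E45173
theorem E45790 : n29289 = n22101 := (((iv4 F46931)).symm.trans (sb E45789 (tr F267571 E44635)))
theorem E45791 : n81756 = n36153 := (((D36153).symm.trans (sb E43312 F149294))).symm
theorem F296250 : act 5 n45804 = n81443 := (sb E43316 (iv5 D169832))
theorem E45792 : n39985 = n17946 := ((D39985).symm.trans (sb E43318 (iv1 F58300)))
theorem E45793 : n39986 = n17941 := ((D39986).symm.trans (sb E43318 (iv0 D37373)))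
theorem E45794 : n81757 = n39987 := (((D39987).symm.trans (sb E43318 D81757))).symm
theorem E45795 : n39991 = n37250 := ((D39991).symm.trans (sb E43319 F121332))
theorem E45796 : n84433 = n39992 := (((D39992).symm.trans (sb E43319 (iv5 F129576)))).symm
theorem E45798 : n12996 = n3743 := ((((iv3 D8338)).symm.trans (sb E43320 (iv3 D27131)))).symm
theorem E45799 : n37249 = n17725 := (((D17725).symm.trans (sb E43320 (iv4 F58196)))).symm
theorem E45800 : n56334 = n17726 := (((D17726).symm.trans (sb E43320 D56334))).symm
theorem F296251 : act 3 n6190 = n2606 := (sb E43324 F9649)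
theorem E45806 : n16412 = n12949 := (((D12949).symm.trans (sb E43329 (iv6 D33960)))).symm
theorem E45807 : n77385 = n3643 := (((D3643).symm.trans (sb E43330 (iv6 F193679)))).symm
theorem E45808 : n174334 = n8656 := (((F13562).symm.trans (sb E43331 (iv3 F273129)))).symm
theorem E45810 : n38383 = n17176 := (((D17176).symm.trans (sb E43331 (iv6 D83325)))).symm
theorem E45811 : n17177 = n12964 := ((D17177).symm.trans (sb E43332 (iv1 F43674)))
theorem E45812 : n56020 = n17179 := (((D17179).symm.trans (sb E43332 D56020))).symm
theorem E45813 : n17180 = n12962 := ((D17180).symm.trans (sb E43332 F91543))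
theorem E45818 : n56890 = n40089 := (((D40089).symm.trans (sb E43339 (iv6 D122566)))).symm
theorem E45820 : n170673 = n41375 := (((D41375).symm.trans (sb E43341 F268159))).symm
theorem E45821 : n77841 = n17205 := ((((iv1 F118760)).symm.trans (sb E43342 F253185))).symm
theorem E45822 : n77829 = n41377 := (((D41377).symm.trans (sb E43342 F253187))).symm
theorem E45824 : n124199 = n7266 := ((((iv3 F11573)).symm.trans (sb E43343 (iv3 F198688)))).symm
theorem E45827 : n123283 = n27652 := (((D27652).symm.trans (sb E43344 F269738))).symm
theorem E45828 : n27386 = n8509 := (((F13279).symm.trans (sb E43345 (iv1 D57134)))).symm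
theorem E45833 : n27889 = n27500 := (((iv1 F125917)).symm.trans (sb E43346 (iv1 F90305)))
theorem E45834 : n37496 = n27418 := (((iv0 F125918)).symm.trans (sb E43346 (iv0 D57239)))
theorem E45835 : n123026 = n10493 := (((F29812).symm.trans (sb E43346 D123026))).symm
theorem E45836 : n123027 = n39112 := (((D39112).symm.trans (sb E43346 D123027))).symm
theorem E45837 : n39113 = n27498 := ((D39113).symm.trans (sb E43346 F120847))
theorem E45838 : n57274 = n56624 := ((((iv4 F126116)).symm.trans (sb E43347 F115283))).symm
theorem E45839 : n124229 = n77531 := (((D77531).symm.trans (sb E43347 (iv5 F198714)))).symm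
theorem F296252 : act 0 n26749 = n17174 := (sb E43348 (iv1 D35399))
theorem E45841 : n56625 = n13166 := (((F42977).symm.trans (sb E43348 (iv4 F125913)))).symm
theorem E45842 : n79819 = n77539 := (((D77539).symm.trans (sb E43349 F197867))).symm
theorem E45843 : n178209 = n77540 := (((D77540).symm.trans (sb E43349 (iv4 F277759)))).symm
theorem E45844 : n77541 = n56124 := ((D77541).symm.trans (sb E43349 F191517))
theorem F296253 : act 7 n27056 = n17174 := (sb E43350 (iv7 D35401))
theorem E45845 : n120334 = n27240 := (((D27240).symm.trans (sb E43353 (iv3 F191641)))).symm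
theorem E45846 : n27350 = n27241 := (((D27241).symm.trans (sb E43353 F87664))).symm
theorem E45847 : n27382 = n7377 := ((((iv3 F11672)).symm.trans (sb E43354 (iv3 F44276)))).symm
theorem E45848 : n122879 = n22511 := ((((iv1 F35072)).symm.trans (sb E43355 D122879))).symm
theorem E45849 : n100415 = n22510 := (((F35069).symm.trans (sb E43355 (iv0 F242242)))).symm
theorem E45851 : n122882 = n22236 := (((F34697).symm.trans (sb E43355 D122882))).symm
theorem E45852 : n122883 = n37583 := (((D37583).symm.trans (sb E43355 D122883))).symm
theorem E45857 : n120328 = n37548 := ((((iv1 F117327)).symm.trans (sb E43357 (iv1 F192035)))).symm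
theorem E45858 : n120548 = n34794 := ((((iv0 F91497)).symm.trans (sb E43357 F192034))).symm
theorem E45859 : n57385 = n37586 := (((D37586).symm.trans (sb E43357 F90565))).symm
theorem E45861 : n56700 = n55468 := (((iv4 F117589)).symm.trans (sb E43358 F116231))
theorem E45862 : n98155 = n77835 := ((D98155).symm.trans (sb E43358 (iv5 F123183)))
theorem E45863 : n177545 = n56701 := ((((iv4 F117583)).symm.trans (sb E43359 (iv4 F276988)))).symm
theorem E45864 : n80481 = n77834 := ((D80481).symm.trans (sb E43359 (iv5 D162033)))
theorem E45866 : n120263 = n79971 := ((((iv0 F126135)).symm.trans (sb E43360 F191485))).symm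
theorem E45867 : n86344 = n57437 := (((iv4 F132336)).symm.trans (sb E43360 F135916))
theorem E45868 : n120262 = n98157 := (((D98157).symm.trans (sb E43360 (iv7 F191479)))).symm
theorem E45869 : n56489 = n17624 := (((D17624).symm.trans (sb E43361 D56489))).symm
theorem E45871 : n56491 = n17626 := (((D17626).symm.trans (sb E43361 D56491))).symm
theorem E45872 : n35298 = n17627 := (((D17627).symm.trans (sb E43362 (iv1 F91255)))).symm
theorem E45882 : n120323 = n26824 := (((F91443).symm.trans (sb E43365 (iv1 F191617)))).symm
theorem E45883 : n76861 = n34759 := ((((iv0 F91444)).symm.trans (sb E43365 F115399))).symm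
theorem E45884 : n57820 = n37590 := (((D37590).symm.trans (sb E43365 (iv5 F91590)))).symm
theorem E45886 : n57765 = n56678 := ((((iv4 F117284)).symm.trans (sb E43366 F116229))).symm
theorem E45887 : n122626 = n80162 := (((D80162).symm.trans (sb E43366 F196453))).symm
theorem E45888 : n57770 = n56679 := ((((iv4 F117282)).symm.trans (sb E43367 F115855))).symm
theorem E45891 : n82281 = n22356 := ((((iv1 F34904)).symm.trans (sb E43370 F191681))).symm
theorem E45892 : n82280 = n22355 := (((F34901).symm.trans (sb E43370 F191682))).symm
theorem E45893 : n123057 = n56702 := (((D56702).symm.trans (sb E43371 F197224))).symm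
theorem E45895 : n55443 = n9226 := (((F17188).symm.trans (sb E43372 (iv1 F191254)))).symm
theorem E45896 : n71721 = n19058 := ((((iv0 F30586)).symm.trans (sb E43372 D71721))).symm
theorem E45897 : n71717 = n9081 := (((F17186).symm.trans (sb E43372 (iv2 F108194)))).symm
theorem E45898 : n17764 = n15989 := (((iv4 F28900)).symm.trans (sb E43372 (iv4 D33158)))
theorem E45900 : n71723 = n22358 := (((D22358).symm.trans (sb E43372 D71723))).symm
theorem E45903 : n82284 = n56680 := (((D56680).symm.trans (sb E43374 D82284))).symm
theorem E45905 : n160111 = n92761 := ((((iv3 F143056)).symm.trans (sb E43376 (iv3 F289338)))).symm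
theorem E45906 : n81972 = n81798 := ((D81972).symm.trans (sb E43379 F191806))
theorem E45907 : n56673 = n55421 := ((((iv1 F121148)).symm.trans (sb E43385 (iv1 F118991)))).symm
theorem E45908 : n56676 = n17958 := ((((iv0 D37416)).symm.trans (sb E43385 F118990))).symm
theorem F296254 : act 4 n37416 = n21886 := (sb E43385 F58436)
theorem E45909 : n81973 = n81799 := (((D81799).symm.trans (sb E43385 D81973))).symm
theorem F296255 : act 6 n37416 = n18014 := (sb E43385 (iv6 D37540))
theorem E45910 : n27348 = n27259 := (((F91369).symm.trans (sb E43386 F121443))).symm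
theorem E45911 : n80382 = n80347 := (((D80347).symm.trans (sb E43386 D80382))).symm
theorem E45912 : n80383 = n80348 := (((D80348).symm.trans (sb E43386 D80383))).symm
theorem F296256 : act 0 n36501 = n21886 := (sb E43387 F119022)
theorem E45913 : n17620 = n17619 := ((((iv3 D36501)).symm.trans (sb E43387 (iv3 D36506)))).symm
theorem E45914 : n27347 = n27260 := ((F121435).symm.trans (sb E43387 F57339))
theorem E45915 : n80147 = n35499 := ((D80147).symm.trans (sb E43387 F57338))
theorem E45927 : n162182 = n8838 := (((D8838).symm.trans (sb E43393 D162182))).symm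
theorem E45935 : n70085 = n18280 := (((D18280).symm.trans (sb E43399 (iv3 F106471)))).symm
theorem E45936 : n27080 = n18281 := (((D18281).symm.trans (sb E43399 (iv6 D56196)))).symm
theorem F296257 : act 2 n12972 = n10455 := (sb E43400 F28465)
theorem F296258 : act 6 n12972 = n8218 := (sb E43400 (iv6 D17467))
theorem E45940 : n36661 = n34592 := ((((iv1 F59747)).symm.trans (sb E43403 (iv1 F120885)))).symm
theorem E45941 : n36844 = n36365 := ((D36844).symm.trans (sb E43403 F57105))
theorem E45942 : n166818 = n34555 := (((D34555).symm.trans (sb E43404 D166818))).symm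
theorem E45944 : n166817 = n34557 := (((D34557).symm.trans (sb E43404 (iv2 F262526)))).symm
theorem E45946 : n122163 = n10475 := (((F27516).symm.trans (sb E43404 (iv7 F195173)))).symm
theorem F296259 : act 1 n4765 = n8333 := (sb E43407 (iv0 D17702))
theorem E45958 : n79795 = n26928 := ((((iv4 F43422)).symm.trans (sb E43411 D79795))).symm
theorem E45959 : n78747 = n26929 := (((D26929).symm.trans (sb E43411 (iv6 F119904)))).symm
theorem E45962 : n76197 = n26878 := (((D26878).symm.trans (sb E43413 (iv4 F114162)))).symm
theorem E45963 : n26875 = n17590 := (((iv6 F43332)).symm.trans (sb E43413 F57084))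
theorem F296260 : act 1 n3708 = n8116 := (sb E43415 (iv0 D17333))
theorem E45964 : n35772 = n8240 := (((D8240).symm.trans (sb E43415 D35772))).symm
theorem E45965 : n19044 = n8228 := ((((iv6 F12999)).symm.trans (sb E43415 F30550))).symm
theorem F296261 : act 1 n17334 = n8238 := (sb E43416 F28456)
theorem F296262 : act 2 n17334 = n8241 := (sb E43416 F28452)
theorem E45966 : n36085 = n35775 := (((D35775).symm.trans (sb E43416 (iv4 F56825)))).symm
theorem F296263 : act 5 n17334 = n8211 := (sb E43416 F28454)
theorem E45967 : n36086 = n35777 := (((D35777).symm.trans (sb E43416 D36086))).symm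
theorem F296264 : act 7 n17334 = n8210 := (sb E43416 (iv7 D17458))
theorem F296265 : act 2 n17332 = n26919 := (sb E43417 (iv2 F43411))
theorem E45968 : n36271 = n35766 := ((((iv3 F56440)).symm.trans (sb E43417 D36271))).symm
theorem E45970 : n35770 = n26922 := ((D35770).symm.trans (sb E43417 (iv7 F43417)))
theorem E45971 : n26969 = n26923 := (((D26923).symm.trans (sb E43418 (iv6 F43522)))).symm
theorem F296266 : act 7 n12882 = n8116 := (sb E43418 (iv7 D17335))
theorem E45976 : n160823 = n88665 := (((D88665).symm.trans (sb E43429 (iv1 F258338)))).symm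
theorem E45977 : n88666 = n78742 := ((D88666).symm.trans (sb E43429 (iv0 D163909)))
theorem E45978 : n160670 = n88658 := ((((iv7 F135973)).symm.trans (sb E43429 F258339))).symm
theorem E45980 : n121421 = n47668 := (((D47668).symm.trans (sb E43435 F193719))).symm
theorem E45983 : n162550 = n47670 := (((D47670).symm.trans (sb E43436 (iv6 F256775)))).symm
theorem E45984 : n155366 = n47671 := (((D47671).symm.trans (sb E43437 (iv1 F244340)))).symm
theorem E45985 : n36229 = n35655 := (((iv0 F118978)).symm.trans (sb E43437 F121504))
theorem E45986 : n47673 = n35617 := ((D47673).symm.trans (sb E43437 F121814))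
theorem E45990 : n121057 = n47686 := (((D47686).symm.trans (sb E43439 (iv1 F194250)))).symm
theorem E45991 : n121702 = n47687 := (((D47687).symm.trans (sb E43439 (iv0 F194234)))).symm
theorem E45992 : n121707 = n47688 := (((D47688).symm.trans (sb E43439 (iv7 F194245)))).symm
theorem E46001 : n163279 = n158102 := (((D158102).symm.trans (sb E43442 (iv2 F257594)))).symm
theorem F296267 : act 6 n75303 = n35757 := (sb E43442 (iv6 D78475))
theorem E46007 : n163290 = n158067 := (((D158067).symm.trans (sb E43443 (iv6 F257604)))).symm
theorem E46009 : n121149 = n84252 := (((D84252).symm.trans (sb E43444 (iv6 F193209)))).symm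
theorem F296268 : act 7 n41398 = n26964 := (sb E43445 (iv7 D55903))
theorem E46010 : n56209 = n17511 := (((D17511).symm.trans (sb E43447 (iv4 F88910)))).symm
theorem E46011 : n17473 = n12974 := (((iv6 F28468)).symm.trans (sb E43447 (iv6 D27086)))
theorem E46012 : n79323 = n56199 := (((iv6 F121909)).symm.trans (sb E43448 (iv6 D121673)))
theorem E46013 : n79321 = n56197 := (((D56197).symm.trans (sb E43449 D79321))).symm
theorem E46014 : n79322 = n56198 := (((D56198).symm.trans (sb E43449 D79322))).symm
theorem F296269 : act 6 n27081 = n17509 := (sb E43449 F56858)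
theorem E46016 : n88638 = n83139 := (((iv6 F135883)).symm.trans (sb E43450 (iv6 D173850)))
theorem F296270 : act 0 n41372 = n35186 := (sb E43451 F120820)
theorem F296271 : act 3 n41372 = n35727 := (sb E43451 F88365)
theorem E46018 : n163908 = n158074 := (((iv4 F258334)).symm.trans (sb E43452 F250028))
theorem E46020 : n186093 = n77202 := (((iv5 F288808)).symm.trans (sb E43453 (iv5 D160877)))
theorem E46021 : n160818 = n79947 := (((iv3 F253984)).symm.trans (sb E43454 F141942))
theorem E46022 : n160821 = n84316 := (((iv4 F253986)).symm.trans (sb E43454 F141943))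
theorem F296273 : act 7 n77179 = n43167 := (sb E43454 (iv7 D92312))
theorem E46023 : n80210 = n35532 := (((F118759).symm.trans (sb E43457 F253194))).symm
theorem E46024 : n160288 = n81909 := ((((iv4 F126255)).symm.trans (sb E43457 F253181))).symm
theorem E46025 : n88646 = n80208 := ((D88646).symm.trans (sb E43457 F126216))
theorem F296274 : act 3 n41391 = n79941 := (sb E43463 (iv3 F122691))
theorem E46032 : n26943 = n19494 := (((D19494).symm.trans (sb E43464 (iv0 D55853)))).symm
theorem E46033 : n121059 = n8645 := (((F14308).symm.trans (sb E43464 D121059))).symm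
theorem E46034 : n35618 = n19496 := (((D19496).symm.trans (sb E43464 F121857))).symm
theorem E46036 : n162633 = n38478 := (((F113509).symm.trans (sb E43467 F256869))).symm
theorem E46040 : n36079 = n33910 := (((iv3 F118953)).symm.trans (sb E43468 (iv3 D73840)))
theorem E46041 : n155367 = n82947 := ((((iv4 F127825)).symm.trans (sb E43468 D155367))).symm
theorem E46042 : n88747 = n56404 := ((D88747).symm.trans (sb E43468 F110623))
theorem E46043 : n162632 = n82948 := ((((iv4 F127832)).symm.trans (sb E43469 D162632))).symm
theorem E46044 : n88750 = n35645 := ((D88750).symm.trans (sb E43469 F121361))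
theorem F296275 : act 0 n9186 = n8092 := (sb E43470 (iv1 D17251))
theorem E46045 : n35621 = n8649 := (((F14330).symm.trans (sb E43470 D35621))).symm
theorem F296276 : act 5 n89645 = n77189 := (sb E43473 F253942)
theorem E46049 : n83232 = n77151 := ((F137429).symm.trans (sb E43473 (iv6 D160793)))
theorem F296277 : act 0 n56239 = n41870 := (sb E43474 F136125)
theorem E46050 : n36294 = n27099 := (((F88951).symm.trans (sb E43474 (iv3 D79709)))).symm
theorem E46051 : n121705 = n84274 := (((iv4 F194241)).symm.trans (sb E43474 F250026))
theorem E46052 : n162618 = n162165 := (((iv3 F256846)).symm.trans (sb E43475 (iv3 F256273)))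
theorem E46053 : n164088 = n162637 := ((((iv4 F256874)).symm.trans (sb E43475 (iv4 F258609)))).symm
theorem F296278 : act 7 n78109 = n41870 := (sb E43475 (iv7 D89646))
theorem E46054 : n162670 = n82950 := (((D82950).symm.trans (sb E43476 (iv5 F268315)))).symm
theorem F296279 : act 1 n55902 = n42619 := (sb E43477 (iv0 F119750))
theorem E46056 : n163486 = n121154 := (((D121154).symm.trans (sb E43477 D163486))).symm
theorem E46058 : n45900 = n35653 := (((F121373).symm.trans (sb E43477 F119749))).symm
theorem F296280 : act 0 n55901 = n42619 := (sb E43478 (iv1 D90988))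
theorem E46059 : n121573 = n121150 := (((D121150).symm.trans (sb E43478 (iv3 F250605)))).symm
theorem E46060 : n164078 = n121151 := (((D121151).symm.trans (sb E43478 F258578))).symm
theorem E46061 : n165094 = n121152 := (((D121152).symm.trans (sb E43478 (iv5 F260362)))).symm
theorem E46068 : n87309 = n58157 := (((iv6 F134047)).symm.trans (sb E43485 (iv6 D124589)))
theorem E46069 : n177412 = n160995 := (((D160995).symm.trans (sb E43486 (iv3 F276824)))).symm
theorem F296281 : act 4 n77259 = n38993 := (sb E43486 F129688)
theorem E46071 : n81610 = n38991 := (((iv6 F125519)).symm.trans (sb E43486 (iv6 D84526)))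
theorem E46072 : n86503 = n81650 := ((D86503).symm.trans (sb E43487 (iv1 F149077)))
theorem E46073 : n86504 = n45183 := ((D86504).symm.trans (sb E43487 (iv0 D96706)))
theorem E46074 : n86507 = n81647 := ((D86507).symm.trans (sb E43487 (iv7 F149076)))
theorem E46075 : n157790 = n86502 := (((D86502).symm.trans (sb E43488 (iv4 F248683)))).symm
theorem F296282 : act 5 n40083 = n40445 := (sb E43488 F133623)
theorem E46076 : n44504 = n40111 := (((F61003).symm.trans (sb E43488 F133624))).symm
theorem E46077 : n17508 = n8108 := ((((iv3 D17316)).symm.trans (sb E43489 F56944))).symm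
theorem F296283 : act 5 n17316 = n17745 := (sb E43489 F56945)
theorem F296284 : act 6 n17316 = n17502 := (sb E43489 (iv6 D36240))
theorem E46080 : n163980 = n86511 := ((((iv6 F132711)).symm.trans (sb E43491 D163980))).symm
theorem E46082 : n80391 = n80358 := ((((iv0 F123464)).symm.trans (sb E43492 (iv0 F148224)))).symm
theorem E46084 : n164174 = n161004 := (((D161004).symm.trans (sb E43493 (iv6 F258722)))).symm
theorem F296285 : act 7 n77263 = n75167 := (sb E43493 (iv7 D157766))
theorem E46086 : n86541 = n81797 := ((D86541).symm.trans (sb E43494 F148228))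
theorem E46091 : n159104 = n36383 := (((D36383).symm.trans (sb E43495 (iv5 F250475)))).symm
theorem E46092 : n86538 = n86029 := ((D86538).symm.trans (sb E43496 (iv4 F148196)))
theorem E46093 : n86539 = n84432 := ((D86539).symm.trans (sb E43496 (iv6 F148192)))
theorem E46095 : n165603 = n86724 := ((((iv2 F133015)).symm.trans (sb E43498 (iv2 F260872)))).symm
theorem E46097 : n165606 = n121791 := (((D121791).symm.trans (sb E43498 (iv4 F260882)))).symm
theorem E46099 : n121708 = n81480 := (((iv7 F194252)).symm.trans (sb E43500 F148987))
theorem E46100 : n120937 = n78822 := (((iv4 F192853)).symm.trans (sb E43501 F258549))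
theorem E46102 : n162915 = n86033 := ((F257234).symm.trans (sb E43503 F258552))
theorem E46103 : n162034 = n121572 := (((F193992).symm.trans (sb E43505 (iv3 F256072)))).symm
theorem E46104 : n165790 = n163429 := (((D163429).symm.trans (sb E43505 D165790))).symm
theorem E46105 : n121692 = n95263 := (((iv5 F194208)).symm.trans (sb E43505 (iv5 F146873)))
theorem E46118 : n57801 = n27868 := (((D27868).symm.trans (sb E43515 D57801))).symm
theorem F296286 : act 5 n13289 = n13183 := (sb E43515 (iv5 D27593))
theorem E46120 : n121471 = n26520 := ((((iv3 F42459)).symm.trans (sb E43517 (iv3 F193824)))).symm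
theorem E46122 : n27046 = n27044 := (((D27044).symm.trans (sb E43517 (iv6 D56082)))).symm
theorem E46123 : n38376 = n36791 := (((D36791).symm.trans (sb E43518 (iv1 F59242)))).symm
theorem E46124 : n38374 = n36793 := (((D36793).symm.trans (sb E43518 F118409))).symm
theorem E46126 : n86525 = n37193 := (((D37193).symm.trans (sb E43521 (iv6 D181187)))).symm
theorem E46127 : n86526 = n37199 := (((D37199).symm.trans (sb E43522 D86526))).symm
theorem E46128 : n86445 = n37200 := (((D37200).symm.trans (sb E43522 (iv7 F132553)))).symm
theorem E46129 : n27422 = n27228 := (((F125976).symm.trans (sb E43523 F61366))).symm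
theorem E46130 : n40135 = n37203 := (((D37203).symm.trans (sb E43523 F61367))).symm
theorem E46131 : n86888 = n37204 := (((D37204).symm.trans (sb E43523 (iv5 F133313)))).symm
theorem E46150 : n167798 = n8626 := (((D8626).symm.trans (sb E43536 F264205))).symm
theorem E46152 : n38268 = n8628 := (((D8628).symm.trans (sb E43537 (iv0 D83130)))).symm
theorem E46158 : n162769 = n8661 := (((D8661).symm.trans (sb E43542 (iv0 F256997)))).symm
theorem E46160 : n167618 = n8662 := (((D8662).symm.trans (sb E43542 (iv5 F263874)))).symm
theorem E46162 : n38720 = n8667 := (((D8667).symm.trans (sb E43543 (iv4 F59505)))).symm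
theorem F296287 : act 6 n3886 = n8666 := (sb E43543 (iv6 D18418))
theorem E46163 : n79816 = n8672 := (((D8672).symm.trans (sb E43544 (iv4 F122542)))).symm
theorem F296288 : act 3 n2624 = n1663 := (sb E43546 F5796)
theorem F296289 : act 6 n2624 = n1660 := (sb E43546 (iv6 D3805))
theorem E46165 : n39149 = n6268 := ((((iv4 F9759)).symm.trans (sb E43547 (iv4 F60147)))).symm
theorem E46166 : n8728 = n6272 := (((D6272).symm.trans (sb E43547 (iv6 D18580)))).symm
theorem E46178 : n8823 = n6262 := (((D6262).symm.trans (sb E43552 (iv6 D18844)))).symm
theorem E46180 : n171449 = n27308 := (((D27308).symm.trans (sb E43553 D171449))).symm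
theorem E46182 : n39093 = n27309 := (((D27309).symm.trans (sb E43553 F126561))).symm
theorem E46183 : n27310 = n8731 := ((D27310).symm.trans (sb E43554 (iv1 F29806)))
theorem E46184 : n39094 = n27312 := (((D27312).symm.trans (sb E43554 D39094))).symm
theorem E46185 : n27313 = n8729 := ((D27313).symm.trans (sb E43554 F117487))
theorem E46187 : n37789 = n36349 := ((D37789).symm.trans (sb E43560 (iv1 F120857)))
theorem E46188 : n37790 = n35175 := ((D37790).symm.trans (sb E43560 (iv0 D76997)))
theorem E46190 : n160599 = n37791 := (((D37791).symm.trans (sb E43560 D160599))).symm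
theorem E46193 : n38247 = n37797 := (((D37797).symm.trans (sb E43561 F115732))).symm
theorem F296290 : act 3 n18125 = n8608 := (sb E43562 F29421)
theorem F296291 : act 6 n18125 = n8606 := (sb E43562 (iv6 D18240))
theorem E46195 : n124635 = n34634 := ((((iv0 F54890)).symm.trans (sb E43563 F199356))).symm
theorem E46196 : n166243 = n37804 := (((D37804).symm.trans (sb E43563 (iv4 F261740)))).symm
theorem E46197 : n39164 = n37805 := (((D37805).symm.trans (sb E43563 F127765))).symm
theorem E46199 : n27171 = n8299 := ((((iv1 F21653)).symm.trans (sb E43570 F71316))).symm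
theorem E46200 : n27158 = n6194 := ((((iv0 D13013)).symm.trans (sb E43570 (iv0 F71317)))).symm
theorem E46201 : n96822 = n17196 := ((((iv5 F28155)).symm.trans (sb E43570 D96822))).symm
theorem E46202 : n77766 = n27165 := (((D27165).symm.trans (sb E43570 (iv6 F117134)))).symm
theorem E46203 : n37967 = n34642 := ((D37967).symm.trans (sb E43571 F129660))
theorem E46204 : n96826 = n34657 := ((((iv0 F116781)).symm.trans (sb E43571 D96826))).symm
theorem E46207 : n121973 = n27166 := (((D27166).symm.trans (sb E43572 D121973))).symm
theorem E46208 : n79110 = n34493 := ((((iv1 F116617)).symm.trans (sb E43573 (iv1 F120393)))).symm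
theorem E46209 : n34641 = n34639 := ((((iv0 F116618)).symm.trans (sb E43573 (iv0 D75746)))).symm
theorem E46211 : n41706 = n17633 := (((D17633).symm.trans (sb E43574 F286934))).symm
theorem E46214 : n161150 = n37970 := (((D37970).symm.trans (sb E43575 D161150))).symm
theorem E46216 : n161149 = n37972 := (((D37972).symm.trans (sb E43575 (iv2 F254809)))).symm
theorem F296292 : act 6 n18184 = n35319 := (sb E43575 (iv6 D77364))
theorem E46218 : n161153 = n34531 := ((((iv7 F54772)).symm.trans (sb E43575 D161153))).symm
theorem E46223 : n80149 = n34533 := (((D34533).symm.trans (sb E43577 F123034))).symm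
theorem E46224 : n34535 = n34534 := (((D34534).symm.trans (sb E43578 (iv1 F113243)))).symm
theorem F296293 : act 7 n16749 = n34530 := (sb E43578 (iv7 D75457))
theorem E46227 : n36891 = n6048 := (((D6048).symm.trans (sb E43579 D36891))).symm
theorem E46231 : n168364 = n26728 := (((D26728).symm.trans (sb E43581 D168364))).symm
theorem E46232 : n168217 = n26729 := (((D26729).symm.trans (sb E43581 (iv0 F265182)))).symm
theorem E46240 : n180721 = n34607 := (((D34607).symm.trans (sb E43583 (iv5 F281271)))).symm
theorem F296294 : act 3 n16785 = n34501 := (sb E43584 F113098)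
theorem E46242 : n80433 = n34654 := (((D34654).symm.trans (sb E43584 (iv4 F123628)))).symm
theorem E46243 : n124416 = n34655 := (((D34655).symm.trans (sb E43584 (iv5 F198978)))).symm
theorem F296295 : act 6 n16785 = n34498 := (sb E43584 (iv6 D75366))
theorem E46244 : n162991 = n34658 := (((D34658).symm.trans (sb E43585 F272439))).symm
theorem E46245 : n124415 = n34659 := (((D34659).symm.trans (sb E43585 F272438))).symm
theorem E46246 : n122456 = n34660 := (((D34660).symm.trans (sb E43585 F272441))).symm
theorem F296296 : act 0 n16787 = n18278 := (sb E43586 (iv1 D38270))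
theorem E46247 : n83136 = n34663 := (((D34663).symm.trans (sb E43586 D83136))).symm
theorem E46248 : n34767 = n6062 := (((D6062).symm.trans (sb E43588 F117502))).symm
theorem E46249 : n37645 = n26752 := (((D26752).symm.trans (sb E43589 D37645))).symm
theorem E46250 : n37646 = n26753 := (((D26753).symm.trans (sb E43589 D37646))).symm
theorem E46251 : n37647 = n26754 := (((D26754).symm.trans (sb E43589 D37647))).symm
theorem E46252 : n26825 = n26755 := (((D26755).symm.trans (sb E43590 (iv1 F117179)))).symm
theorem E46253 : n34760 = n26756 := (((D26756).symm.trans (sb E43590 (iv0 F117180)))).symm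
theorem E46255 : n171077 = n34482 := (((D34482).symm.trans (sb E43591 (iv1 F287032)))).symm
theorem E46256 : n171392 = n34483 := (((D34483).symm.trans (sb E43591 D171392))).symm
theorem E46262 : n166267 = n34488 := (((D34488).symm.trans (sb E43593 (iv1 F261769)))).symm
theorem E46263 : n77149 = n34489 := (((D34489).symm.trans (sb E43593 (iv0 F126539)))).symm
theorem E46266 : n81072 = n34494 := (((D34494).symm.trans (sb E43594 (iv4 F124851)))).symm
theorem F296297 : act 5 n16735 = n34498 := (sb E43595 (iv5 D75365))
theorem E46272 : n83113 = n37887 := (((D37887).symm.trans (sb E43599 F195188))).symm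
theorem E46274 : n37872 = n33416 := ((D37872).symm.trans (sb E43600 F190488))
theorem E46275 : n72339 = n37873 := (((D37873).symm.trans (sb E43600 F190489))).symm
theorem E46276 : n72337 = n37874 := (((D37874).symm.trans (sb E43600 (iv2 F190512)))).symm
theorem E46277 : n17830 = n17755 := (((F29327).symm.trans (sb E43600 F57979))).symm
theorem E46278 : n81066 = n37875 := (((D37875).symm.trans (sb E43600 D81066))).symm
theorem E46279 : n81067 = n37876 := (((D37876).symm.trans (sb E43600 D81067))).symm
theorem E46283 : n79832 = n34621 := ((((iv7 F59785)).symm.trans (sb E43602 (iv7 F122573)))).symm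
theorem E46285 : n149285 = n37896 := (((D37896).symm.trans (sb E43609 (iv3 F234658)))).symm
theorem E46286 : n80501 = n34545 := (((D34545).symm.trans (sb E43613 D80501))).symm
theorem F296298 : act 0 n13064 = n8552 := (sb E43614 (iv1 D18138))
theorem E46288 : n37838 = n27276 := (((D27276).symm.trans (sb E43614 D37838))).symm
theorem F296299 : act 1 n16754 = n8552 := (sb E43615 (iv0 D18137))
theorem E46291 : n27242 = n26771 := (((F121143).symm.trans (sb E43615 F118640))).symm
theorem E46292 : n37833 = n34553 := (((D34553).symm.trans (sb E43615 D37833))).symm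
theorem E46345 : n33169 = n8299 := (((D8299).symm.trans (sb E43658 F89537))).symm
theorem E46346 : n63677 = n8300 := (((D8300).symm.trans (sb E43658 (iv6 F98998)))).symm
theorem E46347 : n37086 = n6194 := (((D6194).symm.trans (sb E43659 D37086))).symm
theorem E46351 : n119980 = n8050 := (((D8050).symm.trans (sb E43661 (iv4 F189401)))).symm
theorem E46354 : n133939 = n6155 := (((D6155).symm.trans (sb E43662 (iv4 F215781)))).symm
theorem E46356 : n128475 = n18230 := ((((iv1 F29398)).symm.trans (sb E43663 (iv1 F206615)))).symm
theorem E46357 : n131719 = n18309 := ((((iv0 F29508)).symm.trans (sb E43663 F211068))).symm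
theorem E46359 : n29290 = n16759 := (((F27525).symm.trans (sb E43663 (iv5 D61802)))).symm
theorem E46365 : n26622 = n8223 := (((F21640).symm.trans (sb E43666 F42635))).symm
theorem E46366 : n27156 = n6288 := ((D27156).symm.trans (sb E43666 (iv6 D13238)))
theorem E46367 : n119719 = n9087 := (((F21741).symm.trans (sb E43668 (iv3 F188857)))).symm
theorem E46368 : n27503 = n27227 := (((D27227).symm.trans (sb E43668 (iv6 D57521)))).symm
theorem E46369 : n27231 = n8738 := ((D27231).symm.trans (sb E43669 F120600))
theorem E46403 : n171539 = n35139 := (((D35139).symm.trans (sb E43747 D171539))).symm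
theorem F296300 : act 2 n36242 = n38993 := (sb E43748 F129459)
theorem F296301 : act 6 n36242 = n38904 := (sb E43748 (iv6 D84366))
theorem E46406 : n91838 = n81645 := ((D91838).symm.trans (sb E43749 (iv7 D170236)))
theorem E46407 : n27698 = n27021 := ((F55003).symm.trans (sb E43750 (iv1 F57296)))
theorem F296302 : act 2 n34800 = n35105 := (sb E43750 (iv2 F57295))
theorem F296303 : act 3 n34800 = n19051 := (sb E43750 (iv3 F57298))
theorem E46408 : n76185 = n36248 := (((iv4 F114150)).symm.trans (sb E43750 F57294))
theorem E46409 : n80106 = n16861 := ((((iv6 D34800)).symm.trans (sb E43750 D80106))).symm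
theorem F296304 : act 7 n34800 = n35318 := (sb E43750 F57297)
theorem E46411 : n78389 = n76181 := (((iv6 F121048)).symm.trans (sb E43751 (iv6 D159238)))
theorem F296305 : act 2 n34798 = n27451 := (sb E43752 F61345)
theorem F296306 : act 6 n34798 = n19051 := (sb E43752 F61346)
theorem E46414 : n37497 = n27421 := ((((iv6 F44324)).symm.trans (sb E43753 (iv6 F124337)))).symm
theorem E46415 : n86886 = n39801 := ((D86886).symm.trans (sb E43754 (iv1 F126014)))
theorem E46416 : n86887 = n38963 := ((D86887).symm.trans (sb E43754 (iv0 F71150)))
theorem F296307 : act 2 n40309 = n27899 := (sb E43754 (iv2 F126012))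
theorem F296308 : act 3 n17372 = n19836 := (sb E43755 F56034)
theorem F296309 : act 5 n17372 = n17143 := (sb E43755 (iv5 D35317))
theorem E46417 : n77361 = n35884 := (((D35884).symm.trans (sb E43755 D77361))).symm
theorem E46419 : n104979 = n89999 := (((D89999).symm.trans (sb E43756 F160871))).symm
theorem E46420 : n90000 = n39803 := ((D90000).symm.trans (sb E43756 F119973))
theorem F296310 : act 0 n157761 = n163513 := (sb E43757 F282813)
theorem F296312 : act 5 n97371 = n75167 := (sb E43758 (iv5 D157765))
theorem F296313 : act 2 n78867 = n75172 := (sb E43759 F133675)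
theorem F296314 : act 6 n78867 = n40460 := (sb E43759 (iv6 D87077))
theorem F296315 : act 6 n39878 = n57921 := (sb E43760 (iv6 D124232))
theorem F296316 : act 6 n8077 = n12968 := (sb E43761 (iv6 D27070))
theorem E46422 : n56163 = n12967 := (((F21673).symm.trans (sb E43761 D56163))).symm
theorem F296317 : act 6 n34445 = n55357 := (sb E43763 (iv6 D120290))
theorem E46423 : n163991 = n39879 := ((((iv7 F60681)).symm.trans (sb E43763 (iv7 F258459)))).symm
theorem E46424 : n77945 = n56149 := (((D56149).symm.trans (sb E43764 F194037))).symm
theorem E46426 : n121612 = n120953 := ((((iv4 F192896)).symm.trans (sb E43765 F249036))).symm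
theorem F296318 : act 0 n78868 = n75172 := (sb E43766 (iv1 D157772))
theorem E46427 : n121265 = n75212 := (((F120026).symm.trans (sb E43766 F248666))).symm
theorem E46428 : n164175 = n78560 := ((D164175).symm.trans (sb E43766 F248668))
theorem E46429 : n124583 = n124207 := (((iv5 F199262)).symm.trans (sb E43766 (iv5 F248665)))
theorem E46430 : n123187 = n37313 := (((F120027).symm.trans (sb E43766 F248667))).symm
theorem F296319 : act 1 n55962 = n75172 := (sb E43767 (iv0 D157771))
theorem E46431 : n161465 = n26984 := ((((iv3 D55962)).symm.trans (sb E43767 (iv3 F255414)))).symm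
theorem E46432 : n121305 = n78559 := ((D121305).symm.trans (sb E43767 (iv4 F256404)))
theorem E46433 : n122592 = n38961 := ((((iv6 F116836)).symm.trans (sb E43767 F248662))).symm
theorem E46434 : n56229 = n44501 := (((D44501).symm.trans (sb E43768 (iv1 F88936)))).symm
theorem E46435 : n56228 = n44502 := (((D44502).symm.trans (sb E43768 F88935))).symm
theorem F296320 : act 2 n21162 = n17534 := (sb E43768 F57032)
theorem E46436 : n35732 = n17507 := (((D17507).symm.trans (sb E43769 (iv4 F56412)))).symm
theorem F296323 : act 5 n95283 = n78537 := (sb E43771 (iv5 D163420))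
theorem F296324 : act 6 n95283 = n79945 := (sb E43771 F257701)
theorem F296326 : act 5 n95284 = n55935 := (sb E43772 (iv5 D121251))
theorem F296327 : act 6 n95284 = n163635 := (sb E43772 F257905)
theorem F296329 : act 1 n95285 = n78753 := (sb E43773 (iv0 D163924))
theorem E46438 : n98210 = n80003 := (((F146934).symm.trans (sb E43773 (iv3 F258357)))).symm
theorem F296331 : act 6 n95285 = n79940 := (sb E43773 F258355)
theorem E46441 : n121129 = n36264 := (((D36264).symm.trans (sb E43775 (iv3 F193163)))).symm
theorem E46443 : n36266 = n35799 := ((D36266).symm.trans (sb E43775 F88414))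
theorem E46444 : n36267 = n26968 := ((((iv1 F43519)).symm.trans (sb E43776 D36267))).symm
theorem E46445 : n35803 = n26967 := (((F43523).symm.trans (sb E43776 (iv0 F88250)))).symm
theorem F296332 : act 6 n17346 = n8238 := (sb E43776 (iv6 D17514))
theorem E46446 : n165786 = n163469 := ((((iv3 F257749)).symm.trans (sb E43777 (iv3 F261189)))).symm
theorem E46447 : n165787 = n163485 := ((((iv5 F257756)).symm.trans (sb E43777 D165787))).symm
theorem F296333 : act 6 n78562 = n36260 := (sb E43777 (iv6 D79624))
theorem E46448 : n157908 = n120288 := (((D120288).symm.trans (sb E43780 (iv6 F258515)))).symm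
theorem E46449 : n162229 = n88647 := ((((iv3 F135924)).symm.trans (sb E43781 F288757))).symm
theorem E46450 : n84754 = n13202 := ((((iv1 D27648)).symm.trans (sb E43785 (iv1 D178058)))).symm
theorem E46454 : n161123 = n78131 := ((((iv1 F148246)).symm.trans (sb E43796 F254717))).symm
theorem E46455 : n96329 = n79736 := ((F148245).symm.trans (sb E43796 (iv0 F194671)))
theorem E46456 : n177917 = n120269 := ((((iv4 F191503)).symm.trans (sb E43796 D177917))).symm
theorem E46457 : n162072 = n122613 := (((D122613).symm.trans (sb E43796 F256143))).symm
theorem E46461 : n80209 = n58037 := (((iv6 F123216)).symm.trans (sb E43798 (iv6 D124449)))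
theorem E46462 : n81991 = n57939 := (((D57939).symm.trans (sb E43800 (iv6 D171063)))).symm
theorem E46464 : n164045 = n26979 := ((((iv0 D55944)).symm.trans (sb E43805 (iv0 F258505)))).symm
theorem E46465 : n79790 = n56275 := (((D56275).symm.trans (sb E43806 (iv3 F122495)))).symm
theorem E46467 : n55681 = n17545 := (((iv6 F88093)).symm.trans (sb E43806 (iv6 D36338)))
theorem E46469 : n35823 = n17544 := (((D17544).symm.trans (sb E43807 (iv0 F59743)))).symm
theorem F296334 : act 6 n8245 = n12989 := (sb E43807 F43361)
theorem E46471 : n96331 = n79740 := (((iv6 F148251)).symm.trans (sb E43808 (iv6 D166094)))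
theorem E46472 : n79738 = n39840 := ((D79738).symm.trans (sb E43810 F70715))
theorem E46474 : n96332 = n79741 := (((D79741).symm.trans (sb E43810 D96332))).symm
theorem F296335 : act 6 n36315 = n21480 := (sb E43810 F70714)
theorem E46476 : n81497 = n79735 := (((D79735).symm.trans (sb E43811 (iv4 F133776)))).symm
theorem E46477 : n96328 = n78565 := ((((iv6 F119751)).symm.trans (sb E43811 D96328))).symm
theorem E46478 : n81498 = n79737 := (((D79737).symm.trans (sb E43812 F126193))).symm
theorem E46479 : n87173 = n56385 := (((F119049).symm.trans (sb E43812 (iv5 F133769)))).symm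
theorem E46481 : n163012 = n157788 := ((((iv3 F248682)).symm.trans (sb E43814 D163012))).symm
theorem F296336 : act 4 n75180 = n35727 := (sb E43814 (iv4 D78387))
theorem E46482 : n163013 = n157789 := (((D157789).symm.trans (sb E43814 D163013))).symm
theorem E46484 : n177404 = n81649 := (((D81649).symm.trans (sb E43815 D177404))).symm
theorem F296337 : act 2 n84515 = n79969 := (sb E43816 F262083)
theorem E46485 : n177003 = n79972 := (((iv7 F276394)).symm.trans (sb E43816 F262085))
theorem F296338 : act 0 n163926 = n84548 := (sb E43818 (iv1 D177467))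
theorem F296342 : act 1 n78317 = n44984 := (sb E43819 (iv0 F129589))
theorem E46491 : n166022 = n162918 := (((D162918).symm.trans (sb E43819 D166022))).symm
theorem E46492 : n84444 = n35701 := (((F119529).symm.trans (sb E43819 F129588))).symm
theorem F296343 : act 0 n79863 = n44984 := (sb E43820 (iv1 D96337))
theorem E46493 : n161501 = n160403 := (((iv3 F255474)).symm.trans (sb E43821 (iv3 F253356)))
theorem F296346 : act 0 n166629 = n177470 := (sb E43823 F276884)
theorem F296350 : act 7 n36425 = n44509 := (sb E43824 (iv7 D95279))
theorem F296351 : act 1 n36426 = n44509 := (sb E43825 (iv0 F120831))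
theorem E46497 : n26913 = n17592 := (((F57192).symm.trans (sb E43825 (iv3 D55764)))).symm
theorem E46499 : n163101 = n120973 := ((((iv3 F192936)).symm.trans (sb E43829 (iv3 F257421)))).symm
theorem E46501 : n160637 = n75770 := ((D160637).symm.trans (sb E43830 (iv1 F248906)))
theorem E46502 : n124439 = n75263 := (((iv0 F199035)).symm.trans (sb E43830 (iv0 D157998)))
theorem E46503 : n121040 = n75800 := (((iv7 F193019)).symm.trans (sb E43830 F248905))
theorem E46508 : n162919 = n35183 := ((((iv4 F55930)).symm.trans (sb E43832 D162919))).symm
theorem E46509 : n45830 = n26939 := (((F121252).symm.trans (sb E43832 (iv7 F124492)))).symm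
theorem F296352 : act 7 n45903 = n35186 := (sb E43833 (iv7 F121290))
theorem F296353 : act 1 n84363 = n79969 := (sb E43835 (iv0 D166623))
theorem E46511 : n163631 = n58173 := (((F129447).symm.trans (sb E43835 (iv6 F262225)))).symm
theorem F296354 : act 0 n84365 = n79969 := (sb E43836 F196362)
theorem E46512 : n162349 = n162122 := ((((iv3 F256222)).symm.trans (sb E43836 (iv3 F256492)))).symm
theorem F296355 : act 4 n166624 = n160638 := (sb E43837 F267338)
theorem F296356 : act 6 n166624 = n81503 := (sb E43837 (iv6 D169914))
theorem F296357 : act 7 n166624 = n177387 := (sb E43837 (iv7 F276766))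
theorem F296358 : act 0 n166625 = n176998 := (sb E43838 (iv1 F276383))
theorem F296359 : act 1 n166625 = n177002 := (sb E43838 (iv0 F276390))
theorem F296360 : act 2 n166625 = n177345 := (sb E43838 F276731)
theorem F296361 : act 7 n166625 = n177344 := (sb E43838 F276728)
theorem F296362 : act 4 n84514 = n79940 := (sb E43839 (iv4 D166561))
theorem F296363 : act 7 n84514 = n79969 := (sb E43839 F262088)
theorem F296364 : act 4 n38994 = n79941 := (sb E43840 F262079)
theorem E46513 : n163589 = n84534 := (((D84534).symm.trans (sb E43840 F262080))).symm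
theorem E46514 : n26916 = n17591 := (((D17591).symm.trans (sb E43842 (iv0 F57857)))).symm
theorem E46517 : n84536 = n79965 := (((D79965).symm.trans (sb E43843 D84536))).symm
theorem F296365 : act 0 n17301 = n21159 := (sb E43845 F121262)
theorem E46519 : n26874 = n8106 := (((F28245).symm.trans (sb E43845 F59969))).symm
theorem E46520 : n35694 = n18490 := (((iv4 F56371)).symm.trans (sb E43845 (iv4 D38935)))
theorem E46522 : n86494 = n38900 := (((F121265).symm.trans (sb E43846 (iv0 F196352)))).symm
theorem E46523 : n162921 = n95240 := ((((iv3 F146796)).symm.trans (sb E43846 D162921))).symm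
theorem E46524 : n162922 = n95241 := (((D95241).symm.trans (sb E43846 D162922))).symm
theorem E46525 : n86708 = n38954 := (((F121266).symm.trans (sb E43846 F132971))).symm
theorem F296366 : act 7 n40208 = n21159 := (sb E43847 (iv7 D44490))
theorem E46528 : n27480 = n18019 := ((((iv6 F29191)).symm.trans (sb E43858 (iv6 D57435)))).symm
theorem E46529 : n123334 = n39968 := (((F60818).symm.trans (sb E43859 F267166))).symm
theorem E46530 : n124273 = n81904 := (((D81904).symm.trans (sb E43860 F267170))).symm
theorem E46531 : n124268 = n81905 := (((D81905).symm.trans (sb E43860 (iv0 F267171)))).symm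
theorem E46532 : n124191 = n81906 := (((D81906).symm.trans (sb E43860 F267169))).symm
theorem E46534 : n84822 = n45157 := (((D45157).symm.trans (sb E43861 F133304))).symm
theorem E46536 : n58168 = n45159 := (((D45159).symm.trans (sb E43861 F133294))).symm
theorem F296367 : act 0 n21565 = n27451 := (sb E43863 (iv1 D57340))
theorem E46541 : n120921 = n7987 := (((D7987).symm.trans (sb E43867 (iv4 F269050)))).symm
theorem E46543 : n57459 = n3932 := ((((iv6 F5865)).symm.trans (sb E43868 (iv6 D123367)))).symm
theorem E46546 : n79195 = n8710 := ((((iv6 F13622)).symm.trans (sb E43869 (iv6 D164812)))).symm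
theorem F296368 : act 1 n18505 = n36423 := (sb E43872 (iv0 D79963))
theorem E46552 : n166615 = n38997 := (((D38997).symm.trans (sb E43872 D166615))).symm
theorem E46553 : n166557 = n38998 := (((D38998).symm.trans (sb E43872 (iv7 F262074)))).symm
theorem E46554 : n79584 = n38985 := (((D38985).symm.trans (sb E43873 F196365))).symm
theorem E46555 : n56914 = n38987 := (((D38987).symm.trans (sb E43873 F196366))).symm
theorem F296369 : act 3 n18504 = n17924 := (sb E43874 F58252)
theorem E46557 : n121524 = n17237 := ((((iv1 F56062)).symm.trans (sb E43876 (iv1 F256203)))).symm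
theorem E46562 : n167538 = n38399 := ((((iv6 F59250)).symm.trans (sb E43880 F263759))).symm
theorem E46563 : n125300 = n38397 := (((D38397).symm.trans (sb E43881 F249203))).symm
theorem E46564 : n161855 = n38398 := (((D38398).symm.trans (sb E43881 (iv0 F255839)))).symm
theorem E46574 : n122580 = n39101 := ((((iv6 F60106)).symm.trans (sb E43885 (iv6 F196310)))).symm
theorem E46575 : n122574 = n39099 := (((D39099).symm.trans (sb E43886 (iv1 F196291)))).symm
theorem E46576 : n39100 = n39020 := ((D39100).symm.trans (sb E43886 (iv0 F121088)))
theorem E46577 : n39102 = n27628 := ((D39102).symm.trans (sb E43886 F124387))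
theorem E46578 : n180021 = n124517 := (((D124517).symm.trans (sb E43887 D180021))).symm
theorem E46579 : n76022 = n76015 := (((F116923).symm.trans (sb E43887 F131971))).symm
theorem E46581 : n86867 = n76942 := (((F116934).symm.trans (sb E43888 F196413))).symm
theorem F296370 : act 0 n57879 = n27724 := (sb E43889 (iv1 F91923))
theorem F296371 : act 1 n57879 = n27723 := (sb E43889 F91924)
theorem F296372 : act 2 n57879 = n27726 := (sb E43889 F91919)
theorem E46582 : n124521 = n124173 := (((D124173).symm.trans (sb E43889 (iv4 F199185)))).symm
theorem E46583 : n124174 = n96430 := ((D124174).symm.trans (sb E43889 (iv6 F148466)))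
theorem F296373 : act 7 n57879 = n27706 := (sb E43889 (iv7 D58119))
theorem F296374 : act 2 n96180 = n86716 := (sb E43891 F264548)
theorem E46584 : n124600 = n86709 := (((iv7 F199292)).symm.trans (sb E43891 F264550))
theorem E46585 : n75214 = n26980 := (((D26980).symm.trans (sb E43892 F124435))).symm
theorem E46588 : n162247 = n26982 := (((D26982).symm.trans (sb E43895 (iv6 F256401)))).symm
theorem E46589 : n121282 = n26983 := (((D26983).symm.trans (sb E43896 (iv1 F196482)))).symm
theorem E46590 : n35564 = n26985 := (((D26985).symm.trans (sb E43896 (iv7 D77950)))).symm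
theorem E46592 : n18579 = n13195 := ((((iv6 F21974)).symm.trans (sb E43907 (iv6 D39154)))).symm
theorem E46593 : n84730 = n13308 := ((((iv6 F22109)).symm.trans (sb E43908 (iv6 D178001)))).symm
theorem E46599 : n122987 = n16862 := (((D16862).symm.trans (sb E43912 F197034))).symm
theorem E46600 : n120734 = n16863 := (((D16863).symm.trans (sb E43912 (iv4 F192504)))).symm
theorem E46605 : n55769 = n17115 := ((((iv6 F28053)).symm.trans (sb E43914 (iv6 D120914)))).symm
theorem E46609 : n83336 = n35584 := (((D35584).symm.trans (sb E43917 (iv6 D174357)))).symm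
theorem E46613 : n57523 = n56638 := ((((iv3 F117294)).symm.trans (sb E43919 (iv3 D123461)))).symm
theorem E46614 : n121694 = n81495 := (((D81495).symm.trans (sb E43919 F197846))).symm
theorem E46616 : n121693 = n58691 := (((D58691).symm.trans (sb E43920 F199274))).symm
theorem E46619 : n181232 = n81500 := (((D81500).symm.trans (sb E43921 (iv5 F282289)))).symm
theorem E46621 : n56714 = n27482 := ((F126048).symm.trans (sb E43923 F90524))
theorem E46622 : n81644 = n78390 := ((D81644).symm.trans (sb E43923 F121041))
theorem F296375 : act 7 n37316 = n27451 := (sb E43923 (iv7 D57342))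
theorem F296376 : act 1 n37318 = n27451 := (sb E43924 (iv0 D57339))
theorem F296377 : act 3 n37318 = n38903 := (sb E43924 (iv3 F121014))
theorem F296378 : act 2 n44503 = n36315 := (sb E43925 F122387)
theorem E46623 : n166040 = n95266 := (((D95266).symm.trans (sb E43925 D166040))).symm
theorem E46624 : n166041 = n95267 := (((D95267).symm.trans (sb E43925 D166041))).symm
theorem E46625 : n86537 = n86063 := (((F132001).symm.trans (sb E43925 (iv7 F132755)))).symm
theorem E46626 : n78400 = n36249 := (((F122203).symm.trans (sb E43926 F257380))).symm
theorem E46627 : n165687 = n78391 := ((D165687).symm.trans (sb E43926 (iv6 D163022)))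
theorem F296379 : act 2 n35728 = n75180 := (sb E43928 F122205)
theorem E46628 : n165688 = n78392 := (((D78392).symm.trans (sb E43928 D165688))).symm
theorem F296380 : act 6 n35728 = n36239 := (sb E43928 (iv6 D79575))
theorem E46629 : n160507 = n55863 := ((((iv7 F88363)).symm.trans (sb E43928 (iv7 F253553)))).symm
theorem F296381 : act 0 n17233 = n20340 := (sb E43930 (iv1 F32276))
theorem F296382 : act 1 n17233 = n20339 := (sb E43930 F32280)
theorem F296383 : act 2 n17233 = n20341 := (sb E43930 (iv2 F32277))
theorem E46631 : n35877 = n35563 := (((D35563).symm.trans (sb E43930 (iv4 F56531)))).symm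
theorem F296384 : act 7 n17233 = n8136 := (sb E43930 (iv7 D17373))
theorem E46635 : n76876 = n35905 := ((((iv0 F117434)).symm.trans (sb E43933 (iv0 F115499)))).symm
theorem E46637 : n35134 = n27675 := (((D27675).symm.trans (sb E43938 (iv1 F115361)))).symm
theorem E46638 : n35113 = n27676 := (((D27676).symm.trans (sb E43938 (iv0 D76824)))).symm
theorem E46639 : n35132 = n27678 := (((D27678).symm.trans (sb E43938 F124408))).symm
theorem E46640 : n35157 = n27414 := (((iv1 F124312)).symm.trans (sb E43942 (iv1 D57233)))
theorem E46642 : n56716 = n27479 := ((D56716).symm.trans (sb E43942 F91059))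
theorem E46643 : n58217 = n26925 := (((F43720).symm.trans (sb E43943 (iv4 F92014)))).symm
theorem E46644 : n56148 = n13237 := ((D56148).symm.trans (sb E43943 (iv6 D27736)))
theorem E46645 : n57525 = n56640 := ((((iv6 F89567)).symm.trans (sb E43944 (iv6 D123468)))).symm
theorem E46646 : n57524 = n18856 := ((((iv0 F117291)).symm.trans (sb E43945 D57524))).symm
theorem E46647 : n56641 = n18611 := ((D56641).symm.trans (sb E43945 F120621))
theorem E46648 : n77876 = n77342 := ((((iv6 F116152)).symm.trans (sb E43946 (iv6 D162093)))).symm
theorem E46649 : n160377 = n77863 := (((F119112).symm.trans (sb E43947 D160377))).symm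
theorem E46650 : n160262 = n124332 := (((D124332).symm.trans (sb E43947 F253171))).symm
theorem E46653 : n124335 = n124192 := ((D124335).symm.trans (sb E43947 (iv7 F198664)))
theorem E46654 : n160292 = n84771 := ((((iv4 F129970)).symm.trans (sb E43948 (iv4 F253177)))).symm
theorem E46655 : n76077 = n35114 := ((F117433).symm.trans (sb E43948 F115359))
theorem E46656 : n56905 = n18584 := ((((iv6 D39170)).symm.trans (sb E43948 F115360))).symm
theorem F296385 : act 0 n17055 = n27655 := (sb E43949 F58491)
theorem E46659 : n57031 = n27653 := (((D27653).symm.trans (sb E43950 (iv1 F91113)))).symm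
theorem E46660 : n27654 = n27478 := ((D27654).symm.trans (sb E43950 (iv0 D57424)))
theorem E46661 : n27656 = n27629 := ((D27656).symm.trans (sb E43950 F124406))
theorem F296387 : act 7 n57892 = n27655 := (sb E43951 (iv7 D57966))
theorem F296388 : act 1 n79966 = n38905 := (sb E43953 (iv0 D84367))
theorem F296389 : act 2 n79966 = n38994 := (sb E43953 F129466)
theorem E46667 : n177010 = n166622 := ((((iv5 F262221)).symm.trans (sb E43953 D177010))).symm
theorem E46668 : n164938 = n78617 := (((F122751).symm.trans (sb E43953 (iv6 F260052)))).symm
theorem F296390 : act 0 n79938 = n38905 := (sb E43954 (iv1 D84368))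
theorem E46669 : n174241 = n166556 := ((((iv3 F262071)).symm.trans (sb E43954 (iv3 F273035)))).symm
theorem E46670 : n177011 = n166558 := (((D166558).symm.trans (sb E43954 D177011))).symm
theorem F296391 : act 7 n79938 = n38994 := (sb E43954 F129468)
theorem F296392 : act 1 n79964 = n38994 := (sb E43955 F129475)
theorem E46671 : n177017 = n166616 := (((D166616).symm.trans (sb E43955 (iv3 F276422)))).symm
theorem E46672 : n177022 = n166617 := (((D166617).symm.trans (sb E43955 (iv5 F276433)))).symm
theorem E46673 : n177023 = n166618 := (((D166618).symm.trans (sb E43955 D177023))).symm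
theorem F296394 : act 7 n79964 = n38905 := (sb E43955 (iv7 D84371))
theorem E46674 : n56912 = n45269 := (((iv1 F89964)).symm.trans (sb E43956 F129452))
theorem E46675 : n45206 = n35122 := (((F116829).symm.trans (sb E43956 (iv0 F129453)))).symm
theorem F296395 : act 5 n37295 = n38903 := (sb E43956 (iv5 D84364))
theorem E46676 : n45187 = n39565 := (((iv6 F71208)).symm.trans (sb E43956 F129450))
theorem E46677 : n58155 = n57909 := ((F91961).symm.trans (sb E43957 (iv0 F149102)))
theorem F296396 : act 7 n27721 = n45134 := (sb E43957 (iv7 D96651))
theorem F296397 : act 3 n36244 = n38904 := (sb E43958 (iv3 F119109))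
theorem E46678 : n35581 = n35542 := ((F56962).symm.trans (sb E43958 (iv4 D77893)))
theorem F296398 : act 3 n21590 = n18183 := (sb E43959 F44201)
theorem F296399 : act 4 n21590 = n39984 := (sb E43959 (iv4 F60860))
theorem E46679 : n124605 = n38898 := (((D38898).symm.trans (sb E43960 (iv5 F199300)))).symm
theorem E46681 : n123190 = n35481 := (((F56172).symm.trans (sb E43961 (iv3 F197463)))).symm
theorem E46682 : n123193 = n38901 := (((D38901).symm.trans (sb E43961 D123193))).symm
theorem E46683 : n78304 = n38891 := (((D38891).symm.trans (sb E43962 (iv1 F257126)))).symm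
theorem E46684 : n78278 = n38892 := (((D38892).symm.trans (sb E43962 (iv0 D162850)))).symm
theorem E46685 : n167646 = n38893 := (((D38893).symm.trans (sb E43962 (iv5 F263928)))).symm
theorem E46686 : n78302 = n38894 := (((D38894).symm.trans (sb E43962 F257125))).symm
theorem E46690 : n78402 = n36247 := ((((iv4 F56972)).symm.trans (sb E43967 (iv4 F119599)))).symm
theorem F296400 : act 5 n27644 = n17879 := (sb E43967 (iv5 D37179))
theorem E46691 : n76194 = n57930 := (((D57930).symm.trans (sb E43967 (iv6 F114158)))).symm
theorem F296401 : act 5 n13198 = n20340 := (sb E43968 F58131)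
theorem F296402 : act 6 n13198 = n17879 := (sb E43968 (iv6 D37180))
theorem E46698 : n169519 = n35343 := ((((iv4 F56061)).symm.trans (sb E43970 D169519))).symm
theorem E46703 : n166188 = n79200 := (((D79200).symm.trans (sb E43973 D166188))).symm
theorem E46704 : n79201 = n78511 := ((D79201).symm.trans (sb E43973 (iv5 F122501)))
theorem E46705 : n160519 = n79202 := (((D79202).symm.trans (sb E43973 (iv6 F253581)))).symm
theorem E46706 : n86205 = n39915 := ((((iv1 F115682)).symm.trans (sb E43974 (iv1 F261028)))).symm
theorem F296403 : act 3 n76965 = n42861 := (sb E43974 F116171)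
theorem F296404 : act 6 n76965 = n35318 := (sb E43974 (iv6 D77362))
theorem F296405 : act 2 n27716 = n45134 := (sb E43976 (iv2 F71110))
theorem F296406 : act 6 n27716 = n19159 := (sb E43976 F61685)
theorem F296407 : act 5 n91670 = n84549 := (sb E43978 F201669)
theorem F296409 : act 5 n91671 = n84550 := (sb E43979 F267751)
theorem F296410 : act 6 n91671 = n86068 := (sb E43979 F267752)
theorem E46711 : n166590 = n160510 := ((((iv4 F253560)).symm.trans (sb E43980 (iv4 F262166)))).symm
theorem E46713 : n81988 = n27481 := ((((iv6 F44396)).symm.trans (sb E43987 (iv6 D171059)))).symm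
theorem F296412 : act 1 n57341 = n75180 := (sb E43992 F149073)
theorem E46714 : n27489 = n8825 := (((F28323).symm.trans (sb E43993 (iv6 F44405)))).symm
theorem E46715 : n79630 = n78506 := (((D78506).symm.trans (sb E43994 D79630))).symm
theorem E46717 : n79545 = n27901 := (((F92676).symm.trans (sb E43994 (iv6 F122185)))).symm
theorem E46718 : n39176 = n27892 := ((((iv1 F45032)).symm.trans (sb E43995 F121632))).symm
theorem E46721 : n185532 = n125304 := ((D185532).symm.trans (sb E43996 F257660))
theorem E46722 : n125302 = n79861 := ((D125302).symm.trans (sb E43997 (iv1 F135351)))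
theorem E46723 : n125303 = n56243 := ((D125303).symm.trans (sb E43997 (iv0 F135350)))
theorem F296414 : act 2 n58675 = n78550 := (sb E43997 F135348)
theorem E46724 : n185533 = n125305 := (((D125305).symm.trans (sb E43997 D185533))).symm
theorem F296415 : act 6 n58675 = n41261 := (sb E43997 (iv6 D88379))
theorem E46725 : n79864 = n39802 := (((F92668).symm.trans (sb E43997 (iv7 F135352)))).symm
theorem E46726 : n87332 = n75982 := (((F126046).symm.trans (sb E43998 (iv5 F134088)))).symm
theorem E46727 : n174359 = n96429 := (((F148461).symm.trans (sb E43998 D174359))).symm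
theorem F296416 : act 3 n37401 = n27724 := (sb E43999 (iv3 D58183))
theorem E46728 : n56926 = n17948 := ((((iv5 D37401)).symm.trans (sb E43999 (iv5 F121490)))).symm
theorem F296417 : act 3 n13200 = n20340 := (sb E44001 (iv3 D43116))
theorem E46729 : n92215 = n27643 := (((D27643).symm.trans (sb E44001 D92215))).symm
theorem E46732 : n39891 = n39179 := (((iv0 F121133)).symm.trans (sb E44003 (iv0 D84783)))
theorem E46736 : n38982 = n38973 := ((((iv6 D84493)).symm.trans (sb E44004 F129639))).symm
theorem E46738 : n163437 = n124603 := ((((iv4 F199293)).symm.trans (sb E44005 F260980))).symm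
theorem E46739 : n185562 = n169888 := ((((iv4 F267319)).symm.trans (sb E44006 (iv4 F287870)))).symm
theorem F296420 : act 7 n157770 = n75175 := (sb E44007 (iv7 D157783))
theorem E46740 : n124195 = n8744 := ((((iv6 F13640)).symm.trans (sb E44008 F198679))).symm
theorem E46746 : n121930 = n17573 := (((F30468).symm.trans (sb E44013 (iv0 F261240)))).symm
theorem E46749 : n155362 = n27102 := ((((iv4 F43805)).symm.trans (sb E44014 F244330))).symm
theorem E46750 : n161279 = n17972 := (((F29890).symm.trans (sb E44014 F255100))).symm
theorem E46755 : n120838 = n27747 := (((D27747).symm.trans (sb E44015 F270374))).symm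
theorem E46757 : n55667 = n5930 := ((((iv4 F9204)).symm.trans (sb E44016 F124448))).symm
theorem E46759 : n167857 = n124518 := (((F199180).symm.trans (sb E44018 (iv2 F264461)))).symm
theorem E46760 : n167906 = n124612 := (((D124612).symm.trans (sb E44018 D167906))).symm
theorem E46761 : n167907 = n124613 := (((D124613).symm.trans (sb E44018 D167907))).symm
theorem E46762 : n124614 = n55827 := ((D124614).symm.trans (sb E44018 F123917))
theorem E46763 : n167908 = n79541 := ((((iv7 F122170)).symm.trans (sb E44018 D167908))).symm
theorem F296421 : act 1 n58179 = n86716 := (sb E44020 F282786)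
theorem E46766 : n75980 = n55484 := ((F116849).symm.trans (sb E44021 (iv1 D120512)))
theorem E46768 : n161092 = n81769 := ((((iv4 F125684)).symm.trans (sb E44021 F254646))).symm
theorem F296422 : act 0 n58184 = n86716 := (sb E44022 F268071)
theorem E46769 : n124608 = n123188 := ((D124608).symm.trans (sb E44022 F268070))
theorem E46770 : n81779 = n81565 := ((((iv4 F125461)).symm.trans (sb E44023 (iv4 F125704)))).symm
theorem E46771 : n123186 = n34789 := ((D123186).symm.trans (sb E44024 F116810))
theorem F296423 : act 6 n57333 = n27724 := (sb E44024 (iv6 D58185))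
theorem E46773 : n167889 = n27711 := (((D27711).symm.trans (sb E44025 (iv5 F264521)))).symm
theorem E46777 : n123321 = n39883 := (((D39883).symm.trans (sb E44027 F197629))).symm
theorem E46778 : n123038 = n39884 := (((D39884).symm.trans (sb E44027 (iv0 F197177)))).symm
theorem E46779 : n122576 = n39190 := ((((iv7 F60167)).symm.trans (sb E44027 (iv7 F196301)))).symm
theorem E46780 : n76863 = n27673 := ((((iv6 D58023)).symm.trans (sb E44028 (iv6 D160356)))).symm
theorem F296424 : act 0 n57547 = n37504 := (sb E44029 (iv1 D81899))
theorem E46781 : n170834 = n123480 := ((((iv4 F197892)).symm.trans (sb E44029 D170834))).symm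
theorem E46782 : n170833 = n124190 := ((((iv4 F198660)).symm.trans (sb E44030 (iv4 F268427)))).symm
theorem F296425 : act 7 n57890 = n37504 := (sb E44030 (iv7 D81900))
theorem F296426 : act 0 n167904 = n81776 := (sb E44031 (iv1 D170604))
theorem F296427 : act 0 n78869 = n78539 := (sb E44033 (iv1 F257221))
theorem F296428 : act 1 n78869 = n78562 := (sb E44033 (iv0 F257220))
theorem F296429 : act 3 n55948 = n75177 := (sb E44035 F120047)
theorem E46787 : n164190 = n121280 := (((D121280).symm.trans (sb E44035 D164190))).symm
theorem E46788 : n122313 = n121281 := (((D121281).symm.trans (sb E44035 (iv5 F195572)))).symm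
theorem F296430 : act 0 n157784 = n78562 := (sb E44036 (iv1 F257712))
theorem F296431 : act 1 n157784 = n78539 := (sb E44036 (iv0 D163426))
theorem E46790 : n176995 = n170156 := (((iv6 F276372)).symm.trans (sb E44036 (iv6 F267669)))
theorem E46791 : n84519 = n37293 := ((((iv5 D81606)).symm.trans (sb E44037 (iv5 F129670)))).symm
theorem F296432 : act 6 n81606 = n75177 := (sb E44037 (iv6 F129434))
theorem E46792 : n76855 = n38960 := ((F125514).symm.trans (sb E44037 F129432))
theorem F296433 : act 1 n78567 = n75175 := (sb E44038 (iv0 D157780))
theorem F296434 : act 0 n78564 = n75175 := (sb E44039 (iv1 D157781))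
theorem E46794 : n162926 = n162747 := (((iv6 F257255)).symm.trans (sb E44039 (iv6 F256974)))
theorem E46796 : n67473 = n23190 := (((iv3 F103326)).symm.trans (sb E44040 (iv3 D48066)))
theorem E46798 : n91294 = n67476 := (((D67476).symm.trans (sb E44040 (iv5 F291269)))).symm
theorem F296435 : act 3 n103206 = n67475 := (sb E44041 (iv3 D144023))
theorem F296436 : act 7 n103206 = n67564 := (sb E44041 F226705)
theorem F296437 : act 1 n103252 = n67564 := (sb E44042 (iv0 D144240))
theorem F296438 : act 0 n97328 = n67564 := (sb E44043 (iv1 D144241))
theorem F296439 : act 2 n103083 = n67564 := (sb E44044 (iv2 D144242))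
theorem E46801 : n164480 = n127102 := ((D164480).symm.trans (sb E44045 F226940))
theorem E46802 : n164481 = n127121 := ((D164481).symm.trans (sb E44045 F226941))
theorem E46803 : n127119 = n95792 := ((((iv2 F147487)).symm.trans (sb E44045 F226938))).symm
theorem F296440 : act 5 n78993 = n67566 := (sb E44045 (iv5 D144249))
theorem E46804 : n164483 = n127118 := ((D164483).symm.trans (sb E44045 F226939))
theorem F296441 : act 2 n8465 = n13092 := (sb E44046 (iv2 F21829))
theorem F296442 : act 6 n8465 = n4036 := (sb E44046 (iv6 D9008))
theorem E46805 : n40297 = n37382 := ((D40297).symm.trans (sb E44047 F116935))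
theorem E46806 : n18502 = n18499 := ((((iv0 F121058)).symm.trans (sb E44047 (iv0 D38980)))).symm
theorem F296443 : act 5 n19049 = n34798 := (sb E44047 (iv5 F126095))
theorem E46807 : n40300 = n18825 := ((D40300).symm.trans (sb E44047 F126078))
theorem F296444 : act 0 n19054 = n10296 := (sb E44049 (iv1 D21555))
theorem F296445 : act 1 n19054 = n17892 := (sb E44049 F33917)
theorem F296446 : act 2 n19054 = n13302 := (sb E44049 (iv2 F125977))
theorem F296447 : act 7 n19054 = n17889 := (sb E44049 (iv7 F125301))
theorem E46809 : n85656 = n81520 := (((D81520).symm.trans (sb E44050 (iv6 D179534)))).symm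
theorem F296448 : act 2 n37222 = n39559 := (sb E44051 (iv2 F117023))
theorem E46810 : n85657 = n81522 := (((D81522).symm.trans (sb E44051 D85657))).symm
theorem E46811 : n40178 = n39564 := ((F116740).symm.trans (sb E44051 F117022))
theorem F296449 : act 1 n8786 = n17896 := (sb E44052 F116733)
theorem F296450 : act 2 n8786 = n13183 := (sb E44052 (iv2 D27591))
theorem F296451 : act 0 n18727 = n17896 := (sb E44053 F116730)
theorem E46812 : n27838 = n13136 := (((iv3 F44948)).symm.trans (sb E44053 (iv3 D27444)))
theorem F296452 : act 7 n18727 = n13183 := (sb E44053 F44530)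
theorem E46814 : n45185 = n16819 := ((D45185).symm.trans (sb E44054 F116747))
theorem E46815 : n45186 = n45175 := ((D45186).symm.trans (sb E44054 (iv0 F116748)))
theorem F296453 : act 1 n18735 = n13183 := (sb E44055 (iv0 D27589))
theorem F296454 : act 3 n18735 = n13288 := (sb E44055 F90482)
theorem F296455 : act 7 n18735 = n17896 := (sb E44055 F116737)
theorem E46818 : n18037 = n12808 := (((D12808).symm.trans (sb E44057 (iv4 F29205)))).symm
theorem E46819 : n13062 = n12809 := (((D12809).symm.trans (sb E44057 (iv6 F21788)))).symm
theorem E46820 : n81928 = n13102 := (((D13102).symm.trans (sb E44059 (iv3 F126268)))).symm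
theorem E46822 : n56670 = n13104 := (((D13104).symm.trans (sb E44059 (iv6 F89633)))).symm
theorem E46823 : n13068 = n13060 := ((F121117).symm.trans (sb E44060 F44078))
theorem E46824 : n186475 = n56915 := (((D56915).symm.trans (sb E44061 F289341))).symm
theorem E46827 : n81561 = n56920 := (((D56920).symm.trans (sb E44063 (iv5 F125445)))).symm
theorem F296456 : act 1 n8464 = n13092 := (sb E44064 (iv0 D27319))
theorem F296457 : act 0 n8463 = n13092 := (sb E44065 (iv1 D27320))
theorem E46828 : n56930 = n17942 := (((D17942).symm.trans (sb E44065 D56930))).symm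
theorem E46831 : n56874 = n8576 := (((D8576).symm.trans (sb E44066 D56874))).symm
theorem E46832 : n36821 = n12543 := ((((iv3 F20895)).symm.trans (sb E44067 D36821))).symm
theorem E46833 : n36095 = n6719 := ((((iv5 F10960)).symm.trans (sb E44067 (iv5 F56847)))).symm
theorem E46834 : n77278 = n45223 := (((D45223).symm.trans (sb E44068 D77278))).symm
theorem E46835 : n77279 = n45224 := (((D45224).symm.trans (sb E44068 D77279))).symm
theorem E46836 : n77280 = n45221 := ((((iv2 F71288)).symm.trans (sb E44068 D77280))).symm
theorem E46837 : n47159 = n45225 := (((D45225).symm.trans (sb E44068 (iv5 F74437)))).symm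
theorem F296458 : act 0 n21584 = n10741 := (sb E44069 (iv1 D22691))
theorem F296459 : act 1 n21584 = n18969 := (sb E44069 F35269)
theorem E46838 : n45242 = n19073 := ((D45242).symm.trans (sb E44069 F35272))
theorem E46839 : n47160 = n45229 := ((((iv6 F71298)).symm.trans (sb E44069 D47160))).symm
theorem E46843 : n161175 = n35403 := (((D35403).symm.trans (sb E44077 (iv6 F273140)))).symm
theorem E46844 : n84139 = n18494 := (((F117852).symm.trans (sb E44078 (iv1 F255891)))).symm
theorem E46845 : n77751 = n57335 := ((((iv0 F121179)).symm.trans (sb E44078 (iv0 D161897)))).symm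
theorem E46846 : n80618 = n77730 := ((((iv7 F118585)).symm.trans (sb E44078 F255892))).symm
theorem E46847 : n161523 = n18311 := (((D18311).symm.trans (sb E44079 (iv3 F255523)))).symm
theorem E46849 : n35405 = n18313 := (((D18313).symm.trans (sb E44079 (iv6 D77556)))).symm
theorem F296460 : act 0 n8634 = n17737 := (sb E44080 (iv1 D36792))
theorem E46850 : n73949 = n17162 := (((D17162).symm.trans (sb E44081 F193832))).symm
theorem E46852 : n77754 = n17164 := (((D17164).symm.trans (sb E44081 (iv6 F193831)))).symm
theorem E46854 : n56060 = n12960 := (((D12960).symm.trans (sb E44082 (iv6 D121436)))).symm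
theorem E46855 : n56455 = n17617 := (((F43704).symm.trans (sb E44083 (iv1 F194781)))).symm
theorem E46856 : n56415 = n13015 := (((F43705).symm.trans (sb E44083 (iv0 D121974)))).symm
theorem E46857 : n40264 = n40258 := ((((iv1 F116692)).symm.trans (sb E44084 F129174))).symm
theorem E46858 : n86830 = n39966 := ((((iv0 F116693)).symm.trans (sb E44084 (iv0 F133124)))).symm
theorem E46859 : n176465 = n56064 := ((((iv3 F88733)).symm.trans (sb E44084 D176465))).symm
theorem E46860 : n161111 = n56068 := (((D56068).symm.trans (sb E44084 (iv5 F254685)))).symm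
theorem F296461 : act 1 n18439 = n17736 := (sb E44085 (iv0 D36788))
theorem E46862 : n38782 = n35432 := ((D38782).symm.trans (sb E44085 F116648))
theorem E46863 : n121537 = n18438 := (((D18438).symm.trans (sb E44086 (iv4 F193923)))).symm
theorem F296462 : act 3 n36790 = n18738 := (sb E44087 F118403)
theorem E46865 : n84705 = n13126 := (((D13126).symm.trans (sb E44089 (iv4 F129935)))).symm
theorem E46866 : n58024 = n13127 := (((D13127).symm.trans (sb E44089 (iv6 F91791)))).symm
theorem E46868 : n171060 = n13144 := (((D13144).symm.trans (sb E44090 (iv6 F268781)))).symm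
theorem E46869 : n58027 = n13145 := (((D13145).symm.trans (sb E44091 F126403))).symm
theorem E46870 : n57964 = n13146 := (((D13146).symm.trans (sb E44091 (iv0 F126405)))).symm
theorem E46871 : n56632 = n13148 := (((D13148).symm.trans (sb E44091 F126402))).symm
theorem E46873 : n84351 = n35687 := ((((iv0 F121186)).symm.trans (sb E44093 F267315))).symm
theorem E46874 : n96749 = n57328 := (((D57328).symm.trans (sb E44093 F267312))).symm
theorem E46875 : n81478 = n35691 := (((F121051).symm.trans (sb E44093 (iv7 D169885)))).symm
theorem E46876 : n84507 = n40069 := ((((iv4 F121174)).symm.trans (sb E44094 (iv4 F129635)))).symm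
theorem E46877 : n37393 = n37256 := (((iv6 F121176)).symm.trans (sb E44094 F60004))
theorem E46878 : n84361 = n40070 := ((((iv4 F121184)).symm.trans (sb E44095 (iv4 F129441)))).symm
theorem E46879 : n76159 = n57337 := (((D57337).symm.trans (sb E44095 F116927))).symm
theorem F296463 : act 6 n27450 = n18479 := (sb E44095 (iv6 D38902))
theorem F296464 : act 5 n27452 = n37316 := (sb E44096 F58262)
theorem F296465 : act 6 n27452 = n17889 := (sb E44096 (iv6 D37205))
theorem E46880 : n49035 = n36089 := (((D36089).symm.trans (sb E44097 (iv3 F77398)))).symm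
theorem E46881 : n36015 = n32816 := (((iv5 F56777)).symm.trans (sb E44097 (iv5 F51958)))
theorem E46882 : n36090 = n11199 := ((D36090).symm.trans (sb E44097 (iv6 D23921)))
theorem F296466 : act 6 n6310 = n13149 := (sb E44098 (iv6 D27483))
theorem E46885 : n179509 = n80684 := (((F124121).symm.trans (sb E44099 F279483))).symm
theorem E46886 : n86449 = n49033 := ((D86449).symm.trans (sb E44099 (iv6 D106092)))
theorem E46887 : n86450 = n58671 := (((D58671).symm.trans (sb E44101 D86450))).symm
theorem F296467 : act 6 n27898 = n18930 := (sb E44101 (iv6 D40044))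
theorem F296468 : act 3 n21557 = n13231 := (sb E44102 (iv3 D27719))
theorem E46888 : n45145 = n40100 := (((iv4 F71140)).symm.trans (sb E44102 (iv4 F118417)))
theorem E46891 : n81455 = n40097 := (((D40097).symm.trans (sb E44105 (iv6 D169864)))).symm
theorem F296469 : act 0 n18950 = n17888 := (sb E44107 (iv1 D37198))
theorem E46893 : n81457 = n40101 := (((D40101).symm.trans (sb E44107 D81457))).symm
theorem E46894 : n44493 = n40102 := (((D40102).symm.trans (sb E44107 (iv7 F126064)))).symm
theorem E46895 : n179538 = n179480 := (((D179480).symm.trans (sb E44108 F279553))).symm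
theorem E46896 : n181082 = n179481 := (((D179481).symm.trans (sb E44108 D181082))).symm
theorem E46897 : n181081 = n179482 := (((D179482).symm.trans (sb E44108 (iv2 F282024)))).symm
theorem F296470 : act 6 n85627 = n40065 := (sb E44108 (iv6 D86483))
theorem E46899 : n181058 = n85652 := ((((iv7 F131366)).symm.trans (sb E44108 (iv7 F281918)))).symm
theorem E46900 : n77637 = n58151 := ((D77637).symm.trans (sb E44109 (iv6 D124575)))
theorem F296471 : act 1 n18977 = n39559 := (sb E44111 (iv0 D85625))
theorem E46903 : n44582 = n40182 := (((D40182).symm.trans (sb E44111 (iv6 F131286)))).symm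
theorem F296472 : act 0 n18982 = n39559 := (sb E44112 (iv1 D85626))
theorem E46904 : n179479 = n40198 := (((D40198).symm.trans (sb E44112 D179479))).symm
theorem E46906 : n84478 = n40200 := (((D40200).symm.trans (sb E44112 (iv6 F131290)))).symm
theorem E46912 : n87304 = n58115 := (((F117020).symm.trans (sb E44114 (iv6 F134042)))).symm
theorem F296473 : act 2 n27715 = n40064 := (sb E44115 F61683)
theorem E46913 : n87303 = n58152 := (((D58152).symm.trans (sb E44115 D87303))).symm
theorem F296474 : act 6 n27715 = n19157 := (sb E44115 (iv6 D40555))
theorem E46914 : n18585 = n13137 := ((((iv1 F21916)).symm.trans (sb E44116 F117251))).symm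
theorem E46915 : n13135 = n8807 := (((iv2 F44534)).symm.trans (sb E44116 F30032))
theorem E46916 : n39696 = n13184 := (((D13184).symm.trans (sb E44116 D39696))).symm
theorem E46917 : n13279 = n13186 := (((D13186).symm.trans (sb E44116 (iv6 F30034)))).symm
theorem E46919 : n85574 = n57797 := (((D57797).symm.trans (sb E44117 D85574))).symm
theorem F296475 : act 6 n8783 = n13183 := (sb E44118 (iv6 D27594))
theorem E46920 : n36098 = n8796 := (((D8796).symm.trans (sb E44119 (iv4 F61262)))).symm
theorem F296476 : act 0 n18736 = n18932 := (sb E44120 (iv1 D40049))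
theorem E46922 : n86463 = n39569 := (((D39569).symm.trans (sb E44120 D86463))).symm
theorem E46927 : n55564 = n12815 := ((((iv3 D26791)).symm.trans (sb E44122 (iv3 F87869)))).symm
theorem F296478 : act 7 n34731 = n19162 := (sb E44124 (iv7 D40567))
theorem F296479 : act 0 n27626 = n13231 := (sb E44126 (iv1 F44720))
theorem F296480 : act 1 n27626 = n13230 := (sb E44126 F44721)
theorem F296481 : act 2 n27626 = n13233 := (sb E44126 F44716)
theorem E46929 : n18566 = n13193 := ((((iv3 D27626)).symm.trans (sb E44126 F44717))).symm
theorem F296482 : act 6 n27626 = n18481 := (sb E44126 F44718)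
theorem F296483 : act 7 n27626 = n13227 := (sb E44126 (iv7 D27707))
theorem F296484 : act 0 n21552 = n40012 := (sb E44132 (iv1 D86416))
theorem E46938 : n180999 = n45144 := (((D45144).symm.trans (sb E44133 D180999))).symm
theorem E46939 : n180830 = n170591 := ((D180830).symm.trans (sb E44135 (iv5 F268018)))
theorem E46940 : n81436 = n78325 := (((F132374).symm.trans (sb E44135 F146777))).symm
theorem F296485 : act 0 n37189 = n40064 := (sb E44136 F132381)
theorem E46941 : n84020 = n81431 := ((((iv3 F125267)).symm.trans (sb E44136 F132378))).symm
theorem E46943 : n181075 = n81525 := ((D181075).symm.trans (sb E44137 (iv0 F199167)))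
theorem E46944 : n181077 = n58170 := ((D181077).symm.trans (sb E44137 F199166))
theorem E46945 : n181080 = n58171 := ((D181080).symm.trans (sb E44138 F199169))
theorem F296486 : act 7 n27720 = n40064 := (sb E44139 (iv7 D86481))
theorem E46946 : n56410 = n3908 := ((((iv1 F9793)).symm.trans (sb E44140 (iv1 F89271)))).symm
theorem E46948 : n36121 = n12482 := ((((iv4 F20780)).symm.trans (sb E44140 (iv4 F124365)))).symm
theorem F296487 : act 1 n27712 = n18974 := (sb E44141 (iv0 D40166))
theorem F296488 : act 0 n8723 = n13087 := (sb E44143 (iv1 D27311))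
theorem E46953 : n18564 = n13192 := ((D18564).symm.trans (sb E44143 F44185))
theorem E46954 : n56900 = n18562 := ((((iv4 F29801)).symm.trans (sb E44143 D56900))).symm
theorem F296489 : act 0 n27703 = n18974 := (sb E44144 (iv1 D40167))
theorem E46955 : n86668 = n58106 := ((((iv3 F91905)).symm.trans (sb E44144 D86668))).symm
theorem F296490 : act 1 n39214 = n45134 := (sb E44145 (iv0 D96648))
theorem E46957 : n80103 = n18601 := ((((iv3 D39214)).symm.trans (sb E44145 F192600))).symm
theorem E46958 : n84809 = n78614 := ((D84809).symm.trans (sb E44145 (iv4 F193987)))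
theorem F296491 : act 0 n84521 = n45134 := (sb E44146 (iv1 D96649))
theorem E46959 : n81891 = n55499 := (((iv3 F129684)).symm.trans (sb E44146 F148924))
theorem E46960 : n165497 = n78615 := (((iv4 F260723)).symm.trans (sb E44146 F148927))
theorem F296492 : act 5 n12799 = n17371 := (sb E44149 (iv5 D35880))
theorem E46973 : n12991 = n3744 := (((D3744).symm.trans (sb E44157 (iv7 D27120)))).symm
theorem E46975 : n15964 = n3415 := ((((iv3 F5406)).symm.trans (sb E44159 (iv3 F25481)))).symm
theorem E46985 : n55199 = n3450 := (((D3450).symm.trans (sb E44177 F133238))).symm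
theorem E46996 : n57849 = n6302 := (((F30436).symm.trans (sb E44183 (iv1 D124131)))).symm
theorem E47000 : n35444 = n8906 := (((D8906).symm.trans (sb E44184 (iv3 F91180)))).symm
theorem E47001 : n79309 = n3915 := ((((iv4 F28967)).symm.trans (sb E44184 (iv4 F121704)))).symm
theorem E47002 : n19032 = n8908 := (((D8908).symm.trans (sb E44184 (iv5 F59717)))).symm
theorem E47003 : n17464 = n8909 := (((D8909).symm.trans (sb E44184 (iv6 D36105)))).symm
theorem E47004 : n17562 = n8911 := (((D8911).symm.trans (sb E44185 F59702))).symm
theorem E47005 : n79457 = n3916 := ((((iv4 F28977)).symm.trans (sb E44185 (iv4 F122022)))).symm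
theorem E47006 : n18896 = n8913 := (((D8913).symm.trans (sb E44185 F59703))).symm
theorem E47010 : n167799 = n18248 := (((D18248).symm.trans (sb E44193 (iv6 F264209)))).symm
theorem E47011 : n38305 = n36734 := (((iv1 F118919)).symm.trans (sb E44194 (iv1 D80522)))
theorem E47012 : n55844 = n38310 := ((((iv0 F119010)).symm.trans (sb E44194 F123789))).symm
theorem E47013 : n125249 = n40075 := (((D40075).symm.trans (sb E44195 (iv4 F201399)))).symm
theorem E47015 : n38937 = n17299 := (((D17299).symm.trans (sb E44196 F129591))).symm
theorem E47017 : n40110 = n38914 := ((D40110).symm.trans (sb E44198 (iv4 F59952)))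
theorem F296493 : act 6 n18952 = n21436 := (sb E44198 (iv6 F33668))
theorem F296494 : act 7 n18952 = n10085 := (sb E44198 (iv7 D21163))
theorem F296495 : act 1 n18954 = n10085 := (sb E44199 (iv0 D21160))
theorem E47018 : n117945 = n40117 := (((D40117).symm.trans (sb E44200 F261623))).symm
theorem E47019 : n155516 = n40118 := (((D40118).symm.trans (sb E44200 (iv0 F261624)))).symm
theorem E47020 : n79775 = n40120 := (((D40120).symm.trans (sb E44200 (iv4 D166139)))).symm
theorem E47021 : n128409 = n40122 := (((D40122).symm.trans (sb E44200 F261621))).symm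
theorem E47023 : n40127 = n39799 := ((D40127).symm.trans (sb E44202 (iv7 F129594)))
theorem F296496 : act 2 n18960 = n27898 := (sb E44204 F121719)
theorem E47025 : n96310 = n40134 := (((D40134).symm.trans (sb E44204 D96310))).symm
theorem E47031 : n96776 = n40147 := (((D40147).symm.trans (sb E44206 (iv3 F149247)))).symm
theorem E47033 : n96820 = n40148 := (((D40148).symm.trans (sb E44206 D96820))).symm
theorem F296497 : act 7 n18966 = n21584 := (sb E44206 (iv7 D45243))
theorem F296498 : act 2 n18967 = n21584 := (sb E44207 F70925)
theorem E47034 : n96499 = n15906 := ((((iv3 F30289)).symm.trans (sb E44207 (iv3 F148608)))).symm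
theorem E47036 : n44769 = n40149 := (((D40149).symm.trans (sb E44207 F70926))).symm
theorem F296499 : act 1 n18733 = n8889 := (sb E44208 (iv0 D18970))
theorem F296500 : act 2 n18733 = n27592 := (sb E44208 (iv2 F44547))
theorem E47037 : n40155 = n39549 := ((((iv3 F60433)).symm.trans (sb E44208 D40155))).symm
theorem F296501 : act 2 n18971 = n18736 := (sb E44209 F60424)
theorem E47039 : n85575 = n40158 := (((D40158).symm.trans (sb E44209 D85575))).symm
theorem F296502 : act 4 n18971 = n18727 := (sb E44209 (iv4 D39541))
theorem E47040 : n81669 = n40159 := (((D40159).symm.trans (sb E44209 (iv5 F125594)))).symm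
theorem E47041 : n81770 = n40160 := (((D40160).symm.trans (sb E44209 (iv6 F125686)))).symm
theorem E47042 : n40161 = n34729 := ((D40161).symm.trans (sb E44210 (iv1 D75992)))
theorem F296503 : act 0 n18973 = n18736 := (sb E44211 (iv1 D39568))
theorem F296504 : act 5 n18976 = n18893 := (sb E44212 F120883)
theorem F296505 : act 0 n18979 = n21436 := (sb E44213 (iv1 F33671))
theorem F296506 : act 1 n18979 = n10118 := (sb E44213 (iv0 D21208))
theorem E47048 : n57747 = n40195 := (((D40195).symm.trans (sb E44214 (iv4 F90931)))).symm
theorem E47050 : n44589 = n36770 := ((((iv5 F118815)).symm.trans (sb E44215 (iv5 D95447)))).symm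
theorem E47053 : n124538 = n105944 := ((D124538).symm.trans (sb E44216 (iv2 F162688)))
theorem E47054 : n180823 = n124539 := (((D124539).symm.trans (sb E44216 D180823))).symm
theorem F296507 : act 6 n58125 = n39976 := (sb E44216 (iv6 D86364))
theorem F296508 : act 1 n57878 = n27709 := (sb E44217 F91914)
theorem F296509 : act 2 n57878 = n27712 := (sb E44217 F91910)
theorem E47056 : n124507 = n124170 := (((D124170).symm.trans (sb E44217 (iv3 F199149)))).symm
theorem E47057 : n124512 = n124171 := (((D124171).symm.trans (sb E44217 (iv5 F199163)))).symm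
theorem F296510 : act 7 n57878 = n27703 := (sb E44217 (iv7 D58109))
theorem E47058 : n180826 = n124541 := (((D124541).symm.trans (sb E44218 D180826))).symm
theorem E47060 : n180827 = n124543 := (((D124543).symm.trans (sb E44218 D180827))).symm
theorem E47061 : n124544 = n41143 := ((D124544).symm.trans (sb E44218 F132367))
theorem F296511 : act 4 n58107 = n39980 := (sb E44219 F132369)
theorem F296512 : act 1 n35700 = n38930 := (sb E44221 (iv0 F121260))
theorem F296513 : act 7 n35700 = n21429 := (sb E44221 (iv7 D44897))
theorem E47063 : n80669 = n80560 := ((((iv5 F123851)).symm.trans (sb E44222 F260049))).symm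
theorem E47065 : n163587 = n124584 := ((D163587).symm.trans (sb E44224 F260684))
theorem E47066 : n163588 = n124620 := ((D163588).symm.trans (sb E44224 F260682))
theorem E47069 : n80835 = n15318 := (((D15318).symm.trans (sb E44226 D80835))).symm
theorem E47070 : n80678 = n15319 := (((D15319).symm.trans (sb E44226 (iv0 F286762)))).symm
theorem E47073 : n80839 = n15321 := (((D15321).symm.trans (sb E44226 D80839))).symm
theorem E47078 : n80724 = n15322 := (((D15322).symm.trans (sb E44228 F124206))).symm
theorem E47082 : n35369 = n17636 := (((F91234).symm.trans (sb E44229 (iv3 F91268)))).symm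
theorem E47083 : n80731 = n12792 := ((((iv4 F28962)).symm.trans (sb E44229 (iv4 F124221)))).symm
theorem E47084 : n55741 = n17690 := (((D17690).symm.trans (sb E44229 (iv5 F88177)))).symm
theorem E47085 : n17759 = n17678 := ((((iv6 F28746)).symm.trans (sb E44229 (iv6 D36863)))).symm
theorem E47086 : n17821 = n17692 := (((D17692).symm.trans (sb E44230 F89131))).symm
theorem E47087 : n80794 = n12793 := ((((iv4 F42953)).symm.trans (sb E44230 (iv4 F124507)))).symm
theorem E47090 : n96761 = n40568 := (((D40568).symm.trans (sb E44232 (iv1 F149231)))).symm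
theorem E47091 : n73705 = n40569 := (((D40569).symm.trans (sb E44232 (iv0 F110403)))).symm
theorem E47092 : n96763 = n40570 := (((D40570).symm.trans (sb E44232 (iv2 F149237)))).symm
theorem E47093 : n36008 = n26326 := (((iv4 F56761)).symm.trans (sb E44232 F71294))
theorem E47094 : n40571 = n32857 := ((D40571).symm.trans (sb E44232 F71295))
theorem F296514 : act 7 n19163 = n21580 := (sb E44232 (iv7 D45226))
theorem F296515 : act 2 n17938 = n27318 := (sb E44233 (iv2 F44205))
theorem E47095 : n40574 = n37360 := ((((iv5 F58283)).symm.trans (sb E44233 D40574))).symm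
theorem F296516 : act 6 n17938 = n9007 := (sb E44233 (iv6 D19164))
theorem E47097 : n96498 = n40719 := (((D40719).symm.trans (sb E44234 D96498))).symm
theorem E47098 : n96496 = n40720 := (((D40720).symm.trans (sb E44234 (iv2 F148605)))).symm
theorem E47099 : n37514 = n26759 := ((((iv4 F42996)).symm.trans (sb E44234 F70923))).symm
theorem F296517 : act 6 n19214 = n21513 := (sb E44234 (iv6 D45054))
theorem E47102 : n80465 = n70496 := ((D80465).symm.trans (sb E44242 (iv3 F131055)))
theorem E47103 : n37292 = n26841 := (((iv4 F117087)).symm.trans (sb E44242 F87940))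
theorem E47105 : n80467 = n26839 := ((D80467).symm.trans (sb E44242 (iv6 D55597)))
theorem E47107 : n159073 = n80470 := (((D80470).symm.trans (sb E44243 (iv6 F265406)))).symm
theorem E47108 : n80471 = n18491 := ((D80471).symm.trans (sb E44244 (iv1 D38939)))
theorem E47109 : n84355 = n80472 := (((D80472).symm.trans (sb E44244 F129421))).symm
theorem E47110 : n84457 = n80473 := (((D80473).symm.trans (sb E44244 D84457))).symm
theorem E47111 : n84352 = n80474 := (((D80474).symm.trans (sb E44244 (iv7 F129422)))).symm
theorem F296518 : act 1 n36667 = n19486 := (sb E44246 F112797)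
theorem F296519 : act 3 n36667 = n17684 := (sb E44246 (iv3 D36691))
theorem E47113 : n80475 = n55850 := (((F121372).symm.trans (sb E44246 D80475))).symm
theorem E47114 : n84474 = n80478 := (((D80478).symm.trans (sb E44247 F149167))).symm
theorem E47115 : n80479 = n45195 := ((D80479).symm.trans (sb E44247 (iv6 D96732)))
theorem E47116 : n96178 = n78283 := (((F119480).symm.trans (sb E44248 (iv1 F192773)))).symm
theorem E47117 : n56244 = n55732 := (((iv0 F119036)).symm.trans (sb E44248 (iv0 D120870)))
theorem E47118 : n84482 = n80480 := (((D80480).symm.trans (sb E44248 F192771))).symm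
theorem E47119 : n80667 = n55825 := (((F119061).symm.trans (sb E44248 F192772))).symm
theorem F296520 : act 2 n36664 = n35292 := (sb E44249 F114038)
theorem F296521 : act 5 n36664 = n35275 := (sb E44249 F57570)
theorem F296522 : act 6 n36664 = n17684 := (sb E44249 (iv6 D36694))
theorem F296523 : act 7 n36664 = n35287 := (sb E44249 (iv7 F114019))
theorem E47120 : n149953 = n80483 := (((D80483).symm.trans (sb E44250 F263887))).symm
theorem E47121 : n84475 = n80484 := (((D80484).symm.trans (sb E44250 F149305))).symm
theorem E47123 : n84483 = n80486 := (((D80486).symm.trans (sb E44251 (iv4 F192780)))).symm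
theorem E47126 : n89214 = n85603 := ((D89214).symm.trans (sb E44254 (iv5 D179421)))
theorem E47129 : n159075 = n80575 := ((((iv6 F123880)).symm.trans (sb E44255 D159075))).symm
theorem E47130 : n161021 = n120653 := (((D120653).symm.trans (sb E44256 D161021))).symm
theorem E47137 : n161026 = n81541 := ((D161026).symm.trans (sb E44259 F149341))
theorem F296528 : act 2 n40493 = n35287 := (sb E44260 F116054)
theorem F296529 : act 5 n40493 = n35274 := (sb E44260 (iv5 D77274))
theorem F296530 : act 7 n40493 = n35292 := (sb E44260 F116055)
theorem E47140 : n98257 = n80562 := (((F123862).symm.trans (sb E44261 F194564))).symm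
theorem F296531 : act 2 n36816 = n35293 := (sb E44264 F122401)
theorem F296532 : act 6 n36816 = n35275 := (sb E44264 F122404)
theorem E47144 : n175068 = n79008 := ((((iv4 F120190)).symm.trans (sb E44265 F287091))).symm
theorem E47145 : n88815 = n33096 := ((((iv3 D71555)).symm.trans (sb E44266 F149004))).symm
theorem E47146 : n77430 = n55309 := ((F116236).symm.trans (sb E44266 F149005))
theorem E47147 : n151793 = n45164 := ((D151793).symm.trans (sb E44266 (iv6 D96682)))
theorem E47148 : n161926 = n56430 := (((D56430).symm.trans (sb E44268 F255914))).symm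
theorem E47149 : n180843 = n177402 := ((D180843).symm.trans (sb E44270 (iv7 F276804)))
theorem E47151 : n180844 = n176986 := ((D180844).symm.trans (sb E44275 (iv4 F276347)))
theorem F296533 : act 7 n84520 = n39984 := (sb E44276 (iv7 D86377))
theorem E47153 : n161647 = n101600 := ((((iv3 F156525)).symm.trans (sb E44277 (iv3 F255665)))).symm
theorem E47154 : n149974 = n120778 := (((iv4 F235925)).symm.trans (sb E44277 (iv4 F192614)))
theorem E47155 : n180832 = n45188 := ((D180832).symm.trans (sb E44277 (iv6 D96714)))
theorem E47156 : n151731 = n149771 := (((iv3 F238612)).symm.trans (sb E44278 (iv3 F235585)))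
theorem E47157 : n168844 = n81671 := ((((iv4 F132386)).symm.trans (sb E44278 (iv4 F265921)))).symm
theorem E47158 : n180833 = n81786 := ((D180833).symm.trans (sb E44278 F235586))
theorem E47165 : n180838 = n95446 := ((D180838).symm.trans (sb E44285 F149346))
theorem E47167 : n180839 = n125240 := ((D180839).symm.trans (sb E44285 (iv4 F201386)))
theorem E47169 : n151730 = n70543 := ((((iv0 F107007)).symm.trans (sb E44287 F238609))).symm
theorem E47170 : n76590 = n54430 := (((F106977).symm.trans (sb E44287 F132454))).symm
theorem E47171 : n40121 = n32718 := (((F106978).symm.trans (sb E44287 F132455))).symm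
theorem E47174 : n98048 = n54433 := ((((iv7 F106979)).symm.trans (sb E44287 (iv7 F151185)))).symm
theorem E47178 : n33452 = n9074 := (((F30960).symm.trans (sb E44288 (iv3 D72466)))).symm
theorem E47180 : n149949 = n41002 := (((D41002).symm.trans (sb E44288 (iv6 F235860)))).symm
theorem E47182 : n180888 = n149952 := (((D149952).symm.trans (sb E44289 D180888))).symm
theorem E47183 : n149954 = n98050 := ((D149954).symm.trans (sb E44289 (iv2 F151188)))
theorem F296535 : act 6 n70528 = n40006 := (sb E44289 (iv6 D86399))
theorem E47186 : n150153 = n70878 := ((((iv1 F107387)).symm.trans (sb E44291 F236321))).symm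
theorem E47187 : n165202 = n32668 := ((((iv0 D70379)).symm.trans (sb E44291 D165202))).symm
theorem F296536 : act 2 n70379 = n40008 := (sb E44291 F121970)
theorem E47188 : n165203 = n70203 := ((((iv5 F107031)).symm.trans (sb E44291 D165203))).symm
theorem F296538 : act 6 n70379 = n36143 := (sb E44291 (iv6 D79373))
theorem E47189 : n165204 = n70877 := ((((iv7 F107381)).symm.trans (sb E44291 D165204))).symm
theorem F296539 : act 1 n32844 = n40008 := (sb E44292 (iv0 D86401))
theorem E47190 : n180892 = n15809 := ((((iv3 D32844)).symm.trans (sb E44292 D180892))).symm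
theorem E47191 : n100063 = n33437 := ((((iv4 F52724)).symm.trans (sb E44292 (iv4 F286870)))).symm
theorem F296540 : act 0 n70380 = n40008 := (sb E44293 (iv1 D86402))
theorem E47194 : n105879 = n70862 := ((((iv3 F107334)).symm.trans (sb E44293 (iv3 F191268)))).symm
theorem E47195 : n120363 = n100064 := (((iv4 F191722)).symm.trans (sb E44293 (iv4 F286880)))
theorem F296542 : act 5 n76766 = n40008 := (sb E44294 (iv5 D86403))
theorem E47201 : n165194 = n160217 := (((D160217).symm.trans (sb E44294 (iv6 F260449)))).symm
theorem E47203 : n81573 = n80554 := ((D81573).symm.trans (sb E44295 F132460))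
theorem F296543 : act 7 n37266 = n40008 := (sb E44295 (iv7 D86404))
theorem E47204 : n98053 = n70958 := ((D98053).symm.trans (sb E44296 (iv1 D150540)))
theorem F296544 : act 2 n86407 = n81443 := (sb E44297 F134232)
theorem F296545 : act 4 n86407 = n44529 := (sb E44297 F134233)
theorem E47207 : n183202 = n180911 := (((D180911).symm.trans (sb E44297 D183202))).symm
theorem E47208 : n150350 = n45163 := (((D45163).symm.trans (sb E44298 F236641))).symm
theorem E47215 : n86496 = n45169 := (((D45169).symm.trans (sb E44300 (iv5 F132669)))).symm
theorem E47219 : n86681 = n45196 := (((D45196).symm.trans (sb E44302 (iv5 F132926)))).symm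
theorem F296546 : act 1 n21544 = n40012 := (sb E44303 (iv0 D86415))
theorem E47224 : n180938 = n81444 := (((D81444).symm.trans (sb E44304 D180938))).symm
theorem F296547 : act 7 n37195 = n40012 := (sb E44304 (iv7 D86418))
theorem F296548 : act 6 n36758 = n17910 := (sb E44305 (iv6 D37267))
theorem F296549 : act 0 n37259 = n39988 := (sb E44306 F121279)
theorem F296550 : act 1 n37259 = n21889 := (sb E44306 F121280)
theorem E47226 : n80326 = n80312 := (((iv3 F123407)).symm.trans (sb E44306 (iv3 F123393)))
theorem E47227 : n87328 = n81567 := (((D81567).symm.trans (sb E44306 D87328))).symm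
theorem E47228 : n87329 = n76018 := (((F117037).symm.trans (sb E44306 D87329))).symm
theorem F296551 : act 0 n37255 = n21889 := (sb E44307 F118887)
theorem F296552 : act 1 n37255 = n39988 := (sb E44307 F118888)
theorem E47231 : n98060 = n84479 := ((D98060).symm.trans (sb E44308 F267516))
theorem E47232 : n170069 = n98061 := (((D98061).symm.trans (sb E44308 (iv0 F267555)))).symm
theorem E47233 : n170520 = n98062 := (((D98062).symm.trans (sb E44308 (iv4 F267958)))).symm
theorem F296553 : act 7 n6172 = n2606 := (sb E44309 (iv7 D6202))
theorem E47234 : n17746 = n7385 := ((D17746).symm.trans (sb E44310 (iv1 F41801)))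
theorem F296554 : act 1 n8368 = n5964 := (sb E44310 (iv0 F41802))
theorem E47235 : n17811 = n17748 := (((D17748).symm.trans (sb E44310 D17811))).symm
theorem E47236 : n17812 = n17749 := (((D17749).symm.trans (sb E44310 D17812))).symm
theorem E47237 : n17813 = n17750 := (((D17750).symm.trans (sb E44310 D17813))).symm
theorem F296555 : act 7 n8368 = n7384 := (sb E44310 F30488)
theorem E47238 : n17751 = n17679 := ((D17751).symm.trans (sb E44311 (iv1 F43463)))
theorem E47240 : n80982 = n37329 := (((D37329).symm.trans (sb E44312 D80982))).symm
theorem E47241 : n54775 = n37330 := (((D37330).symm.trans (sb E44312 (iv0 F86659)))).symm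
theorem E47242 : n80983 = n37331 := (((D37331).symm.trans (sb E44312 D80983))).symm
theorem E47244 : n80985 = n37333 := (((D37333).symm.trans (sb E44312 D80985))).symm
theorem E47246 : n80991 = n37312 := ((((iv0 F116769)).symm.trans (sb E44314 D80991))).symm
theorem E47247 : n80992 = n37337 := (((D37337).symm.trans (sb E44314 D80992))).symm
theorem E47249 : n80668 = n55826 := ((D80668).symm.trans (sb E44315 F122411))
theorem F296556 : act 7 n36817 = n35293 := (sb E44315 F122412)
theorem F296557 : act 1 n36818 = n35293 := (sb E44316 F118522)
theorem E47257 : n86634 = n37327 := (((D37327).symm.trans (sb E44319 (iv5 F132875)))).symm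
theorem F296558 : act 0 n40495 = n35292 := (sb E44320 (iv1 F116107))
theorem F296559 : act 1 n40495 = n35287 := (sb E44320 (iv0 D77305))
theorem E47260 : n26907 = n13002 := (((D13002).symm.trans (sb E44321 (iv5 F43846)))).symm
theorem F296560 : act 1 n17936 = n27318 := (sb E44322 F121244)
theorem E47262 : n37353 = n32884 := ((D37353).symm.trans (sb E44322 (iv3 F52062)))
theorem F296561 : act 4 n17936 = n13000 := (sb E44322 (iv4 D27143))
theorem E47264 : n56380 = n37356 := (((D37356).symm.trans (sb E44322 D56380))).symm
theorem E47265 : n58589 = n56383 := (((D56383).symm.trans (sb E44323 F92563))).symm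
theorem F296562 : act 0 n17935 = n27318 := (sb E44325 F121245)
theorem E47266 : n80556 = n37348 := (((D37348).symm.trans (sb E44325 D80556))).symm
theorem F296563 : act 4 n17935 = n17724 := (sb E44325 (iv4 D36761))
theorem E47268 : n80558 = n37351 := (((D37351).symm.trans (sb E44325 D80558))).symm
theorem E47269 : n80559 = n58588 := ((D80559).symm.trans (sb E44326 (iv4 F118940)))
theorem E47275 : n77895 = n17239 := (((F28497).symm.trans (sb E44333 F256227))).symm
theorem E47277 : n80246 = n80110 := (((D80110).symm.trans (sb E44335 (iv6 D167149)))).symm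
theorem E47278 : n79154 = n77888 := ((((iv1 F119107)).symm.trans (sb E44336 (iv1 F122229)))).symm
theorem E47281 : n162213 = n121575 := (((D121575).symm.trans (sb E44337 D162213))).symm
theorem E47283 : n84206 = n83308 := ((((iv6 F128402)).symm.trans (sb E44337 (iv6 F129271)))).symm
theorem E47285 : n83309 = n80617 := ((D83309).symm.trans (sb E44338 (iv7 F126154)))
theorem F296566 : act 4 n120933 = n157761 := (sb E44343 (iv4 F248648))
theorem E47291 : n158085 = n78845 := ((D158085).symm.trans (sb E44346 (iv1 F199070)))
theorem F296568 : act 3 n75298 = n78867 := (sb E44346 F192902)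
theorem E47319 : n77849 = n38124 := (((D38124).symm.trans (sb E44368 (iv6 F193876)))).symm
theorem E47320 : n81752 = n35476 := (((F118583).symm.trans (sb E44369 F256117))).symm
theorem E47322 : n176617 = n38371 := (((D38371).symm.trans (sb E44370 (iv3 F275989)))).symm
theorem E47324 : n38831 = n38372 := (((D38372).symm.trans (sb E44370 (iv6 D84203)))).symm
theorem F296570 : act 0 n18310 = n27112 := (sb E44371 (iv1 F126030))
theorem F296571 : act 3 n18310 = n8677 := (sb E44371 (iv3 D18455))
theorem E47325 : n33947 = n27023 := (((D27023).symm.trans (sb E44372 F110732))).symm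
theorem E47327 : n33945 = n27024 := (((D27024).symm.trans (sb E44372 (iv6 D73941)))).symm
theorem E47328 : n121976 = n8313 := (((F28154).symm.trans (sb E44373 (iv1 F194786)))).symm
theorem E47329 : n27170 = n27124 := ((((iv0 F43862)).symm.trans (sb E44373 (iv0 D56452)))).symm
theorem E47333 : n77628 = n19022 := ((((iv1 F116662)).symm.trans (sb E44374 (iv1 F133137)))).symm
theorem E47334 : n40267 = n35443 := ((((iv0 F116663)).symm.trans (sb E44374 (iv0 D86837)))).symm
theorem E47336 : n167057 = n35463 := (((D35463).symm.trans (sb E44374 (iv5 F263099)))).symm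
theorem F296572 : act 2 n18263 = n18439 := (sb E44375 F59671)
theorem E47338 : n77620 = n38227 := (((D38227).symm.trans (sb E44375 (iv4 F116521)))).symm
theorem F296573 : act 3 n18437 = n18265 := (sb E44376 F59094)
theorem E47339 : n83064 = n38772 := (((D38772).symm.trans (sb E44376 D83064))).symm
theorem F296574 : act 5 n18437 = n18263 := (sb E44376 (iv5 D38228))
theorem E47340 : n38785 = n38774 := (((D38774).symm.trans (sb E44376 (iv6 F59680)))).symm
theorem F296575 : act 7 n18437 = n18439 := (sb E44376 F59095)
theorem F296576 : act 1 n18436 = n18439 := (sb E44377 (iv0 D38780))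
theorem E47344 : n35410 = n27049 := (((iv1 F122319)).symm.trans (sb E44380 F88667))
theorem E47345 : n121396 = n35451 := ((((iv3 F56159)).symm.trans (sb E44380 D121396))).symm
theorem E47346 : n121397 = n35455 := (((D35455).symm.trans (sb E44380 D121397))).symm
theorem E47347 : n35456 = n27047 := ((D35456).symm.trans (sb E44380 F117013))
theorem F296577 : act 1 n18317 = n27112 := (sb E44381 (iv0 D56271))
theorem E47348 : n56049 = n38386 := ((((iv4 F59247)).symm.trans (sb E44381 (iv4 F126107)))).symm
theorem E47349 : n124564 = n121794 := (((D121794).symm.trans (sb E44382 D124564))).symm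
theorem E47350 : n124565 = n38846 := ((((iv0 F117115)).symm.trans (sb E44382 D124565))).symm
theorem E47351 : n124566 = n77522 := ((((iv4 F116417)).symm.trans (sb E44382 D124566))).symm
theorem E47352 : n121795 = n38395 := ((D121795).symm.trans (sb E44382 (iv7 F118436)))
theorem F296579 : act 6 n18315 = n36790 := (sb E44383 F89007)
theorem F296580 : act 7 n18315 = n27112 := (sb E44383 (iv7 D56274))
theorem E47353 : n166190 = n17173 := ((((iv1 D35395)).symm.trans (sb E44384 F261666))).symm
theorem E47355 : n36499 = n8314 := (((D8314).symm.trans (sb E44385 F89280))).symm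
theorem E47356 : n27157 = n26390 := ((D27157).symm.trans (sb E44386 (iv3 F42140)))
theorem E47357 : n122013 = n36573 := (((D36573).symm.trans (sb E44387 D122013))).symm
theorem E47361 : n122017 = n36575 := (((D36575).symm.trans (sb E44387 D122017))).symm
theorem E47364 : n77451 = n36551 := ((((iv1 F117081)).symm.trans (sb E44389 F129658))).symm
theorem E47365 : n122022 = n36555 := ((((iv0 F117078)).symm.trans (sb E44389 D122022))).symm
theorem E47366 : n77481 = n36579 := (((D36579).symm.trans (sb E44389 F116309))).symm
theorem E47368 : n80183 = n35321 := (((F117067).symm.trans (sb E44390 (iv4 F123143)))).symm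
theorem F296581 : act 3 n36032 = n34650 := (sb E44391 F113614)
theorem E47370 : n158778 = n35322 := (((F117071).symm.trans (sb E44391 (iv4 F249975)))).symm
theorem E47371 : n124465 = n79150 := (((D79150).symm.trans (sb E44391 (iv5 F199065)))).symm
theorem E47372 : n158205 = n79151 := (((D79151).symm.trans (sb E44391 (iv6 F249210)))).symm
theorem E47381 : n77329 = n36524 := ((((iv1 F116614)).symm.trans (sb E44396 F118501))).symm
theorem E47383 : n122030 = n36571 := (((D36571).symm.trans (sb E44396 D122030))).symm
theorem F296583 : act 3 n36005 = n34495 := (sb E44397 F112983)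
theorem E47385 : n158203 = n35357 := (((F116627).symm.trans (sb E44397 D158203))).symm
theorem E47386 : n122471 = n79111 := (((D79111).symm.trans (sb E44397 (iv6 F195954)))).symm
theorem E47387 : n80226 = n34640 := (((D34640).symm.trans (sb E44398 (iv4 F123247)))).symm
theorem F296584 : act 3 n36007 = n34731 := (sb E44399 F120387)
theorem E47388 : n161286 = n7829 := (((F13553).symm.trans (sb E44400 (iv1 F259307)))).symm
theorem E47395 : n161511 = n35323 := (((D35323).symm.trans (sb E44402 (iv5 F255512)))).symm
theorem E47397 : n35353 = n34589 := ((D35353).symm.trans (sb E44403 (iv1 D75630)))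
theorem E47398 : n41709 = n35354 := (((D35354).symm.trans (sb E44403 F113474))).symm
theorem E47399 : n41707 = n18346 := ((((iv2 F29531)).symm.trans (sb E44403 F286940))).symm
theorem E47400 : n158560 = n18344 := (((F29530).symm.trans (sb E44403 D158560))).symm
theorem E47401 : n158561 = n35355 := (((D35355).symm.trans (sb E44403 D158561))).symm
theorem E47406 : n172620 = n71979 := (((D71979).symm.trans (sb E44406 (iv1 F270845)))).symm
theorem F296585 : act 4 n77363 = n38024 := (sb E44408 F127313)
theorem E47425 : n80360 = n80165 := (((D80165).symm.trans (sb E44410 F127321))).symm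
theorem E47437 : n172651 = n158402 := (((D158402).symm.trans (sb E44414 D172651))).symm
theorem E47440 : n17659 = n17654 := (((F118646).symm.trans (sb E44416 (iv1 F57478)))).symm
theorem E47441 : n80361 = n80166 := (((D80166).symm.trans (sb E44416 D80361))).symm
theorem F296586 : act 0 n17940 = n34530 := (sb E44417 F121237)
theorem E47442 : n36497 = n36496 := (((F57326).symm.trans (sb E44417 F121240))).symm
theorem E47443 : n77734 = n37370 := (((D37370).symm.trans (sb E44417 F121241))).symm
theorem E47445 : n77180 = n38149 := ((((iv6 F58993)).symm.trans (sb E44418 (iv6 D160827)))).symm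
theorem F296587 : act 3 n18246 = n37801 := (sb E44420 F125870)
theorem E47447 : n38812 = n38175 := (((D38175).symm.trans (sb E44420 F125871))).symm
theorem E47449 : n159249 = n27646 := (((D27646).symm.trans (sb E44423 (iv6 F250739)))).symm
theorem F296588 : act 3 n12802 = n17371 := (sb E44424 (iv3 D35878))
theorem E47450 : n18843 = n13157 := ((((iv6 F21935)).symm.trans (sb E44424 F56532))).symm
theorem E47451 : n157892 = n78760 := (((D78760).symm.trans (sb E44425 (iv3 F248806)))).symm
theorem F296589 : act 6 n35860 = n34442 := (sb E44425 (iv6 D75219))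
theorem E47453 : n157897 = n55942 := ((((iv7 F88521)).symm.trans (sb E44425 D157897))).symm
theorem E47454 : n78874 = n55943 := (((D55943).symm.trans (sb E44426 F120044))).symm
theorem F296590 : act 6 n2604 = n6190 := (sb E44431 (iv6 D13011))
theorem E47471 : n56362 = n8253 := (((D8253).symm.trans (sb E44455 F121733))).symm
theorem E47473 : n121546 = n27076 := (((D27076).symm.trans (sb E44456 (iv6 F193937)))).symm
theorem E47493 : n155530 = n120282 := (((D120282).symm.trans (sb E44465 F244552))).symm
theorem E47494 : n120283 = n98173 := ((D120283).symm.trans (sb E44465 F151440))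
theorem E47496 : n172063 = n160606 := (((D160606).symm.trans (sb E44466 (iv1 F270172)))).symm
theorem E47497 : n160607 = n81825 := ((D160607).symm.trans (sb E44466 F151308))
theorem E47498 : n172091 = n160609 := (((D160609).symm.trans (sb E44466 (iv5 F270235)))).symm
theorem E47499 : n165091 = n121650 := ((((iv7 F194108)).symm.trans (sb E44466 (iv7 F260347)))).symm
theorem E47500 : n121701 = n84195 := ((D121701).symm.trans (sb E44467 (iv4 F151304)))
theorem E47501 : n98047 = n80499 := ((((iv5 F123745)).symm.trans (sb E44467 (iv5 F151301)))).symm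
theorem E47502 : n84194 = n36391 := (((D36391).symm.trans (sb E44468 (iv4 F129245)))).symm
theorem F296591 : act 0 n17078 = n10455 := (sb E44469 (iv1 D21921))
theorem E47504 : n88654 = n26942 := ((((iv6 D55852)).symm.trans (sb E44471 F158086))).symm
theorem E47505 : n163256 = n83466 := ((D163256).symm.trans (sb E44472 F158045))
theorem E47507 : n163261 = n84217 := ((D163261).symm.trans (sb E44474 (iv6 D176639)))
theorem E47509 : n163263 = n84218 := (((D84218).symm.trans (sb E44476 D163263))).symm
theorem F296592 : act 6 n38837 = n35755 := (sb E44476 (iv6 D78467))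
theorem E47512 : n121146 = n78846 := ((D121146).symm.trans (sb E44478 (iv1 F258662)))
theorem E47513 : n121147 = n78843 := ((D121147).symm.trans (sb E44478 (iv0 D164119)))
theorem E47514 : n36072 = n8095 := ((((iv6 F12875)).symm.trans (sb E44479 (iv6 D79243)))).symm
theorem E47515 : n88742 = n35626 := ((((iv6 F56300)).symm.trans (sb E44480 (iv6 D186296)))).symm
theorem E47516 : n88740 = n35624 := (((D35624).symm.trans (sb E44481 D88740))).symm
theorem E47517 : n88741 = n35625 := (((D35625).symm.trans (sb E44481 D88741))).symm
theorem E47518 : n36212 = n35627 := (((D35627).symm.trans (sb E44481 (iv7 F118479)))).symm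
theorem E47520 : n77063 = n38366 := (((iv6 F115793)).symm.trans (sb E44482 (iv6 D83289)))
theorem F296593 : act 0 n35194 = n40061 := (sb E44483 (iv1 F128367))
theorem F296594 : act 1 n35194 = n41393 := (sb E44483 F128366)
theorem F296595 : act 7 n35194 = n41391 := (sb E44483 F128364)
theorem E47521 : n174618 = n158019 := (((D158019).symm.trans (sb E44484 (iv3 F273475)))).symm
theorem E47523 : n158021 = n38453 := ((D158021).symm.trans (sb E44484 (iv6 D83445)))
theorem E47524 : n122372 = n82909 := (((iv6 F195763)).symm.trans (sb E44485 (iv6 D173253)))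
theorem E47525 : n77505 = n77343 := ((F120902).symm.trans (sb E44488 (iv1 F151403)))
theorem F296596 : act 1 n76803 = n45851 := (sb E44488 (iv0 D98156))
theorem E47526 : n122390 = n76909 := ((((iv4 F115545)).symm.trans (sb E44488 (iv4 F195830)))).symm
theorem E47527 : n77825 = n77341 := (((iv7 F121167)).symm.trans (sb E44488 F151408))
theorem E47528 : n158002 = n83133 := (((iv1 F248914)).symm.trans (sb E44490 F128153))
theorem F296597 : act 2 n75799 = n77040 := (sb E44490 F122785)
theorem E47529 : n166675 = n158852 := (((D158852).symm.trans (sb E44490 (iv3 F262317)))).symm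
theorem F296598 : act 4 n75799 = n36438 := (sb E44490 F122786)
theorem E47530 : n166677 = n158853 := (((D158853).symm.trans (sb E44490 D166677))).symm
theorem F296599 : act 6 n75799 = n36437 := (sb E44490 (iv6 D79997))
theorem E47531 : n157999 = n78167 := ((F248902).symm.trans (sb E44490 (iv7 F122787)))
theorem F296600 : act 0 n35720 = n45903 := (sb E44491 (iv1 F135889))
theorem E47532 : n176611 = n78373 := (((D78373).symm.trans (sb E44491 (iv4 F275978)))).symm
theorem E47533 : n45839 = n36353 := (((F57097).symm.trans (sb E44491 F135888))).symm
theorem F296601 : act 7 n35720 = n41372 := (sb E44491 (iv7 D88639))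
theorem F296602 : act 0 n21949 = n36438 := (sb E44492 (iv1 F120873))
theorem E47534 : n17448 = n12895 := ((F34455).symm.trans (sb E44492 (iv3 D26949)))
theorem E47535 : n55867 = n45904 := (((D45904).symm.trans (sb E44492 D55867))).symm
theorem F296603 : act 7 n21949 = n17312 := (sb E44492 F43469)
theorem F296604 : act 0 n35637 = n41372 := (sb E44493 (iv1 D88637))
theorem F296605 : act 2 n35637 = n45903 := (sb E44493 F135878)
theorem E47537 : n160859 = n84193 := ((D160859).symm.trans (sb E44494 F260357))
theorem E47538 : n84785 = n83266 := (((iv0 F129997)).symm.trans (sb E44494 F260358))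
theorem E47539 : n160860 = n84244 := ((D160860).symm.trans (sb E44494 (iv5 F260359)))
theorem E47540 : n98123 = n79798 := ((((iv7 F122513)).symm.trans (sb E44494 F260356))).symm
theorem E47542 : n172065 = n56238 := (((D56238).symm.trans (sb E44495 (iv4 F270180)))).symm
theorem E47543 : n45972 = n36737 := ((((iv5 F57614)).symm.trans (sb E44495 F151676))).symm
theorem E47544 : n172064 = n79880 := (((D79880).symm.trans (sb E44496 (iv4 F270173)))).symm
theorem E47546 : n79881 = n41384 := ((D79881).symm.trans (sb E44496 (iv6 D88651)))
theorem E47547 : n178128 = n124240 := (((D124240).symm.trans (sb E44499 (iv0 F277683)))).symm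
theorem E47549 : n173324 = n80069 := (((D80069).symm.trans (sb E44500 (iv4 F271755)))).symm
theorem F296606 : act 6 n36458 = n41436 := (sb E44500 (iv6 D88748))
theorem E47550 : n173276 = n172076 := (((D172076).symm.trans (sb E44502 D173276))).symm
theorem E47551 : n173277 = n172077 := (((D172077).symm.trans (sb E44502 D173277))).symm
theorem F296607 : act 6 n82413 = n38854 := (sb E44502 F127770)
theorem E47552 : n79882 = n38822 := (((F126960).symm.trans (sb E44502 (iv7 F127773)))).symm
theorem E47553 : n164117 = n164082 := ((F258655).symm.trans (sb E44503 (iv1 F258598)))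
theorem F296608 : act 1 n121136 = n158841 := (sb E44503 F258599)
theorem F296609 : act 7 n121136 = n75302 := (sb E44503 (iv7 D158099))
theorem F296610 : act 0 n77165 = n41398 := (sb E44504 (iv1 D88663))
theorem F296611 : act 3 n77165 = n78308 := (sb E44504 F135991)
theorem E47554 : n160812 = n78839 := (((iv4 F253976)).symm.trans (sb E44504 F135992))
theorem E47555 : n98128 = n79823 := ((((iv5 F122553)).symm.trans (sb E44504 (iv5 F151323)))).symm
theorem F296612 : act 0 n88662 = n55896 := (sb E44505 F193042)
theorem F296613 : act 2 n88662 = n55902 := (sb E44505 F193039)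
theorem E47556 : n161122 = n77944 := (((iv3 F254708)).symm.trans (sb E44505 F256097))
theorem E47557 : n186090 = n78134 := ((D186090).symm.trans (sb E44505 F193040))
theorem E47558 : n88634 = n55849 := ((F135987).symm.trans (sb E44505 (iv6 D121050)))
theorem F296614 : act 7 n88662 = n55901 := (sb E44505 F193041)
theorem E47559 : n40265 = n8065 := (((D8065).symm.trans (sb E44506 F91507))).symm
theorem E47562 : n39734 = n35425 := (((D35425).symm.trans (sb E44509 (iv6 D85901)))).symm
theorem E47563 : n81830 = n27572 := ((((iv0 F91407)).symm.trans (sb E44510 F131789))).symm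
theorem E47564 : n84711 = n35428 := (((D35428).symm.trans (sb E44510 F131786))).symm
theorem E47565 : n84696 = n56932 := (((D56932).symm.trans (sb E44511 (iv3 F129923)))).symm
theorem E47566 : n81938 = n55382 := ((((iv5 F87655)).symm.trans (sb E44511 F126286))).symm
theorem E47567 : n56933 = n18572 := ((D56933).symm.trans (sb E44511 (iv6 D39123)))
theorem E47568 : n84697 = n35615 := (((F125981).symm.trans (sb E44512 D84697))).symm
theorem F296615 : act 1 n27323 = n18947 := (sb E44512 F118418)
theorem E47569 : n84639 = n56937 := (((D56937).symm.trans (sb E44512 (iv7 F129820)))).symm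
theorem E47570 : n27176 = n8310 := (((D8310).symm.trans (sb E44513 D27176))).symm
theorem E47571 : n46723 = n36533 := (((D36533).symm.trans (sb E44514 F286915))).symm
theorem E47572 : n81934 = n27462 := ((((iv5 F44381)).symm.trans (sb E44514 D81934))).symm
theorem E47573 : n76092 = n36534 := (((D36534).symm.trans (sb E44514 (iv6 F114078)))).symm
theorem E47574 : n122049 = n36536 := (((D36536).symm.trans (sb E44515 D122049))).symm
theorem E47575 : n77864 = n36538 := (((D36538).symm.trans (sb E44515 (iv7 F118755)))).symm
theorem E47576 : n81935 = n46854 := ((((iv3 F74049)).symm.trans (sb E44516 D81935))).symm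
theorem E47577 : n81936 = n27463 := ((((iv5 F44388)).symm.trans (sb E44516 D81936))).symm
theorem E47578 : n76105 = n55379 := (((D55379).symm.trans (sb E44516 (iv6 F117527)))).symm
theorem E47579 : n157850 = n36659 := ((((iv1 F91433)).symm.trans (sb E44517 (iv1 F248754)))).symm
theorem E47581 : n37625 = n7751 := (((F12745).symm.trans (sb E44518 D37625))).symm
theorem E47583 : n37627 = n17052 := (((D17052).symm.trans (sb E44518 D37627))).symm
theorem E47584 : n89287 = n57078 := (((D57078).symm.trans (sb E44519 (iv1 F286819)))).symm
theorem E47585 : n88839 = n57079 := (((D57079).symm.trans (sb E44519 (iv0 F286824)))).symm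
theorem E47586 : n57080 = n47002 := ((D57080).symm.trans (sb E44519 F113371))
theorem F296616 : act 4 n27370 = n34560 := (sb E44519 F113373)
theorem E47587 : n158365 = n27556 := ((((iv5 F44463)).symm.trans (sb E44519 D158365))).symm
theorem F296617 : act 6 n27370 = n34558 := (sb E44519 (iv6 D75529))
theorem E47588 : n89285 = n26776 := (((F44264).symm.trans (sb E44519 (iv7 F286816)))).symm
theorem E47591 : n98073 = n27557 := (((D27557).symm.trans (sb E44520 (iv6 F151222)))).symm
theorem E47593 : n45859 = n26778 := (((D26778).symm.trans (sb E44521 (iv6 F126297)))).symm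
theorem F296618 : act 0 n21937 = n36501 := (sb E44522 (iv1 F121434))
theorem F296619 : act 2 n21937 = n13097 := (sb E44522 F44196)
theorem F296620 : act 6 n21937 = n13089 := (sb E44522 (iv6 D27315))
theorem E47595 : n84101 = n83095 := (((D83095).symm.trans (sb E44524 (iv6 F271172)))).symm
theorem E47596 : n83096 = n75721 := ((D83096).symm.trans (sb E44525 (iv5 F113580)))
theorem E47597 : n83076 = n38757 := (((iv7 F128048)).symm.trans (sb E44525 F118351))
theorem F296621 : act 0 n38666 = n18894 := (sb E44526 (iv1 F60757))
theorem F296622 : act 1 n38666 = n18885 := (sb E44526 (iv0 D39935))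
theorem F296623 : act 2 n38666 = n18892 := (sb E44526 F90429)
theorem E47598 : n86315 = n38214 := (((F59484).symm.trans (sb E44526 D86315))).symm
theorem F296624 : act 7 n38666 = n18893 := (sb E44526 F90431)
theorem F296625 : act 0 n38647 = n18885 := (sb E44527 (iv1 D39936))
theorem F296626 : act 1 n38647 = n18894 := (sb E44527 F60751)
theorem F296627 : act 2 n38647 = n18893 := (sb E44527 F90426)
theorem E47599 : n86316 = n38658 := (((F61166).symm.trans (sb E44527 D86316))).symm
theorem E47600 : n83912 = n35656 := ((D83912).symm.trans (sb E44527 F121416))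
theorem F296628 : act 7 n38647 = n18892 := (sb E44527 F90427)
theorem F296629 : act 6 n39937 = n19513 := (sb E44528 (iv6 D41435))
theorem E47603 : n164922 = n2887 := ((((iv3 F4483)).symm.trans (sb E44531 (iv3 F259997)))).symm
theorem E47606 : n8229 = n7606 := ((((iv1 F28953)).symm.trans (sb E44532 (iv1 F28448)))).symm
theorem E47607 : n8227 = n8096 := (((D8096).symm.trans (sb E44532 F118145))).symm
theorem E47608 : n82934 = n13656 := (((D13656).symm.trans (sb E44533 (iv6 F271178)))).symm
theorem F296630 : act 2 n17249 = n18324 := (sb E44534 F118376)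
theorem E47609 : n82935 = n35612 := (((D35612).symm.trans (sb E44534 D82935))).symm
theorem E47610 : n35613 = n18325 := ((D35613).symm.trans (sb E44534 F118377))
theorem F296631 : act 0 n17250 = n19513 := (sb E44535 (iv1 F63828))
theorem F296632 : act 2 n17250 = n19515 := (sb E44535 F63825)
theorem E47611 : n38187 = n35616 := (((D35616).symm.trans (sb E44535 F63826))).symm
theorem F296633 : act 7 n17250 = n19497 := (sb E44535 F63827)
theorem F296634 : act 0 n17253 = n19497 := (sb E44536 F118121)
theorem F296635 : act 1 n17253 = n19515 := (sb E44536 (iv0 F118123))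
theorem F296636 : act 2 n17253 = n19513 := (sb E44536 (iv2 F118357))
theorem E47612 : n77055 = n34599 := ((D77055).symm.trans (sb E44537 F113527))
theorem E47613 : n88648 = n77056 := (((D77056).symm.trans (sb E44537 (iv5 F135927)))).symm
theorem F296637 : act 6 n35192 = n34597 := (sb E44537 (iv6 D75665))
theorem E47614 : n158196 = n77058 := (((D77058).symm.trans (sb E44538 (iv4 F249174)))).symm
theorem F296638 : act 5 n35195 = n41391 := (sb E44539 (iv5 D88656))
theorem E47618 : n36672 = n8323 := (((D8323).symm.trans (sb E44541 (iv1 F59728)))).symm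
theorem E47621 : n38677 = n36660 := (((D36660).symm.trans (sb E44542 F113488))).symm
theorem E47622 : n45956 = n36662 := (((D36662).symm.trans (sb E44542 F113489))).symm
theorem E47623 : n38682 = n36665 := (((D36665).symm.trans (sb E44543 F113525))).symm
theorem F296639 : act 5 n17668 = n34597 := (sb E44543 (iv5 D75664))
theorem E47626 : n119147 = n47128 := ((((iv2 F89656)).symm.trans (sb E44545 (iv2 F187468)))).symm
theorem E47628 : n158281 = n122364 := (((D122364).symm.trans (sb E44545 D158281))).symm
theorem F296640 : act 2 n56693 = n37714 := (sb E44546 (iv2 F117931))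
theorem E47629 : n158283 = n122365 := (((D122365).symm.trans (sb E44546 D158283))).symm
theorem F296641 : act 2 n56694 = n37715 := (sb E44547 (iv2 F117877))
theorem E47630 : n122366 = n82953 := ((D122366).symm.trans (sb E44547 F127846))
theorem E47631 : n83281 = n77145 := ((((iv7 F117576)).symm.trans (sb E44547 (iv7 F128357)))).symm
theorem E47632 : n60033 = n34574 := (((F190989).symm.trans (sb E44548 F94536))).symm
theorem E47633 : n118604 = n60133 := ((D118604).symm.trans (sb E44548 (iv0 F113131)))
theorem E47634 : n118601 = n60132 := (((iv2 F186534)).symm.trans (sb E44548 F94693))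
theorem E47635 : n27121 = n26410 := ((((iv4 D54612)).symm.trans (sb E44548 (iv4 D56295)))).symm
theorem E47636 : n121831 = n118605 := (((D118605).symm.trans (sb E44548 D121831))).symm
theorem F296642 : act 2 n56852 = n37561 := (sb E44549 F112844)
theorem E47638 : n158011 = n122498 := (((D122498).symm.trans (sb E44549 D158011))).symm
theorem F296643 : act 2 n56853 = n37562 := (sb E44550 F112849)
theorem E47640 : n158013 = n83918 := ((((iv7 F128916)).symm.trans (sb E44550 D158013))).symm
theorem E47641 : n158364 = n77067 := ((((iv1 F115803)).symm.trans (sb E44551 (iv1 F249526)))).symm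
theorem F296644 : act 1 n71918 = n34560 := (sb E44551 (iv0 D75531))
theorem E47642 : n158369 = n72442 := ((((iv2 F108954)).symm.trans (sb E44551 D158369))).symm
theorem E47644 : n158371 = n72441 := ((((iv4 F108952)).symm.trans (sb E44551 D158371))).symm
theorem E47646 : n158373 = n152463 := (((D152463).symm.trans (sb E44551 D158373))).symm
theorem E47647 : n158374 = n52832 := (((F108429).symm.trans (sb E44551 D158374))).symm
theorem E47648 : n158375 = n151454 := ((D158375).symm.trans (sb E44552 (iv3 F238209)))
theorem E47649 : n158376 = n56979 := ((D158376).symm.trans (sb E44552 F122863))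
theorem E47650 : n158377 = n52818 := ((D158377).symm.trans (sb E44552 F122862))
theorem E47651 : n166816 = n158378 := (((D158378).symm.trans (sb E44552 D166816))).symm
theorem E47652 : n158361 = n72442 := ((D158361).symm.trans (sb E44553 (iv1 F122871)))
theorem E47653 : n158362 = n52832 := ((D158362).symm.trans (sb E44553 F122870))
theorem E47654 : n158363 = n52981 := ((D158363).symm.trans (sb E44553 F122868))
theorem F296645 : act 3 n71876 = n34564 := (sb E44554 F113376)
theorem F296646 : act 5 n71876 = n34560 := (sb E44554 (iv5 D75533))
theorem E47658 : n158367 = n152352 := (((D152352).symm.trans (sb E44554 (iv6 F249535)))).symm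
theorem E47660 : n77068 = n45916 := ((D77068).symm.trans (sb E44555 F113378))
theorem F296647 : act 7 n35197 = n34560 := (sb E44555 (iv7 D75534))
theorem F296648 : act 1 n56647 = n34564 := (sb E44556 (iv0 D75549))
theorem E47662 : n158393 = n122333 := (((D122333).symm.trans (sb E44556 D158393))).symm
theorem F296649 : act 1 n75550 = n36470 := (sb E44557 F115740)
theorem F296650 : act 2 n75550 = n37473 := (sb E44557 F115736)
theorem E47663 : n154975 = n120796 := (((iv3 F243681)).symm.trans (sb E44557 (iv3 F192667)))
theorem F296651 : act 4 n75550 = n37808 := (sb E44557 F115737)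
theorem F296652 : act 5 n75550 = n35173 := (sb E44557 (iv5 D76994))
theorem E47664 : n160591 = n158394 := (((D158394).symm.trans (sb E44557 D160591))).symm
theorem F296653 : act 7 n75550 = n37808 := (sb E44557 F115738)
theorem F296654 : act 4 n18135 = n34564 := (sb E44558 F295704)
theorem E47666 : n158277 = n37826 := (((D37826).symm.trans (sb E44558 D158277))).symm
theorem E47669 : n166824 = n158391 := (((D158391).symm.trans (sb E44559 D166824))).symm
theorem E47670 : n158267 = n77069 := (((D77069).symm.trans (sb E44560 (iv6 F249332)))).symm
theorem F296655 : act 7 n35198 = n34564 := (sb E44560 F295706)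
theorem F296656 : act 6 n21958 = n17087 := (sb E44561 (iv6 D35199))
theorem F296657 : act 0 n17704 = n10434 := (sb E44562 (iv1 D21878))
theorem F296658 : act 1 n17704 = n10479 := (sb E44562 F34339)
theorem E47672 : n41385 = n36724 := (((D36724).symm.trans (sb E44562 (iv5 F63821)))).symm
theorem F296659 : act 7 n17704 = n10477 := (sb E44562 (iv7 F118960))
theorem F296660 : act 0 n13005 = n10479 := (sb E44563 (iv1 F34344))
theorem F296661 : act 1 n13005 = n10434 := (sb E44563 (iv0 D21877))
theorem F296662 : act 2 n13005 = n10477 := (sb E44563 (iv2 F118959))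
theorem E47674 : n45762 = n17279 := (((F28224).symm.trans (sb E44563 D45762))).symm
theorem E47675 : n45763 = n27152 := (((D27152).symm.trans (sb E44563 D45763))).symm
theorem E47676 : n38356 = n38244 := (((D38244).symm.trans (sb E44564 (iv1 F126951)))).symm
theorem E47678 : n122332 = n84104 := ((D122332).symm.trans (sb E44565 (iv6 D176398)))
theorem F296663 : act 2 n38751 = n37809 := (sb E44566 F89595)
theorem F296664 : act 6 n38751 = n27233 := (sb E44566 (iv6 D56648))
theorem E47680 : n38706 = n38467 := (((F59530).symm.trans (sb E44566 F117192))).symm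
theorem F296665 : act 2 n8673 = n8666 := (sb E44567 (iv2 D18415))
theorem F296666 : act 7 n8668 = n8666 := (sb E44568 F29619)
theorem F296667 : act 1 n18337 = n8666 := (sb E44569 (iv0 D18413))
theorem F296668 : act 5 n18337 = n34614 := (sb E44569 (iv5 F113086))
theorem F296669 : act 3 n3812 = n6060 := (sb E44571 (iv3 D12807))
theorem F296670 : act 5 n3812 = n6227 := (sb E44571 F21260)
theorem E47683 : n26766 = n6219 := ((((iv6 F9685)).symm.trans (sb E44571 D26766))).symm
theorem E47684 : n28696 = n17459 := ((((iv4 F28457)).symm.trans (sb E44572 (iv4 F46247)))).symm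
theorem E47685 : n27694 = n27408 := (((D27408).symm.trans (sb E44572 (iv6 F44643)))).symm
theorem E47686 : n33797 = n26893 := (((D26893).symm.trans (sb E44573 (iv3 F53029)))).symm
theorem E47687 : n26894 = n26415 := ((D26894).symm.trans (sb E44573 F42162))
theorem E47688 : n26895 = n7591 := ((D26895).symm.trans (sb E44573 (iv6 D16333)))
theorem E47689 : n36480 = n8735 := (((D8735).symm.trans (sb E44574 D36480))).symm
theorem F296671 : act 6 n3907 = n8278 := (sb E44574 (iv6 D17612))
theorem F296672 : act 0 n17613 = n34800 := (sb E44575 F55004)
theorem E47693 : n119353 = n60228 := (((F94789).symm.trans (sb E44576 (iv2 F187978)))).symm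
theorem E47694 : n120797 = n33795 := ((D120797).symm.trans (sb E44576 (iv6 D73523)))
theorem F296673 : act 2 n18330 = n37474 := (sb E44577 F115741)
theorem E47695 : n160592 = n38448 := (((D38448).symm.trans (sb E44577 D160592))).symm
theorem F296674 : act 6 n18330 = n35173 := (sb E44577 (iv6 D76995))
theorem E47698 : n158022 = n38452 := (((D38452).symm.trans (sb E44579 D158022))).symm
theorem F296675 : act 2 n18331 = n37477 := (sb E44579 F112865)
theorem F296676 : act 6 n18331 = n34464 := (sb E44579 (iv6 D75276))
theorem F296677 : act 3 n3802 = n6220 := (sb E44581 (iv3 D13072))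
theorem E47700 : n27288 = n8501 := (((D8501).symm.trans (sb E44581 D27288))).symm
theorem E47701 : n26799 = n17062 := (((F117290).symm.trans (sb E44582 F91066))).symm
theorem E47702 : n84577 = n27254 := (((D27254).symm.trans (sb E44582 F129738))).symm
theorem E47703 : n57431 = n27256 := (((D27256).symm.trans (sb E44582 F91057))).symm
theorem F296678 : act 1 n16783 = n27250 := (sb E44583 (iv0 D56695))
theorem E47704 : n122367 = n34649 := (((D34649).symm.trans (sb E44583 D122367))).symm
theorem F296679 : act 1 n56696 = n34647 := (sb E44584 F113118)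
theorem F296680 : act 2 n56696 = n34650 := (sb E44584 F113114)
theorem E47705 : n122369 = n38336 := ((D122369).symm.trans (sb E44584 F113115))
theorem E47706 : n122370 = n34635 := ((D122370).symm.trans (sb E44584 F113116))
theorem F296681 : act 7 n56696 = n34501 := (sb E44584 (iv7 D75372))
theorem F296682 : act 3 n38148 = n27255 := (sb E44585 F89667)
theorem F296683 : act 5 n38148 = n27250 := (sb E44585 (iv5 D56697))
theorem F296684 : act 6 n38148 = n34434 := (sb E44585 F89668)
theorem F296685 : act 6 n38360 = n34614 := (sb E44586 F117279)
theorem F296686 : act 7 n38360 = n27250 := (sb E44586 (iv7 D56698))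
theorem F296687 : act 3 n3810 = n6213 := (sb E44587 (iv3 F14047))
theorem E47707 : n8377 = n7481 := (((F29944).symm.trans (sb E44587 F14045))).symm
theorem F296688 : act 5 n3810 = n3635 := (sb E44587 (iv5 D8042))
theorem E47708 : n17155 = n8537 := (((D8537).symm.trans (sb E44587 D17155))).symm
theorem E47709 : n26412 = n17481 := ((D26412).symm.trans (sb E44588 (iv5 F28475)))
theorem E47711 : n56005 = n7849 := (((F29710).symm.trans (sb E44589 D56005))).symm
theorem F296689 : act 1 n16775 = n27297 := (sb E44590 F117907)
theorem F296690 : act 2 n16775 = n34495 := (sb E44590 (iv2 F112996))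
theorem E47714 : n34630 = n34619 := (((D34619).symm.trans (sb E44590 D34630))).symm
theorem F296691 : act 1 n16782 = n34614 := (sb E44591 F117273)
theorem F296692 : act 2 n16782 = n34498 := (sb E44591 F117274)
theorem F296693 : act 0 n38755 = n34498 := (sb E44592 F117270)
theorem F296694 : act 2 n38755 = n34614 := (sb E44592 F117272)
theorem E47715 : n152638 = n37824 := ((((iv1 F113132)).symm.trans (sb E44593 (iv1 F239859)))).symm
theorem E47717 : n158224 = n119123 := ((D158224).symm.trans (sb E44593 F187430))
theorem E47720 : n158255 = n158225 := (((D158225).symm.trans (sb E44593 D158255))).symm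
theorem E47726 : n152635 = n37823 := ((((iv1 F108383)).symm.trans (sb E44595 D152635))).symm
theorem E47727 : n152636 = n37822 := (((F108384).symm.trans (sb E44595 D152636))).symm
theorem F296695 : act 3 n71888 = n38024 := (sb E44595 F108492)
theorem E47728 : n152637 = n33220 := ((((iv5 D71888)).symm.trans (sb E44595 D152637))).symm
theorem E47732 : n119656 = n114054 := (((D114054).symm.trans (sb E44596 (iv6 F188740)))).symm
theorem E47733 : n37895 = n37825 := (((D37825).symm.trans (sb E44597 F113152))).symm
theorem E47734 : n158265 = n158230 := (((D158230).symm.trans (sb E44598 D158265))).symm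
theorem E47735 : n158266 = n158231 := (((D158231).symm.trans (sb E44598 D158266))).symm
theorem F296696 : act 2 n75380 = n38035 := (sb E44598 F113154)
theorem E47736 : n158233 = n155458 := ((D158233).symm.trans (sb E44598 (iv7 F244451)))
theorem F296697 : act 2 n18136 = n34546 := (sb E44599 (iv2 F54796))
theorem E47737 : n37916 = n37829 := (((D37829).symm.trans (sb E44599 (iv5 F58756)))).symm
theorem E47740 : n60333 = n26887 := (((D26887).symm.trans (sb E44602 (iv3 F188468)))).symm
theorem E47741 : n26888 = n13919 := ((D26888).symm.trans (sb E44602 F46240))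
theorem E47742 : n26889 = n18760 := ((D26889).symm.trans (sb E44602 (iv6 F46242)))
theorem E47743 : n19031 = n8251 := (((iv7 F59696)).symm.trans (sb E44603 (iv7 D17565)))
theorem E47746 : n60286 = n45843 := (((D45843).symm.trans (sb E44608 (iv0 D128244)))).symm
theorem E47747 : n153221 = n45845 := (((D45845).symm.trans (sb E44608 (iv5 F240595)))).symm
theorem E47748 : n85789 = n45846 := (((D45846).symm.trans (sb E44608 (iv6 F206374)))).symm
theorem E47750 : n38723 = n18268 := (((F59722).symm.trans (sb E44610 (iv0 F122546)))).symm
theorem E47751 : n166241 = n45848 := (((D45848).symm.trans (sb E44610 (iv5 F261730)))).symm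
theorem E47752 : n36359 = n18420 := (((F59688).symm.trans (sb E44610 (iv7 D79818)))).symm
theorem E47753 : n57754 = n37452 := ((((iv3 F91153)).symm.trans (sb E44611 (iv3 F90935)))).symm
theorem F296698 : act 6 n18391 = n18892 := (sb E44611 (iv6 D39956))
theorem E47754 : n38667 = n35657 := ((D38667).symm.trans (sb E44612 (iv6 D78231)))
theorem F296699 : act 1 n17557 = n18976 := (sb E44613 F59757)
theorem F296700 : act 7 n17557 = n10461 := (sb E44613 (iv7 D21930))
theorem E47755 : n36356 = n18451 := ((((iv1 F121802)).symm.trans (sb E44615 (iv1 F88866)))).symm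
theorem E47756 : n121651 = n45820 := ((((iv3 F72371)).symm.trans (sb E44615 D121651))).symm
theorem E47757 : n121652 = n45824 := (((D45824).symm.trans (sb E44615 D121652))).symm
theorem E47758 : n45825 = n36352 := ((D45825).symm.trans (sb E44615 F88865))
theorem F296701 : act 1 n17553 = n10455 := (sb E44616 (iv0 D21920))
theorem F296702 : act 3 n17553 = n18986 := (sb E44616 (iv3 F121790))
theorem E47759 : n45836 = n36361 := ((D45836).symm.trans (sb E44617 (iv1 F88871)))
theorem E47760 : n45837 = n36360 := ((D45837).symm.trans (sb E44617 F88872))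
theorem F296703 : act 2 n21922 = n27081 := (sb E44617 F88868)
theorem E47761 : n121654 = n45838 := (((D45838).symm.trans (sb E44617 D121654))).symm
theorem F296704 : act 7 n17554 = n10455 := (sb E44618 (iv7 D21923))
theorem F296705 : act 2 n7383 = n8368 := (sb E44619 F13364)
theorem E47762 : n17443 = n15711 := (((D15711).symm.trans (sb E44619 D17443))).symm
theorem F296706 : act 4 n7383 = n3698 := (sb E44619 (iv4 D8201))
theorem E47763 : n17444 = n15713 := (((D15713).symm.trans (sb E44619 D17444))).symm
theorem E47764 : n17445 = n15714 := (((D15714).symm.trans (sb E44619 D17445))).symm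
theorem E47765 : n17137 = n17104 := (((F59794).symm.trans (sb E44620 (iv1 F30524)))).symm
theorem E47766 : n27206 = n17447 := (((D17447).symm.trans (sb E44620 D27206))).symm
theorem E47767 : n17449 = n17314 := ((D17449).symm.trans (sb E44620 F30495))
theorem E47768 : n70796 = n45887 := (((D45887).symm.trans (sb E44621 D70796))).symm
theorem E47769 : n45888 = n33385 := ((D45888).symm.trans (sb E44621 F190511))
theorem E47770 : n60086 = n45889 := (((D45889).symm.trans (sb E44621 (iv2 F189873)))).symm
theorem E47771 : n70798 = n38295 := ((((iv5 F59158)).symm.trans (sb E44621 D70798))).symm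
theorem E47772 : n70799 = n45890 := (((D45890).symm.trans (sb E44621 D70799))).symm
theorem E47775 : n122177 = n45891 := (((D45891).symm.trans (sb E44623 D122177))).symm
theorem E47776 : n122178 = n45892 := (((D45892).symm.trans (sb E44623 D122178))).symm
theorem E47777 : n122179 = n45893 := (((D45893).symm.trans (sb E44623 D122179))).symm
theorem F296707 : act 2 n21947 = n36667 := (sb E44624 F120890)
theorem E47779 : n45898 = n35652 := ((D45898).symm.trans (sb E44624 F121312))
theorem F296708 : act 6 n21947 = n36647 := (sb E44624 (iv6 F120888))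
theorem E47780 : n121948 = n45901 := (((D45901).symm.trans (sb E44625 (iv6 F194708)))).symm
theorem F296709 : act 7 n21948 = n36667 := (sb E44625 (iv7 F120896))
theorem F296710 : act 1 n21950 = n36667 := (sb E44626 (iv0 F120897))
theorem F296711 : act 5 n21950 = n17312 := (sb E44626 (iv5 D35722))
theorem E47788 : n75707 = n16776 := (((F59786).symm.trans (sb E44629 (iv1 F124836)))).symm
theorem E47790 : n168991 = n45878 := (((D45878).symm.trans (sb E44629 D168991))).symm
theorem F296712 : act 5 n21942 = n36646 := (sb E44630 F122563)
theorem E47792 : n45882 = n36736 := ((D45882).symm.trans (sb E44630 (iv6 F122564)))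
theorem F296713 : act 5 n21943 = n36647 := (sb E44631 F57506)
theorem F296714 : act 6 n21943 = n17094 := (sb E44631 (iv6 D35224))
theorem E47794 : n153261 = n34566 := (((F54834).symm.trans (sb E44633 (iv2 F253838)))).symm
theorem E47796 : n60080 = n46183 := (((D46183).symm.trans (sb E44634 (iv3 D127908)))).symm
theorem E47798 : n121946 = n34567 := (((D34567).symm.trans (sb E44637 (iv6 F194704)))).symm
theorem E47805 : n33103 = n5993 := ((((iv3 F9315)).symm.trans (sb E44644 (iv3 F52327)))).symm
theorem E47807 : n27129 = n5995 := (((D5995).symm.trans (sb E44644 (iv6 F43865)))).symm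
theorem E47811 : n119938 = n6021 := (((D6021).symm.trans (sb E44651 (iv3 F189364)))).symm
theorem E47817 : n27039 = n6156 := (((D6156).symm.trans (sb E44653 (iv6 D56062)))).symm
theorem E47818 : n165157 = n6019 := (((D6019).symm.trans (sb E44654 (iv3 F260419)))).symm
theorem E47827 : n120787 = n3921 := ((((iv1 F30046)).symm.trans (sb E44659 F192635))).symm
theorem E47829 : n165583 = n13661 := ((((iv3 F22815)).symm.trans (sb E44659 (iv3 F260844)))).symm
theorem E47832 : n40279 = n6296 := (((F29956).symm.trans (sb E44660 D40279))).symm
theorem E47833 : n40259 = n18898 := (((D18898).symm.trans (sb E44661 (iv3 F61233)))).symm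
theorem E47842 : n124428 = n27425 := (((D27425).symm.trans (sb E44666 (iv6 F199011)))).symm
theorem E47844 : n88644 = n35518 := ((((iv0 F121217)).symm.trans (sb E44667 F263598))).symm
theorem E47845 : n122295 = n35517 := (((F121164).symm.trans (sb E44667 F263599))).symm
theorem F296715 : act 1 n39939 = n56852 := (sb E44668 (iv0 D122496))
theorem E47846 : n82617 = n38261 := (((F121253).symm.trans (sb E44669 (iv1 F128342)))).symm
theorem E47847 : n38350 = n38266 := (((F121254).symm.trans (sb E44669 (iv0 D83269)))).symm
theorem E47848 : n174207 = n86318 := ((((iv3 F132283)).symm.trans (sb E44669 D174207))).symm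
theorem E47849 : n86320 = n75693 := ((D86320).symm.trans (sb E44669 (iv5 F135946)))
theorem E47851 : n83239 = n35644 := (((D35644).symm.trans (sb E44670 (iv4 F128314)))).symm
theorem E47852 : n82900 = n26941 := (((D26941).symm.trans (sb E44671 (iv4 F127700)))).symm
theorem E47855 : n176141 = n86322 := (((D86322).symm.trans (sb E44673 (iv2 F275390)))).symm
theorem E47857 : n86324 = n38697 := ((D86324).symm.trans (sb E44673 (iv6 D84022)))
theorem F296716 : act 0 n39945 = n56852 := (sb E44674 F128987)
theorem E47858 : n176157 = n86325 := (((D86325).symm.trans (sb E44674 (iv6 F275402)))).symm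
theorem F296717 : act 4 n18405 = n18889 := (sb E44675 F60779)
theorem F296718 : act 6 n18405 = n18888 := (sb E44675 (iv6 D39946))
theorem E47860 : n172814 = n80421 := ((((iv5 F123614)).symm.trans (sb E44676 (iv5 F276004)))).symm
theorem E47862 : n98203 = n83091 := (((D83091).symm.trans (sb E44678 F270164))).symm
theorem E47863 : n82405 = n35647 := (((F118593).symm.trans (sb E44678 (iv7 D172062)))).symm
theorem E47865 : n82918 = n82410 := ((D82918).symm.trans (sb E44679 (iv6 D172073)))
theorem E47866 : n172888 = n80423 := (((D80423).symm.trans (sb E44680 D172888))).symm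
theorem E47867 : n82919 = n82411 := (((D82411).symm.trans (sb E44681 D82919))).symm
theorem F296719 : act 6 n37800 = n18239 := (sb E44681 (iv6 D38152))
theorem E47871 : n176405 = n60293 := (((D60293).symm.trans (sb E44683 D176405))).symm
theorem E47872 : n83416 = n58528 := ((((iv7 F92461)).symm.trans (sb E44683 F129111))).symm
theorem F296720 : act 1 n18444 = n18891 := (sb E44685 F59495)
theorem E47874 : n84039 = n38797 := (((D38797).symm.trans (sb E44685 D84039))).symm
theorem F296721 : act 0 n18428 = n18891 := (sb E44686 F59110)
theorem E47876 : n83077 = n38758 := (((D38758).symm.trans (sb E44686 D83077))).symm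
theorem E47879 : n86332 = n75355 := ((D86332).symm.trans (sb E44687 F129114))
theorem E47880 : n86333 = n75368 := ((D86333).symm.trans (sb E44687 F129115))
theorem E47881 : n158593 = n86334 := (((D86334).symm.trans (sb E44687 (iv4 F249779)))).symm
theorem E47882 : n84042 = n75720 := (((iv7 F129001)).symm.trans (sb E44687 F129113))
theorem F296722 : act 4 n38427 = n18894 := (sb E44688 F59500)
theorem F296723 : act 7 n38427 = n18891 := (sb E44688 (iv7 F59503))
theorem E47883 : n85887 = n27435 := (((F60787).symm.trans (sb E44689 F131745))).symm
theorem F296724 : act 1 n18393 = n37809 := (sb E44690 (iv0 F117255))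
theorem E47884 : n86335 = n38642 := ((((iv3 F59457)).symm.trans (sb E44690 D86335))).symm
theorem F296725 : act 4 n18393 = n18892 := (sb E44690 (iv4 D39954))
theorem E47885 : n86336 = n38657 := (((D38657).symm.trans (sb E44690 D86336))).symm
theorem F296726 : act 0 n36363 = n20754 := (sb E44691 (iv1 F59779))
theorem F296727 : act 2 n36363 = n18396 := (sb E44691 F61148)
theorem E47886 : n79829 = n18259 := ((D79829).symm.trans (sb E44691 (iv4 D38217)))
theorem E47887 : n45951 = n36731 := (((F121358).symm.trans (sb E44691 (iv6 F72537)))).symm
theorem F296728 : act 7 n36363 = n18391 := (sb E44691 F61149)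
theorem E47888 : n173613 = n86338 := (((D86338).symm.trans (sb E44692 (iv3 F272066)))).symm
theorem E47889 : n86339 = n75340 := ((D86339).symm.trans (sb E44692 F127973))
theorem E47890 : n80516 = n38673 := (((iv6 F123770)).symm.trans (sb E44692 F127974))
theorem E47891 : n79366 = n55029 := (((iv3 F121951)).symm.trans (sb E44694 F188632))
theorem E47893 : n162531 = n55027 := ((D162531).symm.trans (sb E44694 (iv6 D119597)))
theorem E47894 : n83403 = n60179 := (((D60179).symm.trans (sb E44696 (iv6 D174507)))).symm
theorem F296729 : act 6 n38419 = n35598 := (sb E44698 (iv6 D78046))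
theorem E47899 : n162539 = n83410 := ((D162539).symm.trans (sb E44699 F249338))
theorem E47901 : n84177 = n82941 := ((((iv5 F127806)).symm.trans (sb E44700 D84177))).symm
theorem F296730 : act 1 n18359 = n37474 := (sb E44704 F124356)
theorem E47909 : n162546 = n38526 := ((((iv3 F59361)).symm.trans (sb E44704 D162546))).symm
theorem F296731 : act 0 n40087 = n27035 := (sb E44706 (iv1 D56046))
theorem E47912 : n37457 = n27581 := ((F60982).symm.trans (sb E44706 F126173))
theorem F296732 : act 0 n18251 = n37474 := (sb E44707 F124355)
theorem E47913 : n124039 = n38182 := ((((iv3 F59043)).symm.trans (sb E44707 (iv3 F198428)))).symm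
theorem F296733 : act 3 n78059 = n36313 := (sb E44708 F122126)
theorem E47915 : n162551 = n124640 := ((D162551).symm.trans (sb E44708 (iv4 F199380)))
theorem E47916 : n121501 = n77968 := ((((iv3 F123639)).symm.trans (sb E44709 (iv3 F199319)))).symm
theorem E47917 : n162552 = n124639 := ((D162552).symm.trans (sb E44709 (iv4 F199373)))
theorem E47918 : n84223 = n83438 := ((F129293).symm.trans (sb E44710 F273393))
theorem E47919 : n162553 = n83440 := ((D162553).symm.trans (sb E44710 F273394))
theorem E47920 : n162555 = n83475 := ((D162555).symm.trans (sb E44710 F273392))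
theorem E47921 : n162556 = n88746 := ((D162556).symm.trans (sb E44710 F273391))
theorem F296734 : act 3 n41434 = n78601 := (sb E44711 (iv3 F119770))
theorem F296735 : act 7 n41434 = n35603 := (sb E44711 (iv7 D78062))
theorem E47925 : n79159 = n13593 := ((((iv0 F37255)).symm.trans (sb E44713 (iv0 F190990)))).symm
theorem E47931 : n79137 = n15698 := (((D15698).symm.trans (sb E44715 F255165))).symm
theorem E47935 : n77333 = n7754 := ((((iv4 F28972)).symm.trans (sb E44716 (iv4 F116146)))).symm
theorem E47937 : n77453 = n17109 := (((D17109).symm.trans (sb E44717 F124038))).symm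
theorem E47941 : n55659 = n17114 := (((D17114).symm.trans (sb E44718 F88058))).symm
theorem E47944 : n168256 = n7529 := ((((iv4 D16121)).symm.trans (sb E44721 (iv4 F265218)))).symm
theorem E47945 : n173235 = n70728 := (((D70728).symm.trans (sb E44724 (iv5 F271559)))).symm
theorem E47948 : n176632 = n77117 := (((D77117).symm.trans (sb E44725 (iv6 F276008)))).symm
theorem E47949 : n173236 = n77122 := (((D77122).symm.trans (sb E44727 (iv5 F271562)))).symm
theorem F296736 : act 1 n34645 = n17093 := (sb E44728 (iv0 D35216))
theorem E47950 : n77124 = n75757 := ((((iv3 F113616)).symm.trans (sb E44728 D77124))).symm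
theorem E47951 : n77125 = n75762 := (((D75762).symm.trans (sb E44728 D77125))).symm
theorem E47952 : n83224 = n77128 := (((D77128).symm.trans (sb E44729 F152288))).symm
theorem E47953 : n77129 = n75727 := ((D77129).symm.trans (sb E44729 (iv6 F152286)))
theorem E47954 : n77130 = n38136 := ((D77130).symm.trans (sb E44730 (iv1 D82902)))
theorem E47955 : n77131 = n38316 := ((D77131).symm.trans (sb E44730 F127702))
theorem E47956 : n83543 = n77132 := (((D77132).symm.trans (sb E44730 (iv4 F128634)))).symm
theorem E47957 : n77133 = n38313 := ((D77133).symm.trans (sb E44730 (iv7 F127714)))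
theorem E47958 : n122360 = n76811 := (((F115323).symm.trans (sb E44732 (iv4 F195706)))).symm
theorem E47959 : n161428 = n77142 := (((D77142).symm.trans (sb E44732 (iv5 F255315)))).symm
theorem F296737 : act 6 n35221 = n36510 := (sb E44732 (iv6 D80164))
theorem F296738 : act 1 n35222 = n37715 := (sb E44733 F123906)
theorem E47961 : n124460 = n77148 := (((D77148).symm.trans (sb E44733 (iv5 F199047)))).symm
theorem E47962 : n124467 = n77153 := (((D77153).symm.trans (sb E44734 (iv4 F199080)))).symm
theorem F296739 : act 0 n35227 = n37715 := (sb E44735 (iv1 F123905))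
theorem E47964 : n124461 = n77162 := (((D77162).symm.trans (sb E44735 (iv5 F199053)))).symm
theorem E47965 : n158188 = n77163 := (((D77163).symm.trans (sb E44735 (iv6 F249156)))).symm
theorem E47966 : n124468 = n77164 := (((D77164).symm.trans (sb E44736 (iv4 F199087)))).symm
theorem F296740 : act 1 n35231 = n41391 := (sb E44738 F132623)
theorem F296741 : act 2 n35231 = n41393 := (sb E44738 F132618)
theorem F296742 : act 3 n35231 = n40086 := (sb E44738 F132619)
theorem E47967 : n83278 = n77177 := (((D77177).symm.trans (sb E44738 F132620))).symm
theorem F296743 : act 5 n35231 = n40062 := (sb E44738 F132621)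
theorem F296744 : act 7 n35231 = n40061 := (sb E44738 (iv7 D86475))
theorem E47968 : n77181 = n38369 := ((D77181).symm.trans (sb E44739 F127734))
theorem E47969 : n173256 = n77182 := (((D77182).symm.trans (sb E44739 D173256))).symm
theorem E47970 : n173257 = n77183 := (((D77183).symm.trans (sb E44739 D173257))).symm
theorem E47971 : n77184 = n38365 := ((D77184).symm.trans (sb E44739 F127736))
theorem F296745 : act 0 n35233 = n41393 := (sb E44740 F122141)
theorem F296746 : act 1 n35233 = n40061 := (sb E44740 (iv0 F122129))
theorem F296747 : act 2 n35233 = n41391 := (sb E44740 F122127)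
theorem E47972 : n80735 = n54767 := (((iv3 F124222)).symm.trans (sb E44741 F151464))
theorem E47973 : n149970 = n79215 := (((F123576).symm.trans (sb E44741 (iv4 F235917)))).symm
theorem E47974 : n167543 = n45874 := ((D167543).symm.trans (sb E44741 (iv6 D98179)))
theorem E47975 : n150439 = n77647 := (((iv3 F236858)).symm.trans (sb E44742 (iv3 F152326)))
theorem E47976 : n167544 = n82583 := ((D167544).symm.trans (sb E44742 (iv6 F152327)))
theorem E47977 : n173700 = n167547 := (((D167547).symm.trans (sb E44745 (iv5 F272239)))).symm
theorem E47978 : n176360 = n167548 := (((D167548).symm.trans (sb E44745 (iv7 F275652)))).symm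
theorem E47979 : n173701 = n160732 := (((D160732).symm.trans (sb E44746 (iv5 F272242)))).symm
theorem E47981 : n75732 = n75703 := (((D75703).symm.trans (sb E44747 D75732))).symm
theorem E47982 : n75733 = n75704 := (((D75704).symm.trans (sb E44747 D75733))).symm
theorem F296748 : act 0 n34646 = n36645 := (sb E44748 (iv1 D80411))
theorem E47983 : n167038 = n75764 := (((D75764).symm.trans (sb E44748 (iv3 F263058)))).symm
theorem E47985 : n84057 = n38240 := (((iv1 F129033)).symm.trans (sb E44749 (iv1 F128036)))
theorem E47986 : n167549 = n38232 := ((D167549).symm.trans (sb E44749 (iv0 D83071)))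
theorem E47987 : n167550 = n83920 := ((D167550).symm.trans (sb E44749 (iv4 F128921)))
theorem E47988 : n167551 = n38743 := ((D167551).symm.trans (sb E44749 (iv7 F128038)))
theorem E47989 : n172985 = n167552 := (((D167552).symm.trans (sb E44751 D172985))).symm
theorem E47990 : n167553 = n38220 := ((D167553).symm.trans (sb E44751 F127538))
theorem E47991 : n122470 = n121959 := ((((iv6 F194739)).symm.trans (sb E44751 F195950))).symm
theorem E47992 : n121949 = n45957 := ((F194717).symm.trans (sb E44752 F151171))
theorem E47993 : n122379 = n26787 := (((F91465).symm.trans (sb E44753 (iv4 F195785)))).symm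
theorem F296749 : act 5 n35348 = n36510 := (sb E44753 (iv5 D80163))
theorem F296750 : act 6 n35348 = n45849 := (sb E44753 F123098)
theorem F296751 : act 0 n75688 = n37562 := (sb E44754 F123599)
theorem E47994 : n158674 = n120487 := (((iv3 F249830)).symm.trans (sb E44754 (iv3 F191927)))
theorem F296752 : act 4 n75688 = n36647 := (sb E44754 (iv4 D80415))
theorem F296753 : act 1 n28580 = n33148 := (sb E44755 (iv0 D71692))
theorem E47997 : n114563 = n60118 := ((((iv4 F94679)).symm.trans (sb E44755 F189861))).symm
theorem E47999 : n118911 = n60135 := (((D60135).symm.trans (sb E44755 F189862))).symm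
theorem E48000 : n71789 = n60073 := (((iv3 F108255)).symm.trans (sb E44756 (iv3 F124232)))
theorem E48001 : n80704 = n28516 := (((F87539).symm.trans (sb E44756 (iv4 F124233)))).symm
theorem E48002 : n120199 = n95740 := ((D120199).symm.trans (sb E44756 (iv5 F147434)))
theorem E48003 : n36866 = n26523 := ((((iv4 D54827)).symm.trans (sb E44757 (iv4 D80737)))).symm
theorem E48004 : n128138 = n119148 := (((D119148).symm.trans (sb E44757 (iv5 F206262)))).symm
theorem E48005 : n168212 = n73658 := ((((iv6 F110361)).symm.trans (sb E44757 D168212))).symm
theorem E48006 : n36864 = n26526 := ((((iv1 F86306)).symm.trans (sb E44758 D36864))).symm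
theorem E48007 : n36865 = n26484 := ((((iv0 F53174)).symm.trans (sb E44758 D36865))).symm
theorem E48008 : n36868 = n33149 := (((D33149).symm.trans (sb E44758 D36868))).symm
theorem E48010 : n152074 = n97091 := ((D152074).symm.trans (sb E44759 (iv1 F149794)))
theorem E48011 : n152075 = n79003 := ((D152075).symm.trans (sb E44759 F124236))
theorem E48012 : n152076 = n96202 := ((D152076).symm.trans (sb E44759 (iv4 F147947)))
theorem E48014 : n168219 = n152078 := (((D152078).symm.trans (sb E44760 D168219))).symm
theorem F296754 : act 1 n35174 = n37714 := (sb E44761 (iv0 D82254))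
theorem E48019 : n171676 = n76996 := (((D76996).symm.trans (sb E44761 D171676))).symm
theorem F296755 : act 0 n35182 = n37714 := (sb E44762 (iv1 D82255))
theorem E48036 : n172968 = n82500 := ((((iv3 F127150)).symm.trans (sb E44767 D172968))).symm
theorem E48042 : n172973 = n87978 := (((D87978).symm.trans (sb E44768 D172973))).symm
theorem E48043 : n120297 = n37566 := (((D37566).symm.trans (sb E44769 (iv1 F285912)))).symm
theorem E48050 : n172977 = n146992 := (((D146992).symm.trans (sb E44770 D172977))).symm
theorem E48053 : n171079 = n83913 := ((D171079).symm.trans (sb E44771 (iv5 F128909)))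
theorem E48054 : n158756 = n158697 := ((((iv7 F249852)).symm.trans (sb E44771 (iv7 F249940)))).symm
theorem E48056 : n172983 = n171081 := (((D171081).symm.trans (sb E44772 D172983))).symm
theorem E48057 : n171082 = n83915 := ((D171082).symm.trans (sb E44772 (iv5 F128912)))
theorem E48058 : n172984 = n171083 := (((D171083).symm.trans (sb E44772 D172984))).symm
theorem F296756 : act 5 n38650 = n37562 := (sb E44773 (iv5 D81999))
theorem E48062 : n158698 = n83038 := ((((iv7 F127964)).symm.trans (sb E44773 (iv7 F249853)))).symm
theorem F296757 : act 0 n80082 = n46187 := (sb E44775 (iv1 F152252))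
theorem F296758 : act 1 n80082 = n46186 := (sb E44775 F152253)
theorem E48063 : n166839 = n77617 := ((D166839).symm.trans (sb E44775 F152250))
theorem F296759 : act 7 n80082 = n46185 := (sb E44775 (iv7 D98759))
theorem F296760 : act 2 n70533 = n46186 := (sb E44776 (iv2 D98760))
theorem F296761 : act 7 n70533 = n46187 := (sb E44776 (iv7 F152254))
theorem F296764 : act 5 n98761 = n146994 := (sb E44777 (iv5 F230397))
theorem E48065 : n120785 = n70894 := ((((iv1 F107412)).symm.trans (sb E44778 F192627))).symm
theorem E48066 : n70893 = n36096 := ((F107407).symm.trans (sb E44778 (iv0 D79294)))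
theorem E48067 : n165047 = n52941 := (((F107015).symm.trans (sb E44778 D165047))).symm
theorem F296771 : act 4 n98763 = n183239 := (sb E44779 (iv4 F284884))
theorem F296775 : act 2 n80081 = n46187 := (sb E44781 F152255)
theorem F296776 : act 7 n80081 = n46186 := (sb E44781 (iv7 D98765))
theorem F296777 : act 3 n28535 = n46187 := (sb E44782 (iv3 D98766))
theorem F296778 : act 4 n32849 = n46187 := (sb E44783 F249524)
theorem E48074 : n165053 = n70896 := (((D70896).symm.trans (sb E44783 D165053))).symm
theorem F296782 : act 3 n98768 = n60071 := (sb E44784 F205802)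
theorem F296783 : act 4 n98768 = n164605 := (sb E44784 (iv4 F259524))
theorem F296785 : act 0 n98769 = n167552 := (sb E44785 F263799)
theorem F296787 : act 3 n98769 = n60072 := (sb E44785 F205804)
theorem F296788 : act 7 n98769 = n167626 := (sb E44785 (iv7 F263895))
theorem F296789 : act 1 n70533 = n46185 := (sb E44786 (iv0 D98756))
theorem F296790 : act 0 n80081 = n46185 := (sb E44787 (iv1 D98757))
theorem F296791 : act 0 n98758 = n153234 := (sb E44788 (iv1 F240666))
theorem E48078 : n172953 = n160621 := (((iv0 F296015)).symm.trans (sb E44788 F253724))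
theorem F296792 : act 4 n98758 = n70260 := (sb E44788 F178891)
theorem F296793 : act 7 n98758 = n159508 := (sb E44788 (iv7 F251214))
theorem F296794 : act 0 n98770 = n159508 := (sb E44789 (iv1 F253835))
theorem F296796 : act 3 n98770 = n175171 := (sb E44789 (iv3 F274193))
theorem F296797 : act 4 n98770 = n160173 := (sb E44789 F253833)
theorem F296798 : act 5 n98770 = n86321 := (sb E44789 F253832)
theorem F296799 : act 7 n98770 = n160621 := (sb E44789 F253836)
theorem F296800 : act 1 n98771 = n159508 := (sb E44790 (iv0 F251215))
theorem F296801 : act 2 n98771 = n160621 := (sb E44790 (iv2 F253721))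
theorem F296802 : act 3 n98771 = n60077 := (sb E44790 (iv3 D127900))
theorem F296803 : act 4 n98771 = n160164 := (sb E44790 (iv4 F252812))
theorem E48079 : n167099 = n60198 := (((iv5 F263186)).symm.trans (sb E44790 F205815))
theorem F296804 : act 7 n98771 = n153234 := (sb E44790 (iv7 F240664))
theorem F296805 : act 0 n98772 = n54369 := (sb E44791 (iv1 D118026))
theorem F296806 : act 1 n98772 = n70262 := (sb E44791 F185395)
theorem F296807 : act 2 n98772 = n70260 := (sb E44791 (iv2 F185397))
theorem F296808 : act 3 n98772 = n160712 := (sb E44791 (iv3 F253860))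
theorem F296809 : act 5 n98772 = n70427 := (sb E44791 (iv5 F185399))
theorem F296810 : act 7 n98772 = n70261 := (sb E44791 F185396)
theorem F296811 : act 7 n80083 = n46188 := (sb E44793 F295915)
theorem E48084 : n166841 = n77615 := ((((iv1 F116513)).symm.trans (sb E44794 D166841))).symm
theorem E48085 : n153607 = n77614 := (((F116517).symm.trans (sb E44794 (iv0 F241458)))).symm
theorem E48088 : n172115 = n158591 := ((D172115).symm.trans (sb E44796 (iv5 F249773)))
theorem E48089 : n173316 = n170734 := (((D170734).symm.trans (sb E44798 (iv5 F271740)))).symm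
theorem E48090 : n172777 = n120703 := ((((iv1 F192418)).symm.trans (sb E44799 (iv1 F271044)))).symm
theorem E48091 : n172776 = n96717 := ((((iv0 F149127)).symm.trans (sb E44799 F271049))).symm
theorem E48092 : n172779 = n114059 := ((((iv2 F177565)).symm.trans (sb E44799 (iv2 F271047)))).symm
theorem E48093 : n172842 = n160712 := (((D160712).symm.trans (sb E44799 (iv4 F271095)))).symm
theorem E48094 : n172843 = n160713 := (((D160713).symm.trans (sb E44799 D172843))).symm
theorem F296813 : act 7 n77109 = n38031 := (sb E44799 (iv7 D82748))
theorem E48095 : n172960 = n160717 := (((D160717).symm.trans (sb E44800 D172960))).symm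
theorem E48096 : n172961 = n160718 := (((D160718).symm.trans (sb E44800 D172961))).symm
theorem F296814 : act 4 n77111 = n38604 := (sb E44800 F295919)
theorem E48097 : n160719 = n158342 := ((D160719).symm.trans (sb E44800 (iv5 F249480)))
theorem E48098 : n172877 = n160720 := (((D160720).symm.trans (sb E44800 (iv7 F271137)))).symm
theorem E48099 : n172876 = n166846 := (((iv6 F296019)).symm.trans (sb E44803 (iv6 F262582)))
theorem E48100 : n172872 = n166843 := (((D166843).symm.trans (sb E44804 D172872))).symm
theorem E48101 : n172873 = n166844 := (((D166844).symm.trans (sb E44804 D172873))).symm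
theorem F296815 : act 4 n80085 = n38035 := (sb E44804 (iv4 D82761))
theorem E48102 : n166845 = n158432 := ((D166845).symm.trans (sb E44804 (iv5 F296017)))
theorem E48104 : n166847 = n37442 := (((D37442).symm.trans (sb E44805 D166847))).symm
theorem E48105 : n166848 = n37443 := (((D37443).symm.trans (sb E44805 D166848))).symm
theorem E48106 : n122453 = n37932 := (((D37932).symm.trans (sb E44806 D122453))).symm
theorem E48108 : n122455 = n37934 := (((D37934).symm.trans (sb E44806 D122455))).symm
theorem F296816 : act 0 n17705 = n16752 := (sb E44809 (iv1 F118905))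
theorem E48116 : n45966 = n36729 := (((D36729).symm.trans (sb E44809 D45966))).symm
theorem E48117 : n45967 = n36730 := (((D36730).symm.trans (sb E44809 D45967))).symm
theorem E48118 : n38307 = n36733 := (((D36733).symm.trans (sb E44810 (iv4 F118917)))).symm
theorem F296817 : act 0 n21961 = n18136 := (sb E44812 (iv1 D37828))
theorem F296818 : act 0 n21962 = n36732 := (sb E44813 (iv1 F57608))
theorem F296819 : act 3 n21962 = n36762 := (sb E44813 (iv3 F57657))
theorem E48122 : n78188 = n38793 := ((((iv4 F119016)).symm.trans (sb E44813 (iv4 F119394)))).symm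
theorem F296820 : act 6 n21962 = n17276 := (sb E44813 (iv6 D35646))
theorem F296821 : act 3 n21963 = n36763 := (sb E44814 F89248)
theorem E48128 : n181683 = n78766 := (((D78766).symm.trans (sb E44817 (iv6 F282794)))).symm
theorem E48129 : n180093 = n123486 := ((((iv1 F197903)).symm.trans (sb E44818 (iv1 F280475)))).symm
theorem E48130 : n77790 = n56139 := ((((iv0 F123029)).symm.trans (sb E44818 (iv0 F132979)))).symm
theorem F296822 : act 3 n57920 = n40212 := (sb E44818 F132977)
theorem F296823 : act 1 n36224 = n40212 := (sb E44819 (iv0 F123922))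
theorem E48131 : n36787 = n17498 := ((((iv3 D36224)).symm.trans (sb E44819 F123918))).symm
theorem E48132 : n79542 = n36775 := ((D79542).symm.trans (sb E44819 F123919))
theorem F296824 : act 6 n36224 = n56270 := (sb E44819 F123920)
theorem F296825 : act 3 n80561 = n41437 := (sb E44820 (iv3 D88749))
theorem F296827 : act 2 n95273 = n78317 := (sb E44821 F257142)
theorem F296828 : act 5 n95273 = n78280 := (sb E44821 (iv5 D162856))
theorem F296829 : act 7 n95273 = n79863 := (sb E44821 F257145)
theorem F296830 : act 0 n36384 = n44507 := (sb E44822 (iv1 D95274))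
theorem E48134 : n104972 = n79867 := ((((iv4 F122616)).symm.trans (sb E44822 F160852))).symm
theorem F296831 : act 7 n95272 = n181682 := (sb E44823 F282792)
theorem F296832 : act 3 n86710 = n78464 := (sb E44824 F146905)
theorem F296833 : act 5 n86710 = n95285 := (sb E44824 (iv5 F146935))
theorem F296834 : act 7 n86710 = n44507 := (sb E44824 (iv7 D95275))
theorem E48135 : n78566 = n77943 := ((D78566).symm.trans (sb E44825 (iv3 D162239)))
theorem F296835 : act 3 n35789 = n55902 := (sb E44826 (iv3 D121153))
theorem F296836 : act 2 n86133 = n78562 := (sb E44827 F257714)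
theorem F296837 : act 4 n86133 = n78541 := (sb E44827 F257715)
theorem F296838 : act 7 n86133 = n78539 := (sb E44827 (iv7 D163428))
theorem E48138 : n17738 = n12596 := ((((iv3 F20977)).symm.trans (sb E44829 D17738))).symm
theorem E48140 : n7475 = n7474 := (((iv3 F11728)).symm.trans (sb E44830 (iv3 F11727)))
theorem F296839 : act 4 n3417 = n1642 := (sb E44830 (iv4 D3758))
theorem E48143 : n37774 = n17145 := ((((iv4 F28093)).symm.trans (sb E44831 D37774))).symm
theorem E48185 : n160525 = n26926 := (((D26926).symm.trans (sb E44850 (iv3 F253594)))).symm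
theorem E48187 : n35163 = n26915 := ((((iv6 F43402)).symm.trans (sb E44850 (iv6 D76968)))).symm
theorem F296840 : act 1 n12877 = n8005 := (sb E44851 (iv0 D17113))
theorem F296841 : act 1 n17457 = n20338 := (sb E44853 (iv0 D43110))
theorem E48189 : n92204 = n36083 := (((D36083).symm.trans (sb E44853 D92204))).symm
theorem E48191 : n36081 = n33961 := (((iv6 F56817)).symm.trans (sb E44853 F92755))
theorem E48192 : n36080 = n17734 := (((F28961).symm.trans (sb E44854 D36080))).symm
theorem F296842 : act 6 n16413 = n8210 := (sb E44854 F28446)
theorem E48193 : n36082 = n19039 := ((((iv7 F53114)).symm.trans (sb E44854 D36082))).symm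
theorem F296843 : act 0 n17522 = n20338 := (sb E44855 (iv1 D43111))
theorem E48196 : n92208 = n36292 := (((D36292).symm.trans (sb E44855 D92208))).symm
theorem F296844 : act 1 n35879 = n26919 := (sb E44857 F87603)
theorem E48200 : n57468 = n18848 := (((F56533).symm.trans (sb E44857 (iv6 F90641)))).symm
theorem F296845 : act 0 n35882 = n26919 := (sb E44858 (iv1 D55779))
theorem E48205 : n121125 = n120941 := (((D120941).symm.trans (sb E44859 (iv2 F193159)))).symm
theorem F296846 : act 0 n79540 = n80587 := (sb E44861 (iv1 F264467))
theorem F296847 : act 7 n79540 = n80561 := (sb E44861 (iv7 D167858))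
theorem F296848 : act 0 n36774 = n44900 := (sb E44862 F121613)
theorem F296849 : act 4 n36774 = n58187 := (sb E44862 F121612)
theorem F296850 : act 7 n36774 = n36224 := (sb E44862 F121611)
theorem F296851 : act 1 n40207 = n36224 := (sb E44863 F136135)
theorem F296852 : act 3 n40207 = n36350 := (sb E44863 F122059)
theorem F296853 : act 7 n40207 = n44900 := (sb E44863 F122060)
theorem E48213 : n62919 = n12957 := ((((iv4 F21547)).symm.trans (sb E44864 (iv4 F98165)))).symm
theorem E48215 : n17307 = n12863 := (((D12863).symm.trans (sb E44865 (iv6 F43762)))).symm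
theorem E48216 : n62904 = n17461 := (((D17461).symm.trans (sb E44866 (iv3 F98135)))).symm
theorem E48217 : n17462 = n14142 := ((D17462).symm.trans (sb E44866 (iv5 D29764)))
theorem E48218 : n18768 = n17463 := (((D17463).symm.trans (sb E44866 F47873))).symm
theorem E48219 : n17466 = n12980 := ((D17466).symm.trans (sb E44867 (iv7 F30512)))
theorem E48220 : n106018 = n38916 := (((D38916).symm.trans (sb E44868 (iv0 F215767)))).symm
theorem E48222 : n85804 = n38918 := (((D38918).symm.trans (sb E44868 F215765))).symm
theorem E48225 : n56227 = n27871 := ((((iv7 F59768)).symm.trans (sb E44870 F132880))).symm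
theorem F296854 : act 2 n21209 = n18978 := (sb E44871 (iv2 F61140))
theorem E48226 : n86473 = n44587 := (((D44587).symm.trans (sb E44871 D86473))).symm
theorem F296855 : act 5 n21209 = n18933 := (sb E44871 (iv5 D40055))
theorem F296856 : act 7 n21209 = n18983 := (sb E44871 (iv7 F61136))
theorem F296857 : act 0 n21210 = n18978 := (sb E44872 F118533)
theorem F296858 : act 1 n21210 = n18983 := (sb E44872 (iv0 F118534))
theorem F296859 : act 6 n21210 = n12977 := (sb E44872 (iv6 D27095))
theorem E48228 : n79714 = n38910 := (((D38910).symm.trans (sb E44873 (iv6 D166036)))).symm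
theorem E48229 : n183322 = n37340 := (((D37340).symm.trans (sb E44874 D183322))).symm
theorem F296860 : act 2 n18483 = n17533 := (sb E44875 F57031)
theorem E48230 : n79715 = n38913 := (((D38913).symm.trans (sb E44875 D79715))).symm
theorem E48231 : n176237 = n38282 := ((((iv3 F59151)).symm.trans (sb E44877 D176237))).symm
theorem E48232 : n158705 = n38285 := (((D38285).symm.trans (sb E44877 (iv5 F249864)))).symm
theorem E48233 : n79801 = n38229 := ((((iv7 F59724)).symm.trans (sb E44877 F129007))).symm
theorem F296861 : act 0 n36354 = n18396 := (sb E44878 (iv1 F59463))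
theorem F296862 : act 1 n36354 = n18391 := (sb E44878 (iv0 D38644))
theorem F296863 : act 3 n36354 = n21436 := (sb E44878 (iv3 F59753))
theorem F296864 : act 5 n36354 = n21944 := (sb E44878 (iv5 F59755))
theorem F296865 : act 7 n36354 = n20754 := (sb E44878 F59751)
theorem E48235 : n171039 = n13162 := (((D13162).symm.trans (sb E44880 (iv6 F268762)))).symm
theorem E48236 : n167434 = n55341 := (((D55341).symm.trans (sb E44881 F263554))).symm
theorem E48240 : n170152 = n81435 := (((D81435).symm.trans (sb E44884 (iv5 F267654)))).symm
theorem F296866 : act 0 n26904 = n40208 := (sb E44885 (iv1 F122686))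
theorem E48241 : n17310 = n12875 := ((((iv3 D26904)).symm.trans (sb E44885 F56374))).symm
theorem F296867 : act 6 n26904 = n27144 := (sb E44885 F56375)
theorem F296868 : act 7 n26904 = n17301 := (sb E44885 (iv7 D35702))
theorem F296869 : act 0 n35689 = n21429 := (sb E44886 (iv1 D44896))
theorem F296870 : act 7 n35689 = n38930 := (sb E44886 (iv7 F121502))
theorem E48247 : n124058 = n39538 := (((D39538).symm.trans (sb E44892 (iv3 F198444)))).symm
theorem E48248 : n77297 = n39539 := (((D39539).symm.trans (sb E44892 F116090))).symm
theorem F296871 : act 6 n18726 = n27592 := (sb E44892 (iv6 D57798))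
theorem E48250 : n77296 = n27873 := (((D27873).symm.trans (sb E44893 (iv5 F132889)))).symm
theorem E48251 : n121938 = n27874 := (((D27874).symm.trans (sb E44893 F194656))).symm
theorem F296872 : act 3 n27567 = n18983 := (sb E44897 F61179)
theorem E48254 : n81839 = n13177 := ((((iv4 D27567)).symm.trans (sb E44897 (iv4 F125790)))).symm
theorem F296873 : act 5 n27567 = n18981 := (sb E44897 (iv5 D40196))
theorem E48256 : n86704 = n57733 := (((F116751).symm.trans (sb E44898 D86704))).symm
theorem E48258 : n86689 = n81538 := (((D81538).symm.trans (sb E44899 D86689))).symm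
theorem E48260 : n86691 = n81540 := (((D81540).symm.trans (sb E44899 D86691))).symm
theorem F296876 : act 3 n40187 = n36732 := (sb E44900 (iv3 F121390))
theorem E48262 : n54622 = n3736 := (((D3736).symm.trans (sb E44902 (iv4 F86331)))).symm
theorem E48263 : n63300 = n3737 := (((D3737).symm.trans (sb E44902 (iv6 F98512)))).symm
theorem F296877 : act 0 n6175 = n12602 := (sb E44903 (iv1 F20981))
theorem E48264 : n15968 = n12625 := ((((iv3 F21022)).symm.trans (sb E44903 (iv3 F25485)))).symm
theorem E48265 : n15996 = n12994 := (((D12994).symm.trans (sb E44903 (iv5 F25494)))).symm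
theorem E48266 : n12995 = n12634 := ((D12995).symm.trans (sb E44903 (iv6 F21033)))
theorem F296878 : act 7 n6175 = n3417 := (sb E44903 (iv7 D7483))
theorem F296879 : act 1 n6176 = n3742 := (sb E44904 F9625)
theorem F296880 : act 7 n6176 = n2600 := (sb E44904 (iv7 D6179))
theorem E48269 : n32523 = n17468 := (((D17468).symm.trans (sb E44907 (iv3 F51598)))).symm
theorem E48270 : n17469 = n14143 := ((D17469).symm.trans (sb E44907 F24964))
theorem E48271 : n17470 = n7272 := ((D17470).symm.trans (sb E44907 (iv6 D15403)))
theorem F296881 : act 6 n6161 = n3703 := (sb E44908 (iv6 D8221))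
theorem E48272 : n29291 = n16748 := (((D16748).symm.trans (sb E44911 F89918))).symm
theorem E48297 : n131747 = n12948 := ((((iv1 F21523)).symm.trans (sb E44919 D131747))).symm
theorem E48298 : n74014 = n3642 := ((((iv0 D8066)).symm.trans (sb E44919 (iv0 F110756)))).symm
theorem E48299 : n131745 = n17190 := (((D17190).symm.trans (sb E44919 (iv3 F211099)))).symm
theorem E48300 : n29294 = n17191 := (((D17191).symm.trans (sb E44919 (iv5 D61812)))).symm
theorem F296882 : act 1 n7613 = n12871 := (sb E44924 F21373)
theorem E48307 : n17451 = n16411 := ((((iv3 F25898)).symm.trans (sb E44924 D17451))).symm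
theorem F296883 : act 4 n7613 = n3700 := (sb E44924 (iv4 D8206))
theorem F296884 : act 6 n7611 = n3700 := (sb E44925 (iv6 D8207))
theorem E48310 : n55207 = n12728 := ((((iv3 F21134)).symm.trans (sb E44926 (iv3 F87336)))).symm
theorem E48311 : n33151 = n12873 := (((D12873).symm.trans (sb E44926 F53066))).symm
theorem E48312 : n16404 = n12874 := (((D12874).symm.trans (sb E44926 F53067))).symm
theorem E48313 : n12893 = n12876 := (((D12876).symm.trans (sb E44927 (iv0 D26946)))).symm
theorem E48314 : n16394 = n12878 := (((D12878).symm.trans (sb E44927 (iv7 F53072)))).symm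
theorem E48315 : n28690 = n27484 := (((D27484).symm.trans (sb E44928 (iv3 F46238)))).symm
theorem E48316 : n28695 = n27485 := (((D27485).symm.trans (sb E44928 D28695))).symm
theorem E48317 : n27486 = n6495 := ((D27486).symm.trans (sb E44928 (iv6 D13674)))
theorem E48318 : n37013 = n36826 := ((((iv5 F57757)).symm.trans (sb E44929 (iv5 F57934)))).symm
theorem E48319 : n55663 = n28684 := ((D55663).symm.trans (sb E44929 (iv6 F57067)))
theorem E48320 : n79766 = n23909 := (((F43352).symm.trans (sb E44930 D79766))).symm
theorem E48321 : n79767 = n40139 := ((((iv0 F61035)).symm.trans (sb E44930 D79767))).symm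
theorem E48322 : n79761 = n40141 := (((F61040).symm.trans (sb E44930 (iv2 F122444)))).symm
theorem E48323 : n32801 = n29296 := (((iv5 F51937)).symm.trans (sb E44930 (iv5 F57050)))
theorem E48324 : n55664 = n17539 := ((D55664).symm.trans (sb E44930 (iv6 D36324)))
theorem E48325 : n27363 = n6614 := ((((iv1 D13920)).symm.trans (sb E44931 (iv1 F44256)))).symm
theorem E48327 : n29297 = n17194 := ((D29297).symm.trans (sb E44931 F43355))
theorem F296885 : act 5 n13920 = n12867 := (sb E44931 (iv5 D26881))
theorem E48328 : n55665 = n29298 := (((D29298).symm.trans (sb E44931 D55665))).symm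
theorem F296886 : act 6 n8244 = n12867 := (sb E44932 (iv6 D26882))
theorem E48338 : n105945 = n96301 := (((D96301).symm.trans (sb E44938 F265936))).symm
theorem E48340 : n96304 = n79724 := ((D96304).symm.trans (sb E44940 (iv6 D166051)))
theorem E48341 : n150282 = n71906 := ((((iv1 F108416)).symm.trans (sb E44941 F261475))).symm
theorem E48342 : n150358 = n96250 := (((D96250).symm.trans (sb E44941 F261474))).symm
theorem F296887 : act 6 n36310 = n21470 := (sb E44942 (iv6 D44963))
theorem E48347 : n96254 = n79730 := ((D96254).symm.trans (sb E44944 (iv5 D166072)))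
theorem F296888 : act 1 n18823 = n17533 := (sb E44945 (iv0 D36308))
theorem E48348 : n79720 = n28675 := ((((iv3 F46221)).symm.trans (sb E44945 D79720))).symm
theorem E48349 : n79721 = n39798 := (((D39798).symm.trans (sb E44945 D79721))).symm
theorem E48352 : n96314 = n79729 := (((D79729).symm.trans (sb E44946 D96314))).symm
theorem F296889 : act 0 n27093 = n27898 := (sb E44947 (iv1 F121777))
theorem F296890 : act 1 n36297 = n17888 := (sb E44948 (iv0 D37197))
theorem E48354 : n81450 = n79711 := (((D79711).symm.trans (sb E44948 D81450))).symm
theorem E48356 : n96318 = n79713 := (((D79713).symm.trans (sb E44949 D96318))).symm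
theorem E48357 : n162990 = n75251 := (((F114041).symm.trans (sb E44950 D162990))).symm
theorem E48358 : n88635 = n56402 := ((D88635).symm.trans (sb E44950 (iv6 F121395)))
theorem F296891 : act 5 n41373 = n35720 := (sb E44951 (iv5 D78374))
theorem E48361 : n183304 = n32832 := ((((iv2 F51983)).symm.trans (sb E44952 (iv2 F284954)))).symm
theorem E48362 : n80563 = n37248 := (((D37248).symm.trans (sb E44952 F134365))).symm
theorem E48363 : n80564 = n37251 := (((D37251).symm.trans (sb E44953 D80564))).symm
theorem F296892 : act 7 n17904 = n27318 := (sb E44953 F121232)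
theorem E48364 : n161014 = n37319 := (((F107438).symm.trans (sb E44954 F287082))).symm
theorem E48365 : n183380 = n96742 := (((D96742).symm.trans (sb E44955 (iv3 F285088)))).symm
theorem E48366 : n96743 = n80454 := ((D96743).symm.trans (sb E44955 (iv6 D167640)))
theorem E48368 : n96702 = n78298 := ((D96702).symm.trans (sb E44963 (iv5 F132678)))
theorem E48370 : n80574 = n76941 := (((D76941).symm.trans (sb E44964 (iv6 F257185)))).symm
theorem E48371 : n86564 = n86026 := ((((iv0 F131970)).symm.trans (sb E44965 F197425))).symm
theorem E48372 : n96751 = n86562 := ((D96751).symm.trans (sb E44965 F197426))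
theorem F296893 : act 3 n36535 = n35293 := (sb E44967 F116119)
theorem E48374 : n80203 = n77787 := ((D80203).symm.trans (sb E44967 (iv5 F119079)))
theorem F296894 : act 4 n37302 = n35293 := (sb E44968 F116120)
theorem E48378 : n181103 = n81630 := (((D81630).symm.trans (sb E44970 (iv5 F282065)))).symm
theorem E48379 : n81631 = n80584 := ((D81631).symm.trans (sb E44970 F257210))
theorem F296895 : act 3 n35695 = n35228 := (sb E44971 F115925)
theorem F296896 : act 5 n35695 = n35226 := (sb E44971 (iv5 D77159))
theorem F296897 : act 3 n36772 = n35229 := (sb E44972 F115926)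
theorem F296898 : act 6 n36772 = n35226 := (sb E44972 (iv6 D77160))
theorem F296899 : act 0 n8373 = n5964 := (sb E44973 F41803)
theorem F296900 : act 2 n8373 = n7384 := (sb E44973 F30487)
theorem E48381 : n17831 = n17756 := (((D17756).symm.trans (sb E44973 D17831))).symm
theorem E48382 : n17832 = n17757 := (((D17757).symm.trans (sb E44973 D17832))).symm
theorem F296901 : act 7 n8373 = n7383 := (sb E44973 (iv7 F30491))
theorem E48383 : n17673 = n17671 := (((F59727).symm.trans (sb E44974 F28987))).symm
theorem E48384 : n17760 = n17564 := ((D17760).symm.trans (sb E44974 (iv7 F28940)))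
theorem E48385 : n27362 = n7378 := ((((iv3 F11673)).symm.trans (sb E44975 D27362))).symm
theorem E48387 : n32802 = n23880 := (((F190028).symm.trans (sb E44977 (iv1 F51941)))).symm
theorem E48388 : n36011 = n32824 := (((D32824).symm.trans (sb E44977 D36011))).symm
theorem E48389 : n36012 = n32825 := (((D32825).symm.trans (sb E44977 D36012))).symm
theorem F296902 : act 4 n15716 = n21576 := (sb E44977 (iv4 F33966))
theorem E48390 : n32827 = n18962 := ((D32827).symm.trans (sb E44977 F30273))
theorem E48391 : n36013 = n32828 := (((D32828).symm.trans (sb E44977 D36013))).symm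
theorem E48392 : n36014 = n32817 := ((((iv1 F51961)).symm.trans (sb E44978 D36014))).symm
theorem E48393 : n32829 = n17644 := ((D32829).symm.trans (sb E44978 (iv4 F28716)))
theorem E48394 : n36016 = n32830 := (((D32830).symm.trans (sb E44978 D36016))).symm
theorem F296903 : act 4 n15719 = n8193 := (sb E44979 F28436)
theorem E48398 : n36020 = n32831 := (((D32831).symm.trans (sb E44979 D36020))).symm
theorem F296904 : act 1 n17132 = n8193 := (sb E44980 (iv0 D17437))
theorem E48399 : n36023 = n18704 := ((((iv4 F29965)).symm.trans (sb E44980 D36023))).symm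
theorem F296905 : act 0 n17107 = n8193 := (sb E44981 (iv1 F59788))
theorem E48401 : n35303 = n16671 := (((F28971).symm.trans (sb E44981 D35303))).symm
theorem E48403 : n71512 = n54769 := (((iv4 F108034)).symm.trans (sb E44983 F107244))
theorem E48404 : n96753 = n32800 := ((D96753).symm.trans (sb E44983 (iv6 D70761)))
theorem E48405 : n79297 = n70546 := ((((iv3 F108063)).symm.trans (sb E44984 (iv3 F121694)))).symm
theorem E48406 : n71548 = n54779 := ((F108062).symm.trans (sb E44984 (iv4 F107301)))
theorem E48407 : n96754 = n80566 := ((D96754).symm.trans (sb E44984 F185051))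
theorem E48409 : n150354 = n96755 := (((D96755).symm.trans (sb E44985 D150354))).symm
theorem E48414 : n150363 = n96756 := (((D96756).symm.trans (sb E44987 D150363))).symm
theorem E48415 : n150364 = n96757 := (((D96757).symm.trans (sb E44987 D150364))).symm
theorem E48416 : n150365 = n96758 := (((D96758).symm.trans (sb E44987 D150365))).symm
theorem E48421 : n86635 = n85623 := ((((iv7 F131277)).symm.trans (sb E44992 F195283))).symm
theorem F296906 : act 4 n37275 = n35287 := (sb E44994 (iv4 D77307))
theorem E48423 : n161098 = n81590 := (((D81590).symm.trans (sb E44994 D161098))).symm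
theorem F296907 : act 3 n77308 = n56403 := (sb E44995 (iv3 F121384))
theorem F296908 : act 3 n56939 = n35292 := (sb E44996 F116117)
theorem E48424 : n81977 = n55367 := (((F91434).symm.trans (sb E44996 (iv4 F126393)))).symm
theorem F296909 : act 4 n37276 = n35292 := (sb E44997 (iv4 D77319))
theorem E48426 : n86443 = n81632 := (((D81632).symm.trans (sb E45006 (iv1 D180996)))).symm
theorem E48427 : n86498 = n81633 := (((D81633).symm.trans (sb E45006 F281809))).symm
theorem E48429 : n86495 = n81635 := (((D81635).symm.trans (sb E45006 F281810))).symm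
theorem E48431 : n152579 = n38550 := ((((iv4 F59379)).symm.trans (sb E45008 (iv4 F239768)))).symm
theorem E48432 : n151797 = n47030 := ((((iv3 F74278)).symm.trans (sb E45009 (iv3 F285028)))).symm
theorem E48433 : n180855 = n75595 := (((D75595).symm.trans (sb E45009 (iv6 F285029)))).symm
theorem E48434 : n80252 = n39282 := (((D39282).symm.trans (sb E45011 F287019))).symm
theorem E48435 : n86474 = n81594 := (((D81594).symm.trans (sb E45016 (iv1 F281983)))).symm
theorem E48436 : n86472 = n81595 := (((D81595).symm.trans (sb E45016 (iv0 D181063)))).symm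
theorem E48438 : n86682 = n75962 := (((F117114).symm.trans (sb E45016 (iv7 F281985)))).symm
theorem E48440 : n149972 = n119126 := ((((iv1 F187443)).symm.trans (sb E45019 F267567))).symm
theorem E48441 : n149975 = n35452 := ((((iv0 D77644)).symm.trans (sb E45019 F267568))).symm
theorem E48442 : n161662 = n119123 := ((D161662).symm.trans (sb E45019 (tr F267563 E47717)))
theorem E48443 : n161663 = n98298 := ((D161663).symm.trans (sb E45019 F267564))
theorem F296914 : act 4 n77644 = n81568 := (sb E45019 (iv4 D170072))
theorem E48444 : n161664 = n118050 := ((D161664).symm.trans (sb E45019 F267565))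
theorem F296915 : act 4 n77645 = n81569 := (sb E45020 F127019)
theorem E48446 : n161667 = n149671 := ((D161667).symm.trans (sb E45020 F235322))
theorem E48447 : n172134 = n161668 := (((D161668).symm.trans (sb E45020 D172134))).symm
theorem E48449 : n165220 = n76728 := ((D165220).symm.trans (sb E45021 (iv3 F151564)))
theorem E48450 : n165221 = n76727 := ((D165221).symm.trans (sb E45021 F151565))
theorem E48452 : n151795 = n81922 := (((iv3 F266014)).symm.trans (sb E45022 F146758))
theorem E48453 : n149672 = n119124 := (((F187432).symm.trans (sb E45022 (iv4 F235325)))).symm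
theorem E48454 : n169794 = n165225 := (((D165225).symm.trans (sb E45022 (iv5 F267207)))).symm
theorem E48455 : n165227 = n164605 := ((D165227).symm.trans (sb E45023 (iv1 F259526)))
theorem E48456 : n183239 = n165228 := (((D165228).symm.trans (sb E45023 F284887))).symm
theorem E48457 : n165229 = n149670 := ((D165229).symm.trans (sb E45023 F235315))
theorem E48458 : n183243 = n180870 := ((D183243).symm.trans (sb E45030 (iv5 F281598)))
theorem E48459 : n180869 = n170521 := (((iv4 F281595)).symm.trans (sb E45031 (iv4 F267963)))
theorem E48482 : n55506 = n7983 := (((D7983).symm.trans (sb E45055 (iv1 F126509)))).symm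
theorem E48491 : n151473 = n7330 := (((F26532).symm.trans (sb E45058 F238264))).symm
theorem E48498 : n55378 = n18017 := (((F117325).symm.trans (sb E45061 F149107))).symm
theorem E48499 : n84491 = n45174 := (((D45174).symm.trans (sb E45061 F149109))).symm
theorem F296924 : act 0 n35866 = n77262 := (sb E45076 (iv1 F116029))
theorem F296925 : act 1 n35866 = n77908 := (sb E45076 (iv0 F119132))
theorem F296926 : act 2 n35866 = n34442 := (sb E45076 F58521)
theorem E48506 : n79671 = n78773 := ((((iv3 F119940)).symm.trans (sb E45076 (iv3 F122362)))).symm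
theorem E48507 : n82197 = n78778 := (((D78778).symm.trans (sb E45076 D82197))).symm
theorem F296927 : act 7 n35866 = n34439 := (sb E45076 F58522)
theorem E48508 : n37518 = n26760 := (((D26760).symm.trans (sb E45077 D37518))).symm
theorem F296928 : act 6 n12805 = n8494 := (sb E45077 (iv6 D18007))
theorem E48509 : n26823 = n26793 := (((iv1 F117240)).symm.trans (sb E45078 (iv1 F120576)))
theorem E48518 : n27243 = n8467 := ((D27243).symm.trans (sb E45081 F121146))
theorem F296929 : act 7 n13051 = n6237 := (sb E45081 (iv7 D13107))
theorem F296930 : act 2 n17918 = n21590 := (sb E45082 F116981)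
theorem F296931 : act 5 n17918 = n18504 := (sb E45082 (iv5 D38992))
theorem E48519 : n120513 = n37314 := (((D37314).symm.trans (sb E45084 (iv6 F191975)))).symm
theorem F296932 : act 5 n16817 = n26791 := (sb E45086 (iv5 D55483))
theorem E48532 : n183303 = n44765 := (((F70916).symm.trans (sb E45091 D183303))).symm
theorem E48536 : n71333 = n44766 := (((D44766).symm.trans (sb E45092 F134363))).symm
theorem E48540 : n181404 = n44768 := (((D44768).symm.trans (sb E45094 D181404))).symm
theorem F296933 : act 3 n17905 = n8464 := (sb E45095 (iv3 D17945))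
theorem E48543 : n36280 = n35873 := ((((iv3 F56530)).symm.trans (sb E45097 D36280))).symm
theorem E48544 : n36281 = n35876 := (((D35876).symm.trans (sb E45097 D36281))).symm
theorem E48562 : n160505 = n79203 := (((D79203).symm.trans (sb E45105 (iv3 F253549)))).symm
theorem E48563 : n79204 = n78512 := ((D79204).symm.trans (sb E45105 (iv5 F119696)))
theorem E48564 : n79205 = n35158 := ((D79205).symm.trans (sb E45105 (iv6 D76956)))
theorem F296934 : act 6 n17070 = n35105 := (sb E45106 F90246)
theorem F296935 : act 1 n35768 = n17513 := (sb E45107 (iv0 D36262))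
theorem E48565 : n79628 = n78508 := (((D78508).symm.trans (sb E45107 D79628))).symm
theorem E48567 : n79629 = n78510 := (((D78510).symm.trans (sb E45107 D79629))).symm
theorem E48568 : n124238 = n39053 := (((F67526).symm.trans (sb E45108 D124238))).symm
theorem E48570 : n162173 = n92200 := (((D92200).symm.trans (sb E45109 D162173))).symm
theorem E48571 : n162174 = n92201 := (((D92201).symm.trans (sb E45109 D162174))).symm
theorem E48572 : n162175 = n92199 := ((((iv2 F141804)).symm.trans (sb E45109 D162175))).symm
theorem E48574 : n92203 = n36277 := ((D92203).symm.trans (sb E45109 F119139))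
theorem F296936 : act 4 n17518 = n20341 := (sb E45111 F67495)
theorem E48578 : n36279 = n35901 := ((D36279).symm.trans (sb E45111 F67496))
theorem F296937 : act 7 n17518 = n20338 := (sb E45111 (iv7 D43113))
theorem E48580 : n180521 = n75296 := (((F129371).symm.trans (sb E45113 (iv6 F280978)))).symm
theorem F296939 : act 0 n84293 = n75279 := (sb E45114 (iv1 D158030))
theorem E48581 : n176815 = n160871 := ((D176815).symm.trans (sb E45114 (iv4 F257512)))
theorem E48584 : n78375 = n75797 := ((F128103).symm.trans (sb E45116 F151550))
theorem F296940 : act 1 n34651 = n38246 := (sb E45117 (iv0 D83093))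
theorem F296941 : act 0 n34455 = n38246 := (sb E45118 F118256)
theorem E48589 : n174215 = n163252 := ((((iv4 F257555)).symm.trans (sb E45123 D174215))).symm
theorem E48592 : n173321 = n163253 := (((iv4 F271749)).symm.trans (sb E45124 F257548))
theorem E48593 : n167940 = n165692 := (((iv3 F264651)).symm.trans (sb E45125 (iv3 F260982)))
theorem E48594 : n165882 = n164101 := ((((iv3 F258633)).symm.trans (sb E45126 (iv3 F261253)))).symm
theorem F296945 : act 6 n78841 = n75273 := (sb E45126 (iv6 D158016))
theorem E48596 : n170742 = n124638 := ((((iv5 F199369)).symm.trans (sb E45128 (iv5 F268324)))).symm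
theorem E48611 : n86245 = n39897 := (((D39897).symm.trans (sb E45140 (iv1 F254953)))).symm
theorem E48614 : n57904 = n18588 := ((((iv6 F29822)).symm.trans (sb E45141 (iv6 D124205)))).symm
theorem E48615 : n57888 = n18586 := (((D18586).symm.trans (sb E45142 (iv1 F91620)))).symm
theorem E48616 : n57409 = n18587 := (((D18587).symm.trans (sb E45142 (iv0 F90588)))).symm
theorem E48617 : n56896 = n18589 := (((D18589).symm.trans (sb E45142 (iv7 F124397)))).symm
theorem E48618 : n55959 = n55949 := ((F117615).symm.trans (sb E45148 (iv1 F193368)))
theorem F296946 : act 1 n39877 = n55948 := (sb E45148 F193369)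
theorem F296947 : act 3 n39877 = n78829 := (sb E45148 F193365)
theorem F296949 : act 1 n84294 = n78453 := (sb E45149 (iv0 D163233))
theorem E48619 : n124252 = n39911 := (((F255007).symm.trans (sb E45149 F261032))).symm
theorem E48620 : n176814 = n166684 := (((iv4 F276195)).symm.trans (sb E45149 (iv4 F262339)))
theorem E48621 : n176647 = n164122 := (((iv6 F280979)).symm.trans (sb E45150 (iv6 F258669)))
theorem E48623 : n160892 = n158850 := ((((iv4 F250104)).symm.trans (sb E45151 F257507))).symm
theorem E48625 : n158845 = n83141 := (((D83141).symm.trans (sb E45152 D158845))).symm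
theorem E48626 : n84200 = n83142 := (((D83142).symm.trans (sb E45152 (iv7 F129252)))).symm
theorem F296954 : act 0 n38269 = n34662 := (sb E45153 (iv1 F112836))
theorem F296955 : act 2 n38269 = n34651 := (sb E45153 F112832)
theorem F296956 : act 7 n38269 = n34455 := (sb E45153 (iv7 D75264))
theorem F296957 : act 0 n38272 = n34455 := (sb E45154 F59850)
theorem F296958 : act 1 n38272 = n34651 := (sb E45154 (iv0 F59851))
theorem F296959 : act 2 n38272 = n34662 := (sb E45154 F125859)
theorem E48627 : n57466 = n18833 := (((F117756).symm.trans (sb E45155 (iv3 D123370)))).symm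
theorem E48630 : n75777 = n58017 := ((((iv6 D124418)).symm.trans (sb E45158 (iv6 D158826)))).symm
theorem F296963 : act 0 n38475 = n75803 := (sb E45159 (iv1 D158866))
theorem E48631 : n161144 = n18621 := (((F117754).symm.trans (sb E45159 F254792))).symm
theorem E48632 : n160849 = n83458 := ((((iv4 F128559)).symm.trans (sb E45159 F254793))).symm
theorem F296965 : act 1 n38823 = n83129 := (sb E45160 F250126)
theorem F296968 : act 1 n160612 = n78838 := (sb E45161 F258586)
theorem F296969 : act 2 n160612 = n78841 := (sb E45161 F258582)
theorem F296970 : act 4 n160612 = n78829 := (sb E45161 F258583)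
theorem F296971 : act 7 n160612 = n78827 := (sb E45161 (iv7 D164080))
theorem F296972 : act 3 n35891 = n78828 := (sb E45163 (iv3 D164081))
theorem E48633 : n84224 = n78844 := (((D78844).symm.trans (sb E45163 F258588))).symm
theorem E48634 : n83120 = n75260 := (((F112822).symm.trans (sb E45163 F258589))).symm
theorem E48635 : n27264 = n6218 := ((((iv1 F9682)).symm.trans (sb E45164 F121246))).symm
theorem F296973 : act 1 n12872 = n7613 := (sb E45165 (iv0 D16417))
theorem E48636 : n33739 = n21901 := ((((iv3 F34394)).symm.trans (sb E45165 F190782))).symm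
theorem E48637 : n26414 = n22093 := ((((iv5 F34559)).symm.trans (sb E45165 F42169))).symm
theorem E48638 : n26896 = n18763 := ((D26896).symm.trans (sb E45165 F42170))
theorem F296974 : act 6 n8794 = n8291 := (sb E45166 (iv6 D17615))
theorem F296975 : act 5 n6148 = n6220 := (sb E45167 (iv5 D13074))
theorem E48641 : n27666 = n17969 := ((((iv1 F29883)).symm.trans (sb E45168 F121060))).symm
theorem E48642 : n38265 = n8707 := ((((iv0 D18543)).symm.trans (sb E45168 F121061))).symm
theorem F296976 : act 3 n18543 = n19049 := (sb E45168 F61343)
theorem F296977 : act 6 n18543 = n19047 := (sb E45168 (iv6 D40296))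
theorem F296978 : act 6 n3931 = n6259 := (sb E45169 (iv6 D13151))
theorem E48645 : n27490 = n6309 := ((((iv7 F44657)).symm.trans (sb E45169 D27490))).symm
theorem E48646 : n33955 = n26870 := (((D26870).symm.trans (sb E45170 (iv3 F53293)))).symm
theorem E48647 : n33968 = n26871 := (((D26871).symm.trans (sb E45170 (iv5 F53301)))).symm
theorem E48648 : n26872 = n26667 := ((D26872).symm.trans (sb E45170 (iv6 F53088)))
theorem F296979 : act 7 n12862 = n7613 := (sb E45170 (iv7 D16420))
theorem F296980 : act 2 n3704 = n7613 := (sb E45171 F53061)
theorem E48649 : n26674 = n7589 := ((((iv3 F11827)).symm.trans (sb E45171 (iv3 F42740)))).symm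
theorem E48650 : n26678 = n8224 := (((D8224).symm.trans (sb E45171 D26678))).symm
theorem E48651 : n8225 = n6024 := ((D8225).symm.trans (sb E45171 (iv6 D12743)))
theorem E48652 : n119316 = n36139 := (((D36139).symm.trans (sb E45172 (iv1 F187838)))).symm
theorem E48653 : n36140 = n26602 := ((D36140).symm.trans (sb E45172 (iv0 D55032)))
theorem E48654 : n119151 = n36141 := (((D36141).symm.trans (sb E45172 (iv2 F187475)))).symm
theorem E48655 : n36143 = n33164 := ((D36143).symm.trans (sb E45172 F130337))
theorem E48656 : n39353 = n36144 := (((D36144).symm.trans (sb E45172 F130338))).symm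
theorem E48657 : n27116 = n26417 := ((((iv1 F42203)).symm.trans (sb E45173 (iv1 F43842)))).symm
theorem F296981 : act 5 n15993 = n8222 := (sb E45173 (iv5 D17476))
theorem E48658 : n36145 = n33165 := (((D33165).symm.trans (sb E45173 D36145))).symm
theorem E48659 : n36103 = n8765 := ((F117296).symm.trans (sb E45174 (iv1 D18685)))
theorem E48660 : n27801 = n19033 := (((F117297).symm.trans (sb E45174 F44899))).symm
theorem F296982 : act 4 n17477 = n8800 := (sb E45174 F29953)
theorem E48661 : n36148 = n34693 := ((D36148).symm.trans (sb E45174 (iv5 F54938)))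
theorem E48662 : n36149 = n18766 := ((D36149).symm.trans (sb E45174 (iv7 F30008)))
theorem E48664 : n13281 = n6270 := (((iv3 F22077)).symm.trans (sb E45176 (iv3 D13188)))
theorem E48669 : n38312 = n38256 := (((D38256).symm.trans (sb E45180 (iv0 D83236)))).symm
theorem E48670 : n174121 = n38253 := ((((iv3 F59136)).symm.trans (sb E45180 D174121))).symm
theorem E48671 : n82520 = n38257 := (((D38257).symm.trans (sb E45180 F151538))).symm
theorem E48672 : n38819 = n38258 := (((D38258).symm.trans (sb E45180 F151539))).symm
theorem E48673 : n38479 = n38262 := (((D38262).symm.trans (sb E45181 (iv5 F59321)))).symm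
theorem E48676 : n174383 = n78065 := (((D78065).symm.trans (sb E45184 (iv2 F273231)))).symm
theorem E48677 : n78066 = n38834 := ((D78066).symm.trans (sb E45184 (iv6 D84213)))
theorem E48678 : n38280 = n17555 := (((iv0 F121804)).symm.trans (sb E45185 F118386))
theorem E48679 : n78067 = n38835 := (((D38835).symm.trans (sb E45185 D78067))).symm
theorem F296983 : act 6 n18456 = n17247 := (sb E45185 (iv6 D35606))
theorem F296984 : act 0 n54987 = n36142 := (sb E45186 (iv1 D79370))
theorem E48680 : n119295 = n60166 := (((iv2 F187777)).symm.trans (sb E45186 F121964))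
theorem E48681 : n119516 = n60200 := (((iv3 F188496)).symm.trans (sb E45186 (iv3 F121962)))
theorem E48682 : n119518 = n79325 := (((iv4 F188500)).symm.trans (sb E45186 (iv4 F121963)))
theorem E48683 : n119523 = n71914 := ((D119523).symm.trans (sb E45186 F121965))
theorem E48685 : n119524 = n60229 := ((D119524).symm.trans (sb E45186 F121961))
theorem E48686 : n165198 = n38586 := ((D165198).symm.trans (sb E45187 (iv1 D83725)))
theorem E48687 : n175116 = n165199 := (((D165199).symm.trans (sb E45187 F274088))).symm
theorem E48688 : n175117 = n165191 := ((((iv2 F260442)).symm.trans (sb E45187 (iv2 F274089)))).symm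
theorem E48689 : n165200 = n158481 := ((D165200).symm.trans (sb E45187 F249685))
theorem E48690 : n165201 = n84107 := ((D165201).symm.trans (sb E45187 F130281))
theorem F296985 : act 5 n75649 = n37809 := (sb E45188 (iv5 D82426))
theorem F296986 : act 7 n38754 = n37809 := (sb E45189 (iv7 D82427))
theorem F296987 : act 0 n18416 = n38427 := (sb E45190 (iv1 F113578))
theorem F296988 : act 2 n18416 = n18444 := (sb E45190 F29632)
theorem E48695 : n38741 = n38718 := (((D38718).symm.trans (sb E45190 (iv3 F59518)))).symm
theorem E48696 : n38748 = n38719 := (((D38719).symm.trans (sb E45190 D38748))).symm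
theorem F296989 : act 7 n18416 = n18428 := (sb E45190 F29634)
theorem F296990 : act 3 n8615 = n8668 := (sb E45191 F29580)
theorem F296991 : act 5 n8615 = n8666 := (sb E45191 (iv5 D18417))
theorem E48697 : n38724 = n18269 := (((D18269).symm.trans (sb E45191 D38724))).symm
theorem F296992 : act 0 n38233 = n38249 := (sb E45192 F126992)
theorem E48702 : n123316 = n37456 := (((D37456).symm.trans (sb E45197 F269719))).symm
theorem E48704 : n37485 = n27536 := ((D37485).symm.trans (sb E45199 F120793))
theorem E48705 : n37486 = n27428 := ((D37486).symm.trans (sb E45199 (iv0 F120794)))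
theorem E48706 : n123034 = n37483 := ((((iv3 F58373)).symm.trans (sb E45199 D123034))).symm
theorem E48707 : n123035 = n37487 := (((D37487).symm.trans (sb E45199 D123035))).symm
theorem E48708 : n37488 = n27508 := ((D37488).symm.trans (sb E45199 F91012))
theorem F296993 : act 1 n13158 = n8489 := (sb E45200 F124341)
theorem E48709 : n27890 = n27514 := ((((iv5 F44415)).symm.trans (sb E45200 D27890))).symm
theorem F296994 : act 0 n13129 = n8489 := (sb E45201 (iv1 D17999))
theorem E48711 : n39239 = n27902 := (((F117295).symm.trans (sb E45202 F120628))).symm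
theorem E48712 : n39238 = n37500 := (((D37500).symm.trans (sb E45202 F120629))).symm
theorem E48713 : n123036 = n37501 := (((D37501).symm.trans (sb E45202 D123036))).symm
theorem E48714 : n37502 = n27509 := ((D37502).symm.trans (sb E45202 F91014))
theorem F296995 : act 7 n13156 = n8489 := (sb E45203 (iv7 D18001))
theorem E48716 : n173313 = n170730 := (((D170730).symm.trans (sb E45204 D173313))).symm
theorem E48717 : n119351 = n101258 := ((((iv2 F156016)).symm.trans (sb E45204 (iv2 F187972)))).symm
theorem E48718 : n173314 = n170731 := (((D170731).symm.trans (sb E45204 D173314))).symm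
theorem E48719 : n162619 = n38465 := (((iv7 F256849)).symm.trans (sb E45204 F127814))
theorem E48720 : n170736 = n124632 := ((D170736).symm.trans (sb E45205 (iv1 F199340)))
theorem E48721 : n167621 = n124631 := (((iv0 F263875)).symm.trans (sb E45205 F199336))
theorem E48722 : n173315 = n170737 := (((D170737).symm.trans (sb E45205 D173315))).symm
theorem E48723 : n162620 = n38466 := (((iv7 F256851)).symm.trans (sb E45205 F127816))
theorem F296996 : act 7 n18335 = n37474 := (sb E45206 F124369)
theorem F296997 : act 1 n18327 = n17249 := (sb E45207 (iv0 D35610))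
theorem E48724 : n78076 = n38413 := ((((iv3 F59274)).symm.trans (sb E45207 D78076))).symm
theorem E48725 : n78078 = n38431 := ((((iv5 F59280)).symm.trans (sb E45207 D78078))).symm
theorem E48727 : n170738 = n38484 := ((((iv4 F59323)).symm.trans (sb E45208 D170738))).symm
theorem F296998 : act 0 n18243 = n17249 := (sb E45210 (iv1 D35611))
theorem E48729 : n78081 = n38157 := ((((iv3 F59009)).symm.trans (sb E45210 D78081))).symm
theorem F296999 : act 1 n58235 = n37477 := (sb E45211 (iv0 D81858))
theorem E48731 : n124637 = n78140 := ((D124637).symm.trans (sb E45211 (iv4 F129295)))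
theorem F297000 : act 0 n58234 = n37477 := (sb E45212 F117616)
theorem E48732 : n124636 = n78141 := ((D124636).symm.trans (sb E45212 F119313))
theorem E48733 : n173317 = n170743 := (((D170743).symm.trans (sb E45213 D173317))).symm
theorem E48734 : n173318 = n170744 := (((D170744).symm.trans (sb E45213 D173318))).symm
theorem E48735 : n162651 = n38468 := (((iv7 F256891)).symm.trans (sb E45213 F127818))
theorem F297001 : act 7 n18336 = n37477 := (sb E45214 (iv7 D81860))
theorem F297002 : act 0 n12601 = n6175 := (sb E45215 (iv1 D12993))
theorem E48736 : n26405 = n18939 := ((D26405).symm.trans (sb E45215 (iv3 F30244)))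
theorem E48737 : n26407 = n17482 := ((D26407).symm.trans (sb E45215 (iv5 F28476)))
theorem E48741 : n37537 = n13223 := (((F22016).symm.trans (sb E45216 D37537))).symm
theorem F297003 : act 2 n12604 = n6175 := (sb E45217 F21604)
theorem E48743 : n27115 = n26394 := ((((iv3 F42144)).symm.trans (sb E45217 D27115))).symm
theorem F297004 : act 4 n12604 = n6172 := (sb E45217 (iv4 D12990))
theorem E48745 : n33152 = n17157 := ((D33152).symm.trans (sb E45218 F28896))
theorem E48746 : n36870 = n33153 := (((D33153).symm.trans (sb E45218 D36870))).symm
theorem E48748 : n36709 = n32307 := ((((iv0 F51228)).symm.trans (sb E45219 (iv0 F117584)))).symm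
theorem E48751 : n36041 = n26844 := ((((iv4 F43237)).symm.trans (sb E45220 (iv4 F117577)))).symm
theorem E48753 : n34773 = n17054 := (((iv3 F54986)).symm.trans (sb E45221 (iv3 D35127)))
theorem E48758 : n55795 = n17320 := ((((iv4 F42349)).symm.trans (sb E45222 (iv4 F88260)))).symm
theorem F297005 : act 6 n8709 = n17144 := (sb E45222 F56032)
theorem F297006 : act 0 n75369 = n35219 := (sb E45224 F113636)
theorem F297007 : act 1 n75369 = n35191 := (sb E45224 (iv0 F113637))
theorem E48760 : n158813 = n158218 := ((((iv3 F249245)).symm.trans (sb E45224 D158813))).symm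
theorem E48761 : n158814 = n158221 := (((D158221).symm.trans (sb E45224 D158814))).symm
theorem F297008 : act 7 n75369 = n35217 := (sb E45224 F113635)
theorem E48763 : n158816 = n124464 := (((D124464).symm.trans (sb E45225 D158816))).symm
theorem F297009 : act 0 n75763 = n35191 := (sb E45226 (iv1 D77050))
theorem F297010 : act 1 n75763 = n35219 := (sb E45226 F115779)
theorem F297011 : act 2 n75763 = n35217 := (sb E45226 (iv2 F115781))
theorem E48764 : n160657 = n158792 := ((((iv3 F249997)).symm.trans (sb E45226 D160657))).symm
theorem E48765 : n160658 = n158801 := ((((iv5 F250005)).symm.trans (sb E45226 D160658))).symm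
theorem E48766 : n98272 = n80511 := ((F151667).symm.trans (sb E45226 (iv6 F124859)))
theorem E48770 : n172131 = n78417 := ((((iv3 F119616)).symm.trans (sb E45230 D172131))).symm
theorem F297012 : act 6 n38363 = n77042 := (sb E45230 F127015)
theorem E48775 : n122918 = n37570 := (((D37570).symm.trans (sb E45233 D122918))).symm
theorem E48776 : n76835 = n37571 := (((D37571).symm.trans (sb E45233 F121580))).symm
theorem E48777 : n57740 = n37572 := (((D37572).symm.trans (sb E45233 (iv5 F90918)))).symm
theorem E48780 : n37425 = n26826 := (((D26826).symm.trans (sb E45234 (iv6 F121213)))).symm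
theorem E48781 : n34761 = n17053 := ((D34761).symm.trans (sb E45235 (iv6 D35125)))
theorem E48782 : n158212 = n80428 := (((D80428).symm.trans (sb E45237 D158212))).symm
theorem F297013 : act 4 n36654 = n34495 := (sb E45237 (iv4 D75358))
theorem E48783 : n98153 = n80429 := (((D80429).symm.trans (sb E45237 (iv5 F151384)))).symm
theorem E48784 : n98264 = n80430 := (((D80430).symm.trans (sb E45237 F151645))).symm
theorem F297014 : act 7 n36654 = n34646 := (sb E45237 (iv7 F113067))
theorem F297015 : act 2 n36655 = n34646 := (sb E45239 F113104)
theorem E48787 : n98154 = n80432 := (((D80432).symm.trans (sb E45239 (iv5 F151395)))).symm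
theorem E48788 : n121829 = n118600 := (((iv3 F194475)).symm.trans (sb E45240 F186524))
theorem E48789 : n172878 = n101594 := ((((iv4 F156517)).symm.trans (sb E45240 D172878))).symm
theorem E48791 : n160646 = n98258 := ((D160646).symm.trans (sb E45240 (iv6 F186526)))
theorem E48792 : n161648 = n123708 := ((((iv5 F198185)).symm.trans (sb E45241 D161648))).symm
theorem E48793 : n160647 = n35450 := ((D160647).symm.trans (sb E45241 (iv6 D77639)))
theorem E48795 : n172881 = n127868 := (((D127868).symm.trans (sb E45242 D172881))).symm
theorem E48798 : n172885 = n160648 := (((D160648).symm.trans (sb E45243 D172885))).symm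
theorem E48799 : n160649 = n158943 := ((D160649).symm.trans (sb E45244 F250280))
theorem E48801 : n160651 = n83244 := ((D160651).symm.trans (sb E45244 (iv5 F128325)))
theorem E48802 : n160652 = n158799 := ((D160652).symm.trans (sb E45244 (iv7 F250001)))
theorem E48805 : n160655 = n83246 := ((D160655).symm.trans (sb E45245 (iv5 F128327)))
theorem E48806 : n172898 = n160656 := (((D160656).symm.trans (sb E45245 D172898))).symm
theorem F297016 : act 2 n38314 = n35218 := (sb E45246 F115782)
theorem E48809 : n160661 = n83245 := (((D83245).symm.trans (sb E45246 D160661))).symm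
theorem F297017 : act 5 n38314 = n35191 := (sb E45246 (iv5 D77051))
theorem F297018 : act 0 n75760 = n35217 := (sb E45247 (iv1 F115785))
theorem F297019 : act 2 n75760 = n35219 := (sb E45247 F115783)
theorem F297020 : act 4 n75760 = n35195 := (sb E45247 F115784)
theorem F297021 : act 6 n75760 = n80413 := (sb E45247 (iv6 F123591))
theorem F297022 : act 7 n75760 = n35191 := (sb E45247 (iv7 D77052))
theorem E48814 : n172804 = n33519 := (((D33519).symm.trans (sb E45249 (iv3 F285898)))).symm
theorem E48824 : n80864 = n15292 := (((D15292).symm.trans (sb E45251 D80864))).symm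
theorem E48831 : n84088 = n69767 := (((D69767).symm.trans (sb E45253 (iv5 F129065)))).symm
theorem E48835 : n84090 = n80426 := (((D80426).symm.trans (sb E45254 (iv5 F129070)))).symm
theorem E48837 : n80434 = n18442 := ((D80434).symm.trans (sb E45255 (iv1 F59519)))
theorem E48838 : n80435 = n18423 := ((D80435).symm.trans (sb E45255 (iv0 D38742)))
theorem E48839 : n84089 = n80436 := (((D80436).symm.trans (sb E45255 D84089))).symm
theorem E48840 : n83072 = n80437 := (((D80437).symm.trans (sb E45255 (iv7 F128040)))).symm
theorem F297023 : act 0 n36657 = n34646 := (sb E45256 (iv1 F113589))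
theorem F297024 : act 0 n77108 = n38030 := (sb E45257 (iv1 F127491))
theorem F297025 : act 1 n77108 = n38029 := (sb E45257 F127492)
theorem E48841 : n160711 = n158317 := ((D160711).symm.trans (sb E45257 (iv6 F249441)))
theorem F297026 : act 7 n77108 = n38024 := (sb E45257 (iv7 D82726))
theorem F297027 : act 1 n77107 = n38024 := (sb E45258 (iv0 D82723))
theorem F297028 : act 2 n77107 = n38029 := (sb E45258 F186408)
theorem E48842 : n119013 = n95834 := ((((iv3 F147523)).symm.trans (sb E45258 F191004))).symm
theorem E48844 : n172770 = n81527 := (((F125403).symm.trans (sb E45258 D172770))).symm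
theorem E48845 : n172771 = n160710 := (((D160710).symm.trans (sb E45258 D172771))).symm
theorem F297029 : act 7 n77107 = n38030 := (sb E45258 F186409)
theorem E48846 : n100811 = n72333 := ((((iv0 F109152)).symm.trans (sb E45259 (iv0 F285901)))).symm
theorem F297030 : act 3 n72622 = n38029 := (sb E45259 (iv3 D82736))
theorem E48848 : n55434 = n41711 := (((iv4 F109150)).symm.trans (sb E45259 F286823))
theorem E48850 : n172807 = n153589 := (((D153589).symm.trans (sb E45259 D172807))).symm
theorem E48854 : n100812 = n41712 := (((iv3 F154914)).symm.trans (sb E45260 F286780))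
theorem F297031 : act 4 n82499 = n38029 := (sb E45260 (iv4 D82737))
theorem E48856 : n172812 = n172241 := (((D172241).symm.trans (sb E45260 D172812))).symm
theorem E48858 : n172813 = n78900 := ((D172813).symm.trans (sb E45261 F187325))
theorem F297032 : act 0 n77106 = n38024 := (sb E45263 (iv1 D82724))
theorem F297033 : act 2 n77106 = n38030 := (sb E45263 F186411)
theorem E48861 : n172775 = n160709 := (((D160709).symm.trans (sb E45263 D172775))).symm
theorem F297034 : act 7 n77106 = n38029 := (sb E45263 F186412)
theorem E48862 : n121826 = n26521 := ((((iv1 D54823)).symm.trans (sb E45264 F194465))).symm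
theorem E48863 : n153587 = n70712 := ((((iv2 F186532)).symm.trans (sb E45264 (iv2 F241405)))).symm
theorem E48864 : n127961 = n60043 := ((((iv4 F191017)).symm.trans (sb E45264 (iv4 F205926)))).symm
theorem E48865 : n119138 = n45419 := ((D119138).symm.trans (sb E45264 (iv5 D97188)))
theorem E48866 : n118469 = n36491 := ((((iv3 D80120)).symm.trans (sb E45265 (iv3 F186307)))).symm
theorem F297035 : act 4 n80120 = n38030 := (sb E45265 (iv4 D82742))
theorem E48868 : n172822 = n166899 := (((D166899).symm.trans (sb E45265 D172822))).symm
theorem E48869 : n172823 = n45139 := ((D172823).symm.trans (sb E45266 (iv4 D96658)))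
theorem F297036 : act 2 n71887 = n38031 := (sb E45268 F127488)
theorem E48870 : n172778 = n152372 := ((((iv4 F239567)).symm.trans (sb E45268 D172778))).symm
theorem F297037 : act 5 n71887 = n38024 := (sb E45268 (iv5 D82725))
theorem E48871 : n155081 = n152377 := (((D152377).symm.trans (sb E45268 (iv6 F243897)))).symm
theorem E48872 : n172829 = n90248 := ((D172829).symm.trans (sb E45269 F178817))
theorem E48873 : n172830 = n52946 := ((D172830).symm.trans (sb E45269 (iv4 D114718)))
theorem E48874 : n172831 = n78063 := ((D172831).symm.trans (sb E45269 F178818))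
theorem E48875 : n172832 = n90259 := ((D172832).symm.trans (sb E45269 (iv6 F178821)))
theorem F297038 : act 0 n81616 = n38031 := (sb E45270 (iv1 D82746))
theorem E48876 : n119141 = n44718 := (((F125529).symm.trans (sb E45270 (iv3 F271088)))).symm
theorem E48878 : n172836 = n78064 := (((F125530).symm.trans (sb E45270 D172836))).symm
theorem E48880 : n172839 = n103127 := ((D172839).symm.trans (sb E45271 (iv0 F235209)))
theorem E48881 : n181070 = n172841 := (((D172841).symm.trans (sb E45271 (iv5 F282002)))).symm
theorem F297039 : act 6 n75485 = n35210 := (sb E45273 (iv6 D77110))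
theorem E48892 : n162572 = n158747 := ((D162572).symm.trans (sb E45275 (iv5 F249931)))
theorem E48901 : n172946 = n78073 := (((D78073).symm.trans (sb E45277 D172946))).symm
theorem F297040 : act 2 n18165 = n17705 := (sb E45281 F57597)
theorem E48903 : n80494 = n37909 := (((D37909).symm.trans (sb E45281 D80494))).symm
theorem F297041 : act 4 n18165 = n17704 := (sb E45281 (iv4 D36723))
theorem E48904 : n80495 = n37911 := (((D37911).symm.trans (sb E45281 D80495))).symm
theorem E48905 : n80496 = n37912 := (((D37912).symm.trans (sb E45281 D80496))).symm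
theorem E48906 : n37904 = n32896 := ((D37904).symm.trans (sb E45282 (iv3 F52079)))
theorem F297042 : act 4 n18164 = n13005 := (sb E45282 (iv4 D27151))
theorem E48907 : n56400 = n37906 := (((D37906).symm.trans (sb E45282 D56400))).symm
theorem E48908 : n56401 = n37907 := (((D37907).symm.trans (sb E45282 D56401))).symm
theorem F297043 : act 7 n18164 = n17705 := (sb E45282 F43894)
theorem E48910 : n78204 = n37913 := (((F113317).symm.trans (sb E45283 (iv0 F119410)))).symm
theorem E48911 : n160722 = n82603 := ((((iv4 F127228)).symm.trans (sb E45283 D160722))).symm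
theorem F297044 : act 1 n13061 = n6237 := (sb E45287 (iv0 D13105))
theorem F297045 : act 3 n13061 = n8567 := (sb E45287 (iv3 F121199))
theorem E48917 : n27353 = n27270 := (((D27270).symm.trans (sb E45287 D27353))).symm
theorem E48918 : n27354 = n18796 := (((F117160).symm.trans (sb E45287 D27354))).symm
theorem E48919 : n27355 = n27272 := (((D27272).symm.trans (sb E45287 D27355))).symm
theorem E48920 : n83118 = n37936 := (((D37936).symm.trans (sb E45288 (iv4 F128129)))).symm
theorem F297046 : act 6 n18171 = n18276 := (sb E45288 (iv6 D38263))
theorem E48926 : n36254 = n12894 := (((D12894).symm.trans (sb E45305 (iv1 F121746)))).symm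
theorem E48927 : n36253 = n12897 := (((D12897).symm.trans (sb E45305 (iv7 F121776)))).symm
theorem F297047 : act 6 n26957 = n55780 := (sb E45311 (iv6 D120943))
theorem E48933 : n55792 = n17344 := (((D17344).symm.trans (sb E45313 (iv1 F88251)))).symm
theorem E48934 : n55791 = n17345 := (((D17345).symm.trans (sb E45313 F88254))).symm
theorem E48935 : n122321 = n76887 := ((D122321).symm.trans (sb E45315 (iv6 D160388)))
theorem E48936 : n167063 = n77862 := ((((iv1 F122715)).symm.trans (sb E45316 (iv1 F263114)))).symm
theorem E48937 : n165689 = n77777 := ((((iv7 F122713)).symm.trans (sb E45316 (iv7 F260966)))).symm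
theorem F297049 : act 6 n79580 = n84365 := (sb E45317 (iv6 D177008))
theorem E48938 : n166581 = n96710 := ((D166581).symm.trans (sb E45318 (iv1 F149088)))
theorem F297050 : act 1 n79951 = n37317 := (sb E45318 (iv0 D81646))
theorem E48939 : n170237 = n166579 := ((((iv3 F262139)).symm.trans (sb E45318 D170237))).symm
theorem E48940 : n170238 = n166582 := (((D166582).symm.trans (sb E45318 D170238))).symm
theorem E48941 : n96707 = n78274 := ((((iv7 F122722)).symm.trans (sb E45318 (iv7 F149079)))).symm
theorem F297051 : act 5 n26948 = n36818 := (sb E45319 F122211)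
theorem E48943 : n181005 = n86028 := ((D181005).symm.trans (sb E45321 (iv1 F148205)))
theorem E48944 : n181006 = n84486 := ((D181006).symm.trans (sb E45321 F146848))
theorem E48945 : n182589 = n79862 := (((D79862).symm.trans (sb E45322 (iv5 F284082)))).symm
theorem E49013 : n82334 = n8588 := ((((iv4 F13499)).symm.trans (sb E45384 D82334))).symm
theorem E49078 : n168996 = n18159 := (((D18159).symm.trans (sb E45450 D168996))).symm
theorem E49080 : n82448 = n18160 := (((D18160).symm.trans (sb E45450 (iv6 F127025)))).symm
theorem E49083 : n82458 = n18166 := (((D18166).symm.trans (sb E45452 (iv5 F127039)))).symm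
theorem F297052 : act 7 n8566 = n18136 := (sb E45452 (iv7 D37830))
theorem E49098 : n179840 = n13132 := (((D13132).symm.trans (sb E45473 (iv3 F280070)))).symm
theorem E49099 : n39730 = n13134 := (((D13134).symm.trans (sb E45473 (iv6 D85893)))).symm
theorem E49100 : n58018 = n18236 := (((D18236).symm.trans (sb E45476 (iv0 D124419)))).symm
theorem E49104 : n128324 = n12706 := (((D12706).symm.trans (sb E45480 F281328))).symm
theorem E49105 : n79438 = n12709 := (((D12709).symm.trans (sb E45480 (iv6 D165383)))).symm
theorem E49106 : n56182 = n18404 := (((D18404).symm.trans (sb E45482 (iv1 F132309)))).symm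
theorem E49108 : n76998 = n18403 := ((((iv7 F29569)).symm.trans (sb E45482 F132310))).symm
theorem F297053 : act 3 n8676 = n18247 := (sb E45483 F59007)
theorem F297054 : act 6 n8676 = n18279 := (sb E45483 F59008)
theorem E49109 : n83437 = n18459 := (((D18459).symm.trans (sb E45484 F197688))).symm
theorem E49111 : n35111 = n16842 := ((D35111).symm.trans (sb E45486 (iv1 D34771)))
theorem E49113 : n98302 = n75248 := (((D75248).symm.trans (sb E45487 (iv0 F287098)))).symm
theorem E49116 : n83119 = n75257 := (((D75257).symm.trans (sb E45490 F248943))).symm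
theorem E49117 : n75712 = n56793 := ((((iv6 F117779)).symm.trans (sb E45491 F249233))).symm
theorem F297055 : act 5 n34456 = n38269 := (sb E45492 (iv5 D83134))
theorem E49118 : n127836 = n16762 := (((D16762).symm.trans (sb E45493 F249300))).symm
theorem F297056 : act 5 n7832 = n16775 := (sb E45496 (iv5 D34618))
theorem F297057 : act 6 n33263 = n71888 := (sb E45501 (iv6 D152378))
theorem F297058 : act 5 n34511 = n75380 := (sb E45504 (iv5 D158232))
theorem E49126 : n73177 = n10446 := ((((iv3 F16639)).symm.trans (sb E45532 (iv3 F215724)))).symm
theorem E49127 : n39626 = n17988 := (((D17988).symm.trans (sb E45532 (iv6 D85794)))).symm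
theorem E49128 : n27442 = n3925 := ((((iv0 F117181)).symm.trans (sb E45533 (iv0 F120567)))).symm
theorem F297059 : act 3 n8481 = n8794 := (sb E45533 (iv3 D18762))
theorem E49129 : n18612 = n13277 := (((F117176).symm.trans (sb E45533 F29994))).symm
theorem E49130 : n57118 = n12559 := ((((iv3 F20916)).symm.trans (sb E45534 (iv3 F90165)))).symm
theorem E49132 : n55414 = n13059 := (((D13059).symm.trans (sb E45534 (iv6 F87712)))).symm
theorem E49133 : n162031 = n13208 := (((D13208).symm.trans (sb E45536 (iv6 F256057)))).symm
theorem E49134 : n37423 = n13209 := (((D13209).symm.trans (sb E45537 (iv1 D81812)))).symm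
theorem E49135 : n57231 = n13210 := (((D13210).symm.trans (sb E45537 F125752))).symm
theorem E49136 : n56897 = n13212 := (((D13212).symm.trans (sb E45537 F125753))).symm
theorem E49137 : n57300 = n56653 := (((D56653).symm.trans (sb E45539 F90990))).symm
theorem E49138 : n124106 = n56652 := ((((iv3 F89606)).symm.trans (sb E45539 D124106))).symm
theorem E49139 : n124107 = n56655 := (((D56655).symm.trans (sb E45539 D124107))).symm
theorem E49140 : n57539 = n18781 := ((((iv7 F117183)).symm.trans (sb E45539 F90989))).symm
theorem E49141 : n27620 = n13280 := (((D13280).symm.trans (sb E45540 D27620))).symm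
theorem E49142 : n27604 = n18784 := (((D18784).symm.trans (sb E45541 D27604))).symm
theorem F297060 : act 5 n8805 = n6269 := (sb E45541 (iv5 D13185))
theorem F297061 : act 3 n8804 = n18337 := (sb E45542 (iv3 F120581))
theorem F297062 : act 6 n8804 = n13156 := (sb E45542 (iv6 D27510))
theorem E49145 : n61805 = n8033 := (((D8033).symm.trans (sb E45545 (iv4 F96376)))).symm
theorem E49150 : n29760 = n17623 := (((D17623).symm.trans (sb E45558 (iv0 D62898)))).symm
theorem E49152 : n54608 = n17625 := (((D17625).symm.trans (sb E45558 F98118))).symm
theorem E49154 : n8317 = n8300 := (((D8300).symm.trans (sb E45560 F21665))).symm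
theorem E49155 : n35527 = n8051 := (((D8051).symm.trans (sb E45561 (iv6 F88780)))).symm
theorem E49157 : n19024 = n19021 := (((F91193).symm.trans (sb E45563 (iv1 D40269)))).symm
theorem E49158 : n27059 = n19019 := (((F91173).symm.trans (sb E45563 F91555))).symm
theorem E49160 : n35521 = n35384 := (((F118767).symm.trans (sb E45566 (iv0 D77838)))).symm
theorem E49165 : n124110 = n57972 := (((D57972).symm.trans (sb E45569 D124110))).symm
theorem E49166 : n57499 = n18788 := (((F91158).symm.trans (sb E45569 F133146))).symm
theorem E49167 : n120281 = n37454 := (((F91424).symm.trans (sb E45570 F191525))).symm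
theorem E49168 : n37458 = n27569 := (((iv4 F117236)).symm.trans (sb E45570 F90915))
theorem F297063 : act 6 n40053 = n27567 := (sb E45570 (iv6 D57739))
theorem F297064 : act 3 n40194 = n36363 := (sb E45571 (iv3 D79828))
theorem E49169 : n85791 = n37459 := ((((iv4 F117234)).symm.trans (sb E45571 F131576))).symm
theorem F297065 : act 5 n40194 = n39953 := (sb E45571 F122557)
theorem E49170 : n80388 = n80353 := ((((iv6 F123451)).symm.trans (sb E45571 F123534))).symm
theorem F297066 : act 6 n39707 = n27056 := (sb E45573 (iv6 D56125))
theorem E49171 : n73334 = n22132 := ((((iv1 F44593)).symm.trans (sb E45574 F242749))).symm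
theorem E49172 : n57967 = n57491 := ((D57967).symm.trans (sb E45574 (iv6 D123429)))
theorem E49173 : n57242 = n56630 := (((iv1 F90307)).symm.trans (sb E45576 F125961))
theorem E49174 : n18842 = n13154 := ((((iv0 D27497)).symm.trans (sb E45576 F125962))).symm
theorem F297067 : act 2 n27497 = n18569 := (sb E45576 F44597)
theorem F297068 : act 4 n27497 = n27225 := (sb E45576 F44598)
theorem E49175 : n57970 = n57493 := (((D57493).symm.trans (sb E45576 D57970))).symm
theorem F297069 : act 6 n27497 = n13205 := (sb E45576 (iv6 D27658))
theorem F297070 : act 1 n55354 = n27225 := (sb E45577 (iv0 D56620))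
theorem F297071 : act 2 n55354 = n35398 := (sb E45577 F126111)
theorem F297072 : act 0 n35104 = n27225 := (sb E45578 F126109)
theorem F297073 : act 3 n35104 = n18987 := (sb E45578 (iv3 D40210))
theorem F297074 : act 7 n35104 = n35398 := (sb E45578 F125911)
theorem E49177 : n122296 = n121527 := ((D122296).symm.trans (sb E45579 F197808))
theorem E49178 : n121526 = n78621 := ((((iv0 F123094)).symm.trans (sb E45579 (iv0 F197809)))).symm
theorem E49179 : n122297 = n120280 := ((D122297).symm.trans (sb E45579 F197807))
theorem F297075 : act 1 n55352 = n35398 := (sb E45580 F89551)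
theorem F297076 : act 7 n55352 = n27225 := (sb E45580 (iv7 D56623))
theorem E49180 : n36531 = n17147 := (((D17147).symm.trans (sb E45581 (iv1 F116256)))).symm
theorem E49181 : n17215 = n17149 := (((D17149).symm.trans (sb E45581 (iv5 D35539)))).symm
theorem E49184 : n177544 = n46697 := (((D46697).symm.trans (sb E45584 (iv0 F276985)))).symm
theorem E49185 : n123004 = n46698 := (((D46698).symm.trans (sb E45584 F197071))).symm
theorem E49187 : n120315 = n37542 := ((((iv4 F117323)).symm.trans (sb E45585 F196429))).symm
theorem E49188 : n161413 = n77336 := (((D77336).symm.trans (sb E45585 (iv5 F255261)))).symm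
theorem F297077 : act 6 n35305 = n56939 := (sb E45585 (iv6 D122614))
theorem E49189 : n120494 = n37543 := ((((iv4 F117322)).symm.trans (sb E45586 (iv4 F196754)))).symm
theorem E49190 : n121048 = n77338 := (((D77338).symm.trans (sb E45586 (iv5 F196755)))).symm
theorem E49191 : n121957 = n77339 := (((D77339).symm.trans (sb E45586 (iv6 F196750)))).symm
theorem F297078 : act 0 n35307 = n55343 := (sb E45587 (iv1 F120991))
theorem E49192 : n72302 = n22128 := (((F35064).symm.trans (sb E45589 F191663))).symm
theorem E49193 : n55563 = n55494 := (((iv1 F91398)).symm.trans (sb E45591 F192238))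
theorem E49194 : n55510 = n16840 := (((F91392).symm.trans (sb E45591 F192239))).symm
theorem E49195 : n123165 = n56719 := (((D56719).symm.trans (sb E45591 (iv5 F197385)))).symm
theorem E49197 : n166242 = n157851 := (((D157851).symm.trans (sb E45592 (iv6 F261735)))).symm
theorem F297079 : act 5 n35290 = n56939 := (sb E45593 F123210)
theorem F297080 : act 6 n35290 = n36535 := (sb E45593 (iv6 D80204))
theorem E49198 : n118587 = n8939 := (((F14157).symm.trans (sb E45595 D118587))).symm
theorem E49200 : n33459 = n10736 := ((((iv2 F17259)).symm.trans (sb E45595 (iv2 F190528)))).symm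
theorem E49202 : n118590 = n19345 := (((D19345).symm.trans (sb E45595 D118590))).symm
theorem E49205 : n57596 = n37544 := (((D37544).symm.trans (sb E45597 F120658))).symm
theorem E49206 : n84578 = n37545 := (((D37545).symm.trans (sb E45597 (iv7 F129741)))).symm
theorem E49218 : n123811 = n98072 := (((D98072).symm.trans (sb E45605 D123811))).symm
theorem E49219 : n123813 = n89240 := ((((iv7 F289530)).symm.trans (sb E45605 D123813))).symm
theorem E49221 : n27281 = n27265 := ((((iv1 F118896)).symm.trans (sb E45607 F121341))).symm
theorem F297081 : act 2 n21934 = n37416 := (sb E45607 (iv2 F121345))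
theorem E49222 : n120423 = n45858 := (((D45858).symm.trans (sb E45607 (iv5 F191847)))).symm
theorem F297082 : act 0 n17653 = n13097 := (sb E45608 (iv1 F121297))
theorem E49223 : n8316 = n8315 := ((((iv3 D17653)).symm.trans (sb E45608 (iv3 D17658)))).symm
theorem E49224 : n36633 = n36610 := (((D36610).symm.trans (sb E45608 D36633))).symm
theorem E49225 : n36634 = n36611 := (((D36611).symm.trans (sb E45608 D36634))).symm
theorem F297083 : act 7 n17653 = n36501 := (sb E45608 (iv7 F91329))
theorem F297084 : act 1 n21936 = n13097 := (sb E45609 (iv0 D27328))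
theorem F297085 : act 2 n21936 = n36501 := (sb E45609 (iv2 F121306))
theorem F297086 : act 3 n21936 = n36609 := (sb E45609 (iv3 F121445))
theorem E49227 : n55411 = n45867 := (((D45867).symm.trans (sb E45609 (iv4 F121441)))).symm
theorem E49228 : n56952 = n45868 := (((D45868).symm.trans (sb E45609 D56952))).symm
theorem E49229 : n56953 = n45869 := (((D45869).symm.trans (sb E45609 D56953))).symm
theorem E49230 : n81888 = n57254 := ((((iv6 F90314)).symm.trans (sb E45614 F258507))).symm
theorem E49231 : n163373 = n57926 := (((D57926).symm.trans (sb E45615 (iv3 F257663)))).symm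
theorem F297087 : act 6 n124230 = n86155 := (sb E45616 (iv6 D180394))
theorem E49232 : n36433 = n17167 := ((((iv6 F28114)).symm.trans (sb E45618 F122506))).symm
theorem F297088 : act 3 n17151 = n17334 := (sb E45619 (iv3 F125999))
theorem E49233 : n77938 = n35340 := (((D35340).symm.trans (sb E45619 D77938))).symm
theorem E49237 : n164048 = n55358 := (((D55358).symm.trans (sb E45622 D164048))).symm
theorem E49239 : n39831 = n27513 := ((((iv6 F44414)).symm.trans (sb E45622 F119960))).symm
theorem E49255 : n60411 = n13152 := (((D13152).symm.trans (sb E45654 (iv3 F94923)))).symm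
theorem E49258 : n125141 = n57352 := (((D57352).symm.trans (sb E45655 (iv6 F269003)))).symm
theorem E49259 : n18036 = n13117 := (((F44247).symm.trans (sb E45656 (iv0 D37607)))).symm
theorem E49262 : n27845 = n13189 := ((((iv0 F91147)).symm.trans (sb E45657 (iv0 D58521)))).symm
theorem E49263 : n76087 = n57355 := (((D57355).symm.trans (sb E45657 (iv5 F131795)))).symm
theorem E49264 : n57312 = n39733 := (((iv7 F91412)).symm.trans (sb E45657 (iv7 F131777)))
theorem E49265 : n85886 = n27436 := (((F70115).symm.trans (sb E45658 F132598))).symm
theorem F297090 : act 5 n44586 = n40053 := (sb E45658 (iv5 D86469))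
theorem E49266 : n80387 = n80352 := (((iv6 F123542)).symm.trans (sb E45658 F132596))
theorem E49268 : n27052 = n27037 := (((D27037).symm.trans (sb E45660 (iv6 D56108)))).symm
theorem E49269 : n27028 = n19037 := (((F125926).symm.trans (sb E45661 (iv1 F43676)))).symm
theorem E49270 : n27053 = n17238 := ((((iv5 F28193)).symm.trans (sb E45661 D27053))).symm
theorem E49271 : n27040 = n27026 := ((D27040).symm.trans (sb E45661 F91541))
theorem E49273 : n84636 = n57346 := (((D57346).symm.trans (sb E45673 (iv6 F269021)))).symm
theorem E49274 : n82079 = n56990 := (((D56990).symm.trans (sb E45674 D82079))).symm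
theorem E49275 : n56895 = n18575 := (((iv1 F126184)).symm.trans (sb E45675 F60093))
theorem E49276 : n84637 = n57349 := (((D57349).symm.trans (sb E45675 D84637))).symm
theorem E49277 : n57350 = n18573 := ((D57350).symm.trans (sb E45675 F91559))
theorem F297091 : act 1 n40093 = n27035 := (sb E45676 F126170)
theorem E49278 : n39145 = n27580 := ((F118086).symm.trans (sb E45676 F121799))
theorem E49279 : n121500 = n77967 := (((D77967).symm.trans (sb E45677 D121500))).symm
theorem E49280 : n121502 = n77966 := ((((iv4 F119178)).symm.trans (sb E45677 D121502))).symm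
theorem E49281 : n77969 = n77865 := ((D77969).symm.trans (sb E45677 F118758))
theorem F297092 : act 7 n39126 = n27035 := (sb E45678 (iv7 D56047))
theorem E49282 : n15689 = n13116 := (((D13116).symm.trans (sb E45679 (iv3 F25170)))).symm
theorem F297093 : act 6 n6244 = n3804 := (sb E45679 (iv6 D8510))
theorem E49283 : n82045 = n16200 := (((F44239).symm.trans (sb E45680 D82045))).symm
theorem E49284 : n46864 = n46861 := ((F74076).symm.trans (sb E45680 F285904))
theorem E49287 : n82049 = n56973 := (((D56973).symm.trans (sb E45680 D82049))).symm
theorem E49291 : n82055 = n56974 := (((D56974).symm.trans (sb E45681 D82055))).symm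
theorem E49292 : n76075 = n35123 := ((((iv1 F115381)).symm.trans (sb E45682 (iv1 F126473)))).symm
theorem E49293 : n76094 = n35128 := ((((iv0 F112810)).symm.trans (sb E45682 (iv0 F126472)))).symm
theorem E49294 : n82058 = n56977 := (((D56977).symm.trans (sb E45682 D82058))).symm
theorem E49297 : n162039 = n121026 := (((iv5 F256087)).symm.trans (sb E45683 (iv5 F192986)))
theorem E49298 : n166970 = n161504 := (((iv6 F262860)).symm.trans (sb E45683 (iv6 F255495)))
theorem E49299 : n36525 = n17130 := (((F91258).symm.trans (sb E45686 (iv1 F91385)))).symm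
theorem E49300 : n36530 = n17160 := (((D17160).symm.trans (sb E45686 (iv0 F91287)))).symm
theorem E49302 : n56963 = n21979 := ((D56963).symm.trans (sb E45687 F286781))
theorem E49303 : n56964 = n46726 := ((D56964).symm.trans (sb E45687 F286782))
theorem E49304 : n46724 = n38497 := ((((iv2 F59346)).symm.trans (sb E45687 F286921))).symm
theorem E49305 : n82064 = n56965 := (((D56965).symm.trans (sb E45687 D82064))).symm
theorem E49306 : n82065 = n56966 := (((D56966).symm.trans (sb E45687 D82065))).symm
theorem E49308 : n82069 = n56967 := (((D56967).symm.trans (sb E45688 D82069))).symm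
theorem E49309 : n55573 = n55372 := ((((iv1 F115447)).symm.trans (sb E45689 F126484))).symm
theorem E49310 : n76076 = n55377 := ((((iv0 F91391)).symm.trans (sb E45689 (iv0 F115589)))).symm
theorem E49311 : n56970 = n39716 := ((D56970).symm.trans (sb E45689 (iv5 F92419)))
theorem E49313 : n159167 = n26786 := (((F91405).symm.trans (sb E45690 (iv4 F250612)))).symm
theorem F297095 : act 5 n35347 = n36509 := (sb E45690 (iv5 D80161))
theorem E49314 : n121942 = n77419 := (((D77419).symm.trans (sb E45690 (iv6 F194668)))).symm
theorem E49315 : n170952 = n76808 := (((D76808).symm.trans (sb E45692 D170952))).symm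
theorem E49316 : n87973 = n76809 := (((D76809).symm.trans (sb E45692 (iv0 F191104)))).symm
theorem E49323 : n159182 = n76813 := (((D76813).symm.trans (sb E45694 D159182))).symm
theorem E49325 : n26779 = n19624 := ((D26779).symm.trans (sb E45695 (iv1 D41689)))
theorem E49326 : n88002 = n26780 := (((D26780).symm.trans (sb E45695 F135012))).symm
theorem E49327 : n88000 = n26781 := (((D26781).symm.trans (sb E45695 F286855))).symm
theorem E49329 : n89224 = n26782 := (((D26782).symm.trans (sb E45695 D89224))).symm
theorem E49330 : n89225 = n26783 := (((D26783).symm.trans (sb E45695 D89225))).symm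
theorem E49333 : n159169 = n26788 := (((D26788).symm.trans (sb E45697 D159169))).symm
theorem E49336 : n120388 = n88816 := ((D120388).symm.trans (sb E45698 F289333))
theorem F297096 : act 6 n55425 = n47001 := (sb E45700 (iv6 D100804))
theorem E49340 : n122440 = n56944 := (((D56944).symm.trans (sb E45702 (iv6 F195888)))).symm
theorem F297097 : act 5 n55428 = n86395 := (sb E45706 (iv5 D180885))
theorem E49346 : n86442 = n81775 := ((D86442).symm.trans (sb E45709 (iv1 F129637)))
theorem E49347 : n38977 = n38972 := (((F118776).symm.trans (sb E45709 (iv0 D84505)))).symm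
theorem E49350 : n168055 = n35688 := (((D35688).symm.trans (sb E45711 (iv5 F264871)))).symm
theorem F297098 : act 0 n40038 = n21553 := (sb E45713 F126049)
theorem E49352 : n95255 = n86446 := (((D86446).symm.trans (sb E45713 D95255))).symm
theorem E49353 : n179496 = n86459 := (((D86459).symm.trans (sb E45715 D179496))).symm
theorem E49355 : n179498 = n86458 := ((((iv2 F132578)).symm.trans (sb E45715 D179498))).symm
theorem E49356 : n179499 = n86461 := (((D86461).symm.trans (sb E45715 D179499))).symm
theorem E49357 : n86462 = n85618 := ((D86462).symm.trans (sb E45715 F131317))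
theorem E49360 : n86466 = n55596 := ((D86466).symm.trans (sb E45718 F131328))
theorem E49362 : n86468 = n75991 := ((D86468).symm.trans (sb E45718 F131326))
theorem F297099 : act 0 n39554 = n18971 := (sb E45719 (iv1 F60935))
theorem F297100 : act 2 n39554 = n18973 := (sb E45719 F60933)
theorem F297101 : act 4 n39554 = n18935 := (sb E45719 F60934)
theorem F297102 : act 7 n39554 = n18932 := (sb E45719 (iv7 D40051))
theorem F297103 : act 0 n40054 = n39576 := (sb E45720 (iv1 F125412))
theorem E49363 : n123926 = n86471 := (((D86471).symm.trans (sb E45720 (iv3 F198351)))).symm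
theorem F297104 : act 6 n40054 = n37232 := (sb E45720 (iv6 D81537))
theorem F297105 : act 1 n40057 = n39576 := (sb E45721 (iv0 D85651))
theorem E49369 : n165519 = n11193 := ((((iv2 F18155)).symm.trans (sb E45725 (iv2 F260766)))).symm
theorem E49371 : n36194 = n11197 := (((D11197).symm.trans (sb E45725 (iv6 D79496)))).symm
theorem E49374 : n36192 = n11198 := (((D11198).symm.trans (sb E45727 D36192))).symm
theorem E49378 : n26876 = n19040 := (((D19040).symm.trans (sb E45728 (iv6 F43335)))).symm
theorem F297106 : act 0 n3705 = n3973 := (sb E45729 (iv1 D8917))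
theorem F297107 : act 2 n3705 = n7611 := (sb E45729 F53057)
theorem E49380 : n36199 = n17353 := (((D17353).symm.trans (sb E45730 D36199))).symm
theorem E49385 : n165490 = n49009 := (((D49009).symm.trans (sb E45734 D165490))).symm
theorem E49386 : n58130 = n49010 := (((D49010).symm.trans (sb E45734 F122068))).symm
theorem E49388 : n160486 = n86671 := (((D86671).symm.trans (sb E45737 (iv1 F253512)))).symm
theorem E49389 : n165492 = n86672 := (((D86672).symm.trans (sb E45737 D165492))).symm
theorem F297108 : act 2 n40168 = n58127 := (sb E45737 F122069)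
theorem E49390 : n165493 = n86673 := (((D86673).symm.trans (sb E45737 D165493))).symm
theorem E49391 : n86664 = n58131 := (((iv7 F132907)).symm.trans (sb E45737 F122070))
theorem F297109 : act 1 n27710 = n57878 := (sb E45738 (iv0 F91610))
theorem F297110 : act 4 n27710 = n18985 := (sb E45738 F61058)
theorem F297111 : act 6 n27710 = n18973 := (sb E45738 (iv6 D40165))
theorem F297112 : act 7 n27710 = n18974 := (sb E45738 F61059)
theorem F297113 : act 0 n40206 = n27720 := (sb E45739 (iv1 F91956))
theorem F297114 : act 1 n40206 = n27715 := (sb E45739 (iv0 D58149))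
theorem E49392 : n124569 = n86706 := (((D86706).symm.trans (sb E45739 D124569))).symm
theorem E49393 : n124570 = n86707 := (((D86707).symm.trans (sb E45739 D124570))).symm
theorem F297115 : act 7 n40206 = n37189 := (sb E45739 (iv7 F120901))
theorem F297116 : act 0 n40211 = n27715 := (sb E45740 F120800)
theorem F297117 : act 1 n40211 = n27720 := (sb E45740 F120801)
theorem F297118 : act 2 n40211 = n37189 := (sb E45740 F69997)
theorem E49394 : n95233 = n86713 := (((D86713).symm.trans (sb E45740 (iv3 F146772)))).symm
theorem E49395 : n95234 = n86714 := (((D86714).symm.trans (sb E45740 D95234))).symm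
theorem F297119 : act 6 n40211 = n21156 := (sb E45740 (iv6 D44480))
theorem E49396 : n124585 = n78619 := (((D78619).symm.trans (sb E45741 (iv4 F199268)))).symm
theorem E49397 : n124586 = n78622 := (((D78622).symm.trans (sb E45742 (iv4 F199271)))).symm
theorem E49399 : n165499 = n78616 := (((D78616).symm.trans (sb E45743 D165499))).symm
theorem E49400 : n176982 = n167643 := (((D167643).symm.trans (sb E45749 (iv5 F276338)))).symm
theorem E49401 : n177256 = n167644 := (((D167644).symm.trans (sb E45749 (iv7 F276645)))).symm
theorem E49403 : n160340 = n84434 := ((D160340).symm.trans (sb E45752 (iv5 F149193)))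
theorem F297120 : act 6 n76854 = n45205 := (sb E45752 (iv6 D96739))
theorem E49404 : n167645 = n78251 := ((D167645).symm.trans (sb E45753 (iv3 F149270)))
theorem E49405 : n162891 = n84435 := (((iv5 F257199)).symm.trans (sb E45753 F149269))
theorem E49406 : n121935 = n75998 := (((iv6 F194638)).symm.trans (sb E45753 (iv6 F149267)))
theorem E49407 : n167647 = n38941 := ((D167647).symm.trans (sb E45754 F129414))
theorem E49408 : n176983 = n167648 := (((D167648).symm.trans (sb E45754 D176983))).symm
theorem E49409 : n167649 = n38938 := ((D167649).symm.trans (sb E45754 (iv7 F129424)))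
theorem E49410 : n167650 = n162782 := ((D167650).symm.trans (sb E45756 F257056))
theorem E49411 : n170133 = n167651 := (((D167651).symm.trans (sb E45756 D170133))).symm
theorem F297123 : act 6 n80459 = n37276 := (sb E45756 (iv6 D81593))
theorem E49412 : n176996 = n162900 := ((((iv4 F257215)).symm.trans (sb E45757 (iv4 F276375)))).symm
theorem E49414 : n159113 = n121941 := ((((iv6 F194665)).symm.trans (sb E45758 F276799))).symm
theorem F297125 : act 2 n78211 = n36698 := (sb E45759 (iv2 F119538))
theorem F297126 : act 5 n78211 = n36683 := (sb E45759 F119537)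
theorem F297127 : act 6 n78211 = n35789 := (sb E45759 (iv6 F119541))
theorem F297128 : act 7 n78211 = n36693 := (sb E45759 F119539)
theorem E49415 : n70763 = n11186 := (((F43060).symm.trans (sb E45761 F286873))).symm
theorem E49422 : n161278 = n12828 := ((((iv1 F30449)).symm.trans (sb E45763 (iv1 F255096)))).symm
theorem E49423 : n79174 = n12833 := ((((iv0 F30439)).symm.trans (sb E45763 F124056))).symm
theorem F297129 : act 3 n8015 = n17107 := (sb E45765 F55982)
theorem E49428 : n77219 = n7843 := (((F28979).symm.trans (sb E45765 (iv4 F115981)))).symm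
theorem E49432 : n125236 = n70766 := (((D70766).symm.trans (sb E45771 (iv5 F201378)))).symm
theorem F297130 : act 1 n34733 = n17125 := (sb E45774 (iv0 D35280))
theorem E49435 : n77290 = n76011 := (((D76011).symm.trans (sb E45774 D77290))).symm
theorem E49437 : n77292 = n76013 := (((D76013).symm.trans (sb E45774 D77292))).symm
theorem F297133 : act 2 n35281 = n55600 := (sb E45775 F149062)
theorem F297134 : act 6 n35281 = n45173 := (sb E45775 (iv6 D96703))
theorem E49440 : n77299 = n39551 := ((D77299).symm.trans (sb E45776 F131240))
theorem F297136 : act 0 n35283 = n55600 := (sb E45777 (iv1 F131250))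
theorem E49443 : n170200 = n77316 := (((D77316).symm.trans (sb E45780 (iv3 F267719)))).symm
theorem F297138 : act 6 n35291 = n37302 := (sb E45780 (iv6 D81628))
theorem E49445 : n159970 = n70355 := (((iv3 F252329)).symm.trans (sb E45781 F125527))
theorem E49446 : n170164 = n119402 := ((((iv5 F188133)).symm.trans (sb E45781 D170164))).symm
theorem E49447 : n170142 = n37297 := ((D170142).symm.trans (sb E45781 (iv6 D81614)))
theorem E49448 : n170146 = n155177 := ((D170146).symm.trans (sb E45782 (iv0 F276838)))
theorem E49449 : n170147 = n163215 := ((D170147).symm.trans (sb E45782 F276836))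
theorem E49450 : n170153 = n84468 := ((D170153).symm.trans (sb E45783 F267232))
theorem E49451 : n170154 = n84460 := ((D170154).symm.trans (sb E45783 (iv4 F267235)))
theorem E49452 : n148907 = n32421 := ((((iv3 D69811)).symm.trans (sb E45785 (iv3 F233976)))).symm
theorem E49453 : n83604 = n71959 := ((((iv4 F108457)).symm.trans (sb E45785 (iv4 F128684)))).symm
theorem E49454 : n170086 = n57471 := (((F106242).symm.trans (sb E45785 D170086))).symm
theorem F297140 : act 6 n69811 = n37268 := (sb E45785 (iv6 D81575))
theorem E49458 : n34566 = n29761 := (((iv1 F54831)).symm.trans (sb E45790 (iv1 F47863)))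
theorem E49459 : n34532 = n13918 := (((iv0 F54776)).symm.trans (sb E45790 (iv0 D29289)))
theorem E49460 : n29758 = n10534 := ((((iv2 D22101)).symm.trans (sb E45790 F47850))).symm
theorem F297145 : act 4 n22101 = n15993 := (sb E45790 F46931)
theorem E49463 : n61800 = n46185 := (((D46185).symm.trans (sb E45790 D61800))).symm
theorem E49464 : n29759 = n17185 := (((F34582).symm.trans (sb E45790 (iv7 F47854)))).symm
theorem E49466 : n170554 = n79394 := (((D79394).symm.trans (sb E45791 D170554))).symm
theorem F297146 : act 0 n17946 = n36758 := (sb E45792 (iv1 F118860))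
theorem F297147 : act 1 n17946 = n18910 := (sb E45792 (iv0 D39985))
theorem E49469 : n86378 = n37395 := (((D37395).symm.trans (sb E45792 D86378))).symm
theorem E49471 : n86380 = n37397 := (((D37397).symm.trans (sb E45792 D86380))).symm
theorem F297148 : act 0 n17941 = n18910 := (sb E45793 (iv1 D39986))
theorem F297149 : act 1 n17941 = n36758 := (sb E45793 (iv0 F118859))
theorem E49472 : n86381 = n37375 := (((D37375).symm.trans (sb E45793 D86381))).symm
theorem E49474 : n86383 = n37377 := (((D37377).symm.trans (sb E45793 D86383))).symm
theorem E49475 : n86384 = n81796 := ((D86384).symm.trans (sb E45794 (iv1 F125723)))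
theorem E49476 : n86385 = n81774 := ((D86385).symm.trans (sb E45794 (iv0 F125720)))
theorem E49477 : n170557 = n86386 := (((D86386).symm.trans (sb E45794 D170557))).symm
theorem E49479 : n86388 = n81555 := (((D81555).symm.trans (sb E45795 D86388))).symm
theorem F297150 : act 4 n37250 = n18911 := (sb E45795 (iv4 D39991))
theorem E49480 : n86389 = n81556 := (((D81556).symm.trans (sb E45795 D86389))).symm
theorem E49481 : n86390 = n75995 := ((((iv6 F148170)).symm.trans (sb E45795 D86390))).symm
theorem E49482 : n86391 = n38932 := ((D86391).symm.trans (sb E45796 F129575))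
theorem F297151 : act 6 n39992 = n38930 := (sb E45796 (iv6 D84433))
theorem F297152 : act 1 n3743 = n6176 := (sb E45798 (iv0 D12996))
theorem F297153 : act 0 n17725 = n17938 := (sb E45799 F58197)
theorem F297154 : act 1 n17725 = n17904 := (sb E45799 (iv0 D37249))
theorem F297155 : act 2 n17725 = n17935 := (sb E45799 F89179)
theorem E49486 : n81552 = n36766 := (((D36766).symm.trans (sb E45799 D81552))).symm
theorem E49487 : n81553 = n36767 := (((D36767).symm.trans (sb E45799 D81553))).symm
theorem E49488 : n81554 = n36768 := (((D36768).symm.trans (sb E45799 D81554))).symm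
theorem F297156 : act 7 n17725 = n17936 := (sb E45799 F89180)
theorem E49489 : n85650 = n36771 := (((D36771).symm.trans (sb E45800 (iv4 F131356)))).symm
theorem F297157 : act 0 n12949 = n8060 := (sb E45806 F125916)
theorem F297158 : act 3 n12949 = n7611 := (sb E45806 (iv3 D16412))
theorem E49490 : n35530 = n8070 := (((D8070).symm.trans (sb E45807 F116188))).symm
theorem E49494 : n83323 = n18381 := (((D18381).symm.trans (sb E45808 (iv6 D174334)))).symm
theorem E49496 : n83304 = n35404 := (((D35404).symm.trans (sb E45810 (iv1 F128389)))).symm
theorem E49497 : n83324 = n35406 := (((D35406).symm.trans (sb E45810 D83324))).symm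
theorem E49498 : n35407 = n27057 := ((D35407).symm.trans (sb E45810 F118567))
theorem F297159 : act 1 n12964 = n8060 := (sb E45811 (iv0 D17177))
theorem E49500 : n36330 = n35418 := (((D35418).symm.trans (sb E45812 F91297))).symm
theorem E49502 : n121404 = n35420 := (((D35420).symm.trans (sb E45812 D121404))).symm
theorem E49503 : n35421 = n27058 := ((D35421).symm.trans (sb E45812 F91548))
theorem F297160 : act 7 n12962 = n8060 := (sb E45813 (iv7 D17180))
theorem E49504 : n39096 = n27579 := (((iv0 F118547)).symm.trans (sb E45818 F89930))
theorem E49507 : n81811 = n27667 := (((F118769).symm.trans (sb E45820 (iv1 D170673)))).symm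
theorem E49508 : n123009 = n27672 := (((F118770).symm.trans (sb E45820 F268156))).symm
theorem E49509 : n160278 = n88641 := (((D88641).symm.trans (sb E45820 F268160))).symm
theorem E49512 : n121548 = n35498 := (((D35498).symm.trans (sb E45821 (iv5 F193946)))).symm
theorem E49513 : n57954 = n57383 := ((F118764).symm.trans (sb E45822 (iv4 F121524)))
theorem E49515 : n57901 = n15380 := (((D15380).symm.trans (sb E45824 (iv6 D124199)))).symm
theorem E49518 : n122655 = n57955 := (((D57955).symm.trans (sb E45827 F253191))).symm
theorem E49519 : n57956 = n57886 := ((D57956).symm.trans (sb E45827 F253192))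
theorem E49522 : n57121 = n18033 := (((D18033).symm.trans (sb E45828 (iv6 F90166)))).symm
theorem F297161 : act 1 n27500 = n18569 := (sb E45833 F125917)
theorem E49523 : n57485 = n49024 := (((iv3 F90656)).symm.trans (sb E45833 (iv3 F77367)))
theorem E49524 : n58642 = n57503 := ((((iv5 F90661)).symm.trans (sb E45833 D58642))).symm
theorem F297162 : act 0 n27418 = n18569 := (sb E45834 F125918)
theorem E49526 : n81885 = n57237 := ((((iv3 F90297)).symm.trans (sb E45834 D81885))).symm
theorem E49528 : n57496 = n22007 := (((D22007).symm.trans (sb E45835 F197137))).symm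
theorem E49529 : n160371 = n84671 := (((D84671).symm.trans (sb E45836 (iv1 F253318)))).symm
theorem E49530 : n84674 = n57498 := ((D84674).symm.trans (sb E45836 F197140))
theorem F297163 : act 7 n27498 = n18569 := (sb E45837 (iv7 D39113))
theorem E49531 : n123069 = n122298 := (((D122298).symm.trans (sb E45838 (iv3 F197246)))).symm
theorem E49532 : n123076 = n122299 := (((D122299).symm.trans (sb E45838 (iv5 F197263)))).symm
theorem E49533 : n122300 = n27525 := ((D122300).symm.trans (sb E45838 F90351))
theorem E49534 : n161500 = n123478 := ((D161500).symm.trans (sb E45839 F198713))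
theorem F297164 : act 7 n77531 = n57920 := (sb E45839 (iv7 D124229))
theorem E49535 : n101460 = n27531 := ((((iv3 F44422)).symm.trans (sb E45841 (iv3 F184667)))).symm
theorem E49537 : n123465 = n122315 := ((((iv4 F195580)).symm.trans (sb E45842 F197862))).symm
theorem E49539 : n84823 = n81890 := ((((iv0 F125909)).symm.trans (sb E45843 (iv0 D178209)))).symm
theorem E49540 : n121528 = n86083 := ((((iv7 F132043)).symm.trans (sb E45843 (iv7 F277761)))).symm
theorem F297167 : act 7 n56124 = n35400 := (sb E45844 (iv7 D77541))
theorem E49541 : n56988 = n56667 := (((D56667).symm.trans (sb E45845 F191643))).symm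
theorem E49542 : n57010 = n56669 := (((D56669).symm.trans (sb E45846 (iv5 F90078)))).symm
theorem E49544 : n57116 = n15687 := (((D15687).symm.trans (sb E45847 D57116))).symm
theorem E49546 : n71714 = n19278 := ((((iv3 F35075)).symm.trans (sb E45848 F196864))).symm
theorem E49547 : n150199 = n46862 := (((D46862).symm.trans (sb E45848 (iv4 F236383)))).symm
theorem E49548 : n72652 = n46863 := (((D46863).symm.trans (sb E45848 (iv6 F196865)))).symm
theorem E49549 : n72448 = n46859 := (((D46859).symm.trans (sb E45849 F154478))).symm
theorem E49551 : n154658 = n10687 := ((((iv1 F34696)).symm.trans (sb E45851 F242808))).symm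
theorem E49552 : n123291 = n82020 := (((D82020).symm.trans (sb E45852 (iv5 F197582)))).symm
theorem E49556 : n162028 = n81986 := (((D81986).symm.trans (sb E45857 (iv5 F256050)))).symm
theorem E49557 : n55514 = n16857 := ((((iv4 D34794)).symm.trans (sb E45858 F192033))).symm
theorem E49558 : n162027 = n76169 := (((D76169).symm.trans (sb E45858 (iv5 F256044)))).symm
theorem E49560 : n82022 = n27467 := ((D82022).symm.trans (sb E45859 (iv1 D57385)))
theorem E49561 : n123006 = n82023 := (((D82023).symm.trans (sb E45859 F197077))).symm
theorem E49562 : n123292 = n82024 := (((D82024).symm.trans (sb E45859 D123292))).symm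
theorem F297168 : act 1 n55468 = n27252 := (sb E45861 (iv0 D56700))
theorem E49564 : n120489 = n47007 := (((iv3 F191930)).symm.trans (sb E45861 F155500))
theorem F297169 : act 4 n55468 = n45849 := (sb E45861 F117589)
theorem E49565 : n122378 = n120493 := (((D120493).symm.trans (sb E45861 D122378))).symm
theorem E49567 : n167711 = n120261 := ((((iv0 F191475)).symm.trans (sb E45862 F264002))).symm
theorem E49568 : n178120 = n123309 := ((((iv4 F197603)).symm.trans (sb E45862 (iv4 F277671)))).symm
theorem F297170 : act 5 n77835 = n45849 := (sb E45862 (iv5 D98155))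
theorem E49569 : n123305 = n122381 := (((D122381).symm.trans (sb E45863 F276987))).symm
theorem E49570 : n122382 = n120483 := ((D122382).symm.trans (sb E45863 F276989))
theorem F297171 : act 3 n77834 = n36698 := (sb E45864 F123707)
theorem E49571 : n167712 = n123310 := ((((iv4 F197609)).symm.trans (sb E45864 D167712))).symm
theorem F297172 : act 5 n77834 = n36696 := (sb E45864 (iv5 D80481))
theorem E49573 : n122391 = n84575 := (((iv4 F195825)).symm.trans (sb E45866 (iv4 F191487)))
theorem F297174 : act 6 n79971 = n163937 := (sb E45866 (iv6 F258385))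
theorem F297175 : act 7 n79971 = n55343 := (sb E45866 (iv7 D120263))
theorem E49574 : n123016 = n76189 := ((F197119).symm.trans (sb E45867 (iv0 F132337)))
theorem E49575 : n180783 = n123332 := (((D123332).symm.trans (sb E45867 (iv3 F281408)))).symm
theorem F297176 : act 4 n57437 = n45851 := (sb E45867 F132336)
theorem E49576 : n180784 = n123333 := (((D123333).symm.trans (sb E45867 D180784))).symm
theorem E49577 : n160497 = n123013 := ((((iv7 F197113)).symm.trans (sb E45867 (iv7 F253535)))).symm
theorem F297177 : act 1 n98157 = n55343 := (sb E45868 (iv0 D120262))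
theorem E49579 : n122072 = n16732 := (((F28670).symm.trans (sb E45869 D122072))).symm
theorem E49585 : n122078 = n36518 := (((D36518).symm.trans (sb E45871 D122078))).symm
theorem E49586 : n75748 = n36519 := (((D36519).symm.trans (sb E45871 F133162))).symm
theorem F297178 : act 3 n17627 = n17132 := (sb E45872 F56014)
theorem E49589 : n36626 = n36526 := (((D36526).symm.trans (sb E45872 F91256))).symm
theorem E49592 : n161579 = n55569 := (((D55569).symm.trans (sb E45882 (iv5 F255581)))).symm
theorem E49593 : n81815 = n55570 := (((D55570).symm.trans (sb E45882 F191615))).symm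
theorem E49595 : n160354 = n76074 := (((D76074).symm.trans (sb E45883 D160354))).symm
theorem E49596 : n58524 = n27618 := (((iv1 F92450)).symm.trans (sb E45884 (iv1 F90978)))
theorem E49597 : n82026 = n27599 := ((D82026).symm.trans (sb E45884 (iv0 D57820)))
theorem E49598 : n124091 = n82027 := (((D82027).symm.trans (sb E45884 D124091))).symm
theorem E49600 : n123987 = n122355 := (((D122355).symm.trans (sb E45886 (iv3 F198394)))).symm
theorem E49601 : n122356 = n27575 := ((D122356).symm.trans (sb E45886 (iv5 D57765)))
theorem E49602 : n122756 = n122357 := (((D122357).symm.trans (sb E45886 F196627))).symm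
theorem E49603 : n166984 = n166971 := ((F262921).symm.trans (sb E45887 F262870))
theorem E49604 : n124001 = n122358 := (((D122358).symm.trans (sb E45888 (iv3 F198405)))).symm
theorem E49605 : n122359 = n27576 := ((D122359).symm.trans (sb E45888 (iv5 D57770)))
theorem E49609 : n171747 = n46641 := (((D46641).symm.trans (sb E45891 D171747))).symm
theorem E49611 : n171744 = n46640 := (((D46640).symm.trans (sb E45892 D171744))).symm
theorem E49612 : n122383 = n57263 := ((D122383).symm.trans (sb E45893 (iv1 D123057)))
theorem E49613 : n122384 = n57598 := ((D122384).symm.trans (sb E45893 F197222))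
theorem E49614 : n122386 = n57595 := ((D122386).symm.trans (sb E45893 F197223))
theorem E49616 : n28525 = n19623 := (((D19623).symm.trans (sb E45895 F87730))).symm
theorem E49617 : n120425 = n4174 := ((((iv5 D9226)).symm.trans (sb E45895 D120425))).symm
theorem E49619 : n81009 = n17682 := (((F30585).symm.trans (sb E45896 (iv4 F124766)))).symm
theorem E49621 : n118936 = n40317 := (((D40317).symm.trans (sb E45896 F191292))).symm
theorem E49622 : n33157 = n18949 := ((((iv4 F30261)).symm.trans (sb E45897 (iv4 D71717)))).symm
theorem E49624 : n152099 = n19336 := (((D19336).symm.trans (sb E45897 D152099))).symm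
theorem E49625 : n36875 = n7541 := (((F190506).symm.trans (sb E45898 D36875))).symm
theorem E49626 : n36876 = n33156 := (((D33156).symm.trans (sb E45898 D36876))).symm
theorem F297179 : act 4 n15989 = n10643 := (sb E45898 F28900)
theorem E49627 : n33159 = n18928 := ((D33159).symm.trans (sb E45898 (iv5 F30219)))
theorem E49628 : n36877 = n33160 := (((D33160).symm.trans (sb E45898 D36877))).symm
theorem E49633 : n123762 = n46645 := (((D46645).symm.trans (sb E45900 (iv1 F198245)))).symm
theorem E49634 : n123767 = n46646 := (((D46646).symm.trans (sb E45900 (iv0 F234032)))).symm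
theorem E49635 : n152106 = n46647 := (((D46647).symm.trans (sb E45900 D152106))).symm
theorem E49645 : n122361 = n57303 := ((D122361).symm.trans (sb E45903 (iv1 F126762)))
theorem E49646 : n122362 = n57299 := ((D122362).symm.trans (sb E45903 F126761))
theorem E49647 : n171757 = n122363 := (((D122363).symm.trans (sb E45903 D171757))).symm
theorem E49648 : n120621 = n57741 := (((iv7 F192218)).symm.trans (sb E45903 F126760))
theorem E49649 : n76681 = n47081 := (((F143058).symm.trans (sb E45905 (iv1 D160111)))).symm
theorem E49653 : n171015 = n170645 := (((D170645).symm.trans (sb E45906 (iv2 F268713)))).symm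
theorem F297180 : act 4 n81798 = n45777 := (sb E45906 F126391)
theorem F297181 : act 6 n81798 = n37539 := (sb E45906 (iv6 D81972))
theorem E49655 : n122352 = n120385 := (((D120385).symm.trans (sb E45907 D122352))).symm
theorem E49656 : n122353 = n120386 := (((D120386).symm.trans (sb E45907 D122353))).symm
theorem E49657 : n120387 = n84790 := ((D120387).symm.trans (sb E45907 (iv6 F130003)))
theorem E49659 : n122354 = n37418 := (((D37418).symm.trans (sb E45908 D122354))).symm
theorem E49661 : n171019 = n120421 := ((((iv1 F191843)).symm.trans (sb E45909 D171019))).symm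
theorem E49663 : n171020 = n170647 := (((D170647).symm.trans (sb E45909 D171020))).symm
theorem E49664 : n170648 = n98069 := ((D170648).symm.trans (sb E45909 (iv6 F151221)))
theorem E49665 : n57003 = n56726 := (((D56726).symm.trans (sb E45910 D57003))).symm
theorem E49666 : n57005 = n56728 := (((D56728).symm.trans (sb E45910 D57005))).symm
theorem E49668 : n77792 = n57755 := (((iv1 F123430)).symm.trans (sb E45911 F123518))
theorem E49669 : n122741 = n39719 := (((F123427).symm.trans (sb E45911 (iv4 F196599)))).symm
theorem E49670 : n167501 = n102781 := (((F158033).symm.trans (sb E45912 D167501))).symm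
theorem E49671 : n36507 = n36502 := (((D36502).symm.trans (sb E45913 D36507))).symm
theorem E49672 : n36503 = n17208 := ((D36503).symm.trans (sb E45913 (iv5 F28655)))
theorem E49674 : n56998 = n56731 := (((D56731).symm.trans (sb E45914 D56998))).symm
theorem F297182 : act 4 n27260 = n36501 := (sb E45914 (iv4 F121435))
theorem E49675 : n57000 = n56732 := (((D56732).symm.trans (sb E45914 D57000))).symm
theorem E49676 : n57001 = n56733 := (((D56733).symm.trans (sb E45914 D57001))).symm
theorem E49677 : n122737 = n39720 := (((F91576).symm.trans (sb E45915 (iv4 F196585)))).symm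
theorem F297183 : act 5 n35499 = n36501 := (sb E45915 (iv5 D80147))
theorem E49679 : n84774 = n18872 := (((D18872).symm.trans (sb E45927 (iv0 F270823)))).symm
theorem E49682 : n128064 = n38273 := (((D38273).symm.trans (sb E45935 (iv1 F240558)))).symm
theorem E49683 : n128247 = n38274 := (((D38274).symm.trans (sb E45935 (iv0 F240559)))).symm
theorem E49684 : n128122 = n38275 := (((D38275).symm.trans (sb E45935 (iv2 F206199)))).symm
theorem E49685 : n38276 = n32521 := ((D38276).symm.trans (sb E45935 (iv6 D70085)))
theorem F297184 : act 4 n18281 = n12972 := (sb E45936 (iv4 D27080))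
theorem E49686 : n56195 = n38279 := (((D38279).symm.trans (sb E45936 D56195))).symm
theorem F297185 : act 5 n34592 = n17667 := (sb E45940 (iv5 D36661))
theorem E49687 : n79821 = n75646 := (((D75646).symm.trans (sb E45940 (iv6 F122548)))).symm
theorem F297186 : act 0 n36365 = n21943 := (sb E45941 (iv1 F57779))
theorem F297187 : act 1 n36365 = n21942 := (sb E45941 F57780)
theorem F297188 : act 2 n36365 = n21944 := (sb E45941 F57774)
theorem F297189 : act 6 n36365 = n21950 := (sb E45941 F57777)
theorem F297190 : act 7 n36365 = n17754 := (sb E45941 (iv7 D36844))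
theorem E49689 : n153337 = n75523 := (((D75523).symm.trans (sb E45942 F262531))).symm
theorem E49691 : n153353 = n21951 := (((F54807).symm.trans (sb E45944 F262529))).symm
theorem E49693 : n80492 = n21954 := (((D21954).symm.trans (sb E45946 F195172))).symm
theorem E49715 : n159273 = n55807 := (((D55807).symm.trans (sb E45958 (iv6 F250759)))).symm
theorem F297191 : act 0 n26929 = n35857 := (sb E45959 (iv1 F119906))
theorem E49724 : n159263 = n55661 := (((D55661).symm.trans (sb E45962 (iv3 F250751)))).symm
theorem E49725 : n78805 = n55662 := (((D55662).symm.trans (sb E45962 (iv5 F119957)))).symm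
theorem E49726 : n55658 = n34804 := (((iv6 F88053)).symm.trans (sb E45962 (iv6 D76197)))
theorem F297192 : act 2 n17590 = n12877 := (sb E45963 F43330)
theorem F297193 : act 6 n17590 = n12865 := (sb E45963 F43332)
theorem F297194 : act 1 n8240 = n17370 := (sb E45964 F61341)
theorem E49727 : n78520 = n17520 := (((D17520).symm.trans (sb E45964 D78520))).symm
theorem E49728 : n78521 = n17521 := (((D17521).symm.trans (sb E45964 D78521))).symm
theorem E49729 : n40295 = n17500 := ((((iv6 F28481)).symm.trans (sb E45964 (iv6 F61336)))).symm
theorem E49730 : n17499 = n17290 := ((D17499).symm.trans (sb E45965 (iv0 F30549)))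
theorem F297195 : act 2 n8228 = n16413 := (sb E45965 F53112)
theorem E49731 : n17501 = n16393 := ((D17501).symm.trans (sb E45965 (iv7 F53111)))
theorem F297196 : act 1 n35775 = n17518 := (sb E45966 F56827)
theorem F297197 : act 2 n35775 = n17522 := (sb E45966 F56824)
theorem E49732 : n79272 = n78529 := (((D78529).symm.trans (sb E45966 (iv3 F121646)))).symm
theorem E49733 : n78530 = n56174 := ((D78530).symm.trans (sb E45966 (iv5 F88851)))
theorem F297198 : act 7 n35775 = n17457 := (sb E45966 (iv7 D36085))
theorem E49735 : n55857 = n55758 := ((F88349).symm.trans (sb E45967 F88194))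
theorem F297200 : act 5 n35777 = n36246 := (sb E45967 (iv5 F56971))
theorem E49737 : n79645 = n78502 := (((D78502).symm.trans (sb E45968 D79645))).symm
theorem E49738 : n79646 = n78503 := (((D78503).symm.trans (sb E45968 D79646))).symm
theorem E49739 : n79647 = n78501 := ((((iv2 F119688)).symm.trans (sb E45968 D79647))).symm
theorem F297201 : act 4 n35766 = n75303 := (sb E45968 (iv4 F112906))
theorem E49741 : n78505 = n55788 := ((D78505).symm.trans (sb E45968 (iv7 F88240)))
theorem F297204 : act 0 n26922 = n35882 := (sb E45970 (iv1 F67512))
theorem F297205 : act 1 n26922 = n35879 := (sb E45970 (iv0 F67520))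
theorem E49744 : n55911 = n55790 := (((D55790).symm.trans (sb E45970 (iv6 F88460)))).symm
theorem F297206 : act 7 n26922 = n17332 := (sb E45970 (iv7 D35770))
theorem F297207 : act 2 n26923 = n17346 := (sb E45971 F43520)
theorem F297208 : act 7 n26923 = n12905 := (sb E45971 (iv7 D26969))
theorem F297209 : act 0 n88665 = n77179 := (sb E45976 (iv1 D160823))
theorem E49757 : n186092 = n80002 := ((D186092).symm.trans (sb E45976 (iv5 F253988)))
theorem F297211 : act 0 n78742 = n41399 := (sb E45977 (iv1 D88666))
theorem E49758 : n163910 = n84287 := ((D163910).symm.trans (sb E45977 (iv4 F250029)))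
theorem E49760 : n167075 = n166853 := ((((iv3 F262611)).symm.trans (sb E45978 (iv3 F263146)))).symm
theorem F297215 : act 5 n88658 = n78109 := (sb E45978 F253805)
theorem E49762 : n102782 = n78097 := ((D102782).symm.trans (sb E45980 F193718))
theorem E49763 : n172206 = n58246 := ((((iv0 F118514)).symm.trans (sb E45983 (iv0 F270399)))).symm
theorem E49764 : n83456 = n78108 := (((iv7 F128558)).symm.trans (sb E45983 F256776))
theorem F297216 : act 6 n47671 = n78463 := (sb E45984 F244338)
theorem F297217 : act 0 n35655 = n22948 := (sb E45985 F118978)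
theorem F297218 : act 1 n35655 = n41439 := (sb E45985 F118979)
theorem F297219 : act 2 n35655 = n41437 := (sb E45985 (iv2 F118951))
theorem E49766 : n78219 = n38481 := (((iv4 F119414)).symm.trans (sb E45985 F118980))
theorem F297220 : act 7 n35655 = n41436 := (sb E45985 (iv7 F118952))
theorem F297221 : act 0 n35617 = n41437 := (sb E45986 (iv1 F74952))
theorem F297222 : act 1 n35617 = n41436 := (sb E45986 F74953)
theorem F297223 : act 2 n35617 = n41439 := (sb E45986 F74949)
theorem F297224 : act 7 n35617 = n22948 := (sb E45986 (iv7 D47673))
theorem F297225 : act 0 n47686 = n78109 := (sb E45990 F193060)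
theorem F297226 : act 5 n47686 = n55852 := (sb E45990 (iv5 D121057))
theorem E49768 : n55855 = n41389 := (((F74970).symm.trans (sb E45990 F193058))).symm
theorem F297227 : act 7 n47686 = n56239 := (sb E45990 F193059)
theorem F297228 : act 1 n47687 = n78109 := (sb E45991 (iv0 F194236))
theorem F297229 : act 2 n47687 = n56239 := (sb E45991 F194232)
theorem F297230 : act 3 n47687 = n79863 := (sb E45991 F194233)
theorem F297231 : act 5 n47687 = n78463 := (sb E45991 F194235)
theorem F297232 : act 6 n47687 = n56237 := (sb E45991 (iv6 D121702))
theorem F297233 : act 0 n47688 = n56239 := (sb E45992 (iv1 D121707))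
theorem F297234 : act 2 n47688 = n78109 := (sb E45992 F194248)
theorem F297235 : act 5 n47688 = n77179 := (sb E45992 (iv5 F194247))
theorem F297236 : act 6 n158102 = n78473 := (sb E46001 (iv6 D163279))
theorem F297237 : act 5 n158067 = n78477 := (sb E46007 (iv5 D163290))
theorem F297238 : act 7 n84252 = n55900 := (sb E46009 (iv7 D121149))
theorem E49770 : n121683 = n36257 := (((D36257).symm.trans (sb E46010 (iv3 F194191)))).symm
theorem E49772 : n36137 = n27085 := (((iv6 F56872)).symm.trans (sb E46010 (iv6 D56209)))
theorem E49773 : n35628 = n27083 := (((D27083).symm.trans (sb E46011 (iv1 F88090)))).symm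
theorem E49774 : n36136 = n27084 := (((D27084).symm.trans (sb E46011 D36136))).symm
theorem F297239 : act 6 n12974 = n8236 := (sb E46011 F28468)
theorem E49776 : n121669 = n82414 := ((D121669).symm.trans (sb E46012 (iv1 F126965)))
theorem E49777 : n121670 = n75736 := ((D121670).symm.trans (sb E46012 F121910))
theorem E49778 : n165095 = n121671 := (((D121671).symm.trans (sb E46012 D165095))).symm
theorem E49779 : n165096 = n121672 := (((D121672).symm.trans (sb E46012 D165096))).symm
theorem F297240 : act 6 n56199 = n36255 := (sb E46012 F121909)
theorem E49781 : n121667 = n38849 := ((D121667).symm.trans (sb E46013 (iv4 F126931)))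
theorem F297241 : act 3 n56198 = n77311 := (sb E46014 F121711)
theorem E49782 : n121668 = n38850 := ((D121668).symm.trans (sb E46014 F121713))
theorem E49783 : n186080 = n173848 := (((D173848).symm.trans (sb E46016 D186080))).symm
theorem F297242 : act 4 n83139 = n41372 := (sb E46016 (iv4 D88638))
theorem E49784 : n186081 = n173849 := (((D173849).symm.trans (sb E46016 D186081))).symm
theorem F297243 : act 6 n83139 = n41374 := (sb E46016 F135883)
theorem F297246 : act 6 n158074 = n78741 := (sb E46018 (iv6 D163908))
theorem E49786 : n176803 = n160876 := (((D160876).symm.trans (sb E46020 F288806))).symm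
theorem F297247 : act 5 n77202 = n92311 := (sb E46020 F288808)
theorem F297248 : act 6 n77202 = n88665 := (sb E46020 (iv6 D186093))
theorem E49787 : n170242 = n166572 := ((((iv4 F262114)).symm.trans (sb E46021 (iv4 F267762)))).symm
theorem F297250 : act 4 n84316 = n77179 := (sb E46022 F253986)
theorem E49788 : n36561 = n17214 := ((((iv3 D35532)).symm.trans (sb E46023 F123217))).symm
theorem F297251 : act 7 n35532 = n36537 := (sb E46023 (iv7 D80210))
theorem E49789 : n76891 = n58030 := ((((iv1 F129972)).symm.trans (sb E46024 (iv1 F253179)))).symm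
theorem E49790 : n76825 = n58034 := ((((iv0 F126256)).symm.trans (sb E46024 (iv0 D160288)))).symm
theorem E49791 : n170856 = n76888 := ((D170856).symm.trans (sb E46024 F253183))
theorem F297252 : act 3 n80208 = n41393 := (sb E46025 F135919)
theorem F297253 : act 5 n80208 = n41379 := (sb E46025 F135920)
theorem F297254 : act 7 n80208 = n41378 := (sb E46025 (iv7 D88646))
theorem E49793 : n55848 = n38135 := ((((iv4 F118782)).symm.trans (sb E46032 (iv4 F88336)))).symm
theorem F297255 : act 6 n19494 = n12890 := (sb E46032 (iv6 D26943))
theorem E49795 : n83127 = n18302 := ((((iv0 F118788)).symm.trans (sb E46033 (iv0 F253186)))).symm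
theorem E49796 : n78104 = n18352 := (((D18352).symm.trans (sb E46033 F193069))).symm
theorem F297256 : act 6 n19496 = n17250 := (sb E46034 (iv6 D35618))
theorem E49797 : n83463 = n83121 := ((D83463).symm.trans (sb E46036 (iv6 F256870)))
theorem F297257 : act 3 n33910 = n41436 := (sb E46040 F118953)
theorem E49798 : n79257 = n39808 := ((((iv4 F60635)).symm.trans (sb E46040 D79257))).symm
theorem E49800 : n180047 = n173322 := (((D173322).symm.trans (sb E46041 (iv3 F280437)))).symm
theorem E49801 : n121956 = n82582 := (((iv4 F194729)).symm.trans (sb E46042 F136119))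
theorem F297258 : act 5 n56404 = n41436 := (sb E46042 (iv5 D88747))
theorem E49802 : n158828 = n78189 := ((F250075).symm.trans (sb E46043 F256867))
theorem F297259 : act 6 n35645 = n41437 := (sb E46044 (iv6 D88750))
theorem E49804 : n78121 = n18354 := ((((iv3 F29537)).symm.trans (sb E46045 D78121))).symm
theorem E49805 : n78122 = n18358 := (((D18358).symm.trans (sb E46045 D78122))).symm
theorem E49806 : n160792 = n158807 := ((D160792).symm.trans (sb E46049 (iv4 F250013)))
theorem F297260 : act 6 n77151 = n89645 := (sb E46049 (iv6 F137429))
theorem F297261 : act 0 n27099 = n17523 := (sb E46050 (iv1 D36294))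
theorem E49807 : n79710 = n39257 := ((((iv4 F60215)).symm.trans (sb E46050 D79710))).symm
theorem E49808 : n178260 = n176767 := (((D176767).symm.trans (sb E46051 (iv3 F277808)))).symm
theorem F297262 : act 4 n84274 = n56239 := (sb E46051 F194241)
theorem F297263 : act 3 n162165 = n78109 := (sb E46052 F256846)
theorem F297264 : act 0 n162637 = n84276 := (sb E46053 (iv1 F258611))
theorem E49809 : n173332 = n78143 := ((D173332).symm.trans (sb E46054 (iv1 D162670)))
theorem F297268 : act 0 n121154 = n78841 := (sb E46056 F257760)
theorem F297269 : act 1 n121154 = n78827 := (sb E46056 (iv0 F257761))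
theorem F297270 : act 2 n121154 = n78838 := (sb E46056 F257757)
theorem E49812 : n98208 = n78212 := (((F193221).symm.trans (sb E46056 F257758))).symm
theorem F297271 : act 5 n35653 = n21948 := (sb E46058 (iv5 D45900))
theorem F297272 : act 4 n121150 = n157878 := (sb E46059 F250606)
theorem E49813 : n80205 = n77788 := ((F193210).symm.trans (sb E46059 (iv6 F250603)))
theorem F297273 : act 0 n121151 = n78827 := (sb E46060 (iv1 D164078))
theorem F297274 : act 1 n121151 = n78841 := (sb E46060 F258576)
theorem E49814 : n160667 = n83263 := (((iv6 F253796)).symm.trans (sb E46060 F258580))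
theorem F297275 : act 7 n121151 = n78838 := (sb E46060 F258577)
theorem F297276 : act 4 n121152 = n84235 := (sb E46061 F260361)
theorem F297277 : act 2 n58157 = n96650 := (sb E46068 (iv2 F148930))
theorem E49818 : n182872 = n124587 := (((D124587).symm.trans (sb E46068 D182872))).symm
theorem E49819 : n182873 = n124588 := (((D124588).symm.trans (sb E46068 D182873))).symm
theorem F297278 : act 6 n58157 = n40560 := (sb E46068 F134047)
theorem E49820 : n182874 = n84518 := (((F129669).symm.trans (sb E46068 D182874))).symm
theorem E49821 : n170159 = n84524 := (((iv6 F267687)).symm.trans (sb E46069 (iv6 D177412)))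
theorem F297279 : act 6 n38991 = n77259 := (sb E46071 F125519)
theorem F297280 : act 1 n81650 = n40085 := (sb E46072 (iv0 D86503))
theorem E49823 : n181134 = n170247 := ((((iv3 F267764)).symm.trans (sb E46072 D181134))).symm
theorem E49825 : n124591 = n96675 := ((((iv6 F148994)).symm.trans (sb E46072 (iv6 F199280)))).symm
theorem F297281 : act 0 n45183 = n40085 := (sb E46073 (iv1 D86504))
theorem E49828 : n181143 = n170240 := (((D170240).symm.trans (sb E46074 (iv3 F282145)))).symm
theorem F297282 : act 4 n81647 = n40086 := (sb E46074 F132699)
theorem E49829 : n181148 = n170241 := (((D170241).symm.trans (sb E46074 (iv5 F282158)))).symm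
theorem F297283 : act 7 n81647 = n40085 := (sb E46074 (iv7 D86507))
theorem F297284 : act 7 n86502 = n75180 := (sb E46075 (iv7 D157790))
theorem F297285 : act 7 n40111 = n21162 := (sb E46076 (iv7 D44504))
theorem E49830 : n36251 = n17317 := (((D17317).symm.trans (sb E46077 (iv4 F56982)))).symm
theorem F297286 : act 5 n8108 = n8370 := (sb E46077 F28505)
theorem F297287 : act 6 n8108 = n8233 := (sb E46077 (iv6 D17508))
theorem E49831 : n84655 = n84563 := ((F132712).symm.trans (sb E46080 (iv0 F258448)))
theorem E49833 : n36642 = n36627 := (((F123463).symm.trans (sb E46082 F123547))).symm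
theorem E49834 : n124186 = n39186 := (((F123466).symm.trans (sb E46082 (iv4 F198657)))).symm
theorem E49835 : n160931 = n77488 := (((iv6 F254130)).symm.trans (sb E46082 F123548))
theorem F297288 : act 4 n161004 = n78867 := (sb E46084 (iv4 D164174))
theorem F297291 : act 0 n81797 = n40115 := (sb E46086 (iv1 D86541))
theorem E49836 : n181224 = n170641 := (((D170641).symm.trans (sb E46086 D181224))).symm
theorem E49838 : n181226 = n84359 := ((((iv6 F129436)).symm.trans (sb E46086 D181226))).symm
theorem E49842 : n79868 = n75996 := ((D79868).symm.trans (sb E46091 (iv4 D159104)))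
theorem F297292 : act 0 n86029 = n78550 := (sb E46092 F132760)
theorem E49843 : n181218 = n180024 := (((D180024).symm.trans (sb E46092 D181218))).symm
theorem F297293 : act 4 n86029 = n40114 := (sb E46092 (iv4 D86538))
theorem E49845 : n181220 = n177204 := ((((iv6 F276591)).symm.trans (sb E46092 D181220))).symm
theorem F297294 : act 0 n84432 = n78310 := (sb E46093 F132765)
theorem F297295 : act 6 n84432 = n40114 := (sb E46093 (iv6 D86539))
theorem E49846 : n181708 = n124611 := ((D181708).symm.trans (sb E46095 F260874))
theorem F297296 : act 6 n86724 = n79540 := (sb E46095 (iv6 D165603))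
theorem E49848 : n180037 = n78315 := (((F194367).symm.trans (sb E46097 (iv7 F280420)))).symm
theorem F297297 : act 7 n81480 = n78550 := (sb E46099 F194252)
theorem E49849 : n164066 = n80060 := ((D164066).symm.trans (sb E46100 F192855))
theorem F297298 : act 4 n78822 = n78545 := (sb E46100 F192853)
theorem F297299 : act 7 n86033 = n78547 := (sb E46102 (iv7 F257234))
theorem F297300 : act 0 n121572 = n77939 := (sb E46103 F256073)
theorem F297301 : act 5 n121572 = n162295 := (sb E46103 (iv5 F256437))
theorem F297302 : act 6 n121572 = n77834 := (sb E46103 (iv6 D162034))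
theorem F297303 : act 0 n163429 = n86126 := (sb E46104 F261204)
theorem F297304 : act 0 n95263 = n163635 := (sb E46105 (iv1 F257899))
theorem F297305 : act 1 n95263 = n163421 := (sb E46105 (iv0 F257705))
theorem F297306 : act 5 n95263 = n78540 := (sb E46105 F194208)
theorem F297307 : act 7 n95263 = n78568 := (sb E46105 F194209)
theorem E49859 : n124062 = n58574 := (((D58574).symm.trans (sb E46118 D124062))).symm
theorem E49860 : n80581 = n58576 := (((D58576).symm.trans (sb E46118 F123888))).symm
theorem E49861 : n56079 = n54821 := (((D54821).symm.trans (sb E46120 (iv6 D121471)))).symm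
theorem E49862 : n56016 = n40284 := ((((iv1 F125928)).symm.trans (sb E46122 (iv1 F88674)))).symm
theorem E49863 : n56081 = n56072 := (((D56072).symm.trans (sb E46122 D56081))).symm
theorem E49864 : n56073 = n56014 := ((D56073).symm.trans (sb E46122 (iv7 F117015)))
theorem F297311 : act 7 n36791 = n18310 := (sb E46123 (iv7 D38376))
theorem F297312 : act 0 n36793 = n18310 := (sb E46124 (iv1 D38374))
theorem F297313 : act 1 n36793 = n18317 := (sb E46124 F59236)
theorem F297314 : act 2 n36793 = n18315 := (sb E46124 F118400)
theorem E49865 : n149318 = n81438 := (((D81438).symm.trans (sb E46126 F234742))).symm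
theorem E49866 : n154828 = n81439 := (((D81439).symm.trans (sb E46126 (iv0 F273574)))).symm
theorem E49870 : n181188 = n81459 := (((D81459).symm.trans (sb E46127 D181188))).symm
theorem F297315 : act 0 n37200 = n40038 := (sb E46128 (iv1 D86445))
theorem F297316 : act 0 n27228 = n13156 := (sb E46129 (iv1 F44328))
theorem F297317 : act 2 n27228 = n13158 := (sb E46129 F44325)
theorem E49875 : n57255 = n56631 := (((D56631).symm.trans (sb E46129 (iv5 F90316)))).symm
theorem F297318 : act 7 n27228 = n13129 := (sb E46129 (iv7 D27422))
theorem F297319 : act 0 n37203 = n27093 := (sb E46130 F120685)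
theorem E49876 : n86571 = n81476 := (((D81476).symm.trans (sb E46130 (iv3 F132811)))).symm
theorem E49877 : n86579 = n81477 := (((D81477).symm.trans (sb E46130 (iv5 F132821)))).symm
theorem F297320 : act 7 n37203 = n18960 := (sb E46130 (iv7 D40135))
theorem F297321 : act 7 n37204 = n40309 := (sb E46131 (iv7 D86888))
theorem E49885 : n80521 = n18291 := (((D18291).symm.trans (sb E46150 (iv1 D167798)))).symm
theorem E49886 : n83111 = n18292 := (((D18292).symm.trans (sb E46150 F264202))).symm
theorem F297322 : act 6 n8628 = n18277 := (sb E46152 (iv6 D38268))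
theorem E49890 : n78229 = n18398 := (((D18398).symm.trans (sb E46158 (iv6 D162769)))).symm
theorem E49892 : n80441 = n18399 := (((D18399).symm.trans (sb E46160 (iv1 D167618)))).symm
theorem E49893 : n80447 = n18400 := (((D18400).symm.trans (sb E46160 F263873))).symm
theorem E49895 : n84047 = n18422 := (((D18422).symm.trans (sb E46162 (iv3 F129004)))).symm
theorem F297323 : act 6 n8667 = n18416 := (sb E46162 (iv6 D38720))
theorem E49897 : n80517 = n18443 := (((D18443).symm.trans (sb E46163 (iv6 F123781)))).symm
theorem E49898 : n84740 = n3447 := (((F9758).symm.trans (sb E46165 (iv3 F129954)))).symm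
theorem E49899 : n18578 = n13181 := (((D13181).symm.trans (sb E46165 (iv6 D39149)))).symm
theorem F297324 : act 1 n6272 = n3906 := (sb E46166 (iv0 D8728))
theorem F297325 : act 0 n6262 = n13045 := (sb E46178 F124283)
theorem F297326 : act 3 n6262 = n3931 := (sb E46178 (iv3 D8823))
theorem E49901 : n84646 = n56888 := (((D56888).symm.trans (sb E46180 F269202))).symm
theorem E49903 : n81836 = n56889 := (((D56889).symm.trans (sb E46182 (iv1 F125789)))).symm
theorem F297327 : act 1 n27309 = n40089 := (sb E46182 F118548)
theorem E49904 : n84647 = n56891 := (((D56891).symm.trans (sb E46182 D84647))).symm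
theorem E49905 : n56892 = n18583 := ((D56892).symm.trans (sb E46182 F117492))
theorem F297328 : act 1 n8731 = n13087 := (sb E46183 (iv0 D27310))
theorem E49907 : n84648 = n56904 := (((D56904).symm.trans (sb E46184 D84648))).symm
theorem F297329 : act 3 n8729 = n18127 := (sb E46185 F44190)
theorem F297330 : act 7 n8729 = n13087 := (sb E46185 (iv7 D27313))
theorem F297331 : act 1 n36349 = n18123 := (sb E46187 (iv0 D37789))
theorem E49908 : n82394 = n79796 := (((D79796).symm.trans (sb E46187 D82394))).symm
theorem E49909 : n82395 = n79797 := (((D79797).symm.trans (sb E46187 D82395))).symm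
theorem F297332 : act 7 n36349 = n18405 := (sb E46187 F124463)
theorem F297333 : act 0 n35175 = n18123 := (sb E46188 (iv1 D37790))
theorem F297334 : act 2 n35175 = n18405 := (sb E46188 F124455)
theorem E49911 : n82397 = n57613 := ((((iv3 F90759)).symm.trans (sb E46188 D82397))).symm
theorem E49912 : n82398 = n76999 := (((D76999).symm.trans (sb E46188 D82398))).symm
theorem E49914 : n160809 = n82400 := (((D82400).symm.trans (sb E46190 (iv1 F253973)))).symm
theorem F297335 : act 0 n37797 = n18277 := (sb E46193 (iv1 F59127))
theorem F297336 : act 1 n37797 = n18276 := (sb E46193 F59128)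
theorem F297337 : act 2 n37797 = n18279 := (sb E46193 F59125)
theorem F297338 : act 7 n37797 = n18271 := (sb E46193 (iv7 D38247))
theorem F297339 : act 3 n34634 = n58234 := (sb E46195 (iv3 D124635))
theorem E49918 : n82415 = n79822 := ((D82415).symm.trans (sb E46196 (iv1 F261741)))
theorem E49919 : n82416 = n79820 := ((D82416).symm.trans (sb E46196 (iv0 D166243)))
theorem E49920 : n84759 = n82419 := (((D82419).symm.trans (sb E46196 (iv7 F261742)))).symm
theorem F297340 : act 6 n37805 = n38269 := (sb E46197 (iv6 F118442))
theorem E49922 : n54573 = n17616 := (((D17616).symm.trans (sb E46199 (iv3 F86260)))).symm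
theorem E49923 : n17651 = n17618 := (((D17618).symm.trans (sb E46199 F43933))).symm
theorem E49924 : n56413 = n12595 := ((((iv3 F20975)).symm.trans (sb E46200 (iv3 F89274)))).symm
theorem F297341 : act 6 n6194 = n13010 := (sb E46200 (iv6 D27158))
theorem E49925 : n161933 = n35466 := (((D35466).symm.trans (sb E46201 (iv6 F255919)))).symm
theorem E49926 : n80193 = n35327 := (((F116666).symm.trans (sb E46202 F123170))).symm
theorem E49927 : n161338 = n35255 := (((F116667).symm.trans (sb E46202 F255163))).symm
theorem E49928 : n56433 = n35485 := ((D56433).symm.trans (sb E46202 (iv5 D77766)))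
theorem F297342 : act 0 n34642 = n36034 := (sb E46203 (iv1 F58806))
theorem F297343 : act 1 n34642 = n18183 := (sb E46203 (iv0 D37967))
theorem F297344 : act 2 n34642 = n36031 := (sb E46203 (iv2 F117072))
theorem E49930 : n75745 = n36545 := (((iv4 F113611)).symm.trans (sb E46203 F117074))
theorem F297345 : act 7 n34642 = n36032 := (sb E46203 F117076)
theorem E49932 : n122059 = n36546 := ((((iv4 F91499)).symm.trans (sb E46204 F194911))).symm
theorem E49934 : n164634 = n75784 := (((D75784).symm.trans (sb E46204 (iv6 F259608)))).symm
theorem E49935 : n80191 = n35297 := ((((iv1 F116609)).symm.trans (sb E46207 (iv1 F194778)))).symm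
theorem E49936 : n80194 = n35368 := ((((iv0 F116610)).symm.trans (sb E46207 (iv0 F194777)))).symm
theorem E49937 : n86833 = n56437 := (((D56437).symm.trans (sb E46207 F194776))).symm
theorem F297346 : act 5 n34493 = n36005 := (sb E46208 (iv5 D79110))
theorem E49939 : n81754 = n75352 := (((D75352).symm.trans (sb E46208 F125673))).symm
theorem F297347 : act 3 n34639 = n16782 := (sb E46209 F54893)
theorem F297348 : act 5 n34639 = n16780 := (sb E46209 (iv5 D34641))
theorem F297349 : act 6 n34639 = n36031 := (sb E46209 (iv6 F117068))
theorem E49940 : n75628 = n36539 := (((D36539).symm.trans (sb E46211 (iv1 F113472)))).symm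
theorem E49941 : n36540 = n19630 := ((D36540).symm.trans (sb E46211 (iv0 D41706)))
theorem E49942 : n75629 = n36541 := (((D36541).symm.trans (sb E46211 (iv2 F286932)))).symm
theorem E49944 : n89270 = n36543 := (((D36543).symm.trans (sb E46211 D89270))).symm
theorem E49949 : n118473 = n38196 := ((((iv3 F113264)).symm.trans (sb E46214 F254812))).symm
theorem E49950 : n127906 = n82634 := (((D82634).symm.trans (sb E46214 F254813))).symm
theorem F297350 : act 6 n37972 = n77363 := (sb E46216 (iv6 D161149))
theorem E49952 : n152728 = n75462 := (((D75462).symm.trans (sb E46218 F254818))).symm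
theorem E49954 : n162000 = n75466 := (((D75466).symm.trans (sb E46223 (iv5 F255993)))).symm
theorem F297353 : act 0 n34534 = n16749 := (sb E46224 (iv1 D34535))
theorem F297354 : act 3 n34534 = n17906 := (sb E46224 (iv3 F117856))
theorem E49955 : n17649 = n17648 := ((((iv4 F117863)).symm.trans (sb E46224 (iv4 F117857)))).symm
theorem E49956 : n38784 = n38783 := ((((iv5 F123055)).symm.trans (sb E46224 (iv5 F123049)))).symm
theorem E49957 : n75477 = n75472 := (((D75472).symm.trans (sb E46224 D75477))).symm
theorem F297355 : act 7 n34534 = n17940 := (sb E46224 (iv7 F117861))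
theorem E49965 : n80795 = n12775 := ((((iv5 F21211)).symm.trans (sb E46227 D80795))).symm
theorem E49970 : n81092 = n55306 := (((D55306).symm.trans (sb E46231 F265294))).symm
theorem E49971 : n151856 = n32449 := ((((iv4 F51519)).symm.trans (sb E46231 F265295))).symm
theorem E49972 : n127991 = n55307 := (((D55307).symm.trans (sb E46231 F265297))).symm
theorem E49973 : n127893 = n33184 := ((((iv3 F52410)).symm.trans (sb E46232 F265180))).symm
theorem E49976 : n173811 = n75695 := (((D75695).symm.trans (sb E46240 (iv4 F281273)))).symm
theorem E49978 : n167597 = n75775 := (((D75775).symm.trans (sb E46242 (iv3 F263859)))).symm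
theorem F297356 : act 6 n34654 = n36655 := (sb E46242 (iv6 D80433))
theorem E49980 : n83092 = n58247 := ((((iv0 F117726)).symm.trans (sb E46243 F198974))).symm
theorem F297357 : act 3 n34655 = n58056 := (sb E46243 F198977)
theorem E49981 : n121053 = n75779 := (((D75779).symm.trans (sb E46243 (iv4 F198979)))).symm
theorem E49983 : n121954 = n75787 := (((D75787).symm.trans (sb E46244 (iv6 F257358)))).symm
theorem E49984 : n121052 = n75788 := (((D75788).symm.trans (sb E46245 F198971))).symm
theorem E49985 : n75710 = n38474 := (((F113020).symm.trans (sb E46246 (iv1 F195913)))).symm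
theorem E49987 : n173843 = n75802 := (((D75802).symm.trans (sb E46247 D173843))).symm
theorem E49988 : n16841 = n12816 := (((D12816).symm.trans (sb E46248 (iv0 D34767)))).symm
theorem E49990 : n82001 = n55360 := (((D55360).symm.trans (sb E46249 (iv1 F236128)))).symm
theorem E49991 : n82126 = n55361 := (((D55361).symm.trans (sb E46249 D82126))).symm
theorem E49994 : n82129 = n55364 := (((D55364).symm.trans (sb E46249 D82129))).symm
theorem E49996 : n82131 = n55365 := (((D55365).symm.trans (sb E46250 D82131))).symm
theorem E49997 : n82132 = n55366 := (((D55366).symm.trans (sb E46251 D82132))).symm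
theorem E49998 : n82134 = n55368 := (((D55368).symm.trans (sb E46251 D82134))).symm
theorem E50000 : n35350 = n12829 := ((F117336).symm.trans (sb E46252 F43114))
theorem F297358 : act 5 n26755 = n12827 := (sb E46252 (iv5 D26825))
theorem F297359 : act 5 n26756 = n16839 := (sb E46253 (iv5 D34760))
theorem E50002 : n98296 = n75314 := (((D75314).symm.trans (sb E46255 F268798))).symm
theorem E50003 : n81996 = n75315 := (((D75315).symm.trans (sb E46255 (iv6 D171077)))).symm
theorem E50004 : n98306 = n75318 := (((D75318).symm.trans (sb E46256 (iv4 F287028)))).symm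
theorem E50007 : n80525 = n75335 := (((D75335).symm.trans (sb E46262 F261766))).symm
theorem E50008 : n160785 = n75337 := (((D75337).symm.trans (sb E46263 (iv3 F253931)))).symm
theorem F297360 : act 6 n34489 = n35222 := (sb E46263 (iv6 D77149))
theorem E50012 : n166224 = n75356 := (((D75356).symm.trans (sb E46266 (iv6 F261718)))).symm
theorem E50018 : n82521 = n78192 := ((D82521).symm.trans (sb E46272 F128124))
theorem E50020 : n173808 = n82522 := (((D82522).symm.trans (sb E46272 D173808))).symm
theorem E50022 : n173752 = n82523 := (((D82523).symm.trans (sb E46272 (iv7 F272339)))).symm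
theorem F297361 : act 1 n33416 = n18152 := (sb E46274 (iv0 D37872))
theorem E50023 : n77456 = n72382 := ((((iv3 F108880)).symm.trans (sb E46274 F116265))).symm
theorem E50024 : n82494 = n16138 := (((F52687).symm.trans (sb E46274 D82494))).symm
theorem E50025 : n77455 = n72385 := (((D72385).symm.trans (sb E46274 (iv5 F116266)))).symm
theorem E50026 : n153213 = n47003 := ((((iv3 F113358)).symm.trans (sb E46275 (iv3 F240573)))).symm
theorem E50027 : n81600 = n33389 := (((iv4 F125497)).symm.trans (sb E46275 F108794))
theorem E50029 : n82497 = n71037 := ((D82497).symm.trans (sb E46275 (iv6 F190141)))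
theorem E50030 : n37053 = n36847 := (((F58740).symm.trans (sb E46276 (iv4 F190547)))).symm
theorem E50033 : n36845 = n13610 := ((D36845).symm.trans (sb E46277 F189865))
theorem E50034 : n37052 = n36846 := (((D36846).symm.trans (sb E46277 D37052))).symm
theorem E50035 : n37054 = n36848 := (((D36848).symm.trans (sb E46277 D37054))).symm
theorem E50036 : n37055 = n36849 := (((D36849).symm.trans (sb E46277 D37055))).symm
theorem E50038 : n128246 = n82499 := (((D82499).symm.trans (sb E46278 F240591))).symm
theorem E50039 : n147647 = n82500 := (((D82500).symm.trans (sb E46278 (iv4 F231415)))).symm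
theorem E50041 : n169002 = n82502 := (((D82502).symm.trans (sb E46279 D169002))).symm
theorem E50042 : n157620 = n82503 := (((D82503).symm.trans (sb E46279 F248378))).symm
theorem E50043 : n169003 = n82504 := (((D82504).symm.trans (sb E46279 D169003))).symm
theorem F297362 : act 4 n34621 = n36365 := (sb E46283 (iv4 D79832))
theorem E50059 : n153222 = n77631 := ((((iv2 F116528)).symm.trans (sb E46285 (iv2 F240610)))).symm
theorem E50060 : n82456 = n75500 := (((D75500).symm.trans (sb E46286 (iv1 F127035)))).symm
theorem E50061 : n80520 = n75501 := (((D75501).symm.trans (sb E46286 (iv0 F123785)))).symm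
theorem E50062 : n167756 = n75502 := (((D75502).symm.trans (sb E46286 D167756))).symm
theorem E50066 : n82469 = n54727 := ((((iv3 F86537)).symm.trans (sb E46288 D82469))).symm
theorem E50068 : n82471 = n56792 := (((D56792).symm.trans (sb E46288 D82471))).symm
theorem F297363 : act 1 n26771 = n13051 := (sb E46291 (iv0 D27242))
theorem E50070 : n39697 = n27473 := ((((iv5 F44393)).symm.trans (sb E46291 (iv5 F117167)))).symm
theorem E50071 : n55422 = n39183 := ((D55422).symm.trans (sb E46291 (iv6 F60162)))
theorem F297364 : act 7 n26771 = n13061 := (sb E46291 (iv7 F117383))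
theorem E50072 : n82459 = n75519 := (((D75519).symm.trans (sb E46292 D82459))).symm
theorem E50074 : n82461 = n75521 := (((D75521).symm.trans (sb E46292 D82461))).symm
theorem E50097 : n17617 = n15995 := ((D17617).symm.trans (sb E46345 (iv5 D33169)))
theorem E50098 : n30050 = n17618 := (((D17618).symm.trans (sb E46345 F52389))).symm
theorem E50099 : n133165 = n17619 := (((D17619).symm.trans (sb E46346 (iv1 F213932)))).symm
theorem E50100 : n81175 = n12595 := ((((iv3 F20975)).symm.trans (sb E46347 D81175))).symm
theorem E50101 : n54623 = n13015 := (((D13015).symm.trans (sb E46347 (iv5 F86335)))).symm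
theorem E50104 : n55213 = n17163 := (((D17163).symm.trans (sb E46351 (iv5 D119980)))).symm
theorem E50105 : n70811 = n12959 := (((D12959).symm.trans (sb E46354 F215780))).symm
theorem E50107 : n60424 = n36515 := ((((iv5 F57351)).symm.trans (sb E46356 (iv5 D128475)))).symm
theorem E50108 : n81027 = n36516 := ((((iv5 F57359)).symm.trans (sb E46357 F211066))).symm
theorem E50110 : n17479 = n15994 := (((iv4 F28473)).symm.trans (sb E46359 F46932))
theorem E50111 : n61803 = n34567 := (((D34567).symm.trans (sb E46359 D61803))).symm
theorem E50117 : n55080 = n17478 := (((D17478).symm.trans (sb E46365 (iv3 F87099)))).symm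
theorem E50118 : n17480 = n12721 := ((D17480).symm.trans (sb E46365 (iv6 D26622)))
theorem F297365 : act 3 n6288 = n13045 := (sb E46366 F43909)
theorem F297366 : act 6 n6288 = n13009 := (sb E46366 (iv6 D27156))
theorem E50119 : n72775 = n4085 := ((((iv1 D9087)).symm.trans (sb E46367 F241736))).symm
theorem E50120 : n73180 = n10738 := ((((iv0 F17266)).symm.trans (sb E46367 F241737))).symm
theorem E50121 : n72903 = n10740 := (((F17271).symm.trans (sb E46367 (iv2 F190890)))).symm
theorem E50122 : n55078 = n19352 := (((D19352).symm.trans (sb E46367 (iv6 D119719)))).symm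
theorem F297367 : act 1 n27227 = n13166 := (sb E46368 F120818)
theorem E50123 : n57520 = n56626 := (((D56626).symm.trans (sb E46368 D57520))).symm
theorem E50124 : n56627 = n18610 := ((D56627).symm.trans (sb E46368 F120580))
theorem F297368 : act 7 n8738 = n13045 := (sb E46369 (iv7 D27231))
theorem E50163 : n86212 = n76902 := (((D76902).symm.trans (sb E46403 F269323))).symm
theorem E50164 : n86207 = n39913 := (((F254948).symm.trans (sb E46403 (iv0 F269324)))).symm
theorem F297376 : act 1 n81645 = n91670 := (sb E46406 F141171)
theorem F297378 : act 1 n27021 = n34800 := (sb E46407 (iv0 F55003))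
theorem E50167 : n159243 = n79593 := (((D79593).symm.trans (sb E46408 (iv3 F250730)))).symm
theorem E50168 : n79595 = n34799 := ((D79595).symm.trans (sb E46408 (iv6 D76185)))
theorem E50169 : n58029 = n17073 := ((((iv1 F28013)).symm.trans (sb E46409 F122928))).symm
theorem F297380 : act 0 n76181 = n86502 := (sb E46411 (iv1 F132689))
theorem F297381 : act 1 n76181 = n35728 := (sb E46411 (iv0 D78389))
theorem F297382 : act 2 n76181 = n57341 := (sb E46411 F121046)
theorem E50171 : n163015 = n159236 := (((D159236).symm.trans (sb E46411 D163015))).symm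
theorem E50172 : n162911 = n159237 := (((D159237).symm.trans (sb E46411 (iv5 F257228)))).symm
theorem F297383 : act 6 n76181 = n35807 := (sb E46411 F121048)
theorem E50173 : n58645 = n57252 := (((D57252).symm.trans (sb E46414 F124334))).symm
theorem F297384 : act 1 n39801 = n40309 := (sb E46415 (iv0 D86886))
theorem F297385 : act 3 n39801 = n58117 := (sb E46415 F133311)
theorem E50175 : n122607 = n34736 := (((F126016).symm.trans (sb E46415 (iv5 F196396)))).symm
theorem E50176 : n181913 = n48516 := (((F126017).symm.trans (sb E46415 D181913))).symm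
theorem F297386 : act 0 n38963 = n40309 := (sb E46416 (iv1 D86887))
theorem E50177 : n86170 = n58086 := (((F91865).symm.trans (sb E46417 F192749))).symm
theorem F297387 : act 3 n35884 = n42064 := (sb E46417 F116169)
theorem F297393 : act 6 n89999 = n58117 := (sb E46419 F160868)
theorem F297394 : act 1 n39803 = n84493 := (sb E46420 F138263)
theorem F297395 : act 7 n39803 = n42064 := (sb E46420 (iv7 D90000))
theorem E50181 : n35570 = n27067 := (((D27067).symm.trans (sb E46422 F88834))).symm
theorem E50182 : n162238 = n86160 := (((D86160).symm.trans (sb E46423 (iv6 F258460)))).symm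
theorem F297397 : act 1 n56149 = n121150 := (sb E46424 F256099)
theorem F297398 : act 7 n56149 = n35562 := (sb E46424 (iv7 D77945))
theorem E50184 : n77963 = n77961 := (((F192897).symm.trans (sb E46426 (iv1 F194078)))).symm
theorem E50185 : n162236 = n157881 := (((D157881).symm.trans (sb E46427 F256373))).symm
theorem E50186 : n84748 = n57911 := (((iv5 F129957)).symm.trans (sb E46427 (iv5 F193362)))
theorem F297401 : act 7 n75212 = n55948 := (sb E46427 F193360)
theorem F297402 : act 1 n78560 = n86133 := (sb E46428 F258730)
theorem F297403 : act 2 n78560 = n78869 := (sb E46428 F258727)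
theorem F297404 : act 4 n78560 = n78868 := (sb E46428 (iv4 D164175))
theorem E50188 : n121029 = n81639 := ((F248669).symm.trans (sb E46428 F258728))
theorem F297405 : act 7 n78560 = n157784 := (sb E46428 F258729)
theorem F297407 : act 1 n124207 = n86067 := (sb E46429 F199265)
theorem F297408 : act 2 n124207 = n78870 := (sb E46429 F199260)
theorem F297409 : act 5 n124207 = n78868 := (sb E46429 F199262)
theorem F297411 : act 0 n37313 = n57333 := (sb E46430 (iv1 D123187))
theorem E50189 : n120963 = n35797 := ((((iv4 F114145)).symm.trans (sb E46431 F255415))).symm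
theorem F297412 : act 0 n78559 = n86133 := (sb E46432 F257762)
theorem F297413 : act 2 n78559 = n157784 := (sb E46432 (iv2 F248676))
theorem E50191 : n163550 = n163478 := (((D163478).symm.trans (sb E46432 (iv3 F257812)))).symm
theorem F297414 : act 4 n78559 = n55962 := (sb E46432 (iv4 D121305))
theorem E50192 : n162927 = n84481 := ((F257258).symm.trans (sb E46432 F193429))
theorem F297415 : act 7 n78559 = n78869 := (sb E46432 F193430)
theorem F297416 : act 2 n38961 = n81606 := (sb E46433 F196336)
theorem F297417 : act 0 n44501 = n27094 := (sb E46434 (iv1 D56229))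
theorem F297418 : act 2 n44501 = n36313 := (sb E46434 (iv2 F119043))
theorem E50194 : n121691 = n95261 := (((D95261).symm.trans (sb E46434 D121691))).symm
theorem F297419 : act 5 n44501 = n36699 := (sb E46434 (iv5 F118545))
theorem F297420 : act 7 n44501 = n36314 := (sb E46434 (iv7 F119046))
theorem F297421 : act 1 n44502 = n27094 := (sb E46435 (iv0 D56228))
theorem F297422 : act 2 n44502 = n36314 := (sb E46435 F119044)
theorem E50195 : n121690 = n95264 := (((D95264).symm.trans (sb E46435 D121690))).symm
theorem F297423 : act 5 n44502 = n77308 := (sb E46435 F118535)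
theorem F297424 : act 6 n44502 = n77311 := (sb E46435 (iv6 F118544))
theorem F297425 : act 7 n44502 = n36313 := (sb E46435 F119042)
theorem E50196 : n78403 = n36250 := (((D36250).symm.trans (sb E46436 D78403))).symm
theorem E50199 : n166687 = n158857 := (((iv4 F262345)).symm.trans (sb E46438 (iv4 F250111)))
theorem F297428 : act 6 n80003 = n45903 := (sb E46438 (iv6 D98210))
theorem E50200 : n79635 = n78583 := ((D79635).symm.trans (sb E46441 F193164))
theorem F297429 : act 6 n35799 = n17513 := (sb E46443 (iv6 D36266))
theorem E50203 : n56154 = n55914 := (((D55914).symm.trans (sb E46444 F91289))).symm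
theorem E50206 : n36052 = n17288 := ((((iv6 F43989)).symm.trans (sb E46444 F57013))).symm
theorem E50207 : n78595 = n55912 := (((D55912).symm.trans (sb E46445 D78595))).symm
theorem F297430 : act 6 n163469 = n79623 := (sb E46446 (iv6 D165786))
theorem F297431 : act 2 n163485 = n180342 := (sb E46447 (iv2 F280649))
theorem E50209 : n121303 = n121283 := (((F256379).symm.trans (sb E46448 F258771))).symm
theorem F297432 : act 7 n120288 = n75225 := (sb E46448 (iv7 D157908))
theorem F297433 : act 7 n88647 = n77939 := (sb E46449 (iv7 D162229))
theorem E50212 : n39153 = n27637 := ((((iv6 F44555)).symm.trans (sb E46450 (iv6 D84754)))).symm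
theorem E50214 : n177778 = n122582 := ((((iv4 F196321)).symm.trans (sb E46454 (iv4 F277257)))).symm
theorem F297434 : act 0 n79736 = n56936 := (sb E46455 (iv1 F148245))
theorem E50215 : n166081 = n122583 := ((D166081).symm.trans (sb E46455 (iv4 F196316)))
theorem E50216 : n84747 = n57910 := (((F191505).symm.trans (sb E46456 F277481))).symm
theorem E50217 : n84749 = n57914 := ((((iv0 F191504)).symm.trans (sb E46456 F277482))).symm
theorem F297435 : act 5 n120269 = n84803 := (sb E46456 F277480)
theorem F297436 : act 7 n120269 = n124446 := (sb E46456 F277479)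
theorem F297437 : act 4 n122613 = n124446 := (sb E46457 F256139)
theorem F297438 : act 4 n58037 = n36537 := (sb E46461 (iv4 D80209))
theorem F297439 : act 6 n58037 = n55346 := (sb E46461 F123216)
theorem E50222 : n122394 = n57430 := ((((iv1 F121570)).symm.trans (sb E46462 (iv1 F195839)))).symm
theorem E50223 : n57434 = n37558 := ((F121523).symm.trans (sb E46462 (iv0 D81991)))
theorem E50225 : n171062 = n124280 := (((D124280).symm.trans (sb E46462 D171062))).symm
theorem E50226 : n157880 = n55947 := (((D55947).symm.trans (sb E46464 F258502))).symm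
theorem E50229 : n166176 = n121798 := (((D121798).symm.trans (sb E46465 (iv2 F261649)))).symm
theorem E50231 : n120772 = n36336 := (((iv6 F192591)).symm.trans (sb E46465 (iv6 D79790)))
theorem F297440 : act 6 n17545 = n27114 := (sb E46467 F88093)
theorem E50240 : n78639 = n36333 := (((D36333).symm.trans (sb E46469 D78639))).symm
theorem E50241 : n36673 = n27147 := (((F43886).symm.trans (sb E46469 F57543))).symm
theorem F297441 : act 6 n79740 = n44987 := (sb E46471 F148251)
theorem F297442 : act 1 n39840 = n36315 := (sb E46472 (iv0 D79738))
theorem E50244 : n166087 = n86066 := (((D86066).symm.trans (sb E46472 D166087))).symm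
theorem E50245 : n166095 = n86032 := ((D166095).symm.trans (sb E46474 F148253))
theorem F297443 : act 1 n79735 = n37213 := (sb E46476 (iv0 D81497))
theorem E50247 : n169893 = n166080 := (((D166080).symm.trans (sb E46476 D169893))).symm
theorem F297444 : act 2 n78565 = n95263 := (sb E46477 F148239)
theorem F297445 : act 3 n78565 = n121155 := (sb E46477 (iv3 F193223))
theorem F297446 : act 0 n79737 = n37213 := (sb E46478 (iv1 D81498))
theorem E50250 : n169896 = n166083 := (((D166083).symm.trans (sb E46478 D169896))).symm
theorem E50251 : n121943 = n96729 := ((D121943).symm.trans (sb E46479 (iv4 F149150)))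
theorem F297447 : act 6 n56385 = n40493 := (sb E46479 (iv6 D87173))
theorem F297448 : act 7 n157788 = n181132 := (sb E46481 (iv7 F282127))
theorem F297449 : act 0 n157789 = n162905 := (sb E46482 F257367)
theorem E50252 : n162902 = n160491 := ((((iv0 F253521)).symm.trans (sb E46482 F257368))).symm
theorem F297450 : act 7 n157789 = n181133 := (sb E46482 (iv7 F282129))
theorem E50253 : n170248 = n162899 := ((D170248).symm.trans (sb E46484 F276806))
theorem E50254 : n170249 = n162895 := ((D170249).symm.trans (sb E46484 F276807))
theorem F297451 : act 0 n79972 = n84365 := (sb E46485 (iv1 F276393))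
theorem F297452 : act 1 n79972 = n84363 := (sb E46485 (iv0 D177003))
theorem F297453 : act 2 n79972 = n84514 := (sb E46485 (iv2 F276392))
theorem F297454 : act 7 n79972 = n84515 := (sb E46485 F276394)
theorem F297457 : act 0 n162918 = n104974 := (sb E46491 F261412)
theorem F297458 : act 1 n162918 = n96428 := (sb E46491 (iv0 F261413))
theorem E50260 : n177243 = n78327 := (((F257237).symm.trans (sb E46491 (iv6 F276634)))).symm
theorem F297460 : act 0 n35701 = n78211 := (sb E46492 (iv1 F195252))
theorem F297461 : act 3 n160403 = n79870 := (sb E46493 F255474)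
theorem F297462 : act 6 n160403 = n77531 := (sb E46493 (iv6 D161501))
theorem F297466 : act 1 n17592 = n12877 := (sb E46497 (iv0 D26913))
theorem E50266 : n78419 = n55794 := ((((iv4 D120973)).symm.trans (sb E46499 F257422))).symm
theorem F297467 : act 1 n75770 = n77040 := (sb E46501 (iv0 D160637))
theorem E50267 : n166244 = n38801 := (((F113633).symm.trans (sb E46501 (iv6 F261746)))).symm
theorem F297468 : act 0 n75263 = n77040 := (sb E46502 F199035)
theorem F297469 : act 7 n75800 = n77040 := (sb E46503 F193019)
theorem E50269 : n83271 = n77024 := (((D77024).symm.trans (sb E46508 F257243))).symm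
theorem E50270 : n82907 = n58016 := ((((iv0 F121311)).symm.trans (sb E46508 F257244))).symm
theorem F297470 : act 3 n26939 = n40208 := (sb E46509 F121792)
theorem F297471 : act 5 n26939 = n45903 := (sb E46509 F72492)
theorem F297472 : act 7 n58173 = n96650 := (sb E46511 F257895)
theorem F297473 : act 6 n162122 = n77986 := (sb E46512 (iv6 D162349))
theorem F297474 : act 4 n84534 = n78601 := (sb E46513 F257855)
theorem F297475 : act 7 n84534 = n78599 := (sb E46513 (iv7 D163589))
theorem E50273 : n55775 = n34805 := ((((iv4 F55009)).symm.trans (sb E46514 (iv4 F88205)))).symm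
theorem F297476 : act 7 n17591 = n12877 := (sb E46514 (iv7 D26916))
theorem E50281 : n177427 = n166619 := (((D166619).symm.trans (sb E46517 (iv1 F276850)))).symm
theorem E50282 : n177426 = n166620 := (((D166620).symm.trans (sb E46517 F276847))).symm
theorem E50283 : n177261 = n166621 := (((D166621).symm.trans (sb E46517 (iv4 F276655)))).symm
theorem E50285 : n55655 = n17304 := ((((iv4 F28246)).symm.trans (sb E46519 D55655))).symm
theorem E50286 : n78296 = n38934 := (((D38934).symm.trans (sb E46520 (iv3 F119503)))).symm
theorem F297477 : act 4 n18490 = n17301 := (sb E46520 F56371)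
theorem E50290 : n181112 = n84360 := (((D84360).symm.trans (sb E46522 D181112))).symm
theorem E50291 : n181675 = n84467 := ((((iv7 F146798)).symm.trans (sb E46523 F282782))).symm
theorem F297478 : act 0 n95241 = n167695 := (sb E46524 (iv1 F263976))
theorem F297479 : act 1 n95241 = n86376 := (sb E46524 F257249)
theorem E50292 : n177259 = n167687 := (((iv4 F276653)).symm.trans (sb E46524 (iv4 F263963)))
theorem F297480 : act 4 n38954 = n40208 := (sb E46525 F132970)
theorem F297481 : act 6 n38954 = n40206 := (sb E46525 (iv6 D86708))
theorem F297482 : act 0 n18019 = n13147 := (sb E46528 (iv1 D27480))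
theorem E50295 : n57235 = n34801 := (((F124345).symm.trans (sb E46528 F90288))).symm
theorem E50296 : n37559 = n18548 := ((D37559).symm.trans (sb E46528 F120662))
theorem F297483 : act 6 n39968 = n57437 := (sb E46529 (iv6 D123334))
theorem F297484 : act 3 n81904 = n84298 := (sb E46530 (iv3 F255022))
theorem E50298 : n124253 = n58721 := ((F254807).symm.trans (sb E46531 F254965))
theorem E50299 : n86208 = n57934 := (((iv5 F132166)).symm.trans (sb E46531 (iv5 D124268)))
theorem E50300 : n125315 = n124213 := (((iv6 F201559)).symm.trans (sb E46531 F198763))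
theorem F297485 : act 5 n81906 = n57890 := (sb E46532 (iv5 D124191))
theorem F297486 : act 6 n81906 = n57892 := (sb E46532 F198662)
theorem F297487 : act 4 n45157 = n79739 := (sb E46534 F130022)
theorem F297488 : act 3 n45159 = n27721 := (sb E46536 F91968)
theorem E50303 : n55772 = n17072 := ((((iv6 F28007)).symm.trans (sb E46541 (iv6 D120921)))).symm
theorem E50304 : n123365 = n8828 := (((D8828).symm.trans (sb E46543 D123365))).symm
theorem E50305 : n123366 = n8829 := (((D8829).symm.trans (sb E46543 D123366))).symm
theorem E50309 : n36056 = n18555 := (((D18555).symm.trans (sb E46546 (iv0 D79195)))).symm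
theorem E50317 : n162929 = n84544 := (((D84544).symm.trans (sb E46552 F262214))).symm
theorem F297489 : act 0 n38998 = n79938 := (sb E46553 (iv1 D166557))
theorem F297490 : act 1 n38998 = n79966 := (sb E46553 F262073)
theorem F297491 : act 2 n38998 = n79964 := (sb E46553 (iv2 F262076))
theorem F297492 : act 5 n38985 = n37969 := (sb E46554 F122228)
theorem F297494 : act 2 n38987 = n37295 := (sb E46555 F89968)
theorem F297495 : act 3 n38987 = n37969 := (sb E46555 F89969)
theorem E50319 : n56112 = n35575 := (((D35575).symm.trans (sb E46557 (iv6 D121524)))).symm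
theorem E50331 : n80406 = n80381 := ((((iv0 F123514)).symm.trans (sb E46562 (iv0 D167538)))).symm
theorem E50332 : n161565 = n83348 := (((D83348).symm.trans (sb E46562 F263756))).symm
theorem E50335 : n158204 = n83343 := (((D83343).symm.trans (sb E46563 (iv5 F249202)))).symm
theorem E50336 : n181857 = n56143 := (((F118732).symm.trans (sb E46564 (iv4 F283089)))).symm
theorem E50337 : n83345 = n77733 := ((D83345).symm.trans (sb E46564 (iv6 D161855)))
theorem E50342 : n84660 = n57889 := ((D84660).symm.trans (sb E46574 F196311))
theorem E50343 : n120324 = n84653 := (((D84653).symm.trans (sb E46575 (iv5 F196293)))).symm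
theorem E50344 : n84654 = n57929 := ((D84654).symm.trans (sb E46575 F196296))
theorem F297501 : act 0 n39020 = n18565 := (sb E46576 (iv1 D39100))
theorem E50346 : n27282 = n27267 := ((F60029).symm.trans (sb E46576 (iv5 F60104)))
theorem F297502 : act 7 n27628 = n18565 := (sb E46577 (iv7 D39102))
theorem F297503 : act 0 n124517 = n167904 := (sb E46578 F280402)
theorem F297504 : act 6 n124517 = n181706 := (sb E46578 F282856)
theorem E50348 : n96712 = n34734 := ((((iv1 D76015)).symm.trans (sb E46579 (iv1 F149105)))).symm
theorem E50349 : n159116 = n159112 := (((D159112).symm.trans (sb E46579 D159116))).symm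
theorem F297505 : act 2 n76942 = n57333 := (sb E46581 F133260)
theorem E50350 : n181876 = n160487 := (((D160487).symm.trans (sb E46581 D181876))).symm
theorem F297506 : act 0 n124173 = n58187 := (sb E46582 (iv1 F199186))
theorem F297507 : act 1 n124173 = n58186 := (sb E46582 F199187)
theorem F297508 : act 2 n124173 = n58190 := (sb E46582 F199184)
theorem F297509 : act 7 n124173 = n58118 := (sb E46582 (iv7 D124521))
theorem F297512 : act 6 n96430 = n57879 := (sb E46583 (iv6 D124174))
theorem F297513 : act 0 n86709 = n58184 := (sb E46584 (iv1 F199291))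
theorem F297514 : act 1 n86709 = n58179 := (sb E46584 (iv0 D124600))
theorem F297515 : act 7 n86709 = n96180 := (sb E46584 F199292)
theorem F297516 : act 7 n26980 = n34440 := (sb E46585 (iv7 D75214))
theorem E50351 : n77947 = n55958 := (((D55958).symm.trans (sb E46588 (iv7 D162247)))).symm
theorem E50352 : n120964 = n35796 := ((((iv4 F114141)).symm.trans (sb E46589 (iv4 F193394)))).symm
theorem F297517 : act 3 n26985 = n34440 := (sb E46590 F56246)
theorem F297518 : act 6 n26985 = n17233 := (sb E46590 (iv6 D35564))
theorem E50353 : n39151 = n27635 := (((D27635).symm.trans (sb E46592 D39151))).symm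
theorem E50354 : n39152 = n27636 := (((D27636).symm.trans (sb E46592 D39152))).symm
theorem E50355 : n39097 = n27624 := ((((iv7 F44552)).symm.trans (sb E46592 (iv7 F117480)))).symm
theorem E50359 : n164970 = n27910 := (((D27910).symm.trans (sb E46593 (iv5 F260137)))).symm
theorem E50368 : n57212 = n13300 := ((((iv5 F27598)).symm.trans (sb E46599 F197033))).symm
theorem E50369 : n124254 = n34803 := (((D34803).symm.trans (sb E46599 (iv6 F198753)))).symm
theorem E50370 : n55771 = n34784 := ((((iv7 F54997)).symm.trans (sb E46600 F192502))).symm
theorem E50374 : n120912 = n35263 := (((D35263).symm.trans (sb E46605 D120912))).symm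
theorem E50384 : n174356 = n77997 := ((((iv3 F119209)).symm.trans (sb E46609 D174356))).symm
theorem E50385 : n121563 = n77999 := (((D77999).symm.trans (sb E46609 (iv5 F193959)))).symm
theorem E50391 : n120626 = n37424 := (((iv5 F192244)).symm.trans (sb E46613 (iv5 F121207)))
theorem F297519 : act 0 n81495 = n56230 := (sb E46614 (iv1 D121694))
theorem E50392 : n169890 = n166324 := ((D169890).symm.trans (sb E46614 (iv5 F261920)))
theorem F297520 : act 7 n81495 = n79739 := (sb E46614 F197847)
theorem F297521 : act 1 n58691 = n56230 := (sb E46616 (iv0 D121693))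
theorem F297522 : act 2 n58691 = n79739 := (sb E46616 (iv2 F197850))
theorem E50393 : n166323 = n125328 := (((D125328).symm.trans (sb E46616 (iv5 F261916)))).symm
theorem E50394 : n169902 = n166031 := ((D169902).symm.trans (sb E46619 (iv1 F282290)))
theorem F297523 : act 1 n81500 = n86543 := (sb E46619 (iv0 D181232))
theorem F297524 : act 0 n27482 = n27255 := (sb E46621 (iv1 D56714))
theorem F297525 : act 3 n27482 = n37316 := (sb E46621 (iv3 F126048))
theorem E50395 : n122388 = n57440 := ((((iv4 F90622)).symm.trans (sb E46621 D122388))).symm
theorem E50397 : n170233 = n162912 := ((((iv5 F257231)).symm.trans (sb E46622 D170233))).symm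
theorem E50398 : n181216 = n180123 := ((((iv7 F280494)).symm.trans (sb E46623 (iv7 F282260)))).symm
theorem F297528 : act 2 n95267 = n79741 := (sb E46624 F261434)
theorem E50399 : n181217 = n180033 := (((F280417).symm.trans (sb E46624 (iv7 F282263)))).symm
theorem F297529 : act 0 n86063 = n79739 := (sb E46625 (iv1 F132756))
theorem F297530 : act 2 n86063 = n56230 := (sb E46625 F132753)
theorem F297531 : act 4 n86063 = n40111 := (sb E46625 (iv4 D86537))
theorem F297532 : act 6 n86063 = n86502 := (sb E46625 F132754)
theorem E50402 : n163044 = n79598 := (((D79598).symm.trans (sb E46626 (iv2 F257394)))).symm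
theorem E50404 : n79600 = n35730 := ((D79600).symm.trans (sb E46626 (iv6 D78400)))
theorem F297533 : act 6 n78391 = n79574 := (sb E46627 (iv6 D165687))
theorem E50405 : n163023 = n159216 := ((D163023).symm.trans (sb E46628 F260963))
theorem E50406 : n170231 = n163024 := (((D163024).symm.trans (sb E46628 (iv0 F267747)))).symm
theorem F297534 : act 2 n78392 = n157789 := (sb E46628 F260962)
theorem F297535 : act 0 n55863 = n76960 := (sb E46629 (iv1 D160507))
theorem E50409 : n78803 = n77946 := (((D77946).symm.trans (sb E46631 (iv3 F119956)))).symm
theorem F297536 : act 7 n35563 = n17370 := (sb E46631 (iv7 D35877))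
theorem F297537 : act 2 n35905 = n55948 := (sb E46635 F115483)
theorem E50411 : n160374 = n78876 := (((D78876).symm.trans (sb E46635 (iv4 F253321)))).symm
theorem E50412 : n84825 = n58683 := ((((iv5 F92700)).symm.trans (sb E46635 (iv5 F130023)))).symm
theorem E50413 : n58006 = n35129 := (((iv6 F117362)).symm.trans (sb E46635 (iv6 D76876)))
theorem F297538 : act 0 n27675 = n57892 := (sb E46637 F91626)
theorem E50415 : n34770 = n17056 := ((F117444).symm.trans (sb E46637 F55828))
theorem F297539 : act 7 n27675 = n17055 := (sb E46637 (iv7 D35134))
theorem F297540 : act 1 n27676 = n57892 := (sb E46638 (iv0 F91625))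
theorem F297541 : act 2 n27676 = n17055 := (sb E46638 F55806)
theorem F297542 : act 3 n27676 = n34455 := (sb E46638 F55807)
theorem F297543 : act 5 n27676 = n17049 := (sb E46638 (iv5 D35113))
theorem F297544 : act 6 n27676 = n17050 := (sb E46638 F55808)
theorem F297545 : act 0 n27678 = n17055 := (sb E46639 (iv1 D35132))
theorem F297546 : act 2 n27678 = n57892 := (sb E46639 (iv2 F124404))
theorem F297547 : act 1 n27414 = n27255 := (sb E46640 F124312)
theorem F297548 : act 3 n27414 = n17070 := (sb E46640 (iv3 D35157))
theorem E50416 : n76952 = n57234 := (((D57234).symm.trans (sb E46640 D76952))).symm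
theorem F297549 : act 7 n27479 = n27255 := (sb E46642 (iv7 D56716))
theorem E50417 : n124629 = n55796 := (((D55796).symm.trans (sb E46643 (iv3 F199329)))).symm
theorem E50419 : n55797 = n27735 := ((D55797).symm.trans (sb E46643 (iv6 D58217)))
theorem E50420 : n121569 = n27733 := (((D27733).symm.trans (sb E46644 D121569))).symm
theorem F297550 : act 3 n13237 = n27230 := (sb E46644 F88801)
theorem F297551 : act 6 n13237 = n27064 := (sb E46644 (iv6 D56148))
theorem E50421 : n123464 = n122314 := (((D122314).symm.trans (sb E46645 D123464))).symm
theorem E50422 : n123466 = n122316 := (((D122316).symm.trans (sb E46645 D123466))).symm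
theorem E50423 : n123467 = n122317 := (((D122317).symm.trans (sb E46645 D123467))).symm
theorem E50424 : n122318 = n39240 := ((D122318).symm.trans (sb E46645 F120666))
theorem E50425 : n123463 = n39850 := (((D39850).symm.trans (sb E46646 D123463))).symm
theorem F297552 : act 7 n18611 = n27230 := (sb E46647 (iv7 D56641))
theorem F297553 : act 2 n77342 = n57437 := (sb E46648 (iv2 F135917))
theorem E50428 : n159245 = n57436 := (((iv7 F250732)).symm.trans (sb E46648 F121023))
theorem E50429 : n162075 = n124208 := ((D162075).symm.trans (sb E46649 (iv6 F253333)))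
theorem F297554 : act 4 n124332 = n80196 := (sb E46650 F253103)
theorem F297555 : act 6 n124332 = n76805 := (sb E46650 (iv6 D160262))
theorem F297556 : act 0 n124192 = n58037 := (sb E46653 (iv1 F198854))
theorem F297557 : act 1 n124192 = n58036 := (sb E46653 F198855)
theorem F297558 : act 6 n124192 = n170843 := (sb E46653 (iv6 F268447))
theorem F297559 : act 7 n124192 = n57965 := (sb E46653 (iv7 D124335))
theorem E50430 : n122586 = n39169 := ((((iv6 D84771)).symm.trans (sb E46654 F253178))).symm
theorem F297560 : act 5 n35114 = n39170 := (sb E46655 (iv5 F117433))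
theorem F297561 : act 3 n18584 = n37805 := (sb E46656 F89947)
theorem F297562 : act 7 n18584 = n27312 := (sb E46656 (iv7 D56905))
theorem E50434 : n57960 = n57551 := ((D57960).symm.trans (sb E46659 (iv5 F90702)))
theorem F297563 : act 0 n27478 = n13204 := (sb E46660 (iv1 D27654))
theorem E50435 : n55716 = n13221 := ((((iv3 F121098)).symm.trans (sb E46660 (iv3 F88158)))).symm
theorem E50436 : n57962 = n57421 := ((((iv4 F90599)).symm.trans (sb E46660 D57962))).symm
theorem E50437 : n57963 = n57426 := (((D57426).symm.trans (sb E46660 D57963))).symm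
theorem F297564 : act 3 n27629 = n18481 := (sb E46661 F44584)
theorem F297565 : act 7 n27629 = n13204 := (sb E46661 (iv7 D27656))
theorem F297566 : act 0 n166622 = n177334 := (sb E46667 (iv1 F276719))
theorem F297567 : act 1 n166622 = n177332 := (sb E46667 (iv0 F276713))
theorem F297568 : act 2 n166622 = n84533 := (sb E46667 F276413)
theorem F297569 : act 2 n78617 = n84534 := (sb E46668 F260051)
theorem E50442 : n163630 = n124621 := (((iv5 F257892)).symm.trans (sb E46668 (iv5 F260056)))
theorem E50443 : n160672 = n83286 := ((F262072).symm.trans (sb E46669 (iv4 D174241)))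
theorem F297570 : act 7 n166556 = n84531 := (sb E46669 F273036)
theorem F297571 : act 0 n166558 = n177332 := (sb E46670 (iv1 F276714))
theorem F297572 : act 1 n166558 = n177334 := (sb E46670 (iv0 F276718))
theorem F297573 : act 7 n166558 = n84533 := (sb E46670 F276416)
theorem F297574 : act 7 n166616 = n84369 := (sb E46671 (iv7 D177017))
theorem F297575 : act 1 n166617 = n84543 := (sb E46672 F276435)
theorem F297576 : act 2 n166617 = n84547 := (sb E46672 F276431)
theorem F297577 : act 4 n166617 = n84462 := (sb E46672 F276432)
theorem F297578 : act 7 n166617 = n84370 := (sb E46672 (iv7 D177022))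
theorem F297581 : act 2 n166618 = n84548 := (sb E46673 F276436)
theorem F297584 : act 1 n45269 = n37295 := (sb E46674 F89964)
theorem F297585 : act 4 n45269 = n80456 := (sb E46674 F123676)
theorem F297586 : act 1 n35122 = n21590 := (sb E46675 F116937)
theorem F297587 : act 6 n35122 = n21572 := (sb E46675 (iv6 D45206))
theorem F297588 : act 1 n39565 = n26791 := (sb E46676 F116672)
theorem F297592 : act 7 n39565 = n21567 := (sb E46676 (iv7 D45187))
theorem F297593 : act 0 n57909 = n27721 := (sb E46677 (iv1 F91961))
theorem F297594 : act 1 n57909 = n27716 := (sb E46677 (iv0 D58155))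
theorem F297595 : act 2 n57909 = n39214 := (sb E46677 (iv2 F117002))
theorem F297596 : act 7 n57909 = n84521 := (sb E46677 (iv7 F129683))
theorem E50444 : n77514 = n77239 := ((F116390).symm.trans (sb E46678 (iv0 F125987)))
theorem F297597 : act 4 n35542 = n36244 := (sb E46678 (iv4 F56962))
theorem F297598 : act 1 n38898 = n81606 := (sb E46679 F199302)
theorem E50447 : n164726 = n77750 := (((D77750).symm.trans (sb E46681 (iv5 F259748)))).symm
theorem F297599 : act 0 n38901 = n81606 := (sb E46682 F197476)
theorem E50448 : n162871 = n84348 := (((D84348).symm.trans (sb E46683 (iv3 F257178)))).symm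
theorem E50449 : n162893 = n84349 := (((D84349).symm.trans (sb E46683 (iv5 F257202)))).symm
theorem F297600 : act 4 n38892 = n35689 := (sb E46684 F119473)
theorem E50451 : n162851 = n84350 := (((D84350).symm.trans (sb E46684 D162851))).symm
theorem F297601 : act 1 n38893 = n80457 := (sb E46685 (iv0 D167646))
theorem E50452 : n162890 = n84347 := ((((iv3 F129406)).symm.trans (sb E46686 D162890))).symm
theorem F297602 : act 6 n38894 = n57878 := (sb E46686 F121554)
theorem E50454 : n159257 = n79592 := (((D79592).symm.trans (sb E46690 (iv6 F250746)))).symm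
theorem F297603 : act 2 n57930 = n76965 := (sb E46691 (iv2 F115679))
theorem F297604 : act 5 n57930 = n43118 := (sb E46691 F114157)
theorem E50458 : n163383 = n77406 := (((D77406).symm.trans (sb E46698 F266740))).symm
theorem E50462 : n164828 = n163379 := ((D164828).symm.trans (sb E46703 F261660))
theorem F297606 : act 5 n78511 = n36058 := (sb E46704 (iv5 D79201))
theorem E50466 : n164832 = n162970 := ((D164832).symm.trans (sb E46705 (iv5 F257329)))
theorem E50467 : n164833 = n76964 := ((D164833).symm.trans (sb E46705 (iv7 D160519)))
theorem E50468 : n165700 = n78724 := ((((iv4 F119862)).symm.trans (sb E46706 F261029))).symm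
theorem F297610 : act 1 n160510 = n121250 := (sb E46711 F262169)
theorem E50475 : n171058 = n57439 := (((D57439).symm.trans (sb E46713 D171058))).symm
theorem E50476 : n57469 = n13299 := ((((iv7 F44664)).symm.trans (sb E46714 D57469))).symm
theorem E50477 : n163818 = n163363 := (((D163363).symm.trans (sb E46715 F258262))).symm
theorem E50479 : n165797 = n163365 := (((D163365).symm.trans (sb E46715 D165797))).symm
theorem F297612 : act 4 n78506 = n88378 := (sb E46715 (iv4 F135346))
theorem E50484 : n58652 = n36225 := (((iv1 F92636)).symm.trans (sb E46717 (iv1 D79545)))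
theorem E50485 : n36230 = n35675 := (((F56362).symm.trans (sb E46717 F122182))).symm
theorem E50488 : n79262 = n58651 := (((D58651).symm.trans (sb E46718 F121630))).symm
theorem F297613 : act 6 n125304 = n88378 := (sb E46721 (iv6 D185532))
theorem F297614 : act 0 n79861 = n81480 := (sb E46722 (iv1 F201529))
theorem F297615 : act 1 n79861 = n58675 := (sb E46722 (iv0 D125302))
theorem E50493 : n180129 = n166314 := (((D166314).symm.trans (sb E46722 (iv5 F280503)))).symm
theorem F297616 : act 7 n79861 = n86029 := (sb E46722 (iv7 F201531))
theorem F297617 : act 0 n56243 = n58675 := (sb E46723 (iv1 D125303))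
theorem F297618 : act 1 n56243 = n81480 := (sb E46723 F201532)
theorem F297619 : act 2 n56243 = n86029 := (sb E46723 (iv2 F201535))
theorem E50494 : n180130 = n121709 := (((D121709).symm.trans (sb E46723 (iv5 F280499)))).symm
theorem E50495 : n121710 = n120872 := ((D121710).symm.trans (sb E46723 (iv6 F201536)))
theorem F297620 : act 1 n125305 = n121696 := (sb E46724 F287824)
theorem F297621 : act 2 n125305 = n163452 := (sb E46724 F287821)
theorem F297622 : act 1 n39802 = n36382 := (sb E46725 (iv0 D79864))
theorem E50496 : n167720 = n159076 := (((D159076).symm.trans (sb E46726 (iv4 F264023)))).symm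
theorem F297623 : act 4 n96429 = n181223 := (sb E46727 (iv4 F282278))
theorem F297624 : act 3 n17948 = n37257 := (sb E46728 (iv3 F121489))
theorem E50497 : n84784 = n57423 := (((F90600).symm.trans (sb E46729 F141847))).symm
theorem F297625 : act 3 n27643 = n43118 := (sb E46729 F141845)
theorem E50498 : n58647 = n57557 := ((((iv7 F90705)).symm.trans (sb E46729 F141846))).symm
theorem F297627 : act 0 n39179 = n35137 := (sb E46732 F121133)
theorem E50500 : n86191 = n84779 := ((((iv4 F129981)).symm.trans (sb E46732 D86191))).symm
theorem F297628 : act 5 n39179 = n57547 := (sb E46732 F121136)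
theorem F297631 : act 0 n38973 = n35154 := (sb E46736 F116819)
theorem F297636 : act 0 n124603 = n78544 := (sb E46738 (iv1 D163437))
theorem F297640 : act 0 n169888 = n121791 := (sb E46739 (iv1 F287872))
theorem E50503 : n120892 = n18626 := (((D18626).symm.trans (sb E46740 F198673))).symm
theorem E50513 : n120729 = n36395 := (((D36395).symm.trans (sb E46746 F194627))).symm
theorem E50519 : n79705 = n56247 := (((D56247).symm.trans (sb E46749 F244331))).symm
theorem E50520 : n77425 = n26833 := (((F43139).symm.trans (sb E46750 (iv1 D161279)))).symm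
theorem E50524 : n55711 = n18546 := (((F44787).symm.trans (sb E46755 (iv5 D120838)))).symm
theorem E50525 : n83123 = n18545 := (((F44790).symm.trans (sb E46755 F192732))).symm
theorem E50528 : n36124 = n8249 := ((((iv0 F30466)).symm.trans (sb E46757 F88076))).symm
theorem E50529 : n120756 = n12474 := ((((iv3 F20772)).symm.trans (sb E46757 D120756))).symm
theorem F297643 : act 4 n124518 = n80561 := (sb E46759 (iv4 D167857))
theorem E50531 : n160488 = n86501 := (((iv6 F253956)).symm.trans (sb E46759 F264462))
theorem E50532 : n164956 = n80611 := (((iv4 F260112)).symm.trans (sb E46760 F264556))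
theorem F297644 : act 6 n124612 = n121030 := (sb E46760 F264557)
theorem E50533 : n178172 = n163623 := (((iv1 F277722)).symm.trans (sb E46761 F264558))
theorem F297645 : act 1 n124613 = n163626 := (sb E46761 F264559)
theorem E50534 : n121028 = n76161 := ((D121028).symm.trans (sb E46762 F260107))
theorem F297646 : act 6 n55827 = n58187 := (sb E46762 (iv6 D124614))
theorem E50535 : n160489 = n35697 := (((F88302).symm.trans (sb E46762 (iv7 F253958)))).symm
theorem F297647 : act 6 n79541 = n121791 := (sb E46763 F264561)
theorem F297649 : act 0 n55484 = n37257 := (sb E46766 (iv1 F116862))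
theorem F297650 : act 1 n55484 = n37387 := (sb E46766 (iv0 F116849))
theorem E50537 : n84780 = n26794 := (((F87776).symm.trans (sb E46766 (iv3 F129987)))).symm
theorem F297651 : act 5 n55484 = n84521 := (sb E46766 (iv5 F129679))
theorem E50539 : n181676 = n170593 := ((((iv5 F268024)).symm.trans (sb E46768 (iv5 F282785)))).symm
theorem F297652 : act 6 n123188 = n58184 := (sb E46769 (iv6 D124608))
theorem E50541 : n170614 = n170067 := (((D170067).symm.trans (sb E46770 D170614))).symm
theorem F297653 : act 1 n34789 = n57333 := (sb E46771 (iv0 D123186))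
theorem E50542 : n80576 = n58134 := (((D58134).symm.trans (sb E46773 (iv0 D167889)))).symm
theorem F297654 : act 0 n39883 = n57890 := (sb E46777 (iv1 F197630))
theorem F297655 : act 7 n39883 = n57547 := (sb E46777 F197628)
theorem F297656 : act 1 n39884 = n57890 := (sb E46778 (iv0 F197178))
theorem F297657 : act 2 n39884 = n57547 := (sb E46778 F197174)
theorem F297658 : act 3 n39884 = n82946 := (sb E46778 F197175)
theorem F297659 : act 0 n39190 = n57547 := (sb E46779 F196302)
theorem F297660 : act 2 n39190 = n57890 := (sb E46779 F196299)
theorem E50543 : n58005 = n35124 := (((iv0 F91765)).symm.trans (sb E46780 (iv0 D76863)))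
theorem F297661 : act 0 n123480 = n157870 := (sb E46781 F268434)
theorem F297662 : act 2 n123480 = n86173 := (sb E46781 F268431)
theorem F297663 : act 7 n123480 = n86171 := (sb E46781 F268433)
theorem F297664 : act 0 n124190 = n86168 := (sb E46782 (iv1 F268429))
theorem F297665 : act 1 n124190 = n86167 := (sb E46782 F268430)
theorem E50550 : n161960 = n160286 := ((((iv6 F253165)).symm.trans (sb E46787 F258767))).symm
theorem F297668 : act 0 n121281 = n86213 := (sb E46788 F195571)
theorem F297669 : act 3 n121281 = n81496 := (sb E46788 F195569)
theorem F297670 : act 6 n121281 = n56638 := (sb E46788 (iv6 D122313))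
theorem F297671 : act 6 n170156 = n157784 := (sb E46790 F276372)
theorem E50552 : n160342 = n84480 := ((F267670).symm.trans (sb E46790 F276373))
theorem F297672 : act 1 n37293 = n38987 := (sb E46791 (iv0 D84519))
theorem F297673 : act 2 n37293 = n45269 := (sb E46791 (iv2 F129672))
theorem F297674 : act 6 n37293 = n75983 := (sb E46791 F129671)
theorem F297675 : act 5 n38960 = n35122 := (sb E46792 (iv5 D76855))
theorem F297676 : act 7 n38960 = n81606 := (sb E46792 (iv7 F125514))
theorem F297677 : act 6 n162747 = n78564 := (sb E46794 F257255)
theorem E50555 : n144010 = n44794 := ((((iv2 F70373)).symm.trans (sb E46796 (iv2 F226677)))).symm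
theorem F297678 : act 3 n23190 = n31355 := (sb E46796 F103326)
theorem E50556 : n51168 = n48067 := (((D48067).symm.trans (sb E46796 F103327))).symm
theorem E50557 : n144017 = n42730 := (((F291425).symm.trans (sb E46796 D144017))).symm
theorem E50558 : n48068 = n31353 := ((D48068).symm.trans (sb E46796 (iv6 D67473)))
theorem E50559 : n144018 = n47991 := ((((iv7 F75381)).symm.trans (sb E46796 D144018))).symm
theorem E50560 : n144028 = n43941 := ((D144028).symm.trans (sb E46798 F291268))
theorem E50561 : n144021 = n43928 := (((iv6 F226699)).symm.trans (sb E46798 (iv6 F291828)))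
theorem E50562 : n144029 = n91390 := ((D144029).symm.trans (sb E46798 (iv7 F140553)))
theorem F297679 : act 1 n127102 = n78993 := (sb E46801 (iv0 D164480))
theorem F297680 : act 0 n127121 = n78993 := (sb E46802 (iv1 D164481))
theorem F297681 : act 0 n95792 = n59667 := (sb E46803 (iv1 D127119))
theorem F297682 : act 5 n95792 = n61270 := (sb E46803 F204370)
theorem F297683 : act 4 n127118 = n121356 := (sb E46804 F259221)
theorem F297684 : act 6 n127118 = n103176 := (sb E46804 F259222)
theorem F297685 : act 7 n127118 = n78993 := (sb E46804 (iv7 D164483))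
theorem F297686 : act 0 n37382 = n27452 := (sb E46805 (iv1 F61349))
theorem F297687 : act 1 n37382 = n19049 := (sb E46805 (iv0 D40297))
theorem F297688 : act 2 n37382 = n27449 := (sb E46805 F121171)
theorem F297689 : act 7 n37382 = n27450 := (sb E46805 F121172)
theorem F297690 : act 6 n18499 = n8695 := (sb E46806 (iv6 D18502))
theorem F297691 : act 0 n18825 = n27450 := (sb E46807 (iv1 F61350))
theorem F297692 : act 1 n18825 = n27449 := (sb E46807 F61351)
theorem F297693 : act 2 n18825 = n27452 := (sb E46807 F61347)
theorem F297694 : act 7 n18825 = n19049 := (sb E46807 (iv7 D40300))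
theorem E50568 : n86674 = n85634 := (((iv7 F132914)).symm.trans (sb E46809 F131374))
theorem E50569 : n169953 = n96728 := ((D169953).symm.trans (sb E46810 (iv1 F149148)))
theorem E50570 : n167706 = n96731 := (((iv0 F263993)).symm.trans (sb E46810 (iv0 F149163)))
theorem E50573 : n86675 = n85635 := (((iv7 F132915)).symm.trans (sb E46810 F131376))
theorem F297696 : act 0 n39564 = n18982 := (sb E46811 (iv1 F61084))
theorem F297697 : act 1 n39564 = n18977 := (sb E46811 (iv0 D40178))
theorem F297698 : act 7 n39564 = n37222 := (sb E46811 (iv7 F116740))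
theorem E50574 : n18792 = n6271 := (((F21911).symm.trans (sb E46812 F44951))).symm
theorem F297699 : act 3 n13136 = n18727 := (sb E46812 F44948)
theorem E50575 : n58500 = n27445 := (((D27445).symm.trans (sb E46812 D58500))).symm
theorem E50576 : n39699 = n27446 := (((D27446).symm.trans (sb E46812 (iv6 F60574)))).symm
theorem F297700 : act 1 n16819 = n21567 := (sb E46814 (iv0 D45185))
theorem F297701 : act 2 n16819 = n26791 := (sb E46814 F116674)
theorem F297702 : act 0 n45175 = n21567 := (sb E46815 (iv1 D45186))
theorem F297703 : act 3 n45175 = n26756 := (sb E46815 F116676)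
theorem F297705 : act 7 n45175 = n26791 := (sb E46815 F116679)
theorem E50579 : n32776 = n26767 := (((D26767).symm.trans (sb E46818 (iv3 F51895)))).symm
theorem E50580 : n27262 = n26769 := (((D26769).symm.trans (sb E46818 (iv6 F44111)))).symm
theorem F297706 : act 7 n12809 = n6216 := (sb E46819 (iv7 D13062))
theorem E50585 : n122347 = n27343 := (((D27343).symm.trans (sb E46820 (iv6 F195655)))).symm
theorem F297707 : act 0 n13104 = n27260 := (sb E46822 (iv1 F89634))
theorem F297708 : act 1 n13104 = n27259 := (sb E46822 F89635)
theorem E50587 : n122351 = n27349 := (((D27349).symm.trans (sb E46822 (iv5 F195667)))).symm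
theorem F297709 : act 7 n13104 = n27241 := (sb E46822 (iv7 D56670))
theorem F297710 : act 0 n13060 = n6237 := (sb E46823 (iv1 F121117))
theorem F297711 : act 2 n13060 = n26771 := (sb E46823 (iv2 F121112))
theorem E50588 : n18795 = n18518 := ((F117163).symm.trans (sb E46823 F29699))
theorem E50589 : n120426 = n88817 := (((iv4 F191855)).symm.trans (sb E46824 (iv4 D186475)))
theorem E50594 : n121940 = n37358 := (((iv1 F194663)).symm.trans (sb E46827 (iv1 F125447)))
theorem E50595 : n122603 = n37357 := ((D122603).symm.trans (sb E46827 F125452))
theorem E50596 : n122604 = n81748 := ((D122604).symm.trans (sb E46827 (iv4 F125655)))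
theorem E50597 : n170057 = n101278 := ((((iv6 F156049)).symm.trans (sb E46827 D170057))).symm
theorem E50598 : n122609 = n37381 := (((D37381).symm.trans (sb E46828 D122609))).symm
theorem E50602 : n122529 = n18184 := (((D18184).symm.trans (sb E46831 D122529))).symm
theorem E50603 : n29292 = n18185 := (((D18185).symm.trans (sb E46831 F89914))).symm
theorem E50604 : n35008 = n26324 := (((D26324).symm.trans (sb E46832 F57742))).symm
theorem E50605 : n48204 = n26325 := (((D26325).symm.trans (sb E46832 (iv0 F75762)))).symm
theorem E50607 : n40568 = n14134 := ((((iv5 F23611)).symm.trans (sb E46832 (iv5 F61694)))).symm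
theorem E50608 : n22100 = n14141 := ((((iv4 F23623)).symm.trans (sb E46833 F56848))).symm
theorem E50611 : n161029 = n55136 := (((F110405).symm.trans (sb E46834 D161029))).symm
theorem E50614 : n96761 = n14134 := (E47090).trans E50607
theorem E50615 : n122769 = n96770 := (((D96770).symm.trans (sb E46835 (iv3 F196653)))).symm
theorem E50616 : n121801 = n70544 := ((((iv4 F107010)).symm.trans (sb E46835 (iv4 F194405)))).symm
theorem E50619 : n96762 = n54643 := ((D96762).symm.trans (sb E46836 F116070))
theorem E50620 : n96773 = n40120 := ((D96773).symm.trans (sb E46837 F74439))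
theorem E50621 : n96774 = n71368 := ((D96774).symm.trans (sb E46837 F107864))
theorem E50622 : n96775 = n86513 := ((D96775).symm.trans (sb E46837 (iv4 F132719)))
theorem E50623 : n101280 = n96766 := ((((iv6 F149243)).symm.trans (sb E46837 D101280))).symm
theorem F297712 : act 4 n19073 = n21584 := (sb E46838 (iv4 D45242))
theorem E50626 : n96789 = n40355 := (((D40355).symm.trans (sb E46838 (iv6 F149253)))).symm
theorem E50627 : n98090 = n96787 := (((D96787).symm.trans (sb E46839 (iv1 F232436)))).symm
theorem E50628 : n98095 = n96788 := (((D96788).symm.trans (sb E46839 (iv0 F232433)))).symm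
theorem E50629 : n101284 = n96790 := (((D96790).symm.trans (sb E46839 D101284))).symm
theorem E50633 : n77545 = n77374 := ((D77545).symm.trans (sb E46843 (iv5 D161175)))
theorem E50634 : n77551 = n77489 := ((((iv7 F117831)).symm.trans (sb E46843 F254856))).symm
theorem E50635 : n161400 = n35375 := (((F56083).symm.trans (sb E46844 (iv4 F255234)))).symm
theorem E50636 : n158831 = n38951 := (((D38951).symm.trans (sb E46844 (iv5 F250076)))).symm
theorem E50637 : n35483 = n35376 := (((F121182).symm.trans (sb E46845 F117130))).symm
theorem E50638 : n158832 = n123189 := (((D123189).symm.trans (sb E46845 F250082))).symm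
theorem F297716 : act 6 n77730 = n36791 := (sb E46846 (iv6 D80618))
theorem E50639 : n77553 = n38381 := (((D38381).symm.trans (sb E46847 (iv6 D161523)))).symm
theorem F297717 : act 0 n18313 = n17176 := (sb E46849 (iv1 D35405))
theorem E50640 : n56052 = n38384 := (((D38384).symm.trans (sb E46849 F88719))).symm
theorem E50641 : n77555 = n38385 := (((D38385).symm.trans (sb E46849 D77555))).symm
theorem E50642 : n119665 = n35370 := (((D35370).symm.trans (sb E46850 (iv1 F244427)))).symm
theorem E50643 : n155450 = n35371 := (((D35371).symm.trans (sb E46850 (iv0 F244426)))).symm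
theorem E50645 : n155487 = n35372 := (((D35372).symm.trans (sb E46850 (iv5 F244490)))).symm
theorem E50646 : n119857 = n35373 := (((D35373).symm.trans (sb E46850 (iv6 F189187)))).symm
theorem E50647 : n80285 = n35377 := (((D35377).symm.trans (sb E46852 F126167))).symm
theorem E50648 : n86856 = n35378 := (((D35378).symm.trans (sb E46852 F133213))).symm
theorem F297718 : act 0 n12960 = n27044 := (sb E46854 F119201)
theorem E50649 : n121434 = n26613 := ((((iv3 F42627)).symm.trans (sb E46854 D121434))).symm
theorem E50650 : n121435 = n27048 := (((D27048).symm.trans (sb E46854 D121435))).symm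
theorem E50651 : n56455 = n15995 := (E46855).trans E50097
theorem E50652 : n26416 = n8313 := (((iv2 F42163)).symm.trans (sb E50651 (tr (iv2 F194783) E47328)))
theorem E50653 : n118504 = n33168 := (((D33168).symm.trans (sb E50651 (iv3 F186414)))).symm
theorem E50656 : n33170 = n27124 := ((D33170).symm.trans (sb E50651 (tr (iv7 D56455) E47329)))
theorem E50659 : n121847 = n27167 := (((D27167).symm.trans (sb E46856 (iv6 F194513)))).symm
theorem E50660 : n86828 = n39404 := ((D86828).symm.trans (sb E46857 F61245))
theorem E50661 : n86829 = n80271 := ((D86829).symm.trans (sb E46857 F123359))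
theorem E50662 : n181810 = n27805 := (((F60809).symm.trans (sb E46858 D181810))).symm
theorem E50663 : n86341 = n80270 := ((D86341).symm.trans (sb E46858 F133123))
theorem E50664 : n80375 = n80374 := (((iv6 F123488)).symm.trans (sb E46858 F133121))
theorem F297719 : act 4 n56064 = n85627 := (sb E46859 F275760)
theorem E50665 : n121484 = n86831 := ((((iv7 F133127)).symm.trans (sb E46859 F275761))).symm
theorem E50666 : n121446 = n77326 := ((D121446).symm.trans (sb E46860 (iv1 D161111)))
theorem E50667 : n121447 = n77450 := ((D121447).symm.trans (sb E46860 F254683))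
theorem E50669 : n56128 = n38776 := ((((iv1 F91167)).symm.trans (sb E46862 F122560))).symm
theorem E50670 : n84138 = n77618 := (((D77618).symm.trans (sb E46862 D84138))).symm
theorem F297720 : act 4 n35432 = n18439 := (sb E46862 (iv4 D38782))
theorem E50671 : n77619 = n77446 := ((D77619).symm.trans (sb E46862 F116249))
theorem E50672 : n77445 = n38778 := (((D38778).symm.trans (sb E46863 F193922))).symm
theorem E50673 : n77812 = n38779 := (((D38779).symm.trans (sb E46863 F193924))).symm
theorem E50674 : n128451 = n27409 := (((D27409).symm.trans (sb E46865 (iv3 F206584)))).symm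
theorem E50677 : n27674 = n27413 := (((D27413).symm.trans (sb E46866 (iv0 D58024)))).symm
theorem E50678 : n124377 = n27465 := (((D27465).symm.trans (sb E46868 F268784))).symm
theorem E50679 : n124321 = n27466 := (((D27466).symm.trans (sb E46868 F268786))).symm
theorem E50680 : n122309 = n27468 := (((D27468).symm.trans (sb E46868 F268782))).symm
theorem E50682 : n39184 = n27472 := (((D27472).symm.trans (sb E46869 (iv5 F91794)))).symm
theorem E50685 : n76926 = n27477 := (((D27477).symm.trans (sb E46870 F117432))).symm
theorem F297721 : act 6 n13148 = n27228 := (sb E46871 (iv6 D56632))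
theorem E50688 : n174105 = n78276 := (((D78276).symm.trans (sb E46873 (iv3 F272914)))).symm
theorem F297722 : act 6 n35687 = n38892 := (sb E46873 (iv6 D84351))
theorem E50690 : n123183 = n81689 := ((D123183).symm.trans (sb E46874 (iv1 F149211)))
theorem F297723 : act 1 n57328 = n45212 := (sb E46874 (iv0 D96749))
theorem E50691 : n81687 = n78291 := ((((iv7 F121566)).symm.trans (sb E46874 F149210))).symm
theorem E50692 : n169882 = n78290 := (((D78290).symm.trans (sb E46875 (iv3 F267307)))).symm
theorem F297724 : act 6 n35691 = n37203 := (sb E46875 (iv6 D81478))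
theorem E50694 : n170202 = n86491 := (((D86491).symm.trans (sb E46876 (iv5 F267726)))).symm
theorem E50695 : n81781 = n81566 := (((iv6 F125713)).symm.trans (sb E46876 F129636))
theorem F297725 : act 3 n37256 = n17947 := (sb E46877 F58310)
theorem F297726 : act 6 n37256 = n27449 := (sb E46877 F121176)
theorem E50696 : n161887 = n86492 := (((D86492).symm.trans (sb E46878 (iv3 F255877)))).symm
theorem F297727 : act 6 n40070 = n38900 := (sb E46878 (iv6 D84361))
theorem F297728 : act 0 n57337 = n37313 := (sb E46879 (iv1 F116773))
theorem F297729 : act 1 n57337 = n34789 := (sb E46879 (iv0 D76159))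
theorem E50698 : n159212 = n123191 := (((D123191).symm.trans (sb E46879 D159212))).symm
theorem F297730 : act 7 n57337 = n76942 := (sb E46879 F116929)
theorem E50699 : n62837 = n54643 := (((F86392).symm.trans (sb E46880 F109941))).symm
theorem E50700 : n62841 = n40147 := ((((iv0 F61050)).symm.trans (sb E46880 F131130))).symm
theorem E50701 : n106089 = n71368 := (((F107863).symm.trans (sb E46880 (iv2 F163092)))).symm
theorem E50702 : n70807 = n40117 := ((((iv5 F61007)).symm.trans (sb E46880 (iv5 F107273)))).symm
theorem E50703 : n79283 = n23919 := ((D79283).symm.trans (sb E46880 (iv6 D49035)))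
theorem E50704 : n70808 = n18353 := ((D70808).symm.trans (sb E46881 F56778))
theorem F297731 : act 5 n32816 = n17460 := (sb E46881 F56777)
theorem F297732 : act 6 n11199 = n17460 := (sb E46882 (iv6 D36090))
theorem E50710 : n164859 = n107859 := (((iv4 F259892)).symm.trans (sb E46885 F279480))
theorem E50711 : n168089 = n85643 := ((D168089).symm.trans (sb E46885 (iv6 D179509)))
theorem E50712 : n168163 = n32687 := (((F131157).symm.trans (sb E46886 F265087))).symm
theorem E50714 : n151739 = n106087 := ((((iv2 F163082)).symm.trans (sb E46886 (iv2 F238634)))).symm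
theorem F297733 : act 6 n49033 = n40043 := (sb E46886 (iv6 D86449))
theorem E50717 : n121937 = n81737 := ((((iv0 F131330)).symm.trans (sb E46887 (iv0 F194650)))).symm
theorem E50718 : n181013 = n125297 := (((D125297).symm.trans (sb E46887 D181013))).symm
theorem F297734 : act 2 n40100 = n37200 := (sb E46888 F71139)
theorem E50720 : n96663 = n86528 := (((D86528).symm.trans (sb E46888 (iv3 F148966)))).symm
theorem F297735 : act 4 n40100 = n21557 := (sb E46888 F71140)
theorem E50721 : n96671 = n86529 := (((D86529).symm.trans (sb E46888 (iv5 F148983)))).symm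
theorem F297736 : act 6 n40100 = n27865 := (sb E46888 F116783)
theorem F297737 : act 7 n40100 = n21553 := (sb E46888 (iv7 D45145))
theorem E50724 : n86517 = n79068 := ((D86517).symm.trans (sb E46891 F126194))
theorem E50729 : n169857 = n86530 := (((D86530).symm.trans (sb E46893 (iv1 F267278)))).symm
theorem E50730 : n86531 = n81794 := ((D86531).symm.trans (sb E46893 F146841))
theorem E50731 : n169865 = n86532 := (((D86532).symm.trans (sb E46893 D169865))).symm
theorem F297738 : act 0 n40102 = n37200 := (sb E46894 F126051)
theorem F297739 : act 1 n40102 = n21553 := (sb E46894 F126052)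
theorem F297741 : act 7 n179480 = n86794 := (sb E46895 F279552)
theorem F297742 : act 2 n179481 = n86794 := (sb E46896 F282029)
theorem F297743 : act 4 n179481 = n175414 := (sb E46896 (iv4 F282028))
theorem E50734 : n179523 = n86794 := ((F279516).symm.trans (sb E46897 (iv0 F282027)))
theorem F297744 : act 4 n179482 = n119220 := (sb E46897 F282026)
theorem F297745 : act 6 n179482 = n86482 := (sb E46897 (iv6 D181081))
theorem E50735 : n161646 = n121482 := (((F193843).symm.trans (sb E46899 F281917))).symm
theorem E50736 : n161643 = n124571 := (((D124571).symm.trans (sb E46900 D161643))).symm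
theorem E50738 : n161638 = n124573 := (((D124573).symm.trans (sb E46900 (iv2 F255647)))).symm
theorem F297746 : act 6 n58151 = n35449 := (sb E46900 (iv6 D77637))
theorem F297747 : act 0 n40182 = n27865 := (sb E46903 (iv1 F90438))
theorem F297748 : act 1 n40182 = n21545 := (sb E46903 F116724)
theorem E50744 : n123934 = n86692 := ((((iv4 F132948)).symm.trans (sb E46904 F279420))).symm
theorem E50745 : n177330 = n86699 := (((D86699).symm.trans (sb E46904 F279421))).symm
theorem E50747 : n86702 = n38958 := ((D86702).symm.trans (sb E46906 (iv1 D84478)))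
theorem E50748 : n86703 = n81764 := ((D86703).symm.trans (sb E46906 (iv5 F129607)))
theorem E50749 : n81772 = n80579 := ((((iv7 F123886)).symm.trans (sb E46906 F129605))).symm
theorem F297752 : act 1 n58115 = n86368 := (sb E46912 F134044)
theorem E50756 : n167900 = n124576 := (((D124576).symm.trans (sb E46913 (iv1 F264544)))).symm
theorem E50757 : n167902 = n124577 := (((D124577).symm.trans (sb E46913 (iv0 F264547)))).symm
theorem E50760 : n39168 = n27438 := ((((iv4 F44356)).symm.trans (sb E46914 (iv4 F60158)))).symm
theorem F297754 : act 6 n13137 = n8729 := (sb E46914 (iv6 D18585))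
theorem F297755 : act 1 n8807 = n6252 := (sb E46915 (iv0 D13135))
theorem F297756 : act 2 n8807 = n6269 := (sb E46915 F44534)
theorem E50761 : n27441 = n18794 := (((D18794).symm.trans (sb E46915 D27441))).symm
theorem E50762 : n39128 = n27596 := (((D27596).symm.trans (sb E46916 (iv1 F129829)))).symm
theorem E50764 : n27837 = n27600 := (((D27600).symm.trans (sb E46916 F60570))).symm
theorem F297757 : act 0 n13186 = n8804 := (sb E46917 (iv1 F22075))
theorem F297758 : act 1 n13186 = n8481 := (sb E46917 (iv0 F117175))
theorem F297759 : act 2 n13186 = n6301 := (sb E46917 (iv2 D13279))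
theorem F297760 : act 3 n13186 = n8783 := (sb E46917 F22071)
theorem F297761 : act 7 n13186 = n8805 := (sb E46917 F22072)
theorem F297762 : act 0 n57797 = n45219 := (sb E46919 F131223)
theorem E50772 : n40271 = n17560 := ((((iv0 F30420)).symm.trans (sb E46920 F61260))).symm
theorem E50778 : n181042 = n85643 := (((D85643).symm.trans (sb E46922 D181042))).symm
theorem E50786 : n120625 = n26792 := (((D26792).symm.trans (sb E46927 D120625))).symm
theorem F297763 : act 0 n13193 = n8729 := (sb E46929 (iv1 F29807))
theorem F297764 : act 2 n13193 = n8731 := (sb E46929 F29805)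
theorem E50787 : n39090 = n27627 := (((D27627).symm.trans (sb E46929 (iv4 F60097)))).symm
theorem F297765 : act 7 n13193 = n8723 := (sb E46929 (iv7 D18566))
theorem E50793 : n167721 = n96668 := (((D96668).symm.trans (sb E46938 F281819))).symm
theorem F297766 : act 5 n170591 = n86368 := (sb E46939 (iv5 D180830))
theorem F297767 : act 0 n78325 = n38900 := (sb E46940 (iv1 F125272))
theorem F297768 : act 1 n78325 = n38897 := (sb E46940 F125273)
theorem F297769 : act 2 n78325 = n38954 := (sb E46940 F125270)
theorem E50795 : n162924 = n123531 := ((D162924).symm.trans (sb E46940 (iv3 F197957)))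
theorem F297770 : act 7 n78325 = n37191 := (sb E46940 (iv7 D81436))
theorem E50796 : n176142 = n169797 := (((D169797).symm.trans (sb E46941 D176142))).symm
theorem E50797 : n176143 = n169798 := (((D169798).symm.trans (sb E46941 D176143))).symm
theorem F297771 : act 0 n81525 = n86479 := (sb E46943 (iv1 D181075))
theorem F297772 : act 7 n58170 = n86479 := (sb E46944 (iv7 D181077))
theorem F297773 : act 7 n58171 = n86480 := (sb E46945 (iv7 D181080))
theorem E50800 : n36157 = n7592 := (((F42185).symm.trans (sb E46946 F89267))).symm
theorem E50802 : n79341 = n26268 := ((((iv3 F41720)).symm.trans (sb E46948 D79341))).symm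
theorem F297774 : act 0 n13192 = n8723 := (sb E46953 (iv1 D18564))
theorem F297775 : act 1 n13192 = n8731 := (sb E46953 F29802)
theorem F297776 : act 2 n13192 = n8729 := (sb E46953 (iv2 F117481))
theorem F297777 : act 0 n18562 = n27454 := (sb E46954 F126183)
theorem E50815 : n122570 = n39088 := (((D39088).symm.trans (sb E46954 F196280))).symm
theorem E50819 : n154461 = n124505 := (((D124505).symm.trans (sb E46955 (iv0 F242506)))).symm
theorem E50824 : n79358 = n39215 := (((D39215).symm.trans (sb E46957 (iv4 F192599)))).symm
theorem F297778 : act 0 n78614 = n84534 := (sb E46958 (iv1 F136112))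
theorem E50825 : n178171 = n163622 := (((D163622).symm.trans (sb E46958 D178171))).symm
theorem F297779 : act 4 n78614 = n39214 := (sb E46958 (iv4 D84809))
theorem E50826 : n164180 = n163624 := (((D163624).symm.trans (sb E46958 (iv6 F258739)))).symm
theorem F297780 : act 3 n55499 = n84521 := (sb E46959 F129684)
theorem E50827 : n170810 = n120534 := (((D120534).symm.trans (sb E46959 (iv4 F268397)))).symm
theorem F297781 : act 1 n78615 = n84534 := (sb E46960 F260721)
theorem F297782 : act 4 n78615 = n84521 := (sb E46960 F260723)
theorem F297783 : act 2 n3744 = n6176 := (sb E46973 F21608)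
theorem F297784 : act 6 n3744 = n6172 := (sb E46973 (iv6 D12991))
theorem E50852 : n33100 = n7472 := (((D7472).symm.trans (sb E46975 D33100))).symm
theorem E50853 : n33101 = n7473 := (((D7473).symm.trans (sb E46975 D33101))).symm
theorem E50874 : n119922 = n7588 := (((D7588).symm.trans (sb E46985 (iv2 F189336)))).symm
theorem E50876 : n26672 = n7590 := (((D7590).symm.trans (sb E46985 (iv6 D55199)))).symm
theorem E50889 : n124132 = n13284 := (((D13284).symm.trans (sb E46996 D124132))).symm
theorem E50891 : n36097 = n8812 := ((((iv6 F13687)).symm.trans (sb E46996 F91138))).symm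
theorem E50898 : n19023 = n17188 := ((D19023).symm.trans (sb E47000 (iv5 D35444)))
theorem E50901 : n80766 = n8764 := (((D8764).symm.trans (sb E47001 F124268))).symm
theorem F297785 : act 0 n8908 = n12870 := (sb E47002 F59715)
theorem E50902 : n40272 = n18687 := ((((iv4 F30425)).symm.trans (sb E47002 D40272))).symm
theorem F297786 : act 1 n8909 = n8216 := (sb E47003 (iv0 D17464))
theorem F297787 : act 2 n8911 = n8908 := (sb E47004 F30395)
theorem F297788 : act 5 n8911 = n8850 := (sb E47004 F28551)
theorem E50904 : n19035 = n17715 := ((D19035).symm.trans (sb E47004 F28779))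
theorem E50905 : n124927 = n8767 := (((D8767).symm.trans (sb E47005 (iv3 F200656)))).symm
theorem F297789 : act 1 n8913 = n12870 := (sb E47006 F59701)
theorem F297790 : act 3 n8913 = n8850 := (sb E47006 (iv3 D18896))
theorem E50908 : n39962 = n13267 := ((((iv4 F29957)).symm.trans (sb E47006 D39962))).symm
theorem F297791 : act 7 n8913 = n8911 := (sb E47006 F30404)
theorem E50911 : n124414 = n38144 := ((((iv0 F118802)).symm.trans (sb E47010 F264212))).symm
theorem F297792 : act 0 n36734 = n19496 := (sb E47011 F118918)
theorem F297793 : act 1 n36734 = n18936 := (sb E47011 F118919)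
theorem F297794 : act 2 n36734 = n19493 := (sb E47011 F118785)
theorem E50912 : n26873 = n17718 := (((F57610).symm.trans (sb E47011 F118621))).symm
theorem F297795 : act 7 n36734 = n19494 := (sb E47011 F118786)
theorem F297796 : act 3 n38310 = n35689 := (sb E47012 F88332)
theorem F297797 : act 5 n38310 = n77151 := (sb E47012 F121268)
theorem F297798 : act 6 n38310 = n26940 := (sb E47012 (iv6 D55844))
theorem E50913 : n160483 = n86500 := (((D86500).symm.trans (sb E47013 (iv5 F253504)))).symm
theorem E50914 : n84443 = n35692 := (((D35692).symm.trans (sb E47015 (iv3 F129585)))).symm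
theorem E50915 : n84450 = n35693 := (((D35693).symm.trans (sb E47015 D84450))).symm
theorem F297799 : act 6 n17299 = n18490 := (sb E47015 (iv6 D38937))
theorem F297800 : act 0 n38914 = n18960 := (sb E47017 F120712)
theorem F297801 : act 2 n38914 = n27093 := (sb E47017 F118109)
theorem E50916 : n86534 = n84383 := ((((iv3 F129505)).symm.trans (sb E47017 D86534))).symm
theorem F297802 : act 4 n38914 = n18952 := (sb E47017 (iv4 D40110))
theorem E50917 : n86535 = n84386 := ((((iv5 F129507)).symm.trans (sb E47017 D86535))).symm
theorem E50918 : n86546 = n74928 := ((D86546).symm.trans (sb E47018 F185004))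
theorem E50919 : n86547 = n54332 := ((D86547).symm.trans (sb E47018 (iv6 D117945)))
theorem E50920 : n79214 = n73969 := (((iv4 F120492)).symm.trans (sb E47019 (iv4 D155516)))
theorem E50921 : n86550 = n85597 := ((D86550).symm.trans (sb E47019 F244532))
theorem F297803 : act 1 n40120 = n74758 := (sb E47020 (iv0 F122476))
theorem E50923 : n131654 = n86549 := ((((iv2 F132786)).symm.trans (sb E47020 (iv2 F211005)))).symm
theorem E50924 : n81026 = n80684 := ((((iv5 F124118)).symm.trans (sb E47020 (iv5 F124780)))).symm
theorem E50925 : n86552 = n60385 := ((D86552).symm.trans (sb E47020 F122474))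
theorem E50926 : n86555 = n70446 := ((D86555).symm.trans (sb E47021 (iv0 F206533)))
theorem E50927 : n131653 = n86551 := ((((iv2 F132792)).symm.trans (sb E47021 (iv2 F210999)))).symm
theorem E50929 : n86557 = n60378 := ((D86557).symm.trans (sb E47021 (iv7 D128409)))
theorem F297804 : act 0 n39799 = n35687 := (sb E47023 F121227)
theorem F297805 : act 1 n39799 = n26933 := (sb E47023 F121228)
theorem F297806 : act 2 n39799 = n35691 := (sb E47023 F121052)
theorem F297807 : act 7 n39799 = n18957 := (sb E47023 (iv7 D40127))
theorem E50932 : n86576 = n86023 := ((D86576).symm.trans (sb E47025 (iv1 F148165)))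
theorem E50933 : n86577 = n86022 := ((D86577).symm.trans (sb E47025 F148166))
theorem F297808 : act 2 n40134 = n58671 := (sb E47025 F148163)
theorem F297809 : act 7 n40147 = n45225 := (sb E47031 (iv7 D96776))
theorem E50938 : n86604 = n81750 := ((D86604).symm.trans (sb E47033 F149275))
theorem E50939 : n95882 = n33007 := (((D33007).symm.trans (sb E47034 F148609))).symm
theorem E50941 : n95894 = n86606 := (((D86606).symm.trans (sb E47036 D95894))).symm
theorem E50942 : n95895 = n86607 := (((D86607).symm.trans (sb E47036 D95895))).symm
theorem F297810 : act 2 n40149 = n45229 := (sb E47036 (iv2 F71297))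
theorem F297811 : act 5 n40149 = n21321 := (sb E47036 (iv5 D44769))
theorem E50943 : n95897 = n86609 := (((D86609).symm.trans (sb E47036 D95897))).symm
theorem E50944 : n86628 = n85596 := (((D85596).symm.trans (sb E47037 D86628))).symm
theorem E50945 : n86629 = n85597 := (((D85597).symm.trans (sb E47037 D86629))).symm
theorem E50946 : n86630 = n85591 := ((((iv2 F131230)).symm.trans (sb E47037 D86630))).symm
theorem E50947 : n86631 = n18754 := (((F60434).symm.trans (sb E47037 D86631))).symm
theorem E50953 : n179364 = n86643 := (((D86643).symm.trans (sb E47039 D179364))).symm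
theorem F297813 : act 2 n40159 = n39570 := (sb E47040 (iv2 F125595))
theorem F297814 : act 2 n40160 = n39571 := (sb E47041 F125685)
theorem F297815 : act 4 n40160 = n37379 := (sb E47041 (iv4 D81770))
theorem E50959 : n170039 = n80571 := ((((iv5 F123878)).symm.trans (sb E47041 (iv5 F267476)))).symm
theorem F297816 : act 1 n34729 = n18972 := (sb E47042 (iv0 D40161))
theorem E50967 : n39237 = n27829 := ((((iv0 F61130)).symm.trans (sb E47048 (iv0 F120563)))).symm
theorem E50968 : n86693 = n55469 := ((D86693).symm.trans (sb E47048 (iv5 F91466)))
theorem E50969 : n86694 = n81808 := ((D86694).symm.trans (sb E47048 F125743))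
theorem F297818 : act 6 n36770 = n21209 := (sb E47050 (iv6 D44589))
theorem F297819 : act 2 n105944 = n58125 := (sb E47053 (iv2 D124538))
theorem F297820 : act 6 n124539 = n88110 := (sb E47054 F281498)
theorem E50970 : n84631 = n57884 := (((F198631).symm.trans (sb E47056 F199150))).symm
theorem F297821 : act 7 n124170 = n58106 := (sb E47056 (iv7 D124507))
theorem F297822 : act 1 n124171 = n58133 := (sb E47057 F199165)
theorem F297823 : act 2 n124171 = n58136 := (sb E47057 F199162)
theorem F297824 : act 7 n124171 = n58108 := (sb E47057 (iv7 D124512))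
theorem E50971 : n167852 = n81638 := (((F199206).symm.trans (sb E47058 F281505))).symm
theorem F297825 : act 6 n124543 = n88124 := (sb E47060 F281510)
theorem F297826 : act 6 n41143 = n58127 := (sb E47061 (iv6 D124544))
theorem F297827 : act 6 n80560 = n36817 := (sb E47063 (iv6 D80669))
theorem F297828 : act 0 n124584 = n78599 := (sb E47065 (iv1 D163587))
theorem F297829 : act 1 n124584 = n78617 := (sb E47065 F257848)
theorem F297830 : act 2 n124584 = n78615 := (sb E47065 (iv2 F257851))
theorem F297831 : act 7 n124584 = n78614 := (sb E47065 F257849)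
theorem F297832 : act 5 n124620 = n78599 := (sb E47066 (iv5 D163588))
theorem E50978 : n77289 = n13623 := (((F43047).symm.trans (sb E47069 F286758))).symm
theorem E50981 : n148933 = n32419 := (((D32419).symm.trans (sb E47069 (iv6 F286760)))).symm
theorem E50982 : n168069 = n32420 := (((D32420).symm.trans (sb E47070 (iv3 F264903)))).symm
theorem E50983 : n168072 = n7866 := (((F43051).symm.trans (sb E47070 D168072))).symm
theorem E50984 : n36823 = n32422 := (((D32422).symm.trans (sb E47070 (iv6 D80678)))).symm
theorem E50991 : n168501 = n32426 := (((D32426).symm.trans (sb E47073 D168501))).symm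
theorem E50993 : n168503 = n24315 := ((((iv5 F38100)).symm.trans (sb E47073 D168503))).symm
theorem E51010 : n120880 = n32430 := (((D32430).symm.trans (sb E47078 (iv5 F192788)))).symm
theorem E51011 : n36852 = n16846 := (((F43129).symm.trans (sb E47078 (iv6 D80724)))).symm
theorem E51019 : n36552 = n35507 := ((D36552).symm.trans (sb E47082 (iv5 F56192)))
theorem E51021 : n168198 = n26736 := (((D26736).symm.trans (sb E47083 (iv3 F265158)))).symm
theorem E51024 : n26947 = n26911 := ((F43467).symm.trans (sb E47084 F88180))
theorem E51025 : n27101 = n26906 := (((iv0 F43799)).symm.trans (sb E47084 (iv0 D55741)))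
theorem F297833 : act 0 n17678 = n8375 := (sb E47085 (iv1 D17759))
theorem F297834 : act 1 n17678 = n17439 := (sb E47085 F28888)
theorem E51028 : n36710 = n26936 := ((D36710).symm.trans (sb E47086 F43438))
theorem E51029 : n36711 = n27153 := ((D36711).symm.trans (sb E47086 (iv6 F43896)))
theorem E51030 : n148472 = n26740 := (((D26740).symm.trans (sb E47087 (iv3 F232218)))).symm
theorem E51034 : n45221 = n29735 := (((D29735).symm.trans (sb E50614 (iv1 D96761)))).symm
theorem E51035 : n45224 = n16579 := (((F26912).symm.trans (sb E50614 (iv2 F149234)))).symm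
theorem E51036 : n72345 = n29734 := ((((iv4 F47808)).symm.trans (sb E50614 (iv4 F190471)))).symm
theorem E51037 : n155183 = n6714 := ((((iv6 D14134)).symm.trans (sb E50614 (iv6 F244007)))).symm
theorem E51038 : n45223 = n29737 := (((D29737).symm.trans (sb E50614 F149232))).symm
theorem E51039 : n40569 = n34256 := ((((iv1 F53913)).symm.trans (iv1 (sb E47091 (tr (iv0 F110401) E51034))))).symm
theorem E51040 : n73705 = n34256 := (E47091).trans E51039
theorem E51041 : n155201 = n61693 := ((((iv3 F96285)).symm.trans (sb E51040 (iv3 F244056)))).symm
theorem E51042 : n74704 = n33866 := (((iv4 F112116)).symm.trans (sb E51040 F110400))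
theorem E51044 : n50041 = n33865 := (((iv6 F79191)).symm.trans (sb E51040 (iv6 D73705)))
theorem E51045 : n40570 = n34255 := (((D34255).symm.trans (iv0 (sb E47092 (tr (iv1 F149240) E51035))))).symm
theorem E51046 : n96763 = n34255 := (E47092).trans E51045
theorem E51047 : n65071 = n54428 := (((iv4 F130295)).symm.trans (sb E51046 F149238))
theorem E51048 : n74762 = n70848 := ((D74762).symm.trans (sb E51046 F149239))
theorem E51049 : n54427 = n33083 := (((iv1 F85958)).symm.trans (sb E47093 F56762))
theorem E51050 : n76605 = n54428 := ((((iv2 F85961)).symm.trans (sb E47093 F114878))).symm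
theorem F297835 : act 4 n26326 = n19163 := (sb E47093 F56761)
theorem E51051 : n79112 = n15819 := (((F41981).symm.trans (sb E47093 D79112))).symm
theorem E51054 : n87320 = n70848 := ((((iv2 F107321)).symm.trans (sb E47094 (iv2 F134068)))).symm
theorem F297836 : act 6 n32857 = n19163 := (sb E47094 (iv6 D40571))
theorem E51057 : n81558 = n80582 := ((F125446).symm.trans (sb E47095 (iv0 F123892)))
theorem F297837 : act 2 n37360 = n56920 := (sb E47095 (iv2 F89985))
theorem E51059 : n184532 = n75007 := ((((iv4 F112543)).symm.trans (sb E47097 (iv4 F287029)))).symm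
theorem E51060 : n62835 = n40720 := ((D62835).symm.trans (iv3 (sb E47098 (tr F148606 E51034))))
theorem E51061 : n70599 = n55380 := ((((iv4 F87646)).symm.trans (sb E47098 F148607))).symm
theorem F297838 : act 6 n40720 = n45053 := (sb E47098 (iv6 D96496))
theorem E51064 : n81927 = n33020 := ((((iv5 F52197)).symm.trans (sb E47099 D81927))).symm
theorem F297839 : act 6 n26759 = n18005 := (sb E47099 (iv6 D37514))
theorem F297840 : act 3 n70496 = n36686 := (sb E47102 (iv3 D80465))
theorem F297841 : act 1 n26841 = n17918 := (sb E47103 (iv0 D37292))
theorem F297842 : act 2 n26841 = n35122 := (sb E47103 F117086)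
theorem F297843 : act 4 n26841 = n36686 := (sb E47103 F117087)
theorem F297844 : act 6 n26839 = n36686 := (sb E47105 (iv6 D80467))
theorem F297845 : act 4 n80470 = n75983 := (sb E47107 F250427)
theorem E51081 : n121686 = n84384 := (((iv5 F194199)).symm.trans (sb E47107 F250428))
theorem E51082 : n121936 = n75978 := (((iv7 F194644)).symm.trans (sb E47107 (iv7 D159073)))
theorem F297846 : act 1 n18491 = n36688 := (sb E47108 (iv0 D80471))
theorem E51086 : n176970 = n167684 := (((D167684).symm.trans (sb E47109 (iv3 F276311)))).symm
theorem E51087 : n176989 = n167685 := (((D167685).symm.trans (sb E47109 (iv4 F276357)))).symm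
theorem F297847 : act 5 n80472 = n38894 := (sb E47109 F129419)
theorem E51088 : n176990 = n167686 := (((D167686).symm.trans (sb E47109 D176990))).symm
theorem F297848 : act 7 n80472 = n38893 := (sb E47109 (iv7 D84355))
theorem E51089 : n177258 = n167688 := (((D167688).symm.trans (sb E47110 F276650))).symm
theorem E51091 : n177272 = n167690 := (((D167690).symm.trans (sb E47110 D177272))).symm
theorem E51092 : n176980 = n167691 := (((D167691).symm.trans (sb E47110 (iv7 F276334)))).symm
theorem F297849 : act 1 n80474 = n38893 := (sb E47111 (iv0 D84352))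
theorem F297851 : act 3 n55850 = n36693 := (sb E47113 F123697)
theorem E51097 : n167701 = n38976 := ((D167701).symm.trans (sb E47114 (iv1 F129602)))
theorem E51098 : n167702 = n38957 := ((D167702).symm.trans (sb E47114 (iv0 D84474)))
theorem E51100 : n177319 = n167703 := (((D167703).symm.trans (sb E47114 D177319))).symm
theorem F297852 : act 6 n45195 = n36692 := (sb E47115 (iv6 D80479))
theorem F297853 : act 6 n78283 = n95273 := (sb E47116 (iv6 F147876))
theorem F297854 : act 7 n78283 = n84432 := (sb E47116 F147875)
theorem F297855 : act 0 n55732 = n36693 := (sb E47117 F119036)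
theorem F297856 : act 1 n55732 = n36698 := (sb E47117 (iv0 F119054))
theorem F297857 : act 6 n55732 = n27100 := (sb E47117 (iv6 D56244))
theorem F297858 : act 7 n55732 = n35701 := (sb E47117 (iv7 F88962))
theorem E51103 : n167707 = n38978 := ((D167707).symm.trans (sb E47118 (iv1 F129610)))
theorem E51104 : n167708 = n38962 := ((D167708).symm.trans (sb E47118 (iv0 D84482)))
theorem E51106 : n177336 = n167710 := (((D167710).symm.trans (sb E47118 D177336))).symm
theorem E51107 : n168056 = n121025 := ((((iv6 F192982)).symm.trans (sb E47118 (iv6 F264877)))).symm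
theorem F297859 : act 7 n80480 = n162747 := (sb E47118 (iv7 F256975))
theorem F297860 : act 5 n55825 = n36816 := (sb E47119 (iv5 D80667))
theorem F297861 : act 0 n80483 = n70528 := (sb E47120 (iv1 D149953))
theorem E51108 : n167714 = n162783 := ((D167714).symm.trans (sb E47120 F257062))
theorem E51109 : n167715 = n162781 := ((D167715).symm.trans (sb E47120 F263890))
theorem E51110 : n177321 = n167716 := (((D167716).symm.trans (sb E47120 (iv5 F276700)))).symm
theorem E51112 : n177322 = n167718 := (((D167718).symm.trans (sb E47121 D177322))).symm
theorem F297862 : act 2 n80486 = n162747 := (sb E47123 (iv2 F256973))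
theorem E51115 : n177338 = n167723 := (((D167723).symm.trans (sb E47123 D177338))).symm
theorem F297865 : act 5 n85603 = n41687 := (sb E47126 (iv5 D89214))
theorem E51117 : n167854 = n81726 := ((F264452).symm.trans (sb E47129 (iv0 F250435)))
theorem E51118 : n79135 = n55612 := (((F192312).symm.trans (sb E47130 F254539))).symm
theorem F297867 : act 5 n81541 = n77273 := (sb E47137 (iv5 D161026))
theorem F297868 : act 5 n80562 = n79540 := (sb E47140 F151614)
theorem E51131 : n120201 = n82973 := ((((iv1 F127895)).symm.trans (sb E47144 (iv1 F274039)))).symm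
theorem E51132 : n158298 = n120200 := (((iv0 F249399)).symm.trans (sb E47144 F274040))
theorem E51133 : n120203 = n80211 := ((((iv2 F123220)).symm.trans (sb E47144 F274035))).symm
theorem E51134 : n164516 = n158449 := ((D164516).symm.trans (sb E47144 F274037))
theorem E51137 : n184530 = n48950 := ((((iv2 F77216)).symm.trans (sb E47145 (iv2 F286463)))).symm
theorem E51138 : n71440 = n41468 := (((iv4 F107980)).symm.trans (sb E47145 F136199))
theorem E51140 : n71556 = n41467 := ((D71556).symm.trans (sb E47145 (iv6 D88815)))
theorem F297871 : act 4 n55309 = n71555 := (sb E47146 (iv4 F116236))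
theorem E51142 : n120202 = n45909 := ((D120202).symm.trans (sb E47146 F116235))
theorem F297872 : act 6 n45164 = n71555 := (sb E47147 (iv6 D151793))
theorem E51144 : n121990 = n77764 := ((D121990).symm.trans (sb E47148 (iv5 D161926)))
theorem F297873 : act 0 n177402 = n148963 := (sb E47149 (iv1 F281543))
theorem F297874 : act 4 n177402 = n121991 := (sb E47149 F281541)
theorem F297875 : act 7 n177402 = n86375 := (sb E47149 (iv7 D180843))
theorem F297876 : act 4 n176986 = n86376 := (sb E47151 (iv4 D180844))
theorem F297879 : act 6 n101600 = n77638 := (sb E47153 (iv6 D161647))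
theorem E51145 : n70547 = n55687 := (((F192613).symm.trans (sb E47154 (iv3 D149974)))).symm
theorem F297885 : act 6 n45188 = n86370 := (sb E47155 (iv6 D180832))
theorem E51146 : n118146 = n71511 := (((iv1 F235583)).symm.trans (sb E47156 (iv1 D151731)))
theorem F297886 : act 3 n149771 = n86371 := (sb E47156 F238612)
theorem E51148 : n159971 = n74931 := (((F235581).symm.trans (sb E47156 (iv4 F252332)))).symm
theorem E51149 : n149771 = n34335 := ((((iv5 D74928)).symm.trans (iv5 (sb E47156 (tr (iv5 F238611) E50918))))).symm
theorem E51150 : n151731 = n34335 := (E47156).trans E51149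
theorem E51151 : n70355 = n49813 := (((F105746).symm.trans (sb E51150 (tr (iv7 F252326) E49445)))).symm
theorem E51152 : n170304 = n150632 := ((D170304).symm.trans (sb E47157 F265922))
theorem E51153 : n170141 = n170059 := (((F267517).symm.trans (sb E47158 F281525))).symm
theorem F297887 : act 6 n81786 = n86371 := (sb E47158 (iv6 D180833))
theorem F297888 : act 1 n95446 = n86374 := (sb E47165 (iv0 D180838))
theorem E51155 : n161070 = n58586 := ((((iv1 D125240)).symm.trans (sb E47167 F281534))).symm
theorem F297889 : act 4 n125240 = n86374 := (sb E47167 (iv4 D180839))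
theorem E51157 : n159970 = n49813 := (E49445).trans E51151
theorem E51159 : n149971 = n73969 := ((D149971).symm.trans (sb E47169 (tr F238606 E50920)))
theorem E51160 : n118150 = n35000 := ((D118150).symm.trans (sb E47170 (iv3 D76590)))
theorem E51161 : n118151 = n74931 := ((D118151).symm.trans (sb E47170 (tr D159971 E51148)))
theorem E51163 : n70524 = n18956 := (((iv3 F106971)).symm.trans (sb E47171 F61015))
theorem E51164 : n70531 = n18955 := ((D70531).symm.trans (sb E47171 (iv5 D40121)))
theorem F297892 : act 3 n54433 = n45773 := (sb E47174 (iv3 D98048))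
theorem E51167 : n19277 = n16159 := ((F30938).symm.trans (sb E47178 (iv0 D33452)))
theorem E51168 : n72304 = n10959 := ((((iv2 F17805)).symm.trans (sb E47178 (iv2 F191081)))).symm
theorem E51170 : n70523 = n19310 := (((D19310).symm.trans (sb E47178 (iv6 F191078)))).symm
theorem E51171 : n72305 = n10967 := ((((iv7 F17820)).symm.trans (sb E47178 (iv7 F191080)))).symm
theorem F297893 : act 4 n41002 = n70528 := (sb E47180 F235859)
theorem F297895 : act 4 n149952 = n171026 := (sb E47182 F281633)
theorem F297896 : act 2 n98050 = n70528 := (sb E47183 (iv2 D149954))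
theorem E51174 : n162945 = n121375 := ((((iv3 F193618)).symm.trans (sb E47183 (iv3 F257311)))).symm
theorem E51175 : n148925 = n70358 := (((F107383).symm.trans (sb E47186 F236316))).symm
theorem E51176 : n70668 = n57103 := (((F107384).symm.trans (sb E47186 (iv4 D150153)))).symm
theorem E51177 : n182952 = n70374 := ((((iv4 F106858)).symm.trans (sb E47187 F284539))).symm
theorem E51178 : n149489 = n79376 := ((D149489).symm.trans (sb E47188 F260473))
theorem E51179 : n167841 = n150424 := (((D150424).symm.trans (sb E47189 (iv6 F264423)))).symm
theorem E51180 : n161039 = n7419 := ((((iv4 D15809)).symm.trans (sb E47190 F286883))).symm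
theorem E51181 : n183384 = n72426 := (((D72426).symm.trans (sb E47191 (iv1 F285096)))).symm
theorem E51182 : n72427 = n46722 := ((D72427).symm.trans (sb E47191 (iv0 D100063)))
theorem E51183 : n87776 = n16155 := ((((iv3 D33437)).symm.trans (sb E47191 F286869))).symm
theorem E51184 : n70357 = n48952 := (((iv1 F107339)).symm.trans (sb E47194 (iv1 D105879)))
theorem E51185 : n70824 = n70356 := (((F107338).symm.trans (sb E47194 F191266))).symm
theorem E51186 : n71608 = n32838 := ((((iv2 D70862)).symm.trans (sb E47194 F191267))).symm
theorem E51187 : n54777 = n40224 := (((F107335).symm.trans (sb E47194 F191269))).symm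
theorem E51188 : n70601 = n55405 := ((F286879).symm.trans (sb E47195 (iv3 D120363)))
theorem F297899 : act 4 n100064 = n70380 := (sb E47195 F191722)
theorem F297900 : act 5 n100064 = n123392 := (sb E47195 (iv5 F197775))
theorem F297901 : act 3 n160217 = n86407 := (sb E47201 F260448)
theorem F297902 : act 5 n160217 = n79369 := (sb E47201 (iv5 D165194))
theorem E51189 : n167839 = n150398 := ((D167839).symm.trans (sb E47203 F236741))
theorem F297903 : act 6 n80554 = n37266 := (sb E47203 (iv6 D81573))
theorem F297904 : act 1 n70958 = n45777 := (sb E47204 (iv0 D98053))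
theorem E51192 : n167840 = n150541 := (((D150541).symm.trans (sb E47204 (iv2 F264420)))).symm
theorem F297910 : act 4 n180911 = n95331 := (sb E47207 F284834)
theorem F297911 : act 6 n180911 = n169837 := (sb E47207 F284835)
theorem E51193 : n167344 = n96681 := (((D96681).symm.trans (sb E47208 (iv6 F263481)))).symm
theorem F297912 : act 0 n45169 = n40071 := (sb E47215 (iv1 D86496))
theorem E51198 : n96698 = n78273 := ((D96698).symm.trans (sb E47215 F132668))
theorem E51200 : n180995 = n96700 := (((D96700).symm.trans (sb E47215 F281808))).symm
theorem F297914 : act 1 n45196 = n40181 := (sb E47219 (iv0 D86681))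
theorem E51204 : n169836 = n167844 := ((D169836).symm.trans (sb E47224 F281695))
theorem E51206 : n167380 = n96681 := (((E51193).symm.trans ((D167344).symm.trans (sb E47226 D167380)))).symm
theorem E51207 : n167381 = n167178 := ((((iv0 F263348)).symm.trans (sb E47226 D167381))).symm
theorem E51208 : n167377 = n167341 := ((((iv2 F263471)).symm.trans (sb E47226 (iv2 F263508)))).symm
theorem F297915 : act 3 n80312 = n37259 := (sb E47226 F123407)
theorem E51209 : n36593 = n36588 := ((((iv4 D80312)).symm.trans (sb E47226 (iv4 D80326)))).symm
theorem E51210 : n167382 = n167345 := (((D167345).symm.trans (sb E47226 D167382))).symm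
theorem E51211 : n167346 = n159114 := ((D167346).symm.trans (sb E47226 (iv6 F250505)))
theorem E51212 : n170064 = n167892 := (((iv1 F267537)).symm.trans (sb E47227 (iv1 F264529)))
theorem E51213 : n170063 = n167894 := ((F267534).symm.trans (sb E47227 (iv0 F264532)))
theorem E51216 : n181003 = n159115 := (((D159115).symm.trans (sb E47228 (iv5 F281832)))).symm
theorem F297916 : act 0 n84479 = n86387 := (sb E47231 (iv1 F151205))
theorem F297917 : act 1 n84479 = n45781 := (sb E47231 (iv0 D98060))
theorem E51224 : n182910 = n170054 := (((iv4 F284489)).symm.trans (sb E47232 F267557))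
theorem F297918 : act 0 n98062 = n81743 := (sb E47233 (iv1 F267959))
theorem F297919 : act 1 n98062 = n81740 := (sb E47233 (iv0 D170520))
theorem F297920 : act 0 n7385 = n8373 := (sb E47234 (iv1 F28860))
theorem F297921 : act 1 n7385 = n8368 := (sb E47234 (iv0 D17746))
theorem E51225 : n36819 = n15692 := ((((iv3 F25172)).symm.trans (sb E47234 D36819))).symm
theorem E51226 : n36094 = n13921 := ((((iv5 F23178)).symm.trans (sb E47234 (iv5 F56840)))).symm
theorem E51227 : n37008 = n32424 := ((((iv1 F51484)).symm.trans (sb E47235 D37008))).symm
theorem E51228 : n37010 = n36824 := (((D36824).symm.trans (sb E47235 D37010))).symm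
theorem E51229 : n37011 = n18633 := (((F29907).symm.trans (sb E47235 D37011))).symm
theorem E51230 : n37012 = n36825 := (((D36825).symm.trans (sb E47235 D37012))).symm
theorem F297922 : act 7 n17748 = n15716 := (sb E47235 (iv7 F30529))
theorem E51232 : n37015 = n36827 := (((D36827).symm.trans (sb E47236 D37015))).symm
theorem F297923 : act 7 n17749 = n15718 := (sb E47236 (iv7 F30530))
theorem E51233 : n36828 = n16845 := ((D36828).symm.trans (sb E47237 (iv1 F51778)))
theorem E51234 : n37016 = n36829 := (((D36829).symm.trans (sb E47237 D37016))).symm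
theorem E51235 : n36830 = n26317 := ((D36830).symm.trans (sb E47237 F41933))
theorem E51236 : n36831 = n32696 := ((D36831).symm.trans (sb E47237 (iv7 F51769)))
theorem F297924 : act 1 n17679 = n8370 := (sb E47238 (iv0 D17751))
theorem E51237 : n119019 = n76591 := ((((iv4 F114864)).symm.trans (sb E47240 (iv4 F187245)))).symm
theorem E51239 : n81672 = n71006 := ((D81672).symm.trans (sb E47240 (iv6 F124740)))
theorem E51240 : n81674 = n26493 := ((D81674).symm.trans (sb E47241 F86658))
theorem E51241 : n119030 = n76587 := ((((iv5 F114847)).symm.trans (sb E47241 D119030))).symm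
theorem E51242 : n81675 = n26492 := ((D81675).symm.trans (sb E47241 (iv6 D54775)))
theorem E51244 : n168847 = n81676 := (((D81676).symm.trans (sb E47242 D168847))).symm
theorem E51247 : n168852 = n81678 := (((D81678).symm.trans (sb E47244 D168852))).symm
theorem E51248 : n168853 = n81679 := (((D81679).symm.trans (sb E47244 D168853))).symm
theorem E51249 : n168854 = n81680 := (((D81680).symm.trans (sb E47244 D168854))).symm
theorem E51256 : n121022 = n81637 := (((D81637).symm.trans (sb E47246 F192979))).symm
theorem F297925 : act 0 n37337 = n40126 := (sb E47247 F124751)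
theorem E51257 : n168872 = n81688 := (((D81688).symm.trans (sb E47247 D168872))).symm
theorem F297926 : act 5 n55826 = n36817 := (sb E47249 (iv5 D80668))
theorem F297927 : act 0 n37327 = n40159 := (sb E47257 (iv1 F132876))
theorem E51260 : n181501 = n81670 := (((D81670).symm.trans (sb E47257 D181501))).symm
theorem E51264 : n55739 = n27146 := (((D27146).symm.trans (sb E47260 (iv4 F88173)))).symm
theorem E51265 : n81727 = n71006 := (((D71006).symm.trans (sb E47262 D81727))).symm
theorem E51266 : n81728 = n70762 := ((((iv0 F110798)).symm.trans (sb E47262 D81728))).symm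
theorem F297928 : act 3 n32884 = n17936 := (sb E47262 (iv3 D37353))
theorem E51268 : n81731 = n71008 := (((D71008).symm.trans (sb E47262 D81731))).symm
theorem E51269 : n81732 = n71009 := (((D71009).symm.trans (sb E47262 D81732))).symm
theorem F297929 : act 4 n37356 = n27145 := (sb E47264 F89218)
theorem E51273 : n125250 = n121939 := (((D121939).symm.trans (sb E47265 D125250))).symm
theorem F297930 : act 6 n56383 = n38891 := (sb E47265 F92564)
theorem E51274 : n167845 = n81716 := (((D81716).symm.trans (sb E47266 D167845))).symm
theorem F297931 : act 4 n37351 = n36763 := (sb E47268 F123846)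
theorem F297932 : act 0 n58588 = n40160 := (sb E47269 F123849)
theorem E51281 : n167855 = n125248 := (((D125248).symm.trans (sb E47269 D167855))).symm
theorem F297933 : act 4 n58588 = n36762 := (sb E47269 (iv4 D80559))
theorem F297934 : act 6 n58588 = n40075 := (sb E47269 F123848)
theorem E51282 : n162124 = n35579 := (((D35579).symm.trans (sb E47275 (iv3 F256225)))).symm
theorem F297935 : act 6 n17239 = n35542 := (sb E47275 (iv6 D77895))
theorem E51283 : n77506 = n77395 := (((iv1 F122942)).symm.trans (sb E47277 (iv1 F123312)))
theorem F297938 : act 3 n77888 = n45184 := (sb E47278 F120438)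
theorem E51287 : n160942 = n35541 := ((((iv4 D77888)).symm.trans (sb E47278 F254151))).symm
theorem F297939 : act 5 n77888 = n36034 := (sb E47278 F120439)
theorem E51290 : n176620 = n174285 := ((((iv6 F273083)).symm.trans (sb E47281 (iv6 F275996)))).symm
theorem E51292 : n77820 = n56140 := (((F128403).symm.trans (sb E47283 F129267))).symm
theorem E51294 : n167539 = n167498 := ((((iv7 F263676)).symm.trans (sb E47283 (iv7 F263767)))).symm
theorem F297946 : act 0 n80617 = n38398 := (sb E47285 (iv1 F128406))
theorem F297947 : act 1 n80617 = n38397 := (sb E47285 F128407)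
theorem F297949 : act 7 n80617 = n38375 := (sb E47285 (iv7 D83309))
theorem E51301 : n77958 = n77957 := (((iv4 F194019)).symm.trans (sb E47291 F249032))
theorem E51315 : n80380 = n35381 := (((F117747).symm.trans (sb E47319 (iv1 F123511)))).symm
theorem E51316 : n35524 = n35385 := (((F117748).symm.trans (sb E47319 (iv0 D77849)))).symm
theorem E51317 : n162056 = n82882 := ((((iv3 F127660)).symm.trans (sb E47319 D162056))).symm
theorem E51318 : n82883 = n80230 := ((D82883).symm.trans (sb E47319 (iv5 F123263)))
theorem F297955 : act 3 n35476 = n37382 := (sb E47320 F125668)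
theorem E51321 : n84201 = n83302 := (((D83302).symm.trans (sb E47322 (iv6 D176617)))).symm
theorem E51322 : n84202 = n83303 := (((D83303).symm.trans (sb E47324 D84202))).symm
theorem E51323 : n73946 = n56010 := (((D56010).symm.trans (sb E47325 D73946))).symm
theorem E51324 : n73947 = n56011 := (((D56011).symm.trans (sb E47325 D73947))).symm
theorem E51325 : n73920 = n55046 := ((((iv2 F87043)).symm.trans (sb E47325 (iv2 F110714)))).symm
theorem E51326 : n73948 = n55703 := ((((iv5 F88150)).symm.trans (sb E47325 D73948))).symm
theorem E51327 : n56012 = n16409 := ((D56012).symm.trans (sb E47325 (iv6 D33947)))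
theorem F297957 : act 0 n27024 = n17192 := (sb E47327 (iv1 F125944))
theorem E51328 : n73940 = n56015 := (((D56015).symm.trans (sb E47327 D73940))).symm
theorem E51329 : n56305 = n54572 := ((D56305).symm.trans (sb E47329 (iv3 F86259)))
theorem E51331 : n56441 = n56306 := (((D56306).symm.trans (sb E47329 (iv6 F89319)))).symm
theorem E51332 : n161626 = n18675 := (((F30365).symm.trans (sb E47333 D161626))).symm
theorem E51333 : n121996 = n40263 := (((D40263).symm.trans (sb E47333 (iv5 F194842)))).symm
theorem F297958 : act 6 n19022 = n40258 := (sb E47333 F116526)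
theorem E51334 : n85268 = n77625 := (((D77625).symm.trans (sb E47334 (iv3 F130573)))).symm
theorem E51335 : n86838 = n77626 := (((D77626).symm.trans (sb E47334 D86838))).symm
theorem E51336 : n77741 = n77627 := (((D77627).symm.trans (sb E47334 F117121))).symm
theorem E51338 : n80189 = n77683 := (((D77683).symm.trans (sb E47336 (iv1 D167057)))).symm
theorem E51339 : n80192 = n77684 := (((D77684).symm.trans (sb E47336 F263097))).symm
theorem E51340 : n161110 = n77686 := (((D77686).symm.trans (sb E47336 F263098))).symm
theorem E51341 : n83328 = n35435 := (((F91420).symm.trans (sb E47338 F132602))).symm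
theorem E51342 : n161605 = n83061 := (((D83061).symm.trans (sb E47338 (iv3 F255607)))).symm
theorem E51343 : n83062 = n80185 := ((D83062).symm.trans (sb E47338 F123145))
theorem E51344 : n173688 = n84120 := (((D84120).symm.trans (sb E47339 D173688))).symm
theorem E51345 : n84121 = n80184 := ((D84121).symm.trans (sb E47339 F128021))
theorem E51346 : n80377 = n80376 := ((F123500).symm.trans (sb E47339 F128019))
theorem F297960 : act 3 n38774 = n18447 := (sb E47340 F59679)
theorem F297961 : act 5 n38774 = n18440 := (sb E47340 (iv5 D38785))
theorem F297962 : act 7 n38774 = n18440 := (sb E47340 (iv7 F59681))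
theorem F297963 : act 1 n27049 = n17192 := (sb E47344 F122319)
theorem E51347 : n77575 = n55060 := ((((iv3 F87080)).symm.trans (sb E47344 D77575))).symm
theorem E51348 : n77576 = n56091 := ((((iv5 F88757)).symm.trans (sb E47344 D77576))).symm
theorem F297964 : act 4 n35451 = n58151 := (sb E47345 F193656)
theorem E51350 : n77643 = n56084 := ((D77643).symm.trans (sb E47345 F193657))
theorem E51351 : n160930 = n77658 := (((D77658).symm.trans (sb E47346 (iv1 F254128)))).symm
theorem E51352 : n77661 = n56086 := ((D77661).symm.trans (sb E47346 F193659))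
theorem F297965 : act 6 n27047 = n40261 := (sb E47347 (iv6 F116670))
theorem F297966 : act 7 n27047 = n17192 := (sb E47347 (iv7 D35456))
theorem E51353 : n121427 = n83318 := ((((iv3 F128418)).symm.trans (sb E47348 D121427))).symm
theorem F297967 : act 3 n121794 = n58235 := (sb E47349 (iv3 F199221))
theorem F297968 : act 6 n38846 = n79615 := (sb E47350 F199228)
theorem E51357 : n79776 = n77593 := ((((iv1 F122318)).symm.trans (sb E47351 F199234))).symm
theorem F297969 : act 0 n38395 = n79615 := (sb E47352 (iv1 F194390))
theorem E51360 : n79993 = n35390 := ((((iv6 F56092)).symm.trans (sb E47353 F261664))).symm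
theorem E51362 : n80146 = n17650 := (((D17650).symm.trans (sb E47355 (iv5 F123018)))).symm
theorem E51363 : n56411 = n54570 := (((D54570).symm.trans (sb E47356 D56411))).symm
theorem E51364 : n56412 = n54571 := (((D54571).symm.trans (sb E47356 D56412))).symm
theorem E51365 : n54558 = n54557 := (((iv2 F86226)).symm.trans (sb E47356 (iv2 F86220)))
theorem F297973 : act 3 n26390 = n13010 := (sb E47356 (iv3 D27157))
theorem E51366 : n82519 = n80274 := (((D80274).symm.trans (sb E47357 F286777))).symm
theorem E51367 : n174013 = n80275 := (((D80275).symm.trans (sb E47357 F286778))).symm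
theorem E51368 : n161404 = n80279 := (((D80279).symm.trans (sb E47361 (iv5 F255243)))).symm
theorem E51372 : n80234 = n77736 := ((D80234).symm.trans (sb E47364 (iv5 F116608)))
theorem E51373 : n155192 = n80236 := (((D80236).symm.trans (sb E47365 (iv3 F244023)))).symm
theorem E51374 : n56480 = n17637 := ((((iv4 D36555)).symm.trans (sb E47365 F194860))).symm
theorem E51375 : n80237 = n77737 := ((D80237).symm.trans (sb E47365 F194862))
theorem E51377 : n80286 = n35487 := ((D80286).symm.trans (sb E47366 F116308))
theorem E51378 : n161405 = n80287 := (((D80287).symm.trans (sb E47366 D161405))).symm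
theorem E51379 : n80288 = n35484 := ((D80288).symm.trans (sb E47366 F117138))
theorem E51380 : n167040 = n77369 := (((D77369).symm.trans (sb E47368 (iv3 F263062)))).symm
theorem E51381 : n161419 = n77370 := (((D77370).symm.trans (sb E47368 (iv5 F255286)))).symm
theorem E51384 : n161530 = n77373 := (((D77373).symm.trans (sb E47370 (iv6 F255534)))).symm
theorem F297974 : act 3 n79150 = n58057 := (sb E47371 (iv3 D124465))
theorem E51385 : n162069 = n161425 := (((iv4 F256133)).symm.trans (sb E47371 (iv4 F255307)))
theorem F297976 : act 3 n79151 = n75361 := (sb E47372 F249208)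
theorem E51389 : n85464 = n80188 := (((D80188).symm.trans (sb E47381 (iv3 F130682)))).symm
theorem E51390 : n80320 = n80190 := (((D80190).symm.trans (sb E47381 F123400))).symm
theorem E51393 : n86834 = n80273 := (((D80273).symm.trans (sb E47383 (iv7 F194868)))).symm
theorem E51394 : n121418 = n77443 := (((D77443).symm.trans (sb E47385 F249196))).symm
theorem F297981 : act 3 n79111 = n56794 := (sb E47386 (iv3 D122471))
theorem E51397 : n121419 = n75744 := (((D75744).symm.trans (sb E47387 F193710))).symm
theorem E51398 : n166972 = n16767 := (((D16767).symm.trans (sb E47388 (iv6 F262874)))).symm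
theorem E51401 : n77795 = n77375 := (((D77375).symm.trans (sb E47395 F255511))).symm
theorem F297982 : act 1 n34589 = n17156 := (sb E47397 (iv0 D35353))
theorem E51404 : n77431 = n19526 := (((F54862).symm.trans (sb E47397 D77431))).symm
theorem E51405 : n75631 = n21952 := ((D75631).symm.trans (sb E47397 F57399))
theorem E51406 : n89265 = n33247 := ((((iv3 F56067)).symm.trans (sb E47398 (iv3 F136985)))).symm
theorem E51407 : n34363 = n19634 := (((iv4 F56068)).symm.trans (sb E47398 F64353))
theorem E51409 : n77433 = n75331 := ((D77433).symm.trans (sb E47398 (iv6 F112948)))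
theorem E51411 : n89275 = n38498 := (((D38498).symm.trans (sb E47399 D89275))).symm
theorem E51412 : n175592 = n38181 := ((((iv1 F59042)).symm.trans (sb E47400 F274927))).symm
theorem E51413 : n175459 = n38180 := (((F59041).symm.trans (sb E47400 (iv0 F274709)))).symm
theorem E51414 : n174985 = n77434 := (((D77434).symm.trans (sb E47401 (iv1 F274622)))).symm
theorem E51415 : n173369 = n77435 := (((D77435).symm.trans (sb E47401 F274518))).symm
theorem E51416 : n175427 = n77436 := (((D77436).symm.trans (sb E47401 (iv5 F274502)))).symm
theorem E51421 : n167450 = n152596 := (((D152596).symm.trans (sb E47406 F270843))).symm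
theorem E51425 : n167449 = n166995 := (((D166995).symm.trans (sb E47425 D167449))).symm
theorem F297986 : act 5 n158402 = n174922 := (sb E47437 (iv5 F273822))
theorem E51430 : n36636 = n36616 := (((D36616).symm.trans (sb E47440 D36636))).symm
theorem E51433 : n80405 = n80379 := ((((iv1 F123504)).symm.trans (sb E47441 (iv1 F123565)))).symm
theorem E51435 : n80141 = n80138 := (((D80138).symm.trans (sb E47442 D80141))).symm
theorem F297989 : act 0 n37370 = n38774 := (sb E47443 (iv1 F118595))
theorem E51438 : n81751 = n35478 := ((D81751).symm.trans (sb E47443 F116604))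
theorem F297990 : act 6 n37370 = n35476 := (sb E47443 (iv6 D77734))
theorem F297991 : act 1 n38149 = n35232 := (sb E47445 (iv0 D77180))
theorem F297992 : act 3 n38175 = n18452 := (sb E47447 F59837)
theorem E51443 : n76190 = n57936 := (((D57936).symm.trans (sb E47449 (iv7 D159249)))).symm
theorem E51444 : n39830 = n27512 := (((D27512).symm.trans (sb E47450 D39830))).symm
theorem F297993 : act 3 n13157 = n8825 := (sb E47450 F30094)
theorem F297994 : act 6 n78760 = n75217 := (sb E47451 (iv6 D157892))
theorem E51445 : n164189 = n121264 := (((D121264).symm.trans (sb E47453 (iv6 F258762)))).symm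
theorem F297995 : act 0 n55943 = n35905 := (sb E47454 (iv1 D78874))
theorem F297996 : act 1 n55943 = n75212 := (sb E47454 (iv0 F120046))
theorem F297997 : act 7 n55943 = n39877 := (sb E47454 F120041)
theorem E51459 : n55653 = n17574 := (((D17574).symm.trans (sb E47471 F89193))).symm
theorem E51460 : n77856 = n56178 := (((D56178).symm.trans (sb E47473 (iv1 F193939)))).symm
theorem E51467 : n125283 = n123039 := (((F197188).symm.trans (sb E47493 F244551))).symm
theorem F298001 : act 0 n98173 = n55353 := (sb E47494 (iv1 D120283))
theorem E51468 : n125282 = n123040 := (((iv4 F201483)).symm.trans (sb E47494 (iv4 F197185)))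
theorem F298003 : act 4 n160606 = n82406 := (sb E47496 (iv4 D172063))
theorem F298004 : act 5 n160606 = n176673 := (sb E47496 (iv5 F276047))
theorem F298005 : act 6 n160606 = n84276 := (sb E47496 F270169)
theorem F298006 : act 0 n81825 = n77013 := (sb E47497 (iv1 D160607))
theorem E51470 : n160795 = n58058 := (((F125772).symm.trans (sb E47497 F253950))).symm
theorem F298007 : act 0 n160609 = n82418 := (sb E47498 (iv1 D172091))
theorem F298008 : act 1 n160609 = n84175 := (sb E47498 F270233)
theorem F298009 : act 7 n160609 = n84243 := (sb E47498 F270234)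
theorem F298010 : act 5 n121650 = n84243 := (sb E47499 F260348)
theorem F298011 : act 4 n84195 = n56237 := (sb E47500 (iv4 D121701))
theorem E51471 : n167749 = n75725 := (((iv4 F264079)).symm.trans (sb E47501 F151178))
theorem F298012 : act 0 n36391 = n38837 := (sb E47502 (iv1 F129246))
theorem E51474 : n158808 = n79885 := (((D79885).symm.trans (sb E47502 F250034))).symm
theorem E51475 : n158827 = n55851 := (((D55851).symm.trans (sb E47504 (iv4 F250069)))).symm
theorem F298013 : act 4 n83466 = n78463 := (sb E47505 (iv4 D163256))
theorem F298014 : act 6 n84217 = n78465 := (sb E47507 (iv6 D163261))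
theorem E51478 : n176607 = n79827 := ((F275972).symm.trans (sb E47509 F257572))
theorem F298016 : act 1 n78846 = n55900 := (sb E47512 (iv0 D121146))
theorem F298017 : act 0 n78843 = n55900 := (sb E47513 (iv1 D121147))
theorem E51479 : n157997 = n78216 := (((iv6 F248896)).symm.trans (sb E47513 F257349))
theorem E51480 : n56204 = n17264 := (((D17264).symm.trans (sb E47514 F88892))).symm
theorem E51483 : n186295 = n78142 := (((D78142).symm.trans (sb E47515 D186295))).symm
theorem E51484 : n79519 = n78144 := (((D78144).symm.trans (sb E47515 F136097))).symm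
theorem F298018 : act 0 n35624 = n41434 := (sb E47516 (iv1 F136086))
theorem E51485 : n83441 = n78132 := (((D78132).symm.trans (sb E47516 F136084))).symm
theorem F298019 : act 1 n35625 = n41434 := (sb E47517 F136090)
theorem E51486 : n83442 = n78137 := (((D78137).symm.trans (sb E47517 F136095))).symm
theorem F298020 : act 2 n35627 = n41434 := (sb E47518 F118480)
theorem F298021 : act 2 n38366 = n35232 := (sb E47520 F115792)
theorem F298022 : act 4 n38366 = n35194 := (sb E47520 (iv4 D77063))
theorem E51487 : n160673 = n83288 := (((D83288).symm.trans (sb E47520 D160673))).symm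
theorem F298023 : act 6 n38366 = n35196 := (sb E47520 F115793)
theorem E51488 : n84815 = n80107 := (((F248948).symm.trans (sb E47521 F273476))).symm
theorem F298024 : act 6 n158019 = n83443 := (sb E47521 (iv6 D174618))
theorem F298025 : act 2 n38453 = n81859 := (sb E47523 F248953)
theorem F298026 : act 6 n38453 = n75275 := (sb E47523 (iv6 D158021))
theorem F298027 : act 6 n82909 = n75201 := (sb E47524 F195763)
theorem F298028 : act 1 n77343 = n76803 := (sb E47525 (iv0 F120902))
theorem E51489 : n35388 = n35338 := (((F116153).symm.trans (sb E47525 (iv3 D77505)))).symm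
theorem F298029 : act 6 n77343 = n56124 := (sb E47525 F116371)
theorem E51490 : n81995 = n39059 := (((F120874).symm.trans (sb E47526 (iv1 F195832)))).symm
theorem F298030 : act 1 n76909 = n56715 := (sb E47526 (iv0 D122390))
theorem E51491 : n123324 = n81992 := (((iv7 F197637)).symm.trans (sb E47526 F195831))
theorem F298031 : act 3 n77341 = n35637 := (sb E47527 F117642)
theorem F298032 : act 6 n77341 = n160863 := (sb E47527 (iv6 F254030))
theorem F298033 : act 7 n77341 = n76803 := (sb E47527 F121167)
theorem F298034 : act 0 n83133 = n75800 := (sb E47528 (iv1 F248913))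
theorem F298035 : act 1 n83133 = n75799 := (sb E47528 F248914)
theorem F298036 : act 2 n83133 = n75770 := (sb E47528 F248910)
theorem F298037 : act 7 n83133 = n75263 := (sb E47528 (iv7 D158002))
theorem F298038 : act 4 n158852 = n160445 := (sb E47529 F262318)
theorem F298039 : act 6 n158852 = n79995 := (sb E47529 (iv6 D166675))
theorem F298040 : act 7 n158852 = n162703 := (sb E47529 (iv7 F262319))
theorem E51492 : n174666 = n173825 := (((iv1 F273522)).symm.trans (sb E47530 (iv1 F272414)))
theorem E51493 : n174217 = n173834 := (((iv0 F273004)).symm.trans (sb E47530 (iv0 F272429)))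
theorem F298041 : act 2 n158853 = n160639 := (sb E47530 F262321)
theorem F298042 : act 7 n158853 = n162704 := (sb E47530 F262322)
theorem F298043 : act 0 n78167 = n75263 := (sb E47531 (iv1 D157999))
theorem F298044 : act 1 n78167 = n75770 := (sb E47531 F248899)
theorem F298045 : act 2 n78167 = n75800 := (sb E47531 (iv2 F248901))
theorem F298046 : act 7 n78167 = n75799 := (sb E47531 (iv7 F248902))
theorem E51494 : n98131 = n79802 := ((((iv6 F122519)).symm.trans (sb E47532 (iv6 F275980)))).symm
theorem F298047 : act 7 n36353 = n21922 := (sb E47533 (iv7 D45839))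
theorem F298048 : act 3 n12895 = n21949 := (sb E47534 (iv3 F34455))
theorem F298049 : act 5 n12895 = n8202 := (sb E47534 (iv5 D17448))
theorem F298050 : act 6 n12895 = n8204 := (sb E47534 F28441)
theorem F298051 : act 0 n45904 = n80006 := (sb E47535 F122809)
theorem F298052 : act 2 n45904 = n83139 := (sb E47535 F128169)
theorem E51495 : n98212 = n84588 := ((D98212).symm.trans (sb E47535 (iv3 F129760)))
theorem E51496 : n121070 = n98213 := (((D98213).symm.trans (sb E47535 D121070))).symm
theorem F298053 : act 7 n45904 = n35721 := (sb E47535 F88370)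
theorem F298054 : act 0 n84193 = n121650 := (sb E47537 (iv1 F254023))
theorem F298055 : act 1 n84193 = n77194 := (sb E47537 (iv0 D160859))
theorem E51497 : n176596 = n165636 := ((D176596).symm.trans (sb E47537 (iv3 F260915)))
theorem F298057 : act 0 n83266 = n77194 := (sb E47538 F129997)
theorem F298058 : act 1 n83266 = n121650 := (sb E47538 (iv0 F194109))
theorem E51498 : n178111 = n174197 := ((((iv3 F272986)).symm.trans (sb E47538 D178111))).symm
theorem F298059 : act 7 n83266 = n160606 := (sb E47538 F253696)
theorem F298060 : act 2 n84244 = n160609 := (sb E47539 F254025)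
theorem F298061 : act 5 n84244 = n77194 := (sb E47539 (iv5 D160860))
theorem E51502 : n172090 = n166199 := ((F270231).symm.trans (sb E47539 (iv7 F261676)))
theorem F298062 : act 0 n79798 = n81825 := (sb E47540 F151305)
theorem F298063 : act 0 n56238 = n82407 := (sb E47542 (iv1 D172065))
theorem F298064 : act 1 n56238 = n82413 := (sb E47542 F270178)
theorem F298065 : act 2 n56238 = n84195 := (sb E47542 (iv2 F270181))
theorem E51504 : n176655 = n121704 := (((D121704).symm.trans (sb E47542 (iv5 F276034)))).symm
theorem E51505 : n98273 = n80514 := ((((iv4 F123765)).symm.trans (sb E47543 (iv4 F151670)))).symm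
theorem F298067 : act 0 n79880 = n82413 := (sb E47544 (iv1 F270174))
theorem F298068 : act 1 n79880 = n82407 := (sb E47544 (iv0 D172064))
theorem E51506 : n176656 = n166361 := (((D166361).symm.trans (sb E47544 (iv5 F276040)))).symm
theorem E51507 : n166362 = n88650 := ((D166362).symm.trans (sb E47544 (iv6 F270176)))
theorem F298069 : act 7 n79880 = n84195 := (sb E47544 (iv7 F270177))
theorem F298070 : act 1 n41384 = n77059 := (sb E47546 F122632)
theorem F298071 : act 2 n41384 = n36392 := (sb E47546 F122630)
theorem F298072 : act 6 n41384 = n36390 := (sb E47546 (iv6 D79881))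
theorem F298073 : act 7 n41384 = n77151 := (sb E47546 F122633)
theorem E51509 : n160411 = n84794 := (((iv4 F253386)).symm.trans (sb E47547 F277682))
theorem F298075 : act 6 n124240 = n84792 := (sb E47547 (iv6 D178128))
theorem F298076 : act 1 n80069 = n84198 := (sb E47549 (iv0 F271756))
theorem F298078 : act 6 n80069 = n82947 := (sb E47549 (iv6 D173324))
theorem F298079 : act 4 n172076 = n82949 := (sb E47550 F271653)
theorem F298080 : act 6 n172076 = n84248 := (sb E47550 F271654)
theorem F298081 : act 1 n172077 = n166208 := (sb E47551 F271659)
theorem E51513 : n166260 = n84197 := (((F270209).symm.trans (sb E47551 F271657))).symm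
theorem F298082 : act 0 n38822 = n36391 := (sb E47552 (iv1 D79882))
theorem F298083 : act 1 n164082 = n121136 := (sb E47553 (iv0 F258655))
theorem E51514 : n166373 = n83261 := (((F258595).symm.trans (sb E47553 (iv6 F261965)))).symm
theorem F298084 : act 1 n78839 = n160612 := (sb E47554 (iv0 F261186))
theorem F298085 : act 2 n78839 = n121151 := (sb E47554 F253975)
theorem F298086 : act 4 n78839 = n77165 := (sb E47554 F253976)
theorem F298087 : act 7 n78839 = n121154 := (sb E47554 F253977)
theorem F298088 : act 3 n79823 = n78620 := (sb E47555 F151322)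
theorem E51515 : n172082 = n166250 := ((((iv4 F261752)).symm.trans (sb E47555 (iv4 F270220)))).symm
theorem F298089 : act 1 n77944 = n88647 := (sb E47556 (iv0 F254709))
theorem F298090 : act 2 n77944 = n121572 := (sb E47556 F254707)
theorem F298091 : act 3 n77944 = n88662 := (sb E47556 F254708)
theorem E51516 : n180388 = n121276 := (((F256104).symm.trans (sb E47556 (iv4 F280718)))).symm
theorem E51517 : n174611 = n162654 := ((((iv4 F256893)).symm.trans (sb E47557 F288771))).symm
theorem F298092 : act 5 n78134 = n88662 := (sb E47557 (iv5 D186090))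
theorem E51518 : n164108 = n121049 := (((D121049).symm.trans (sb E47558 (iv4 F258637)))).symm
theorem F298093 : act 5 n55849 = n41371 := (sb E47558 (iv5 D88634))
theorem F298094 : act 6 n55849 = n88662 := (sb E47558 (iv6 F135987))
theorem E51519 : n40268 = n17189 := (((D17189).symm.trans (sb E47559 (iv7 F91553)))).symm
theorem E51524 : n85900 = n77607 := (((D77607).symm.trans (sb E47562 D85900))).symm
theorem F298095 : act 3 n27572 = n38647 := (sb E47563 F125777)
theorem E51525 : n84767 = n13178 := ((((iv4 D27572)).symm.trans (sb E47563 (iv4 F129966)))).symm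
theorem F298096 : act 6 n35428 = n39126 := (sb E47564 (iv6 D84711))
theorem E51528 : n177910 = n33629 := ((((iv2 F89999)).symm.trans (sb E47565 (iv2 F277476)))).symm
theorem E51530 : n122611 = n39120 := ((D122611).symm.trans (sb E47565 (iv6 D84696)))
theorem E51532 : n170944 = n120335 := (((D120335).symm.trans (sb E47566 D170944))).symm
theorem F298097 : act 2 n18572 = n27454 := (sb E47567 F90001)
theorem F298098 : act 4 n18572 = n27323 := (sb E47567 F90002)
theorem E51533 : n122612 = n39122 := (((D39122).symm.trans (sb E47567 D122612))).symm
theorem F298099 : act 6 n18572 = n27322 := (sb E47567 (iv6 D56933))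
theorem F298100 : act 0 n35615 = n39126 := (sb E47568 (iv1 F129927))
theorem F298101 : act 2 n35615 = n40093 := (sb E47568 (iv2 F129926))
theorem F298102 : act 6 n35615 = n41379 := (sb E47568 (iv6 F129929))
theorem F298103 : act 7 n35615 = n40087 := (sb E47568 F129928)
theorem F298104 : act 0 n56937 = n40087 := (sb E47569 F129822)
theorem F298105 : act 1 n56937 = n40093 := (sb E47569 F129823)
theorem F298106 : act 2 n56937 = n39126 := (sb E47569 F129819)
theorem F298107 : act 3 n56937 = n55352 := (sb E47569 F129821)
theorem E51534 : n35534 = n17639 := (((D17639).symm.trans (sb E47570 (iv7 F91530)))).symm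
theorem E51535 : n80198 = n46005 := ((D80198).symm.trans (sb E47571 (iv1 F73849)))
theorem E51536 : n80199 = n22403 := ((D80199).symm.trans (sb E47571 (iv0 D46723)))
theorem E51537 : n80200 = n46002 := ((D80200).symm.trans (sb E47571 (iv2 F286913)))
theorem E51539 : n100071 = n80201 := (((D80201).symm.trans (sb E47571 D100071))).symm
theorem E51541 : n170932 = n57368 := (((D57368).symm.trans (sb E47572 D170932))).symm
theorem E51542 : n76817 = n34766 := (((iv1 F115465)).symm.trans (sb E47573 (iv1 D76092)))
theorem E51543 : n159139 = n76821 := ((((iv0 F115344)).symm.trans (sb E47573 F250567))).symm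
theorem E51544 : n80202 = n57984 := ((D80202).symm.trans (sb E47573 F114080))
theorem E51546 : n82104 = n35118 := (((F115874).symm.trans (sb E47574 F194893))).symm
theorem E51547 : n98171 = n80206 := (((D80206).symm.trans (sb E47574 (iv6 F194897)))).symm
theorem F298108 : act 5 n36538 = n35532 := (sb E47575 (iv5 D77864))
theorem E51548 : n46267 = n33366 := ((((iv1 F74052)).symm.trans (sb E47576 F275526))).symm
theorem E51549 : n100408 = n33528 := (((F74053).symm.trans (sb E47576 F275527))).symm
theorem E51550 : n100073 = n22512 := (((F74048).symm.trans (sb E47576 (iv2 F286925)))).symm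
theorem E51552 : n159172 = n100391 := (((D100391).symm.trans (sb E47576 (iv6 F250632)))).symm
theorem E51554 : n170938 = n57369 := (((D57369).symm.trans (sb E47577 D170938))).symm
theorem E51555 : n34769 = n26797 := (((F91216).symm.trans (sb E47578 (iv0 D76105)))).symm
theorem E51556 : n120329 = n58507 := ((D120329).symm.trans (sb E47578 F117525))
theorem E51557 : n120319 = n85865 := (((iv7 F191605)).symm.trans (sb E47578 (iv7 F131720)))
theorem F298109 : act 5 n36659 = n75198 := (sb E47579 (iv5 D157850))
theorem E51558 : n80390 = n80357 := (((iv6 F196251)).symm.trans (sb E47579 F248755))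
theorem E51559 : n41691 = n16657 := (((D16657).symm.trans (sb E47581 F286849))).symm
theorem E51560 : n41082 = n16658 := (((D16658).symm.trans (sb E47581 (iv0 F286854)))).symm
theorem E51561 : n41688 = n16147 := (((F25736).symm.trans (sb E47581 F286726))).symm
theorem E51563 : n82099 = n16660 := (((D16660).symm.trans (sb E47581 D82099))).symm
theorem E51565 : n82105 = n35119 := (((D35119).symm.trans (sb E47583 D82105))).symm
theorem E51567 : n100808 = n55435 := ((((iv1 F90125)).symm.trans (sb E47584 F286818))).symm
theorem E51568 : n122796 = n70606 := ((D122796).symm.trans (sb E47584 F286820))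
theorem E51569 : n70715 = n55433 := (((F128198).symm.trans (sb E47584 F286822))).symm
theorem E51570 : n74999 = n41474 := (((iv3 F112536)).symm.trans (sb E47585 (iv3 D88839)))
theorem E51572 : n186520 = n122798 := (((D122798).symm.trans (sb E47585 D186520))).symm
theorem F298110 : act 2 n47002 = n27370 := (sb E47586 (iv2 D57080))
theorem F298111 : act 3 n47002 = n55425 := (sb E47586 F90126)
theorem E51573 : n100807 = n52681 := ((D100807).symm.trans (sb E47586 F90127))
theorem E51574 : n172210 = n57700 := (((D57700).symm.trans (sb E47587 (iv6 F270407)))).symm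
theorem E51575 : n98162 = n55436 := (((D55436).symm.trans (sb E47588 F286815))).symm
theorem F298112 : act 5 n27557 = n45799 := (sb E47591 (iv5 D98073))
theorem F298113 : act 4 n26778 = n21937 := (sb E47593 F72424)
theorem E51577 : n98168 = n55440 := (((D55440).symm.trans (sb E47593 (iv5 F151432)))).symm
theorem F298114 : act 7 n26778 = n21934 := (sb E47593 (iv7 D45859))
theorem E51580 : n176390 = n127832 := ((((iv2 F205661)).symm.trans (sb E47595 D176390))).symm
theorem E51582 : n173712 = n84112 := (((iv7 F272265)).symm.trans (sb E47595 (iv7 F129126)))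
theorem F298116 : act 5 n75721 = n38249 := (sb E47596 (iv5 D83096))
theorem F298117 : act 4 n38757 = n39937 := (sb E47597 (iv4 F128049))
theorem F298118 : act 7 n38757 = n38249 := (sb E47597 F128048)
theorem F298119 : act 7 n38214 = n39959 := (sb E47598 F132267)
theorem F298120 : act 2 n38658 = n39959 := (sb E47599 F132270)
theorem E51589 : n83911 = n57751 := (((iv3 F128898)).symm.trans (sb E47599 F132271))
theorem E51591 : n83050 = n78224 := (((iv6 F127995)).symm.trans (sb E47599 F132272))
theorem F298121 : act 6 n35656 = n38647 := (sb E47600 (iv6 D83912))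
theorem E51592 : n79238 = n6491 := (((D6491).symm.trans (sb E47603 (iv6 D164922)))).symm
theorem F298122 : act 3 n7606 = n3713 := (sb E47606 F13000)
theorem E51594 : n17487 = n3454 := ((((iv4 D7606)).symm.trans (sb E47606 (iv4 F28478)))).symm
theorem F298123 : act 7 n7606 = n3705 := (sb E47606 (iv7 D8229))
theorem F298124 : act 0 n8096 = n3705 := (sb E47607 (iv1 D8227))
theorem E51598 : n173297 = n28644 := (((D28644).symm.trans (sb E47608 D173297))).symm
theorem E51599 : n38424 = n28645 := (((D28645).symm.trans (sb E47608 F127795))).symm
theorem E51600 : n158838 = n78084 := (((D78084).symm.trans (sb E47609 (iv1 F250090)))).symm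
theorem E51601 : n158764 = n78085 := (((D78085).symm.trans (sb E47609 (iv0 F249947)))).symm
theorem F298125 : act 2 n35612 = n38421 := (sb E47609 F127796)
theorem E51602 : n173298 = n78086 := (((D78086).symm.trans (sb E47609 D173298))).symm
theorem E51603 : n78087 = n38426 := ((D78087).symm.trans (sb E47609 F127797))
theorem F298126 : act 4 n18325 = n17253 := (sb E47610 F56297)
theorem F298127 : act 7 n18325 = n17249 := (sb E47610 (iv7 D35613))
theorem F298128 : act 0 n35616 = n18335 := (sb E47611 F113497)
theorem F298129 : act 1 n35616 = n18330 := (sb E47611 F113498)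
theorem F298130 : act 2 n35616 = n18359 := (sb E47611 F59048)
theorem E51604 : n82963 = n78102 := (((D78102).symm.trans (sb E47611 (iv3 F127865)))).symm
theorem E51605 : n82971 = n78103 := (((D78103).symm.trans (sb E47611 (iv5 F127886)))).symm
theorem F298131 : act 7 n35616 = n18251 := (sb E47611 (iv7 D38187))
theorem F298132 : act 1 n34599 = n56694 := (sb E47612 (iv0 F117597))
theorem F298133 : act 2 n34599 = n35222 := (sb E47612 F115884)
theorem E51606 : n160663 = n75663 := ((((iv3 F113523)).symm.trans (sb E47612 D160663))).symm
theorem F298134 : act 4 n34599 = n35192 := (sb E47612 (iv4 D77055))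
theorem E51607 : n160664 = n75670 := (((D75670).symm.trans (sb E47612 D160664))).symm
theorem F298135 : act 7 n34599 = n35227 := (sb E47612 F115885)
theorem F298136 : act 1 n77056 = n41384 := (sb E47613 (iv0 D88648))
theorem F298137 : act 3 n77056 = n55825 := (sb E47613 F135931)
theorem E51608 : n160665 = n83262 := ((D160665).symm.trans (sb E47613 F135928))
theorem F298138 : act 1 n77058 = n75668 := (sb E47614 F249178)
theorem E51609 : n160666 = n83258 := ((D160666).symm.trans (sb E47614 F249175))
theorem E51610 : n80523 = n75656 := (((iv6 F123795)).symm.trans (sb E47614 F249176))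
theorem E51618 : n56347 = n17674 := (((D17674).symm.trans (sb E47618 F89117))).symm
theorem F298139 : act 1 n36660 = n56853 := (sb E47621 (iv0 F117910))
theorem E51620 : n83968 = n80440 := (((D80440).symm.trans (sb E47621 (iv3 F128950)))).symm
theorem E51621 : n82614 = n80442 := (((D80442).symm.trans (sb E47621 F127239))).symm
theorem F298140 : act 7 n36660 = n75688 := (sb E47621 F114010)
theorem F298141 : act 0 n36662 = n21963 := (sb E47622 (iv1 D45956))
theorem F298142 : act 0 n36665 = n56853 := (sb E47623 (iv1 F117911))
theorem F298143 : act 2 n36665 = n75688 := (sb E47623 F114013)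
theorem E51622 : n83982 = n80446 := (((D80446).symm.trans (sb E47623 (iv3 F128960)))).symm
theorem F298144 : act 6 n36665 = n75250 := (sb E47623 (iv6 F112793))
theorem F298145 : act 3 n47128 = n54827 := (sb E47626 (iv3 D119147))
theorem E51623 : n155173 = n101191 := (((D101191).symm.trans (sb E47626 (iv6 F243990)))).symm
theorem F298146 : act 5 n122364 = n173338 := (sb E47628 (iv5 F271785))
theorem E51624 : n174226 = n160779 := ((((iv7 F253927)).symm.trans (sb E47628 (iv7 F273018)))).symm
theorem F298147 : act 2 n122365 = n82257 := (sb E47629 F249365)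
theorem F298148 : act 5 n122365 = n173339 := (sb E47629 (iv5 F271788))
theorem F298149 : act 5 n82953 = n56694 := (sb E47630 (iv5 D122366))
theorem E51626 : n160780 = n38517 := (((F127845).symm.trans (sb E47630 (iv7 F253929)))).symm
theorem F298150 : act 2 n77145 = n75668 := (sb E47631 F128355)
theorem F298151 : act 4 n77145 = n38360 := (sb E47631 (iv4 D83281))
theorem E51627 : n75579 = n28507 := (((iv3 F113437)).symm.trans (sb E47632 (iv3 D60033)))
theorem E51628 : n76561 = n52881 := ((((iv4 F83556)).symm.trans (sb E47632 (iv4 F114810)))).symm
theorem E51629 : n97105 = n75582 := (((D75582).symm.trans (sb E47632 F149834))).symm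
theorem F298152 : act 7 n34574 = n28580 := (sb E47632 F94535)
theorem F298153 : act 0 n60133 = n54612 := (sb E47633 (iv1 D118604))
theorem F298154 : act 1 n60133 = n54827 := (sb E47633 F186547)
theorem E51630 : n152211 = n71780 := ((((iv3 F108245)).symm.trans (sb E47633 (iv3 F239286)))).symm
theorem E51631 : n79155 = n60045 := (((iv4 F120441)).symm.trans (sb E47633 (iv4 F190656)))
theorem E51632 : n127987 = n72178 := ((D127987).symm.trans (sb E47633 (iv6 F190993)))
theorem F298155 : act 7 n60133 = n55308 := (sb E47633 F190991)
theorem F298156 : act 0 n60132 = n55308 := (sb E47634 (iv1 F189860))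
theorem F298157 : act 2 n60132 = n54612 := (sb E47634 F186534)
theorem E51633 : n54611 = n40096 := (((F94692).symm.trans (sb E47634 (iv4 D118601)))).symm
theorem E51634 : n175312 = n127986 := (((D127986).symm.trans (sb E47634 (iv6 F274362)))).symm
theorem F298158 : act 7 n60132 = n54827 := (sb E47634 F186535)
theorem E51635 : n56293 = n12662 := (((F85920).symm.trans (sb E47635 D56293))).symm
theorem E51636 : n56294 = n54610 := (((D54610).symm.trans (sb E47635 D56294))).symm
theorem E51637 : n54613 = n36158 := ((D54613).symm.trans (sb E47635 (iv5 F56893)))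
theorem F298159 : act 0 n118605 = n60230 := (sb E47636 (iv1 F194481))
theorem F298160 : act 2 n118605 = n127985 := (sb E47636 (iv2 F205969))
theorem F298161 : act 4 n118605 = n87463 := (sb E47636 F194479)
theorem F298162 : act 2 n122498 = n81998 := (sb E47638 F248932)
theorem F298163 : act 1 n83918 = n80414 := (sb E47640 F248939)
theorem F298164 : act 2 n83918 = n75696 := (sb E47640 F248935)
theorem F298165 : act 0 n77067 = n75532 := (sb E47641 (iv1 F249523))
theorem E51640 : n160680 = n98232 := ((D160680).symm.trans (sb E47641 F249521))
theorem F298166 : act 7 n77067 = n75528 := (sb E47641 (iv7 D158364))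
theorem F298167 : act 7 n72442 = n75532 := (sb E47642 (iv7 F249541))
theorem E51642 : n184007 = n33447 := ((((iv1 F108953)).symm.trans (sb E47644 F285897))).symm
theorem E51643 : n100402 = n33444 := (((F108951).symm.trans (sb E47644 (iv0 F285903)))).symm
theorem F298168 : act 5 n152463 = n174772 := (sb E47646 F273588)
theorem F298169 : act 2 n52832 = n75532 := (sb E47647 F249542)
theorem F298170 : act 3 n151454 = n75532 := (sb E47648 (iv3 D158375))
theorem F298171 : act 4 n56979 = n75532 := (sb E47649 (iv4 D158376))
theorem F298172 : act 5 n52818 = n75532 := (sb E47650 (iv5 D158377))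
theorem F298173 : act 2 n158378 = n114461 := (sb E47651 F262524)
theorem F298174 : act 4 n158378 = n122659 := (sb E47651 F262525)
theorem F298175 : act 1 n72442 = n75528 := (sb E47652 (iv0 D158361))
theorem E51645 : n174844 = n153324 := (((D153324).symm.trans (sb E47652 (iv6 F273708)))).symm
theorem F298176 : act 0 n52832 = n75528 := (sb E47653 (iv1 D158362))
theorem E51646 : n184005 = n33443 := (((F83483).symm.trans (sb E47653 F285932))).symm
theorem F298177 : act 3 n52981 = n98758 := (sb E47654 F249516)
theorem F298178 : act 5 n52981 = n75528 := (sb E47654 (iv5 D158363))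
theorem E51647 : n121425 = n114818 := (((D114818).symm.trans (sb E47654 F249517))).symm
theorem F298180 : act 5 n152352 = n75530 := (sb E47658 (iv5 D158367))
theorem E51648 : n160681 = n98230 := ((((iv1 F151581)).symm.trans (sb E47660 D160681))).symm
theorem F298181 : act 6 n45916 = n35197 := (sb E47660 (iv6 D77068))
theorem F298182 : act 5 n122333 = n176399 := (sb E47662 (iv5 F275686))
theorem F298183 : act 3 n120796 = n75550 := (sb E47663 F243681)
theorem F298184 : act 2 n158394 = n81850 := (sb E47664 F253673)
theorem F298185 : act 4 n158394 = n82425 := (sb E47664 F253674)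
theorem E51651 : n172865 = n82449 := (((D82449).symm.trans (sb E47666 F295812))).symm
theorem E51652 : n172870 = n82450 := (((D82450).symm.trans (sb E47666 F295813))).symm
theorem F298186 : act 4 n37826 = n75537 := (sb E47666 F295814)
theorem E51653 : n82605 = n82451 := (((D82451).symm.trans (sb E47666 F249356))).symm
theorem F298187 : act 4 n158391 = n82452 := (sb E47669 F262538)
theorem F298188 : act 6 n158391 = n160687 := (sb E47669 F262539)
theorem E51654 : n160686 = n98256 := ((D160686).symm.trans (sb E47670 F295817))
theorem E51658 : n82598 = n80497 := (((D80497).symm.trans (sb E47672 (iv4 F127220)))).symm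
theorem F298189 : act 6 n36724 = n19493 := (sb E47672 (iv6 D41385))
theorem F298190 : act 7 n36724 = n21962 := (sb E47672 F118976)
theorem F298191 : act 2 n17279 = n21962 := (sb E47674 F118963)
theorem E51661 : n82594 = n35651 := ((((iv4 F56319)).symm.trans (sb E47674 (iv4 F127206)))).symm
theorem F298192 : act 2 n27152 = n21963 := (sb E47675 F118965)
theorem F298193 : act 6 n38244 = n18445 := (sb E47676 F59208)
theorem E51662 : n176395 = n98961 := ((D176395).symm.trans (sb E47678 (iv0 F195628)))
theorem E51663 : n176396 = n88074 := ((D176396).symm.trans (sb E47678 F195624))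
theorem F298194 : act 6 n84104 = n56646 := (sb E47678 (iv6 D122332))
theorem F298195 : act 0 n38467 = n39959 := (sb E47680 F90417)
theorem F298196 : act 3 n6219 = n12809 := (sb E47683 F43013)
theorem E51667 : n60419 = n36087 := (((D36087).symm.trans (sb E47684 (iv3 F94927)))).symm
theorem E51668 : n36088 = n35709 := ((D36088).symm.trans (sb E47684 (iv6 F56389)))
theorem F298197 : act 2 n27408 = n18543 := (sb E47685 (iv2 F44668))
theorem F298198 : act 5 n27408 = n17070 := (sb E47685 F44644)
theorem E51669 : n55690 = n54909 := ((D55690).symm.trans (sb E47686 (iv1 F186991)))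
theorem E51670 : n55691 = n55035 := ((D55691).symm.trans (sb E47686 (iv0 F186992)))
theorem E51671 : n54926 = n45776 := ((((iv2 F72257)).symm.trans (sb E47686 (iv2 F131621)))).symm
theorem E51672 : n54619 = n45775 := (((F72256).symm.trans (sb E47686 (iv5 F86324)))).symm
theorem E51673 : n55693 = n16330 := ((D55693).symm.trans (sb E47686 (iv6 D33797)))
theorem F298199 : act 5 n26415 = n12871 := (sb E47687 (iv5 D26894))
theorem E51674 : n55694 = n54620 := (((D54620).symm.trans (sb E47687 D55694))).symm
theorem F298200 : act 6 n7591 = n12871 := (sb E47688 (iv6 D26895))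
theorem E51676 : n57913 = n18602 := (((D18602).symm.trans (sb E47689 (iv0 F117613)))).symm
theorem E51677 : n80104 = n18603 := (((D18603).symm.trans (sb E47689 D80104))).symm
theorem F298201 : act 6 n8735 = n17613 := (sb E47689 F57292)
theorem F298202 : act 0 n60228 = n54987 := (sb E47693 F188502)
theorem E51679 : n128136 = n54924 := ((D128136).symm.trans (sb E47693 (iv6 D119353)))
theorem E51680 : n128072 = n54959 := ((((iv1 F188449)).symm.trans (sb E47694 F206101))).symm
theorem F298203 : act 6 n33795 = n55692 := (sb E47694 (iv6 D120797))
theorem F298204 : act 2 n38448 = n81851 := (sb E47695 F253675)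
theorem F298205 : act 3 n38452 = n79615 := (sb E47698 (iv3 F248960))
theorem F298206 : act 3 n8501 = n13075 := (sb E47700 F44139)
theorem E51682 : n39060 = n18020 := (((D18020).symm.trans (sb E47700 (iv7 F60059)))).symm
theorem E51683 : n55513 = n35148 := (((D35148).symm.trans (sb E47701 D55513))).symm
theorem E51684 : n56712 = n55500 := ((D56712).symm.trans (sb E47702 F129735))
theorem F298207 : act 3 n27256 = n38360 := (sb E47703 F121037)
theorem F298208 : act 5 n27256 = n27479 := (sb E47703 (iv5 D57431))
theorem E51685 : n162752 = n75768 := (((D75768).symm.trans (sb E47704 (iv4 F256980)))).symm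
theorem F298209 : act 5 n38336 = n56696 := (sb E47705 (iv5 D122369))
theorem F298210 : act 6 n34635 = n56696 := (sb E47706 (iv6 D122370))
theorem E51686 : n17765 = n15991 := (((D15991).symm.trans (sb E47707 D17765))).symm
theorem F298211 : act 3 n8537 = n13053 := (sb E47708 F28106)
theorem E51688 : n35352 = n16828 := ((((iv7 F29734)).symm.trans (sb E47708 D35352))).symm
theorem E51689 : n54615 = n17634 := ((((iv4 F28697)).symm.trans (sb E47709 D54615))).symm
theorem F298212 : act 5 n17481 = n12602 := (sb E47709 (iv5 D26412))
theorem E51690 : n54616 = n36159 := (((D36159).symm.trans (sb E47709 D54616))).symm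
theorem F298213 : act 7 n17481 = n15986 := (sb E47709 F42196)
theorem E51693 : n36851 = n16830 := (((D16830).symm.trans (sb E47711 F117605))).symm
theorem F298214 : act 0 n34619 = n18172 := (sb E47714 F54886)
theorem F298215 : act 2 n34619 = n56794 := (sb E47714 (iv2 F117782))
theorem F298216 : act 5 n34619 = n58234 := (sb E47714 (iv5 F117895))
theorem E51695 : n82533 = n82444 := (((D82444).symm.trans (sb E47715 F239855))).symm
theorem E51696 : n150436 = n54818 := ((((iv0 D119123)).symm.trans (sb E47717 (iv0 F249267)))).symm
theorem F298217 : act 3 n119123 = n75377 := (sb E47717 (iv3 D158224))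
theorem F298218 : act 5 n119123 = n114604 := (sb E47717 F249264)
theorem F298219 : act 5 n158225 = n173934 := (sb E47720 F272571)
theorem E51699 : n173981 = n82443 := (((D82443).symm.trans (sb E47726 (iv6 F272619)))).symm
theorem F298220 : act 3 n37822 = n77645 := (sb E47727 F239848)
theorem E51701 : n73610 = n71889 := (((D71889).symm.trans (sb E47728 F239852))).symm
theorem F298221 : act 5 n114054 = n55054 := (sb E47732 (iv5 D119656))
theorem F298222 : act 7 n114054 = n73935 := (sb E47732 F188741)
theorem E51703 : n82530 = n82446 := (((D82446).symm.trans (sb E47733 F127178))).symm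
theorem E51704 : n82547 = n82447 := (((D82447).symm.trans (sb E47733 (iv5 F127184)))).symm
theorem F298223 : act 0 n158230 = n82762 := (sb E47734 (iv1 F249328))
theorem F298224 : act 2 n158230 = n82759 := (sb E47734 F272836)
theorem F298225 : act 4 n158230 = n160717 := (sb E47734 (tr (iv4 F296023) E48095))
theorem F298226 : act 5 n158230 = n174044 := (sb E47734 F272837)
theorem F298227 : act 7 n158230 = n82760 := (sb E47734 F272838)
theorem F298228 : act 1 n158231 = n82762 := (sb E47735 F249329)
theorem F298229 : act 2 n158231 = n82760 := (sb E47735 F272834)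
theorem F298230 : act 4 n158231 = n160718 := (sb E47735 (tr (iv4 F296026) E48096))
theorem F298231 : act 5 n158231 = n100476 := (sb E47735 (iv5 F249330))
theorem F298232 : act 7 n158231 = n82759 := (sb E47735 F272835)
theorem F298233 : act 4 n155458 = n160687 := (sb E47736 (iv4 F253824))
theorem F298234 : act 6 n155458 = n82452 := (sb E47736 F249274)
theorem F298235 : act 7 n155458 = n75380 := (sb E47736 (iv7 D158233))
theorem F298236 : act 2 n37829 = n75503 := (sb E47737 (iv2 F113312))
theorem E51705 : n82604 = n82457 := (((D82457).symm.trans (sb E47737 (iv4 F127233)))).symm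
theorem E51711 : n128082 = n55683 := (((D55683).symm.trans (sb E47740 (iv1 F206132)))).symm
theorem E51712 : n54951 = n28656 := (((iv0 F86934)).symm.trans (sb E47740 (iv0 D60333)))
theorem E51713 : n127922 = n55684 := (((D55684).symm.trans (sb E47740 (iv2 F205834)))).symm
theorem E51714 : n55685 = n29293 := ((D55685).symm.trans (sb E47740 F188469))
theorem E51715 : n55686 = n39621 := ((D55686).symm.trans (sb E47740 F188470))
theorem F298237 : act 5 n13919 = n12869 := (sb E47741 (iv5 D26888))
theorem E51716 : n55687 = n29295 := (((D29295).symm.trans (sb E47741 D55687))).symm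
theorem F298238 : act 4 n18760 = n12870 := (sb E47742 F43374)
theorem F298239 : act 6 n18760 = n12869 := (sb E47742 (iv6 D26889))
theorem F298240 : act 0 n8251 = n8911 := (sb E47743 (iv1 D19031))
theorem F298241 : act 7 n8251 = n12870 := (sb E47743 F59696)
theorem E51718 : n128241 = n47214 := ((((iv3 F74489)).symm.trans (sb E47746 (iv3 F206371)))).symm
theorem E51719 : n79386 = n72812 := (((iv4 F121978)).symm.trans (sb E47746 (iv4 F109298)))
theorem E51720 : n98139 = n28643 := ((D98139).symm.trans (sb E47746 (iv6 D60286)))
theorem E51721 : n150323 = n98142 := (((D98142).symm.trans (sb E47747 F240599))).symm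
theorem E51722 : n98143 = n72338 := ((D98143).symm.trans (sb E47747 (iv0 D153221)))
theorem E51723 : n153259 = n98140 := ((((iv2 F151345)).symm.trans (sb E47747 F240760))).symm
theorem E51724 : n147576 = n98144 := (((D98144).symm.trans (sb E47747 (iv4 F240597)))).symm
theorem E51725 : n128266 = n98146 := (((D98146).symm.trans (sb E47748 F230747))).symm
theorem E51726 : n179649 = n98147 := (((D98147).symm.trans (sb E47748 D179649))).symm
theorem E51728 : n179650 = n98148 := (((D98148).symm.trans (sb E47748 D179650))).symm
theorem E51731 : n84056 = n38239 := (((D38239).symm.trans (sb E47750 D84056))).symm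
theorem E51732 : n78203 = n38241 := (((D38241).symm.trans (sb E47750 (iv6 F119409)))).symm
theorem E51733 : n79817 = n38730 := (((F72405).symm.trans (sb E47751 (iv7 D166241)))).symm
theorem F298242 : act 4 n18420 = n17557 := (sb E47752 F57101)
theorem F298243 : act 5 n37452 = n27572 := (sb E47753 (iv5 D57754))
theorem F298244 : act 6 n37452 = n39953 := (sb E47753 (iv6 F90936))
theorem F298245 : act 3 n35657 = n36769 := (sb E47754 (iv3 F118810))
theorem F298246 : act 6 n35657 = n18396 := (sb E47754 (iv6 D38667))
theorem E51734 : n79805 = n38817 := (((D38817).symm.trans (sb E47755 D79805))).symm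
theorem E51736 : n128120 = n98107 := ((((iv2 F151257)).symm.trans (sb E47756 (iv2 F206197)))).symm
theorem E51737 : n98113 = n79799 := ((D98113).symm.trans (sb E47756 F194111))
theorem E51738 : n98118 = n79813 := ((D98118).symm.trans (sb E47757 (iv1 F194114)))
theorem E51739 : n98119 = n79812 := ((D98119).symm.trans (sb E47757 F194117))
theorem E51740 : n98121 = n79800 := ((D98121).symm.trans (sb E47757 F194113))
theorem F298247 : act 0 n36352 = n37800 := (sb E47758 (iv1 F121887))
theorem F298248 : act 1 n36352 = n37795 := (sb E47758 (iv0 F121893))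
theorem F298249 : act 7 n36352 = n21919 := (sb E47758 (iv7 D45825))
theorem F298250 : act 1 n36361 = n21922 := (sb E47759 (iv0 D45836))
theorem F298251 : act 3 n36361 = n35812 := (sb E47759 F121900)
theorem F298252 : act 0 n36360 = n21922 := (sb E47760 (iv1 D45837))
theorem F298253 : act 3 n36360 = n77539 := (sb E47760 F126970)
theorem E51741 : n79825 = n38843 := ((((iv1 F126963)).symm.trans (sb E47761 F194124))).symm
theorem E51742 : n79824 = n38847 := (((F121806).symm.trans (sb E47761 F194125))).symm
theorem F298254 : act 2 n45838 = n56199 := (sb E47761 F194122)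
theorem E51743 : n36035 = n28543 := (((F190654).symm.trans (sb E47762 D36035))).symm
theorem E51744 : n36036 = n28508 := (((F190655).symm.trans (sb E47762 D36036))).symm
theorem E51745 : n36037 = n28540 := (((F189869).symm.trans (sb E47762 D36037))).symm
theorem F298255 : act 4 n15711 = n21945 := (sb E47762 (iv4 F34451))
theorem E51746 : n36038 = n32814 := (((D32814).symm.trans (sb E47762 D36038))).symm
theorem E51747 : n36039 = n32815 := (((D32815).symm.trans (sb E47762 D36039))).symm
theorem F298256 : act 7 n15711 = n17755 := (sb E47762 (iv7 F28882))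
theorem F298257 : act 2 n15713 = n17749 := (sb E47763 (iv2 F28868))
theorem E51748 : n32818 = n17641 := ((D32818).symm.trans (sb E47763 (iv4 F28711)))
theorem E51749 : n36040 = n32819 := (((D32819).symm.trans (sb E47763 D36040))).symm
theorem F298258 : act 2 n15714 = n17750 := (sb E47764 (iv2 F28871))
theorem F298259 : act 4 n15714 = n8202 := (sb E47764 F28440)
theorem E51751 : n36044 = n32822 := (((D32822).symm.trans (sb E47764 D36044))).symm
theorem F298260 : act 2 n17104 = n17679 := (sb E47765 F51236)
theorem E51752 : n35248 = n16804 := ((D35248).symm.trans (sb E47765 (iv4 F28980)))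
theorem E51753 : n35249 = n17287 := ((D35249).symm.trans (sb E47765 (iv5 F28231)))
theorem F298261 : act 6 n17104 = n8015 := (sb E47765 (iv6 D17137))
theorem E51754 : n54287 = n36051 := (((D36051).symm.trans (sb E47766 (iv4 F85656)))).symm
theorem E51755 : n36053 = n17732 := ((D36053).symm.trans (sb E47766 (iv6 F43987)))
theorem F298262 : act 7 n17447 = n17679 := (sb E47766 (iv7 F51262))
theorem F298263 : act 0 n17314 = n17692 := (sb E47767 F59736)
theorem F298264 : act 2 n17314 = n17753 := (sb E47767 (iv2 F28874))
theorem F298265 : act 3 n17314 = n21950 := (sb E47767 (iv3 F34457))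
theorem F298266 : act 7 n17314 = n8202 := (sb E47767 (iv7 D17449))
theorem E51756 : n150322 = n98189 := (((D98189).symm.trans (sb E47768 D150322))).symm
theorem E51757 : n98190 = n33420 := ((D98190).symm.trans (sb E47768 F190544))
theorem E51758 : n98191 = n80502 := ((D98191).symm.trans (sb E47768 F190545))
theorem F298267 : act 7 n45887 = n33416 := (sb E47768 F190546)
theorem F298268 : act 0 n33385 = n21945 := (sb E47769 (iv1 D45888))
theorem F298269 : act 1 n33385 = n37874 := (sb E47769 F72476)
theorem E51759 : n87774 = n72334 := ((((iv3 F108791)).symm.trans (sb E47769 (iv3 F134746)))).symm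
theorem E51760 : n80755 = n16122 := (((F52630).symm.trans (sb E47769 (iv4 F124257)))).symm
theorem F298270 : act 7 n33385 = n37873 := (sb E47769 (iv7 F125498))
theorem F298271 : act 1 n45889 = n33416 := (sb E47770 F190487)
theorem E51761 : n127917 = n83190 := ((((iv5 F128253)).symm.trans (sb E47770 D127917))).symm
theorem E51762 : n127918 = n98193 := (((D98193).symm.trans (sb E47770 D127918))).symm
theorem E51763 : n150324 = n83145 := (((F128187).symm.trans (sb E47771 D150324))).symm
theorem E51764 : n150325 = n83148 := ((((iv0 F128207)).symm.trans (sb E47771 D150325))).symm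
theorem E51765 : n150326 = n83191 := (((D83191).symm.trans (sb E47771 D150326))).symm
theorem E51767 : n150328 = n98194 := (((D98194).symm.trans (sb E47772 D150328))).symm
theorem E51768 : n150329 = n98195 := (((D98195).symm.trans (sb E47772 D150329))).symm
theorem E51769 : n150330 = n98196 := (((D98196).symm.trans (sb E47772 D150330))).symm
theorem E51770 : n150331 = n98197 := (((D98197).symm.trans (sb E47772 D150331))).symm
theorem E51771 : n98199 = n78198 := ((D98199).symm.trans (sb E47775 F195216))
theorem E51772 : n98201 = n78199 := ((D98201).symm.trans (sb E47776 (iv5 F195224)))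
theorem E51773 : n158709 = n98202 := (((D98202).symm.trans (sb E47776 (iv6 F249871)))).symm
theorem E51774 : n84192 = n83115 := (((iv0 F129242)).symm.trans (sb E47777 F195227))
theorem E51775 : n98205 = n83112 := ((D98205).symm.trans (sb E47777 F195226))
theorem F298272 : act 5 n35652 = n21947 := (sb E47779 (iv5 D45898))
theorem F298273 : act 0 n45901 = n56404 := (sb E47780 (iv1 F194713))
theorem F298274 : act 5 n45901 = n78059 := (sb E47780 F194709)
theorem F298275 : act 7 n45901 = n56403 := (sb E47780 F194711)
theorem E51779 : n80512 = n34625 := (((D34625).symm.trans (sb E47788 (iv6 F123762)))).symm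
theorem E51781 : n84102 = n84048 := (((iv7 F129084)).symm.trans (sb E47790 F266151))
theorem F298276 : act 3 n36736 = n35288 := (sb E47792 F72466)
theorem F298277 : act 6 n36736 = n21942 := (sb E47792 (iv6 D45882))
theorem E51782 : n153261 = n29761 := (E47794).trans E49458
theorem E51783 : n72389 = n62891 := ((((iv3 F98104)).symm.trans (sb E51782 (iv3 D153261)))).symm
theorem E51784 : n75578 = n28538 := (((iv1 F113433)).symm.trans (sb E47796 (iv1 D60080)))
theorem E51785 : n75577 = n72393 := ((F113435).symm.trans (sb E47796 F191023))
theorem E51786 : n98750 = n33387 := ((D98750).symm.trans (sb E47796 F191024))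
theorem E51787 : n127909 = n36512 := (((F72852).symm.trans (sb E47796 D127909))).symm
theorem E51788 : n127910 = n98751 := (((D98751).symm.trans (sb E47796 D127910))).symm
theorem E51790 : n127996 = n75556 := (((D75556).symm.trans (sb E47798 (iv0 F205988)))).symm
theorem E51795 : n54691 = n12626 := (((D12626).symm.trans (sb E47805 (iv6 F86510)))).symm
theorem E51797 : n56282 = n12632 := (((D12632).symm.trans (sb E47807 (iv0 F89024)))).symm
theorem E51799 : n73439 = n12609 := ((((iv1 F27275)).symm.trans (sb E47811 F238243))).symm
theorem E51801 : n73789 = n12729 := (((D12729).symm.trans (sb E47811 F189366))).symm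
theorem F298278 : act 0 n6156 = n12956 := (sb E47817 (iv1 D27039))
theorem E51811 : n79353 = n12720 := (((D12720).symm.trans (sb E47818 (iv6 D165157)))).symm
theorem E51818 : n181491 = n8790 := (((D8790).symm.trans (sb E47827 (iv3 F282581)))).symm
theorem E51822 : n79527 = n27846 := ((((iv7 F44961)).symm.trans (sb E47829 (iv7 D165583)))).symm
theorem E51826 : n58400 = n13264 := (((D13264).symm.trans (sb E47832 (iv3 F92243)))).symm
theorem E51828 : n36621 = n36620 := (((iv6 F91203)).symm.trans (sb E47833 F91195))
theorem E51835 : n85913 = n18516 := ((((iv1 F121198)).symm.trans (sb E47842 F199013))).symm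
theorem E51836 : n58021 = n57229 := ((((iv0 F121195)).symm.trans (sb E47842 (iv0 D124428)))).symm
theorem E51837 : n81877 = n57264 := (((D57264).symm.trans (sb E47842 (iv7 F199012)))).symm
theorem E51839 : n161119 = n77828 := (((D77828).symm.trans (sb E47844 (iv5 F254699)))).symm
theorem F298279 : act 6 n35518 = n41377 := (sb E47844 (iv6 D88644))
theorem F298280 : act 5 n35517 = n77341 := (sb E47845 F195503)
theorem E51841 : n172578 = n83117 := (((D83117).symm.trans (sb E47846 D172578))).symm
theorem E51842 : n83125 = n73697 := ((D83125).symm.trans (sb E47847 F117682))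
theorem E51843 : n83270 = n83126 := (((D83126).symm.trans (sb E47847 D83270))).symm
theorem E51845 : n84011 = n78161 := ((((iv7 F132285)).symm.trans (sb E47848 F272997))).symm
theorem E51846 : n180720 = n157995 := ((((iv1 F248890)).symm.trans (sb E47849 D180720))).symm
theorem F298281 : act 5 n75693 = n39940 := (sb E47849 (iv5 D86320))
theorem E51848 : n180718 = n158689 := (((D158689).symm.trans (sb E47849 (iv6 F281257)))).symm
theorem E51849 : n84016 = n78162 := (((iv7 F135948)).symm.trans (sb E47849 F132289))
theorem E51851 : n158822 = n78187 := (((D78187).symm.trans (sb E47851 F250059))).symm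
theorem E51853 : n158821 = n55847 := (((D55847).symm.trans (sb E47852 (iv5 F250054)))).symm
theorem E51854 : n180724 = n84019 := ((D180724).symm.trans (sb E47855 (iv6 D176141)))
theorem E51855 : n180726 = n84017 := (((D84017).symm.trans (sb E47857 D180726))).symm
theorem F298283 : act 6 n38697 = n39944 := (sb E47857 (iv6 D86324))
theorem E51858 : n180730 = n84024 := ((D180730).symm.trans (sb E47858 (iv5 D176157)))
theorem F298284 : act 0 n80421 = n82738 := (sb E47860 (iv1 D172814))
theorem F298286 : act 1 n83091 = n45893 := (sb E47862 (iv0 D98203))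
theorem E51862 : n172057 = n78191 := (((D78191).symm.trans (sb E47863 (iv3 F270147)))).symm
theorem F298287 : act 4 n35647 = n37797 := (sb E47863 F126937)
theorem F298288 : act 6 n35647 = n37795 := (sb E47863 (iv6 D82405))
theorem E51863 : n173271 = n172069 := (((D172069).symm.trans (sb E47865 D173271))).symm
theorem E51865 : n172071 = n155087 := ((D172071).symm.trans (sb E47865 (iv2 F243904)))
theorem E51866 : n173273 = n172072 := (((D172072).symm.trans (sb E47865 D173273))).symm
theorem F298289 : act 6 n82410 = n38151 := (sb E47865 (iv6 D82918))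
theorem E51867 : n172075 = n167570 := (((D167570).symm.trans (sb E47866 F271147))).symm
theorem E51868 : n172058 = n167786 := (((iv1 F270149)).symm.trans (sb E47867 (iv1 F264160)))
theorem E51874 : n158742 = n125160 := ((((iv7 F201170)).symm.trans (sb E47871 F275702))).symm
theorem F298290 : act 3 n58528 = n38427 := (sb E47872 F128525)
theorem E51875 : n176201 = n84169 := (((D84169).symm.trans (sb E47874 D176201))).symm
theorem E51881 : n173714 = n84114 := (((D84114).symm.trans (sb E47876 D173714))).symm
theorem E51882 : n173715 = n84115 := (((D84115).symm.trans (sb E47876 D173715))).symm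
theorem F298291 : act 1 n75355 = n39951 := (sb E47879 (iv0 D86332))
theorem E51891 : n180752 = n158211 := (((D158211).symm.trans (sb E47879 D180752))).symm
theorem F298292 : act 0 n75368 = n39951 := (sb E47880 (iv1 D86333))
theorem E51896 : n180757 = n75666 := ((D180757).symm.trans (sb E47881 F249777))
theorem E51897 : n180759 = n84092 := ((D180759).symm.trans (sb E47881 F249778))
theorem F298293 : act 7 n75720 = n39951 := (sb E47882 F129001)
theorem E51901 : n83903 = n57298 := (((D57298).symm.trans (sb E47883 F131747))).symm
theorem E51902 : n180760 = n83908 := (((D83908).symm.trans (sb E47884 D180760))).symm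
theorem E51906 : n180765 = n34603 := (((F59478).symm.trans (sb E47885 D180765))).symm
theorem E51909 : n166263 = n38216 := (((D38216).symm.trans (sb E47886 D166263))).symm
theorem F298294 : act 4 n18259 = n36363 := (sb E47886 (iv4 D79829))
theorem E51910 : n80515 = n38219 := (((D38219).symm.trans (sb E47886 (iv6 F123767)))).symm
theorem F298295 : act 0 n36731 = n21962 := (sb E47887 (iv1 D45951))
theorem E51912 : n167790 = n83954 := (((iv6 F264174)).symm.trans (sb E47888 F272069))
theorem F298296 : act 5 n75340 = n39959 := (sb E47889 (iv5 D86339))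
theorem F298297 : act 4 n38673 = n36732 := (sb E47890 (iv4 D80516))
theorem F298298 : act 6 n38673 = n39959 := (sb E47890 F123770)
theorem E51916 : n119600 = n97108 := ((D119600).symm.trans (sb E47891 (iv1 F149845)))
theorem E51917 : n128180 = n119601 := (((D119601).symm.trans (sb E47891 (iv0 F206319)))).symm
theorem E51918 : n120791 = n119314 := ((((iv2 F187830)).symm.trans (sb E47891 (iv2 F192651)))).symm
theorem F298299 : act 3 n55029 = n78044 := (sb E47891 F121951)
theorem E51919 : n119602 = n97187 := ((D119602).symm.trans (sb E47891 F149940))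
theorem E51921 : n120794 = n119603 := (((D119603).symm.trans (sb E47891 (iv7 F192662)))).symm
theorem E51922 : n128055 = n119595 := (((D119595).symm.trans (sb E47893 F256729))).symm
theorem E51923 : n161749 = n119587 := ((((iv4 F188587)).symm.trans (sb E47893 F256730))).symm
theorem F298300 : act 6 n55027 = n78044 := (sb E47893 (iv6 D162531))
theorem E51924 : n161726 = n128058 := (((D128058).symm.trans (sb E47894 (iv1 F255737)))).symm
theorem E51925 : n128059 = n39293 := ((D128059).symm.trans (sb E47894 F130351))
theorem F298301 : act 2 n60179 = n38419 := (sb E47894 (iv2 D83403))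
theorem E51926 : n174506 = n128060 := (((D128060).symm.trans (sb E47894 D174506))).symm
theorem E51927 : n161724 = n128061 := (((D128061).symm.trans (sb E47894 (iv7 F255726)))).symm
theorem F298302 : act 5 n83410 = n78047 := (sb E47899 (iv5 D162539))
theorem E51933 : n121955 = n38429 := ((((iv1 F127808)).symm.trans (sb E47901 (iv1 F194728)))).symm
theorem E51937 : n128095 = n80220 := (((F123239).symm.trans (sb E47909 (iv0 F256767)))).symm
theorem F298303 : act 2 n27581 = n40089 := (sb E47912 (iv2 F60985))
theorem E51939 : n57785 = n46975 := ((D57785).symm.trans (sb E47912 (iv3 F74193)))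
theorem F298304 : act 4 n27581 = n40087 := (sb E47912 (iv4 F60982))
theorem E51940 : n81835 = n57787 := (((D57787).symm.trans (sb E47912 D81835))).symm
theorem F298305 : act 6 n27581 = n17987 := (sb E47912 (iv6 D37457))
theorem E51941 : n154566 = n82960 := (((D82960).symm.trans (sb E47913 F242637))).symm
theorem E51942 : n154561 = n82961 := (((D82961).symm.trans (sb E47913 (iv0 F242635)))).symm
theorem F298306 : act 1 n124640 = n81859 := (sb E47915 (iv0 F256779))
theorem F298307 : act 4 n124640 = n78059 := (sb E47915 (iv4 D162551))
theorem F298308 : act 2 n77968 = n79736 := (sb E47916 F199318)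
theorem E51943 : n84751 = n57917 := (((F123642).symm.trans (sb E47916 F199321))).symm
theorem F298309 : act 6 n77968 = n77539 := (sb E47916 (iv6 F199320))
theorem F298310 : act 0 n124639 = n81859 := (sb E47917 F256783)
theorem F298311 : act 4 n124639 = n78060 := (sb E47917 (iv4 D162552))
theorem F298312 : act 1 n83438 = n78061 := (sb E47918 (iv0 F129293))
theorem E51946 : n176646 = n164123 := ((((iv6 F258673)).symm.trans (sb E47918 D176646))).symm
theorem F298313 : act 0 n83440 = n78061 := (sb E47919 (iv1 D162553))
theorem F298314 : act 5 n83475 = n78061 := (sb E47920 (iv5 D162555))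
theorem F298315 : act 7 n88746 = n78061 := (sb E47921 (iv7 D162556))
theorem E51951 : n71492 = n28505 := ((((iv3 F46058)).symm.trans (sb E47925 F120447))).symm
theorem E51954 : n164703 = n32794 := (((D32794).symm.trans (sb E47931 D164703))).symm
theorem E51960 : n75923 = n16668 := (((D16668).symm.trans (sb E47935 F116145))).symm
theorem E51963 : n77493 = n35256 := (((D35256).symm.trans (sb E47937 F116340))).symm
theorem E51964 : n77594 = n35257 := (((D35257).symm.trans (sb E47937 (iv6 F116487)))).symm
theorem E51966 : n35391 = n35261 := (((D35261).symm.trans (sb E47941 F88055))).symm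
theorem E51969 : n80756 = n3435 := (((F11767).symm.trans (sb E47944 F265217))).symm
theorem E51970 : n150256 = n83240 := ((D150256).symm.trans (sb E47945 F271560))
theorem E51971 : n160727 = n84215 := ((D160727).symm.trans (sb E47948 (iv5 D176632)))
theorem E51972 : n174900 = n160746 := (((D160746).symm.trans (sb E47949 (iv4 F273800)))).symm
theorem E51974 : n160749 = n158790 := (((D158790).symm.trans (sb E47950 D160749))).symm
theorem E51976 : n158772 = n80224 := (((iv4 F249961)).symm.trans (sb E47950 (iv4 F123242)))
theorem E51978 : n160753 = n38311 := ((((iv1 F127698)).symm.trans (sb E47951 D160753))).symm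
theorem E51979 : n160754 = n38306 := (((F113618).symm.trans (sb E47951 D160754))).symm
theorem E51983 : n174088 = n160763 := (((D160763).symm.trans (sb E47952 D174088))).symm
theorem E51985 : n160762 = n158741 := ((((iv3 F249917)).symm.trans (sb E47953 (iv3 F253916)))).symm
theorem F298316 : act 6 n75727 = n35217 := (sb E47953 (iv6 D77129))
theorem F298317 : act 1 n38136 = n35218 := (sb E47954 (iv0 D77130))
theorem F298318 : act 0 n38316 = n35218 := (sb E47955 (iv1 D77131))
theorem E51992 : n160771 = n38519 := ((D160771).symm.trans (sb E47956 (iv1 D83543)))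
theorem E51993 : n173342 = n160772 := (((D160772).symm.trans (sb E47956 F271792))).symm
theorem E51994 : n174898 = n160773 := (((D160773).symm.trans (sb E47956 D174898))).symm
theorem E51995 : n174899 = n160774 := (((D160774).symm.trans (sb E47956 D174899))).symm
theorem E51996 : n160775 = n83241 := ((D160775).symm.trans (sb E47956 (iv7 F128636)))
theorem F298319 : act 5 n38313 = n35219 := (sb E47957 F115844)
theorem F298320 : act 7 n38313 = n35218 := (sb E47957 (iv7 D77133))
theorem F298321 : act 6 n76811 = n56679 := (sb E47958 (iv6 D122360))
theorem E51998 : n77840 = n77498 := ((F121550).symm.trans (sb E47959 (iv1 D161428)))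
theorem E51999 : n160786 = n82906 := ((D160786).symm.trans (sb E47961 (iv1 F199048)))
theorem E52000 : n160787 = n58055 := ((D160787).symm.trans (sb E47961 (iv0 D124460)))
theorem E52001 : n174090 = n160788 := (((D160788).symm.trans (sb E47961 (iv4 F272891)))).symm
theorem E52002 : n160794 = n82908 := ((D160794).symm.trans (sb E47962 (iv1 F199081)))
theorem E52003 : n174224 = n160797 := (((D160797).symm.trans (sb E47962 (iv5 F273014)))).symm
theorem E52004 : n174091 = n160806 := (((D160806).symm.trans (sb E47964 (iv4 F272896)))).symm
theorem E52005 : n160808 = n75654 := ((D160808).symm.trans (sb E47965 (iv1 F249157)))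
theorem E52006 : n174223 = n160811 := (((D160811).symm.trans (sb E47966 (iv5 F273008)))).symm
theorem F298322 : act 6 n77164 = n78839 := (sb E47966 (iv6 F199089))
theorem F298323 : act 0 n77177 = n38363 := (sb E47967 (iv1 F128353))
theorem F298324 : act 1 n77177 = n38359 := (sb E47967 (iv0 D83278))
theorem F298325 : act 2 n77177 = n84306 := (sb E47967 (iv2 F129378))
theorem E52007 : n174218 = n160819 := (((D160819).symm.trans (sb E47967 D174218))).symm
theorem E52008 : n174198 = n160820 := (((D160820).symm.trans (sb E47967 (iv5 F272987)))).symm
theorem F298326 : act 6 n77177 = n84316 := (sb E47967 (iv6 F129385))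
theorem F298327 : act 7 n77177 = n75815 := (sb E47967 F128354)
theorem F298328 : act 0 n38369 = n35232 := (sb E47968 (iv1 D77181))
theorem E52012 : n160835 = n83284 := ((D160835).symm.trans (sb E47969 F271607))
theorem E52013 : n160836 = n158810 := ((D160836).symm.trans (sb E47970 F271610))
theorem E52014 : n174188 = n160837 := (((D160837).symm.trans (sb E47970 (iv0 F272979)))).symm
theorem E52015 : n174896 = n160838 := (((D160838).symm.trans (sb E47970 (iv4 F273792)))).symm
theorem E52016 : n160840 = n83285 := ((D160840).symm.trans (sb E47970 F271609))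
theorem F298329 : act 4 n38365 = n35233 := (sb E47971 F115937)
theorem F298330 : act 7 n38365 = n35232 := (sb E47971 (iv7 D77184))
theorem F298331 : act 3 n54767 = n80408 := (sb E47972 F124222)
theorem E52017 : n119014 = n97107 := ((D119014).symm.trans (sb E47972 F149840))
theorem E52019 : n164861 = n70542 := ((D164861).symm.trans (sb E47973 (iv6 D149970)))
theorem F298333 : act 6 n45874 = n80408 := (sb E47974 (iv6 D167543))
theorem F298334 : act 3 n77647 = n80409 := (sb E47975 F236858)
theorem E52020 : n161672 = n149623 := (((iv5 F255680)).symm.trans (sb E47975 F236860))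
theorem E52021 : n172494 = n164867 := ((D172494).symm.trans (sb E47976 F263783))
theorem F298335 : act 6 n82583 = n80409 := (sb E47976 (iv6 D167544))
theorem F298336 : act 0 n167547 = n85129 := (sb E47977 F274456)
theorem F298337 : act 7 n167547 = n84091 := (sb E47977 F272240)
theorem F298340 : act 5 n167548 = n84091 := (sb E47978 (iv5 D176360))
theorem F298341 : act 4 n160732 = n175823 := (sb E47979 (iv4 F275232))
theorem E52027 : n158706 = n38684 := ((D158706).symm.trans (sb E47981 F113592))
theorem E52028 : n158763 = n158707 := (((D158707).symm.trans (sb E47981 D158763))).symm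
theorem E52029 : n158708 = n83421 := ((D158708).symm.trans (sb E47982 F128533))
theorem E52030 : n158780 = n80181 := (((iv4 F249983)).symm.trans (sb E47983 (iv4 D167038)))
theorem F298342 : act 1 n38240 = n80412 := (sb E47985 F129033)
theorem E52033 : n176249 = n83085 := (((D83085).symm.trans (sb E47985 D176249))).symm
theorem F298343 : act 0 n38232 = n80412 := (sb E47986 (iv1 D167549))
theorem F298344 : act 4 n83920 = n80412 := (sb E47987 (iv4 D167550))
theorem F298345 : act 5 n38743 = n80413 := (sb E47988 F263794)
theorem F298346 : act 7 n38743 = n80412 := (sb E47988 (iv7 D167551))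
theorem F298347 : act 5 n167552 = n83051 := (sb E47989 F271201)
theorem F298348 : act 5 n38220 = n80414 := (sb E47990 (iv5 D167553))
theorem F298349 : act 1 n121959 = n82615 := (sb E47991 F195947)
theorem F298350 : act 5 n121959 = n83433 := (sb E47991 F195952)
theorem F298351 : act 7 n121959 = n75692 := (sb E47991 F195948)
theorem F298352 : act 0 n45957 = n56403 := (sb E47992 (iv1 F194717))
theorem F298353 : act 2 n45957 = n56404 := (sb E47992 F194714)
theorem F298354 : act 3 n45957 = n80562 := (sb E47992 F194715)
theorem F298355 : act 6 n45957 = n80499 := (sb E47992 F194716)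
theorem E52035 : n100823 = n55465 := (((D55465).symm.trans (sb E47993 F195784))).symm
theorem E52036 : n81844 = n55467 := (((D55467).symm.trans (sb E47993 F195786))).symm
theorem F298356 : act 3 n120487 = n75688 := (sb E47994 F249830)
theorem F298357 : act 5 n120487 = n83054 := (sb E47994 (iv5 F249832))
theorem F298358 : act 6 n120487 = n75686 := (sb E47994 (iv6 D158674))
theorem E52037 : n98485 = n60042 := (((iv0 F151894)).symm.trans (sb E47997 F178646))
theorem E52038 : n149765 = n28569 := ((((iv3 D60118)).symm.trans (sb E47997 (iv3 F235562)))).symm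
theorem E52039 : n148997 = n127962 := (((D127962).symm.trans (sb E47997 (iv6 F234196)))).symm
theorem E52040 : n127989 = n54877 := ((D127989).symm.trans (sb E47999 (iv1 F186971)))
theorem F298359 : act 3 n60073 = n55308 := (sb E48000 F108255)
theorem E52042 : n60074 = n54552 := (((F94624).symm.trans (sb E48000 F108256))).symm
theorem E52043 : n152210 = n52644 := (((F94625).symm.trans (sb E48000 D152210))).symm
theorem E52044 : n100060 = n60044 := (((D60044).symm.trans (sb E48001 (iv5 F153995)))).symm
theorem F298360 : act 5 n95740 = n55308 := (sb E48002 (iv5 D120199))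
theorem F298361 : act 6 n95740 = n83677 := (sb E48002 F189858)
theorem E52045 : n22677 = n16161 := (((F190527).symm.trans (sb E48003 F57807))).symm
theorem E52046 : n54828 = n40033 := ((D54828).symm.trans (sb E48003 (iv5 F60899)))
theorem F298362 : act 1 n119148 = n60230 := (sb E48004 (iv0 D128138))
theorem F298363 : act 3 n119148 = n68905 := (sb E48004 F206264)
theorem F298364 : act 4 n119148 = n70053 := (sb E48004 F206263)
theorem F298365 : act 7 n119148 = n127985 := (sb E48004 F206267)
theorem E52048 : n155161 = n150265 := ((F243974).symm.trans (sb E48005 (iv0 F265170)))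
theorem E52049 : n80732 = n54825 := ((((iv4 F86760)).symm.trans (sb E48006 D80732))).symm
theorem E52050 : n54832 = n45774 := (((iv5 F86768)).symm.trans (sb E48006 F72248))
theorem E52052 : n49812 = n45773 := (((iv5 F78722)).symm.trans (sb E48007 F72245))
theorem E52054 : n71696 = n40095 := ((D71696).symm.trans (sb E48008 (iv1 F60991)))
theorem E52055 : n71697 = n40094 := ((D71697).symm.trans (sb E48008 F60990))
theorem E52056 : n71698 = n46980 := ((D71698).symm.trans (sb E48008 (iv4 F74197)))
theorem E52057 : n80742 = n71699 := (((D71699).symm.trans (sb E48008 D80742))).symm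
theorem F298366 : act 1 n97091 = n71694 := (sb E48010 (iv0 D152074))
theorem F298367 : act 0 n79003 = n71694 := (sb E48011 (iv1 D152075))
theorem F298368 : act 4 n96202 = n71694 := (sb E48012 (iv4 D152076))
theorem F298369 : act 3 n152078 = n127874 := (sb E48014 F265184)
theorem E52062 : n151712 = n149909 := (((F239089).symm.trans (sb E48014 F265185))).symm
theorem E52063 : n172045 = n160596 := (((D160596).symm.trans (sb E48019 (iv5 F270110)))).symm
theorem F298370 : act 1 n82500 = n98761 := (sb E48036 (iv0 F271194))
theorem E52064 : n184482 = n175310 := ((D184482).symm.trans (sb E48042 F274356))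
theorem E52065 : n100404 = n82000 := (((D82000).symm.trans (sb E48043 F191554))).symm
theorem F298371 : act 5 n146992 = n175811 := (sb E48050 (iv5 F275218))
theorem F298372 : act 5 n83913 = n81997 := (sb E48053 (iv5 D171079))
theorem F298373 : act 5 n158697 = n173617 := (sb E48054 (iv5 F272082))
theorem F298374 : act 5 n171081 = n83861 := (sb E48056 (iv5 F271199))
theorem F298375 : act 5 n83915 = n81998 := (sb E48057 (iv5 D171082))
theorem F298376 : act 5 n171083 = n175817 := (sb E48058 (iv5 F275225))
theorem F298377 : act 5 n83038 = n75696 := (sb E48062 (iv5 D158698))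
theorem F298378 : act 6 n77617 = n80082 := (sb E48063 (iv6 D166839))
theorem E52069 : n150440 = n79339 := ((D150440).symm.trans (sb E48065 F192623))
theorem E52070 : n70547 = n29295 := (E51145).trans E51716
theorem F298380 : act 0 n36096 = n70548 := (sb E48066 (iv1 F107407))
theorem F298381 : act 1 n36096 = n32849 := (sb E48066 (iv0 D70893))
theorem E52071 : n118055 = n79296 := (((D79296).symm.trans (sb E48066 F185453))).symm
theorem E52073 : n167163 = n70570 := (((F107036).symm.trans (sb E48067 (iv0 F286882)))).symm
theorem F298385 : act 4 n70896 = n98769 := (sb E48074 F260285)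
theorem F298386 : act 0 n160621 = n98758 := (sb E48078 F296015)
theorem E52074 : n83558 = n77019 := ((((iv5 D160621)).symm.trans (sb E48078 F296016))).symm
theorem F298387 : act 5 n60198 = n98771 := (sb E48079 F263186)
theorem E52076 : n161595 = n75556 := (((iv2 F255596)).symm.trans (sb E48084 (tr (iv2 F262574) E51790)))
theorem E52078 : n161592 = n72636 := ((D161592).symm.trans (sb E48085 (iv3 D153607)))
theorem F298389 : act 5 n158591 = n82425 := (sb E48088 (iv5 D172115))
theorem F298390 : act 2 n170734 = n83435 := (sb E48089 F271739)
theorem E52080 : n83377 = n83087 := (((F192415).symm.trans (sb E48090 (iv5 F271045)))).symm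
theorem F298391 : act 7 n120703 = n82745 := (sb E48090 F271090)
theorem F298392 : act 2 n96717 = n82745 := (sb E48091 F271092)
theorem E52081 : n176542 = n83088 := ((((iv5 F149126)).symm.trans (sb E48091 F275869))).symm
theorem F298393 : act 1 n114059 = n82745 := (sb E48092 F271051)
theorem F298394 : act 7 n160712 = n82747 := (sb E48093 (iv7 D172842))
theorem F298395 : act 4 n160713 = n161537 := (sb E48094 F296021)
theorem E52082 : n172160 = n160717 := ((D172160).symm.trans (iv2 (sb E48095 (tr F296022 E51651))))
theorem E52083 : n172165 = n160718 := (((iv2 F270330)).symm.trans (iv2 (sb E48096 (tr F296025 E51652))))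
theorem F298396 : act 5 n158342 = n77111 := (sb E48097 (iv5 D160719))
theorem F298397 : act 4 n160720 = n83791 := (sb E48098 F296030)
theorem F298398 : act 6 n160720 = n82762 := (sb E48098 (iv6 D172877))
theorem F298400 : act 4 n166846 = n82762 := (sb E48099 F271136)
theorem F298401 : act 6 n166846 = n83791 := (sb E48099 F296019)
theorem F298402 : act 4 n166843 = n83788 := (sb E48100 (iv4 F272794))
theorem F298403 : act 4 n166844 = n83789 := (sb E48101 F271134)
theorem F298404 : act 5 n158432 = n80085 := (sb E48102 (iv5 D166845))
theorem E52085 : n162766 = n81819 := (((D81819).symm.trans (sb E48104 F262588))).symm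
theorem E52086 : n162768 = n38672 := (((F118930).symm.trans (sb E48104 F262589))).symm
theorem E52087 : n160604 = n81823 := (((D81823).symm.trans (sb E48105 F262593))).symm
theorem E52088 : n57026 = n56771 := (((iv4 F121522)).symm.trans (sb E48106 F195905))
theorem E52089 : n162626 = n38542 := (((F118929).symm.trans (sb E48108 (iv5 F256858)))).symm
theorem E52102 : n84168 = n80507 := (((D80507).symm.trans (sb E48116 (iv1 F129205)))).symm
theorem E52103 : n83086 = n80508 := (((D80508).symm.trans (sb E48116 (iv0 F128069)))).symm
theorem E52104 : n98270 = n80509 := (((D80509).symm.trans (sb E48116 D98270))).symm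
theorem E52105 : n98271 = n80510 := (((D80510).symm.trans (sb E48116 D98271))).symm
theorem E52106 : n84188 = n80513 := (((D80513).symm.trans (sb E48117 (iv5 F129234)))).symm
theorem F298405 : act 1 n36733 = n38760 := (sb E48118 F113309)
theorem E52116 : n162708 = n84166 := (((D84166).symm.trans (sb E48122 (iv3 F256941)))).symm
theorem F298406 : act 6 n38793 = n35644 := (sb E48122 (iv6 D78188))
theorem E52117 : n125281 = n123037 := (((F197173).symm.trans (sb E48128 F282797))).symm
theorem E52118 : n124411 = n39253 := ((((iv0 F121547)).symm.trans (sb E48128 F282796))).symm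
theorem E52119 : n170822 = n163953 := (((D163953).symm.trans (sb E48128 (iv5 F282798)))).symm
theorem E52120 : n86053 = n57552 := ((((iv4 D123486)).symm.trans (sb E48129 (iv4 D180093)))).symm
theorem E52121 : n122627 = n98174 := ((F197902).symm.trans (sb E48129 F280474))
theorem E52123 : n86054 = n57553 := (((F121638).symm.trans (sb E48130 F131994))).symm
theorem F298410 : act 2 n17498 = n33910 := (sb E48131 F57700)
theorem E52124 : n36226 = n17735 := ((D36226).symm.trans (sb E48131 F57701))
theorem F298411 : act 6 n17498 = n27111 := (sb E48131 F57702)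
theorem E52125 : n159105 = n80577 := ((((iv4 F123882)).symm.trans (sb E48132 (iv4 F250481)))).symm
theorem F298412 : act 5 n36775 = n36224 := (sb E48132 (iv5 D79542))
theorem E52126 : n166327 = n48514 := ((D166327).symm.trans (sb E48134 (iv1 D104972)))
theorem F298413 : act 0 n77943 = n88647 := (sb E48135 F192989)
theorem F298414 : act 3 n77943 = n35790 := (sb E48135 (iv3 D78566))
theorem E52127 : n163494 = n121275 := ((((iv4 F256385)).symm.trans (sb E48135 D163494))).symm
theorem E52128 : n162240 = n161505 := ((D162240).symm.trans (sb E48135 (iv5 F255498)))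
theorem F298415 : act 7 n77943 = n121572 := (sb E48135 F193993)
theorem E52132 : n36794 = n26391 := (((D26391).symm.trans (sb E48138 D36794))).symm
theorem E52133 : n36795 = n26392 := (((D26392).symm.trans (sb E48138 D36795))).symm
theorem E52134 : n33035 = n26384 := ((((iv2 F42117)).symm.trans (sb E48138 (iv2 F52228)))).symm
theorem E52135 : n36581 = n26393 := (((D26393).symm.trans (sb E48138 (iv5 F57452)))).symm
theorem E52137 : n15965 = n15961 := (((D15961).symm.trans (sb E48140 D15965))).symm
theorem E52138 : n15966 = n15962 := (((D15962).symm.trans (sb E48140 D15966))).symm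
theorem E52139 : n15931 = n15930 := ((((iv2 F25395)).symm.trans (sb E48140 (iv2 F25396)))).symm
theorem F298416 : act 3 n7474 = n3417 := (sb E48140 F11728)
theorem E52140 : n15967 = n15963 := (((D15963).symm.trans (sb E48140 D15967))).symm
theorem F298417 : act 6 n7474 = n3415 := (sb E48140 (iv6 D7475))
theorem E52143 : n82340 = n35319 := (((D35319).symm.trans (sb E48143 D82340))).symm
theorem E52158 : n76966 = n55773 := ((((iv6 F88204)).symm.trans (sb E48185 (iv6 D160525)))).symm
theorem E52159 : n76967 = n55774 := (((D55774).symm.trans (sb E48187 D76967))).symm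
theorem E52161 : n79264 = n73999 := (((iv6 F121624)).symm.trans (sb E48189 F141810))
theorem E52163 : n79265 = n58704 := ((((iv5 F92751)).symm.trans (sb E48191 D79265))).symm
theorem F298421 : act 6 n33961 = n17457 := (sb E48191 F56817)
theorem E52165 : n79260 = n36786 := (((D36786).symm.trans (sb E48192 D79260))).symm
theorem F298422 : act 7 n17734 = n17498 := (sb E48192 F89187)
theorem F298423 : act 1 n19039 = n17498 := (sb E48193 F56822)
theorem E52166 : n79903 = n79704 := (((D79704).symm.trans (sb E48196 (iv1 F141823)))).symm
theorem E52167 : n163883 = n79706 := (((D79706).symm.trans (sb E48196 (iv5 F258310)))).symm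
theorem E52173 : n79544 = n27893 := ((((iv7 F45038)).symm.trans (sb E48200 F122181))).symm
theorem F298427 : act 6 n120941 = n55886 := (sb E48205 (iv6 D121125))
theorem E52178 : n133955 = n27041 := (((D27041).symm.trans (sb E48213 (iv3 F215824)))).symm
theorem E52179 : n29767 = n27042 := (((D27042).symm.trans (sb E48213 (iv5 D62919)))).symm
theorem F298431 : act 1 n12863 = n8106 := (sb E48215 (iv0 D17307))
theorem F298432 : act 5 n12863 = n17590 := (sb E48215 F28592)
theorem E52184 : n133929 = n18964 := (((F30281).symm.trans (sb E48216 D133929))).symm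
theorem E52185 : n49020 = n36091 := (((D36091).symm.trans (sb E48216 F191233))).symm
theorem E52186 : n133923 = n36092 := (((D36092).symm.trans (sb E48216 (iv2 F215714)))).symm
theorem E52187 : n29762 = n26492 := ((((iv5 F42458)).symm.trans (sb E48216 (iv5 D62904)))).symm
theorem E52188 : n39637 = n36093 := (((D36093).symm.trans (sb E48216 (iv6 F98137)))).symm
theorem E52189 : n29763 = n26519 := ((D29763).symm.trans (sb E48217 (iv4 F42455)))
theorem F298433 : act 5 n14142 = n8214 := (sb E48217 (iv5 D17462))
theorem E52190 : n36096 = n29765 := (((D29765).symm.trans (sb E48217 D36096))).symm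
theorem F298434 : act 1 n17463 = n8796 := (sb E48218 (iv0 D18768))
theorem F298435 : act 2 n17463 = n18760 := (sb E48218 (iv2 F30447))
theorem E52191 : n39638 = n36099 := (((D36099).symm.trans (sb E48218 D39638))).symm
theorem E52192 : n36100 = n15408 := ((D36100).symm.trans (sb E48218 (iv7 F41781)))
theorem F298436 : act 3 n12980 = n21210 := (sb E48219 (iv3 F33448))
theorem F298437 : act 5 n12980 = n17439 := (sb E48219 F28464)
theorem F298438 : act 7 n12980 = n8216 := (sb E48219 (iv7 D17466))
theorem E52193 : n119311 = n84393 := (((D84393).symm.trans (sb E48220 (iv4 F187825)))).symm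
theorem E52194 : n84395 = n49008 := ((D84395).symm.trans (sb E48220 (iv6 D106018)))
theorem E52195 : n86593 = n84397 := (((D84397).symm.trans (sb E48222 F200231))).symm
theorem E52197 : n178607 = n84396 := ((((iv2 F129535)).symm.trans (sb E48222 F278381))).symm
theorem E52199 : n70119 = n58577 := ((((iv7 F92543)).symm.trans (sb E48222 F131661))).symm
theorem F298439 : act 6 n27871 = n27093 := (sb E48225 (iv6 D56227))
theorem E52200 : n181067 = n95445 := (((D95445).symm.trans (sb E48226 D181067))).symm
theorem E52203 : n166034 = n84379 := ((((iv2 F129503)).symm.trans (sb E48228 D166034))).symm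
theorem E52205 : n166038 = n81695 := (((D81695).symm.trans (sb E48229 F284972))).symm
theorem E52206 : n121685 = n75997 := ((((iv0 F113887)).symm.trans (sb E48230 F194197))).symm
theorem F298440 : act 2 n38913 = n36311 := (sb E48230 F122384)
theorem E52207 : n166037 = n84385 := (((D84385).symm.trans (sb E48230 D166037))).symm
theorem E52208 : n166203 = n83065 := ((((iv7 F128023)).symm.trans (sb E48231 F275459))).symm
theorem F298441 : act 0 n38285 = n75703 := (sb E48232 (iv1 D158705))
theorem E52209 : n166206 = n83066 := ((((iv7 F128026)).symm.trans (sb E48232 (iv7 F261685)))).symm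
theorem F298442 : act 4 n38229 = n36354 := (sb E48233 F122516)
theorem F298443 : act 6 n38229 = n36352 := (sb E48233 (iv6 D79801))
theorem E52211 : n81981 = n27524 := (((D27524).symm.trans (sb E48235 (iv5 D171039)))).symm
theorem E52212 : n85880 = n57219 := (((F121517).symm.trans (sb E48236 F263551))).symm
theorem F298444 : act 6 n55341 = n80347 := (sb E48236 (iv6 D167434))
theorem F298445 : act 1 n81435 = n81603 := (sb E48240 (iv0 D170152))
theorem E52215 : n35711 = n26905 := (((D26905).symm.trans (sb E48241 (iv4 F56398)))).symm
theorem F298447 : act 6 n12875 = n13002 := (sb E48241 F28249)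
theorem F298448 : act 7 n12875 = n8106 := (sb E48241 (iv7 D17310))
theorem E52217 : n58498 = n57819 := (((iv4 F92414)).symm.trans (sb E48247 F198445))
theorem F298449 : act 6 n39538 = n57796 := (sb E48247 (iv6 D124058))
theorem F298450 : act 0 n39539 = n35282 := (sb E48248 (iv1 D77297))
theorem E52219 : n161074 = n85573 := (((D85573).symm.trans (sb E48248 D161074))).symm
theorem F298451 : act 1 n27873 = n35282 := (sb E48250 (iv0 D77296))
theorem F298452 : act 1 n27874 = n56383 := (sb E48251 (iv0 D121938))
theorem E52222 : n80570 = n58590 := (((D58590).symm.trans (sb E48251 F194652))).symm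
theorem E52224 : n82016 = n27568 := (((D27568).symm.trans (sb E48254 (iv5 F126441)))).symm
theorem E52227 : n181667 = n123526 := ((((iv0 F199844)).symm.trans (sb E48256 D181667))).symm
theorem E52233 : n181639 = n169997 := (((D169997).symm.trans (sb E48258 D181639))).symm
theorem F298459 : act 4 n81540 = n40187 := (sb E48260 F132945)
theorem E52239 : n180851 = n81763 := ((((iv5 F125680)).symm.trans (sb E48260 (iv5 F281563)))).symm
theorem E52242 : n118625 = n7505 := ((((iv3 F11749)).symm.trans (sb E48262 (iv3 F186594)))).symm
theorem E52243 : n29907 = n8314 := (((D8314).symm.trans (sb E48262 F86330))).symm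
theorem E52244 : n130498 = n8315 := (((D8315).symm.trans (sb E48263 (iv1 F209059)))).symm
theorem E52245 : n33039 = n26449 := (((D26449).symm.trans (sb E48264 (iv1 F52233)))).symm
theorem E52246 : n33038 = n26450 := (((D26450).symm.trans (sb E48264 F52237))).symm
theorem E52247 : n33041 = n26435 := ((((iv2 F42251)).symm.trans (sb E48264 (iv2 F52236)))).symm
theorem E52248 : n33117 = n26451 := (((D26451).symm.trans (sb E48264 (iv5 F52333)))).symm
theorem E52249 : n26456 = n26452 := (((D26452).symm.trans (sb E48264 (iv6 F42315)))).symm
theorem F298460 : act 0 n12994 = n26415 := (sb E48265 (iv1 F42161))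
theorem E52250 : n33171 = n27125 := (((D27125).symm.trans (sb E48265 D33171))).symm
theorem F298461 : act 7 n12994 = n7482 := (sb E48265 (iv7 D15996))
theorem F298462 : act 4 n12634 = n6176 := (sb E48266 F21620)
theorem F298463 : act 6 n12634 = n6175 := (sb E48266 (iv6 D12995))
theorem E52256 : n60191 = n36115 := (((D36115).symm.trans (sb E48269 (iv1 F191070)))).symm
theorem E52257 : n60336 = n36116 := (((D36116).symm.trans (sb E48269 (iv0 F191069)))).symm
theorem E52258 : n60213 = n36117 := (((D36117).symm.trans (sb E48269 (iv2 F188444)))).symm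
theorem E52259 : n36118 = n29766 := ((D36118).symm.trans (sb E48269 (iv5 F51599)))
theorem E52260 : n36119 = n15400 := ((D36119).symm.trans (sb E48269 (iv6 D32523)))
theorem F298464 : act 5 n14143 = n8219 := (sb E48270 (iv5 D17469))
theorem E52261 : n36120 = n29768 := (((D29768).symm.trans (sb E48270 D36120))).symm
theorem F298465 : act 6 n7272 = n8219 := (sb E48271 (iv6 D17470))
theorem E52263 : n61796 = n34531 := (((D34531).symm.trans (sb E48272 (iv3 F96366)))).symm
theorem E52264 : n34533 = n29528 := ((D34533).symm.trans (sb E48272 (iv6 F47355)))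
theorem E52266 : n71703 = n26897 := ((((iv5 F43394)).symm.trans (sb E48297 F211104))).symm
theorem E52268 : n33967 = n8068 := (((D8068).symm.trans (sb E48298 (iv5 D74014)))).symm
theorem E52269 : n155572 = n8069 := (((D8069).symm.trans (sb E48298 D155572))).symm
theorem E52270 : n61811 = n35450 := (((D35450).symm.trans (sb E48299 (iv5 D131745)))).symm
theorem F298466 : act 4 n17191 = n13919 := (sb E48300 (iv4 D29294))
theorem E52271 : n61813 = n35452 := (((D35452).symm.trans (sb E48300 D61813))).symm
theorem E52273 : n36062 = n33952 := (((D33952).symm.trans (sb E48307 D36062))).symm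
theorem E52274 : n36063 = n33953 := (((D33953).symm.trans (sb E48307 D36063))).symm
theorem E52275 : n33942 = n33760 := (((iv2 F53288)).symm.trans (sb E48307 (iv2 F52995)))
theorem F298467 : act 4 n16411 = n27023 := (sb E48307 (iv4 F43663))
theorem E52276 : n35468 = n33954 := (((D33954).symm.trans (sb E48307 (iv5 F56166)))).symm
theorem E52280 : n33782 = n26631 := (((D26631).symm.trans (sb E48310 (iv1 F232591)))).symm
theorem E52281 : n119925 = n26632 := (((D26632).symm.trans (sb E48310 F189350))).symm
theorem E52282 : n119928 = n26629 := ((((iv2 F42668)).symm.trans (sb E48310 (iv2 F189347)))).symm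
theorem E52283 : n71597 = n26633 := (((D26633).symm.trans (sb E48310 (iv5 F232699)))).symm
theorem E52284 : n33904 = n26634 := (((D26634).symm.trans (sb E48310 F87337))).symm
theorem F298468 : act 0 n12873 = n15986 := (sb E48311 (iv1 D33151))
theorem E52285 : n29680 = n26898 := (((D26898).symm.trans (sb E48311 F53039))).symm
theorem E52286 : n26899 = n26666 := ((D26899).symm.trans (sb E48312 F53044))
theorem E52287 : n26900 = n26643 := ((D26900).symm.trans (sb E48312 F53045))
theorem E52288 : n26901 = n16631 := ((D26901).symm.trans (sb E48312 (iv5 F53043)))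
theorem E52289 : n26902 = n7608 := ((D26902).symm.trans (sb E48312 (iv7 D16404)))
theorem F298469 : act 2 n12876 = n8106 := (sb E48313 F28819)
theorem E52290 : n26910 = n15600 := ((D26910).symm.trans (sb E48313 (iv4 F41951)))
theorem F298470 : act 6 n12876 = n6111 := (sb E48313 (iv6 D12893))
theorem F298471 : act 0 n12878 = n8106 := (sb E48314 F28958)
theorem F298472 : act 5 n12878 = n17591 := (sb E48314 F28960)
theorem F298473 : act 6 n12878 = n7606 := (sb E48314 (iv6 D16394))
theorem E52291 : n60416 = n57446 := (((D57446).symm.trans (sb E48315 D60416))).symm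
theorem E52292 : n60417 = n57447 := (((D57447).symm.trans (sb E48315 D60417))).symm
theorem E52293 : n60407 = n57448 := (((D57448).symm.trans (sb E48315 (iv2 F94920)))).symm
theorem E52294 : n60418 = n57449 := (((D57449).symm.trans (sb E48315 D60418))).symm
theorem E52295 : n57450 = n13671 := ((D57450).symm.trans (sb E48315 (iv6 D28690)))
theorem F298474 : act 2 n27485 = n32816 := (sb E48316 F51960)
theorem E52296 : n60422 = n57451 := (((D57451).symm.trans (sb E48316 (iv6 F94930)))).symm
theorem F298475 : act 6 n6495 = n13150 := (sb E48317 (iv6 D27486))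
theorem E52298 : n80685 = n29204 := ((D80685).symm.trans (sb E48318 F57936))
theorem F298476 : act 7 n36826 = n32816 := (sb E48318 F57933)
theorem F298477 : act 6 n28684 = n26879 := (sb E48319 (iv6 D55663))
theorem E52300 : n73174 = n18969 := (((F37319).symm.trans (sb E48320 F215721))).symm
theorem E52301 : n166126 = n49005 := (((D49005).symm.trans (sb E48320 D166126))).symm
theorem E52302 : n81020 = n11196 := ((((iv5 D23909)).symm.trans (sb E48320 F215722))).symm
theorem E52303 : n49006 = n48983 := ((D49006).symm.trans (sb E48320 F215723))
theorem E52304 : n166127 = n47163 := ((((iv3 F74443)).symm.trans (sb E48321 D166127))).symm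
theorem E52306 : n81021 = n18963 := ((((iv5 D40139)).symm.trans (sb E48321 F215729))).symm
theorem E52307 : n162932 = n86583 := (((D86583).symm.trans (sb E48321 (iv6 F257268)))).symm
theorem E52308 : n61818 = n32423 := (((F61039).symm.trans (sb E48322 (iv5 F122446)))).symm
theorem E52309 : n86585 = n36322 := ((D86585).symm.trans (sb E48322 (iv6 D79761)))
theorem E52310 : n48955 = n15704 := (((iv1 F190079)).symm.trans (sb E48323 (iv1 D32801)))
theorem E52311 : n61817 = n32412 := ((D61817).symm.trans (sb E48323 F51933))
theorem E52312 : n61819 = n26494 := ((D61819).symm.trans (sb E48323 F51935))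
theorem F298478 : act 5 n29296 = n26880 := (sb E48323 F51937)
theorem E52313 : n70762 = n61820 := (((D61820).symm.trans (sb E48323 D70762))).symm
theorem F298479 : act 6 n17539 = n26880 := (sb E48324 (iv6 D55664))
theorem E52318 : n57055 = n13911 := ((((iv3 F23171)).symm.trans (sb E48325 (iv3 F90109)))).symm
theorem F298480 : act 4 n17194 = n13920 := (sb E48327 (iv4 D29297))
theorem E52322 : n61823 = n35460 := (((D35460).symm.trans (sb E48327 D61823))).symm
theorem E52324 : n120750 = n61759 := ((((iv0 F104518)).symm.trans (sb E48328 D120750))).symm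
theorem F298481 : act 0 n96301 = n48981 := (sb E48338 (iv1 D105945))
theorem F298482 : act 1 n96301 = n49010 := (sb E48338 F162691)
theorem E52342 : n151392 = n119016 := (((iv4 F238113)).symm.trans (sb E48338 (iv4 F232325)))
theorem F298483 : act 7 n96301 = n49007 := (sb E48338 F162700)
theorem F298484 : act 6 n79724 = n44962 := (sb E48340 (iv6 D96304))
theorem E52343 : n165024 = n152428 := (((D152428).symm.trans (sb E48341 (iv6 F260242)))).symm
theorem E52344 : n165057 = n70307 := ((((iv3 F148043)).symm.trans (sb E48342 (iv3 F260287)))).symm
theorem F298485 : act 5 n79730 = n44938 := (sb E48347 (iv5 D96254))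
theorem E52345 : n164680 = n60375 := (((D60375).symm.trans (sb E48348 F259685))).symm
theorem E52350 : n166046 = n86024 := (((D86024).symm.trans (sb E48349 D166046))).symm
theorem E52352 : n169869 = n166065 := (((D166065).symm.trans (sb E48352 (iv1 F267301)))).symm
theorem E52353 : n169872 = n166066 := (((D166066).symm.trans (sb E48352 (iv0 F267302)))).symm
theorem E52356 : n169854 = n79416 := ((((iv2 F122381)).symm.trans (sb E48354 D169854))).symm
theorem F298486 : act 0 n79713 = n81797 := (sb E48356 (iv1 F148229))
theorem E52360 : n173821 = n157992 := (((D157992).symm.trans (sb E48357 (iv5 F272411)))).symm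
theorem E52361 : n122469 = n121958 := ((F195945).symm.trans (sb E48357 F257351))
theorem F298487 : act 0 n56402 = n45957 := (sb E48358 F135952)
theorem F298488 : act 2 n56402 = n45901 := (sb E48358 F135869)
theorem F298489 : act 6 n56402 = n41371 := (sb E48358 (iv6 D88635))
theorem E52362 : n151414 = n70844 := (((D70844).symm.trans (sb E48361 F284956))).symm
theorem E52363 : n151412 = n81548 := (((D81548).symm.trans (sb E48362 (iv1 F238126)))).symm
theorem E52364 : n151411 = n81549 := (((D81549).symm.trans (sb E48362 F238131))).symm
theorem E52365 : n167859 = n81550 := (((D81550).symm.trans (sb E48362 D167859))).symm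
theorem F298490 : act 7 n37248 = n56917 := (sb E48362 F123865)
theorem F298491 : act 7 n37251 = n56920 := (sb E48363 F123866)
theorem E52367 : n81653 = n77267 := ((D81653).symm.trans (sb E48364 (iv6 D161014)))
theorem E52368 : n150010 = n100062 := (((iv2 F235984)).symm.trans (sb E48365 F285087))
theorem E52369 : n122826 = n87537 := (((iv4 F196802)).symm.trans (sb E48365 F285089))
theorem F298492 : act 6 n96742 = n87536 := (sb E48365 (iv6 D183380))
theorem E52370 : n158129 = n152639 := ((((iv4 F239861)).symm.trans (sb E48366 (iv4 F249072)))).symm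
theorem F298493 : act 6 n80454 = n45208 := (sb E48366 (iv6 D96743))
theorem F298496 : act 5 n78298 = n45173 := (sb E48368 (iv5 D96702))
theorem E52374 : n167887 = n148975 := ((((iv3 F234118)).symm.trans (sb E48370 D167887))).symm
theorem E52375 : n181267 = n128408 := ((((iv3 F206529)).symm.trans (sb E48371 (iv3 F282345)))).symm
theorem F298498 : act 5 n86562 = n45213 := (sb E48372 F149214)
theorem E52380 : n167072 = n124407 := ((((iv4 F198957)).symm.trans (sb E48374 D167072))).symm
theorem F298501 : act 5 n77787 = n36535 := (sb E48374 (iv5 D80203))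
theorem E52382 : n170210 = n162879 := ((D170210).symm.trans (sb E48378 (iv4 F282067)))
theorem F298502 : act 6 n80584 = n37303 := (sb E48379 (iv6 D81631))
theorem F298503 : act 2 n17756 = n15718 := (sb E48381 F30531)
theorem E52384 : n37056 = n17196 := (((F28884).symm.trans (sb E48381 D37056))).symm
theorem E52385 : n37057 = n36850 := (((D36850).symm.trans (sb E48381 D37057))).symm
theorem F298504 : act 7 n17756 = n15713 := (sb E48381 F30527)
theorem F298505 : act 2 n17757 = n15719 := (sb E48382 (iv2 F30532))
theorem E52386 : n36853 = n27852 := ((D36853).symm.trans (sb E48382 (iv5 F44975)))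
theorem E52387 : n36854 = n36378 := ((D36854).symm.trans (sb E48382 (iv7 F57131)))
theorem F298506 : act 2 n17671 = n17132 := (sb E48383 F51309)
theorem E52388 : n36671 = n27815 := ((D36671).symm.trans (sb E48383 (iv4 F44923)))
theorem F298507 : act 5 n17671 = n8323 := (sb E48383 (iv5 D17673))
theorem F298508 : act 7 n17671 = n17107 := (sb E48383 F51305)
theorem F298509 : act 2 n17564 = n17439 := (sb E48384 F28889)
theorem F298510 : act 7 n17564 = n8375 := (sb E48384 (iv7 D17760))
theorem E52389 : n57052 = n15690 := (((D15690).symm.trans (sb E48385 D57052))).symm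
theorem E52390 : n57053 = n15691 := (((D15691).symm.trans (sb E48385 D57053))).symm
theorem E52393 : n48938 = n17124 := (((iv3 F77166)).symm.trans (sb E48387 F51939))
theorem E52394 : n79118 = n70687 := ((((iv3 F189083)).symm.trans (sb E48388 D79118))).symm
theorem F298511 : act 4 n32825 = n45216 := (sb E48389 (iv4 F71270))
theorem E52396 : n70828 = n23908 := ((D70828).symm.trans (sb E48389 F56769))
theorem E52397 : n79120 = n70829 := (((D70829).symm.trans (sb E48389 D79120))).symm
theorem E52398 : n70834 = n8887 := ((((iv1 D18962)).symm.trans (sb E48390 D70834))).symm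
theorem E52399 : n70835 = n23898 := ((((iv0 F37302)).symm.trans (sb E48390 D70835))).symm
theorem F298512 : act 3 n18962 = n15718 := (sb E48390 F51975)
theorem E52400 : n70836 = n12697 := ((((iv4 F30271)).symm.trans (sb E48390 D70836))).symm
theorem F298513 : act 5 n18962 = n15716 := (sb E48390 (iv5 D32827))
theorem E52401 : n70837 = n40138 := (((D40138).symm.trans (sb E48390 D70837))).symm
theorem E52402 : n79121 = n70838 := (((D70838).symm.trans (sb E48391 D79121))).symm
theorem E52403 : n79122 = n70839 := (((D70839).symm.trans (sb E48391 D79122))).symm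
theorem F298514 : act 4 n32828 = n45217 := (sb E48391 (iv4 F71276))
theorem F298515 : act 2 n32817 = n36826 := (sb E48392 F57759)
theorem E52406 : n79125 = n70701 := ((((iv3 F184644)).symm.trans (sb E48392 D79125))).symm
theorem E52407 : n70810 = n18312 := ((D70810).symm.trans (sb E48392 F56773))
theorem F298516 : act 5 n32817 = n17459 := (sb E48392 F56772)
theorem F298517 : act 7 n32817 = n27485 := (sb E48392 (iv7 F56775))
theorem F298518 : act 4 n17644 = n15718 := (sb E48393 (iv4 D32829))
theorem E52410 : n70843 = n36576 := (((D36576).symm.trans (sb E48393 D70843))).symm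
theorem E52411 : n79128 = n61600 := ((((iv1 F96162)).symm.trans (sb E48394 D79128))).symm
theorem E52412 : n79129 = n29056 := ((((iv0 F51977)).symm.trans (sb E48394 D79129))).symm
theorem F298519 : act 4 n32831 = n17439 := (sb E48398 F56780)
theorem E52420 : n79142 = n39466 := ((((iv3 F60383)).symm.trans (sb E48399 D79142))).symm
theorem E52423 : n34698 = n34391 := ((((iv3 F54558)).symm.trans (sb E48401 F56016))).symm
theorem E52425 : n119018 = n48997 := ((D119018).symm.trans (sb E48403 F108032))
theorem E52426 : n33110 = n33093 := ((F124882).symm.trans (sb E48403 F108033))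
theorem E52427 : n151732 = n34336 := (((F86642).symm.trans (sb E48403 (iv3 F238614)))).symm
theorem F298522 : act 4 n54769 = n45214 := (sb E48403 F108034)
theorem E52428 : n34333 = n33081 := ((F86643).symm.trans (sb E48403 (iv5 D71512)))
theorem F298523 : act 6 n32800 = n45214 := (sb E48404 (iv6 D96753))
theorem E52431 : n70546 = n62912 := (((D62912).symm.trans (iv7 (sb E48405 (tr (iv7 D79297) E52190))))).symm
theorem F298524 : act 4 n54779 = n45215 := (sb E48406 (iv4 F108062))
theorem E52432 : n119040 = n55995 := (((iv5 F187293)).symm.trans (sb E48406 F108061))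
theorem F298525 : act 6 n80566 = n45215 := (sb E48407 (iv6 D96754))
theorem F298528 : act 5 n96755 = n181365 := (sb E48409 (iv5 F282460))
theorem F298531 : act 5 n96756 = n86597 := (sb E48414 (iv5 F237931))
theorem F298535 : act 5 n96757 = n86598 := (sb E48415 F236669)
theorem F298536 : act 6 n96757 = n120219 := (sb E48415 (iv6 F236668))
theorem F298539 : act 1 n96758 = n85061 := (sb E48416 F236671)
theorem E52434 : n181366 = n179473 := ((((iv7 F279404)).symm.trans (sb E48416 (iv7 F282465)))).symm
theorem F298545 : act 1 n85623 = n40159 := (sb E48421 F132878)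
theorem F298546 : act 4 n81590 = n77308 := (sb E48423 F254660)
theorem E52438 : n171028 = n120313 := (((D120313).symm.trans (sb E48424 (iv3 F268744)))).symm
theorem E52439 : n122340 = n120314 := (((D120314).symm.trans (sb E48424 (iv5 F195645)))).symm
theorem E52440 : n180993 = n170212 := (((D170212).symm.trans (sb E48426 (iv3 F281797)))).symm
theorem E52441 : n180997 = n170213 := (((D170213).symm.trans (sb E48426 D180997))).symm
theorem F298548 : act 5 n81632 = n40034 := (sb E48426 (iv5 D86443))
theorem F298549 : act 5 n81633 = n40072 := (sb E48427 F132671)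
theorem F298550 : act 7 n81633 = n40071 := (sb E48427 (iv7 D86498))
theorem F298551 : act 1 n81635 = n40071 := (sb E48429 (iv0 D86495))
theorem E52451 : n71960 = n41704 := ((((iv3 F64351)).symm.trans (sb E48431 F239767))).symm
theorem E52452 : n168902 = n86898 := ((((iv2 F133324)).symm.trans (sb E48432 F266016))).symm
theorem E52454 : n167341 = n158458 := (((D158458).symm.trans (sb E48433 F281574))).symm
theorem E52455 : n167178 = n158460 := (((D158460).symm.trans (sb E48433 F281572))).symm
theorem E52456 : n121988 = n36574 := (((F60260).symm.trans (sb E48434 (iv2 F194821)))).symm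
theorem E52457 : n84905 = n37884 := ((D84905).symm.trans (sb E48434 F123320))
theorem E52458 : n167166 = n26517 := (((F60257).symm.trans (sb E48434 D167166))).symm
theorem E52459 : n84906 = n36562 := ((D84906).symm.trans (sb E48434 (iv6 D80252)))
theorem F298553 : act 5 n81594 = n40057 := (sb E48435 (iv5 D86474))
theorem F298556 : act 5 n81595 = n40054 := (sb E48436 (iv5 D86472))
theorem F298558 : act 0 n75962 = n40181 := (sb E48438 (iv1 D86682))
theorem F298559 : act 1 n75962 = n40199 := (sb E48438 F132928)
theorem E52469 : n133944 = n119126 := (((iv4 F215795)).symm.trans (iv4 (sb E48440 (tr (iv4 D149972) E52431))))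
theorem F298562 : act 5 n119126 = n169795 := (sb E48440 (iv5 F267216))
theorem F298563 : act 3 n35452 = n77046 := (sb E48441 F235927)
theorem F298564 : act 2 n119123 = n77644 := (sb E48442 (iv2 D161662))
theorem F298565 : act 7 n119123 = n77645 := (sb E48442 (iv7 F255677))
theorem F298566 : act 3 n98298 = n77644 := (sb E48443 (iv3 D161663))
theorem E52470 : n169828 = n161811 := (((iv1 F267264)).symm.trans (sb E48444 F255797))
theorem F298567 : act 5 n118050 = n77644 := (sb E48444 (iv5 D161664))
theorem F298570 : act 5 n149671 = n77645 := (sb E48446 (iv5 D161667))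
theorem F298571 : act 3 n161668 = n82442 := (sb E48447 F270307)
theorem F298575 : act 3 n76728 = n79378 := (sb E48449 (iv3 D165220))
theorem E52472 : n165350 = n81430 := (((F125584).symm.trans (sb E48450 F260585))).symm
theorem F298576 : act 5 n76727 = n79378 := (sb E48450 (iv5 D165221))
theorem F298579 : act 3 n81922 = n79379 := (sb E48452 F266014)
theorem F298581 : act 5 n119124 = n70295 := (sb E48453 (iv5 D149672))
theorem F298585 : act 3 n165225 = n99606 := (sb E48454 F267209)
theorem F298586 : act 4 n165225 = n160621 := (sb E48454 F267208)
theorem F298588 : act 1 n164605 = n79380 := (sb E48455 (iv0 D165227))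
theorem F298591 : act 3 n165228 = n97231 := (sb E48456 F284885)
theorem F298592 : act 4 n165228 = n98763 := (sb E48456 (iv4 F296771))
theorem E52473 : n168279 = n95238 := (((iv5 F265241)).symm.trans (sb E48456 F284883))
theorem F298594 : act 4 n149670 = n79380 := (sb E48457 (iv4 D165229))
theorem F298596 : act 5 n180870 = n87470 := (sb E48458 (iv5 D183243))
theorem F298597 : act 4 n170521 = n86387 := (sb E48459 F281595)
theorem F298598 : act 5 n170521 = n98062 := (sb E48459 F281596)
theorem E52501 : n120536 = n17064 := (((D17064).symm.trans (sb E48482 D120536))).symm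
theorem E52511 : n71405 = n15521 := ((((iv3 F25074)).symm.trans (sb E48491 (iv3 D151473)))).symm
theorem E52515 : n39017 = n37549 := (((D37549).symm.trans (sb E48498 (iv5 F121082)))).symm
theorem F298599 : act 6 n18017 = n26756 := (sb E48498 (iv6 D55378))
theorem F298600 : act 0 n45174 = n38973 := (sb E48499 (iv1 D84491))
theorem E52516 : n96704 = n78312 := ((D96704).symm.trans (sb E48499 F129618))
theorem E52524 : n165912 = n163968 := (((D163968).symm.trans (sb E48506 D165912))).symm
theorem E52525 : n165913 = n163969 := (((D163969).symm.trans (sb E48506 D165913))).symm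
theorem E52526 : n165909 = n163965 := ((((iv2 F258436)).symm.trans (sb E48506 (iv2 F261265)))).symm
theorem E52527 : n165914 = n163970 := (((D163970).symm.trans (sb E48506 D165914))).symm
theorem F298601 : act 7 n78773 = n75209 := (sb E48506 F122363)
theorem E52528 : n163984 = n81911 := ((D163984).symm.trans (sb E48507 F126632))
theorem E52529 : n163985 = n81908 := ((D163985).symm.trans (sb E48507 F126633))
theorem F298602 : act 2 n78778 = n75218 := (sb E48507 F126630)
theorem E52530 : n163986 = n86159 := ((D163986).symm.trans (sb E48507 (iv4 F132121)))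
theorem E52531 : n171541 = n163976 := ((((iv6 F258446)).symm.trans (sb E48507 D171541))).symm
theorem F298603 : act 7 n78778 = n75210 := (sb E48507 F126631)
theorem E52533 : n81931 = n55383 := (((D55383).symm.trans (sb E48508 (iv6 F126271)))).symm
theorem F298604 : act 0 n26793 = n16838 := (sb E48509 (iv1 F43187))
theorem F298605 : act 1 n26793 = n13053 := (sb E48509 F117240)
theorem F298606 : act 2 n26793 = n12827 := (sb E48509 (iv2 D26823))
theorem F298607 : act 3 n26793 = n16817 := (sb E48509 (iv3 F43206))
theorem E52534 : n55565 = n55495 := (((D55495).symm.trans (sb E48509 D55565))).symm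
theorem F298608 : act 7 n26793 = n16839 := (sb E48509 F43182)
theorem F298609 : act 0 n8467 = n13051 := (sb E48518 (iv1 D27243))
theorem F298610 : act 2 n8467 = n13061 := (sb E48518 F117384)
theorem E52538 : n27669 = n17959 := (((D17959).symm.trans (sb E48518 (iv5 F44606)))).symm
theorem E52539 : n55575 = n17960 := (((D17960).symm.trans (sb E48518 (iv6 F117306)))).symm
theorem F298611 : act 7 n8467 = n13060 := (sb E48518 F117385)
theorem F298612 : act 5 n37314 = n57909 := (sb E48519 F191974)
theorem F298613 : act 7 n37314 = n55484 := (sb E48519 (iv7 D120513))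
theorem E52540 : n118681 = n95879 := (((D95879).symm.trans (sb E48532 F284953))).symm
theorem E52542 : n151360 = n95880 := (((D95880).symm.trans (sb E48536 D151360))).symm
theorem E52543 : n151361 = n95881 := (((D95881).symm.trans (sb E48536 D151361))).symm
theorem E52544 : n124891 = n95883 := (((D95883).symm.trans (sb E48536 F232441))).symm
theorem E52545 : n181270 = n95892 := (((D95892).symm.trans (sb E48540 (iv5 F282519)))).symm
theorem E52546 : n79668 = n78800 := (((D78800).symm.trans (sb E48543 D79668))).symm
theorem E52547 : n79669 = n78801 := (((D78801).symm.trans (sb E48543 D79669))).symm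
theorem E52548 : n79670 = n78799 := ((((iv2 F119954)).symm.trans (sb E48543 D79670))).symm
theorem E52549 : n79672 = n78802 := (((D78802).symm.trans (sb E48543 D79672))).symm
theorem E52550 : n78806 = n56152 := ((D78806).symm.trans (sb E48544 (iv4 F88813)))
theorem E52556 : n164837 = n163382 := ((D164837).symm.trans (sb E48562 (iv5 F257671)))
theorem E52557 : n164838 = n76954 := ((D164838).symm.trans (sb E48562 (iv6 D160505)))
theorem F298614 : act 1 n78512 = n36265 := (sb E48563 F120482)
theorem F298616 : act 5 n78512 = n36059 := (sb E48563 (iv5 D79204))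
theorem F298617 : act 7 n78512 = n79591 := (sb E48563 (iv7 F122249))
theorem F298618 : act 6 n35158 = n36059 := (sb E48564 (iv6 D79205))
theorem E52562 : n165793 = n163372 := (((D163372).symm.trans (sb E48565 D165793))).symm
theorem E52564 : n165794 = n163375 := (((D163375).symm.trans (sb E48565 D165794))).symm
theorem E52566 : n120906 = n84844 := ((((iv1 F130046)).symm.trans (sb E48567 F258613))).symm
theorem F298619 : act 3 n39053 = n83129 := (sb E48568 (iv3 F198733))
theorem F298620 : act 0 n92200 = n79659 := (sb E48570 (iv1 F256301))
theorem F298621 : act 1 n92201 = n79659 := (sb E48571 F256305)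
theorem F298622 : act 0 n92199 = n79658 := (sb E48572 (iv1 F256306))
theorem F298623 : act 1 n92199 = n79657 := (sb E48572 F256304)
theorem F298624 : act 7 n92199 = n79659 := (sb E48572 F256303)
theorem E52569 : n79662 = n78862 := ((D79662).symm.trans (sb E48574 F141809))
theorem F298626 : act 7 n36277 = n43109 := (sb E48574 (iv7 D92203))
theorem F298629 : act 6 n35901 = n17518 := (sb E48578 (iv6 D36279))
theorem F298632 : act 5 n75296 = n86210 := (sb E48580 (iv5 D180521))
theorem F298633 : act 4 n160871 = n84293 := (sb E48581 (iv4 D176815))
theorem F298634 : act 6 n160871 = n176662 := (sb E48581 F276196)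
theorem F298635 : act 0 n75797 = n83139 := (sb E48584 (iv1 F128166))
theorem F298636 : act 1 n75797 = n35721 := (sb E48584 (iv0 D78375))
theorem E52573 : n162761 = n158849 := (((D158849).symm.trans (sb E48584 (iv5 F256989)))).symm
theorem F298637 : act 7 n75797 = n80006 := (sb E48584 (iv7 F128103))
theorem E52575 : n83277 = n83128 := ((((iv6 F257557)).symm.trans (sb E48589 F273001))).symm
theorem F298641 : act 5 n163253 = n176870 := (sb E48592 F276241)
theorem F298642 : act 6 n163253 = n82945 := (sb E48592 (iv6 D173321))
theorem F298645 : act 6 n165692 = n80617 := (sb E48593 (iv6 D167940))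
theorem F298646 : act 6 n164101 = n79660 := (sb E48594 (iv6 D165882))
theorem F298647 : act 4 n124638 = n162661 := (sb E48596 F268323)
theorem F298648 : act 3 n39897 = n39915 := (sb E48611 F132201)
theorem E52582 : n122575 = n39189 := (((D39189).symm.trans (sb E48614 (iv7 F196298)))).symm
theorem F298649 : act 0 n18586 = n27628 := (sb E48615 (iv1 D57888))
theorem F298650 : act 3 n18586 = n27892 := (sb E48615 F121115)
theorem E52583 : n124185 = n39177 := (((D39177).symm.trans (sb E48615 D124185))).symm
theorem E52584 : n55498 = n39178 := (((D39178).symm.trans (sb E48615 (iv5 F91622)))).symm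
theorem F298651 : act 7 n18586 = n39020 := (sb E48615 F121116)
theorem F298652 : act 1 n18587 = n27628 := (sb E48616 (iv0 F90590))
theorem F298653 : act 2 n18587 = n39020 := (sb E48616 (iv2 F121090))
theorem F298654 : act 3 n18587 = n38338 := (sb E48616 (iv3 F121541))
theorem E52585 : n123313 = n39182 := (((D39182).symm.trans (sb E48616 (iv4 F197614)))).symm
theorem F298655 : act 0 n18589 = n39020 := (sb E48617 (iv1 F121089))
theorem F298656 : act 2 n18589 = n27628 := (sb E48617 F124396)
theorem F298657 : act 1 n55949 = n39877 := (sb E48618 (iv0 F117615))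
theorem F298658 : act 2 n55949 = n75212 := (sb E48618 F117561)
theorem F298659 : act 3 n55949 = n26983 := (sb E48618 (iv3 D55959))
theorem E52586 : n121304 = n121284 := (((D121284).symm.trans (sb E48618 D121304))).symm
theorem E52587 : n39018 = n34795 := (((iv6 F121559)).symm.trans (sb E48618 F88555))
theorem F298660 : act 7 n55949 = n35905 := (sb E48618 F88556)
theorem F298661 : act 1 n39911 = n57930 := (sb E48619 (iv0 D124252))
theorem F298662 : act 4 n166684 = n84294 := (sb E48620 F276195)
theorem F298663 : act 6 n166684 = n84292 := (sb E48620 (iv6 D176814))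
theorem F298664 : act 3 n164122 = n86213 := (sb E48621 (iv3 F280980))
theorem F298665 : act 6 n164122 = n86210 := (sb E48621 F280979)
theorem F298670 : act 1 n158850 = n78741 := (sb E48623 F260999)
theorem E52591 : n174684 = n78218 := (((F128172).symm.trans (sb E48625 (iv1 F273540)))).symm
theorem E52592 : n176613 = n173859 := (((D173859).symm.trans (sb E48625 (iv7 F275984)))).symm
theorem F298673 : act 0 n83142 = n45904 := (sb E48626 F129253)
theorem E52593 : n39807 = n36233 := ((D39807).symm.trans (sb E48627 (iv4 F121635)))
theorem F298675 : act 0 n58017 = n34659 := (sb E48630 (iv1 F113642))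
theorem F298676 : act 1 n58017 = n34655 := (sb E48630 (iv0 D75777))
theorem E52597 : n165002 = n36398 := ((((iv4 F57144)).symm.trans (sb E48631 F260190))).symm
theorem E52598 : n174655 = n77188 := ((D174655).symm.trans (sb E48632 (iv1 D160849)))
theorem F298677 : act 1 n83458 = n163255 := (sb E48632 F257562)
theorem F298678 : act 2 n83458 = n163253 := (sb E48632 (iv2 F257549))
theorem F298679 : act 7 n83458 = n163252 := (sb E48632 F257554)
theorem F298680 : act 3 n78844 = n38844 := (sb E48633 F129296)
theorem F298681 : act 1 n75260 = n38267 := (sb E48634 F128134)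
theorem F298682 : act 3 n75260 = n38336 := (sb E48634 (iv3 F128136))
theorem F298683 : act 3 n6218 = n13060 := (sb E48635 (iv3 D27264))
theorem E52600 : n56748 = n13070 := (((D13070).symm.trans (sb E48635 D56748))).symm
theorem E52601 : n72819 = n37221 := ((((iv1 F58178)).symm.trans (sb E48636 (iv1 F109961)))).symm
theorem E52602 : n40554 = n16295 := (((iv0 F61681)).symm.trans (sb E48636 (iv0 D33739)))
theorem E52603 : n72526 = n18918 := (((F34393).symm.trans (sb E48636 F190775))).symm
theorem E52604 : n54617 = n10531 := (((F34395).symm.trans (sb E48636 (iv5 F190788)))).symm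
theorem E52605 : n45804 = n39628 := ((D45804).symm.trans (sb E48636 F190776))
theorem F298684 : act 1 n22093 = n12603 := (sb E48637 (iv0 D26414))
theorem F298685 : act 2 n22093 = n15993 := (sb E48637 F42647)
theorem E52606 : n54618 = n37264 := (((F296032).symm.trans (sb E48637 D54618))).symm
theorem F298686 : act 2 n18763 = n17477 := (sb E48638 F43391)
theorem F298687 : act 6 n18763 = n12872 := (sb E48638 (iv6 D26896))
theorem E52608 : n40275 = n16338 := ((((iv7 F42189)).symm.trans (sb E48638 F117248))).symm
theorem E52609 : n55646 = n16402 := ((((iv4 F29128)).symm.trans (sb E48641 (iv4 F88038)))).symm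
theorem F298688 : act 3 n8707 = n18277 := (sb E48642 (iv3 D38265))
theorem F298689 : act 3 n6309 = n13158 := (sb E48645 F44406)
theorem E52612 : n55065 = n47257 := (((F74508).symm.trans (sb E48646 (iv1 F166632)))).symm
theorem E52613 : n73923 = n47262 := ((((iv0 F74511)).symm.trans (sb E48646 F110721))).symm
theorem E52614 : n73926 = n55099 := ((((iv2 F87149)).symm.trans (sb E48646 (iv2 F110720)))).symm
theorem E52615 : n73981 = n55643 := (((D55643).symm.trans (sb E48646 (iv5 F110744)))).symm
theorem E52616 : n55644 = n55168 := ((D55644).symm.trans (sb E48646 (iv6 F87263)))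
theorem F298690 : act 7 n26870 = n16411 := (sb E48646 (iv7 D33955))
theorem E52617 : n55645 = n29155 := ((D55645).symm.trans (sb E48647 F53304))
theorem F298691 : act 7 n26871 = n16419 := (sb E48647 (iv7 D33968))
theorem F298692 : act 2 n26667 = n12874 := (sb E48648 F43327)
theorem F298693 : act 4 n26667 = n12863 := (sb E48648 F43328)
theorem F298694 : act 6 n26667 = n12862 := (sb E48648 (iv6 D26872))
theorem E52620 : n55204 = n16321 := (((D16321).symm.trans (sb E48649 D55204))).symm
theorem E52621 : n55205 = n16322 := (((D16322).symm.trans (sb E48649 D55205))).symm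
theorem E52622 : n55195 = n16319 := ((((iv2 F25841)).symm.trans (sb E48649 (iv2 F87325)))).symm
theorem E52623 : n55206 = n16323 := (((D16323).symm.trans (sb E48649 D55206))).symm
theorem E52624 : n16324 = n12740 := ((D16324).symm.trans (sb E48649 (iv6 D26674)))
theorem F298695 : act 2 n8224 = n16419 := (sb E48650 F53069)
theorem E52625 : n55211 = n17483 := (((D17483).symm.trans (sb E48650 (iv6 F87347)))).symm
theorem F298696 : act 4 n6024 = n3705 := (sb E48651 F12997)
theorem F298697 : act 6 n6024 = n3704 := (sb E48651 (iv6 D8225))
theorem E52627 : n118607 = n69962 := ((((iv5 F106384)).symm.trans (sb E48652 F187835))).symm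
theorem E52628 : n79364 = n55019 := ((D79364).symm.trans (sb E48652 F187836))
theorem F298698 : act 0 n26602 = n17475 := (sb E48653 (iv1 D36140))
theorem E52629 : n79365 = n55026 := ((((iv3 F87027)).symm.trans (sb E48653 D79365))).symm
theorem E52630 : n55034 = n40749 := ((D55034).symm.trans (sb E48653 (iv5 F72261)))
theorem E52632 : n54829 = n18917 := ((((iv5 F56876)).symm.trans (sb E48654 (iv5 D119151)))).symm
theorem E52633 : n84997 = n79369 := (((D79369).symm.trans (sb E48654 F187477))).symm
theorem E52634 : n71736 = n47001 := ((D71736).symm.trans (sb E48655 (iv4 F74222)))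
theorem F298699 : act 5 n33164 = n17475 := (sb E48655 (iv5 D36143))
theorem E52635 : n71737 = n70379 := ((D71737).symm.trans (sb E48655 (iv6 F296538)))
theorem E52636 : n79374 = n18657 := ((D79374).symm.trans (sb E48656 (iv1 D39353)))
theorem E52637 : n84996 = n79375 := (((D79375).symm.trans (sb E48656 F130233))).symm
theorem E52638 : n79376 = n75850 := ((D79376).symm.trans (sb E48656 (iv5 F130334)))
theorem E52639 : n79377 = n39635 := ((D79377).symm.trans (sb E48656 F130276))
theorem F298700 : act 2 n26417 = n12994 := (sb E48657 F43838)
theorem E52640 : n56279 = n54585 := ((((iv3 F86266)).symm.trans (sb E48657 (iv3 F89017)))).symm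
theorem E52641 : n56281 = n54624 := (((D54624).symm.trans (sb E48657 D56281))).symm
theorem E52642 : n79378 = n61505 := (((F96016).symm.trans (sb E48658 D79378))).symm
theorem E52643 : n79379 = n71738 := (((D71738).symm.trans (sb E48658 D79379))).symm
theorem E52644 : n79380 = n71739 := (((D71739).symm.trans (sb E48658 D79380))).symm
theorem F298701 : act 1 n8765 = n17477 := (sb E48659 (iv0 F117296))
theorem E52646 : n79307 = n18677 := ((((iv3 F29935)).symm.trans (sb E48659 D79307))).symm
theorem E52648 : n58407 = n18692 := (((F30539).symm.trans (sb E48660 (iv3 F92249)))).symm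
theorem E52649 : n40276 = n26812 := ((D40276).symm.trans (sb E48660 F44897))
theorem E52650 : n40277 = n18700 := ((D40277).symm.trans (sb E48660 F44898))
theorem F298702 : act 5 n34693 = n17477 := (sb E48661 (iv5 D36148))
theorem F298703 : act 7 n18766 = n17477 := (sb E48662 (iv7 D36149))
theorem F298704 : act 3 n6270 = n6303 := (sb E48664 F22077)
theorem F298705 : act 5 n6270 = n6301 := (sb E48664 (iv5 D13281))
theorem E52656 : n18797 = n13191 := (((D13191).symm.trans (sb E48664 (iv6 F30040)))).symm
theorem F298706 : act 7 n6270 = n8807 := (sb E48664 F22078)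
theorem E52663 : n83231 = n83109 := (((D83109).symm.trans (sb E48669 (iv3 F128307)))).symm
theorem E52664 : n83238 = n83110 := (((D83110).symm.trans (sb E48669 D83238))).symm
theorem E52666 : n84187 = n83104 := (((D83104).symm.trans (sb E48670 F272925))).symm
theorem F298707 : act 1 n38257 = n37887 := (sb E48671 (iv0 D82520))
theorem E52667 : n158693 = n83114 := (((D83114).symm.trans (sb E48671 (iv4 F249849)))).symm
theorem F298708 : act 6 n38258 = n18451 := (sb E48672 (iv6 D38819))
theorem F298709 : act 1 n38262 = n75260 := (sb E48673 (iv0 F112821))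
theorem F298710 : act 6 n38262 = n18339 := (sb E48673 (iv6 D38479))
theorem E52669 : n162559 = n83358 := ((D162559).symm.trans (sb E48676 (iv6 D174383)))
theorem F298711 : act 6 n38834 = n35605 := (sb E48677 (iv6 D78066))
theorem F298712 : act 0 n17555 = n18456 := (sb E48678 F121804)
theorem F298713 : act 1 n17555 = n18451 := (sb E48678 F121805)
theorem E52673 : n83154 = n36357 := (((D36357).symm.trans (sb E48678 (iv3 F128213)))).symm
theorem E52674 : n83157 = n36358 := (((D36358).symm.trans (sb E48678 (iv5 F128216)))).symm
theorem F298714 : act 6 n17555 = n18420 := (sb E48678 F59706)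
theorem F298715 : act 7 n17555 = n18281 := (sb E48678 (iv7 D38280))
theorem E52675 : n162563 = n84189 := ((((iv1 F129237)).symm.trans (sb E48679 D162563))).symm
theorem F298716 : act 2 n60166 = n54987 := (sb E48680 F187777)
theorem E52677 : n128048 = n54897 := ((D128048).symm.trans (sb E48680 (iv6 D119295)))
theorem F298717 : act 3 n60200 = n54987 := (sb E48681 F188496)
theorem E52678 : n128097 = n54984 := ((D128097).symm.trans (sb E48681 (iv6 D119516)))
theorem E52679 : n178499 = n88105 := ((((iv0 F135087)).symm.trans (sb E48682 F278155))).symm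
theorem F298718 : act 4 n79325 = n54987 := (sb E48682 F188500)
theorem E52680 : n150224 = n99589 := ((((iv5 F153338)).symm.trans (sb E48682 (iv5 F236420)))).symm
theorem E52681 : n165097 = n54985 := ((D165097).symm.trans (sb E48682 (iv6 D119518)))
theorem F298719 : act 0 n71914 = n118605 := (sb E48683 F188501)
theorem F298720 : act 1 n71914 = n119148 := (sb E48683 (iv0 F190996))
theorem F298721 : act 5 n71914 = n54987 := (sb E48683 (iv5 D119523))
theorem F298722 : act 7 n60229 = n54987 := (sb E48685 (iv7 D119524))
theorem F298723 : act 1 n38586 = n79372 := (sb E48686 (iv0 D165198))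
theorem E52682 : n125154 = n83711 := ((((iv3 F128772)).symm.trans (sb E48686 F260460))).symm
theorem E52683 : n151355 = n83717 := ((((iv4 F128776)).symm.trans (sb E48686 F260461))).symm
theorem F298724 : act 1 n165199 = n83642 := (sb E48687 (iv0 D175116))
theorem F298725 : act 4 n165199 = n166283 := (sb E48687 F274084)
theorem F298727 : act 6 n165199 = n83742 := (sb E48687 F274086)
theorem F298728 : act 7 n165199 = n83654 := (sb E48687 F274087)
theorem F298729 : act 0 n165191 = n83654 := (sb E48688 (iv1 F274091))
theorem F298730 : act 7 n165191 = n83642 := (sb E48688 (iv7 D175117))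
theorem F298731 : act 5 n158481 = n79372 := (sb E48689 (iv5 D165200))
theorem F298732 : act 7 n84107 = n79372 := (sb E48690 (iv7 D165201))
theorem E52685 : n84085 = n84043 := (((D84043).symm.trans (sb E48695 D84085))).symm
theorem E52686 : n84086 = n84044 := (((D84044).symm.trans (sb E48695 D84086))).symm
theorem E52687 : n84080 = n84045 := (((D84045).symm.trans (sb E48695 (iv2 F129062)))).symm
theorem F298733 : act 7 n38718 = n38758 := (sb E48695 (iv7 F59663))
theorem F298734 : act 0 n38719 = n37880 := (sb E48696 F59815)
theorem F298735 : act 2 n38719 = n38798 := (sb E48696 (iv2 F59822))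
theorem E52689 : n84103 = n84049 := (((D84049).symm.trans (sb E48696 D84103))).symm
theorem E52690 : n84099 = n84050 := (((D84050).symm.trans (sb E48696 (iv6 F129082)))).symm
theorem F298737 : act 3 n18269 = n18429 := (sb E48697 F59509)
theorem E52692 : n81834 = n76841 := ((D81834).symm.trans (sb E48702 (iv5 F197619)))
theorem E52693 : n57999 = n57783 := ((F119058).symm.trans (sb E48702 F197618))
theorem F298738 : act 1 n27536 = n17997 := (sb E48704 (iv0 D37485))
theorem F298739 : act 2 n27536 = n56624 := (sb E48704 (iv2 F124452))
theorem E52694 : n57620 = n47218 := (((iv3 F90769)).symm.trans (sb E48704 F184747))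
theorem E52695 : n81876 = n57638 := ((((iv5 F90774)).symm.trans (sb E48704 D81876))).symm
theorem F298740 : act 0 n27428 = n17997 := (sb E48705 (iv1 D37486))
theorem E52696 : n81878 = n57269 := ((((iv3 F90345)).symm.trans (sb E48705 D81878))).symm
theorem E52697 : n81879 = n57273 := (((D57273).symm.trans (sb E48705 D81879))).symm
theorem F298741 : act 7 n27428 = n56624 := (sb E48705 (iv7 F124450))
theorem E52698 : n72901 = n47153 := ((((iv2 F74425)).symm.trans (sb E48706 F197159))).symm
theorem E52699 : n81870 = n57537 := ((D81870).symm.trans (sb E48706 F197161))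
theorem E52700 : n84818 = n81881 := (((D81881).symm.trans (sb E48707 F197165))).symm
theorem E52701 : n84817 = n81882 := (((D81882).symm.trans (sb E48707 F197164))).symm
theorem E52702 : n81884 = n57538 := ((D81884).symm.trans (sb E48707 F197163))
theorem F298742 : act 1 n27508 = n56624 := (sb E48708 F89559)
theorem F298743 : act 7 n27508 = n17997 := (sb E48708 (iv7 D37488))
theorem E52703 : n58646 = n57556 := ((((iv4 F90704)).symm.trans (sb E48709 D58646))).symm
theorem F298744 : act 0 n27902 = n18611 := (sb E48711 (iv1 D39239))
theorem E52704 : n55577 = n35130 := (((iv5 F87889)).symm.trans (sb E48711 F120623))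
theorem F298745 : act 1 n37500 = n18611 := (sb E48712 (iv0 D39238))
theorem F298746 : act 6 n37500 = n55499 := (sb E48712 F121539)
theorem E52705 : n84827 = n81892 := (((D81892).symm.trans (sb E48713 F197168))).symm
theorem E52706 : n84826 = n81893 := (((D81893).symm.trans (sb E48713 F197169))).symm
theorem E52707 : n81896 = n57540 := ((D81896).symm.trans (sb E48713 F197167))
theorem F298747 : act 0 n27509 = n18856 := (sb E48714 (iv1 F117292))
theorem F298748 : act 1 n27509 = n56638 := (sb E48714 F89571)
theorem F298749 : act 7 n27509 = n18000 := (sb E48714 (iv7 D37502))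
theorem F298751 : act 1 n170730 = n83449 := (sb E48716 F271734)
theorem E52708 : n98514 = n83448 := ((F156018).symm.trans (sb E48717 (iv1 F187974)))
theorem F298752 : act 1 n101258 = n83447 := (sb E48717 F187975)
theorem F298754 : act 7 n170731 = n83450 := (sb E48718 F271736)
theorem F298755 : act 7 n38465 = n81849 := (sb E48719 F256849)
theorem F298756 : act 1 n124632 = n81851 := (sb E48720 (iv0 D170736))
theorem F298757 : act 0 n124631 = n81851 := (sb E48721 F263875)
theorem F298758 : act 2 n170737 = n83434 := (sb E48722 F271737)
theorem F298759 : act 7 n170737 = n83452 := (sb E48722 F271738)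
theorem F298760 : act 7 n38466 = n81851 := (sb E48723 F256851)
theorem E52709 : n162588 = n83363 := ((((iv1 F128480)).symm.trans (sb E48724 D162588))).symm
theorem E52710 : n162589 = n83362 := (((F128483).symm.trans (sb E48724 D162589))).symm
theorem E52714 : n162594 = n82938 := (((F127807).symm.trans (sb E48725 D162594))).symm
theorem E52717 : n162669 = n83479 := ((((iv5 F128580)).symm.trans (sb E48727 F268306))).symm
theorem E52719 : n162598 = n82927 := (((D82927).symm.trans (sb E48729 D162598))).symm
theorem F298761 : act 4 n38157 = n82410 := (sb E48729 (iv4 F126953))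
theorem F298762 : act 0 n78140 = n88746 := (sb E48731 F199366)
theorem F298763 : act 2 n78140 = n83438 := (sb E48731 F199364)
theorem F298764 : act 4 n78140 = n58235 := (sb E48731 (iv4 D124637))
theorem E52724 : n174673 = n162660 := (((D162660).symm.trans (sb E48731 (iv5 F273531)))).symm
theorem F298765 : act 7 n78140 = n83440 := (sb E48731 F199365)
theorem F298766 : act 1 n78141 = n88746 := (sb E48732 F199363)
theorem F298767 : act 2 n78141 = n83440 := (sb E48732 F199359)
theorem F298768 : act 4 n78141 = n58234 := (sb E48732 (iv4 D124636))
theorem E52725 : n174672 = n162663 := (((D162663).symm.trans (sb E48732 (iv5 F273525)))).symm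
theorem F298769 : act 7 n78141 = n83438 := (sb E48732 F199361)
theorem F298770 : act 7 n170743 = n83454 := (sb E48733 F271741)
theorem F298771 : act 0 n170744 = n186305 := (sb E48734 (iv1 F289079))
theorem F298772 : act 1 n170744 = n102787 := (sb E48734 F271744)
theorem F298773 : act 2 n170744 = n83444 := (sb E48734 F271742)
theorem F298774 : act 7 n170744 = n83455 := (sb E48734 F271743)
theorem F298775 : act 7 n38468 = n81859 := (sb E48735 F256891)
theorem E52726 : n37290 = n16164 := (((iv1 F58250)).symm.trans (sb E48736 F190491))
theorem E52727 : n40067 = n16112 := ((D40067).symm.trans (sb E48736 (iv0 F190504)))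
theorem F298776 : act 3 n18939 = n12601 := (sb E48736 (iv3 D26405))
theorem E52728 : n54606 = n8880 := ((((iv5 D18939)).symm.trans (sb E48736 D54606))).symm
theorem E52729 : n54607 = n40068 := (((D40068).symm.trans (sb E48736 D54607))).symm
theorem F298777 : act 7 n18939 = n15989 := (sb E48736 (iv7 F42192))
theorem F298778 : act 2 n17482 = n15986 := (sb E48737 (iv2 F42194))
theorem F298779 : act 5 n17482 = n12601 := (sb E48737 (iv5 D26407))
theorem E52730 : n54609 = n36160 := (((D36160).symm.trans (sb E48737 D54609))).symm
theorem F298780 : act 3 n13223 = n18019 := (sb E48741 F58426)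
theorem E52735 : n81967 = n26952 := ((((iv4 F43472)).symm.trans (sb E48741 D81967))).symm
theorem F298781 : act 6 n13223 = n27021 := (sb E48741 F58427)
theorem E52737 : n56278 = n54559 := (((F86235).symm.trans (sb E48743 D56278))).symm
theorem E52738 : n54656 = n54562 := ((((iv2 F86232)).symm.trans (sb E48743 (iv2 F86429)))).symm
theorem F298782 : act 4 n17157 = n15986 := (sb E48745 (iv4 D33152))
theorem E52742 : n71705 = n35356 := (((D35356).symm.trans (sb E48745 D71705))).symm
theorem E52743 : n80747 = n61549 := (((F96089).symm.trans (sb E48746 D80747))).symm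
theorem E52744 : n80748 = n70557 := ((((iv0 F107020)).symm.trans (sb E48746 D80748))).symm
theorem E52749 : n69569 = n55335 := (((iv3 F105843)).symm.trans (sb E48748 (iv3 F87571)))
theorem F298783 : act 4 n32307 = n17692 := (sb E48748 (iv4 D36709))
theorem E52755 : n79173 = n35663 := ((((iv5 F56332)).symm.trans (sb E48751 D79173))).symm
theorem F298784 : act 3 n17054 = n16850 := (sb E48753 F54986)
theorem E52764 : n79611 = n26955 := (((F43487).symm.trans (sb E48758 (iv0 F122300)))).symm
theorem E52765 : n120974 = n35736 := (((D35736).symm.trans (sb E48758 (iv3 F192937)))).symm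
theorem E52766 : n120975 = n35737 := (((D35737).symm.trans (sb E48758 D120975))).symm
theorem F298785 : act 6 n17320 = n26924 := (sb E48758 (iv6 D55795))
theorem F298786 : act 7 n158218 = n77127 := (sb E48760 F250041)
theorem E52768 : n121047 = n82899 := (((F249252).symm.trans (sb E48761 F250044))).symm
theorem F298787 : act 7 n158221 = n77128 := (sb E48761 F250043)
theorem E52769 : n121061 = n88652 := (((F199062).symm.trans (sb E48763 F250051))).symm
theorem F298788 : act 4 n158792 = n77371 := (sb E48764 F253768)
theorem F298789 : act 6 n158792 = n167783 := (sb E48764 (iv6 F264151))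
theorem F298790 : act 2 n158801 = n77128 := (sb E48765 F253770)
theorem F298791 : act 2 n80511 = n75727 := (sb E48766 (iv2 F151665))
theorem F298792 : act 4 n80511 = n75361 := (sb E48766 F151664)
theorem E52770 : n121659 = n83155 := (((iv5 F194143)).symm.trans (sb E48766 F151663))
theorem F298793 : act 6 n80511 = n75763 := (sb E48766 (iv6 F151667))
theorem F298794 : act 6 n78417 = n120973 := (sb E48770 F270300)
theorem E52772 : n82010 = n57305 := ((D82010).symm.trans (sb E48775 F196904))
theorem E52773 : n82011 = n81805 := ((D82011).symm.trans (sb E48775 F196909))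
theorem E52774 : n160314 = n82012 := (((D82012).symm.trans (sb E48776 (iv3 F253215)))).symm
theorem E52775 : n82013 = n57306 := ((D82013).symm.trans (sb E48776 F115371))
theorem F298795 : act 6 n37571 = n35117 := (sb E48776 (iv6 D76835))
theorem E52776 : n82015 = n27573 := ((D82015).symm.trans (sb E48777 (iv1 F90923)))
theorem E52778 : n123138 = n76070 := (((F117622).symm.trans (sb E48777 (iv7 F197331)))).symm
theorem E52779 : n57034 = n55576 := (((D55576).symm.trans (sb E48780 F121210))).symm
theorem F298796 : act 6 n17053 = n16839 := (sb E48781 (iv6 D34761))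
theorem E52780 : n176483 = n167586 := (((D167586).symm.trans (sb E48782 (iv1 F275794)))).symm
theorem E52781 : n167587 = n82744 := ((D167587).symm.trans (sb E48782 (iv0 F249229)))
theorem F298797 : act 7 n80428 = n75764 := (sb E48782 F249228)
theorem F298798 : act 1 n80429 = n45848 := (sb E48783 (iv0 D98153))
theorem E52782 : n167591 = n83057 := ((D167591).symm.trans (sb E48783 F151385))
theorem F298799 : act 7 n80429 = n75765 := (sb E48783 (iv7 F151388))
theorem F298800 : act 0 n80430 = n45948 := (sb E48784 (iv1 D98264))
theorem F298801 : act 4 n80430 = n56794 := (sb E48784 F151644)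
theorem F298802 : act 5 n80430 = n83408 := (sb E48784 F151647)
theorem F298803 : act 0 n80432 = n45848 := (sb E48787 (iv1 D98154))
theorem F298804 : act 2 n80432 = n75765 := (sb E48787 (iv2 F151397))
theorem E52783 : n167598 = n83058 := ((D167598).symm.trans (sb E48787 F151396))
theorem E52784 : n153206 = n54822 := ((((iv0 F186525)).symm.trans (sb E48788 (iv0 F240566)))).symm
theorem F298805 : act 3 n118600 = n77045 := (sb E48788 F194475)
theorem F298806 : act 5 n118600 = n95743 := (sb E48788 F194472)
theorem F298807 : act 6 n101594 = n150515 := (sb E48789 F271139)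
theorem F298808 : act 6 n98258 = n77045 := (sb E48791 (iv6 D160646))
theorem F298809 : act 3 n123708 = n77646 := (sb E48792 F255667)
theorem F298810 : act 6 n123708 = n77642 := (sb E48792 F255668)
theorem F298811 : act 6 n35450 = n77046 := (sb E48793 (iv6 D160647))
theorem F298812 : act 5 n127868 = n174135 := (sb E48795 (iv5 F272934))
theorem F298813 : act 5 n160648 = n174137 := (sb E48798 (iv5 F272937))
theorem F298814 : act 1 n158943 = n77048 := (sb E48799 (iv0 D160649))
theorem F298815 : act 5 n83244 = n77048 := (sb E48801 (iv5 D160651))
theorem F298817 : act 7 n158799 = n77048 := (sb E48802 (iv7 D160652))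
theorem F298818 : act 2 n83246 = n77122 := (sb E48805 F253761)
theorem F298819 : act 5 n83246 = n77049 := (sb E48805 (iv5 D160655))
theorem F298820 : act 5 n160656 = n174143 := (sb E48806 (iv5 F272940))
theorem F298821 : act 2 n83245 = n77132 := (sb E48809 F253780)
theorem E52787 : n150220 = n72621 := (((D72621).symm.trans (sb E48814 (iv1 F271066)))).symm
theorem E52800 : n168553 = n32390 := (((D32390).symm.trans (sb E48824 D168553))).symm
theorem E52806 : n176349 = n148852 := (((D148852).symm.trans (sb E48831 D176349))).symm
theorem E52810 : n176352 = n167584 := (((D167584).symm.trans (sb E48835 (iv4 F275648)))).symm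
theorem F298822 : act 1 n18442 = n36656 := (sb E48837 (iv0 D80434))
theorem F298823 : act 0 n18423 = n36656 := (sb E48838 (iv1 D80435))
theorem E52817 : n167607 = n83039 := ((D167607).symm.trans (sb E48839 F129069))
theorem F298824 : act 2 n80436 = n83920 := (sb E48839 F129066)
theorem E52818 : n176351 = n167608 := (((D167608).symm.trans (sb E48839 D176351))).symm
theorem E52819 : n167609 = n158592 := ((D167609).symm.trans (sb E48839 (iv5 F249774)))
theorem E52820 : n167610 = n83921 := ((D167610).symm.trans (sb E48839 F129067))
theorem F298825 : act 0 n80437 = n38232 := (sb E48840 (iv1 D83072))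
theorem F298826 : act 1 n80437 = n38240 := (sb E48840 F128039)
theorem F298827 : act 2 n80437 = n38743 := (sb E48840 (iv2 F128042))
theorem E52821 : n173703 = n167611 := (((D167611).symm.trans (sb E48840 D173703))).symm
theorem F298828 : act 6 n158317 = n77108 := (sb E48841 (iv6 D160711))
theorem F298829 : act 1 n95834 = n54767 := (sb E48842 (iv0 D119013))
theorem E52822 : n159929 = n114560 := (((iv4 F252198)).symm.trans (sb E48842 F191003))
theorem F298830 : act 6 n95834 = n178472 := (sb E48842 F278095)
theorem F298831 : act 7 n95834 = n54823 := (sb E48842 F187167)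
theorem F298833 : act 7 n81527 = n82743 := (sb E48844 F271034)
theorem F298834 : act 2 n160710 = n82739 := (sb E48845 F271035)
theorem F298835 : act 3 n160710 = n178472 := (sb E48845 (iv3 F278092))
theorem F298836 : act 5 n160710 = n173218 := (sb E48845 F271522)
theorem E52823 : n153209 = n47004 := ((D153209).symm.trans (sb E48846 (iv6 D100811)))
theorem F298837 : act 0 n41711 = n26776 := (sb E48848 (iv1 D55434))
theorem F298838 : act 2 n41711 = n57078 := (sb E48848 F128199)
theorem E52824 : n120410 = n19631 := ((((iv3 D41711)).symm.trans (sb E48848 D120410))).symm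
theorem F298839 : act 4 n41711 = n72622 := (sb E48848 F109150)
theorem E52825 : n89289 = n57615 := ((D89289).symm.trans (sb E48848 F90765))
theorem E52826 : n120411 = n89290 := (((D89290).symm.trans (sb E48848 D120411))).symm
theorem F298840 : act 7 n41711 = n57079 := (sb E48848 F128193)
theorem F298842 : act 3 n153589 = n82739 := (sb E48850 F271071)
theorem E52827 : n47005 = n38296 := ((((iv0 F272778)).symm.trans (sb E48854 (iv0 D100812)))).symm
theorem E52828 : n82516 = n80125 := ((F270618).symm.trans (sb E48854 (iv2 F154916)))
theorem F298843 : act 3 n41712 = n82499 := (sb E48854 F154914)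
theorem E52829 : n89295 = n47214 := ((D89295).symm.trans (sb E48854 F154913))
theorem E52830 : n157555 = n82517 := ((((iv7 F270622)).symm.trans (sb E48854 (iv7 F248308)))).symm
theorem F298844 : act 3 n172241 = n89296 := (sb E48856 F287094)
theorem F298845 : act 4 n172241 = n82739 := (sb E48856 F271078)
theorem F298847 : act 1 n78900 = n82738 := (sb E48858 (iv0 D172813))
theorem F298851 : act 2 n160709 = n82744 := (sb E48861 F271043)
theorem F298852 : act 5 n160709 = n173696 := (sb E48861 (iv5 F272229))
theorem F298853 : act 7 n160709 = n167586 := (sb E48861 (tr (iv7 F275791) E52780))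
theorem E52831 : n87855 = n54824 := (((D54824).symm.trans (sb E48862 F194464))).symm
theorem E52833 : n150221 = n97185 := ((D150221).symm.trans (sb E48863 F241407))
theorem F298854 : act 1 n60043 = n60118 := (sb E48864 (iv0 D127961))
theorem E52834 : n127846 = n80121 := ((D127846).symm.trans (sb E48864 F205927))
theorem E52835 : n127847 = n86455 := ((D127847).symm.trans (sb E48864 F205925))
theorem F298855 : act 3 n45419 = n82743 := (sb E48865 (iv3 F191014))
theorem F298856 : act 5 n45419 = n54823 := (sb E48865 (iv5 D119138))
theorem E52837 : n178838 = n80123 := (((D80123).symm.trans (sb E48866 (iv6 F278711)))).symm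
theorem F298857 : act 4 n166899 = n82744 := (sb E48868 F271082)
theorem F298858 : act 5 n166899 = n178836 := (sb E48868 (iv5 F278714))
theorem F298859 : act 4 n45139 = n82743 := (sb E48869 (iv4 D172823))
theorem F298860 : act 2 n152372 = n82747 := (sb E48870 F271046)
theorem F298861 : act 2 n152377 = n82733 := (sb E48871 F243895)
theorem F298862 : act 5 n152377 = n73607 := (sb E48871 (iv5 D155081))
theorem F298863 : act 3 n90248 = n82745 := (sb E48872 (iv3 D172829))
theorem F298864 : act 4 n52946 = n82745 := (sb E48873 (iv4 D172830))
theorem F298865 : act 5 n78063 = n82745 := (sb E48874 (iv5 D172831))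
theorem E52838 : n173709 = n162557 := (((D162557).symm.trans (sb E48874 F272257))).symm
theorem F298866 : act 6 n90259 = n82745 := (sb E48875 (iv6 D172832))
theorem E52839 : n95744 = n84947 := ((D95744).symm.trans (sb E48876 (iv5 F187460)))
theorem E52840 : n162558 = n83362 := ((D162558).symm.trans (sb E48878 (iv6 F271085)))
theorem F298867 : act 0 n103127 = n82747 := (sb E48880 (iv1 D172839))
theorem F298869 : act 1 n172841 = n99591 := (sb E48881 F282005)
theorem F298870 : act 2 n172841 = n96300 := (sb E48881 F282000)
theorem F298872 : act 4 n172841 = n86476 := (sb E48881 (iv4 D181070))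
theorem F298874 : act 2 n158747 = n86330 := (sb E48892 F256813)
theorem F298875 : act 5 n158747 = n78070 := (sb E48892 (iv5 D162572))
theorem F298876 : act 2 n78073 = n83410 := (sb E48901 F271182)
theorem E52843 : n167743 = n82584 := (((D82584).symm.trans (sb E48903 D167743))).symm
theorem E52846 : n121950 = n38795 := (((F118632).symm.trans (sb E48904 F194720))).symm
theorem F298877 : act 2 n37911 = n36729 := (sb E48904 F123724)
theorem E52847 : n167746 = n82587 := (((D82587).symm.trans (sb E48904 D167746))).symm
theorem E52848 : n167747 = n82588 := (((D82588).symm.trans (sb E48904 D167747))).symm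
theorem F298878 : act 2 n37912 = n36730 := (sb E48905 F123725)
theorem F298879 : act 4 n37912 = n36725 := (sb E48905 F123726)
theorem E52851 : n82574 = n60148 := ((((iv2 F188334)).symm.trans (sb E48906 D82574))).symm
theorem F298880 : act 3 n32896 = n18164 := (sb E48906 (iv3 D37904))
theorem E52853 : n82576 = n71038 := (((D71038).symm.trans (sb E48906 D82576))).symm
theorem E52854 : n82577 = n71039 := (((D71039).symm.trans (sb E48906 D82577))).symm
theorem E52855 : n121952 = n82579 := (((D82579).symm.trans (sb E48907 D121952))).symm
theorem F298881 : act 7 n37906 = n36729 := (sb E48907 F89251)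
theorem F298882 : act 1 n37907 = n75704 := (sb E48908 (iv0 F118738))
theorem F298883 : act 4 n37907 = n27152 := (sb E48908 F89252)
theorem E52857 : n162725 = n82592 := (((D82592).symm.trans (sb E48910 (iv3 F256959)))).symm
theorem E52859 : n162739 = n82595 := (((D82595).symm.trans (sb E48910 (iv6 F256964)))).symm
theorem E52860 : n172185 = n37915 := ((((iv5 D82603)).symm.trans (sb E48911 (iv5 F270354)))).symm
theorem F298884 : act 1 n27270 = n27327 := (sb E48917 F121336)
theorem F298885 : act 2 n27270 = n17958 := (sb E48917 F121202)
theorem E52864 : n57027 = n56772 := (((D56772).symm.trans (sb E48917 D57027))).symm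
theorem E52865 : n57028 = n56773 := (((D56773).symm.trans (sb E48917 D57028))).symm
theorem F298886 : act 7 n27270 = n55421 := (sb E48917 (iv7 F91080))
theorem E52866 : n27623 = n8808 := ((((iv1 D18796)).symm.trans (sb E48918 F44522))).symm
theorem F298887 : act 3 n18796 = n18171 := (sb E48918 (iv3 F121144))
theorem E52867 : n57030 = n39744 := (((D39744).symm.trans (sb E48918 D57030))).symm
theorem F298888 : act 3 n27272 = n18172 := (sb E48919 (iv3 F121170))
theorem E52868 : n173820 = n82616 := (((D82616).symm.trans (sb E48920 (iv3 F272407)))).symm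
theorem F298889 : act 6 n37936 = n38261 := (sb E48920 (iv6 D83118))
theorem F298890 : act 5 n12894 = n17753 := (sb E48926 F56986)
theorem F298891 : act 3 n12897 = n17591 := (sb E48927 F121774)
theorem F298893 : act 0 n17344 = n26923 := (sb E48933 (iv1 D55792))
theorem E52880 : n35569 = n35568 := ((((iv3 F91279)).symm.trans (sb E48933 F91294))).symm
theorem F298894 : act 1 n17345 = n26923 := (sb E48934 (iv0 D55791))
theorem F298895 : act 3 n17345 = n26967 := (sb E48934 (iv3 F88248))
theorem E52883 : n120968 = n35629 := ((((iv5 F56304)).symm.trans (sb E48934 D120968))).symm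
theorem F298896 : act 0 n76887 = n84771 := (sb E48935 F195600)
theorem F298897 : act 2 n76887 = n81909 := (sb E48935 F195597)
theorem F298899 : act 6 n76887 = n56642 := (sb E48935 (iv6 D122321))
theorem E52884 : n160289 = n124436 := ((F253196).symm.trans (sb E48935 (iv7 F199032)))
theorem F298900 : act 0 n77862 = n80208 := (sb E48936 (iv1 F263113))
theorem F298901 : act 3 n77862 = n98157 := (sb E48936 F263110)
theorem F298902 : act 5 n77862 = n80197 := (sb E48936 F263111)
theorem F298903 : act 6 n77862 = n122613 := (sb E48936 F263112)
theorem F298904 : act 7 n77862 = n80196 := (sb E48936 (iv7 D167063))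
theorem F298905 : act 0 n77777 = n80196 := (sb E48937 F260967)
theorem F298907 : act 1 n96710 = n79951 := (sb E48938 (iv0 D166581))
theorem F298908 : act 3 n96710 = n162112 := (sb E48938 (iv3 F262147))
theorem F298909 : act 4 n166579 = n160386 := (sb E48939 F267759)
theorem E52885 : n177386 = n177356 := ((((iv0 F276743)).symm.trans (sb E48940 (iv0 F276764)))).symm
theorem F298910 : act 0 n78274 = n45183 := (sb E48941 (iv1 D96707))
theorem F298911 : act 1 n78274 = n81650 := (sb E48941 F149078)
theorem F298912 : act 2 n78274 = n81647 := (sb E48941 (iv2 F149081))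
theorem F298913 : act 0 n86028 = n86544 := (sb E48943 (iv1 F281838))
theorem F298914 : act 1 n86028 = n86447 := (sb E48943 (iv0 D181005))
theorem F298915 : act 2 n86028 = n86540 := (sb E48943 (iv2 F281839))
theorem F298916 : act 0 n84486 = n86447 := (sb E48944 (iv1 D181006))
theorem F298917 : act 1 n84486 = n86544 := (sb E48944 F281841)
theorem F298918 : act 7 n84486 = n86540 := (sb E48944 F281842)
theorem E52886 : n166316 = n159072 := ((D166316).symm.trans (sb E48945 F284083))
theorem E52932 : n171919 = n18204 := ((((iv3 F29374)).symm.trans (sb E49013 D171919))).symm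
theorem E52942 : n172146 = n37891 := (((D37891).symm.trans (sb E49078 (iv6 F270319)))).symm
theorem E52943 : n172144 = n37892 := (((D37892).symm.trans (sb E49080 (iv1 F270313)))).symm
theorem E52944 : n172143 = n37893 := (((D37893).symm.trans (sb E49080 (iv0 F270312)))).symm
theorem F298919 : act 7 n18160 = n37825 := (sb E49080 (iv7 D82448))
theorem F298920 : act 7 n18166 = n37829 := (sb E49083 (iv7 D82458))
theorem E52952 : n170761 = n27430 := (((D27430).symm.trans (sb E49098 (iv0 F280072)))).symm
theorem E52954 : n85892 = n27437 := (((D27437).symm.trans (sb E49099 D85892))).symm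
theorem F298921 : act 6 n18236 = n27671 := (sb E49100 (iv6 D58018))
theorem E52957 : n60330 = n26576 := (((D26576).symm.trans (sb E49104 F206446))).symm
theorem E52958 : n60328 = n26579 := (((D26579).symm.trans (sb E49104 (iv6 D128324)))).symm
theorem E52959 : n165381 = n26589 := (((D26589).symm.trans (sb E49105 D165381))).symm
theorem F298922 : act 2 n18404 = n36349 := (sb E49106 F120855)
theorem E52963 : n121648 = n38692 := (((D38692).symm.trans (sb E49106 D121648))).symm
theorem F298923 : act 4 n18404 = n27077 := (sb E49106 (iv4 D56182))
theorem E52964 : n121649 = n38694 := (((D38694).symm.trans (sb E49106 D121649))).symm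
theorem F298924 : act 6 n18404 = n35636 := (sb E49106 F121276)
theorem F298925 : act 7 n18404 = n35175 := (sb E49106 F120784)
theorem F298926 : act 0 n18403 = n35175 := (sb E49108 (iv1 D76998))
theorem F298927 : act 1 n18403 = n36349 := (sb E49108 (iv0 F120853))
theorem F298928 : act 3 n18459 = n38451 := (sb E49109 (iv3 D83437))
theorem F298929 : act 1 n16842 = n17049 := (sb E49111 (iv0 D35111))
theorem F298930 : act 2 n16842 = n17053 := (sb E49111 (iv2 F115418))
theorem E52968 : n76818 = n34772 := (((D34772).symm.trans (sb E49111 D76818))).symm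
theorem F298931 : act 7 n16842 = n17054 := (sb E49111 F115414)
theorem E52969 : n173990 = n82711 := ((((iv3 F127481)).symm.trans (sb E49113 (iv3 F272625)))).symm
theorem E52970 : n122632 = n45998 := (((iv4 F196489)).symm.trans (sb E49113 F151724))
theorem E52971 : n157984 = n45997 := ((D157984).symm.trans (sb E49113 (iv6 D98302)))
theorem F298932 : act 0 n75257 = n38267 := (sb E49116 (iv1 F128133))
theorem F298933 : act 1 n75257 = n38262 := (sb E49116 (iv0 D83119))
theorem E52972 : n157996 = n78215 := ((D157996).symm.trans (sb E49116 (iv4 F193026)))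
theorem F298934 : act 3 n56793 = n34635 := (sb E49117 F113567)
theorem F298935 : act 7 n56793 = n34619 := (sb E49117 (iv7 D75712))
theorem E52973 : n60034 = n34573 := (((D34573).symm.trans (sb E49118 F205669))).symm
theorem E52981 : n153856 = n4911 := (((F16641).symm.trans (sb E49126 (iv1 F241746)))).symm
theorem E52982 : n33694 = n9055 := (((F16642).symm.trans (sb E49126 (iv0 D73177)))).symm
theorem E52984 : n85792 = n21902 := (((D21902).symm.trans (sb E49126 F215726))).symm
theorem E52985 : n85793 = n37460 := (((D37460).symm.trans (sb E49127 D85793))).symm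
theorem E52986 : n57316 = n8806 := (((D8806).symm.trans (sb E49128 D57316))).symm
theorem F298936 : act 3 n13277 = n8741 := (sb E49129 F29837)
theorem F298937 : act 6 n13277 = n8738 := (sb E49129 (iv6 D18612))
theorem E52991 : n120373 = n26333 := (((D26333).symm.trans (sb E49130 (iv6 F191746)))).symm
theorem E52994 : n120384 = n27261 := (((D27261).symm.trans (sb E49132 (iv5 F191770)))).symm
theorem E52995 : n123286 = n27661 := (((D27661).symm.trans (sb E49133 (iv1 F256060)))).symm
theorem E52996 : n77833 = n27662 := (((D27662).symm.trans (sb E49133 (iv0 D162031)))).symm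
theorem E52998 : n122573 = n27664 := (((D27664).symm.trans (sb E49133 F256059))).symm
theorem F298938 : act 0 n13209 = n27629 := (sb E49134 F121105)
theorem F298939 : act 3 n13209 = n17969 := (sb E49134 F58322)
theorem E52999 : n39254 = n27668 := (((D27668).symm.trans (sb E49134 (iv5 F60210)))).symm
theorem F298940 : act 7 n13209 = n27478 := (sb E49134 F121107)
theorem F298941 : act 1 n13210 = n27629 := (sb E49135 F91099)
theorem F298942 : act 2 n13210 = n27478 := (sb E49135 F91100)
theorem F298943 : act 0 n13212 = n27478 := (sb E49136 F91112)
theorem F298944 : act 2 n13212 = n27629 := (sb E49136 F124398)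
theorem E53000 : n123137 = n38640 := (((F117195).symm.trans (sb E49137 (iv3 F197328)))).symm
theorem E53001 : n122338 = n55470 := ((D122338).symm.trans (sb E49137 F90383))
theorem F298945 : act 6 n56653 = n27435 := (sb E49137 (iv6 D57300))
theorem F298946 : act 4 n56652 = n84104 := (sb E49138 F198513)
theorem E53002 : n123473 = n39684 := (((F117199).symm.trans (sb E49138 F198514))).symm
theorem E53003 : n122339 = n120311 := ((D122339).symm.trans (sb E49139 F198517))
theorem E53004 : n120478 = n39685 := (((F117200).symm.trans (sb E49139 F198516))).symm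
theorem F298947 : act 6 n18781 = n27508 := (sb E49140 (iv6 D57539))
theorem E53005 : n57835 = n27839 := (((D27839).symm.trans (sb E49141 (iv1 F91123)))).symm
theorem E53006 : n57864 = n27841 := (((D27841).symm.trans (sb E49141 D57864))).symm
theorem E53007 : n57865 = n27842 := (((D27842).symm.trans (sb E49141 D57865))).symm
theorem E53008 : n57836 = n39693 := (((D39693).symm.trans (sb E49142 D57836))).symm
theorem E53009 : n57837 = n39694 := (((D39694).symm.trans (sb E49142 D57837))).symm
theorem E53015 : n33161 = n8647 := ((((iv5 F13555)).symm.trans (sb E49145 (iv5 F96377)))).symm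
theorem E53025 : n62890 = n36512 := (((D36512).symm.trans (sb E49150 (iv3 F98102)))).symm
theorem E53026 : n36513 = n28985 := ((D36513).symm.trans (sb E49150 F47858))
theorem E53028 : n118598 = n36517 := (((D36517).symm.trans (sb E49152 D118598))).symm
theorem F298948 : act 1 n8300 = n17619 := (sb E49154 F28658)
theorem F298949 : act 3 n8300 = n3744 := (sb E49154 F13122)
theorem F298950 : act 7 n8300 = n3737 := (sb E49154 (iv7 D8317))
theorem E53029 : n17213 = n17166 := (((D17166).symm.trans (sb E49155 (iv0 D35527)))).symm
theorem E53030 : n40286 = n17168 := (((D17168).symm.trans (sb E49155 F125968))).symm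
theorem F298951 : act 3 n19021 = n8909 := (sb E49157 F30367)
theorem F298952 : act 5 n19021 = n18898 := (sb E49157 (iv5 F30368))
theorem F298953 : act 6 n19021 = n8906 := (sb E49157 (iv6 D19024))
theorem F298954 : act 6 n19019 = n12962 := (sb E49158 (iv6 D27059))
theorem F298955 : act 6 n35384 = n17210 := (sb E49160 (iv6 D35521))
theorem E53039 : n120639 = n120321 := (((iv1 F192273)).symm.trans (sb E49165 F198529))
theorem E53040 : n124343 = n120327 := ((D124343).symm.trans (sb E49165 F198530))
theorem F298956 : act 6 n18788 = n27498 := (sb E49166 (iv6 D57499))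
theorem F298957 : act 6 n37454 = n55352 := (sb E49167 (iv6 D120281))
theorem F298958 : act 0 n27569 = n18781 := (sb E49168 F117235)
theorem F298959 : act 1 n27569 = n17988 := (sb E49168 (iv0 D37458))
theorem F298960 : act 2 n27569 = n56653 := (sb E49168 (iv2 F117194))
theorem E53042 : n81837 = n57735 := ((((iv3 F90909)).symm.trans (sb E49168 D81837))).symm
theorem F298961 : act 4 n27569 = n40053 := (sb E49168 F117236)
theorem E53043 : n81838 = n57746 := (((D57746).symm.trans (sb E49168 D81838))).symm
theorem F298962 : act 7 n27569 = n40195 := (sb E49168 F117237)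
theorem E53044 : n179654 = n81840 := (((D81840).symm.trans (sb E49169 D179654))).symm
theorem E53045 : n120316 = n81841 := (((D81841).symm.trans (sb E49169 (iv5 F191588)))).symm
theorem E53046 : n81842 = n57761 := ((D81842).symm.trans (sb E49169 F131578))
theorem F298963 : act 3 n80353 = n36731 := (sb E49170 F123535)
theorem E53048 : n154652 = n39104 := (((F60119).symm.trans (sb E49171 (iv2 F242805)))).symm
theorem E53049 : n33736 = n19181 := (((F44594).symm.trans (sb E49171 F109819))).symm
theorem E53050 : n154630 = n46276 := (((D46276).symm.trans (sb E49171 (iv4 F242744)))).symm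
theorem E53051 : n46277 = n33734 := ((D46277).symm.trans (sb E49171 (iv6 D73334)))
theorem E53053 : n123425 = n87557 := ((D123425).symm.trans (sb E49172 (iv1 F233188)))
theorem E53054 : n124337 = n123208 := ((((iv0 F268332)).symm.trans (sb E49172 D124337))).symm
theorem E53055 : n123427 = n41583 := ((D123427).symm.trans (sb E49172 F91717))
theorem E53056 : n124338 = n123428 := (((D123428).symm.trans (sb E49172 D124338))).symm
theorem F298964 : act 6 n57491 = n27657 := (sb E49172 (iv6 D57967))
theorem E53057 : n124339 = n123028 := ((((iv7 F197142)).symm.trans (sb E49172 D124339))).symm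
theorem F298965 : act 0 n56630 = n27498 := (sb E49173 (iv1 F90306))
theorem F298966 : act 1 n56630 = n27497 := (sb E49173 F90307)
theorem F298967 : act 2 n56630 = n27500 := (sb E49173 F90302)
theorem E53058 : n123021 = n122307 := (((D122307).symm.trans (sb E49173 (iv3 F197125)))).symm
theorem E53059 : n123033 = n122308 := (((D122308).symm.trans (sb E49173 (iv5 F197151)))).symm
theorem F298968 : act 7 n56630 = n27418 := (sb E49173 (iv7 D57242))
theorem E53060 : n28688 = n27495 := ((((iv3 F44408)).symm.trans (sb E49174 (iv3 F46236)))).symm
theorem E53061 : n39827 = n27499 := (((D27499).symm.trans (sb E49174 D39827))).symm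
theorem E53062 : n124340 = n123431 := (((D123431).symm.trans (sb E49175 D124340))).symm
theorem F298969 : act 2 n57493 = n39112 := (sb E49175 F91720)
theorem E53064 : n124341 = n123433 := (((D123433).symm.trans (sb E49175 D124341))).symm
theorem E53065 : n123434 = n46033 := ((D123434).symm.trans (sb E49175 F91721))
theorem E53066 : n124342 = n123029 := ((((iv7 F197145)).symm.trans (sb E49175 D124342))).symm
theorem F298970 : act 1 n121527 = n56622 := (sb E49177 (iv0 D122296))
theorem F298971 : act 2 n121527 = n77538 := (sb E49177 F195508)
theorem F298972 : act 7 n121527 = n77539 := (sb E49177 F195507)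
theorem F298973 : act 1 n78621 = n56124 := (sb E49178 (iv0 D121526))
theorem F298974 : act 0 n120280 = n77539 := (sb E49179 (iv1 F195515))
theorem F298975 : act 1 n120280 = n77538 := (sb E49179 F195516)
theorem F298976 : act 3 n120280 = n122613 := (sb E49179 (iv3 F196423))
theorem E53067 : n178210 = n125311 := ((F277764).symm.trans (sb E49179 (iv4 F201551)))
theorem F298977 : act 6 n120280 = n98157 := (sb E49179 F195514)
theorem F298978 : act 7 n120280 = n56622 := (sb E49179 (iv7 D122297))
theorem F298979 : act 3 n17147 = n17679 := (sb E49180 F91225)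
theorem E53068 : n55828 = n35328 := (((D35328).symm.trans (sb E49180 F91226))).symm
theorem F298980 : act 6 n17147 = n17628 := (sb E49180 (iv6 D36531))
theorem F298981 : act 0 n17149 = n8072 := (sb E49181 (iv1 D17215))
theorem E53072 : n120527 = n99986 := (((D99986).symm.trans (sb E49184 F276982))).symm
theorem E53073 : n99987 = n57221 := ((D99987).symm.trans (sb E49185 (iv1 D123004)))
theorem E53074 : n99988 = n57387 := ((D99988).symm.trans (sb E49185 F197070))
theorem E53076 : n99990 = n57384 := ((D99990).symm.trans (sb E49185 (iv7 F197082)))
theorem F298982 : act 2 n37542 = n55468 := (sb E49187 F191586)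
theorem E53077 : n84551 = n81976 := (((D81976).symm.trans (sb E49187 (iv5 F191587)))).symm
theorem F298983 : act 6 n37542 = n55367 := (sb E49187 (iv6 D120315))
theorem F298984 : act 2 n77336 = n77835 := (sb E49188 (iv2 F255263))
theorem E53078 : n161120 = n84559 := ((D161120).symm.trans (sb E49188 F255262))
theorem F298985 : act 7 n77336 = n77834 := (sb E49188 F255265)
theorem E53079 : n84552 = n81979 := (((D81979).symm.trans (sb E49189 F191935))).symm
theorem F298986 : act 7 n37543 = n55468 := (sb E49189 (iv7 D120494))
theorem F298987 : act 2 n77338 = n77834 := (sb E49190 F193031)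
theorem F298988 : act 3 n77338 = n55849 := (sb E49190 (iv3 D121048))
theorem E53080 : n161121 = n84560 := ((D161121).symm.trans (sb E49190 F193033))
theorem F298989 : act 6 n77338 = n77944 := (sb E49190 F256098)
theorem F298990 : act 7 n77338 = n77835 := (sb E49190 F193032)
theorem E53081 : n80392 = n80359 := ((((iv1 F194676)).symm.trans (sb E49191 (iv1 F194735)))).symm
theorem F298991 : act 3 n77339 = n56402 := (sb E49191 (iv3 D121957))
theorem F298992 : act 5 n77339 = n78131 := (sb E49191 F194733)
theorem E53082 : n33368 = n19173 := (((F34598).symm.trans (sb E49192 F108752))).symm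
theorem E53083 : n101060 = n35051 := ((((iv4 F55667)).symm.trans (sb E49192 (iv4 F155730)))).symm
theorem F298993 : act 0 n55494 = n34763 := (sb E49193 (iv1 F87866))
theorem F298994 : act 1 n55494 = n27257 := (sb E49193 F91398)
theorem F298995 : act 2 n55494 = n26824 := (sb E49193 F87864)
theorem E53085 : n120622 = n120531 := (((D120531).symm.trans (sb E49193 D120622))).symm
theorem E53086 : n120623 = n120532 := (((D120532).symm.trans (sb E49193 D120623))).symm
theorem E53087 : n120624 = n120533 := (((D120533).symm.trans (sb E49193 D120624))).symm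
theorem F298996 : act 7 n55494 = n34759 := (sb E49193 F87865)
theorem E53089 : n120550 = n34765 := (((D34765).symm.trans (sb E49194 D120550))).symm
theorem E53090 : n122395 = n57321 := ((D122395).symm.trans (sb E49195 (iv1 F197386)))
theorem E53091 : n57315 = n39736 := ((((iv0 F91431)).symm.trans (sb E49195 (iv0 D123165)))).symm
theorem E53092 : n123942 = n122396 := (((D122396).symm.trans (sb E49195 (iv4 F198371)))).symm
theorem E53093 : n120627 = n57821 := (((iv7 F192249)).symm.trans (sb E49195 (iv7 F197388)))
theorem F298997 : act 0 n157851 = n80148 := (sb E49197 (iv1 F261739))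
theorem E53095 : n72148 = n19081 := (((D19081).symm.trans (sb E49198 (iv6 F191263)))).symm
theorem E53099 : n72500 = n22678 := (((D22678).symm.trans (sb E49200 D72500))).symm
theorem E53102 : n149945 = n41109 := (((D41109).symm.trans (sb E49202 (iv1 F235853)))).symm
theorem E53103 : n149946 = n41110 := (((D41110).symm.trans (sb E49202 (iv0 F235852)))).symm
theorem E53104 : n123569 = n41111 := (((D41111).symm.trans (sb E49202 (iv5 F197977)))).symm
theorem E53107 : n123059 = n81982 := (((D81982).symm.trans (sb E49205 F197229))).symm
theorem E53109 : n123056 = n81984 := (((D81984).symm.trans (sb E49205 F197219))).symm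
theorem F298998 : act 1 n37545 = n55468 := (sb E49206 (iv0 F129742))
theorem F298999 : act 5 n98072 = n123557 := (sb E49218 (iv5 F198273))
theorem F299000 : act 5 n89240 = n57704 := (sb E49219 F198275)
theorem F299001 : act 0 n27265 = n27327 := (sb E49221 F121337)
theorem F299002 : act 2 n27265 = n55421 := (sb E49221 (iv2 F121149))
theorem E53110 : n56752 = n54736 := ((D56752).symm.trans (sb E49221 (iv3 F86559)))
theorem E53111 : n56807 = n56753 := (((D56753).symm.trans (sb E49221 D56807))).symm
theorem E53112 : n56808 = n56754 := (((D56754).symm.trans (sb E49221 D56808))).symm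
theorem F299003 : act 7 n27265 = n17958 := (sb E49221 F44128)
theorem E53113 : n85912 = n84555 := (((iv1 F131810)).symm.trans (sb E49222 (iv1 F191848)))
theorem E53114 : n122623 = n85915 := ((((iv0 F131812)).symm.trans (sb E49222 F196446))).symm
theorem F299004 : act 2 n45858 = n81799 := (sb E49222 F191846)
theorem F299005 : act 0 n8315 = n3737 := (sb E49223 (iv1 D8316))
theorem E53115 : n17660 = n17655 := (((D17655).symm.trans (sb E49223 D17660))).symm
theorem E53116 : n17661 = n17656 := (((D17656).symm.trans (sb E49223 D17661))).symm
theorem F299006 : act 7 n8315 = n17619 := (sb E49223 F91333)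
theorem E53117 : n80384 = n80349 := (((D80349).symm.trans (sb E49224 D80384))).symm
theorem E53118 : n80385 = n80350 := (((D80350).symm.trans (sb E49224 D80385))).symm
theorem E53120 : n80354 = n57378 := ((D80354).symm.trans (sb E49225 (iv4 F121516)))
theorem F299007 : act 6 n36611 = n35380 := (sb E49225 (iv6 F57492))
theorem E53121 : n120378 = n98169 := (((D98169).symm.trans (sb E49227 D120378))).symm
theorem E53123 : n120380 = n98170 := (((D98170).symm.trans (sb E49227 D120380))).symm
theorem F299008 : act 3 n45868 = n80347 := (sb E49228 (iv3 F123425))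
theorem E53124 : n57979 = n57860 := ((F119029).symm.trans (sb E49228 F121444))
theorem F299009 : act 2 n45869 = n80148 := (sb E49229 (iv2 F123025))
theorem F299010 : act 3 n45869 = n80348 := (sb E49229 (iv3 F123433))
theorem E53126 : n170807 = n123042 := (((D123042).symm.trans (sb E49230 D170807))).symm
theorem E53127 : n123043 = n122310 := ((D123043).symm.trans (sb E49230 (iv7 F195556)))
theorem F299011 : act 4 n57926 = n78508 := (sb E49231 (iv4 D163373))
theorem F299012 : act 1 n17167 = n17638 := (sb E49232 (iv0 F126022))
theorem F299013 : act 3 n17167 = n17590 := (sb E49232 (iv3 D36433))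
theorem F299014 : act 3 n35340 = n35777 := (sb E49233 F126002)
theorem E53130 : n86858 = n77399 := (((D77399).symm.trans (sb E49233 (iv7 F133221)))).symm
theorem F299015 : act 4 n55358 = n78813 := (sb E49237 F258516)
theorem E53138 : n86055 = n57554 := ((((iv6 F90703)).symm.trans (sb E49237 F258517))).symm
theorem E53139 : n86056 = n57555 := (((D57555).symm.trans (sb E49239 D86056))).symm
theorem E53145 : n128448 = n27491 := (((D27491).symm.trans (sb E49255 D128448))).symm
theorem E53146 : n128449 = n27492 := (((D27492).symm.trans (sb E49255 D128449))).symm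
theorem E53156 : n159148 = n123211 := (((D123211).symm.trans (sb E49258 (iv5 F250581)))).symm
theorem E53157 : n123159 = n85895 := (((iv7 F197369)).symm.trans (sb E49258 F201054))
theorem E53158 : n32775 = n27381 := ((((iv3 F44275)).symm.trans (sb E49259 (iv3 F51894)))).symm
theorem E53159 : n37595 = n27383 := (((D27383).symm.trans (sb E49259 (iv6 F58464)))).symm
theorem E53166 : n58523 = n27617 := (((D27617).symm.trans (sb E49262 D58523))).symm
theorem E53168 : n159149 = n123212 := (((D123212).symm.trans (sb E49263 D159149))).symm
theorem E53169 : n123160 = n85897 := (((iv7 F197374)).symm.trans (sb E49263 F131796))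
theorem F299016 : act 4 n39733 = n57736 := (sb E49264 (iv4 F90910))
theorem F299017 : act 7 n39733 = n27456 := (sb E49264 F91412)
theorem E53170 : n179829 = n57302 := (((D57302).symm.trans (sb E49265 D179829))).symm
theorem E53171 : n85910 = n57304 := (((D57304).symm.trans (sb E49265 F132599))).symm
theorem F299018 : act 6 n80352 = n44586 := (sb E49266 F123542)
theorem F299019 : act 0 n27037 = n38386 := (sb E49268 (iv1 F118001))
theorem F299020 : act 1 n27037 = n38372 := (sb E49268 (iv0 F118391))
theorem E53173 : n56107 = n56051 := (((D56051).symm.trans (sb E49268 D56107))).symm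
theorem F299021 : act 0 n19037 = n12962 := (sb E49269 (iv1 F43675))
theorem F299022 : act 2 n19037 = n12964 := (sb E49269 F43671)
theorem F299023 : act 7 n19037 = n12949 := (sb E49269 (iv7 D27028))
theorem E53174 : n56110 = n35576 := (((D35576).symm.trans (sb E49270 D56110))).symm
theorem E53175 : n56111 = n35577 := (((D35577).symm.trans (sb E49270 D56111))).symm
theorem E53176 : n35578 = n35535 := ((D35578).symm.trans (sb E49270 (iv7 F91534)))
theorem F299024 : act 7 n27026 = n12956 := (sb E49271 (iv7 D27040))
theorem E53182 : n177750 = n123201 := (((D123201).symm.trans (sb E49273 D177750))).symm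
theorem E53183 : n177751 = n123202 := (((D123202).symm.trans (sb E49273 D177751))).symm
theorem E53184 : n177752 = n123200 := ((((iv2 F197487)).symm.trans (sb E49273 D177752))).symm
theorem E53185 : n177753 = n123203 := (((D123203).symm.trans (sb E49273 D177753))).symm
theorem E53186 : n123204 = n39125 := ((D123204).symm.trans (sb E49273 F129815))
theorem E53189 : n171305 = n122696 := (((D122696).symm.trans (sb E49274 D171305))).symm
theorem F299025 : act 1 n18575 = n27454 := (sb E49275 F126184)
theorem E53193 : n159225 = n123205 := (((D123205).symm.trans (sb E49276 (iv1 F250719)))).symm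
theorem E53194 : n177754 = n120526 := ((((iv0 F191993)).symm.trans (sb E49276 D177754))).symm
theorem E53195 : n177755 = n123206 := (((D123206).symm.trans (sb E49276 D177755))).symm
theorem E53196 : n123207 = n39127 := ((D123207).symm.trans (sb E49276 F129817))
theorem F299026 : act 7 n18573 = n27454 := (sb E49277 (iv7 D57350))
theorem E53197 : n84734 = n57780 := (((D57780).symm.trans (sb E49278 D84734))).symm
theorem F299027 : act 4 n27580 = n40093 := (sb E49278 (iv4 F118086))
theorem E53198 : n84735 = n57782 := (((D57782).symm.trans (sb E49278 D84735))).symm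
theorem F299028 : act 7 n27580 = n40089 := (sb E49278 F118133)
theorem E53199 : n84750 = n57916 := ((((iv4 F148258)).symm.trans (sb E49279 F193853))).symm
theorem F299029 : act 5 n77967 = n80356 := (sb E49279 F193854)
theorem F299030 : act 7 n77967 = n79736 := (sb E49279 F193856)
theorem E53200 : n124625 = n122581 := ((((iv1 F196314)).symm.trans (sb E49280 F199316))).symm
theorem E53201 : n177801 = n162294 := (((D162294).symm.trans (sb E49280 (iv5 F277300)))).symm
theorem F299031 : act 1 n77865 = n78131 := (sb E49281 F148244)
theorem F299032 : act 2 n77865 = n122613 := (sb E49281 (iv2 F196422))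
theorem F299033 : act 7 n77865 = n35572 := (sb E49281 (iv7 D77969))
theorem E53202 : n32773 = n27378 := (((D27378).symm.trans (sb E49282 D32773))).symm
theorem E53203 : n32774 = n27379 := (((D27379).symm.trans (sb E49282 D32774))).symm
theorem E53204 : n32750 = n27380 := (((D27380).symm.trans (sb E49282 (iv2 F51839)))).symm
theorem F299034 : act 4 n13116 = n7378 := (sb E49282 F25171)
theorem F299035 : act 6 n13116 = n7377 := (sb E49282 (iv6 D15689))
theorem E53205 : n87349 = n7556 := ((((iv3 D16200)).symm.trans (sb E49283 (iv3 F285913)))).symm
theorem E53208 : n100414 = n33530 := (((D33530).symm.trans (sb E49283 (iv6 F285915)))).symm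
theorem F299036 : act 0 n46861 = n27336 := (sb E49284 (iv1 F74076))
theorem E53209 : n100407 = n76751 := ((D100407).symm.trans (sb E49284 (iv5 F115125)))
theorem E53218 : n171232 = n122649 := (((D122649).symm.trans (sb E49287 D171232))).symm
theorem E53219 : n159163 = n122650 := (((D122650).symm.trans (sb E49287 (iv7 F250597)))).symm
theorem E53229 : n171245 = n122651 := (((D122651).symm.trans (sb E49291 D171245))).symm
theorem E53233 : n159135 = n76859 := (((D76859).symm.trans (sb E49292 (iv3 F250554)))).symm
theorem F299037 : act 6 n35123 = n34759 := (sb E49292 (iv6 D76075))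
theorem E53235 : n150161 = n76872 := (((D76872).symm.trans (sb E49293 F236338))).symm
theorem E53237 : n120637 = n76874 := (((D76874).symm.trans (sb E49293 (iv6 F192264)))).symm
theorem E53238 : n122656 = n57986 := ((D122656).symm.trans (sb E49294 F126474))
theorem E53239 : n171249 = n122657 := (((D122657).symm.trans (sb E49294 D171249))).symm
theorem E53240 : n122658 = n57983 := ((D122658).symm.trans (sb E49294 (iv7 F198818)))
theorem F299038 : act 5 n121026 = n80195 := (sb E49297 F256087)
theorem F299039 : act 6 n121026 = n77943 := (sb E49297 (iv6 F256092))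
theorem F299040 : act 1 n161504 = n80148 := (sb E49298 (iv0 D166970))
theorem F299041 : act 4 n161504 = n81804 := (sb E49298 F262859)
theorem F299042 : act 6 n161504 = n80195 := (sb E49298 F262860)
theorem F299043 : act 5 n17130 = n17627 := (sb E49299 (iv5 D36525))
theorem E53241 : n80154 = n35299 := (((D35299).symm.trans (sb E49299 F123066))).symm
theorem F299044 : act 3 n17160 = n17678 := (sb E49300 F91223)
theorem F299045 : act 5 n17160 = n17628 := (sb E49300 (iv5 D36530))
theorem F299046 : act 6 n17160 = n17636 := (sb E49300 F57375)
theorem F299047 : act 1 n21979 = n27333 := (sb E49302 (iv0 D56963))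
theorem E53242 : n95448 = n46004 := (((D46004).symm.trans (sb E49302 (iv5 F147085)))).symm
theorem F299048 : act 0 n46726 = n27333 := (sb E49303 (iv1 D56964))
theorem E53244 : n122634 = n100066 := ((((iv3 F154003)).symm.trans (sb E49303 D122634))).symm
theorem E53245 : n100080 = n46995 := (((iv5 F154012)).symm.trans (sb E49303 F123200))
theorem E53248 : n100076 = n83505 := (((D83505).symm.trans (sb E49304 D100076))).symm
theorem E53249 : n171267 = n95455 := ((((iv1 F147101)).symm.trans (sb E49305 D171267))).symm
theorem E53250 : n98547 = n95326 := ((((iv0 F146966)).symm.trans (sb E49305 (iv0 F286843)))).symm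
theorem E53252 : n171270 = n122636 := (((D122636).symm.trans (sb E49305 D171270))).symm
theorem E53253 : n122637 = n100107 := ((D122637).symm.trans (sb E49306 (iv1 F286844)))
theorem E53254 : n122638 = n99307 := ((D122638).symm.trans (sb E49306 (iv0 F286845)))
theorem E53255 : n122639 = n85867 := ((D122639).symm.trans (sb E49306 (iv5 F131725)))
theorem E53256 : n120514 = n100106 := (((iv7 F191979)).symm.trans (sb E49306 (iv7 F286904)))
theorem E53260 : n171277 = n122641 := (((D122641).symm.trans (sb E49308 D171277))).symm
theorem E53261 : n122642 = n85869 := ((D122642).symm.trans (sb E49308 (iv5 F131726)))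
theorem E53262 : n171278 = n122643 := (((D122643).symm.trans (sb E49308 D171278))).symm
theorem E53263 : n120638 = n120320 := (((D120320).symm.trans (sb E49309 D120638))).symm
theorem E53264 : n120640 = n120322 := (((D120322).symm.trans (sb E49309 D120640))).symm
theorem F299049 : act 6 n55377 = n37548 := (sb E49310 (iv6 F117329))
theorem E53267 : n58499 = n57826 := ((F92418).symm.trans (sb E49311 (iv0 F91589)))
theorem F299050 : act 5 n39716 = n27335 := (sb E49311 (iv5 D56970))
theorem E53269 : n120515 = n58508 := ((((iv7 F117532)).symm.trans (sb E49311 (iv7 F191982)))).symm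
theorem E53270 : n81843 = n55462 := (((D55462).symm.trans (sb E49313 F250611))).symm
theorem E53271 : n178107 = n55463 := (((D55463).symm.trans (sb E49313 F277653))).symm
theorem F299051 : act 0 n77419 = n80348 := (sb E49314 F194670)
theorem F299052 : act 3 n77419 = n56385 := (sb E49314 (iv3 D121942))
theorem F299053 : act 5 n77419 = n79736 := (sb E49314 F194667)
theorem F299054 : act 7 n77419 = n80356 := (sb E49314 F194669)
theorem E53272 : n184477 = n160268 := (((D160268).symm.trans (sb E49315 (iv6 F286395)))).symm
theorem E53273 : n151767 = n70618 := (((iv3 F238682)).symm.trans (sb E49316 F134965))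
theorem E53274 : n184473 = n57287 := ((((iv5 F115316)).symm.trans (sb E49316 D184473))).symm
theorem F299055 : act 6 n76809 = n41073 := (sb E49316 (iv6 D87973))
theorem E53276 : n160279 = n124385 := ((D160279).symm.trans (sb E49323 (iv4 F250662)))
theorem F299056 : act 1 n19624 = n12812 := (sb E49325 (iv0 D26779))
theorem E53278 : n55442 = n9229 := (((F31398).symm.trans (sb E49325 D55442))).symm
theorem E53279 : n41687 = n13604 := (((iv4 F64337)).symm.trans (sb E49325 F43037))
theorem E53280 : n41690 = n16278 := ((D41690).symm.trans (sb E49325 (iv5 F43039)))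
theorem E53281 : n184534 = n55444 := (((D55444).symm.trans (sb E49326 (iv3 F286471)))).symm
theorem E53283 : n86907 = n55445 := (((D55445).symm.trans (sb E49326 F135010))).symm
theorem E53286 : n184543 = n55446 := (((D55446).symm.trans (sb E49327 D184543))).symm
theorem E53290 : n184901 = n27539 := ((((iv1 F44431)).symm.trans (sb E49329 (iv1 F287320)))).symm
theorem E53292 : n184668 = n55449 := (((D55449).symm.trans (sb E49330 F287036))).symm
theorem E53293 : n101211 = n55450 := (((D55450).symm.trans (sb E49330 F287200))).symm
theorem E53294 : n184716 = n55451 := (((D55451).symm.trans (sb E49330 F286749))).symm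
theorem E53296 : n125131 = n55471 := (((D55471).symm.trans (sb E49333 F250619))).symm
theorem E53297 : n170711 = n55472 := (((D55472).symm.trans (sb E49333 (iv7 F268227)))).symm
theorem E53298 : n186468 = n75006 := ((D186468).symm.trans (sb E49336 F191783))
theorem F299057 : act 3 n88816 = n55423 := (sb E49336 (iv3 D120388))
theorem F299058 : act 4 n88816 = n56916 := (sb E49336 F191786)
theorem E53299 : n186471 = n71446 := ((D186471).symm.trans (sb E49336 F191784))
theorem E53300 : n186473 = n75007 := ((D186473).symm.trans (sb E49336 F191785))
theorem F299059 : act 4 n56944 = n80554 := (sb E49340 F195887)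
theorem F299060 : act 0 n81775 = n40072 := (sb E49346 (iv1 F132543))
theorem F299061 : act 1 n81775 = n40034 := (sb E49346 (iv0 D86442))
theorem F299062 : act 2 n81775 = n40069 := (sb E49346 (iv2 F132542))
theorem E53302 : n170601 = n77726 := (((iv3 F268036)).symm.trans (sb E49346 (iv3 F132545)))
theorem F299063 : act 7 n81775 = n40070 := (sb E49346 F132544)
theorem E53304 : n84502 = n84487 := (((D84487).symm.trans (sb E49347 (iv3 F129633)))).symm
theorem F299064 : act 6 n38972 = n18500 := (sb E49347 (iv6 D38977))
theorem E53306 : n159213 = n78279 := (((D78279).symm.trans (sb E49350 F264872))).symm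
theorem E53307 : n181002 = n159118 := ((D181002).symm.trans (sb E49352 (iv1 F250515)))
theorem E53308 : n179542 = n179467 := (((iv1 F279565)).symm.trans (sb E49353 (iv1 F279448)))
theorem E53309 : n181025 = n179466 := ((D181025).symm.trans (sb E49355 (iv1 F279454)))
theorem E53310 : n181026 = n179465 := ((D181026).symm.trans (sb E49355 F279452))
theorem E53311 : n181041 = n159087 := ((D181041).symm.trans (sb E49356 F279456))
theorem F299065 : act 7 n85618 = n40048 := (sb E49357 (iv7 D86462))
theorem F299069 : act 0 n55596 = n40050 := (sb E49360 (iv1 D86466))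
theorem F299070 : act 1 n55596 = n40164 := (sb E49360 F132586)
theorem F299071 : act 2 n55596 = n40162 := (sb E49360 F132900)
theorem E53315 : n181053 = n120651 := (((D120651).symm.trans (sb E49360 D181053))).symm
theorem F299074 : act 7 n75991 = n40050 := (sb E49362 (iv7 D86468))
theorem E53319 : n181060 = n179674 := ((D181060).symm.trans (sb E49363 F279877))
theorem E53321 : n79494 = n23899 := (((D23899).symm.trans (sb E49369 (iv6 D165519)))).symm
theorem E53322 : n79492 = n23911 := (((D23911).symm.trans (sb E49371 D79492))).symm
theorem E53323 : n79493 = n23912 := (((D23912).symm.trans (sb E49371 D79493))).symm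
theorem E53329 : n55735 = n23917 := (((D23917).symm.trans (sb E49374 (iv6 F121555)))).symm
theorem F299077 : act 0 n19040 = n12876 := (sb E49378 (iv1 F43337))
theorem F299078 : act 1 n19040 = n12875 := (sb E49378 F43338)
theorem F299079 : act 2 n19040 = n12878 := (sb E49378 F43333)
theorem F299080 : act 7 n19040 = n12863 := (sb E49378 (iv7 D26876))
theorem F299081 : act 3 n17353 = n17544 := (sb E49380 F88893)
theorem E53337 : n79506 = n18860 := (((F41676).symm.trans (sb E49380 D79506))).symm
theorem E53341 : n124549 = n106022 := (((D106022).symm.trans (sb E49385 F260701))).symm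
theorem F299082 : act 3 n49010 = n27710 := (sb E49386 (iv3 D58130))
theorem F299083 : act 0 n86671 = n124509 := (sb E49388 F253511)
theorem F299084 : act 2 n86671 = n124541 := (sb E49388 F253509)
theorem F299085 : act 5 n86671 = n76941 := (sb E49388 (iv5 D160486))
theorem F299086 : act 7 n86671 = n124542 := (sb E49388 F253510)
theorem F299087 : act 1 n86672 = n124509 := (sb E49389 F260705)
theorem F299088 : act 2 n86672 = n124542 := (sb E49389 (iv2 F260708))
theorem F299089 : act 7 n86672 = n124541 := (sb E49389 F260706)
theorem F299090 : act 2 n86673 = n124543 := (sb E49390 F260709)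
theorem E53342 : n181574 = n124550 := (((iv7 F282638)).symm.trans (sb E49390 F260710))
theorem F299091 : act 7 n58131 = n40168 := (sb E49391 F132907)
theorem F299092 : act 7 n86706 = n81431 := (sb E49392 F199245)
theorem F299093 : act 2 n86707 = n170591 := (sb E49393 F268019)
theorem E53344 : n153999 = n87545 := (((F233189).symm.trans (sb E49394 F242017))).symm
theorem E53345 : n181158 = n164583 := (((iv2 F282180)).symm.trans (sb E49394 (iv2 F259477)))
theorem F299095 : act 6 n86713 = n44479 := (sb E49394 (iv6 D95233))
theorem F299096 : act 2 n86714 = n81433 := (sb E49395 F146774)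
theorem E53346 : n181687 = n170104 := ((D181687).symm.trans (sb E49395 (iv6 F267598)))
theorem F299097 : act 7 n86714 = n170591 := (sb E49395 (iv7 F268017))
theorem F299098 : act 0 n78619 = n58173 := (sb E49396 (iv1 F199269))
theorem F299099 : act 1 n78619 = n58157 := (sb E49396 (iv0 D124585))
theorem F299100 : act 0 n78622 = n58157 := (sb E49397 (iv1 D124586))
theorem F299101 : act 1 n78622 = n58173 := (sb E49397 F199270)
theorem E53347 : n163627 = n124624 := ((D163627).symm.trans (sb E49399 F260729))
theorem E53348 : n163628 = n124520 := ((D163628).symm.trans (sb E49399 F260730))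
theorem F299102 : act 2 n78616 = n124620 := (sb E49399 F260727)
theorem F299103 : act 7 n167643 = n84452 := (sb E49400 F276339)
theorem F299104 : act 4 n167644 = n158799 := (sb E49401 (iv4 F276646))
theorem F299105 : act 5 n167644 = n84452 := (sb E49401 (iv5 D177256))
theorem F299107 : act 2 n84434 = n80466 := (sb E49403 F253238)
theorem F299108 : act 5 n84434 = n76854 := (sb E49403 (iv5 D160340))
theorem E53349 : n181558 = n177207 := (((D177207).symm.trans (sb E49403 (iv6 F282633)))).symm
theorem F299109 : act 7 n84434 = n80469 := (sb E49403 F253239)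
theorem F299110 : act 3 n78251 = n80456 := (sb E49404 (iv3 D167645))
theorem E53350 : n80693 = n35663 := ((((iv4 D78251)).symm.trans (sb E49404 F263926))).symm
theorem F299111 : act 2 n84435 = n80469 := (sb E49405 (iv2 F257200))
theorem F299112 : act 5 n84435 = n80456 := (sb E49405 F257199)
theorem F299113 : act 7 n84435 = n80466 := (sb E49405 F257201)
theorem F299114 : act 2 n75998 = n80470 := (sb E49406 (iv2 F194639))
theorem F299115 : act 5 n75998 = n79727 := (sb E49406 F194637)
theorem F299116 : act 6 n75998 = n80456 := (sb E49406 F194638)
theorem F299117 : act 0 n38941 = n80457 := (sb E49407 (iv1 D167647))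
theorem F299118 : act 1 n38941 = n80474 := (sb E49407 F263932)
theorem F299119 : act 2 n38941 = n80472 := (sb E49407 (iv2 F263935))
theorem F299120 : act 0 n167648 = n169812 := (sb E49408 F276342)
theorem F299121 : act 1 n167648 = n177298 := (sb E49408 F276678)
theorem F299122 : act 7 n167648 = n84453 := (sb E49408 F276341)
theorem F299123 : act 0 n38938 = n80472 := (sb E49409 (iv1 F263939))
theorem F299124 : act 2 n38938 = n80474 := (sb E49409 F263937)
theorem F299125 : act 5 n38938 = n80458 := (sb E49409 F263938)
theorem F299126 : act 7 n38938 = n80457 := (sb E49409 (iv7 D167649))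
theorem F299127 : act 1 n162782 = n98050 := (sb E49410 (iv0 F263944))
theorem F299128 : act 3 n162782 = n80459 := (sb E49410 (iv3 D167650))
theorem F299129 : act 4 n162782 = n81975 := (sb E49410 F263941)
theorem F299131 : act 1 n167651 = n84357 := (sb E49411 F267629)
theorem F299132 : act 4 n167651 = n177210 := (sb E49411 (iv4 F276603))
theorem F299133 : act 0 n162900 = n84362 := (sb E49412 (iv1 F276377))
theorem F299134 : act 5 n162900 = n177396 := (sb E49412 (iv5 F276784))
theorem E53351 : n180854 = n76023 := (((iv1 F281571)).symm.trans (sb E49414 (iv1 F250502)))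
theorem F299137 : act 1 n121941 = n76018 := (sb E49414 (iv0 D159113))
theorem F299138 : act 7 n121941 = n81590 := (sb E49414 F250503)
theorem E53352 : n35279 = n23869 := ((((iv3 F37213)).symm.trans (sb E49415 F107248))).symm
theorem E53354 : n150286 = n5121 := ((((iv5 D11186)).symm.trans (sb E49415 D150286))).symm
theorem E53356 : n79303 = n26829 := (((D26829).symm.trans (sb E49422 F255094))).symm
theorem E53359 : n79304 = n26843 := (((D26843).symm.trans (sb E49423 F121701))).symm
theorem E53364 : n75085 = n16801 := (((D16801).symm.trans (sb E49428 F115980))).symm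
theorem E53367 : n150297 = n85604 := ((D150297).symm.trans (sb E49432 F201379))
theorem E53368 : n161052 = n73691 := ((((iv1 F189045)).symm.trans (sb E49435 D161052))).symm
theorem E53370 : n161054 = n150837 := ((((iv2 F237403)).symm.trans (sb E49435 D161054))).symm
theorem E53371 : n80719 = n34747 := (((F113891).symm.trans (sb E49435 (iv4 F124194)))).symm
theorem F299140 : act 2 n76013 = n80575 := (sb E49437 F123881)
theorem E53379 : n161080 = n85607 := (((D85607).symm.trans (sb E49440 D161080))).symm
theorem F299153 : act 6 n77316 = n81626 := (sb E49443 (iv6 D170200))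
theorem E53382 : n81598 = n72396 := ((((iv3 F190791)).symm.trans (sb E51157 F252329))).symm
theorem E53383 : n62830 = n34336 := (((iv4 F112468)).symm.trans (sb E51157 (tr (iv4 F252327) E52427)))
theorem E53384 : n149770 = n107859 := (((E50710).symm.trans (((iv3 F259891)).symm.trans (sb E49446 F267691)))).symm
theorem E53385 : n117764 = n37297 := ((F190792).symm.trans (iv6 (sb E49447 (tr (iv6 D170142) E53382))))
theorem F299157 : act 0 n155177 = n81601 := (sb E49448 (iv1 D170146))
theorem F299159 : act 5 n163215 = n81601 := (sb E49449 (iv5 D170147))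
theorem F299160 : act 0 n84468 = n81603 := (sb E49450 (iv1 D170153))
theorem F299162 : act 4 n84460 = n81603 := (sb E49451 (iv4 D170154))
theorem F299163 : act 6 n32421 = n69800 := (sb E49452 (iv6 D148907))
theorem E53387 : n118507 = n89258 := (((F136977).symm.trans (sb E49453 (iv1 F286769)))).symm
theorem E53388 : n175066 = n82636 := ((((iv0 F127308)).symm.trans (sb E49453 D175066))).symm
theorem F299164 : act 2 n71959 = n55309 := (sb E49453 F128683)
theorem E53389 : n175067 = n98221 := ((((iv5 F151560)).symm.trans (sb E49453 D175067))).symm
theorem F299165 : act 6 n71959 = n38550 := (sb E49453 (iv6 D83604))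
theorem E53390 : n148684 = n123379 := (((D123379).symm.trans (sb E49454 F267580))).symm
theorem F299173 : act 0 n29761 = n16759 := (sb E49458 (iv1 D34566))
theorem F299174 : act 1 n29761 = n22101 := (sb E49458 F54831)
theorem F299175 : act 5 n29761 = n17145 := (sb E49458 F54833)
theorem E53392 : n75554 = n28983 := (((F47861).symm.trans (sb E49458 D75554))).symm
theorem F299176 : act 0 n13918 = n22101 := (sb E49459 F54776)
theorem F299177 : act 1 n13918 = n16759 := (sb E49459 F54777)
theorem E53393 : n75461 = n29288 := ((((iv3 F46930)).symm.trans (sb E49459 (iv3 F113254)))).symm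
theorem F299178 : act 5 n13918 = n16748 := (sb E49459 (iv5 D34532))
theorem E53396 : n62894 = n22102 := (((D22102).symm.trans (sb E49460 D62894))).symm
theorem E53405 : n130428 = n70533 := ((((iv1 F296789)).symm.trans (sb E49463 (iv1 F213777)))).symm
theorem E53406 : n131722 = n80081 := ((((iv0 F296790)).symm.trans (sb E49463 D131722))).symm
theorem F299179 : act 4 n46185 = n33165 := (sb E49463 F96369)
theorem E53407 : n131723 = n98758 := (((D98758).symm.trans (sb E49463 D131723))).symm
theorem E53408 : n131724 = n80082 := ((((iv7 F296759)).symm.trans (sb E49463 D131724))).symm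
theorem F299180 : act 4 n17185 = n26415 := (sb E49464 F47855)
theorem E53409 : n62897 = n35431 := (((D35431).symm.trans (sb E49464 D62897))).symm
theorem E53410 : n172148 = n121443 := ((((iv4 F193784)).symm.trans (sb E49466 (iv4 F270324)))).symm
theorem E53413 : n180848 = n81787 := (((D81787).symm.trans (sb E49469 D180848))).symm
theorem F299181 : act 4 n37395 = n81563 := (sb E49469 F132406)
theorem E53415 : n180850 = n81789 := (((D81789).symm.trans (sb E49469 D180850))).symm
theorem F299182 : act 0 n37397 = n80485 := (sb E49471 (iv1 F254663))
theorem E53418 : n105917 = n81758 := (((D81758).symm.trans (sb E49472 F191338))).symm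
theorem E53420 : n180857 = n81761 := (((D81761).symm.trans (sb E49472 D180857))).symm
theorem F299183 : act 7 n37375 = n80312 := (sb E49472 F132411)
theorem F299184 : act 0 n37377 = n80584 := (sb E49474 (iv1 F149100))
theorem F299186 : act 0 n81796 = n80555 := (sb E49475 (iv1 F132418))
theorem F299187 : act 1 n81796 = n39987 := (sb E49475 (iv0 D86384))
theorem F299188 : act 7 n81796 = n98061 := (sb E49475 F196391)
theorem F299189 : act 0 n81774 = n39987 := (sb E49476 (iv1 D86385))
theorem F299190 : act 1 n81774 = n80555 := (sb E49476 F132415)
theorem F299191 : act 2 n81774 = n98061 := (sb E49476 (iv2 F196392))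
theorem E53430 : n170052 = n167881 := ((((iv1 F264515)).symm.trans (sb E49477 F267988))).symm
theorem E53431 : n170049 = n167897 := ((((iv0 F264539)).symm.trans (sb E49477 F267989))).symm
theorem F299192 : act 7 n86386 = n170521 := (sb E49477 F267986)
theorem E53434 : n170044 = n150626 := ((D170044).symm.trans (sb E49479 (iv2 F237166)))
theorem E53437 : n180875 = n170046 := (((D170046).symm.trans (sb E49480 D180875))).symm
theorem F299193 : act 0 n75995 = n80470 := (sb E49481 (iv1 F194200))
theorem F299194 : act 4 n75995 = n39993 := (sb E49481 F132426)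
theorem F299195 : act 2 n38932 = n56383 := (sb E49482 F132427)
theorem F299196 : act 4 n38932 = n39992 := (sb E49482 (iv4 D86391))
theorem E53446 : n170036 = n80567 := (((D80567).symm.trans (sb E49486 D170036))).symm
theorem F299197 : act 2 n36767 = n37350 := (sb E49487 F125425)
theorem E53449 : n170040 = n80572 := (((D80572).symm.trans (sb E49487 D170040))).symm
theorem E53450 : n170041 = n80573 := (((D80573).symm.trans (sb E49487 D170041))).symm
theorem F299198 : act 7 n36767 = n37355 := (sb E49487 F125426)
theorem F299199 : act 0 n36768 = n76941 := (sb E49488 F125431)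
theorem F299200 : act 2 n36768 = n37351 := (sb E49488 F125428)
theorem F299201 : act 0 n36771 = n39571 := (sb E49489 (iv1 D85650))
theorem F299202 : act 2 n36771 = n58588 := (sb E49489 (iv2 F131357))
theorem E53452 : n56141 = n17207 := (((D17207).symm.trans (sb E49490 (iv5 F88790)))).symm
theorem E53455 : n174331 = n38602 := (((D38602).symm.trans (sb E49494 D174331))).symm
theorem E53456 : n73047 = n38603 := (((D38603).symm.trans (sb E49494 (iv0 F197138)))).symm
theorem E53458 : n174333 = n38604 := (((D38604).symm.trans (sb E49494 D174333))).symm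
theorem E53459 : n56126 = n38605 := (((D38605).symm.trans (sb E49494 F128422))).symm
theorem F299203 : act 2 n35404 = n38386 := (sb E49496 F128385)
theorem E53460 : n174283 = n77548 := (((D77548).symm.trans (sb E49496 (iv3 F273076)))).symm
theorem E53461 : n167486 = n77550 := (((D77550).symm.trans (sb E49496 (iv5 F263648)))).symm
theorem F299204 : act 7 n35404 = n38372 := (sb E49496 (iv7 D83304))
theorem E53462 : n161172 = n77557 := (((D77557).symm.trans (sb E49497 (iv1 F254852)))).symm
theorem E53466 : n77560 = n56127 := ((D77560).symm.trans (sb E49497 F128424))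
theorem F299205 : act 7 n27057 = n17176 := (sb E49498 (iv7 D35407))
theorem F299206 : act 3 n35418 = n17543 := (sb E49500 (iv3 D36330))
theorem E53467 : n77962 = n77595 := (((D77595).symm.trans (sb E49500 (iv6 F119174)))).symm
theorem E53469 : n77601 = n56129 := ((D77601).symm.trans (sb E49502 F193676))
theorem F299207 : act 7 n27058 = n17179 := (sb E49503 (iv7 D35421))
theorem F299208 : act 0 n27579 = n40089 := (sb E49504 F118547)
theorem E53471 : n84649 = n57778 := (((D57778).symm.trans (sb E49504 D84649))).symm
theorem E53473 : n73163 = n58001 := (((D58001).symm.trans (sb E49507 (iv3 F190626)))).symm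
theorem E53474 : n160316 = n58002 := (((D58002).symm.trans (sb E49507 F253223))).symm
theorem E53475 : n58003 = n37422 := ((D58003).symm.trans (sb E49507 (iv6 D81811)))
theorem E53476 : n160315 = n58020 := (((D58020).symm.trans (sb E49508 (iv5 F253218)))).symm
theorem E53477 : n159180 = n76844 := (((iv1 F250656)).symm.trans (sb E49509 (iv1 F253141)))
theorem F299209 : act 1 n88641 = n76813 := (sb E49509 (iv0 D160278))
theorem E53478 : n171364 = n76842 := (((iv7 F269086)).symm.trans (sb E49509 F253140))
theorem E53479 : n123491 = n77789 := (((D77789).symm.trans (sb E49512 (iv4 F197908)))).symm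
theorem F299210 : act 6 n35498 = n56139 := (sb E49512 (iv6 D121548))
theorem F299211 : act 0 n57383 = n27652 := (sb E49513 (iv1 D57954))
theorem E53480 : n123280 = n123278 := (((iv3 F197569)).symm.trans (sb E49513 (iv3 F197566)))
theorem F299212 : act 4 n57383 = n41377 := (sb E49513 (iv4 F118764))
theorem E53483 : n123386 = n32487 := (((D32487).symm.trans (sb E49515 (iv0 F197757)))).symm
theorem E53490 : n160344 = n124322 := (((D124322).symm.trans (sb E49518 (iv1 F253255)))).symm
theorem F299213 : act 1 n57955 = n56977 := (sb E49518 (iv0 D122655))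
theorem E53492 : n124324 = n124184 := ((D124324).symm.trans (sb E49518 (iv7 F198652)))
theorem E53493 : n124319 = n124179 := ((((iv3 F198644)).symm.trans (sb E49519 (iv3 F198800)))).symm
theorem F299214 : act 7 n57886 = n27652 := (sb E49519 (iv7 D57956))
theorem E53503 : n122876 = n37594 := (((D37594).symm.trans (sb E49522 D122876))).symm
theorem F299215 : act 3 n49024 = n27500 := (sb E49523 F90656)
theorem E53508 : n123410 = n106076 := (((D106076).symm.trans (sb E49523 (iv5 F197791)))).symm
theorem E53509 : n122996 = n106077 := (((D106077).symm.trans (sb E49523 (iv6 F197054)))).symm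
theorem E53510 : n125276 = n123031 := ((((iv1 F197146)).symm.trans (sb E49524 D125276))).symm
theorem E53513 : n125279 = n123455 := (((D123455).symm.trans (sb E49524 D125279))).symm
theorem E53514 : n170799 = n123018 := (((D123018).symm.trans (sb E49526 D170799))).symm
theorem F299216 : act 3 n22007 = n27498 := (sb E49528 (iv3 D57496))
theorem E53523 : n123439 = n46077 := ((((iv5 F72645)).symm.trans (sb E49528 D123439))).symm
theorem E53524 : n178200 = n170793 := ((((iv4 F268381)).symm.trans (sb E49529 (iv4 F277755)))).symm
theorem E53526 : n177842 = n123442 := (((D123442).symm.trans (sb E49530 D177842))).symm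
theorem F299217 : act 7 n57498 = n39112 := (sb E49530 (iv7 D84674))
theorem F299218 : act 6 n122298 = n57580 := (sb E49531 F197247)
theorem E53527 : n122466 = n57636 := (((iv1 F195929)).symm.trans (sb E49532 (iv1 F197264)))
theorem F299219 : act 1 n122299 = n57635 := (sb E49532 F197265)
theorem F299220 : act 6 n27525 = n56624 := (sb E49533 (iv6 D122300))
theorem F299221 : act 4 n123478 = n77531 := (sb E49534 (iv4 D161500))
theorem E53528 : n57617 = n47213 := ((D57617).symm.trans (sb E49535 (iv1 D101460)))
theorem E53529 : n57618 = n47221 := ((D57618).symm.trans (sb E49535 F156277))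
theorem E53530 : n57610 = n47219 := (((iv2 F90752)).symm.trans (sb E49535 F184749))
theorem F299222 : act 5 n122315 = n178240 := (sb E49537 (iv5 F277784))
theorem E53534 : n178211 = n170808 := (((D170808).symm.trans (sb E49539 D178211))).symm
theorem F299223 : act 4 n86083 = n56124 := (sb E49540 (iv4 D121528))
theorem E53536 : n180102 = n123498 := (((iv5 F280489)).symm.trans (sb E49540 (iv5 F197912)))
theorem E53537 : n122671 = n122344 := (((D122344).symm.trans (sb E49541 (iv1 F196534)))).symm
theorem E53538 : n122670 = n122345 := (((D122345).symm.trans (sb E49541 F196537))).symm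
theorem E53539 : n122673 = n118169 := ((((iv2 F185681)).symm.trans (sb E49541 (iv2 F196536)))).symm
theorem E53540 : n122691 = n122346 := (((D122346).symm.trans (sb E49541 (iv5 F196548)))).symm
theorem E53541 : n122348 = n120382 := ((D122348).symm.trans (sb E49542 (iv1 F191766)))
theorem E53542 : n122349 = n120381 := ((D122349).symm.trans (sb E49542 F191765))
theorem E53543 : n122747 = n122350 := (((D122350).symm.trans (sb E49542 (iv4 F196612)))).symm
theorem E53548 : n33453 = n9064 := (((F27845).symm.trans (sb E49544 F191274))).symm
theorem E53552 : n33455 = n19171 := ((((iv2 F30944)).symm.trans (sb E49546 F190573))).symm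
theorem E53554 : n40901 = n33535 := ((D40901).symm.trans (sb E49546 F190574))
theorem E53555 : n100409 = n70694 := ((D100409).symm.trans (sb E49547 (iv3 D150199)))
theorem E53556 : n153536 = n100410 := (((D100410).symm.trans (sb E49547 (iv6 F241326)))).symm
theorem E53557 : n122727 = n100411 := (((D100411).symm.trans (sb E49548 (iv1 F196577)))).symm
theorem E53558 : n100412 = n98169 := ((D100412).symm.trans (sb E49548 (tr (iv0 F191758) E53121)))
theorem E53560 : n153637 = n100413 := (((D100413).symm.trans (sb E49548 (iv5 F241522)))).symm
theorem E53561 : n40899 = n33446 := ((F74063).symm.trans (sb E49549 F108970))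
theorem E53564 : n73339 = n9062 := ((((iv3 F17229)).symm.trans (sb E49551 F242807))).symm
theorem E53565 : n171135 = n72964 := ((D171135).symm.trans (sb E49552 F242241))
theorem E53566 : n124376 = n77832 := ((F198913).symm.trans (sb E49556 (iv1 D162028)))
theorem E53567 : n159222 = n123002 := ((F250716).symm.trans (sb E49556 F256048))
theorem E53568 : n177479 = n171053 := (((D171053).symm.trans (sb E49556 (iv4 F276926)))).symm
theorem E53569 : n120325 = n34796 := (((D34796).symm.trans (sb E49557 (iv6 F191625)))).symm
theorem E53570 : n177480 = n159223 := (((D159223).symm.trans (sb E49558 (iv4 F276927)))).symm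
theorem F299224 : act 1 n27467 = n37586 := (sb E49560 (iv0 D82022))
theorem E53573 : n171044 = n57386 := (((D57386).symm.trans (sb E49560 F268785))).symm
theorem F299225 : act 5 n82023 = n57222 := (sb E49561 F197075)
theorem E53575 : n171142 = n123058 := ((D171142).symm.trans (sb E49562 F197583))
theorem E53576 : n171143 = n123575 := ((D171143).symm.trans (sb E49562 F197989))
theorem F299226 : act 3 n47007 = n55468 := (sb E49564 F191930)
theorem F299227 : act 3 n120493 = n100822 := (sb E49565 F195781)
theorem E53579 : n177488 = n159227 := (((iv4 F276932)).symm.trans (sb E49567 F263999))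
theorem E53581 : n84789 = n57408 := ((((iv0 D123309)).symm.trans (sb E49568 (iv0 D178120)))).symm
theorem F299228 : act 0 n122381 = n57404 := (sb E49569 (iv1 D123305))
theorem F299229 : act 1 n122381 = n57420 := (sb E49569 F197596)
theorem F299230 : act 0 n120483 = n177789 := (sb E49570 (iv1 F277284))
theorem F299231 : act 2 n120483 = n81980 := (sb E49570 F195799)
theorem F299232 : act 4 n120483 = n80356 := (sb E49570 F195800)
theorem F299233 : act 6 n120483 = n56701 := (sb E49570 (iv6 D122382))
theorem F299234 : act 6 n123310 = n157877 := (sb E49571 F264007)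
theorem F299235 : act 0 n84575 = n56715 := (sb E49573 (iv1 D122391))
theorem F299237 : act 0 n76189 = n57437 := (sb E49574 (iv1 F197119))
theorem E53583 : n159248 = n124264 := ((D159248).symm.trans (sb E49574 (iv6 F198760)))
theorem F299238 : act 6 n123332 = n86343 := (sb E49575 (iv6 D180783))
theorem E53584 : n177490 = n171056 := (((iv1 F276937)).symm.trans (sb E49576 F281410))
theorem E53585 : n177493 = n159230 := (((iv0 F276943)).symm.trans (sb E49576 F281411))
theorem F299239 : act 4 n123013 = n98157 := (sb E49577 F253532)
theorem E53588 : n164519 = n34485 := ((((iv3 F54715)).symm.trans (sb E49579 (iv3 F259302)))).symm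
theorem E53590 : n80179 = n77621 := ((D80179).symm.trans (sb E49585 F194938))
theorem E53591 : n80371 = n80180 := (((D80180).symm.trans (sb E49585 (iv6 F194940)))).symm
theorem E53592 : n80182 = n77622 := ((D80182).symm.trans (sb E49586 F116522))
theorem F299240 : act 6 n36519 = n35321 := (sb E49586 F113612)
theorem E53594 : n80160 = n80155 := ((F123088).symm.trans (sb E49589 F123073))
theorem F299241 : act 3 n36526 = n17720 := (sb E49589 F91252)
theorem E53595 : n123154 = n120632 := (((D120632).symm.trans (sb E49592 F255582))).symm
theorem E53596 : n122725 = n120635 := (((D120635).symm.trans (sb E49593 F196570))).symm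
theorem E53598 : n159136 = n123155 := ((D159136).symm.trans (sb E49595 F253270))
theorem F299242 : act 1 n27618 = n37590 := (sb E49596 F92450)
theorem E53599 : n125146 = n57856 := ((((iv3 F91142)).symm.trans (sb E49596 (iv3 F201069)))).symm
theorem E53600 : n125147 = n57858 := (((D57858).symm.trans (sb E49596 D125147))).symm
theorem F299243 : act 0 n27599 = n37590 := (sb E49597 (iv1 D82026))
theorem E53603 : n125134 = n57822 := (((D57822).symm.trans (sb E49597 (iv4 F201045)))).symm
theorem E53605 : n171150 = n123146 := ((D171150).symm.trans (sb E49598 F198489))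
theorem E53606 : n171151 = n123139 := ((D171151).symm.trans (sb E49598 F198490))
theorem E53607 : n159142 = n123943 := (((iv7 F250576)).symm.trans (sb E49598 F198488))
theorem F299244 : act 5 n122355 = n57763 := (sb E49600 (iv5 D123987))
theorem E53608 : n84768 = n57308 := ((((iv1 F90391)).symm.trans (sb E49601 F195680))).symm
theorem F299245 : act 5 n27575 = n56678 := (sb E49601 (iv5 D122356))
theorem E53610 : n178109 = n81807 := (((iv0 F277658)).symm.trans (sb E49602 F196625))
theorem F299246 : act 7 n122357 = n81804 := (sb E49602 F196913)
theorem F299247 : act 0 n166971 = n80162 := (sb E49603 (iv1 F262921))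
theorem F299248 : act 5 n122358 = n57768 := (sb E49604 (iv5 D124001))
theorem F299249 : act 6 n122358 = n160274 := (sb E49604 (iv6 F253128))
theorem F299250 : act 5 n27576 = n56679 := (sb E49605 (iv5 D122359))
theorem E53612 : n124043 = n99867 := (((D99867).symm.trans (sb E49609 F269725))).symm
theorem E53613 : n160329 = n99863 := (((D99863).symm.trans (sb E49611 F269721))).symm
theorem F299251 : act 1 n57263 = n56702 := (sb E49612 (iv0 D122383))
theorem F299252 : act 0 n57598 = n56702 := (sb E49613 (iv1 D122384))
theorem F299253 : act 5 n57595 = n56703 := (sb E49614 F195808)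
theorem E53614 : n60057 = n23318 := ((((iv1 F36437)).symm.trans (sb E49616 D60057))).symm
theorem E53615 : n54432 = n23344 := ((((iv0 F36468)).symm.trans (sb E49616 (iv0 F191255)))).symm
theorem E53616 : n60054 = n41686 := (((D41686).symm.trans (sb E49616 (iv3 F94585)))).symm
theorem E53617 : n50027 = n17121 := (((F31396).symm.trans (sb E49616 (iv5 F79172)))).symm
theorem E53618 : n73110 = n9227 := (((D9227).symm.trans (sb E49617 F191853))).symm
theorem E53620 : n60129 = n36685 := (((D36685).symm.trans (sb E49619 F191238))).symm
theorem E53621 : n86904 = n54736 := ((D86904).symm.trans (sb E49621 (iv1 D118936)))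
theorem E53622 : n86905 = n72145 := ((D86905).symm.trans (sb E49621 F187024))
theorem F299255 : act 2 n18949 = n15989 := (sb E49622 (iv2 D33157))
theorem E53623 : n71718 = n8883 := ((((iv5 D18949)).symm.trans (sb E49622 D71718))).symm
theorem E53624 : n71719 = n40098 := (((D40098).symm.trans (sb E49622 D71719))).symm
theorem E53625 : n75022 = n41084 := (((D41084).symm.trans (sb E49624 F239142))).symm
theorem E53626 : n123738 = n41085 := (((D41085).symm.trans (sb E49624 (iv5 F239124)))).symm
theorem E53627 : n18908 = n16163 := (((D16163).symm.trans (sb E49625 F57816))).symm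
theorem E53628 : n71584 = n71539 := (((iv3 F190570)).symm.trans (sb E49626 (iv3 F108055)))
theorem F299256 : act 4 n33156 = n19278 := (sb E49626 F57821)
theorem E53629 : n71715 = n18909 := ((D71715).symm.trans (sb E49626 F57820))
theorem E53631 : n71724 = n17895 := (((F30220).symm.trans (sb E49627 D71724))).symm
theorem E53632 : n33741 = n19157 := ((((iv0 F30784)).symm.trans (sb E49627 (iv0 F190590)))).symm
theorem E53633 : n71726 = n8876 := ((((iv4 D18928)).symm.trans (sb E49627 D71726))).symm
theorem F299257 : act 5 n18928 = n15989 := (sb E49627 (iv5 D33159))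
theorem E53634 : n71727 = n40038 := (((D40038).symm.trans (sb E49627 D71727))).symm
theorem E53635 : n80758 = n58371 := ((((iv1 F190592)).symm.trans (sb E49628 D80758))).symm
theorem E53636 : n80759 = n58376 := ((((iv0 F199674)).symm.trans (sb E49628 D80759))).symm
theorem F299258 : act 4 n33160 = n22358 := (sb E49628 F57823)
theorem E53637 : n80760 = n39413 := ((((iv5 F60340)).symm.trans (sb E49628 D80760))).symm
theorem E53638 : n80761 = n71730 := (((D71730).symm.trans (sb E49628 D80761))).symm
theorem E53643 : n99881 = n57686 := ((D99881).symm.trans (sb E49633 (iv5 D123762)))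
theorem E53644 : n148952 = n99885 := (((D99885).symm.trans (sb E49634 (iv4 F234028)))).symm
theorem E53645 : n99886 = n57687 := ((D99886).symm.trans (sb E49634 (iv5 D123767)))
theorem E53646 : n99887 = n72410 := ((D99887).symm.trans (sb E49634 F198249))
theorem E53647 : n123690 = n99888 := (((D99888).symm.trans (sb E49635 (iv1 F239134)))).symm
theorem E53648 : n123686 = n99889 := (((D99889).symm.trans (sb E49635 F239133))).symm
theorem E53649 : n123739 = n99891 := (((D99891).symm.trans (sb E49635 (iv7 F239137)))).symm
theorem F299259 : act 1 n57303 = n56680 := (sb E49645 (iv0 D122361))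
theorem F299260 : act 0 n57299 = n56680 := (sb E49646 (iv1 D122362))
theorem E53650 : n175774 = n123136 := ((((iv3 F197326)).symm.trans (sb E49646 (iv3 F275197)))).symm
theorem E53651 : n123175 = n85873 := ((((iv1 F195845)).symm.trans (sb E49647 F269732))).symm
theorem E53652 : n123167 = n85906 := (((F195720).symm.trans (sb E49647 F269733))).symm
theorem F299261 : act 7 n122363 = n123940 := (sb E49647 F269731)
theorem F299262 : act 5 n57741 = n55555 := (sb E49648 (iv5 D120621))
theorem F299263 : act 7 n57741 = n56680 := (sb E49648 F192218)
theorem E53655 : n154966 = n41647 := (((F74336).symm.trans (sb E49649 (iv5 F243671)))).symm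
theorem F299264 : act 3 n170645 = n98158 := (sb E49653 F268714)
theorem F299265 : act 4 n170645 = n98051 := (sb E49653 F268715)
theorem F299266 : act 6 n170645 = n81971 := (sb E49653 (iv6 D171015))
theorem F299267 : act 0 n120385 = n160268 := (sb E49655 (tr (iv1 F286397) E53272))
theorem F299268 : act 1 n120385 = n82002 := (sb E49655 (iv0 F195672))
theorem F299269 : act 6 n120385 = n178122 := (sb E49655 (iv6 F277678))
theorem F299270 : act 4 n120386 = n179825 := (sb E49656 (iv4 F280047))
theorem E53659 : n170703 = n124031 := ((F268216).symm.trans (sb E49657 (iv5 F198418)))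
theorem F299271 : act 6 n84790 = n55421 := (sb E49657 (iv6 D120387))
theorem E53661 : n179824 = n81802 := (((D81802).symm.trans (sb E49659 (iv4 F280043)))).symm
theorem E53663 : n85841 = n57405 := ((((iv5 F191844)).symm.trans (sb E49661 F268717))).symm
theorem E53664 : n122740 = n122427 := ((F268101).symm.trans (sb E49663 F268722))
theorem E53665 : n122736 = n122430 := ((F268102).symm.trans (sb E49663 F268723))
theorem F299272 : act 2 n170647 = n98167 := (sb E49663 F268721)
theorem F299273 : act 6 n98069 = n81799 := (sb E49664 (iv6 D170648))
theorem E53666 : n122411 = n33530 := ((D122411).symm.trans (sb E49665 F190300))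
theorem E53668 : n122413 = n100411 := ((D122413).symm.trans (sb E49665 (tr D122727 E53557)))
theorem E53672 : n85884 = n57862 := ((F131736).symm.trans (sb E49666 F123528))
theorem E53673 : n122730 = n122416 := (((D122416).symm.trans (sb E49666 D122730))).symm
theorem F299274 : act 0 n57755 = n35499 := (sb E49668 (iv1 D77792))
theorem F299275 : act 1 n57755 = n80347 := (sb E49668 F123430)
theorem F299276 : act 2 n57755 = n80352 := (sb E49668 (iv2 F123453))
theorem F299277 : act 5 n57755 = n80353 := (sb E49668 F123452)
theorem F299278 : act 7 n57755 = n80353 := (sb E49668 F123454)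
theorem E53677 : n85839 = n57322 := (((iv1 F131699)).symm.trans (sb E49669 (iv1 F196603)))
theorem E53678 : n57863 = n18791 := ((((iv0 D39719)).symm.trans (sb E49669 F196601))).symm
theorem E53679 : n57008 = n56734 := ((((iv5 F123428)).symm.trans (sb E49669 (iv5 D122741)))).symm
theorem F299279 : act 3 n102781 = n98173 := (sb E49670 F263685)
theorem F299280 : act 6 n102781 = n120261 := (sb E49670 F263686)
theorem E53680 : n62478 = n36502 := ((F97362).symm.trans (iv0 (sb E49671 (tr F118739 E52264))))
theorem E53681 : n80157 = n80150 := (((D80150).symm.trans (sb E49671 D80157))).symm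
theorem E53682 : n80158 = n80151 := (((D80151).symm.trans (sb E49671 D80158))).symm
theorem E53683 : n80159 = n80152 := (((D80152).symm.trans (sb E49671 D80159))).symm
theorem F299281 : act 7 n36502 = n17654 := (sb E49671 F91345)
theorem E53684 : n35513 = n35445 := ((((iv1 F89353)).symm.trans (sb E49672 (iv1 F57334)))).symm
theorem E53685 : n80153 = n35505 := ((((iv4 F56188)).symm.trans (sb E49672 D80153))).symm
theorem F299282 : act 5 n17208 = n17619 := (sb E49672 (iv5 D36503))
theorem E53688 : n122719 = n122420 := (((D122420).symm.trans (sb E49674 D122719))).symm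
theorem E53690 : n122721 = n122422 := (((D122422).symm.trans (sb E49674 D122721))).symm
theorem E53691 : n122723 = n122423 := (((D122423).symm.trans (sb E49675 D122723))).symm
theorem E53692 : n122724 = n122424 := (((D122424).symm.trans (sb E49675 D122724))).symm
theorem F299283 : act 4 n56733 = n80148 := (sb E49676 (iv4 F123027))
theorem E53693 : n86046 = n57501 := ((F131989).symm.trans (sb E49676 F90660))
theorem E53694 : n57007 = n56735 := (((F91578).symm.trans (sb E49677 (iv5 D122737)))).symm
theorem F299284 : act 3 n18872 = n39179 := (sb E49679 F129975)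
theorem E53701 : n153205 = n83144 := (((D83144).symm.trans (sb E49682 (iv4 F240552)))).symm
theorem E53702 : n83146 = n60180 := ((D83146).symm.trans (sb E49682 (iv6 D128064)))
theorem E53703 : n153893 = n81519 := ((((iv4 F125370)).symm.trans (sb E49683 (iv4 F241848)))).symm
theorem E53704 : n154543 = n83149 := (((D83149).symm.trans (sb E49683 (iv6 F242590)))).symm
theorem E53705 : n83150 = n60211 := ((D83150).symm.trans (sb E49684 (iv6 D128122)))
theorem E53707 : n83152 = n33588 := (((F190726).symm.trans (sb E49685 D83152))).symm
theorem F299285 : act 3 n32521 = n18281 := (sb E49685 F59146)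
theorem E53708 : n83153 = n70084 := (((D70084).symm.trans (sb E49685 D83153))).symm
theorem F299286 : act 6 n32521 = n18280 := (sb E49685 (iv6 D38276))
theorem E53709 : n121660 = n75726 := ((((iv0 F113582)).symm.trans (sb E49686 D121660))).symm
theorem F299287 : act 0 n75646 = n36725 := (sb E49687 (iv1 F122552))
theorem F299288 : act 1 n75646 = n36737 := (sb E49687 (iv0 F122550))
theorem F299289 : act 2 n75646 = n36736 := (sb E49687 F122547)
theorem F299290 : act 5 n75646 = n36360 := (sb E49687 (iv5 D79821))
theorem F299291 : act 7 n75646 = n36735 := (sb E49687 F122549)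
theorem E53712 : n72455 = n40592 := (((F113356).symm.trans (sb E49689 (iv1 F240908)))).symm
theorem E53713 : n72453 = n45907 := (((D45907).symm.trans (sb E49691 (iv4 D153353)))).symm
theorem E53714 : n167735 = n45913 := (((D45913).symm.trans (sb E49693 D167735))).symm
theorem E53715 : n167736 = n45914 := (((D45914).symm.trans (sb E49693 D167736))).symm
theorem E53726 : n125411 = n121009 := (((D121009).symm.trans (sb E49715 F250761))).symm
theorem E53727 : n163868 = n121010 := (((D121010).symm.trans (sb E49715 (iv5 F258302)))).symm
theorem E53728 : n120932 = n76200 := (((iv7 F192844)).symm.trans (sb E49715 (iv7 D159273)))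
theorem E53731 : n120735 = n76195 := (((iv6 F192506)).symm.trans (sb E49724 (iv6 D159263)))
theorem F299296 : act 0 n55662 = n35876 := (sb E49725 (iv1 D78805))
theorem F299297 : act 2 n34804 = n26915 := (sb E49726 F88052)
theorem F299298 : act 6 n34804 = n26878 := (sb E49726 F88053)
theorem E53737 : n163396 = n36285 := (((D36285).symm.trans (sb E49727 D163396))).symm
theorem E53739 : n86865 = n36235 := ((((iv6 F56936)).symm.trans (sb E49727 (iv6 F133253)))).symm
theorem E53740 : n163399 = n36290 := (((D36290).symm.trans (sb E49728 D163399))).symm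
theorem E53741 : n39026 = n36234 := (((D36234).symm.trans (sb E49729 F61339))).symm
theorem F299299 : act 2 n17500 = n33961 := (sb E49729 F61335)
theorem E53743 : n36237 = n33911 := ((D36237).symm.trans (sb E49729 F61337))
theorem F299300 : act 0 n17290 = n8228 := (sb E49730 (iv1 D17499))
theorem F299301 : act 3 n16393 = n8255 := (sb E49731 F28482)
theorem F299302 : act 7 n16393 = n8228 := (sb E49731 (iv7 D17501))
theorem E53744 : n164987 = n163401 := (((D163401).symm.trans (sb E49732 (iv1 F260164)))).symm
theorem E53746 : n163790 = n163403 := (((D163403).symm.trans (sb E49732 (iv2 F258140)))).symm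
theorem E53747 : n163404 = n121635 := ((D163404).symm.trans (sb E49732 (iv5 F194090)))
theorem F299304 : act 7 n78529 = n36083 := (sb E49732 (iv7 D79272))
theorem F299305 : act 5 n56174 = n35775 := (sb E49733 (iv5 D78530))
theorem F299310 : act 5 n55758 = n26945 := (sb E49735 (iv5 D55857))
theorem E53753 : n163348 = n120959 := (((iv1 F257653)).symm.trans (sb E49737 (iv1 F192907)))
theorem E53754 : n163349 = n120958 := ((D163349).symm.trans (sb E49737 (iv2 F262484)))
theorem E53755 : n165834 = n163350 := (((D163350).symm.trans (sb E49737 D165834))).symm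
theorem E53759 : n163354 = n120957 := ((D163354).symm.trans (sb E49737 (iv7 F262488)))
theorem E53760 : n163805 = n163355 := (((D163355).symm.trans (sb E49738 (iv3 F258184)))).symm
theorem E53761 : n164089 = n163356 := (((D163356).symm.trans (sb E49738 (iv4 F258614)))).symm
theorem E53764 : n163345 = n120958 := ((D163345).symm.trans (sb E49739 (iv1 F192908)))
theorem E53765 : n163346 = n120957 := ((D163346).symm.trans (sb E49739 F192904))
theorem F299312 : act 3 n78501 = n120941 := (sb E49739 (iv3 F192859))
theorem F299313 : act 4 n78501 = n158102 := (sb E49739 (iv4 F249046))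
theorem E53772 : n121170 = n120961 := (((D120961).symm.trans (sb E49741 (iv6 F193234)))).symm
theorem F299314 : act 7 n55788 = n35766 := (sb E49741 (iv7 D78505))
theorem F299317 : act 2 n55790 = n35799 := (sb E49744 F88458)
theorem E53775 : n121174 = n120965 := (((D120965).symm.trans (sb E49744 (iv5 F193246)))).symm
theorem F299318 : act 7 n55790 = n26966 := (sb E49744 (iv7 D55911))
theorem F299319 : act 5 n80002 = n88665 := (sb E49757 (iv5 D186092))
theorem F299320 : act 4 n84287 = n78742 := (sb E49758 (iv4 D163910))
theorem F299322 : act 4 n166853 = n160391 := (sb E49760 F263147)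
theorem F299323 : act 6 n166853 = n80208 := (sb E49760 (iv6 D167075))
theorem F299325 : act 1 n78097 = n84792 := (sb E49762 F158040)
theorem F299326 : act 2 n78097 = n86512 := (sb E49762 F158036)
theorem E53814 : n177785 = n162617 := (((D162617).symm.trans (sb E49762 (iv4 F277271)))).symm
theorem F299327 : act 6 n78097 = n162165 := (sb E49762 (iv6 F256274))
theorem F299328 : act 7 n78097 = n47668 := (sb E49762 (iv7 D102782))
theorem E53815 : n162744 = n124647 := (((D124647).symm.trans (sb E49763 F270397))).symm
theorem F299329 : act 0 n78108 = n38478 := (sb E49764 (iv1 F128557))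
theorem F299330 : act 1 n78108 = n38473 := (sb E49764 (iv0 D83456))
theorem F299331 : act 2 n78108 = n88753 := (sb E49764 (iv2 F136143))
theorem E53816 : n174651 = n162635 := (((D162635).symm.trans (sb E49764 D174651))).symm
theorem E53817 : n174619 = n162636 := (((D162636).symm.trans (sb E49764 (iv5 F273478)))).symm
theorem F299332 : act 7 n78108 = n47670 := (sb E49764 F128558)
theorem E53818 : n162760 = n83467 := (((D83467).symm.trans (sb E49766 (iv3 F256987)))).symm
theorem F299333 : act 4 n38481 = n35655 := (sb E49766 F119414)
theorem E53819 : n162765 = n83468 := (((D83468).symm.trans (sb E49766 D162765))).symm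
theorem E53820 : n83469 = n35654 := ((D83469).symm.trans (sb E49766 (iv6 D78219)))
theorem F299334 : act 0 n41389 = n77059 := (sb E49768 (iv1 F121506))
theorem F299335 : act 1 n41389 = n77056 := (sb E49768 (iv0 F121505))
theorem F299336 : act 2 n41389 = n77151 := (sb E49768 F121409)
theorem F299337 : act 7 n41389 = n36392 := (sb E49768 F88343)
theorem E53821 : n79360 = n56208 := (((iv6 F121948)).symm.trans (sb E49770 (iv6 D121683)))
theorem E53823 : n79359 = n39217 := ((((iv0 F60187)).symm.trans (sb E49772 D79359))).symm
theorem F299340 : act 6 n27085 = n17511 := (sb E49772 F56872)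
theorem E53826 : n78145 = n56205 := (((D56205).symm.trans (sb E49773 D78145))).symm
theorem E53827 : n79357 = n56207 := (((D56207).symm.trans (sb E49774 D79357))).symm
theorem F299341 : act 1 n82414 = n56199 := (sb E49776 (iv0 D121669))
theorem E53828 : n172079 = n166369 := ((D172079).symm.trans (sb E49776 (iv5 F261960)))
theorem F299342 : act 0 n75736 = n56199 := (sb E49777 (iv1 D121670))
theorem F299343 : act 6 n75736 = n78141 := (sb E49777 F199353)
theorem F299344 : act 6 n121671 = n79613 := (sb E49778 F260364)
theorem F299346 : act 1 n121672 = n172077 := (sb E49779 (iv0 F270210))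
theorem F299347 : act 2 n121672 = n98130 := (sb E49779 F260365)
theorem F299348 : act 4 n38849 = n56197 := (sb E49781 (iv4 D121667))
theorem F299349 : act 4 n38850 = n56198 := (sb E49782 (iv4 D121668))
theorem F299350 : act 4 n173848 = n157788 := (sb E49783 F288730)
theorem F299351 : act 6 n173848 = n88640 := (sb E49783 F288731)
theorem E53831 : n162987 = n158830 := ((F272484).symm.trans (sb E49784 F288733))
theorem E53832 : n162986 = n158840 := ((F272485).symm.trans (sb E49784 F288734))
theorem F299352 : act 6 n160876 = n84286 := (sb E49786 (iv6 D176803))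
theorem F299353 : act 6 n166572 = n81647 := (sb E49787 (iv6 D170242))
theorem F299354 : act 7 n17214 = n17638 := (sb E49788 (iv7 D36561))
theorem E53833 : n160396 = n124437 := (((D124437).symm.trans (sb E49789 (iv3 F253343)))).symm
theorem E53834 : n160401 = n124438 := (((D124438).symm.trans (sb E49789 (iv5 F253347)))).symm
theorem E53835 : n84650 = n57868 := (((iv6 F129851)).symm.trans (sb E49789 F115504))
theorem F299355 : act 7 n58030 = n35133 := (sb E49789 (iv7 D76891))
theorem F299356 : act 2 n58034 = n35133 := (sb E49790 F115355)
theorem E53836 : n160290 = n124441 := (((D124441).symm.trans (sb E49790 D160290))).symm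
theorem E53837 : n160291 = n124442 := (((D124442).symm.trans (sb E49790 D160291))).symm
theorem F299357 : act 6 n58034 = n35115 := (sb E49790 F115356)
theorem F299358 : act 1 n76888 = n84771 := (sb E49791 F268467)
theorem F299359 : act 7 n76888 = n81909 := (sb E49791 (iv7 D170856))
theorem E53838 : n82898 = n70520 := ((D82898).symm.trans (sb E49793 (iv3 F106969)))
theorem F299360 : act 6 n38135 = n26941 := (sb E49793 (iv6 D55848))
theorem F299361 : act 6 n18302 = n38266 := (sb E49795 (iv6 D83127))
theorem E53841 : n162625 = n38502 := ((((iv3 F59351)).symm.trans (sb E49796 (iv3 F256857)))).symm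
theorem F299362 : act 6 n18352 = n35616 := (sb E49796 (iv6 D78104))
theorem E53842 : n174664 = n173824 := (((D173824).symm.trans (sb E49797 (iv3 F273520)))).symm
theorem F299363 : act 6 n83121 = n38478 := (sb E49797 (iv6 D83463))
theorem E53843 : n164952 = n86036 := (((D86036).symm.trans (sb E49798 D164952))).symm
theorem F299364 : act 6 n173322 = n166808 := (sb E49800 F280438)
theorem F299365 : act 0 n82582 = n80430 := (sb E49801 F194731)
theorem E53846 : n172484 = n150672 := (((iv3 F270681)).symm.trans (sb E49801 (iv3 F237217)))
theorem F299366 : act 4 n82582 = n56404 := (sb E49801 F194729)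
theorem F299367 : act 6 n78189 = n82948 := (sb E49802 (iv6 F250075))
theorem E53847 : n160622 = n38523 := (((D38523).symm.trans (sb E49804 (iv1 F256878)))).symm
theorem E53848 : n162639 = n38524 := (((D38524).symm.trans (sb E49804 D162639))).symm
theorem E53851 : n162627 = n38541 := (((D38541).symm.trans (sb E49805 (iv1 F256860)))).symm
theorem F299368 : act 4 n158807 = n77151 := (sb E49806 (iv4 D160792))
theorem E53854 : n166025 = n84841 := ((((iv3 F130038)).symm.trans (sb E49807 D166025))).symm
theorem F299369 : act 6 n176767 = n84839 := (sb E49808 (iv6 D178260))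
theorem F299370 : act 1 n78143 = n82950 := (sb E49809 (iv0 D173332))
theorem F299371 : act 2 n78143 = n83475 := (sb E49809 F271768)
theorem E53856 : n175033 = n162671 := (((D162671).symm.trans (sb E49809 (iv4 F273944)))).symm
theorem E53857 : n162673 = n83476 := ((D162673).symm.trans (sb E49809 (iv7 F271766)))
theorem E53858 : n162749 = n158863 := ((D162749).symm.trans (sb E49812 (iv5 F250116)))
theorem F299372 : act 3 n77788 = n77059 := (sb E49813 F123212)
theorem E53859 : n167073 = n124408 := ((((iv4 F198960)).symm.trans (sb E49813 D167073))).symm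
theorem F299373 : act 5 n77788 = n36536 := (sb E49813 (iv5 D80205))
theorem F299374 : act 6 n77788 = n121150 := (sb E49813 (iv6 F193210))
theorem F299376 : act 2 n83263 = n77164 := (sb E49814 F253795)
theorem F299377 : act 4 n83263 = n77059 := (sb E49814 (iv4 D160667))
theorem F299378 : act 6 n83263 = n121151 := (sb E49814 F253796)
theorem F299379 : act 7 n83263 = n77153 := (sb E49814 F253797)
theorem F299381 : act 6 n124587 = n87311 := (sb E49818 F284435)
theorem F299382 : act 0 n124588 = n181681 := (sb E49819 F284436)
theorem F299383 : act 1 n124588 = n181690 := (sb E49819 F284437)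
theorem F299384 : act 0 n84518 = n161099 := (sb E49820 (iv1 F284440))
theorem F299385 : act 1 n84518 = n163590 := (sb E49820 F284441)
theorem F299386 : act 4 n84524 = n81648 := (sb E49821 F267686)
theorem F299387 : act 6 n84524 = n160995 := (sb E49821 F267687)
theorem F299388 : act 4 n170247 = n177004 := (sb E49823 F282133)
theorem F299389 : act 0 n96675 = n79737 := (sb E49825 (iv1 F199282))
theorem F299390 : act 1 n96675 = n79735 := (sb E49825 F199281)
theorem F299391 : act 5 n96675 = n181233 := (sb E49825 (iv5 F282292))
theorem F299393 : act 7 n170240 = n86505 := (sb E49828 (iv7 D181143))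
theorem F299394 : act 2 n170241 = n162841 := (sb E49829 F282157)
theorem F299395 : act 7 n170241 = n86506 := (sb E49829 (iv7 D181148))
theorem E53861 : n79606 = n35731 := (((D35731).symm.trans (sb E49830 D79606))).symm
theorem F299396 : act 6 n17317 = n17507 := (sb E49830 (iv6 D36251))
theorem F299397 : act 0 n84563 = n86511 := (sb E49831 (iv1 F132712))
theorem E53862 : n177502 = n165648 := (((iv3 F276952)).symm.trans (sb E49831 (iv3 F260927)))
theorem E53863 : n177790 = n177506 := (((D177506).symm.trans (sb E49831 D177790))).symm
theorem E53865 : n77228 = n35382 := ((F115998).symm.trans (sb E49833 F57497))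
theorem E53866 : n161414 = n84797 := (((D84797).symm.trans (sb E49834 (iv6 F255267)))).symm
theorem F299398 : act 0 n77488 = n77336 := (sb E49835 (iv1 F254136))
theorem F299399 : act 1 n77488 = n77338 := (sb E49835 (iv0 F254135))
theorem F299400 : act 6 n77488 = n80358 := (sb E49835 F254130)
theorem F299401 : act 4 n170641 = n124606 := (sb E49836 F282279)
theorem F299402 : act 0 n84359 = n162900 := (sb E49838 (iv1 F282284))
theorem F299403 : act 1 n75996 = n80470 := (sb E49842 (iv0 F125517))
theorem E53868 : n159103 = n150641 := ((D159103).symm.trans (sb E49842 (iv3 F237185)))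
theorem F299404 : act 4 n75996 = n36383 := (sb E49842 (iv4 D79868))
theorem F299405 : act 4 n180024 = n166360 := (sb E49843 F282266)
theorem F299406 : act 7 n180024 = n166313 := (sb E49843 F282267)
theorem F299407 : act 7 n177204 = n162858 := (sb E49845 F282276)
theorem F299408 : act 0 n124611 = n88392 := (sb E49846 F282860)
theorem F299409 : act 2 n124611 = n121791 := (sb E49846 F282858)
theorem F299410 : act 4 n124611 = n86724 := (sb E49846 (iv4 D181708))
theorem F299411 : act 7 n124611 = n162855 := (sb E49846 F282859)
theorem F299412 : act 0 n78315 = n86033 := (sb E49848 (iv1 D180037))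
theorem F299413 : act 1 n80060 = n78822 := (sb E49849 (iv0 D164066))
theorem E53876 : n167896 = n125214 := (((D125214).symm.trans (sb E49859 (iv6 F264537)))).symm
theorem F299416 : act 0 n58576 = n36771 := (sb E49860 (iv1 D80581))
theorem F299417 : act 7 n58576 = n40160 := (sb E49860 (iv7 F123889))
theorem E53877 : n121467 = n119130 := (((D119130).symm.trans (sb E49861 D121467))).symm
theorem E53881 : n121399 = n119133 := (((D119133).symm.trans (sb E49861 (iv7 F193664)))).symm
theorem F299418 : act 0 n40284 = n27047 := (sb E49862 (iv1 F88673))
theorem F299419 : act 2 n40284 = n27049 := (sb E49862 F88670)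
theorem E53883 : n121403 = n86855 := (((D86855).symm.trans (sb E49862 (iv5 F193672)))).symm
theorem F299420 : act 7 n40284 = n27024 := (sb E49862 (iv7 D56016))
theorem E53884 : n121472 = n121449 := (((D121449).symm.trans (sb E49863 D121472))).symm
theorem E53885 : n121473 = n121450 := (((D121450).symm.trans (sb E49863 D121473))).symm
theorem E53888 : n121452 = n121400 := ((D121452).symm.trans (sb E49863 (iv7 F193666)))
theorem F299421 : act 4 n56014 = n36793 := (sb E49864 F88747)
theorem F299422 : act 6 n56014 = n35464 := (sb E49864 F88748)
theorem F299423 : act 7 n56014 = n27044 := (sb E49864 (iv7 D56073))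
theorem E53889 : n149813 = n70110 := (((iv3 F274241)).symm.trans (sb E49865 (iv3 D149318)))
theorem E53890 : n169820 = n161842 := ((D169820).symm.trans (sb E49865 F255813))
theorem E53891 : n169815 = n86745 := (((iv7 F267247)).symm.trans (sb E49865 F234741))
theorem E53892 : n169821 = n73428 := ((D169821).symm.trans (sb E49866 F243527))
theorem E53893 : n174739 = n119468 := ((((iv4 F188252)).symm.trans (sb E49866 (iv4 F273573)))).symm
theorem E53894 : n169823 = n73427 := ((D169823).symm.trans (sb E49866 (iv6 D154828)))
theorem F299424 : act 5 n81459 = n121941 := (sb E49870 F282220)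
theorem F299425 : act 1 n56631 = n27511 := (sb E49875 F90319)
theorem F299426 : act 2 n56631 = n27514 := (sb E49875 F90315)
theorem F299427 : act 6 n56631 = n76898 := (sb E49875 (iv6 F115523))
theorem F299428 : act 7 n56631 = n27421 := (sb E49875 (iv7 D57255))
theorem E53895 : n169879 = n151744 := ((D169879).symm.trans (sb E49876 (iv1 F238641)))
theorem E53897 : n151746 = n128395 := ((((iv2 F206514)).symm.trans (sb E49876 (iv2 F238644)))).symm
theorem E53898 : n181307 = n169881 := (((D169881).symm.trans (sb E49876 (iv5 F282377)))).symm
theorem F299429 : act 7 n81476 = n40130 := (sb E49876 (iv7 D86571))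
theorem E53899 : n181325 = n169883 := (((D169883).symm.trans (sb E49877 (iv4 F282404)))).symm
theorem F299430 : act 7 n81477 = n40134 := (sb E49877 (iv7 D86579))
theorem E53916 : n128234 = n38304 := (((D38304).symm.trans (sb E49885 F206366))).symm
theorem F299431 : act 4 n18291 = n36734 := (sb E49885 F123787)
theorem F299432 : act 6 n18291 = n36733 := (sb E49885 (iv6 D80521))
theorem E53917 : n173802 = n38309 := (((D38309).symm.trans (sb E49886 (iv3 F272385)))).symm
theorem F299433 : act 6 n18292 = n38256 := (sb E49886 (iv6 D83111))
theorem F299434 : act 4 n18398 = n35657 := (sb E49890 (iv4 D78229))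
theorem E53919 : n167615 = n38675 := (((D38675).symm.trans (sb E49892 (iv3 F263869)))).symm
theorem F299435 : act 5 n18399 = n36660 := (sb E49892 (iv5 D80441))
theorem E53922 : n167628 = n38680 := (((D38680).symm.trans (sb E49893 (iv3 F263897)))).symm
theorem F299436 : act 5 n18400 = n36665 := (sb E49893 (iv5 D80447))
theorem E53927 : n176219 = n38739 := (((D38739).symm.trans (sb E49895 (iv2 F275451)))).symm
theorem F299437 : act 6 n18422 = n38718 := (sb E49895 (iv6 D84047))
theorem F299438 : act 1 n18443 = n36733 := (sb E49897 (iv0 D80517))
theorem E53932 : n39147 = n7579 := (((D7579).symm.trans (sb E49898 (iv6 D84740)))).symm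
theorem E53933 : n39148 = n27582 := (((D27582).symm.trans (sb E49899 D39148))).symm
theorem E53936 : n170753 = n122557 := (((D122557).symm.trans (sb E49901 (iv1 F268342)))).symm
theorem E53937 : n122558 = n101013 := ((D122558).symm.trans (sb E49901 (iv0 F191125)))
theorem E53938 : n170751 = n33569 := (((F89927).symm.trans (sb E49901 F268333))).symm
theorem E53939 : n177774 = n122559 := (((D122559).symm.trans (sb E49901 D177774))).symm
theorem E53940 : n122560 = n39166 := ((D122560).symm.trans (sb E49901 F129843))
theorem E53943 : n122561 = n100730 := ((D122561).symm.trans (sb E49903 (iv3 F154831)))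
theorem E53944 : n170705 = n122562 := (((D122562).symm.trans (sb E49903 (iv5 F268220)))).symm
theorem F299439 : act 6 n56889 = n88642 := (sb E49903 (iv6 F135900))
theorem E53945 : n171036 = n122567 := (((D122567).symm.trans (sb E49904 (iv1 F268756)))).symm
theorem E53946 : n177775 = n120482 := ((((iv0 F191925)).symm.trans (sb E49904 D177775))).symm
theorem E53947 : n177776 = n122568 := (((D122568).symm.trans (sb E49904 D177776))).symm
theorem E53949 : n122569 = n39167 := ((D122569).symm.trans (sb E49904 F129845))
theorem F299440 : act 0 n18583 = n27581 := (sb E49905 (iv1 F89936))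
theorem F299441 : act 1 n18583 = n27580 := (sb E49905 F89938)
theorem F299442 : act 2 n18583 = n27579 := (sb E49905 F89932)
theorem F299443 : act 7 n18583 = n27309 := (sb E49905 (iv7 D56892))
theorem E53950 : n177779 = n122584 := (((D122584).symm.trans (sb E49907 D177779))).symm
theorem E53951 : n177780 = n122585 := (((D122585).symm.trans (sb E49907 D177780))).symm
theorem E53953 : n172033 = n166193 := (((D166193).symm.trans (sb E49908 D172033))).symm
theorem E53954 : n172034 = n166194 := (((D166194).symm.trans (sb E49908 D172034))).symm
theorem E53955 : n172035 = n166195 := (((D166195).symm.trans (sb E49908 D172035))).symm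
theorem F299445 : act 7 n79796 = n38697 := (sb E49908 F126905)
theorem E53957 : n172037 = n160603 := (((F253692).symm.trans (sb E49909 D172037))).symm
theorem E53958 : n172038 = n166196 := (((D166196).symm.trans (sb E49909 D172038))).symm
theorem E53959 : n172039 = n166197 := (((D166197).symm.trans (sb E49909 D172039))).symm
theorem F299446 : act 7 n79797 = n38699 := (sb E49909 F126907)
theorem E53960 : n172040 = n123599 := (((D123599).symm.trans (sb E49911 D172040))).symm
theorem E53961 : n172041 = n123600 := (((D123600).symm.trans (sb E49911 D172041))).symm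
theorem E53962 : n123591 = n101478 := (((iv2 F198004)).symm.trans (sb E49911 (iv2 F184752)))
theorem E53963 : n172042 = n123601 := (((D123601).symm.trans (sb E49911 D172042))).symm
theorem F299447 : act 2 n76999 = n38699 := (sb E49912 F126914)
theorem E53964 : n172044 = n160605 := (((D160605).symm.trans (sb E49912 D172044))).symm
theorem E53969 : n172047 = n166230 := ((D172047).symm.trans (sb E49914 (iv4 F261722)))
theorem F299448 : act 5 n82400 = n77163 := (sb E49914 (iv5 D160809))
theorem F299449 : act 1 n79822 = n37804 := (sb E49918 (iv0 D82415))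
theorem F299450 : act 2 n79822 = n38849 := (sb E49918 (iv2 F126972))
theorem E53972 : n172080 = n166248 := (((D166248).symm.trans (sb E49918 D172080))).symm
theorem E53973 : n172081 = n166249 := (((D166249).symm.trans (sb E49918 D172081))).symm
theorem F299451 : act 7 n79822 = n38850 := (sb E49918 F126974)
theorem F299452 : act 0 n79820 = n37804 := (sb E49919 (iv1 D82416))
theorem F299453 : act 2 n79820 = n38850 := (sb E49919 (iv2 F126968))
theorem E53974 : n172083 = n166245 := (((D166245).symm.trans (sb E49919 D172083))).symm
theorem E53975 : n172084 = n166246 := (((D166246).symm.trans (sb E49919 D172084))).symm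
theorem F299454 : act 6 n79820 = n124639 := (sb E49919 F199376)
theorem F299455 : act 7 n79820 = n38849 := (sb E49919 (iv7 F126969))
theorem E53976 : n178066 = n172089 := ((((iv3 F270228)).symm.trans (sb E49920 D178066))).symm
theorem F299456 : act 6 n82419 = n83133 := (sb E49920 F129963)
theorem E53977 : n70690 = n36492 := (((D36492).symm.trans (sb E49922 (iv0 F107149)))).symm
theorem E53978 : n118471 = n33205 := ((((iv2 F52427)).symm.trans (sb E49922 (iv2 F186310)))).symm
theorem F299457 : act 4 n17616 = n26394 := (sb E49922 F86261)
theorem E53979 : n36493 = n33168 := ((D36493).symm.trans (sb E49922 (tr (iv5 F186415) E50653)))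
theorem E53980 : n36494 = n33269 := ((D36494).symm.trans (sb E49922 F86262))
theorem F299458 : act 7 n17616 = n26390 := (sb E49922 (iv7 D54573))
theorem F299459 : act 1 n17618 = n36496 := (sb E49923 F57324)
theorem E53981 : n36600 = n36498 := (((D36498).symm.trans (sb E49923 (iv5 F57459)))).symm
theorem F299460 : act 7 n17618 = n8314 := (sb E49923 (iv7 D17651))
theorem E53984 : n118468 = n26383 := ((((iv2 F42113)).symm.trans (sb E49924 (iv2 F186301)))).symm
theorem E53985 : n77767 = n77690 := (((D77690).symm.trans (sb E49925 (iv5 D161933)))).symm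
theorem E53986 : n120604 = n77378 := (((D77378).symm.trans (sb E49926 (iv3 F192176)))).symm
theorem F299461 : act 6 n35327 = n36529 := (sb E49926 (iv6 D80193))
theorem E53988 : n161389 = n77226 := (((D77226).symm.trans (sb E49927 (iv5 F255211)))).symm
theorem E53989 : n161551 = n77227 := (((D77227).symm.trans (sb E49927 (iv6 F255547)))).symm
theorem E53990 : n121993 = n77483 := (((F116314).symm.trans (sb E49928 D121993))).symm
theorem F299462 : act 2 n35485 = n36579 := (sb E49928 F89304)
theorem F299463 : act 5 n35485 = n27165 := (sb E49928 (iv5 D56433))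
theorem E53992 : n121995 = n77480 := ((((iv7 F117141)).symm.trans (sb E49928 D121995))).symm
theorem F299464 : act 4 n36545 = n34642 := (sb E49930 F113611)
theorem E53993 : n80225 = n77807 := ((D80225).symm.trans (sb E49930 (iv5 F117865)))
theorem F299465 : act 6 n36545 = n34640 := (sb E49930 (iv6 D75745))
theorem E53995 : n80228 = n77808 := ((D80228).symm.trans (sb E49932 F194910))
theorem E53996 : n80400 = n80229 := (((D80229).symm.trans (sb E49932 (iv6 F194909)))).symm
theorem F299468 : act 5 n75784 = n121794 := (sb E49934 F259607)
theorem F299469 : act 7 n75784 = n79111 := (sb E49934 (iv7 D164634))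
theorem E53999 : n166953 = n77327 := (((D77327).symm.trans (sb E49935 F262818))).symm
theorem E54000 : n120232 = n77449 := (((D77449).symm.trans (sb E49936 (iv3 F191432)))).symm
theorem F299470 : act 6 n35368 = n36551 := (sb E49936 F123172)
theorem E54004 : n180774 = n121998 := (((D121998).symm.trans (sb E49937 (iv7 F281388)))).symm
theorem F299471 : act 0 n75352 = n37371 := (sb E49939 (iv1 D81754))
theorem F299472 : act 7 n75352 = n79151 := (sb E49939 F125674)
theorem E54005 : n75001 = n41476 := (((iv4 F112538)).symm.trans (sb E49940 F113469))
theorem E54006 : n158552 = n34556 := ((((iv5 F64255)).symm.trans (sb E49940 D158552))).symm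
theorem E54007 : n80212 = n34588 := ((D80212).symm.trans (sb E49940 (iv6 D75628)))
theorem F299473 : act 7 n36539 = n34589 := (sb E49940 F113470)
theorem F299474 : act 0 n19630 = n17633 := (sb E49941 (iv1 D36540))
theorem F299475 : act 1 n19630 = n18346 := (sb E49941 (iv0 F57390))
theorem E54008 : n41705 = n35961 := (((iv3 F64352)).symm.trans (sb E49941 (iv3 F57388)))
theorem E54009 : n41708 = n34555 := ((D41708).symm.trans (sb E49941 (iv5 F64251)))
theorem F299476 : act 7 n19630 = n35354 := (sb E49941 F57389)
theorem F299477 : act 1 n36541 = n34589 := (sb E49942 (iv0 D75629))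
theorem E54011 : n101675 = n80214 := (((D80214).symm.trans (sb E49942 F156578))).symm
theorem E54012 : n83533 = n80216 := (((D80216).symm.trans (sb E49944 F286958))).symm
theorem E54013 : n83885 = n80218 := (((D80218).symm.trans (sb E49944 F136987))).symm
theorem E54018 : n54575 = n41702 := (((F113269).symm.trans (sb E49949 F186316))).symm
theorem E54019 : n119400 = n82987 := (((D82987).symm.trans (sb E49949 (iv6 F188125)))).symm
theorem E54020 : n54579 = n41703 := ((((iv7 F113266)).symm.trans (sb E49949 F186317))).symm
theorem E54021 : n120194 = n60079 := ((F189849).symm.trans (sb E49950 (iv3 D127906)))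
theorem E54022 : n172606 = n154151 := ((D172606).symm.trans (sb E49950 (iv6 F242231)))
theorem E54023 : n158136 = n153264 := (((iv7 F249085)).symm.trans (sb E49950 (iv7 F240777)))
theorem E54024 : n158302 = n72064 := ((D158302).symm.trans (sb E49952 (iv1 D152728)))
theorem E54025 : n158309 = n77813 := ((D158309).symm.trans (sb E49954 (iv1 D162000)))
theorem E54026 : n167404 = n158310 := (((D158310).symm.trans (sb E49954 (iv4 F263533)))).symm
theorem F299480 : act 0 n17648 = n8314 := (sb E49955 (iv1 D17649))
theorem E54028 : n36596 = n36591 := (((D36591).symm.trans (sb E49955 D36596))).symm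
theorem F299481 : act 7 n17648 = n36496 := (sb E49955 (iv7 F117039))
theorem F299482 : act 0 n38783 = n18440 := (sb E49956 (iv1 D38784))
theorem F299483 : act 3 n38783 = n18497 := (sb E49956 F123047)
theorem E54029 : n77743 = n77474 := ((F123054).symm.trans (sb E49956 F123048))
theorem F299484 : act 6 n38783 = n18494 := (sb E49956 F123050)
theorem F299485 : act 7 n38783 = n37370 := (sb E49956 F123051)
theorem F299486 : act 1 n75472 = n79111 := (sb E49957 F123412)
theorem F299487 : act 3 n75472 = n34735 := (sb E49957 F117859)
theorem E54054 : n55722 = n16403 := ((((iv0 F25895)).symm.trans (sb E49965 (iv0 F124508)))).symm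
theorem E54059 : n71814 = n60082 := (((iv2 F108269)).symm.trans (sb E49970 (iv2 F191033)))
theorem E54061 : n120195 = n60140 := ((D120195).symm.trans (sb E49970 (iv6 F191034)))
theorem E54062 : n71590 = n28564 := (((F51524).symm.trans (sb E49971 (iv3 D151856)))).symm
theorem F299488 : act 7 n55307 = n60135 := (sb E49972 (iv7 D127991))
theorem F299489 : act 6 n33184 = n60073 := (sb E49973 (iv6 D127893))
theorem E54065 : n162717 = n158694 := (((D158694).symm.trans (sb E49976 F272398))).symm
theorem F299491 : act 4 n75775 = n158218 := (sb E49978 F263860)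
theorem F299492 : act 6 n75775 = n80431 := (sb E49978 (iv6 D167597))
theorem F299493 : act 2 n58247 = n38262 := (sb E49980 F128089)
theorem F299494 : act 5 n58247 = n38244 := (sb E49980 (iv5 D83092))
theorem F299495 : act 7 n58247 = n38267 := (sb E49980 F128091)
theorem F299496 : act 1 n75779 = n78189 := (sb E49981 F193050)
theorem F299497 : act 7 n75787 = n80430 := (sb E49983 (iv7 F195918))
theorem F299498 : act 0 n75788 = n78189 := (sb E49984 (iv1 F193049))
theorem F299499 : act 0 n38474 = n34619 := (sb E49985 (iv1 D75710))
theorem E54066 : n158715 = n83459 := (((D83459).symm.trans (sb E49985 D158715))).symm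
theorem E54067 : n162746 = n158862 := (((D158862).symm.trans (sb E49987 F272456))).symm
theorem F299500 : act 3 n12816 = n7854 := (sb E49988 F27589)
theorem F299501 : act 5 n12816 = n7852 := (sb E49988 (iv5 D16841))
theorem F299502 : act 6 n12816 = n17062 := (sb E49988 (iv6 F27998))
theorem E54068 : n153255 = n100810 := ((((iv4 F154907)).symm.trans (sb E49990 (iv4 F240758)))).symm
theorem F299503 : act 6 n55360 = n37566 := (sb E49990 (iv6 D82001))
theorem E54070 : n120298 = n89308 := ((D120298).symm.trans (sb E49991 (iv3 F286786)))
theorem E54072 : n122458 = n120299 := (((D120299).symm.trans (sb E49991 F236126))).symm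
theorem E54081 : n171414 = n120304 := (((D120304).symm.trans (sb E49994 D171414))).symm
theorem E54087 : n171419 = n120308 := (((D120308).symm.trans (sb E49996 D171419))).symm
theorem E54089 : n171421 = n120310 := (((D120310).symm.trans (sb E49997 D171421))).symm
theorem E54090 : n122451 = n120312 := (((D120312).symm.trans (sb E49997 F195901))).symm
theorem E54091 : n120317 = n85871 := ((D120317).symm.trans (sb E49998 (iv4 F131727)))
theorem F299504 : act 3 n12829 = n26755 := (sb E50000 (iv3 F117336))
theorem E54094 : n158131 = n45993 := ((D158131).symm.trans (sb E50002 (iv6 D98296)))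
theorem E54095 : n158132 = n47128 := ((D158132).symm.trans (sb E50003 (iv1 F126416)))
theorem E54096 : n158133 = n37560 := ((D158133).symm.trans (sb E50003 (iv0 D81996)))
theorem E54097 : n158134 = n55617 := ((D158134).symm.trans (sb E50003 F126413))
theorem E54098 : n158135 = n87976 := ((D158135).symm.trans (sb E50003 (iv7 F134975)))
theorem E54099 : n158139 = n100045 := ((D158139).symm.trans (sb E50004 (iv6 F153977)))
theorem F299506 : act 7 n75335 = n77163 := (sb E50007 F123798)
theorem F299507 : act 6 n75337 = n77147 := (sb E50008 (iv6 D160785))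
theorem F299508 : act 7 n75356 = n80511 := (sb E50012 F261715)
theorem F299509 : act 0 n78192 = n37887 := (sb E50018 (iv1 D82521))
theorem E54102 : n172307 = n162718 := (((D162718).symm.trans (sb E50018 D172307))).symm
theorem E54103 : n172308 = n160636 := ((D172308).symm.trans (sb E50020 F272396))
theorem E54104 : n172309 = n162701 := ((D172309).symm.trans (sb E50020 F272397))
theorem E54105 : n172311 = n162988 := ((D172311).symm.trans (sb E50020 F272395))
theorem F299510 : act 1 n82523 = n83091 := (sb E50022 (iv0 D173752))
theorem E54106 : n153257 = n33168 := ((D153257).symm.trans (sb E50023 (tr (iv0 F116264) E53979)))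
theorem F299511 : act 4 n72382 = n76809 := (sb E50023 F116263)
theorem E54107 : n153258 = n35370 := ((D153258).symm.trans (sb E50023 (iv5 D77456)))
theorem E54108 : n158399 = n33417 := (((D33417).symm.trans (sb E50024 (iv1 F249583)))).symm
theorem E54109 : n80626 = n33418 := (((D33418).symm.trans (sb E50024 (iv0 F127141)))).symm
theorem E54110 : n71540 = n33408 := ((((iv3 F52667)).symm.trans (sb E50024 F127140))).symm
theorem E54111 : n86372 = n33419 := (((D33419).symm.trans (sb E50024 (iv5 F132393)))).symm
theorem F299512 : act 1 n72385 = n37896 := (sb E50025 (iv0 F116262))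
theorem E54112 : n153260 = n78064 := ((D153260).symm.trans (sb E50025 F119259))
theorem E54113 : n161339 = n128199 := ((((iv6 F206336)).symm.trans (sb E50025 D161339))).symm
theorem E54114 : n150665 = n100809 := (((D100809).symm.trans (sb E50026 F240575))).symm
theorem F299513 : act 4 n33389 = n37873 := (sb E50027 F125497)
theorem E54115 : n72352 = n37289 := (((iv5 F108800)).symm.trans (sb E50027 (iv5 D81600)))
theorem F299514 : act 6 n71037 = n37873 := (sb E50029 (iv6 D82497))
theorem F299515 : act 3 n36847 = n32825 := (sb E50030 F57983)
theorem E54120 : n81095 = n49003 := ((((iv5 F77347)).symm.trans (sb E50030 D81095))).symm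
theorem E54121 : n81096 = n80707 := (((D80707).symm.trans (sb E50030 D81096))).symm
theorem F299516 : act 1 n13610 = n17755 := (sb E50033 (iv0 D36845))
theorem E54123 : n79329 = n28542 := (((D28542).symm.trans (sb E50033 (iv5 F121919)))).symm
theorem E54124 : n81091 = n34988 := ((((iv3 F57782)).symm.trans (sb E50034 D81091))).symm
theorem E54125 : n79330 = n62914 := ((F121927).symm.trans (sb E50034 (iv5 F189882)))
theorem E54126 : n80706 = n28586 := ((D80706).symm.trans (sb E50034 (iv6 F189883)))
theorem E54127 : n81097 = n80708 := (((D80708).symm.trans (sb E50035 D81097))).symm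
theorem E54128 : n80709 = n60335 := ((D80709).symm.trans (sb E50035 (iv0 F189884)))
theorem E54129 : n69170 = n45137 := ((((iv4 F71122)).symm.trans (sb E50035 (iv4 F190806)))).symm
theorem E54130 : n81100 = n80710 := (((D80710).symm.trans (sb E50035 D81100))).symm
theorem E54131 : n81101 = n80711 := (((D80711).symm.trans (sb E50036 D81101))).symm
theorem E54132 : n81102 = n80712 := (((D80712).symm.trans (sb E50036 D81102))).symm
theorem E54133 : n80713 = n58546 := ((D80713).symm.trans (sb E50036 (iv5 F92481)))
theorem E54134 : n80714 = n79860 := ((D80714).symm.trans (sb E50036 (iv7 F122608)))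
theorem E54135 : n69157 = n38029 := (((F297031).symm.trans (sb E50038 F240560))).symm
theorem E54136 : n98761 = n69195 := ((F298370).symm.trans (sb E50039 (iv0 D147647)))
theorem E54137 : n154618 = n120686 := ((((iv5 F192395)).symm.trans (sb E50039 (iv5 F242711)))).symm
theorem E54138 : n172249 = n153268 := ((D172249).symm.trans (sb E50041 F266174))
theorem E54139 : n172250 = n128270 := ((D172250).symm.trans (sb E50041 (iv5 F266176)))
theorem E54141 : n172254 = n75043 := ((D172254).symm.trans (sb E50042 F248376))
theorem E54142 : n172255 = n128271 := ((D172255).symm.trans (sb E50042 F248377))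
theorem E54143 : n172256 = n75041 := ((D172256).symm.trans (sb E50042 (iv6 D157620)))
theorem E54144 : n172258 = n124768 := ((D172258).symm.trans (sb E50043 F266178))
theorem E54146 : n147581 = n128092 := ((((iv4 F206166)).symm.trans (sb E50059 F240611))).symm
theorem F299517 : act 0 n75500 = n37829 := (sb E50060 (iv1 D82456))
theorem E54148 : n172181 = n158336 := (((D158336).symm.trans (sb E50060 D172181))).symm
theorem F299518 : act 1 n75501 = n37829 := (sb E50061 F123786)
theorem E54149 : n158337 = n153594 := ((D158337).symm.trans (sb E50061 F241419))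
theorem F299519 : act 5 n75501 = n36733 := (sb E50061 (iv5 D80520))
theorem E54151 : n172183 = n158339 := (((D158339).symm.trans (sb E50062 (iv1 F270350)))).symm
theorem E54152 : n172182 = n158340 := (((D158340).symm.trans (sb E50062 F270349))).symm
theorem F299520 : act 0 n54727 = n60135 := (sb E50066 F188358)
theorem F299521 : act 1 n56792 = n121959 := (sb E50068 (iv0 F262653))
theorem F299522 : act 1 n27473 = n18786 := (sb E50070 (iv0 D39697))
theorem F299523 : act 7 n27473 = n18796 := (sb E50070 (iv7 F117375))
theorem F299524 : act 3 n39183 = n34554 := (sb E50071 F121151)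
theorem F299525 : act 6 n39183 = n26771 := (sb E50071 (iv6 D55422))
theorem E54166 : n172191 = n158346 := (((D158346).symm.trans (sb E50072 D172191))).symm
theorem F299526 : act 0 n75521 = n77163 := (sb E50074 F151620)
theorem F299527 : act 5 n15995 = n8299 := (sb E50097 (iv5 D17617))
theorem E54182 : n63676 = n36496 := (((D36496).symm.trans (sb E50098 D63676))).symm
theorem E54183 : n36498 = n14260 := ((D36498).symm.trans (sb E50098 (iv5 D30050)))
theorem E54184 : n133162 = n17208 := ((((iv5 F299282)).symm.trans (sb E50099 F213930))).symm
theorem E54188 : n118626 = n26389 := (((D26389).symm.trans (sb E50100 (iv5 F186598)))).symm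
theorem F299528 : act 4 n13015 = n26417 := (sb E50101 F86334)
theorem E54189 : n29905 = n27167 := (((D27167).symm.trans (sb E50101 F86336))).symm
theorem E54191 : n119978 = n35374 := (((D35374).symm.trans (sb E50104 (iv6 F189399)))).symm
theorem E54192 : n150340 = n26612 := ((((iv3 F42623)).symm.trans (sb E50105 D150340))).symm
theorem E54193 : n61576 = n27045 := (((D27045).symm.trans (sb E50105 (iv6 F107287)))).symm
theorem E54195 : n128473 = n80172 := (((D80172).symm.trans (sb E50107 (iv6 F206612)))).symm
theorem E54196 : n168919 = n54948 := ((((iv3 F86920)).symm.trans (sb E50108 D168919))).symm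
theorem E54197 : n80173 = n61075 := ((D80173).symm.trans (sb E50108 (iv6 F185274)))
theorem E54203 : n33166 = n8866 := ((D33166).symm.trans (sb E50110 F28472))
theorem F299529 : act 4 n15994 = n16759 := (sb E50110 F28473)
theorem F299530 : act 5 n15994 = n8223 := (sb E50110 (iv5 D17479))
theorem E54204 : n36153 = n33167 := (((D33167).symm.trans (sb E50110 D36153))).symm
theorem F299531 : act 7 n15994 = n22093 := (sb E50110 (iv7 F34560))
theorem E54205 : n131732 = n75555 := (((D75555).symm.trans (sb E50111 D131732))).symm
theorem E54206 : n130445 = n75556 := (((D75556).symm.trans (sb E50111 (iv0 F211080)))).symm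
theorem E54207 : n131734 = n75557 := (((D75557).symm.trans (sb E50111 D131734))).symm
theorem E54209 : n36150 = n33584 := ((D36150).symm.trans (sb E50117 (iv1 F190398)))
theorem E54210 : n36151 = n33742 := ((D36151).symm.trans (sb E50117 (iv0 F190399)))
theorem E54211 : n33612 = n21888 := ((((iv2 F34363)).symm.trans (sb E50117 F190747))).symm
theorem E54212 : n36152 = n26619 := ((D36152).symm.trans (sb E50117 (iv6 D55080)))
theorem F299532 : act 6 n12721 = n8223 := (sb E50118 (iv6 D17480))
theorem E54214 : n153848 = n4917 := ((((iv3 F7342)).symm.trans (sb E50119 (iv3 F241722)))).symm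
theorem E54215 : n153850 = n9088 := (((D9088).symm.trans (sb E50119 (iv4 F241728)))).symm
theorem E54216 : n33572 = n9089 := (((D9089).symm.trans (sb E50119 (iv6 D72775)))).symm
theorem E54218 : n154481 = n8888 := (((F17265).symm.trans (sb E50120 (iv4 F242529)))).symm
theorem E54219 : n153843 = n22683 := (((D22683).symm.trans (sb E50120 (iv6 F241711)))).symm
theorem E54222 : n33610 = n22689 := (((D22689).symm.trans (sb E50121 (iv6 D72903)))).symm
theorem E54223 : n41133 = n33664 := ((D41133).symm.trans (sb E50122 (iv1 F191181)))
theorem E54224 : n41134 = n27543 := ((D41134).symm.trans (sb E50122 F191176))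
theorem E54225 : n119718 = n41135 := (((D41135).symm.trans (sb E50122 D119718))).symm
theorem E54226 : n41136 = n33615 := ((D41136).symm.trans (sb E50122 F190744))
theorem E54227 : n123456 = n122303 := (((D122303).symm.trans (sb E50123 D123456))).symm
theorem E54228 : n123457 = n122304 := (((D122304).symm.trans (sb E50123 D123457))).symm
theorem F299533 : act 7 n18610 = n27227 := (sb E50124 (iv7 D56627))
theorem E54237 : n180525 = n160426 := (((D160426).symm.trans (sb E50163 D180525))).symm
theorem F299535 : act 6 n76902 = n81904 := (sb E50163 F132169)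
theorem F299536 : act 5 n39913 = n39897 := (sb E50164 (iv5 D86207))
theorem E54239 : n165719 = n76183 := ((D165719).symm.trans (sb E50167 (iv6 D159243)))
theorem E54240 : n165721 = n76184 := (((D76184).symm.trans (sb E50168 D165721))).symm
theorem F299540 : act 6 n34799 = n36248 := (sb E50168 (iv6 D79595))
theorem F299541 : act 3 n17073 = n27675 := (sb E50169 (iv3 D58029))
theorem F299542 : act 6 n159236 = n78602 := (sb E50171 F257371)
theorem F299543 : act 0 n159237 = n181131 := (sb E50172 (iv1 F282125))
theorem F299544 : act 1 n159237 = n78314 := (sb E50172 (iv0 D162911))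
theorem F299545 : act 2 n159237 = n123196 := (sb E50172 (iv2 F257229))
theorem F299546 : act 6 n57252 = n39884 := (sb E50173 (iv6 F124352))
theorem F299547 : act 3 n34736 = n76015 := (sb E50175 F196395)
theorem F299548 : act 5 n48516 = n89999 := (sb E50176 F283212)
theorem F299549 : act 3 n58086 = n39883 := (sb E50177 (iv3 D86170))
theorem F299551 : act 7 n27067 = n17235 := (sb E50181 (iv7 D35570))
theorem F299552 : act 1 n86160 = n121280 := (sb E50182 (iv0 F256377))
theorem F299553 : act 7 n86160 = n77942 := (sb E50182 (iv7 D162238))
theorem F299554 : act 0 n77961 = n120953 := (sb E50184 (iv1 F194028))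
theorem F299555 : act 0 n157881 = n77942 := (sb E50185 (iv1 D162236))
theorem F299556 : act 7 n157881 = n121280 := (sb E50185 F256372)
theorem E54246 : n125316 = n124212 := (((D124212).symm.trans (sb E50186 (iv1 F201561)))).symm
theorem F299557 : act 5 n57911 = n75212 := (sb E50186 F129957)
theorem F299558 : act 0 n81639 = n55827 := (sb E50188 (iv1 D121029))
theorem F299559 : act 6 n81639 = n78560 := (sb E50188 (iv6 F248669))
theorem F299560 : act 1 n35797 = n55790 := (sb E50189 (iv0 D120963))
theorem F299561 : act 4 n163478 = n78586 := (sb E50191 (iv4 D163550))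
theorem F299562 : act 6 n163478 = n177333 := (sb E50191 (iv6 F276716))
theorem F299563 : act 7 n163478 = n164177 := (sb E50191 (iv7 F258735))
theorem F299564 : act 2 n84481 = n170156 := (sb E50192 (iv2 F267668))
theorem F299565 : act 6 n84481 = n78559 := (sb E50192 (iv6 F257258))
theorem E54249 : n170155 = n120654 := ((((iv7 F192318)).symm.trans (sb E50192 (iv7 F267664)))).symm
theorem F299566 : act 2 n95261 = n79735 := (sb E50194 F194205)
theorem F299567 : act 7 n95261 = n79737 := (sb E50194 F194206)
theorem F299568 : act 2 n95264 = n79737 := (sb E50195 F194203)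
theorem F299569 : act 6 n95264 = n161099 := (sb E50195 (iv6 F254665))
theorem F299570 : act 7 n95264 = n79735 := (sb E50195 F194204)
theorem F299571 : act 0 n36250 = n78509 := (sb E50196 (iv1 F119693))
theorem F299576 : act 4 n158857 = n80003 := (sb E50199 F262345)
theorem F299577 : act 7 n158857 = n80000 := (sb E50199 (iv7 D166687))
theorem E54254 : n165809 = n163523 := ((((iv2 F257795)).symm.trans (sb E50200 (iv2 F261215)))).symm
theorem F299578 : act 6 n78583 = n36264 := (sb E50200 (iv6 D79635))
theorem E54263 : n36556 = n35508 := ((((iv6 F91305)).symm.trans (sb E50203 F88816))).symm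
theorem F299580 : act 5 n17288 = n17447 := (sb E50206 (iv5 D36052))
theorem E54268 : n163575 = n121175 := (((D121175).symm.trans (sb E50207 D163575))).symm
theorem F299581 : act 1 n121283 = n86160 := (sb E50209 (iv0 F193424))
theorem F299582 : act 2 n121283 = n157881 := (sb E50209 (iv2 F248797))
theorem F299583 : act 3 n121283 = n163541 := (sb E50209 (iv3 F257804))
theorem E54271 : n84558 = n76173 := ((F193399).symm.trans (sb E50209 F193422))
theorem E54273 : n84753 = n57919 := (((D57919).symm.trans (sb E50212 D84753))).symm
theorem F299584 : act 5 n122582 = n178101 := (sb E50214 (iv5 F277643))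
theorem F299585 : act 4 n122583 = n79736 := (sb E50215 (iv4 D166081))
theorem F299586 : act 5 n122583 = n178100 := (sb E50215 (iv5 F277637))
theorem E54278 : n178041 = n124210 := (((D124210).symm.trans (sb E50216 D178041))).symm
theorem E54279 : n178043 = n124214 := (((D124214).symm.trans (sb E50217 D178043))).symm
theorem E54280 : n178044 = n124215 := (((D124215).symm.trans (sb E50217 D178044))).symm
theorem F299590 : act 7 n57430 = n56715 := (sb E50222 (iv7 D122394))
theorem F299591 : act 0 n37558 = n57939 := (sb E50223 (iv1 F121523))
theorem E54285 : n178121 = n123312 := (((F198774).symm.trans (sb E50225 (iv1 F277676)))).symm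
theorem F299592 : act 7 n55947 = n75211 := (sb E50226 (iv7 D157880))
theorem F299593 : act 6 n121798 = n79788 := (sb E50229 (iv6 D166176))
theorem F299594 : act 6 n36336 = n56275 := (sb E50231 F192591)
theorem E54287 : n86103 = n79779 := (((D79779).symm.trans (sb E50240 (iv3 F132059)))).symm
theorem E54289 : n80451 = n54732 := ((((iv4 F86548)).symm.trans (sb E50241 (iv4 F123658)))).symm
theorem F299597 : act 6 n27147 = n17671 := (sb E50241 (iv6 D36673))
theorem E54290 : n180135 = n163482 := ((D180135).symm.trans (sb E50244 (iv5 F282132)))
theorem F299598 : act 1 n86032 = n79741 := (sb E50245 (iv0 D166095))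
theorem E54291 : n181324 = n180034 := (((D180034).symm.trans (sb E50245 (iv4 F282402)))).symm
theorem F299599 : act 0 n166080 = n180023 := (sb E50247 (iv1 F280406))
theorem F299600 : act 1 n166080 = n177347 := (sb E50247 (iv0 F276734))
theorem F299601 : act 0 n166083 = n177347 := (sb E50250 (iv1 F276735))
theorem F299602 : act 1 n166083 = n180023 := (sb E50250 F280407)
theorem F299603 : act 4 n96729 = n56385 := (sb E50251 (iv4 D121943))
theorem F299604 : act 7 n96729 = n80485 := (sb E50251 F194677)
theorem F299605 : act 1 n160491 = n121068 := (sb E50252 (iv0 F257222))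
theorem F299606 : act 1 n162899 = n81649 := (sb E50253 (iv0 D170248))
theorem F299607 : act 0 n162895 = n81649 := (sb E50254 (iv1 D170249))
theorem F299610 : act 0 n78327 = n84481 := (sb E50260 F276637)
theorem E54300 : n163097 = n120972 := (((D120972).symm.trans (sb E50266 (iv2 F257418)))).symm
theorem F299613 : act 0 n38801 = n79820 := (sb E50267 (iv1 D166244))
theorem F299614 : act 1 n38801 = n79822 := (sb E50267 F261743)
theorem E54304 : n120835 = n119508 := (((iv3 F192726)).symm.trans (sb E50269 F188489))
theorem E54305 : n160633 = n158676 := ((D160633).symm.trans (sb E50269 F249839))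
theorem F299615 : act 6 n77024 = n38670 := (sb E50269 F128341)
theorem E54306 : n173246 = n124412 := (((D124412).symm.trans (sb E50270 (iv3 F271585)))).symm
theorem E54307 : n158675 = n124413 := (((D124413).symm.trans (sb E50270 (iv5 F249834)))).symm
theorem E54313 : n120926 = n76198 := (((D76198).symm.trans (sb E50273 (iv3 F192839)))).symm
theorem F299620 : act 7 n34805 = n26915 := (sb E50273 (iv7 D55775))
theorem F299621 : act 0 n166619 = n84533 := (sb E50281 (iv1 D177427))
theorem F299622 : act 2 n166619 = n177332 := (sb E50281 (iv2 F276853))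
theorem F299623 : act 7 n166619 = n177334 := (sb E50281 F276851)
theorem F299624 : act 1 n166620 = n84533 := (sb E50282 (iv0 D177426))
theorem F299625 : act 2 n166620 = n177334 := (sb E50282 (iv2 F276848))
theorem F299626 : act 7 n166620 = n177332 := (sb E50282 (iv7 F276849))
theorem F299627 : act 5 n166621 = n84453 := (sb E50283 (iv5 D177261))
theorem E54315 : n84441 = n35707 := ((((iv3 F56384)).symm.trans (sb E50285 (iv3 F129582)))).symm
theorem E54317 : n162869 = n84438 := (((D84438).symm.trans (sb E50286 D162869))).symm
theorem E54318 : n119548 = n84439 := (((D84439).symm.trans (sb E50286 (iv0 F188532)))).symm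
theorem F299630 : act 1 n84360 = n167651 := (sb E50290 F282087)
theorem F299631 : act 6 n84467 = n86706 := (sb E50291 (iv6 D181675))
theorem F299632 : act 0 n167687 = n84453 := (sb E50292 (iv1 D177259))
theorem F299633 : act 2 n167687 = n169812 := (sb E50292 (iv2 F276654))
theorem F299634 : act 4 n167687 = n95241 := (sb E50292 F276653)
theorem F299635 : act 7 n167687 = n177298 := (sb E50292 (iv7 F276676))
theorem F299636 : act 1 n34801 = n27479 := (sb E50295 F90290)
theorem F299637 : act 2 n34801 = n27482 := (sb E50295 F90285)
theorem F299638 : act 5 n34801 = n27415 := (sb E50295 F90286)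
theorem F299639 : act 7 n34801 = n27414 := (sb E50295 (iv7 D57235))
theorem F299640 : act 7 n18548 = n18019 := (sb E50296 (iv7 D37559))
theorem F299642 : act 0 n58721 = n57930 := (sb E50298 (iv1 D124253))
theorem F299643 : act 3 n58721 = n81905 := (sb E50298 (iv3 F254807))
theorem F299644 : act 5 n57934 = n81905 := (sb E50299 F132166)
theorem F299645 : act 6 n57934 = n39897 := (sb E50299 (iv6 D86208))
theorem F299646 : act 2 n124213 = n86213 := (sb E50300 (iv2 F280957))
theorem F299647 : act 6 n124213 = n81905 := (sb E50300 F201559)
theorem F299648 : act 0 n17072 = n26915 := (sb E50303 (iv1 D55772))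
theorem E54333 : n164933 = n18857 := (((D18857).symm.trans (sb E50304 (iv4 F260036)))).symm
theorem E54334 : n79568 = n18862 := (((D18862).symm.trans (sb E50305 F197707))).symm
theorem E54341 : n79197 = n39068 := (((D39068).symm.trans (sb E50309 D79197))).symm
theorem F299649 : act 6 n18555 = n17450 := (sb E50309 F56794)
theorem F299650 : act 1 n84544 = n166617 := (sb E50317 (iv0 F262220))
theorem F299651 : act 5 n84544 = n78327 := (sb E50317 (iv5 D162929))
theorem E54349 : n77979 = n77870 := ((D77979).symm.trans (sb E50319 F119086))
theorem E54355 : n167540 = n167499 := (((D167499).symm.trans (sb E50331 D167540))).symm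
theorem E54357 : n160932 = n77494 := (((iv6 F254138)).symm.trans (sb E50331 F123569))
theorem E54358 : n162327 = n162087 := ((((iv0 F256178)).symm.trans (sb E50332 F256471))).symm
theorem E54359 : n174373 = n162324 := ((D174373).symm.trans (sb E50332 F263762))
theorem E54360 : n80334 = n80322 := ((((iv4 F128447)).symm.trans (sb E50335 (iv4 F249205)))).symm
theorem E54361 : n161854 = n121557 := (((D121557).symm.trans (sb E50336 (iv6 F283091)))).symm
theorem F299663 : act 3 n77733 = n76942 := (sb E50337 F128453)
theorem F299665 : act 0 n57889 = n39186 := (sb E50342 (iv1 F129878))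
theorem F299666 : act 1 n57889 = n39185 := (sb E50342 F129879)
theorem E54365 : n177800 = n124188 := (((D124188).symm.trans (sb E50342 (iv3 F277299)))).symm
theorem E54366 : n177805 = n124189 := (((D124189).symm.trans (sb E50342 (iv5 F277315)))).symm
theorem F299667 : act 7 n57889 = n39101 := (sb E50342 (iv7 D84660))
theorem F299668 : act 0 n84653 = n55374 := (sb E50343 (iv1 D120324))
theorem F299669 : act 3 n84653 = n75360 := (sb E50343 F191622)
theorem F299670 : act 2 n57929 = n39179 := (sb E50344 F129863)
theorem E54367 : n177788 = n124251 := (((D124251).symm.trans (sb E50344 (iv4 F277279)))).symm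
theorem F299672 : act 6 n57929 = n39099 := (sb E50344 (iv6 D84654))
theorem F299673 : act 1 n27267 = n55374 := (sb E50346 (iv0 F121154))
theorem F299674 : act 5 n27267 = n39020 := (sb E50346 (iv5 F60029))
theorem F299675 : act 2 n34734 = n55484 := (sb E50348 F149095)
theorem F299676 : act 0 n159112 = n80585 := (sb E50349 F250510)
theorem F299678 : act 1 n160487 = n121027 := (sb E50350 F283154)
theorem F299679 : act 2 n160487 = n123188 := (sb E50350 F283151)
theorem E54368 : n162245 = n121299 := ((((iv3 F193410)).symm.trans (sb E50351 (iv3 F256396)))).symm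
theorem F299680 : act 6 n55958 = n35563 := (sb E50351 (iv6 D77947))
theorem F299681 : act 0 n35796 = n55790 := (sb E50352 (iv1 D120964))
theorem F299682 : act 0 n27635 = n18584 := (sb E50353 (iv1 F60154))
theorem F299683 : act 1 n27636 = n18584 := (sb E50354 F60151)
theorem F299684 : act 6 n27636 = n18856 := (sb E50354 F117438)
theorem F299685 : act 2 n27624 = n18584 := (sb E50355 F117479)
theorem F299686 : act 6 n27624 = n27675 := (sb E50355 (iv6 F60102))
theorem E54372 : n79572 = n58703 := (((D58703).symm.trans (sb E50359 (iv1 F260140)))).symm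
theorem E54373 : n79569 = n54276 := (((F85632).symm.trans (sb E50359 (iv7 F260139)))).symm
theorem F299687 : act 3 n13300 = n27415 := (sb E50368 F90247)
theorem F299688 : act 7 n13300 = n27408 := (sb E50368 (iv7 D57212))
theorem F299689 : act 7 n34803 = n57930 := (sb E50369 (iv7 D124254))
theorem F299690 : act 1 n34784 = n26915 := (sb E50370 (iv0 D55771))
theorem E54393 : n165597 = n77246 := (((D77246).symm.trans (sb E50374 F260857))).symm
theorem E54397 : n162383 = n162114 := ((D162383).symm.trans (sb E50384 F273179))
theorem E54398 : n162391 = n162118 := ((D162391).symm.trans (sb E50385 (iv7 F256219)))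
theorem F299694 : act 3 n37424 = n75983 := (sb E50391 F192243)
theorem F299695 : act 5 n37424 = n56638 := (sb E50391 F192244)
theorem F299696 : act 1 n166324 = n180025 := (sb E50392 (iv0 F280408))
theorem F299697 : act 2 n166324 = n86065 := (sb E50392 F267320)
theorem F299698 : act 5 n166324 = n81495 := (sb E50392 (iv5 D169890))
theorem F299699 : act 1 n125328 = n79866 := (sb E50393 (iv0 D166323))
theorem F299700 : act 2 n125328 = n166089 := (sb E50393 (iv2 F261917))
theorem F299701 : act 1 n166031 = n81500 := (sb E50394 (iv0 D169902))
theorem F299702 : act 0 n57440 = n77342 := (sb E50395 F195819)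
theorem F299704 : act 2 n162912 = n160509 := (sb E50397 F267748)
theorem F299705 : act 4 n180123 = n166207 := (sb E50398 F282258)
theorem F299706 : act 6 n180123 = n181132 := (sb E50398 F282259)
theorem F299707 : act 0 n180033 = n163452 := (sb E50399 F282264)
theorem F299708 : act 2 n180033 = n121696 := (sb E50399 F282261)
theorem F299709 : act 4 n180033 = n166068 := (sb E50399 F282262)
theorem E54400 : n165733 = n78398 := ((D165733).symm.trans (sb E50402 (iv6 D163044)))
theorem F299710 : act 6 n35730 = n36249 := (sb E50404 (iv6 D79600))
theorem F299711 : act 0 n159216 = n181133 := (sb E50405 (iv1 F282131))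
theorem F299712 : act 1 n159216 = n78392 := (sb E50405 (iv0 D163023))
theorem F299713 : act 2 n159216 = n162905 := (sb E50405 (iv2 F257382))
theorem F299714 : act 2 n163024 = n160491 := (sb E50406 F267746)
theorem F299715 : act 5 n163024 = n81639 := (sb E50406 (iv5 D170231))
theorem E54404 : n164018 = n162242 := (((D162242).symm.trans (sb E50409 (iv1 F258477)))).symm
theorem E54405 : n164017 = n162243 := (((D162243).symm.trans (sb E50409 F258480))).symm
theorem E54406 : n164020 = n162244 := (((D162244).symm.trans (sb E50409 (iv2 F258479)))).symm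
theorem F299716 : act 7 n77946 = n35873 := (sb E50409 (iv7 D78803))
theorem F299718 : act 1 n78876 = n77942 := (sb E50411 (iv0 F255428))
theorem F299719 : act 2 n78876 = n121280 := (sb E50411 F253320)
theorem E54409 : n124406 = n76875 := (((iv6 F198955)).symm.trans (sb E50411 (iv6 D160374)))
theorem F299720 : act 7 n78876 = n121283 := (sb E50411 F253322)
theorem F299721 : act 0 n58683 = n124213 := (sb E50412 (iv1 F198706))
theorem F299722 : act 2 n58683 = n121281 := (sb E50412 (iv2 F193389))
theorem F299723 : act 1 n35129 = n27673 := (sb E50413 F91766)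
theorem F299724 : act 3 n35129 = n27684 := (sb E50413 F117360)
theorem F299725 : act 6 n35129 = n35905 := (sb E50413 F117362)
theorem F299727 : act 1 n17056 = n16842 := (sb E50415 (iv0 D34770))
theorem F299728 : act 5 n17056 = n27675 := (sb E50415 (iv5 F117444))
theorem F299729 : act 1 n57234 = n77342 := (sb E50416 (iv0 F126203))
theorem E54412 : n160498 = n123014 := (((D123014).symm.trans (sb E50416 D160498))).symm
theorem E54413 : n160499 = n123015 := (((D123015).symm.trans (sb E50416 D160499))).symm
theorem F299730 : act 7 n57234 = n76189 := (sb E50416 F115652)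
theorem E54414 : n120980 = n58216 := ((D120980).symm.trans (sb E50417 (iv6 D124629)))
theorem F299731 : act 6 n27735 = n26925 := (sb E50419 (iv6 D55797))
theorem F299732 : act 3 n27733 = n56903 := (sb E50420 (iv3 F193966))
theorem F299733 : act 5 n122314 = n178239 := (sb E50421 (iv5 F277788))
theorem F299734 : act 7 n122316 = n84828 := (sb E50422 F197871)
theorem F299735 : act 7 n122317 = n84829 := (sb E50423 F197872)
theorem F299736 : act 7 n39240 = n56640 := (sb E50424 (iv7 D122318))
theorem F299737 : act 6 n39850 = n57914 := (sb E50425 F197857)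
theorem F299741 : act 0 n57436 = n76189 := (sb E50428 (iv1 D159245))
theorem F299743 : act 6 n57436 = n86083 := (sb E50428 F250734)
theorem F299744 : act 7 n57436 = n77342 := (sb E50428 F250732)
theorem F299745 : act 2 n124208 = n124446 := (sb E50429 F256150)
theorem F299746 : act 4 n124208 = n77865 := (sb E50429 F256151)
theorem F299747 : act 5 n124208 = n84804 := (sb E50429 F256152)
theorem F299748 : act 6 n124208 = n77863 := (sb E50429 (iv6 D162075))
theorem F299749 : act 7 n39169 = n56904 := (sb E50430 (iv7 D122586))
theorem F299750 : act 3 n57551 = n38262 := (sb E50434 F118725)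
theorem E54416 : n124328 = n123484 := ((((iv4 F197899)).symm.trans (sb E50434 D124328))).symm
theorem F299751 : act 5 n57551 = n27653 := (sb E50434 (iv5 D57960))
theorem F299752 : act 7 n57551 = n27673 := (sb E50434 F117391)
theorem F299753 : act 0 n13221 = n27408 := (sb E50435 F121473)
theorem F299754 : act 0 n57421 = n37456 := (sb E50436 (iv1 F119078))
theorem F299755 : act 1 n57421 = n88642 := (sb E50436 F135901)
theorem F299756 : act 2 n57421 = n27672 := (sb E50436 F117400)
theorem E54418 : n124329 = n123317 := (((D123317).symm.trans (sb E50436 D124329))).symm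
theorem F299758 : act 2 n57426 = n27673 := (sb E50437 F117402)
theorem E54419 : n124331 = n123323 := (((D123323).symm.trans (sb E50437 D124331))).symm
theorem F299759 : act 6 n57426 = n39883 := (sb E50437 (iv6 F91707))
theorem F299760 : act 5 n124621 = n78617 := (sb E50442 F257892)
theorem F299761 : act 7 n124621 = n78616 := (sb E50442 (iv7 D163630))
theorem F299762 : act 4 n83286 = n166556 := (sb E50443 (iv4 F262072))
theorem F299763 : act 6 n83286 = n77065 := (sb E50443 F253810)
theorem F299764 : act 0 n77239 = n35542 := (sb E50444 (iv1 F116390))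
theorem F299765 : act 0 n77750 = n79150 := (sb E50447 (iv1 F259750))
theorem F299766 : act 1 n77750 = n79149 := (sb E50447 (iv0 D164726))
theorem E54441 : n176971 = n106015 := ((D176971).symm.trans (sb E50448 (iv1 F257181)))
theorem E54442 : n78346 = n55737 := (((F129407).symm.trans (sb E50448 F257179))).symm
theorem F299767 : act 0 n84349 = n80466 := (sb E50449 (iv1 F257203))
theorem F299768 : act 1 n84349 = n80469 := (sb E50449 F257204)
theorem F299769 : act 0 n84350 = n80469 := (sb E50451 F257128)
theorem F299770 : act 1 n84350 = n80466 := (sb E50451 F257129)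
theorem F299771 : act 6 n84347 = n124170 := (sb E50452 F257198)
theorem F299772 : act 0 n79592 = n78746 := (sb E50454 (iv1 F250747))
theorem E54443 : n180470 = n165714 := (((D165714).symm.trans (sb E50454 (iv5 F280881)))).symm
theorem F299774 : act 7 n79592 = n76193 := (sb E50454 (iv7 D159257))
theorem F299775 : act 4 n77406 = n78512 := (sb E50458 (iv4 D163383))
theorem F299778 : act 5 n163379 = n79200 := (sb E50462 (iv5 D164828))
theorem F299784 : act 5 n162970 = n79202 := (sb E50466 (iv5 D164832))
theorem F299785 : act 7 n76964 = n79202 := (sb E50467 (iv7 D164833))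
theorem F299786 : act 1 n78724 = n79586 := (sb E50468 (iv0 D165700))
theorem E54451 : n178141 = n123340 := (((D123340).symm.trans (sb E50475 (iv1 F277700)))).symm
theorem F299792 : act 3 n13299 = n27514 := (sb E50476 F90642)
theorem F299793 : act 3 n163363 = n78704 := (sb E50477 (iv3 D163818))
theorem F299794 : act 7 n163363 = n80060 := (sb E50477 F258261)
theorem F299795 : act 1 n163365 = n80060 := (sb E50479 F261209)
theorem F299796 : act 4 n163365 = n185531 := (sb E50479 (iv4 F287813))
theorem F299799 : act 1 n36225 = n27901 := (sb E50484 F92636)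
theorem F299800 : act 2 n36225 = n39808 := (sb E50484 (iv2 F92639))
theorem E54453 : n125288 = n79546 := (((D79546).symm.trans (sb E50484 D125288))).symm
theorem E54454 : n86074 = n79547 := (((D79547).symm.trans (sb E50484 (iv5 F132006)))).symm
theorem F299801 : act 6 n36225 = n39890 := (sb E50484 (iv6 F92640))
theorem E54455 : n79553 = n78269 := ((((iv3 F119466)).symm.trans (sb E50485 D79553))).symm
theorem E54459 : n164959 = n125287 := (((D125287).symm.trans (sb E50488 D164959))).symm
theorem F299802 : act 1 n166314 = n86065 := (sb E50493 (iv0 D180129))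
theorem F299803 : act 7 n166314 = n180025 := (sb E50493 F280504)
theorem F299804 : act 0 n121709 = n86065 := (sb E50494 (iv1 D180130))
theorem F299805 : act 2 n121709 = n180025 := (sb E50494 (iv2 F280500))
theorem F299806 : act 1 n120872 = n170156 := (sb E50495 (iv0 F267671))
theorem F299807 : act 3 n120872 = n178290 := (sb E50495 (iv3 F277853))
theorem F299808 : act 6 n120872 = n56243 := (sb E50495 (iv6 D121710))
theorem F299809 : act 7 n120872 = n78327 := (sb E50495 (iv7 F194257))
theorem F299810 : act 1 n159076 = n80485 := (sb E50496 (iv0 D167720))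
theorem E54465 : n178106 = n123320 := ((((iv4 F197623)).symm.trans (sb E50497 (iv4 F277646)))).symm
theorem F299811 : act 5 n57423 = n39883 := (sb E50497 F129995)
theorem F299812 : act 7 n57423 = n39179 := (sb E50497 (iv7 D84784))
theorem F299813 : act 0 n57557 = n39179 := (sb E50498 F126236)
theorem F299814 : act 3 n57557 = n27894 := (sb E50498 F92627)
theorem E54466 : n125286 = n123502 := ((((iv4 F197915)).symm.trans (sb E50498 (iv4 F201493)))).symm
theorem E54468 : n178103 = n121268 := ((D178103).symm.trans (sb E50500 (iv1 F253396)))
theorem E54469 : n178104 = n163959 := ((D178104).symm.trans (sb E50500 F258418))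
theorem E54470 : n178099 = n163873 := (((iv3 F277636)).symm.trans (sb E50500 (iv3 F258303)))
theorem E54473 : n55743 = n39260 := (((D39260).symm.trans (sb E50503 (iv6 D120892)))).symm
theorem E54477 : n55859 = n55757 := (((iv7 F88354)).symm.trans (sb E50513 F192489))
theorem F299815 : act 0 n56247 = n36292 := (sb E50519 (iv1 D79705))
theorem F299816 : act 3 n26833 = n55374 := (sb E50520 F117611)
theorem F299817 : act 1 n18546 = n27408 := (sb E50524 F121472)
theorem F299818 : act 3 n18546 = n38244 := (sb E50524 (iv3 F117849))
theorem F299819 : act 3 n18545 = n38267 := (sb E50525 F128141)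
theorem E54486 : n162786 = n39055 := (((D39055).symm.trans (sb E50525 (iv4 F257067)))).symm
theorem E54490 : n79335 = n17558 := (((D17558).symm.trans (sb E50528 (iv3 F121930)))).symm
theorem E54492 : n71369 = n26265 := (((D26265).symm.trans (sb E50529 (iv1 F232306)))).symm
theorem F299820 : act 1 n86501 = n76944 := (sb E50531 (iv0 D160488))
theorem F299821 : act 6 n86501 = n124518 := (sb E50531 F253956)
theorem F299822 : act 4 n80611 = n124612 := (sb E50532 F260112)
theorem F299823 : act 0 n163623 = n124610 := (sb E50533 F277721)
theorem F299824 : act 1 n163623 = n124613 := (sb E50533 F277722)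
theorem F299825 : act 1 n76161 = n55827 := (sb E50534 (iv0 D121028))
theorem F299826 : act 0 n35697 = n76944 := (sb E50535 (iv1 D160489))
theorem F299827 : act 0 n26794 = n39183 := (sb E50537 (iv1 F129984))
theorem E54497 : n167444 = n55490 := ((((iv4 F87779)).symm.trans (sb E50537 (iv4 F263587)))).symm
theorem F299832 : act 0 n170593 = n86707 := (sb E50539 (iv1 D181676))
theorem F299833 : act 1 n170593 = n86714 := (sb E50539 F282783)
theorem F299834 : act 0 n170067 = n86714 := (sb E50541 F268058)
theorem F299835 : act 1 n170067 = n86707 := (sb E50541 F268059)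
theorem F299836 : act 1 n58134 = n124171 := (sb E50542 (iv0 F198635))
theorem E54498 : n167870 = n124555 := (((D124555).symm.trans (sb E50542 (iv3 F264502)))).symm
theorem F299837 : act 5 n58134 = n36768 := (sb E50542 (iv5 D80576))
theorem E54500 : n167885 = n124557 := (((D124557).symm.trans (sb E50542 (iv6 F264517)))).symm
theorem F299838 : act 0 n35124 = n27673 := (sb E50543 F91765)
theorem F299839 : act 3 n35124 = n38960 := (sb E50543 F117308)
theorem F299840 : act 1 n160286 = n159183 := (sb E50550 F255957)
theorem F299841 : act 0 n84480 = n78327 := (sb E50552 F253248)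
theorem F299842 : act 7 n84480 = n170156 := (sb E50552 (iv7 F267670))
theorem E54502 : n95975 = n67545 := (((iv3 F147601)).symm.trans (sb E50555 F226678))
theorem E54503 : n110977 = n95990 := (((D95990).symm.trans (sb E50555 F226679))).symm
theorem E54504 : n95988 = n67471 := (((iv6 F147622)).symm.trans (sb E50555 (iv6 D144010)))
theorem E54507 : n103828 = n24899 := ((D103828).symm.trans (sb E50556 F80720))
theorem E54508 : n110980 = n91271 := ((((iv5 F294724)).symm.trans (sb E50556 D110980))).symm
theorem E54509 : n103830 = n24898 := ((D103830).symm.trans (sb E50556 (iv6 D51168)))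
theorem E54510 : n110981 = n103618 := ((((iv7 F158980)).symm.trans (sb E50556 D110981))).symm
theorem F299843 : act 3 n42730 = n67476 := (sb E50557 F226694)
theorem E54513 : n93992 = n67472 := (((D67472).symm.trans (sb E50558 (iv5 F144814)))).symm
theorem F299844 : act 6 n31353 = n23190 := (sb E50558 (iv6 D48068))
theorem F299845 : act 3 n47991 = n67477 := (sb E50559 F226695)
theorem E54515 : n94010 = n67572 := (((iv2 F144841)).symm.trans (sb E50560 F226721))
theorem F299846 : act 4 n43941 = n67476 := (sb E50560 (iv4 D144028))
theorem E54516 : n93987 = n67562 := ((D93987).symm.trans (sb E50561 F226698))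
theorem E54517 : n93988 = n67474 := ((D93988).symm.trans (sb E50561 (iv5 D144021)))
theorem F299847 : act 6 n43928 = n67476 := (sb E50561 F226699)
theorem F299848 : act 0 n91390 = n67571 := (sb E50562 (iv1 F226724))
theorem F299849 : act 1 n91390 = n67570 := (sb E50562 F226725)
theorem F299850 : act 2 n91390 = n67573 := (sb E50562 F226722)
theorem F299851 : act 5 n91390 = n67477 := (sb E50562 F226723)
theorem F299852 : act 7 n91390 = n67476 := (sb E50562 (iv7 D144029))
theorem F299862 : act 7 n85634 = n81520 := (sb E50568 F132914)
theorem F299863 : act 1 n96728 = n81522 := (sb E50569 (iv0 D169953))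
theorem F299865 : act 0 n96731 = n81522 := (sb E50570 F263993)
theorem F299869 : act 7 n85635 = n81522 := (sb E50573 F132915)
theorem F299870 : act 1 n6271 = n8807 := (sb E50574 (iv0 D18792))
theorem F299871 : act 1 n27445 = n39733 := (sb E50575 F92424)
theorem F299872 : act 0 n27446 = n18796 := (sb E50576 (iv1 F60577))
theorem F299873 : act 3 n27446 = n37379 := (sb E50576 (iv3 F116763))
theorem F299874 : act 5 n27446 = n18786 := (sb E50576 (iv5 D39699))
theorem F299875 : act 7 n27446 = n18786 := (sb E50576 (iv7 F60575))
theorem E54524 : n70600 = n55406 := (((D55406).symm.trans (sb E50579 F107071))).symm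
theorem E54525 : n70603 = n55407 := (((D55407).symm.trans (sb E50579 (iv2 F107069)))).symm
theorem E54526 : n55409 = n54449 := ((D55409).symm.trans (sb E50579 (iv6 F85999)))
theorem F299876 : act 0 n26769 = n45867 := (sb E50580 (iv1 F118997))
theorem F299877 : act 1 n26769 = n36610 := (sb E50580 (iv0 F57468))
theorem E54527 : n56737 = n55413 := (((D55413).symm.trans (sb E50580 (iv5 F89716)))).symm
theorem F299878 : act 7 n26769 = n13059 := (sb E50580 (iv7 D27262))
theorem F299879 : act 7 n27343 = n56667 := (sb E50585 (iv7 D122347))
theorem E54528 : n122435 = n57009 := (((D57009).symm.trans (sb E50587 (iv4 F195870)))).symm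
theorem F299880 : act 7 n27349 = n56669 := (sb E50587 (iv7 D122351))
theorem F299881 : act 5 n18518 = n13060 := (sb E50588 (iv5 F117163))
theorem F299882 : act 3 n88817 = n100403 := (sb E50589 F191856)
theorem F299883 : act 4 n88817 = n56915 := (sb E50589 F191855)
theorem E54530 : n186476 = n71445 := ((D186476).symm.trans (sb E50589 F191854))
theorem F299884 : act 1 n37358 = n56920 := (sb E50594 F194663)
theorem F299885 : act 5 n37358 = n56383 := (sb E50594 (iv5 D121940))
theorem F299886 : act 0 n37357 = n56920 := (sb E50595 (iv1 D122603))
theorem F299887 : act 4 n81748 = n56920 := (sb E50596 (iv4 D122604))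
theorem F299888 : act 4 n101278 = n170548 := (sb E50597 (iv4 F267977))
theorem E54531 : n161844 = n81773 := (((D81773).symm.trans (sb E50598 (iv3 F255815)))).symm
theorem E54540 : n61797 = n37973 := (((D37973).symm.trans (sb E50602 F196067))).symm
theorem F299890 : act 2 n18185 = n29761 := (sb E50603 (iv2 F47859))
theorem E54541 : n37975 = n29526 := ((D37975).symm.trans (sb E50603 (iv6 F47349)))
theorem F299891 : act 7 n18185 = n13918 := (sb E50603 (iv7 D29292))
theorem E54542 : n54429 = n16993 := ((D54429).symm.trans (sb E50604 (iv3 D35008)))
theorem E54543 : n54431 = n40119 := ((D54431).symm.trans (sb E50604 F61010))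
theorem E54545 : n54434 = n40043 := ((D54434).symm.trans (sb E50605 F75760))
theorem E54547 : n29736 = n19163 := ((D29736).symm.trans (sb E50607 (iv0 D40568)))
theorem E54548 : n87316 = n29734 := ((((iv4 F47808)).symm.trans (sb E50607 D87316))).symm
theorem F299892 : act 0 n14141 = n10534 := (sb E50608 (iv1 D22100))
theorem F299893 : act 1 n14141 = n17185 := (sb E50608 (iv0 F34579))
theorem E54550 : n46183 = n29757 := ((((iv3 F47848)).symm.trans (sb E50608 D46183))).symm
theorem F299894 : act 5 n14141 = n17623 := (sb E50608 F34578)
theorem E54556 : n80623 = n33866 := (((F87213).symm.trans (sb E50611 F254564))).symm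
theorem E54557 : n151389 = n119826 := (((D119826).symm.trans (sb E50611 F254567))).symm
theorem F299895 : act 0 n96770 = n80251 := (sb E50615 (iv1 F196657))
theorem F299896 : act 1 n96770 = n80254 := (sb E50615 F196656)
theorem E54559 : n96770 = n29252 := ((((iv2 F46915)).symm.trans (iv2 (sb E50615 (tr F196652 E52318))))).symm
theorem E54560 : n122769 = n29252 := (E50615).trans E54559
theorem E54561 : n82973 = n61690 := ((((iv4 F96281)).symm.trans (sb E54560 F196655))).symm
theorem E54563 : n151388 = n107888 := ((((iv5 F166695)).symm.trans (sb E50616 (iv5 F238101)))).symm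
theorem F299897 : act 2 n54643 = n45225 := (sb E50619 F149236)
theorem E54564 : n146224 = n118678 := (((D118678).symm.trans (sb E50619 (iv6 F229525)))).symm
theorem E54565 : n74758 = n45225 := ((F297803).symm.trans (sb E50620 (iv0 D96773)))
theorem F299898 : act 0 n71368 = n45225 := (sb E50621 (iv1 D96774))
theorem F299899 : act 4 n86513 = n45225 := (sb E50622 (iv4 D96775))
theorem E54566 : n96766 = n39608 := (((D39608).symm.trans (iv0 (sb E50623 (tr F233168 E50947))))).symm
theorem E54567 : n101280 = n39608 := (E50623).trans E54566
theorem E54569 : n118678 = n39639 := (((F199828).symm.trans (sb E54567 (iv2 F186667)))).symm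
theorem E54570 : n181156 = n85747 := (((D85747).symm.trans (sb E54567 (iv4 F282178)))).symm
theorem E54571 : n165065 = n39640 := (((F199829).symm.trans (sb E54567 (iv7 F260304)))).symm
theorem F299900 : act 4 n40355 = n45229 := (sb E50626 (iv4 D96789))
theorem F299901 : act 2 n96787 = n86606 := (sb E50627 (iv2 F232504))
theorem F299902 : act 3 n96787 = n175424 := (sb E50627 (iv3 F274499))
theorem F299903 : act 4 n96787 = n45805 := (sb E50627 (iv4 D98090))
theorem F299904 : act 7 n96787 = n86607 := (sb E50627 (iv7 F232510))
theorem F299905 : act 2 n96788 = n86607 := (sb E50628 (iv2 F232508))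
theorem F299906 : act 3 n96788 = n165023 := (sb E50628 (iv3 F260235))
theorem F299907 : act 4 n96788 = n45806 := (sb E50628 (iv4 D98095))
theorem F299908 : act 7 n96788 = n86606 := (sb E50628 (iv7 F232507))
theorem E54572 : n96790 = n85812 := (((D85812).symm.trans (iv3 (sb E50629 (tr F260305 E54571))))).symm
theorem E54573 : n101284 = n85812 := (E50629).trans E54572
theorem E54574 : n124722 = n86941 := ((F199800).symm.trans (sb E54573 F156061))
theorem E54575 : n86605 = n54342 := (((F199801).symm.trans (sb E54573 F156062))).symm
theorem E54582 : n161509 = n161173 := (((D161173).symm.trans (sb E50633 (iv3 F255502)))).symm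
theorem E54583 : n161512 = n161174 := (((D161174).symm.trans (sb E50633 D161512))).symm
theorem F299909 : act 5 n77374 = n35403 := (sb E50633 (iv5 D77545))
theorem E54584 : n161176 = n83552 := ((D161176).symm.trans (sb E50633 (iv6 F128646)))
theorem E54585 : n161517 = n155164 := (((F243983).symm.trans (sb E50634 (iv3 F255518)))).symm
theorem F299910 : act 6 n77489 = n35404 := (sb E50634 (iv6 D77551))
theorem E54586 : n160927 = n77473 := (((D77473).symm.trans (sb E50635 F255235))).symm
theorem F299911 : act 1 n38951 = n75783 := (sb E50636 (iv0 D158831))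
theorem E54587 : n160933 = n84466 := (((D84466).symm.trans (sb E50636 (iv4 F254139)))).symm
theorem E54588 : n77749 = n77476 := (((D77476).symm.trans (sb E50637 (iv3 F117126)))).symm
theorem E54589 : n77756 = n77478 := (((D77478).symm.trans (sb E50637 D77756))).symm
theorem F299913 : act 6 n35376 = n17201 := (sb E50637 (iv6 D35483))
theorem F299915 : act 4 n123189 = n160934 := (sb E50638 (iv4 F254145))
theorem E54590 : n118464 = n83315 := (((D83315).symm.trans (sb E50639 F186291))).symm
theorem E54591 : n155440 = n83316 := (((D83316).symm.trans (sb E50639 F244414))).symm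
theorem F299916 : act 1 n38384 = n35404 := (sb E50640 F88720)
theorem E54595 : n121433 = n83327 := (((D83327).symm.trans (sb E50640 (iv5 F193753)))).symm
theorem F299917 : act 7 n38384 = n27037 := (sb E50640 (iv7 D56052))
theorem E54597 : n80402 = n80372 := ((((iv0 F123479)).symm.trans (sb E50641 F129258))).symm
theorem E54600 : n149153 = n41138 := (((F62347).symm.trans (sb E50642 (iv4 F234531)))).symm
theorem E54601 : n77457 = n55057 := ((D77457).symm.trans (sb E50642 (iv6 D119665)))
theorem E54602 : n128463 = n41137 := ((((iv4 F62346)).symm.trans (sb E50643 F244423))).symm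
theorem E54603 : n85266 = n77461 := (((D77461).symm.trans (sb E50643 (iv6 F244424)))).symm
theorem E54604 : n118496 = n57281 := ((((iv1 F90360)).symm.trans (sb E50645 (iv1 F244491)))).symm
theorem E54605 : n118499 = n57276 := ((((iv0 F90358)).symm.trans (sb E50645 F244492))).symm
theorem E54606 : n77464 = n73634 := ((D77464).symm.trans (sb E50646 (iv0 F243953)))
theorem E54607 : n152631 = n77465 := (((D77465).symm.trans (sb E50646 (iv5 F239840)))).symm
theorem E54608 : n77466 = n55161 := ((D77466).symm.trans (sb E50646 (iv7 D119857)))
theorem F299918 : act 1 n35377 = n36579 := (sb E50647 (iv0 D80285))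
theorem F299919 : act 6 n35378 = n40284 := (sb E50648 (iv6 D86856))
theorem E54611 : n73918 = n55047 := ((((iv2 F87049)).symm.trans (sb E50649 F193762))).symm
theorem E54612 : n167398 = n56088 := (((D56088).symm.trans (sb E50650 (iv1 F263530)))).symm
theorem E54613 : n166962 = n56089 := (((D56089).symm.trans (sb E50650 (iv0 F262839)))).symm
theorem F299920 : act 2 n8313 = n15995 := (sb E50652 F42163)
theorem E54614 : n54621 = n16062 := ((((iv3 F25587)).symm.trans (sb E50652 D54621))).symm
theorem F299921 : act 4 n8313 = n12603 := (sb E50652 (iv4 D26416))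
theorem E54615 : n17647 = n12605 := ((D17647).symm.trans (sb E50652 F42164))
theorem E54616 : n71752 = n54572 := ((D71752).symm.trans (sb E50653 (iv7 D118504)))
theorem E54618 : n56306 = n30048 := ((D56306).symm.trans (sb E50656 F52391))
theorem F299922 : act 7 n27124 = n15995 := (sb E50656 (iv7 D33170))
theorem E54619 : n161795 = n56440 := (((D56440).symm.trans (sb E50659 (iv0 F255791)))).symm
theorem E54620 : n56441 = n30048 := (E51331).trans E54618
theorem E54623 : n85246 = n85244 := (((iv2 F130554)).symm.trans (sb E50660 F133115))
theorem F299923 : act 3 n39404 = n40258 := (sb E50660 (iv3 D86828))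
theorem F299924 : act 5 n80271 = n40258 := (sb E50661 (iv5 D86829))
theorem E54627 : n167209 = n58433 := (((D58433).symm.trans (sb E50662 F282991))).symm
theorem E54628 : n167489 = n58434 := (((D58434).symm.trans (sb E50662 F282992))).symm
theorem F299925 : act 5 n80270 = n39966 := (sb E50663 (iv5 D86341))
theorem E54630 : n180776 = n167210 := (((D167210).symm.trans (sb E50663 D180776))).symm
theorem E54631 : n166950 = n166949 := (((iv5 F262808)).symm.trans (sb E50664 (iv5 F262801)))
theorem F299926 : act 6 n80374 = n39966 := (sb E50664 F123488)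
theorem F299927 : act 4 n86831 = n85652 := (sb E50665 F193846)
theorem F299928 : act 1 n77326 = n56068 := (sb E50666 (iv0 D121446))
theorem F299929 : act 0 n77450 = n56068 := (sb E50667 (iv1 D121447))
theorem E54632 : n121534 = n75562 := ((((iv3 F113412)).symm.trans (sb E50669 (iv3 F193921)))).symm
theorem F299930 : act 6 n38776 = n27057 := (sb E50669 (iv6 D56128))
theorem E54636 : n176470 = n152241 := (((F239304).symm.trans (sb E50670 D176470))).symm
theorem F299931 : act 4 n77618 = n38797 := (sb E50670 F129184)
theorem E54637 : n161604 = n161321 := ((D161604).symm.trans (sb E50670 (iv5 F255139)))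
theorem F299932 : act 5 n77446 = n35432 := (sb E50671 (iv5 D77619))
theorem F299933 : act 1 n38778 = n35359 := (sb E50672 (iv0 D77445))
theorem E54644 : n80368 = n80367 := ((((iv5 F123474)).symm.trans (sb E50673 (iv5 F123477)))).symm
theorem E54645 : n69980 = n57213 := (((D57213).symm.trans (sb E50674 F234501))).symm
theorem E54646 : n179861 = n57214 := (((D57214).symm.trans (sb E50674 (iv0 F280129)))).symm
theorem E54647 : n162946 = n57217 := (((D57217).symm.trans (sb E50674 (iv6 F257317)))).symm
theorem F299934 : act 6 n27413 = n13210 := (sb E50677 (iv6 D27674))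
theorem E54648 : n160470 = n57377 := (((D57377).symm.trans (sb E50678 F253480))).symm
theorem E54649 : n160469 = n57382 := (((D57382).symm.trans (sb E50679 (iv5 F253474)))).symm
theorem F299935 : act 6 n27468 = n56630 := (sb E50680 (iv6 D122309))
theorem F299936 : act 1 n27472 = n56711 := (sb E50682 (iv0 F91795))
theorem F299937 : act 6 n27472 = n18587 := (sb E50682 (iv6 D39184))
theorem F299938 : act 0 n27477 = n56711 := (sb E50685 (iv1 F117314))
theorem F299939 : act 6 n78276 = n83229 := (sb E50688 (iv6 D174105))
theorem F299940 : act 1 n81689 = n57328 := (sb E50690 (iv0 D123183))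
theorem E54650 : n178411 = n170334 := ((((iv3 F267827)).symm.trans (sb E50690 F277990))).symm
theorem F299942 : act 0 n78291 = n37337 := (sb E50691 (iv1 D81687))
theorem F299944 : act 6 n78290 = n81476 := (sb E50692 (iv6 D169882))
theorem F299945 : act 0 n86491 = n81627 := (sb E50694 (iv1 D170202))
theorem F299946 : act 1 n86491 = n81630 := (sb E50694 F267724)
theorem F299948 : act 5 n81566 = n98061 := (sb E50695 (iv5 F151207))
theorem F299949 : act 6 n81566 = n40069 := (sb E50695 F125713)
theorem F299950 : act 6 n86492 = n77747 := (sb E50696 (iv6 D161887))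
theorem F299953 : act 7 n123191 = n160487 := (sb E50698 (iv7 F253515))
theorem E54654 : n133801 = n26428 := ((((iv3 D54643)).symm.trans (sb E50699 (iv3 F215437)))).symm
theorem E54655 : n133804 = n105960 := ((((iv4 F162753)).symm.trans (sb E50699 D133804))).symm
theorem F299954 : act 5 n54643 = n29735 := (sb E50699 (iv5 D62837))
theorem E54658 : n86601 = n54318 := ((D86601).symm.trans (sb E50700 F98064))
theorem E54659 : n118152 = n86448 := ((((iv5 F132566)).symm.trans (sb E50701 (iv5 F185655)))).symm
theorem E54660 : n151408 = n49032 := ((D151408).symm.trans (sb E50701 (iv6 D106089)))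
theorem E54661 : n74820 = n71518 := (((F108045).symm.trans (sb E50702 F112282))).symm
theorem F299955 : act 3 n40117 = n32816 := (sb E50702 (iv3 D70807))
theorem E54662 : n116779 = n74928 := (((E50918).symm.trans ((D86546).symm.trans (sb E50702 (iv4 F182299))))).symm
theorem E54663 : n116778 = n54332 := (((E50919).symm.trans ((D86547).symm.trans (sb E50702 F182232)))).symm
theorem E54664 : n154799 = n15563 := ((((iv1 F109832)).symm.trans (sb E50703 F243466))).symm
theorem F299956 : act 6 n23919 = n36089 := (sb E50703 (iv6 D79283))
theorem F299957 : act 4 n18353 = n32816 := (sb E50704 (iv4 D70808))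
theorem E54668 : n144850 = n38522 := (((D38522).symm.trans (sb E50704 (iv6 F227780)))).symm
theorem E54681 : n177064 = n131096 := (((F209950).symm.trans (sb E50710 F276487))).symm
theorem E54682 : n153269 = n119402 := (((iv3 F240796)).symm.trans (sb E50710 F259891))
theorem F299958 : act 4 n107859 = n80684 := (sb E50710 F259892)
theorem E54683 : n179507 = n29204 := ((D179507).symm.trans (sb E50711 (tr F264941 E52298)))
theorem F299959 : act 6 n85643 = n80684 := (sb E50711 (iv6 D168089))
theorem E54684 : n80715 = n70429 := ((((iv3 F106892)).symm.trans (sb E50712 (iv3 D168163)))).symm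
theorem F299961 : act 6 n106087 = n71518 := (sb E50714 (iv6 D151739))
theorem E54685 : n170507 = n150640 := (((iv3 F267954)).symm.trans (sb E50717 (iv3 F237182)))
theorem F299962 : act 0 n125297 = n181199 := (sb E50718 (iv1 F282230))
theorem F299966 : act 7 n86528 = n45140 := (sb E50720 (iv7 D96663))
theorem F299970 : act 7 n86529 = n45144 := (sb E50721 (iv7 D96671))
theorem E54688 : n165285 = n164585 := (((D164585).symm.trans (sb E50724 (iv1 F260546)))).symm
theorem F299971 : act 1 n79068 = n40097 := (sb E50724 (iv0 D86517))
theorem E54689 : n164584 = n149114 := (((iv2 F259479)).symm.trans (sb E50724 (iv2 F234492)))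
theorem E54691 : n149113 = n124670 := ((((iv4 F199434)).symm.trans (sb E50724 F234493))).symm
theorem E54694 : n165283 = n154556 := ((((iv7 F242627)).symm.trans (sb E50724 (iv7 F260537)))).symm
theorem F299972 : act 5 n86530 = n159076 := (sb E50729 F267280)
theorem F299973 : act 0 n81794 = n40101 := (sb E50730 (iv1 D86531))
theorem F299974 : act 1 n81794 = n79712 := (sb E50730 F132738)
theorem E54698 : n181204 = n180009 := ((D181204).symm.trans (sb E50731 (iv1 F280389)))
theorem E54699 : n181205 = n180006 := ((D181205).symm.trans (sb E50731 (iv0 F280381)))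
theorem F299975 : act 0 n86794 = n179482 := (sb E50734 (iv1 F279516))
theorem F299976 : act 1 n86794 = n85652 := (sb E50734 (iv0 D179523))
theorem F299977 : act 0 n121482 = n106054 := (sb E50735 F255662)
theorem F299978 : act 3 n124571 = n105950 := (sb E50736 F255656)
theorem F299980 : act 7 n124571 = n106054 := (sb E50736 (iv7 F255658))
theorem F299981 : act 1 n124573 = n106054 := (sb E50738 F255663)
theorem F299982 : act 3 n124573 = n181073 := (sb E50738 (iv3 F282011))
theorem F299983 : act 4 n124573 = n77635 := (sb E50738 F255648)
theorem F299984 : act 6 n124573 = n77634 := (sb E50738 (iv6 D161638))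
theorem E54700 : n181646 = n120495 := ((D181646).symm.trans (sb E50744 F198357))
theorem E54701 : n181647 = n170667 := ((D181647).symm.trans (sb E50744 (iv6 F268135)))
theorem E54702 : n181656 = n155212 := ((D181656).symm.trans (sb E50745 F276712))
theorem E54703 : n181658 = n170581 := ((D181658).symm.trans (sb E50745 F276710))
theorem F299986 : act 1 n38958 = n40200 := (sb E50747 (iv0 D86702))
theorem E54706 : n170582 = n167879 := ((D170582).symm.trans (sb E50748 (iv4 F264512)))
theorem F299987 : act 5 n81764 = n40200 := (sb E50748 (iv5 D86703))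
theorem F299988 : act 0 n80579 = n37381 := (sb E50749 (iv1 D81772))
theorem F299989 : act 1 n80579 = n37398 := (sb E50749 F125693)
theorem F299991 : act 6 n80579 = n44587 := (sb E50749 F125696)
theorem F300000 : act 4 n124576 = n181594 := (sb E50756 (iv4 F282653))
theorem F300001 : act 5 n124576 = n80584 := (sb E50756 (iv5 D167900))
theorem F300004 : act 4 n124577 = n181595 := (sb E50757 (iv4 F282654))
theorem E54708 : n84764 = n57292 := ((((iv3 F90373)).symm.trans (sb E50760 (iv3 F129965)))).symm
theorem F300011 : act 6 n27438 = n18583 := (sb E50760 (iv6 D39168))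
theorem F300012 : act 1 n18794 = n35425 := (sb E50761 (iv0 F91189))
theorem F300013 : act 2 n18794 = n13184 := (sb E50761 F44539)
theorem E54709 : n57314 = n39735 := (((D39735).symm.trans (sb E50761 D57314))).symm
theorem F300014 : act 7 n18794 = n13189 := (sb E50761 F44540)
theorem F300015 : act 2 n27596 = n39733 := (sb E50762 F131778)
theorem E54710 : n84710 = n57806 := (((D57806).symm.trans (sb E50762 (iv3 F129940)))).symm
theorem E54711 : n76088 = n57808 := (((D57808).symm.trans (sb E50762 F129830))).symm
theorem F300016 : act 6 n27596 = n18573 := (sb E50762 (iv6 D39128))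
theorem F300017 : act 0 n27600 = n18788 := (sb E50764 (iv1 F44945))
theorem F300018 : act 1 n27600 = n18568 := (sb E50764 F91156)
theorem F300019 : act 2 n27600 = n13280 := (sb E50764 F44943)
theorem F300020 : act 7 n27600 = n18784 := (sb E50764 F44944)
theorem E54715 : n84065 = n36371 := ((((iv3 F57116)).symm.trans (sb E50772 (iv3 F129047)))).symm
theorem E54723 : n173602 = n29204 := (((E54683).symm.trans ((D179507).symm.trans (sb E50778 F281879)))).symm
theorem E54724 : n84669 = n55489 := (((D55489).symm.trans (sb E50786 F192233))).symm
theorem F300025 : act 0 n27627 = n18573 := (sb E50787 (iv1 F60098))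
theorem F300026 : act 1 n27627 = n18572 := (sb E50787 F60099)
theorem F300027 : act 2 n27627 = n18575 := (sb E50787 F60096)
theorem E54725 : n84645 = n57885 := (((D57885).symm.trans (sb E50787 (iv5 F129836)))).symm
theorem F300028 : act 7 n27627 = n18562 := (sb E50787 (iv7 D39090))
theorem F300029 : act 5 n96668 = n80485 := (sb E50793 (iv5 D167721))
theorem F300030 : act 3 n123531 = n78325 := (sb E50795 (iv3 D162924))
theorem F300031 : act 6 n123531 = n180829 := (sb E50795 (iv6 F281516))
theorem F300033 : act 3 n169797 = n154467 := (sb E50796 F275391)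
theorem F300034 : act 4 n169797 = n119560 := (sb E50796 F275392)
theorem F300036 : act 4 n169798 = n119559 := (sb E50797 (iv4 F275393))
theorem E54726 : n79392 = n16252 := (((F190738).symm.trans (sb E50800 (iv3 F121984)))).symm
theorem E54728 : n119911 = n54319 := ((((iv1 F85712)).symm.trans (sb E50802 F189314))).symm
theorem E54737 : n84638 = n73331 := ((D84638).symm.trans (sb E50815 F196283))
theorem F300042 : act 4 n39088 = n56937 := (sb E50815 F196278)
theorem F300043 : act 4 n124505 = n73168 := (sb E50819 (iv4 D154461))
theorem E54738 : n165164 = n84810 := (((D84810).symm.trans (sb E50824 D165164))).symm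
theorem F300044 : act 7 n163622 = n166162 := (sb E50825 F277720)
theorem F300045 : act 4 n163624 = n78870 := (sb E50826 (iv4 D164180))
theorem F300046 : act 7 n163624 = n86066 := (sb E50826 F258740)
theorem F300047 : act 1 n120534 = n124446 := (sb E50827 (iv0 F268399))
theorem F300048 : act 5 n120534 = n178129 := (sb E50827 (iv5 F277687))
theorem F300049 : act 6 n120534 = n81890 := (sb E50827 (iv6 D170810))
theorem E54752 : n71566 = n15953 := (((D15953).symm.trans (sb E50852 D71566))).symm
theorem E54755 : n71571 = n15958 := (((D15958).symm.trans (sb E50853 D71571))).symm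
theorem E54757 : n71573 = n15960 := (((D15960).symm.trans (sb E50853 D71573))).symm
theorem E54782 : n55193 = n16320 := (((D16320).symm.trans (sb E50874 (iv6 D119922)))).symm
theorem E54785 : n55106 = n16325 := (((D16325).symm.trans (sb E50876 (iv1 F110583)))).symm
theorem E54786 : n55197 = n16326 := (((D16326).symm.trans (sb E50876 D55197))).symm
theorem E54800 : n79298 = n18809 := ((((iv6 F30065)).symm.trans (sb E50889 F198585))).symm
theorem F300050 : act 1 n8812 = n17463 := (sb E50891 (iv0 D36097))
theorem F300051 : act 3 n17188 = n8908 := (sb E50898 F30366)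
theorem F300052 : act 5 n17188 = n8906 := (sb E50898 (iv5 D19023))
theorem E54817 : n36881 = n18679 := (((D18679).symm.trans (sb E50901 (iv1 D80766)))).symm
theorem F300053 : act 2 n18687 = n19033 := (sb E50902 F61263)
theorem E54821 : n86843 = n39412 := ((((iv3 F60338)).symm.trans (sb E50902 D86843))).symm
theorem F300054 : act 3 n17715 = n8914 := (sb E50904 F30542)
theorem F300055 : act 6 n17715 = n8911 := (sb E50904 (iv6 D19035))
theorem E54824 : n73444 = n18690 := (((D18690).symm.trans (sb E50905 (iv0 F200659)))).symm
theorem E54825 : n151789 = n18693 := (((D18693).symm.trans (sb E50905 (iv5 F238708)))).symm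
theorem E54826 : n85397 = n18694 := (((D18694).symm.trans (sb E50905 F200658))).symm
theorem E54830 : n27796 = n27794 := (((iv3 F44883)).symm.trans (sb E50908 F60800))
theorem F300056 : act 7 n13267 = n19033 := (sb E50908 F60801)
theorem F300057 : act 6 n38144 = n58016 := (sb E50911 (iv6 D124414))
theorem F300058 : act 0 n17718 = n12878 := (sb E50912 (iv1 F43336))
theorem F300059 : act 1 n17718 = n12863 := (sb E50912 (iv0 D26873))
theorem F300060 : act 2 n17718 = n12875 := (sb E50912 (iv2 F89151))
theorem E54832 : n55652 = n28683 := ((((iv4 F46229)).symm.trans (sb E50912 D55652))).symm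
theorem F300061 : act 7 n17718 = n12876 := (sb E50912 (iv7 F89157))
theorem E54833 : n181129 = n170526 := ((D181129).symm.trans (sb E50913 (iv6 F267967)))
theorem E54836 : n177230 = n78294 := (((D78294).symm.trans (sb E50914 (iv2 F276621)))).symm
theorem F300063 : act 6 n35692 = n38934 := (sb E50914 (iv6 D84443))
theorem F300064 : act 0 n35693 = n76940 := (sb E50915 (iv1 F149060))
theorem E54839 : n177249 = n78300 := (((D78300).symm.trans (sb E50915 (iv6 F276641)))).symm
theorem E54842 : n177039 = n149322 := (((iv2 F276456)).symm.trans (sb E50916 (iv2 F234748)))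
theorem F300065 : act 0 n84386 = n79728 := (sb E50917 (iv1 F132747))
theorem F300066 : act 1 n84386 = n79727 := (sb E50917 F132748)
theorem F300067 : act 2 n84386 = n56226 := (sb E50917 F132745)
theorem E54844 : n181214 = n177060 := ((((iv4 F276472)).symm.trans (sb E50917 D181214))).symm
theorem E54846 : n151390 = n119586 := ((((iv1 F188629)).symm.trans (sb E50918 (iv1 F238109)))).symm
theorem E54848 : n107861 = n101593 := (((iv2 F166639)).symm.trans (sb E50918 (iv2 F156509)))
theorem E54849 : n153227 = n83548 := (((iv3 F240628)).symm.trans (sb E50918 F132781))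
theorem F300068 : act 4 n74928 = n40117 := (sb E50918 (iv4 D86546))
theorem E54853 : n181009 = n117917 := (((F184951).symm.trans (sb E50919 (iv2 F281851)))).symm
theorem F300069 : act 6 n54332 = n40117 := (sb E50919 (iv6 D86547))
theorem F300070 : act 4 n73969 = n40118 := (sb E50920 F120492)
theorem E54859 : n181243 = n179406 := (((D179406).symm.trans (sb E50921 (iv3 F282311)))).symm
theorem F300071 : act 6 n85597 = n40118 := (sb E50921 (iv6 D86550))
theorem E54863 : n128437 = n79280 := (((F132787).symm.trans (sb E50923 F211006))).symm
theorem E54864 : n133770 = n40118 := ((((iv5 D86549)).symm.trans (sb E50923 (iv5 F215382)))).symm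
theorem E54865 : n181244 = n61776 := ((D181244).symm.trans (sb E50923 (iv6 D131654)))
theorem E54866 : n168918 = n107859 := ((((iv4 F299958)).symm.trans (sb E50924 D168918))).symm
theorem E54867 : n85643 = n61640 := (((iv6 F299959)).symm.trans (sb E50924 F124781))
theorem E54868 : n181252 = n118127 := ((((iv1 F185602)).symm.trans (sb E50925 D181252))).symm
theorem F300073 : act 6 n60385 = n40120 := (sb E50925 (iv6 D86552))
theorem F300074 : act 0 n70446 = n40122 := (sb E50926 (iv1 D86555))
theorem E54872 : n181251 = n128397 := (((F211003).symm.trans (sb E50926 F282327))).symm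
theorem E54873 : n168099 = n118133 := ((((iv2 F185615)).symm.trans (sb E50926 (iv2 F282319)))).symm
theorem E54878 : n181249 = n128407 := (((F206527).symm.trans (sb E50926 F282318))).symm
theorem E54879 : n181250 = n149982 := ((D181250).symm.trans (sb E50927 (iv5 F235933)))
theorem F300075 : act 7 n60378 = n40122 := (sb E50929 (iv7 D86557))
theorem F300077 : act 1 n86023 = n40134 := (sb E50932 (iv0 D86576))
theorem E54882 : n181317 = n180008 := (((D180008).symm.trans (sb E50932 D181317))).symm
theorem F300078 : act 0 n86022 = n40134 := (sb E50933 (iv1 D86577))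
theorem E54887 : n181395 = n170551 := (((D170551).symm.trans (sb E50938 D181395))).symm
theorem F300079 : act 2 n81750 = n101278 := (sb E50938 (iv2 F156048))
theorem F300080 : act 5 n81750 = n40148 := (sb E50938 (iv5 D86604))
theorem E54890 : n181397 = n170450 := ((((iv7 F267899)).symm.trans (sb E50938 D181397))).symm
theorem F300081 : act 5 n33007 = n44766 := (sb E50939 (iv5 D95882))
theorem E54891 : n86774 = n86606 := (((iv0 F257016)).symm.trans (iv0 (sb E50941 (tr (iv1 F149258) E54572))))
theorem E54892 : n146028 = n86607 := (((iv1 F257017)).symm.trans (iv1 (sb E50942 (tr F149257 E54572))))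
theorem E54893 : n181401 = n84417 := ((D181401).symm.trans (sb E50942 (iv5 F147556)))
theorem F300082 : act 0 n86609 = n96788 := (sb E50943 (iv1 F149251))
theorem F300083 : act 1 n86609 = n96787 := (sb E50943 F149256)
theorem E54894 : n154009 = n86609 := (((iv2 F242032)).symm.trans (iv2 (sb E50943 (tr (iv2 F149254) E54572))))
theorem F300084 : act 5 n86609 = n44770 := (sb E50943 F147557)
theorem E54895 : n179405 = n83937 := ((D179405).symm.trans (sb E50944 F132869))
theorem E54898 : n181482 = n117918 := ((((iv6 F200266)).symm.trans (sb E50944 D181482))).symm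
theorem E54899 : n181483 = n179406 := (((D179406).symm.trans (sb E50945 D181483))).symm
theorem F300085 : act 3 n85591 = n124056 := (sb E50946 (iv3 F198436))
theorem F300087 : act 3 n86643 = n85645 := (sb E50953 F279246)
theorem F300092 : act 1 n80571 = n81556 := (sb E50959 F267474)
theorem F300093 : act 2 n80571 = n81722 := (sb E50959 (iv2 F267477))
theorem E54929 : n72922 = n45808 := ((((iv3 F117215)).symm.trans (sb E50967 (iv3 F190766)))).symm
theorem E54930 : n84821 = n58483 := (((D58483).symm.trans (sb E50967 D84821))).symm
theorem F300097 : act 6 n27829 = n18610 := (sb E50967 (iv6 D39237))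
theorem E54931 : n179766 = n120496 := (((D120496).symm.trans (sb E50968 (iv4 F279996)))).symm
theorem F300098 : act 5 n55469 = n40195 := (sb E50968 (iv5 D86693))
theorem E54932 : n181648 = n120497 := (((D120497).symm.trans (sb E50968 D181648))).symm
theorem F300099 : act 4 n81808 = n40197 := (sb E50969 F132954)
theorem E54933 : n122472 = n122447 := (((iv5 F195962)).symm.trans (sb E50969 (iv5 F195896)))
theorem F300100 : act 6 n81808 = n40195 := (sb E50969 (iv6 D86694))
theorem E54934 : n149043 = n124175 := (((D124175).symm.trans (sb E50970 (iv1 F234368)))).symm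
theorem E54935 : n149042 = n124176 := (((D124176).symm.trans (sb E50970 F234373))).symm
theorem E54936 : n149045 = n124177 := (((D124177).symm.trans (sb E50970 (iv2 F234371)))).symm
theorem E54937 : n177736 = n124178 := (((D124178).symm.trans (sb E50970 (iv5 F277183)))).symm
theorem F300101 : act 7 n57884 = n39085 := (sb E50970 (iv7 D84631))
theorem F300102 : act 7 n81638 = n80575 := (sb E50971 F264444)
theorem E54942 : n71592 = n28524 := (((F46094).symm.trans (sb E50978 F286756))).symm
theorem E54943 : n89215 = n28526 := ((((iv2 F46095)).symm.trans (sb E50978 (iv2 F136938)))).symm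
theorem E54945 : n80464 = n28575 := (((D28575).symm.trans (sb E50978 (iv6 F123692)))).symm
theorem E54948 : n69820 = n32881 := (((F191189).symm.trans (sb E50981 (iv7 D148933)))).symm
theorem E54949 : n89211 = n28522 := (((F51477).symm.trans (sb E50982 F264902))).symm
theorem E54950 : n80677 = n69810 := (((D69810).symm.trans (sb E50982 (iv6 D168069)))).symm
theorem E54951 : n150275 = n14104 := (((F54238).symm.trans (sb E50983 F264907))).symm
theorem F300103 : act 0 n32422 = n17748 := (sb E50984 (iv1 D36823))
theorem F300104 : act 4 n32422 = n69800 := (sb E50984 (iv4 F106218))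
theorem E54952 : n62764 = n32798 := (((iv5 F97926)).symm.trans (sb E50984 F57746))
theorem E54953 : n149931 = n69827 := (((D69827).symm.trans (sb E50991 F265456))).symm
theorem E54955 : n86589 = n49864 := (((D49864).symm.trans (sb E50993 F287106))).symm
theorem E54959 : n55755 = n32720 := ((((iv1 F51786)).symm.trans (sb E51010 (iv1 F192789)))).symm
theorem E54960 : n68113 = n55738 := ((F104264).symm.trans (sb E51010 (iv0 D120880)))
theorem F300105 : act 0 n16846 = n17757 := (sb E51011 (iv1 D36852))
theorem F300106 : act 3 n35507 = n17690 := (sb E51019 F91237)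
theorem E54969 : n80235 = n77814 := (((D77814).symm.trans (sb E51019 D80235))).symm
theorem E54971 : n80729 = n55329 := (((D55329).symm.trans (sb E51021 (iv6 D168198)))).symm
theorem F300108 : act 0 n26911 = n17694 := (sb E51024 F43752)
theorem F300109 : act 1 n26911 = n17690 := (sb E51024 (iv0 F43467))
theorem F300110 : act 2 n26911 = n17309 := (sb E51024 F43465)
theorem F300111 : act 0 n26906 = n17690 := (sb E51025 F43799)
theorem F300112 : act 1 n26906 = n17694 := (sb E51025 (iv0 F43798))
theorem F300113 : act 6 n26906 = n12982 := (sb E51025 (iv6 D27101))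
theorem F300114 : act 7 n26906 = n17309 := (sb E51025 (iv7 F43797))
theorem F300115 : act 3 n26936 = n17694 := (sb E51028 F57590)
theorem E54976 : n80490 = n55830 := (((D55830).symm.trans (sb E51028 D80490))).symm
theorem F300116 : act 5 n26936 = n17692 := (sb E51028 (iv5 D36710))
theorem F300117 : act 3 n27153 = n17695 := (sb E51029 F57592)
theorem F300118 : act 6 n27153 = n17692 := (sb E51029 (iv6 D36711))
theorem E54977 : n70488 = n35014 := (((F232462).symm.trans (sb E51030 (iv0 F232221)))).symm
theorem E54979 : n69568 = n55337 := (((D55337).symm.trans (sb E51030 (iv6 D148472)))).symm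
theorem E54981 : n34254 = n21580 := (((iv2 F131095)).symm.trans (sb E51034 F71288))
theorem E54982 : n62836 = n26323 := ((D62836).symm.trans (sb E51034 F71289))
theorem E54983 : n53990 = n21578 := ((F85170).symm.trans (sb E51034 (iv6 D45221)))
theorem E54984 : n70544 = n34231 := ((((iv4 F53865)).symm.trans (sb E51035 (iv4 F107010)))).symm
theorem E54985 : n96772 = n7703 := ((((iv6 D16579)).symm.trans (sb E51035 D96772))).symm
theorem E54986 : n70545 = n62831 := (((D62831).symm.trans (sb E51036 F190469))).symm
theorem E54987 : n62829 = n33387 := (((iv3 F98058)).symm.trans (sb E51036 (iv3 D72345)))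
theorem E54988 : n74864 = n62832 := (((D62832).symm.trans (sb E51036 F190472))).symm
theorem E54989 : n73693 = n14133 := ((((iv6 D29734)).symm.trans (sb E51036 F190473))).symm
theorem E54990 : n62833 = n55136 := ((D62833).symm.trans (sb E51036 (iv7 F190476)))
theorem E54991 : n150837 = n11450 := ((((iv1 F26538)).symm.trans (sb E51037 (iv1 F244008)))).symm
theorem E54992 : n120653 = n5365 := ((((iv0 F26539)).symm.trans (sb E51037 F244009))).symm
theorem E54993 : n85592 = n3021 := ((((iv5 D6714)).symm.trans (sb E51037 F244006))).symm
theorem E54994 : n73691 = n7711 := ((((iv7 F26546)).symm.trans (sb E51037 (iv7 D155183)))).symm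
theorem E54995 : n55135 = n34271 := ((((iv6 F53938)).symm.trans (sb E51038 F110406))).symm
theorem E54996 : n131446 = n89258 := (((iv4 F210694)).symm.trans (sb E51041 (tr F244057 E53387)))
theorem E54997 : n108362 = n73704 := (((iv6 F167540)).symm.trans (sb E51041 (iv6 D155201)))
theorem E54998 : n157121 = n26391 := (((F53238).symm.trans (sb E51042 (iv3 F247234)))).symm
theorem F300119 : act 4 n33866 = n34256 := (sb E51042 F112116)
theorem E55000 : n65359 = n16371 := ((((iv6 D33866)).symm.trans (sb E51042 F112117))).symm
theorem E55001 : n70496 = n34270 := (((iv1 F106948)).symm.trans (sb E51044 (iv1 F79193)))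
theorem E55002 : n70493 = n34269 := (((iv0 F106944)).symm.trans (sb E51044 F79194))
theorem E55003 : n70448 = n34017 := ((F106913).symm.trans (sb E51044 F79190))
theorem F300120 : act 6 n33865 = n34256 := (sb E51044 F79191)
theorem E55004 : n55128 = n24405 := (((iv7 F87200)).symm.trans (sb E51044 (iv7 D50041)))
theorem E55005 : n74760 = n33023 := ((D74760).symm.trans (sb E51045 F61696))
theorem F300121 : act 5 n34255 = n33022 := (sb E51045 F61697)
theorem E55006 : n30560 = n26325 := ((((iv1 F85965)).symm.trans (sb E51047 (iv1 D65071)))).symm
theorem E55008 : n62840 = n26326 := (((F85961).symm.trans (sb E51047 (iv2 F131133)))).symm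
theorem E55009 : n138576 = n32753 := (((F85962).symm.trans (sb E51047 D138576))).symm
theorem F300122 : act 4 n54428 = n34255 := (sb E51047 F130295)
theorem E55011 : n138578 = n32836 := (((F85964).symm.trans (sb E51047 D138578))).symm
theorem E55012 : n118007 = n32855 := ((((iv1 F107324)).symm.trans (sb E51048 F185200))).symm
theorem E55013 : n108402 = n32854 := (((F107326).symm.trans (sb E51048 F183222))).symm
theorem E55014 : n62842 = n32857 := (((F107321).symm.trans (sb E51048 F131138))).symm
theorem F300123 : act 3 n70848 = n157224 := (sb E51048 (iv3 F247431))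
theorem E55015 : n150397 = n117961 := (((iv5 F236737)).symm.trans (sb E51048 (iv5 F185020)))
theorem F300124 : act 6 n70848 = n34255 := (sb E51048 (iv6 D74762))
theorem F300125 : act 0 n33083 = n26323 := (sb E51049 (iv1 D54427))
theorem F300126 : act 1 n33083 = n26326 := (sb E51049 F85958)
theorem F300127 : act 2 n33083 = n26325 := (sb E51049 (iv2 F85960))
theorem E55017 : n71519 = n70503 := ((D71519).symm.trans (sb E51049 (iv6 F106961)))
theorem F300128 : act 7 n33083 = n26324 := (sb E51049 F85959)
theorem E55018 : n80672 = n32753 := (((F85962).symm.trans (sb E51050 (iv3 F124095)))).symm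
theorem E55020 : n164635 = n32835 := ((((iv1 F51987)).symm.trans (sb E51051 D164635))).symm
theorem E55032 : n157224 = n71370 := ((F300123).symm.trans (sb E51054 F134069))
theorem F300129 : act 0 n80582 = n37360 := (sb E51057 (iv1 F125446))
theorem F300130 : act 1 n80582 = n37251 := (sb E51057 (iv0 D81558))
theorem F300131 : act 2 n80582 = n37357 := (sb E51057 F125449)
theorem E55039 : n170048 = n149906 := ((((iv3 F235776)).symm.trans (sb E51057 D170048))).symm
theorem F300132 : act 7 n80582 = n37358 := (sb E51057 F125448)
theorem E55042 : n87998 = n34365 := ((((iv1 D75007)).symm.trans (sb E51059 (iv1 D184532)))).symm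
theorem E55043 : n118741 = n88819 := (((iv0 F186796)).symm.trans (sb E51059 F286466))
theorem E55044 : n107939 = n56916 := ((((iv1 F89978)).symm.trans (sb E51060 F211091))).symm
theorem E55045 : n107927 = n56915 := (((F89975).symm.trans (sb E51060 (iv0 F214888)))).symm
theorem F300133 : act 3 n40720 = n29735 := (sb E51060 (iv3 D62835))
theorem E55047 : n133800 = n55380 := ((((iv4 F87646)).symm.trans (sb E51060 D133800))).symm
theorem E55048 : n117148 = n45053 := (((F297838).symm.trans (sb E51060 F183243))).symm
theorem E55049 : n150054 = n54631 := (((F87647).symm.trans (sb E51061 D150054))).symm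
theorem F300134 : act 6 n55380 = n32749 := (sb E51061 (iv6 D70599))
theorem E55060 : n170896 = n71364 := (((D71364).symm.trans (sb E51064 (iv6 F268490)))).symm
theorem F300136 : act 0 n84384 = n56226 := (sb E51081 (iv1 D121686))
theorem F300137 : act 2 n84384 = n79727 := (sb E51081 (iv2 F194640))
theorem F300138 : act 5 n84384 = n80470 := (sb E51081 F194199)
theorem F300139 : act 7 n84384 = n79728 := (sb E51081 (iv7 F194642))
theorem F300140 : act 5 n75978 = n79728 := (sb E51082 F194647)
theorem F300142 : act 2 n167684 = n84617 := (sb E51086 F276310)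
theorem F300143 : act 5 n167684 = n84347 := (sb E51086 F276312)
theorem F300145 : act 0 n167685 = n84460 := (sb E51087 (iv1 F276359))
theorem F300146 : act 1 n167685 = n84459 := (sb E51087 F276360)
theorem F300147 : act 2 n167685 = n84463 := (sb E51087 F276356)
theorem F300148 : act 5 n167685 = n84545 := (sb E51087 F276358)
theorem F300149 : act 7 n167685 = n84354 := (sb E51087 (iv7 D176989))
theorem F300150 : act 2 n167686 = n84464 := (sb E51088 F276361)
theorem F300151 : act 1 n167688 = n84453 := (sb E51089 (iv0 D177258))
theorem F300152 : act 2 n167688 = n177298 := (sb E51089 (iv2 F276675))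
theorem F300153 : act 7 n167688 = n169812 := (sb E51089 (iv7 F276651))
theorem F300154 : act 4 n167690 = n84533 := (sb E51091 F276658)
theorem F300155 : act 0 n167691 = n177298 := (sb E51092 (iv1 F276677))
theorem F300156 : act 1 n167691 = n169812 := (sb E51092 F276335)
theorem F300157 : act 2 n167691 = n84453 := (sb E51092 F276333)
theorem F300159 : act 0 n38976 = n80484 := (sb E51097 (iv1 F263983))
theorem F300160 : act 1 n38976 = n80478 := (sb E51097 (iv0 D167701))
theorem F300161 : act 0 n38957 = n80478 := (sb E51098 (iv1 D167702))
theorem F300163 : act 0 n167703 = n176977 := (sb E51100 F276698)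
theorem F300164 : act 1 n167703 = n176976 := (sb E51100 F276699)
theorem F300165 : act 2 n167703 = n177210 := (sb E51100 F276696)
theorem F300166 : act 7 n167703 = n177211 := (sb E51100 F276697)
theorem F300168 : act 0 n38978 = n80486 := (sb E51103 (iv1 F263995))
theorem F300169 : act 1 n38978 = n80480 := (sb E51103 (iv0 D167707))
theorem F300170 : act 0 n38962 = n80480 := (sb E51104 (iv1 D167708))
theorem F300171 : act 1 n38962 = n80486 := (sb E51104 F263996)
theorem F300172 : act 0 n167710 = n177005 := (sb E51106 F276720)
theorem F300173 : act 1 n167710 = n177007 := (sb E51106 F276721)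
theorem F300174 : act 2 n167710 = n177396 := (sb E51106 F276785)
theorem F300175 : act 7 n167710 = n177395 := (sb E51106 F276781)
theorem F300176 : act 1 n121025 = n160487 := (sb E51107 F264880)
theorem F300178 : act 4 n162783 = n100110 := (sb E51108 (iv4 F264011))
theorem F300180 : act 7 n162783 = n98050 := (sb E51108 F264012)
theorem F300181 : act 0 n162781 = n98050 := (sb E51109 F264019)
theorem F300183 : act 4 n162781 = n100825 := (sb E51109 F264018)
theorem F300184 : act 0 n167716 = n155211 := (sb E51110 F276705)
theorem F300185 : act 0 n167718 = n176976 := (sb E51112 F276703)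
theorem F300186 : act 1 n167718 = n176977 := (sb E51112 F276704)
theorem F300188 : act 7 n167718 = n177210 := (sb E51112 F276702)
theorem F300189 : act 0 n167723 = n177007 := (sb E51115 F276722)
theorem F300190 : act 1 n167723 = n177005 := (sb E51115 F276723)
theorem F300191 : act 2 n167723 = n177395 := (sb E51115 F276780)
theorem F300192 : act 7 n167723 = n177396 := (sb E51115 (iv7 F276783))
theorem F300193 : act 0 n81726 = n80575 := (sb E51117 (iv1 F264452))
theorem F300194 : act 4 n81726 = n80562 := (sb E51117 F264450)
theorem E55065 : n164697 = n35666 := (((F109852).symm.trans (sb E51118 D164697))).symm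
theorem E55067 : n120201 = n61690 := (E51131).trans E54561
theorem E55068 : n131443 = n55309 := ((D131443).symm.trans (sb E55067 (iv1 D120201)))
theorem E55069 : n82636 = n29263 := (((F96280).symm.trans (sb E55067 (tr F287089 E53388)))).symm
theorem E55070 : n131439 = n118474 := (((iv3 F210678)).symm.trans (sb E55067 (iv3 F287085)))
theorem F300204 : act 5 n120200 = n84373 := (sb E51132 F249397)
theorem E55071 : n175066 = n29263 := (E53388).trans E55069
theorem E55072 : n167078 = n75599 := ((D167078).symm.trans (sb E51133 F191401))
theorem F300205 : act 7 n80211 = n55309 := (sb E51133 (iv7 D120203))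
theorem F300206 : act 3 n158449 = n79009 := (sb E51134 F259288)
theorem E55073 : n170560 = n158449 := ((D170560).symm.trans (iv4 (sb E51134 (tr F259289 E53418))))
theorem F300207 : act 6 n158449 = n79008 := (sb E51134 (iv6 D164516))
theorem E55074 : n152698 = n75590 := ((((iv7 D158449)).symm.trans (sb E51134 (iv7 F259290)))).symm
theorem E55075 : n105876 = n87997 := ((D105876).symm.trans (sb E51137 (iv6 D184530)))
theorem F300208 : act 4 n41468 = n33096 := (sb E51138 F107980)
theorem E55076 : n88818 = n33055 := ((D88818).symm.trans (sb E51138 (iv5 D71440)))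
theorem E55078 : n151796 = n88814 := (((D88814).symm.trans (sb E51140 D151796))).symm
theorem F300209 : act 6 n41467 = n33096 := (sb E51140 (iv6 D71556))
theorem F300210 : act 5 n45909 = n55309 := (sb E51142 (iv5 D120202))
theorem E55079 : n98223 = n55312 := ((D98223).symm.trans (sb E51142 F191399))
theorem E55080 : n174493 = n161922 := (((D161922).symm.trans (sb E51144 F273912))).symm
theorem E55081 : n178480 = n161924 := (((D161924).symm.trans (sb E51144 (iv2 F278105)))).symm
theorem F300211 : act 5 n77764 = n56430 := (sb E51144 (iv5 D121990))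
theorem E55082 : n161927 = n161725 := ((D161927).symm.trans (sb E51144 (iv6 F255732)))
theorem E55083 : n61782 = n32727 := ((F96362).symm.trans (sb E52070 (iv1 D70547)))
theorem E55084 : n70895 = n61814 := (((D61814).symm.trans (sb E52070 F107413))).symm
theorem E55085 : n70308 = n31810 := (((F50114).symm.trans (sb E52070 F178694))).symm
theorem E55087 : n70894 = n61815 := (((D61815).symm.trans (sb E52070 F125608))).symm
theorem E55088 : n71511 = n16626 := ((((iv1 D34335)).symm.trans (iv1 (sb E51146 (tr F235583 E51149))))).symm
theorem E55089 : n118146 = n16626 := (E51146).trans E55088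
theorem E55090 : n54433 = n24285 := ((((iv2 F38066)).symm.trans (sb E55089 F185645))).symm
theorem E55091 : n149938 = n7729 := ((((iv6 D16626)).symm.trans (sb E55089 (iv6 F235845)))).symm
theorem E55092 : n54430 = n34337 := (((D34337).symm.trans (sb E55089 F185646))).symm
theorem E55094 : n70530 = n49815 := (((F78727).symm.trans (sb E51149 F235584))).symm
theorem E55095 : n118149 = n49814 := ((((iv2 F105747)).symm.trans (sb E51149 F235580))).symm
theorem E55096 : n86371 = n72350 := ((((iv3 F190423)).symm.trans (sb E51149 F297886))).symm
theorem E55097 : n74931 = n74702 := ((((iv4 F112466)).symm.trans (sb E51149 F235581))).symm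
theorem E55098 : n147045 = n74929 := (((D74929).symm.trans (sb E51149 F235582))).symm
theorem E55099 : n70543 = n34334 := ((((iv2 F105744)).symm.trans (sb E51151 (iv2 F107005)))).symm
theorem E55100 : n54251 = n32659 := ((F85596).symm.trans (sb E51151 (iv6 D70355)))
theorem F300215 : act 6 n150632 = n81671 := (sb E51152 (iv6 D170304))
theorem F300216 : act 6 n170059 = n81597 := (sb E51153 (iv6 D170141))
theorem F300217 : act 5 n58586 = n86646 := (sb E51155 F254606)
theorem E55102 : n149691 = n69456 := (((F131193).symm.trans (sb E51159 F235919))).symm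
theorem E55103 : n74924 = n35000 := (((iv3 F112446)).symm.trans (iv3 (sb E51160 (tr (iv3 D118150) E55092))))
theorem E55105 : n78347 = n76592 := (((D76592).symm.trans (sb E51160 F185654))).symm
theorem E55106 : n118151 = n74702 := (E51161).trans E55097
theorem E55107 : n157125 = n34337 := ((D157125).symm.trans (sb E55106 (tr (iv5 D118151) E55092)))
theorem F300218 : act 3 n18956 = n32718 := (sb E51163 F106971)
theorem E55108 : n149950 = n8885 := ((((iv5 D18956)).symm.trans (sb E51163 D149950))).symm
theorem E55109 : n40123 = n32715 := ((D40123).symm.trans (sb E51163 (iv6 D70524)))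
theorem E55110 : n149959 = n40120 := (((D40120).symm.trans (sb E51164 D149959))).symm
theorem F300219 : act 5 n18955 = n32718 := (sb E51164 (iv5 D70531))
theorem E55111 : n40122 = n32720 := ((D40122).symm.trans (sb E51164 F106981))
theorem F300220 : act 0 n16159 = n9074 := (sb E51167 (iv1 F30938))
theorem E55115 : n33454 = n10158 := ((D33454).symm.trans (sb E51167 F30937))
theorem E55118 : n128160 = n23319 := (((D23319).symm.trans (sb E51168 (iv6 F206291)))).symm
theorem E55123 : n120573 = n41007 := (((D41007).symm.trans (sb E51170 (iv1 F236400)))).symm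
theorem E55124 : n147826 = n41008 := (((D41008).symm.trans (sb E51170 (iv0 F231590)))).symm
theorem E55125 : n72981 = n41009 := (((D41009).symm.trans (sb E51170 F191077))).symm
theorem E55127 : n153190 = n23345 := (((D23345).symm.trans (sb E51171 D153190))).symm
theorem F300222 : act 7 n121375 = n149932 := (sb E51174 F257312)
theorem E55128 : n81010 = n69819 := ((((iv1 F106846)).symm.trans (sb E51175 (iv1 F234003)))).symm
theorem E55129 : n105878 = n32660 := ((((iv2 D70358)).symm.trans (sb E51175 (iv2 F234002)))).symm
theorem F300223 : act 7 n57103 = n100064 := (sb E51176 (iv7 F286881))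
theorem F300224 : act 2 n70374 = n100064 := (sb E51177 (iv2 F286878))
theorem E55132 : n87347 = n32666 := ((((iv3 D70374)).symm.trans (sb E51177 (iv3 D182952)))).symm
theorem E55133 : n149489 = n75850 := (E51178).trans E52638
theorem E55134 : n160217 = n69416 := (((F130332).symm.trans (sb E55133 (iv2 F252945)))).symm
theorem E55135 : n70203 = n69393 := (((F130335).symm.trans (sb E55133 (iv6 D149489)))).symm
theorem F300225 : act 0 n150424 = n98054 := (sb E51179 (iv1 F264426))
theorem F300226 : act 2 n150424 = n80554 := (sb E51179 (iv2 D167841))
theorem F300228 : act 7 n150424 = n98051 := (sb E51179 F264424)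
theorem E55136 : n77286 = n15808 := (((D15808).symm.trans (sb E51180 (iv3 D161039)))).symm
theorem F300229 : act 0 n72426 = n100064 := (sb E51181 (iv1 F285095))
theorem E55137 : n184241 = n153299 := (((D153299).symm.trans (sb E51181 (iv6 F286172)))).symm
theorem F300230 : act 0 n46722 = n33437 := (sb E51182 (iv1 D72427))
theorem E55138 : n123527 = n100065 := (((D100065).symm.trans (sb E51182 (iv5 F197953)))).symm
theorem E55140 : n87346 = n33365 := (((F52600).symm.trans (sb E51183 F285917))).symm
theorem F300231 : act 1 n48952 = n70862 := (sb E51184 F107339)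
theorem F300232 : act 2 n48952 = n69800 := (sb E51184 (iv2 F106841))
theorem E55143 : n105880 = n69791 := ((D105880).symm.trans (sb E51184 F106839))
theorem F300233 : act 4 n70356 = n32824 := (sb E51185 (iv4 D70824))
theorem E55145 : n149772 = n80597 := ((D149772).symm.trans (sb E51185 (iv6 F189469)))
theorem E55148 : n151882 = n70863 := (((D70863).symm.trans (sb E51186 D151882))).symm
theorem E55149 : n86744 = n72373 := (((iv3 F133026)).symm.trans (sb E51187 (iv3 F190481)))
theorem E55150 : n119035 = n18995 := ((((iv5 D40224)).symm.trans (sb E51187 D119035))).symm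
theorem F300234 : act 3 n55405 = n100064 := (sb E51188 (iv3 F286879))
theorem E55153 : n150061 = n120364 := (((D120364).symm.trans (sb E51188 D150061))).symm
theorem F300235 : act 0 n150398 = n98051 := (sb E51189 (iv1 F264414))
theorem F300236 : act 1 n150398 = n80554 := (sb E51189 (iv0 D167839))
theorem F300237 : act 2 n150398 = n98054 := (sb E51189 (iv2 F264419))
theorem F300238 : act 0 n150541 = n80554 := (sb E51192 (iv1 D167840))
theorem F300239 : act 1 n150541 = n98051 := (sb E51192 (iv0 F264418))
theorem F300240 : act 3 n150541 = n105919 := (sb E51192 (iv3 F264415))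
theorem E55154 : n153664 = n118192 := (((iv4 F241547)).symm.trans (sb E51192 (iv4 F264416)))
theorem F300241 : act 7 n150541 = n98054 := (sb E51192 F264417)
theorem F300242 : act 1 n96681 = n80312 := (sb E51193 (iv0 D167344))
theorem E55155 : n170563 = n96681 := ((D170563).symm.trans (iv7 (sb E51193 (tr (iv7 F263480) E53418))))
theorem F300243 : act 0 n78273 = n45169 := (sb E51198 (iv1 D96698))
theorem F300244 : act 1 n78273 = n81635 := (sb E51198 F149041)
theorem F300245 : act 2 n78273 = n81633 := (sb E51198 F149043)
theorem E55156 : n170352 = n162838 := (((D162838).symm.trans (sb E51198 (iv4 F267839)))).symm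
theorem F300249 : act 4 n96700 = n181279 := (sb E51200 (iv4 F282353))
theorem F300250 : act 5 n167844 = n81444 := (sb E51204 (iv5 D169836))
theorem F300252 : act 0 n96681 = n81760 := (sb E51206 (iv1 F263516))
theorem E55157 : n152701 = n75590 := (((F149002).symm.trans (sb E51206 F263515))).symm
theorem E55158 : n167381 = n158460 := (E51207).trans E52455
theorem F300253 : act 1 n158460 = n81760 := (sb E55158 F263517)
theorem E55160 : n167377 = n158458 := (E51208).trans E52454
theorem E55161 : n81759 = n75595 := ((((iv1 D158458)).symm.trans (sb E55160 (iv1 F263510)))).symm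
theorem F300254 : act 1 n158458 = n81758 := (sb E55160 F263512)
theorem F300255 : act 3 n158458 = n81787 := (sb E55160 (iv3 F263511))
theorem F300256 : act 4 n158458 = n80325 := (sb E55160 (iv4 D167377))
theorem F300257 : act 7 n158458 = n81760 := (sb E55160 F263509)
theorem E55162 : n80323 = n80309 := (((D80309).symm.trans (sb E51209 D80323))).symm
theorem E55163 : n80324 = n80310 := (((D80310).symm.trans (sb E51209 D80324))).symm
theorem E55164 : n80325 = n80311 := (((D80311).symm.trans (sb E51209 D80325))).symm
theorem E55166 : n80328 = n80314 := (((D80314).symm.trans (sb E51209 D80328))).symm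
theorem F300258 : act 3 n167345 = n81567 := (sb E51210 F263520)
theorem F300259 : act 6 n159114 = n80312 := (sb E51211 (iv6 D167346))
theorem F300263 : act 4 n167892 = n170476 := (sb E51212 (iv4 F267925))
theorem F300264 : act 0 n167894 = n81567 := (sb E51213 (iv1 F267534))
theorem F300265 : act 1 n167894 = n81564 := (sb E51213 (iv0 D170063))
theorem F300266 : act 4 n167894 = n170475 := (sb E51213 (iv4 F267922))
theorem F300267 : act 7 n167894 = n81764 := (sb E51213 (iv7 F267536))
theorem F300269 : act 0 n159115 = n86446 := (sb E51216 (iv1 D181003))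
theorem F300270 : act 1 n159115 = n86533 := (sb E51216 F281830)
theorem E55168 : n181322 = n180011 := ((((iv4 F280390)).symm.trans (sb E51216 (iv4 F282400)))).symm
theorem F300271 : act 7 n159115 = n86530 := (sb E51216 F281831)
theorem F300273 : act 4 n170054 = n98061 := (sb E51224 F284489)
theorem F300274 : act 4 n15692 = n26767 := (sb E51225 F57736)
theorem F300275 : act 4 n13921 = n18185 := (sb E51226 F56841)
theorem F300276 : act 0 n32424 = n32825 := (sb E51227 (iv1 F57923))
theorem F300277 : act 2 n32424 = n32824 := (sb E51227 (iv2 F191234))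
theorem E55173 : n62900 = n15320 := ((((iv5 D32424)).symm.trans (sb E51227 (iv5 F191241)))).symm
theorem F300278 : act 7 n32424 = n23880 := (sb E51227 (iv7 F191243))
theorem F300279 : act 0 n36824 = n32824 := (sb E51228 (iv1 F57928))
theorem F300280 : act 1 n36824 = n23880 := (sb E51228 (iv0 F190012))
theorem E55174 : n81018 = n18961 := (((F57750).symm.trans (sb E51228 D81018))).symm
theorem E55175 : n81019 = n80679 := (((D80679).symm.trans (sb E51228 D81019))).symm
theorem F300281 : act 7 n36824 = n32825 := (sb E51228 F57925)
theorem E55176 : n81022 = n8747 := ((((iv4 D18633)).symm.trans (sb E51229 D81022))).symm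
theorem E55177 : n81023 = n39274 := (((D39274).symm.trans (sb E51229 D81023))).symm
theorem E55178 : n81024 = n80680 := (((D80680).symm.trans (sb E51230 D81024))).symm
theorem E55179 : n81025 = n80681 := (((D80681).symm.trans (sb E51230 D81025))).symm
theorem E55180 : n80682 = n54415 := ((D80682).symm.trans (sb E51230 (iv5 F85902)))
theorem E55181 : n80683 = n70453 := ((D80683).symm.trans (sb E51230 (iv7 F106920)))
theorem E55184 : n80686 = n62787 := ((D80686).symm.trans (sb E51232 F97975))
theorem E55185 : n80687 = n70744 := ((D80687).symm.trans (sb E51232 (iv0 F109849)))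
theorem E55186 : n80688 = n54416 := ((D80688).symm.trans (sb E51232 (iv5 F85905)))
theorem E55187 : n81030 = n80689 := (((D80689).symm.trans (sb E51232 D81030))).symm
theorem F300282 : act 1 n16845 = n17750 := (sb E51233 (iv0 D36828))
theorem E55189 : n80691 = n32707 := ((((iv5 F51776)).symm.trans (sb E51233 D80691))).symm
theorem F300283 : act 2 n36829 = n32821 := (sb E51234 F57949)
theorem F300284 : act 4 n36829 = n26847 := (sb E51234 F57947)
theorem E55190 : n80694 = n32708 := ((D80694).symm.trans (sb E51234 F57950))
theorem E55191 : n80695 = n28480 := ((D80695).symm.trans (sb E51234 (iv6 F57948)))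
theorem F300285 : act 7 n36829 = n26844 := (sb E51234 F57946)
theorem F300286 : act 5 n26317 = n17750 := (sb E51235 (iv5 D36830))
theorem F300287 : act 4 n32696 = n17753 := (sb E51236 F57765)
theorem F300288 : act 7 n32696 = n17750 := (sb E51236 (iv7 D36831))
theorem E55194 : n54776 = n40217 := (((F114863).symm.trans (sb E51237 F187248))).symm
theorem F300289 : act 2 n76591 = n54779 := (sb E51237 F187243)
theorem E55195 : n157124 = n76591 := ((D157124).symm.trans (iv3 (sb E51237 (tr F187244 E55097))))
theorem E55196 : n159973 = n149967 := ((D159973).symm.trans (sb E51237 (iv6 F235903)))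
theorem F300290 : act 7 n76591 = n54769 := (sb E51237 (iv7 D119019))
theorem F300291 : act 6 n71006 = n37329 := (sb E51239 (iv6 D81672))
theorem F300292 : act 1 n26493 = n40224 := (sb E51240 F125602)
theorem F300293 : act 4 n26493 = n37330 := (sb E51240 (iv4 D81674))
theorem E55201 : n54778 = n48949 := ((D54778).symm.trans (sb E51240 F125599))
theorem E55203 : n159964 = n79289 := ((D159964).symm.trans (sb E51241 F187269))
theorem F300294 : act 6 n26492 = n37330 := (sb E51242 (iv6 D81675))
theorem F300295 : act 7 n26492 = n170313 := (sb E51242 D170313)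
theorem E55209 : n178412 = n170316 := (((D170316).symm.trans (sb E51244 (iv5 F277993)))).symm
theorem E55213 : n170325 = n148477 := ((D170325).symm.trans (sb E51247 (iv6 F265950)))
theorem E55215 : n170328 = n119782 := ((D170328).symm.trans (sb E51248 F265957))
theorem E55217 : n170331 = n86581 := ((D170331).symm.trans (sb E51249 F265961))
theorem E55218 : n170332 = n162862 := ((D170332).symm.trans (sb E51249 F265962))
theorem F300296 : act 0 n81637 = n55824 := (sb E51256 (iv1 D121022))
theorem F300299 : act 0 n81688 = n86497 := (sb E51257 F265972)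
theorem F300301 : act 1 n81670 = n86683 := (sb E51260 F282595)
theorem E55224 : n120879 = n56386 := (((D56386).symm.trans (sb E51264 (iv3 F192787)))).symm
theorem E55226 : n170484 = n80566 := (((F185050).symm.trans (sb E51265 D170484))).symm
theorem E55228 : n170486 = n149967 := ((((iv4 F235901)).symm.trans (sb E51265 D170486))).symm
theorem E55231 : n170489 = n69818 := (((F123873).symm.trans (sb E51265 D170489))).symm
theorem E55232 : n81728 = n61820 := (E51266).trans E52313
theorem E55233 : n131764 = n80567 := ((D131764).symm.trans (sb E55232 (tr F267468 E53446)))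
theorem E55234 : n131758 = n69818 := (((iv2 F211125)).symm.trans (sb E55232 (tr (iv2 F267933) E55231)))
theorem E55239 : n131765 = n80566 := ((D131765).symm.trans (sb E55232 (tr F267931 E55226)))
theorem F300302 : act 3 n71008 = n37355 := (sb E51268 F125648)
theorem F300303 : act 3 n71009 = n37356 := (sb E51269 F125649)
theorem F300305 : act 5 n121939 = n81742 := (sb E51273 F201404)
theorem F300306 : act 6 n121939 = n84348 := (sb E51273 F201405)
theorem E55248 : n167338 = n150484 := (((F263475).symm.trans (sb E51274 F264431))).symm
theorem F300307 : act 6 n125248 = n86499 := (sb E51281 F264455)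
theorem F300308 : act 6 n35579 = n77892 := (sb E51282 (iv6 D162124))
theorem F300309 : act 1 n77395 = n80110 := (sb E51283 F122942)
theorem E55249 : n161442 = n161209 := ((((iv3 F254879)).symm.trans (sb E51283 D161442))).symm
theorem F300314 : act 0 n35541 = n77239 := (sb E51287 (iv1 D160942))
theorem F300319 : act 4 n174285 = n84217 := (sb E51290 F275995)
theorem E55260 : n121551 = n35509 := ((D121551).symm.trans (sb E51292 (iv6 D77820)))
theorem F300322 : act 4 n167498 = n80617 := (sb E51294 F263768)
theorem F300323 : act 5 n167498 = n161564 := (sb E51294 (iv5 F263770))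
theorem E55262 : n162277 = n162275 := (((D162275).symm.trans (sb E51301 D162277))).symm
theorem E55266 : n167496 = n77491 := (((D77491).symm.trans (sb E51315 (iv3 F263672)))).symm
theorem E55267 : n161162 = n77492 := (((D77492).symm.trans (sb E51315 F254839))).symm
theorem E55268 : n36639 = n36622 := (((iv6 F57495)).symm.trans (sb E51315 (iv6 D80380)))
theorem E55269 : n77846 = n77500 := (((D77500).symm.trans (sb E51316 (iv3 F117655)))).symm
theorem F300341 : act 6 n35385 = n17211 := (sb E51316 (iv6 D35524))
theorem E55271 : n173202 = n167119 := ((D173202).symm.trans (sb E51317 (iv5 F263221)))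
theorem F300342 : act 5 n80230 = n38124 := (sb E51318 (iv5 D82883))
theorem E55273 : n167121 = n167010 := ((D167121).symm.trans (sb E51318 (iv6 F262998)))
theorem E55276 : n176614 = n174280 := (((D174280).symm.trans (sb E51321 D176614))).symm
theorem E55277 : n176615 = n174281 := (((D174281).symm.trans (sb E51321 D176615))).symm
theorem E55278 : n174381 = n174279 := ((((iv2 F273067)).symm.trans (sb E51321 (iv2 F273225)))).symm
theorem F300343 : act 4 n83302 = n38834 := (sb E51321 F129254)
theorem E55279 : n176616 = n174282 := (((D174282).symm.trans (sb E51321 D176616))).symm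
theorem E55282 : n176618 = n174284 := (((D174284).symm.trans (sb E51322 D176618))).symm
theorem E55284 : n155481 = n98142 := ((((iv3 F151356)).symm.trans (sb E51323 D155481))).symm
theorem E55285 : n155482 = n47162 := (((F88660).symm.trans (sb E51323 D155482))).symm
theorem E55286 : n118501 = n98189 := ((((iv5 F151494)).symm.trans (sb E51323 F244475))).symm
theorem E55287 : n155483 = n121390 := (((D121390).symm.trans (sb E51323 D155483))).symm
theorem E55288 : n155484 = n73043 := ((((iv3 F109566)).symm.trans (sb E51324 D155484))).symm
theorem E55289 : n70001 = n47161 := ((((iv4 F88663)).symm.trans (sb E51324 (iv4 F184657)))).symm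
theorem E55290 : n118502 = n100810 := ((((iv5 F154908)).symm.trans (sb E51324 F186413))).symm
theorem E55291 : n121391 = n69999 := ((D121391).symm.trans (sb E51324 F184658))
theorem E55294 : n119642 = n33940 := ((D119642).symm.trans (sb E51325 (iv6 D73920)))
theorem E55297 : n155479 = n120813 := (((D120813).symm.trans (sb E51326 (iv6 F244471)))).symm
theorem F300344 : act 3 n16409 = n27024 := (sb E51327 F88664)
theorem E55300 : n121394 = n33946 := (((D33946).symm.trans (sb E51327 D121394))).symm
theorem F300345 : act 6 n16409 = n27023 := (sb E51327 (iv6 D56012))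
theorem E55302 : n155462 = n121402 := (((D121402).symm.trans (sb E51328 D155462))).symm
theorem E55303 : n155463 = n120816 := ((((iv6 F192715)).symm.trans (sb E51328 D155463))).symm
theorem E55304 : n118470 = n37889 := (((iv2 F186308)).symm.trans (sb E51329 F89077))
theorem F300346 : act 3 n54572 = n27124 := (sb E51329 (iv3 D56305))
theorem E55305 : n118503 = n56981 := ((D118503).symm.trans (sb E51329 (iv4 F90062)))
theorem E55306 : n121844 = n118493 := ((((iv6 F186399)).symm.trans (sb E51329 D121844))).symm
theorem E55311 : n122010 = n29903 := (((F48269).symm.trans (sb E54620 D122010))).symm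
theorem E55312 : n118493 = n63662 := ((((iv3 F98985)).symm.trans (sb E54620 (iv3 F186398)))).symm
theorem E55314 : n178823 = n39398 := ((((iv2 F60331)).symm.trans (sb E51332 (iv2 F278682)))).symm
theorem F300347 : act 0 n40263 = n56437 := (sb E51333 (iv1 D121996))
theorem E55316 : n161620 = n121390 := ((D161620).symm.trans (sb E51334 (tr (iv1 F244483) E55287)))
theorem E55317 : n161621 = n119668 := ((D161621).symm.trans (sb E51334 (iv0 F188777)))
theorem E55318 : n178826 = n124977 := ((((iv2 F200735)).symm.trans (sb E51334 (iv2 F278686)))).symm
theorem E55319 : n173937 = n161622 := (((D161622).symm.trans (sb E51334 (iv5 F272579)))).symm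
theorem E55320 : n161623 = n124990 := ((D161623).symm.trans (sb E51334 (iv6 F200766)))
theorem F300350 : act 7 n77625 = n39404 := (sb E51334 (iv7 D85268))
theorem F300351 : act 1 n77626 = n56437 := (sb E51335 F133142)
theorem E55322 : n181828 = n161625 := (((D161625).symm.trans (sb E51335 D181828))).symm
theorem F300354 : act 2 n77627 = n80374 := (sb E51336 (iv2 F123481))
theorem E55323 : n80316 = n80315 := ((((iv5 F123396)).symm.trans (sb E51336 F123399))).symm
theorem F300355 : act 2 n77683 = n77326 := (sb E51338 F123158)
theorem E55324 : n167055 = n155084 := (((F243901).symm.trans (sb E51338 (iv3 F263093)))).symm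
theorem F300356 : act 5 n77683 = n36524 := (sb E51338 (iv5 D80189))
theorem F300357 : act 7 n77683 = n77450 := (sb E51338 F123159)
theorem F300358 : act 2 n77684 = n77450 := (sb E51339 F123165)
theorem E55327 : n161716 = n120603 := ((D161716).symm.trans (sb E51339 (iv3 F192174)))
theorem F300359 : act 5 n77684 = n36529 := (sb E51339 (iv5 D80192))
theorem F300360 : act 7 n77684 = n77326 := (sb E51339 F123166)
theorem F300361 : act 0 n77686 = n77450 := (sb E51340 (iv1 F254681))
theorem F300362 : act 1 n77686 = n77326 := (sb E51340 (iv0 D161110))
theorem E55331 : n158774 = n77624 := ((((iv5 F116523)).symm.trans (sb E51341 (iv5 F249966)))).symm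
theorem F300363 : act 6 n35435 = n38384 := (sb E51341 (iv6 D83328))
theorem E55332 : n173684 = n167046 := ((D173684).symm.trans (sb E51342 (iv5 F263073)))
theorem F300365 : act 5 n80185 = n38227 := (sb E51343 (iv5 D83062))
theorem F300367 : act 4 n84120 = n83075 := (sb E51344 F272197)
theorem E55335 : n176434 = n167043 := ((D176434).symm.trans (sb E51344 F272198))
theorem E55336 : n167491 = n167490 := (((iv6 F263663)).symm.trans (sb E51344 F272199))
theorem F300369 : act 5 n80184 = n38772 := (sb E51345 (iv5 D84121))
theorem E55338 : n176436 = n167045 := (((D167045).symm.trans (sb E51345 D176436))).symm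
theorem F300370 : act 2 n80376 = n38779 := (sb E51346 (iv2 F123499))
theorem F300371 : act 4 n80376 = n38774 := (sb E51346 F123498)
theorem E55339 : n166977 = n166976 := (((iv5 F262892)).symm.trans (sb E51346 (iv5 F262886)))
theorem F300372 : act 6 n80376 = n38772 := (sb E51346 (iv6 F123500))
theorem E55342 : n119840 = n119645 := ((((iv2 F188695)).symm.trans (sb E51347 (iv2 F189139)))).symm
theorem E55346 : n161544 = n121499 := (((D121499).symm.trans (sb E51348 D161544))).symm
theorem E55347 : n121479 = n98540 := ((D121479).symm.trans (sb E51350 F151931))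
theorem E55348 : n161639 = n121480 := (((D121480).symm.trans (sb E51350 F255651))).symm
theorem E55349 : n161641 = n121481 := (((D121481).symm.trans (sb E51350 (iv2 F255650)))).symm
theorem E55350 : n161661 = n121483 := (((D121483).symm.trans (sb E51350 (iv5 F255676)))).symm
theorem F300373 : act 6 n56084 = n86831 := (sb E51350 (iv6 F133126))
theorem F300374 : act 7 n56084 = n35451 := (sb E51350 (iv7 D77643))
theorem E55351 : n161673 = n157667 := ((D161673).symm.trans (sb E51351 F254125))
theorem E55352 : n161680 = n121485 := (((D121485).symm.trans (sb E51352 (iv4 F255688)))).symm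
theorem F300375 : act 7 n56086 = n35455 := (sb E51352 (iv7 D77661))
theorem E55354 : n174297 = n73909 := (((iv1 F273094)).symm.trans (sb E51353 F193736))
theorem E55355 : n174296 = n119466 := (((iv0 F273093)).symm.trans (sb E51353 F244413))
theorem E55356 : n166140 = n161548 := (((D161548).symm.trans (sb E51357 D166140))).symm
theorem E55359 : n159261 = n77512 := (((D77512).symm.trans (sb E51360 (iv3 F250749)))).symm
theorem E55365 : n36598 = n36597 := (((D36597).symm.trans (sb E51362 (iv1 F123019)))).symm
theorem E55366 : n36600 = n14260 := (E53981).trans E54183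
theorem F300384 : act 3 n54570 = n83145 := (sb E51363 (iv3 F128183))
theorem E55369 : n86955 = n70689 := (((F155347).symm.trans (sb E51363 F133476))).symm
theorem E55370 : n121965 = n118497 := (((D118497).symm.trans (sb E51363 D121965))).symm
theorem F300385 : act 7 n54570 = n36491 := (sb E51363 F125379)
theorem F300386 : act 2 n54571 = n36491 := (sb E51364 F125385)
theorem E55371 : n100813 = n41717 := ((((iv3 F286775)).symm.trans (sb E51364 F154921))).symm
theorem E55372 : n86954 = n70610 := ((((iv4 F107079)).symm.trans (sb E51364 (iv4 F133460)))).symm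
theorem E55373 : n121966 = n118500 := (((D118500).symm.trans (sb E51364 D121966))).symm
theorem F300387 : act 2 n54557 = n26390 := (sb E51365 F86226)
theorem F300388 : act 1 n80274 = n41712 := (sb E51366 F272777)
theorem E55374 : n83366 = n83196 := (((iv2 F128486)).symm.trans (sb E51366 (iv2 F128265)))
theorem F300389 : act 4 n80274 = n46726 := (sb E51366 F127166)
theorem E55375 : n172303 = n70633 := (((F123361).symm.trans (sb E51366 (iv5 F270543)))).symm
theorem E55376 : n167214 = n83202 := ((D167214).symm.trans (sb E51366 (iv6 F128283)))
theorem E55377 : n167215 = n167171 := ((D167215).symm.trans (sb E51367 (iv1 F272662)))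
theorem E55378 : n167216 = n167170 := ((D167216).symm.trans (sb E51367 F272663))
theorem E55379 : n167173 = n84907 := ((((iv2 F130119)).symm.trans (sb E51367 F272658))).symm
theorem E55380 : n167218 = n83198 := ((D167218).symm.trans (sb E51367 (iv7 D174013)))
theorem E55381 : n167236 = n77759 := ((D167236).symm.trans (sb E51368 F255244))
theorem F300390 : act 5 n77736 = n36551 := (sb E51372 (iv5 D80234))
theorem E55385 : n167136 = n118497 := ((D167136).symm.trans (sb E51373 F244027))
theorem E55386 : n79182 = n73699 := ((F123269).symm.trans (sb E51373 (iv4 D155192)))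
theorem E55388 : n167139 = n117848 := ((D167139).symm.trans (sb E51373 F244024))
theorem E55389 : n36640 = n36557 := (((D36557).symm.trans (sb E51374 (iv6 F89346)))).symm
theorem F300391 : act 5 n77737 = n36555 := (sb E51375 (iv5 D80237))
theorem F300392 : act 0 n35487 = n36579 := (sb E51377 (iv1 D80286))
theorem E55396 : n167253 = n77760 := ((D167253).symm.trans (sb E51378 F255246))
theorem F300393 : act 5 n35484 = n36580 := (sb E51379 F123379)
theorem F300394 : act 7 n35484 = n36579 := (sb E51379 (iv7 D80288))
theorem E55398 : n178476 = n161158 := (((D161158).symm.trans (sb E51380 F278098))).symm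
theorem E55399 : n161861 = n161163 := (((D161163).symm.trans (sb E51381 (iv4 F255848)))).symm
theorem E55403 : n80403 = n80373 := (((F128461).symm.trans (sb E51384 F255535))).symm
theorem F300397 : act 6 n161425 = n77957 := (sb E51385 F256136)
theorem E55410 : n179108 = n167053 := (((D167053).symm.trans (sb E51389 D179108))).symm
theorem E55411 : n167054 = n118500 := ((D167054).symm.trans (sb E51389 (iv0 F236143)))
theorem E55412 : n179090 = n152591 := ((((iv2 F239778)).symm.trans (sb E51389 (iv2 F279028)))).symm
theorem E55413 : n167056 = n152672 := ((D167056).symm.trans (sb E51389 F239892))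
theorem F300401 : act 1 n80190 = n166954 := (sb E51390 F262824)
theorem E55417 : n181821 = n167213 := (((D167213).symm.trans (sb E51393 D181821))).symm
theorem E55418 : n161718 = n161316 := (((D161316).symm.trans (sb E51394 (iv4 F255713)))).symm
theorem E55419 : n161719 = n158775 := (((D158775).symm.trans (sb E51397 (iv4 F255717)))).symm
theorem E55420 : n80395 = n34585 := (((D34585).symm.trans (sb E51398 (iv1 F262873)))).symm
theorem E55421 : n80150 = n34586 := (((D34586).symm.trans (sb E51398 (iv0 D166972)))).symm
theorem E55424 : n161966 = n161177 := (((D161177).symm.trans (sb E51401 (iv3 F255966)))).symm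
theorem F300404 : act 5 n77375 = n35501 := (sb E51401 (iv5 D77795))
theorem E55432 : n75000 = n41473 := (((D41473).symm.trans (sb E51404 F116241))).symm
theorem E55433 : n71439 = n41475 := (((D41475).symm.trans (sb E51404 (iv5 F116242)))).symm
theorem E55434 : n158562 = n10475 := ((((iv1 D21952)).symm.trans (sb E51405 D158562))).symm
theorem E55435 : n158563 = n34557 := (((F54810).symm.trans (sb E51405 D158563))).symm
theorem E55436 : n158564 = n45910 := (((D45910).symm.trans (sb E51405 D158564))).symm
theorem F300405 : act 5 n21952 = n34589 := (sb E51405 (iv5 D75631))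
theorem E55437 : n45911 = n34607 := ((D45911).symm.trans (sb E51405 F113476))
theorem E55438 : n158152 = n71961 := (((D71961).symm.trans (sb E51406 (iv6 F249109)))).symm
theorem F300406 : act 4 n19634 = n35354 := (sb E51407 F56068)
theorem E55439 : n57664 = n41723 := ((((iv5 F64357)).symm.trans (sb E51407 (iv5 F90840)))).symm
theorem E55440 : n75002 = n41724 := (((D41724).symm.trans (sb E51407 D75002))).symm
theorem E55441 : n161288 = n158179 := ((((iv5 F249122)).symm.trans (sb E51409 D161288))).symm
theorem F300407 : act 6 n75331 = n35354 := (sb E51409 (iv6 D77433))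
theorem E55442 : n175438 = n83506 := (((D83506).symm.trans (sb E51411 F286947))).symm
theorem E55443 : n83572 = n83507 := (((D83507).symm.trans (sb E51411 F286948))).symm
theorem E55444 : n83838 = n35429 := (((F59334).symm.trans (sb E51412 (iv5 D175592)))).symm
theorem E55445 : n83787 = n33655 := (((F59040).symm.trans (sb E51413 (iv5 D175459)))).symm
theorem E55446 : n161290 = n100935 := ((D161290).symm.trans (sb E51414 F273864))
theorem E55447 : n161291 = n158423 := ((D161291).symm.trans (sb E51414 F273865))
theorem E55448 : n161292 = n158522 := ((D161292).symm.trans (sb E51414 F273866))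
theorem E55449 : n161293 = n99441 := ((D161293).symm.trans (sb E51415 F271826))
theorem E55450 : n161294 = n158424 := ((D161294).symm.trans (sb E51415 F271827))
theorem E55451 : n161295 = n82964 := ((D161295).symm.trans (sb E51415 (iv6 D173369)))
theorem E55452 : n161296 = n83772 := ((D161296).symm.trans (sb E51416 (iv1 F274503)))
theorem E55453 : n161297 = n83767 := ((D161297).symm.trans (sb E51416 (iv0 D175427)))
theorem F300409 : act 4 n152596 = n158317 := (sb E51421 F263608)
theorem F300413 : act 4 n166995 = n158406 := (sb E51425 (iv4 F263606))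
theorem E55454 : n80362 = n34588 := ((D80362).symm.trans (sb E51430 (tr (iv1 F239446) E54007)))
theorem E55459 : n80157 = n34586 := (E53681).trans E55421
theorem E55462 : n167536 = n167495 := ((((iv3 F263670)).symm.trans (sb E51433 (iv3 F263750)))).symm
theorem E55464 : n167537 = n167497 := (((D167497).symm.trans (sb E51433 D167537))).symm
theorem E55466 : n166955 = n166944 := (((D166944).symm.trans (sb E51435 D166955))).symm
theorem E55467 : n166956 = n166945 := (((D166945).symm.trans (sb E51435 D166956))).symm
theorem E55468 : n166957 = n166946 := (((D166946).symm.trans (sb E51435 D166957))).symm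
theorem F300417 : act 7 n80138 = n36588 := (sb E51435 F123009)
theorem F300418 : act 1 n35478 = n77627 := (sb E51438 F125666)
theorem E55473 : n170552 = n77728 := ((((iv3 F116599)).symm.trans (sb E51438 D170552))).symm
theorem F300419 : act 4 n35478 = n37370 := (sb E51438 (iv4 D81751))
theorem E55474 : n80144 = n77742 := (((D77742).symm.trans (sb E51438 F125664))).symm
theorem F300421 : act 6 n57936 = n34801 := (sb E51443 (iv6 D76190))
theorem F300422 : act 1 n27512 = n56631 := (sb E51444 F124299)
theorem F300423 : act 5 n27512 = n27272 := (sb E51444 F124301)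
theorem F300424 : act 0 n121264 = n157878 := (sb E51445 F258764)
theorem F300425 : act 1 n121264 = n157877 := (sb E51445 (iv0 F258765))
theorem F300426 : act 7 n121264 = n86154 := (sb E51445 F258763)
theorem F300427 : act 2 n17574 = n26906 := (sb E51459 F89155)
theorem F300428 : act 7 n17574 = n26911 := (sb E51459 F89156)
theorem E55498 : n35529 = n35386 := (((F88859).symm.trans (sb E51460 F118748))).symm
theorem F300431 : act 5 n123039 = n180173 := (sb E51467 (iv5 F280530))
theorem F300433 : act 4 n123040 = n98173 := (sb E51468 F201483)
theorem F300434 : act 5 n123040 = n180172 := (sb E51468 (iv5 F280526))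
theorem E55506 : n161952 = n160358 := ((((iv6 F253288)).symm.trans (sb E51468 (iv6 F255932)))).symm
theorem F300436 : act 0 n58058 = n77153 := (sb E51470 (iv1 D160795))
theorem F300437 : act 1 n58058 = n77164 := (sb E51470 F253948)
theorem F300438 : act 1 n75725 = n80511 := (sb E51471 F264083)
theorem F300439 : act 4 n75725 = n80499 := (sb E51471 F264079)
theorem E55507 : n166374 = n83295 := ((D166374).symm.trans (sb E51474 (iv5 F250035)))
theorem F300440 : act 0 n55851 = n75788 := (sb E51475 (iv1 F250070))
theorem F300441 : act 1 n55851 = n75779 := (sb E51475 (iv0 D158827))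
theorem F300446 : act 0 n79827 = n84218 := (sb E51478 (iv1 F275972))
theorem F300447 : act 2 n78216 = n75788 := (sb E51479 F248895)
theorem F300448 : act 4 n78216 = n75260 := (sb E51479 (iv4 D157997))
theorem F300449 : act 6 n78216 = n78843 := (sb E51479 F248896)
theorem F300450 : act 7 n78216 = n75779 := (sb E51479 F248897)
theorem F300451 : act 3 n17264 = n27083 := (sb E51480 (iv3 D56204))
theorem E55508 : n165572 = n162668 := (((D162668).symm.trans (sb E51483 F289056))).symm
theorem F300452 : act 0 n78144 = n83440 := (sb E51484 (iv1 F151648))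
theorem F300453 : act 1 n78144 = n83438 := (sb E51484 (iv0 F128543))
theorem F300454 : act 2 n78144 = n88746 := (sb E51484 (iv2 F136114))
theorem F300455 : act 6 n78144 = n38365 := (sb E51484 F122132)
theorem F300456 : act 0 n78132 = n38468 := (sb E51485 (iv1 F128546))
theorem F300457 : act 1 n78132 = n38453 := (sb E51485 (iv0 D83441))
theorem F300458 : act 2 n78132 = n124640 := (sb E51485 F199381)
theorem E55510 : n174610 = n162653 := (((D162653).symm.trans (sb E51485 D174610))).symm
theorem F300459 : act 7 n78132 = n124639 := (sb E51485 F199377)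
theorem F300460 : act 0 n78137 = n38453 := (sb E51486 (iv1 D83442))
theorem F300461 : act 1 n78137 = n38468 := (sb E51486 F128547)
theorem F300462 : act 2 n78137 = n124639 := (sb E51486 F199375)
theorem E55511 : n174612 = n162657 := (((D162657).symm.trans (sb E51486 D174612))).symm
theorem E55512 : n174613 = n162658 := (((D162658).symm.trans (sb E51486 D174613))).symm
theorem F300463 : act 6 n78137 = n38850 := (sb E51486 F136096)
theorem F300464 : act 7 n78137 = n124640 := (sb E51486 (iv7 F199379))
theorem F300465 : act 2 n83288 = n77183 := (sb E51487 F253811)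
theorem E55515 : n178189 = n166867 := (((D166867).symm.trans (sb E51488 (iv2 F277738)))).symm
theorem E55517 : n166862 = n39218 := (((iv6 F262654)).symm.trans (sb E51488 (iv6 D84815)))
theorem F300469 : act 6 n35338 = n27058 := (sb E51489 F56088)
theorem E55518 : n171071 = n78409 := ((((iv3 F119606)).symm.trans (sb E51490 (iv3 F268792)))).symm
theorem E55519 : n171076 = n84576 := (((D84576).symm.trans (sb E51490 (iv5 F268796)))).symm
theorem F300470 : act 7 n39059 = n37558 := (sb E51490 (iv7 D81995))
theorem F300471 : act 1 n81992 = n57430 := (sb E51491 (iv0 D123324))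
theorem F300472 : act 2 n81992 = n84575 := (sb E51491 (iv2 F197635))
theorem F300473 : act 6 n81992 = n124290 := (sb E51491 (iv6 F198779))
theorem F300474 : act 7 n81992 = n76909 := (sb E51491 F197637)
theorem F300475 : act 0 n173825 = n158856 := (sb E51492 F273521)
theorem F300476 : act 1 n173825 = n158853 := (sb E51492 F273522)
theorem F300477 : act 0 n173834 = n158853 := (sb E51493 F273004)
theorem F300478 : act 1 n173834 = n158856 := (sb E51493 F273005)
theorem F300479 : act 0 n79802 = n75736 := (sb E51494 (iv1 F151331))
theorem F300480 : act 1 n79802 = n82414 := (sb E51494 F151332)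
theorem F300481 : act 7 n79802 = n45838 := (sb E51494 (iv7 D98131))
theorem F300482 : act 3 n84588 = n45904 := (sb E51495 (iv3 D98212))
theorem F300483 : act 6 n84588 = n75284 := (sb E51495 F151552)
theorem F300484 : act 0 n98213 = n162751 := (sb E51496 (iv1 F256978))
theorem F300485 : act 1 n98213 = n162754 := (sb E51496 (iv0 F256984))
theorem F300486 : act 2 n98213 = n173849 := (sb E51496 (iv2 F272482))
theorem F300487 : act 3 n98213 = n177583 := (sb E51496 (iv3 F277036))
theorem F300488 : act 7 n98213 = n78377 := (sb E51496 F193092)
theorem F300489 : act 3 n165636 = n84193 := (sb E51497 (iv3 D176596))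
theorem E55520 : n86034 = n79557 := ((((iv4 D165636)).symm.trans (sb E51497 F275960))).symm
theorem F300490 : act 7 n165636 = n170689 := (sb E51497 F275961)
theorem F300491 : act 4 n174197 = n84787 := (sb E51498 F277661)
theorem F300492 : act 0 n166199 = n84175 := (sb E51502 (iv1 F270232))
theorem F300493 : act 1 n166199 = n82418 := (sb E51502 (iv0 D172090))
theorem F300494 : act 2 n166199 = n84243 := (sb E51502 (iv2 F270230))
theorem F300495 : act 7 n166199 = n84244 := (sb E51502 (iv7 F270231))
theorem E55522 : n166252 = n84232 := (((iv1 F261753)).symm.trans (sb E51504 (iv1 F276035)))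
theorem E55523 : n166254 = n84227 := (((iv0 F261754)).symm.trans (sb E51504 (iv0 D176655)))
theorem F300497 : act 0 n80514 = n75356 := (sb E51505 (iv1 F151672))
theorem F300498 : act 1 n80514 = n75727 := (sb E51505 F151673)
theorem F300499 : act 2 n80514 = n75725 := (sb E51505 F151669)
theorem F300500 : act 6 n80514 = n82582 := (sb E51505 F151671)
theorem F300501 : act 7 n166361 = n176601 := (sb E51506 F276039)
theorem F300502 : act 2 n88650 = n79885 := (sb E51507 F261948)
theorem F300503 : act 6 n88650 = n79880 := (sb E51507 (iv6 D166362))
theorem E55525 : n178132 = n76895 := ((D178132).symm.trans (sb E51509 (iv1 D160411)))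
theorem F300513 : act 0 n84197 = n79827 := (sb E51513 (iv1 D166260))
theorem F300514 : act 0 n83261 = n79885 := (sb E51514 (iv1 D166373))
theorem F300515 : act 2 n166250 = n84235 := (sb E51515 F270219)
theorem F300516 : act 5 n166250 = n164112 := (sb E51515 F270221)
theorem F300517 : act 1 n121276 = n86154 := (sb E51516 (iv0 D180388))
theorem F300518 : act 2 n121276 = n157877 := (sb E51516 (iv2 F280720))
theorem F300519 : act 7 n121276 = n157878 := (sb E51516 F280722)
theorem F300520 : act 5 n162654 = n164111 := (sb E51517 (iv5 F273468))
theorem F300521 : act 7 n162654 = n84235 := (sb E51517 F273467)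
theorem F300522 : act 6 n121049 = n78838 := (sb E51518 (iv6 D164108))
theorem F300523 : act 6 n17189 = n27026 := (sb E51519 F91552)
theorem F300524 : act 0 n77607 = n55569 := (sb E51524 F131792)
theorem F300525 : act 1 n77607 = n76074 := (sb E51524 F131793)
theorem E55532 : n179768 = n123990 := (((F198402).symm.trans (sb E51524 (iv4 F280001)))).symm
theorem E55533 : n175775 = n27571 := (((D27571).symm.trans (sb E51525 (iv3 F275200)))).symm
theorem E55534 : n84694 = n72958 := (((D72958).symm.trans (sb E51528 (iv6 D177910)))).symm
theorem E55535 : n84692 = n72795 := ((D84692).symm.trans (sb E51530 F196420))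
theorem E55536 : n84693 = n73332 := ((D84693).symm.trans (sb E51530 F241799))
theorem F300526 : act 6 n39120 = n56932 := (sb E51530 (iv6 D122611))
theorem F300527 : act 5 n120335 = n84703 := (sb E51532 F268551)
theorem F300528 : act 2 n39122 = n57349 := (sb E51533 F196421)
theorem F300529 : act 5 n17639 = n17214 := (sb E51534 (iv5 D35534))
theorem F300530 : act 0 n46005 = n38497 := (sb E51535 (iv1 F123192))
theorem F300531 : act 1 n46005 = n36533 := (sb E51535 (iv0 D80198))
theorem F300532 : act 3 n46005 = n75318 := (sb E51535 F123191)
theorem E55537 : n98330 = n95646 := (((iv5 F151738)).symm.trans (sb E51535 (iv5 F147342)))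
theorem F300533 : act 0 n22403 = n36533 := (sb E51536 (iv1 D80199))
theorem F300534 : act 1 n22403 = n38497 := (sb E51536 F123198)
theorem E55539 : n95591 = n46725 := (((D46725).symm.trans (sb E51536 (iv5 F147263)))).symm
theorem F300535 : act 2 n46002 = n36533 := (sb E51537 (iv2 D80200))
theorem F300536 : act 3 n46002 = n46427 := (sb E51537 F123193)
theorem F300537 : act 4 n46002 = n36541 := (sb E51537 F123194)
theorem E55541 : n98320 = n76643 := ((D98320).symm.trans (sb E51537 F123195))
theorem E55542 : n167066 = n98321 := (((D98321).symm.trans (sb E51537 D167066))).symm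
theorem F300538 : act 7 n46002 = n38497 := (sb E51537 F123196)
theorem E55543 : n167067 = n46889 := ((D167067).symm.trans (sb E51539 F286959))
theorem E55544 : n167069 = n124381 := ((D167069).symm.trans (sb E51539 F286920))
theorem E55545 : n124383 = n123248 := (((D123248).symm.trans (sb E51541 F268529))).symm
theorem F300539 : act 0 n34766 = n56978 := (sb E51542 (iv1 F115464))
theorem F300540 : act 1 n34766 = n36534 := (sb E51542 F115465)
theorem F300541 : act 2 n34766 = n35123 := (sb E51542 F115421)
theorem E55546 : n160281 = n76086 := ((((iv3 F114075)).symm.trans (sb E51542 D160281))).symm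
theorem E55547 : n160282 = n76093 := (((D76093).symm.trans (sb E51542 D160282))).symm
theorem F300542 : act 7 n34766 = n35128 := (sb E51542 F115422)
theorem E55548 : n161957 = n160285 := (((D160285).symm.trans (sb E51543 (iv5 F255951)))).symm
theorem F300543 : act 2 n57984 = n56977 := (sb E51544 F123205)
theorem E55549 : n167071 = n124382 := (((D124382).symm.trans (sb E51544 D167071))).symm
theorem F300544 : act 5 n57984 = n36534 := (sb E51544 (iv5 D80202))
theorem E55550 : n171363 = n76837 := (((D76837).symm.trans (sb E51546 D171363))).symm
theorem E55551 : n124400 = n76839 := (((D76839).symm.trans (sb E51546 F198942))).symm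
theorem E55552 : n122464 = n76840 := (((D76840).symm.trans (sb E51546 F195927))).symm
theorem F300545 : act 1 n80206 = n45869 := (sb E51547 (iv0 D98171))
theorem F300546 : act 2 n80206 = n161504 := (sb E51547 (iv2 F255491))
theorem F300547 : act 7 n80206 = n157851 := (sb E51547 (iv7 F248760))
theorem F300548 : act 2 n33366 = n46861 := (sb E51548 (iv2 F74069))
theorem E55553 : n40599 = n16111 := ((((iv3 D33366)).symm.trans (sb E51548 F72926))).symm
theorem E55554 : n98864 = n70184 := ((((iv5 F106628)).symm.trans (sb E51548 D98864))).symm
theorem F300549 : act 6 n33366 = n22128 := (sb E51548 (iv6 D46267))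
theorem E55555 : n98857 = n72647 := (((D72647).symm.trans (sb E51549 F154458))).symm
theorem F300550 : act 7 n33528 = n46861 := (sb E51549 (iv7 D100408))
theorem F300551 : act 0 n22512 = n46861 := (sb E51550 F286923)
theorem F300552 : act 5 n100391 = n125125 := (sb E51552 F250631)
theorem F300553 : act 7 n100391 = n179763 := (sb E51552 (iv7 F279986))
theorem E55556 : n125127 = n123252 := (((D123252).symm.trans (sb E51554 F268541))).symm
theorem E55557 : n76107 = n55507 := (((D55507).symm.trans (sb E51555 D76107))).symm
theorem E55558 : n76108 = n55508 := (((D55508).symm.trans (sb E51555 D76108))).symm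
theorem F300554 : act 6 n26797 = n35147 := (sb E51555 (iv6 F55858))
theorem F300555 : act 5 n58507 = n55379 := (sb E51556 (iv5 D120329))
theorem E55559 : n124104 = n39715 := ((((iv7 F117531)).symm.trans (sb E51556 (iv7 F198505)))).symm
theorem F300556 : act 0 n85865 = n55377 := (sb E51557 (iv1 F191604))
theorem F300557 : act 1 n85865 = n55372 := (sb E51557 (iv0 D120319))
theorem F300558 : act 2 n85865 = n55486 := (sb E51557 (iv2 F191603))
theorem F300559 : act 4 n85865 = n56940 := (sb E51557 F191602)
theorem F300560 : act 6 n85865 = n56978 := (sb E51557 (iv6 F191606))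
theorem F300561 : act 7 n85865 = n55379 := (sb E51557 F191605)
theorem F300562 : act 2 n80357 = n77419 := (sb E51558 F196247)
theorem F300563 : act 3 n80357 = n36662 := (sb E51558 F196248)
theorem F300564 : act 5 n80357 = n77968 := (sb E51558 F196250)
theorem F300565 : act 6 n80357 = n36659 := (sb E51558 F196251)
theorem F300566 : act 3 n16657 = n19634 := (sb E51559 F64340)
theorem E55560 : n89229 = n27546 := ((((iv5 F44446)).symm.trans (sb E51559 (iv5 F136949)))).symm
theorem E55561 : n40380 = n34364 := (((D34364).symm.trans (sb E51559 F64341))).symm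
theorem F300567 : act 7 n16657 = n19624 := (sb E51559 (iv7 D41691))
theorem F300568 : act 2 n16658 = n19624 := (sb E51560 F62327)
theorem E55562 : n88001 = n27547 := ((((iv5 F44451)).symm.trans (sb E51560 D88001))).symm
theorem F300569 : act 6 n16658 = n19335 := (sb E51560 (iv6 D41082))
theorem F300570 : act 1 n16147 = n19624 := (sb E51561 (iv0 D41688))
theorem E55564 : n89220 = n33432 := (((D33432).symm.trans (sb E51561 D89220))).symm
theorem E55569 : n88012 = n34369 := (((D34369).symm.trans (sb E51563 (iv1 F286982)))).symm
theorem E55570 : n171349 = n34370 := (((D34370).symm.trans (sb E51563 D171349))).symm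
theorem E55571 : n47180 = n34371 := (((D34371).symm.trans (sb E51563 (iv5 F286859)))).symm
theorem E55577 : n171365 = n76843 := (((D76843).symm.trans (sb E51565 D171365))).symm
theorem F300571 : act 7 n55435 = n47002 := (sb E51567 (iv7 D100808))
theorem E55578 : n76677 = n47082 := (((F191035).symm.trans (sb E51568 (iv0 F196723)))).symm
theorem E55579 : n122765 = n32779 := (((F155314).symm.trans (sb E51568 F196719))).symm
theorem F300572 : act 3 n70606 = n57078 := (sb E51568 (iv3 D122796))
theorem E55580 : n120408 = n32784 := (((F155315).symm.trans (sb E51568 F196720))).symm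
theorem F300573 : act 0 n55433 = n47002 := (sb E51569 F236322)
theorem E55582 : n150232 = n120409 := (((D120409).symm.trans (sb E51569 D150232))).symm
theorem E55583 : n95457 = n19632 := ((((iv2 F156371)).symm.trans (sb E51570 (iv2 F147103)))).symm
theorem F300574 : act 3 n41474 = n57079 := (sb E51570 F112536)
theorem E55584 : n88841 = n73048 := ((D88841).symm.trans (sb E51570 F112535))
theorem E55585 : n157556 = n88842 := (((D88842).symm.trans (sb E51570 D157556))).symm
theorem F300575 : act 0 n122798 = n120310 := (sb E51572 (tr F289415 E54089))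
theorem F300576 : act 5 n52681 = n47002 := (sb E51573 (iv5 D100807))
theorem E55586 : n114122 = n89095 := ((D114122).symm.trans (sb E51573 F154903))
theorem F300577 : act 5 n57700 = n82483 := (sb E51574 (iv5 D172210))
theorem E55587 : n123799 = n89354 := ((D123799).symm.trans (sb E51574 (iv7 F289950)))
theorem E55588 : n120413 = n118233 := ((D120413).symm.trans (sb E51575 F185767))
theorem F300578 : act 4 n55436 = n45916 := (sb E51575 F151420)
theorem F300579 : act 7 n55436 = n45854 := (sb E51575 (iv7 D98162))
theorem F300580 : act 7 n55440 = n45858 := (sb E51577 (iv7 D98168))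
theorem F300590 : act 1 n127832 = n176408 := (sb E51580 F275708)
theorem F300591 : act 7 n127832 = n176410 := (sb E51580 (iv7 F275711))
theorem F300593 : act 7 n84112 = n83095 := (sb E51582 F272265)
theorem E55590 : n175765 = n123964 := (((D123964).symm.trans (sb E51589 (iv1 F275183)))).symm
theorem E55591 : n175764 = n123965 := (((D123965).symm.trans (sb E51589 F275191))).symm
theorem E55592 : n175767 = n123961 := ((((iv2 F198383)).symm.trans (sb E51589 (iv2 F275189)))).symm
theorem F300596 : act 3 n57751 = n38658 := (sb E51589 F128898)
theorem E55593 : n123966 = n75672 := ((D123966).symm.trans (sb E51589 F128899))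
theorem E55594 : n173644 = n123967 := (((D123967).symm.trans (sb E51589 (iv6 F272122)))).symm
theorem F300597 : act 7 n57751 = n38642 := (sb E51589 (iv7 D83911))
theorem F300598 : act 0 n78224 = n38334 := (sb E51591 (iv1 F127996))
theorem F300599 : act 1 n78224 = n38670 := (sb E51591 F127997)
theorem F300600 : act 2 n78224 = n38673 := (sb E51591 F127993)
theorem F300601 : act 6 n78224 = n38658 := (sb E51591 F127995)
theorem E55595 : n164919 = n13658 := (((D13658).symm.trans (sb E51592 D164919))).symm
theorem E55596 : n119407 = n13659 := (((D13659).symm.trans (sb E51592 (iv0 F188483)))).symm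
theorem E55603 : n33777 = n7605 := (((D7605).symm.trans (sb E51594 (iv3 F53020)))).symm
theorem E55604 : n36178 = n7607 := (((D7607).symm.trans (sb E51594 (iv5 F56899)))).symm
theorem E55609 : n83415 = n60290 := (((D60290).symm.trans (sb E51598 F271699))).symm
theorem F300602 : act 3 n28645 = n18325 := (sb E51599 (iv3 D38424))
theorem F300603 : act 0 n78084 = n82937 := (sb E51600 F250089)
theorem F300604 : act 2 n78084 = n83407 := (sb E51600 F250087)
theorem F300605 : act 5 n78084 = n75787 := (sb E51600 (iv5 D158838))
theorem F300606 : act 7 n78084 = n83408 := (sb E51600 F250088)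
theorem F300607 : act 1 n78085 = n82937 := (sb E51601 F249948)
theorem F300608 : act 2 n78085 = n83408 := (sb E51601 F249945)
theorem F300609 : act 7 n78085 = n83407 := (sb E51601 F249946)
theorem E55610 : n174595 = n162610 := (((D162610).symm.trans (sb E51602 (iv1 F273451)))).symm
theorem E55611 : n174598 = n162611 := (((D162611).symm.trans (sb E51602 (iv0 F273454)))).symm
theorem F300610 : act 2 n78086 = n83409 := (sb E51602 F271700)
theorem E55612 : n175032 = n162613 := (((D162613).symm.trans (sb E51602 (iv5 F273938)))).symm
theorem E55613 : n162614 = n83417 := ((D162614).symm.trans (sb E51602 F271701))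
theorem F300611 : act 7 n38426 = n35612 := (sb E51603 (iv7 D78087))
theorem E55615 : n167085 = n162621 := (((D162621).symm.trans (sb E51604 (iv1 F263169)))).symm
theorem E55616 : n167084 = n162622 := (((D162622).symm.trans (sb E51604 F263176))).symm
theorem E55617 : n167087 = n162623 := (((D162623).symm.trans (sb E51604 (iv2 F263173)))).symm
theorem E55618 : n173366 = n162624 := (((D162624).symm.trans (sb E51604 (iv5 F271821)))).symm
theorem F300612 : act 7 n78102 = n38182 := (sb E51604 (iv7 D82963))
theorem F300613 : act 2 n78103 = n38544 := (sb E51605 F127885)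
theorem E55619 : n173381 = n162628 := (((D162628).symm.trans (sb E51605 (iv4 F271862)))).symm
theorem E55620 : n173382 = n162629 := (((D162629).symm.trans (sb E51605 D173382))).symm
theorem F300614 : act 7 n78103 = n38186 := (sb E51605 (iv7 D82971))
theorem E55621 : n158623 = n149962 := ((D158623).symm.trans (sb E51606 (iv0 F253787)))
theorem F300617 : act 2 n75670 = n77148 := (sb E51607 F253788)
theorem F300618 : act 7 n75670 = n77162 := (sb E51607 F253789)
theorem F300619 : act 2 n83262 = n77153 := (sb E51608 F253790)
theorem F300620 : act 4 n83262 = n77056 := (sb E51608 (iv4 D160665))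
theorem F300621 : act 6 n83262 = n121051 := (sb E51608 F253791)
theorem F300622 : act 7 n83262 = n77164 := (sb E51608 F253792)
theorem F300623 : act 2 n83258 = n77162 := (sb E51609 F253793)
theorem F300624 : act 5 n83258 = n77058 := (sb E51609 (iv5 D160666))
theorem F300625 : act 7 n83258 = n77148 := (sb E51609 F253794)
theorem F300626 : act 2 n75656 = n77163 := (sb E51610 F123794)
theorem E55622 : n167801 = n158586 := ((((iv3 F249765)).symm.trans (sb E51610 D167801))).symm
theorem F300627 : act 4 n75656 = n36735 := (sb E51610 (iv4 D80523))
theorem F300628 : act 6 n75656 = n77058 := (sb E51610 F123795)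
theorem F300629 : act 3 n17674 = n27147 := (sb E51618 F89118)
theorem E55640 : n175958 = n167614 := (((D167614).symm.trans (sb E51620 (iv2 F275302)))).symm
theorem F300630 : act 0 n80442 = n37934 := (sb E51621 (iv1 D82614))
theorem F300631 : act 5 n80442 = n124631 := (sb E51621 (iv5 F199335))
theorem E55644 : n176006 = n167627 := (((D167627).symm.trans (sb E51622 (iv2 F275324)))).symm
theorem F300633 : act 3 n101191 = n73658 := (sb E51623 (iv3 D155173))
theorem F300634 : act 5 n160779 = n83538 := (sb E51624 F273016)
theorem F300635 : act 5 n38517 = n77145 := (sb E51626 (iv5 D160780))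
theorem F300636 : act 3 n28507 = n34574 := (sb E51627 F113437)
theorem E55646 : n158437 = n57665 := ((((iv5 F90845)).symm.trans (sb E51627 D158437))).symm
theorem E55647 : n70351 = n34987 := (((iv3 F106829)).symm.trans (sb E51628 (iv3 D76561)))
theorem E55648 : n114562 = n98338 := ((D114562).symm.trans (sb E51628 (iv5 F151760)))
theorem F300637 : act 7 n52881 = n60118 := (sb E51628 F114811)
theorem F300638 : act 0 n75582 = n149258 := (sb E51629 F234647)
theorem F300639 : act 1 n75582 = n120796 := (sb E51629 (iv0 F192670))
theorem F300640 : act 2 n75582 = n95740 := (sb E51629 F149831)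
theorem E55649 : n158439 = n45390 := ((D158439).symm.trans (sb E51629 (iv4 D97105)))
theorem F300641 : act 7 n75582 = n60134 := (sb E51629 F149833)
theorem E55650 : n152922 = n152188 := (((D152188).symm.trans (sb E51630 (iv6 F240152)))).symm
theorem F300642 : act 2 n60045 = n60118 := (sb E51631 F120440)
theorem F300643 : act 4 n60045 = n60133 := (sb E51631 F120441)
theorem E55651 : n127852 = n98339 := (((iv5 F205722)).symm.trans (sb E51631 (iv5 F151768)))
theorem E55652 : n164729 = n80527 := ((((iv6 F188323)).symm.trans (sb E51631 D164729))).symm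
theorem F300644 : act 2 n72178 = n60135 := (sb E51632 F205977)
theorem F300645 : act 6 n72178 = n60133 := (sb E51632 (iv6 D127987))
theorem F300646 : act 0 n40096 = n26484 := (sb E51633 (iv1 F86311))
theorem F300647 : act 1 n40096 = n26526 := (sb E51633 F86310)
theorem F300648 : act 2 n40096 = n26410 := (sb E51633 (iv2 D54611))
theorem E55653 : n118602 = n18948 := ((((iv5 D40096)).symm.trans (sb E51633 D118602))).symm
theorem E55654 : n86516 = n85094 := ((D86516).symm.trans (sb E51633 (iv6 F130435)))
theorem F300649 : act 7 n40096 = n26523 := (sb E51633 F86309)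
theorem E55655 : n148863 = n120207 := (((iv0 F233892)).symm.trans (sb E51634 F274361))
theorem F300652 : act 5 n127986 = n83719 := (sb E51634 (iv5 D175312))
theorem E55656 : n40007 = n26525 := (((D26525).symm.trans (sb E51635 F89050))).symm
theorem E55658 : n107857 = n40006 := (((iv5 F166620)).symm.trans (sb E51636 (iv5 F89057)))
theorem E55660 : n118608 = n79411 := (((D79411).symm.trans (sb E51637 D118608))).symm
theorem F300654 : act 5 n36158 = n26410 := (sb E51637 (iv5 D54613))
theorem E55661 : n79412 = n74857 := ((D79412).symm.trans (sb E51637 (iv6 F112357)))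
theorem F300655 : act 7 n36158 = n33149 := (sb E51637 F86315)
theorem F300656 : act 4 n98232 = n120412 := (sb E51640 F253821)
theorem E55666 : n87779 = n16160 := (((F52735).symm.trans (sb E51642 F285894))).symm
theorem F300658 : act 3 n33444 = n46861 := (sb E51643 F154446)
theorem F300659 : act 6 n33444 = n46859 := (sb E51643 (iv6 D100402))
theorem F300660 : act 5 n153324 = n83521 := (sb E51645 (iv5 D174844))
theorem E55668 : n98304 = n72444 := (((D72444).symm.trans (sb E51646 F287097))).symm
theorem F300662 : act 5 n114818 = n56048 := (sb E51647 (iv5 D121425))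
theorem E55669 : n172335 = n172153 := ((((iv3 F270326)).symm.trans (sb E51648 F270567))).symm
theorem E55670 : n172162 = n82759 := ((D172162).symm.trans (sb E51651 (iv4 D172865)))
theorem E55671 : n172167 = n82760 := ((D172167).symm.trans (sb E51652 (iv4 D172870)))
theorem F300663 : act 2 n82451 = n158342 := (sb E51653 (iv2 F249479))
theorem E55675 : n172546 = n172172 := (((D172172).symm.trans (sb E51653 (iv4 F270731)))).symm
theorem E55676 : n172464 = n172173 := (((D172173).symm.trans (sb E51653 (iv7 F270672)))).symm
theorem F300664 : act 5 n98256 = n77069 := (sb E51654 (iv5 D160686))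
theorem F300665 : act 1 n80497 = n38796 := (sb E51658 F127222)
theorem E55677 : n172528 = n167750 := (((D167750).symm.trans (sb E51658 (iv3 F270711)))).symm
theorem F300666 : act 5 n80497 = n37914 := (sb E51658 (iv5 D82598))
theorem F300667 : act 6 n80497 = n38134 := (sb E51658 (iv6 F127223))
theorem F300668 : act 7 n80497 = n38793 := (sb E51658 F127221)
theorem F300669 : act 0 n35651 = n38796 := (sb E51661 (iv1 F127210))
theorem F300670 : act 2 n35651 = n38793 := (sb E51661 (iv2 F127211))
theorem E55680 : n172516 = n78197 := ((((iv3 F119406)).symm.trans (sb E51661 (iv3 F270706)))).symm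
theorem F300671 : act 5 n35651 = n37913 := (sb E51661 (iv5 D82594))
theorem F300672 : act 0 n98961 = n84104 := (sb E51662 (iv1 D176395))
theorem E55681 : n176197 = n174634 := ((F275431).symm.trans (sb E51662 F275678))
theorem E55682 : n176196 = n174640 := ((F275428).symm.trans (sb E51663 (iv1 F275679)))
theorem E55683 : n176195 = n174639 := ((F275423).symm.trans (sb E51663 F275677))
theorem F300673 : act 2 n88074 = n84104 := (sb E51663 (iv2 D176396))
theorem E55688 : n79278 = n32494 := ((D79278).symm.trans (sb E51667 F184647))
theorem E55689 : n86011 = n79279 := (((D79279).symm.trans (sb E51667 F184648))).symm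
theorem E55690 : n79281 = n78348 := ((D79281).symm.trans (sb E51667 (iv6 F119568)))
theorem F300674 : act 4 n35709 = n27408 := (sb E51668 F56832)
theorem F300675 : act 6 n35709 = n17459 := (sb E51668 (iv6 D36088))
theorem F300676 : act 0 n54909 = n36141 := (sb E51669 (iv1 F88121))
theorem F300677 : act 1 n54909 = n26893 := (sb E51669 (iv0 D55690))
theorem F300678 : act 7 n54909 = n36139 := (sb E51669 (iv7 F88123))
theorem F300679 : act 0 n55035 = n26893 := (sb E51670 (iv1 D55691))
theorem F300680 : act 1 n55035 = n36141 := (sb E51670 F88124)
theorem F300681 : act 2 n55035 = n36139 := (sb E51670 (iv2 F88126))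
theorem F300682 : act 0 n45776 = n26602 := (sb E51671 F187481)
theorem E55694 : n98052 = n26565 := ((D98052).symm.trans (sb E51671 (iv6 D54926)))
theorem F300683 : act 3 n45775 = n26415 := (sb E51672 (iv3 D54619))
theorem E55696 : n118619 = n98051 := (((D98051).symm.trans (sb E51672 D118619))).symm
theorem F300684 : act 7 n45775 = n33164 := (sb E51672 F86325)
theorem F300685 : act 6 n16330 = n26893 := (sb E51673 (iv6 D55693))
theorem E55701 : n120803 = n62569 := ((((iv0 F105637)).symm.trans (sb E51674 D120803))).symm
theorem F300686 : act 3 n18602 = n27636 := (sb E51676 (iv3 D57913))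
theorem F300687 : act 6 n18603 = n36483 := (sb E51677 F122921)
theorem F300688 : act 3 n54924 = n101258 := (sb E51679 F206258)
theorem F300689 : act 6 n54924 = n60228 := (sb E51679 (iv6 D128136))
theorem E55708 : n119413 = n60185 := (((iv3 F188158)).symm.trans (sb E51680 (iv3 D128072)))
theorem F300690 : act 3 n18020 = n18550 := (sb E51682 F60057)
theorem F300691 : act 5 n18020 = n18548 := (sb E51682 (iv5 D39060))
theorem F300692 : act 0 n35148 = n27477 := (sb E51683 (iv1 F90593))
theorem F300693 : act 1 n35148 = n27472 := (sb E51683 (iv0 F87796))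
theorem F300694 : act 0 n55500 = n84653 := (sb E51684 F129862)
theorem F300695 : act 1 n55500 = n27267 := (sb E51684 F117614)
theorem F300696 : act 3 n55500 = n37314 := (sb E51684 F117319)
theorem F300697 : act 6 n55500 = n27254 := (sb E51684 (iv6 D56712))
theorem F300698 : act 1 n75768 = n79885 := (sb E51685 (iv0 F256982))
theorem F300699 : act 0 n15991 = n12873 := (sb E51686 F28904)
theorem F300700 : act 2 n15991 = n17481 := (sb E51686 F28901)
theorem F300701 : act 3 n15991 = n18928 := (sb E51686 (iv3 F30217))
theorem E55710 : n36878 = n33162 := (((D33162).symm.trans (sb E51686 D36878))).symm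
theorem F300702 : act 7 n15991 = n17482 := (sb E51686 F28903)
theorem F300703 : act 3 n16828 = n26821 := (sb E51688 F117212)
theorem E55712 : n118610 = n36544 := (((D36544).symm.trans (sb E51689 D118610))).symm
theorem E55713 : n79413 = n61390 := ((D79413).symm.trans (sb E51690 (iv1 F96080)))
theorem E55714 : n79414 = n29135 := ((D79414).symm.trans (sb E51690 (iv0 F86320)))
theorem E55715 : n79415 = n58410 := ((D79415).symm.trans (sb E51690 (iv5 F92260)))
theorem E55716 : n79416 = n61389 := ((D79416).symm.trans (sb E51690 (iv7 F95881)))
theorem F300704 : act 1 n16830 = n17757 := (sb E51693 (iv0 D36851))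
theorem F300705 : act 3 n82444 = n158317 := (sb E51695 (iv3 F249440))
theorem E55718 : n172345 = n172145 := (((D172145).symm.trans (sb E51695 (iv5 F270574)))).symm
theorem E55719 : n149622 = n119125 := (((D119125).symm.trans (sb E51696 F236849))).symm
theorem E55721 : n172141 = n83187 := ((D172141).symm.trans (sb E51699 (iv5 D173981)))
theorem E55722 : n155082 = n152379 := (((D152379).symm.trans (sb E51701 D155082))).symm
theorem E55723 : n152380 = n148543 := ((D152380).symm.trans (sb E51701 (iv0 F233316)))
theorem E55725 : n152381 = n33830 := ((D152381).symm.trans (sb E51701 (iv5 D73610)))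
theorem E55726 : n152382 = n119849 := ((D152382).symm.trans (sb E51701 (iv7 F189180)))
theorem E55734 : n172337 = n172155 := (((D172155).symm.trans (sb E51703 D172337))).symm
theorem E55735 : n172343 = n172156 := (((D172156).symm.trans (sb E51704 (iv1 F270570)))).symm
theorem F300706 : act 2 n82457 = n82603 := (sb E51705 F127232)
theorem E55738 : n172544 = n172184 := (((D172184).symm.trans (sb E51705 (iv3 F270727)))).symm
theorem F300707 : act 5 n82457 = n75502 := (sb E51705 F127234)
theorem E55739 : n120776 = n60320 := ((D120776).symm.trans (sb E51711 F206130))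
theorem F300708 : act 0 n28656 = n26887 := (sb E51712 F86934)
theorem E55740 : n60327 = n33006 := (((iv3 F94867)).symm.trans (sb E51712 F86932))
theorem E55741 : n70760 = n60094 := (((iv5 F107241)).symm.trans (sb E51713 (iv5 D127922)))
theorem E55742 : n120777 = n85788 := ((D120777).symm.trans (sb E51713 (iv6 F205838)))
theorem E55743 : n79156 = n60097 := ((((iv1 F188467)).symm.trans (sb E51714 (iv1 F120442)))).symm
theorem E55744 : n79158 = n60037 := ((((iv0 F188464)).symm.trans (sb E51714 F120446))).symm
theorem E55745 : n61809 = n45188 := ((D61809).symm.trans (sb E51714 (iv4 F88111)))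
theorem F300709 : act 5 n29293 = n26887 := (sb E51714 (iv5 D55685))
theorem E55747 : n120779 = n60341 := ((((iv1 F201153)).symm.trans (sb E51715 D120779))).symm
theorem E55748 : n120780 = n85787 := (((D85787).symm.trans (sb E51715 D120780))).symm
theorem F300710 : act 4 n39621 = n45846 := (sb E51715 F88113)
theorem F300711 : act 6 n39621 = n26887 := (sb E51715 (iv6 D55686))
theorem E55752 : n153898 = n44576 := (((F74488).symm.trans (sb E51718 (iv4 F241863)))).symm
theorem E55753 : n101463 = n60284 := ((D101463).symm.trans (sb E51718 (iv6 D128241)))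
theorem E55754 : n153226 = n83592 := (((iv1 F240626)).symm.trans (sb E51719 F128672))
theorem F300712 : act 4 n72812 = n45843 := (sb E51719 F121978)
theorem E55755 : n153263 = n40063 := (((iv5 F240770)).symm.trans (sb E51719 F121979))
theorem F300713 : act 6 n28643 = n45843 := (sb E51720 (iv6 D98139))
theorem F300714 : act 7 n98142 = n72385 := (sb E51721 F236577)
theorem F300715 : act 0 n72338 = n45845 := (sb E51722 (iv1 D98143))
theorem F300716 : act 1 n72338 = n77631 := (sb E51722 F151361)
theorem E55757 : n153212 = n101465 := (((iv3 F240572)).symm.trans (sb E51722 (iv3 F156291)))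
theorem E55758 : n153223 = n83087 := ((D153223).symm.trans (sb E51722 F151364))
theorem F300717 : act 7 n72338 = n82496 := (sb E51722 F151362)
theorem F300718 : act 1 n98140 = n72385 := (sb E51723 (iv0 D153259))
theorem E55759 : n69161 = n68906 := (((F151368).symm.trans (sb E51724 (iv5 D147576)))).symm
theorem E55761 : n124769 = n84063 := (((F281952).symm.trans (sb E51725 F206386))).symm
theorem F300719 : act 4 n98146 = n124766 := (sb E51725 F206387)
theorem F300720 : act 6 n98146 = n60291 := (sb E51725 (iv6 D128266))
theorem E55762 : n166220 = n84062 := (((F281953).symm.trans (sb E51725 F261711))).symm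
theorem E55763 : n180905 = n124775 := (((iv4 F281650)).symm.trans (sb E51726 F279780))
theorem F300721 : act 6 n98147 = n162724 := (sb E51726 (iv6 F279781))
theorem F300722 : act 0 n98148 = n148845 := (sb E51728 F279785)
theorem F300723 : act 1 n98148 = n148848 := (sb E51728 F279786)
theorem E55767 : n176246 = n83081 := (((D83081).symm.trans (sb E51731 D176246))).symm
theorem F300724 : act 4 n38239 = n38758 := (sb E51731 F129028)
theorem E55768 : n162742 = n83083 := (((D83083).symm.trans (sb E51731 (iv6 F256966)))).symm
theorem F300725 : act 0 n38241 = n35651 := (sb E51732 (iv1 D78203))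
theorem F300726 : act 1 n38241 = n80497 := (sb E51732 (iv0 F123729))
theorem F300727 : act 1 n38730 = n75703 := (sb E51733 (iv0 F122544))
theorem E55771 : n166210 = n84183 := (((D84183).symm.trans (sb E51734 D166210))).symm
theorem E55772 : n166211 = n84184 := (((D84184).symm.trans (sb E51734 D166211))).symm
theorem E55773 : n166212 = n84185 := (((D84185).symm.trans (sb E51734 D166212))).symm
theorem F300728 : act 4 n38817 = n82929 := (sb E51734 (iv4 F127781))
theorem F300729 : act 0 n98107 = n166201 := (sb E51736 (iv1 F261679))
theorem E55777 : n166200 = n55027 := (((F151274).symm.trans (sb E51736 F261678))).symm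
theorem F300730 : act 7 n98107 = n153916 := (sb E51736 (iv7 F241904))
theorem F300731 : act 4 n79799 = n84383 := (sb E51737 F151271)
theorem F300732 : act 7 n79799 = n45820 := (sb E51737 (iv7 D98113))
theorem F300733 : act 1 n79813 = n45824 := (sb E51738 (iv0 D98118))
theorem E55778 : n166227 = n84033 := ((D166227).symm.trans (sb E51738 (iv4 F151287)))
theorem F300734 : act 5 n79813 = n75727 := (sb E51738 F151284)
theorem F300735 : act 0 n79812 = n45824 := (sb E51739 (iv1 D98119))
theorem E55779 : n166223 = n84034 := ((D166223).symm.trans (sb E51739 (iv4 F151293)))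
theorem F300736 : act 5 n79812 = n75356 := (sb E51739 (iv5 F151291))
theorem E55780 : n176164 = n166204 := (((D166204).symm.trans (sb E51740 (iv4 F275404)))).symm
theorem F300737 : act 7 n79800 = n45824 := (sb E51740 (iv7 D98121))
theorem F300738 : act 0 n38843 = n36362 := (sb E51741 (iv1 D79825))
theorem E55781 : n166253 = n84226 := (((D84226).symm.trans (sb E51741 D166253))).symm
theorem F300739 : act 1 n38847 = n36362 := (sb E51742 (iv0 D79824))
theorem F300740 : act 0 n28543 = n36847 := (sb E51743 (iv1 F57790))
theorem F300741 : act 2 n28543 = n36846 := (sb E51743 (iv2 F57785))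
theorem F300742 : act 1 n28508 = n36847 := (sb E51744 F57791)
theorem E55784 : n60032 = n33075 := (((iv3 F94533)).symm.trans (sb E51744 (iv3 F56787)))
theorem F300743 : act 7 n28508 = n36846 := (sb E51744 (iv7 F57783))
theorem F300744 : act 0 n28540 = n36846 := (sb E51745 (iv1 F57787))
theorem F300745 : act 3 n28540 = n36824 := (sb E51745 (iv3 F57749))
theorem F300746 : act 4 n28540 = n45889 := (sb E51745 (iv4 F72473))
theorem E55785 : n60087 = n40136 := ((D60087).symm.trans (sb E51745 (iv5 F61028)))
theorem E55786 : n79160 = n60088 := (((D60088).symm.trans (sb E51745 D79160))).symm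
theorem F300747 : act 7 n28540 = n36847 := (sb E51745 (iv7 F57789))
theorem E55787 : n79161 = n70800 := (((D70800).symm.trans (sb E51746 D79161))).symm
theorem E55788 : n79162 = n70801 := (((D70801).symm.trans (sb E51746 D79162))).symm
theorem E55789 : n70802 = n37226 := ((D70802).symm.trans (sb E51746 (iv4 F58182)))
theorem E55790 : n79163 = n70803 := (((D70803).symm.trans (sb E51746 D79163))).symm
theorem F300748 : act 7 n32814 = n36848 := (sb E51746 (iv7 F57793))
theorem E55792 : n79165 = n70805 := (((D70805).symm.trans (sb E51747 D79165))).symm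
theorem F300749 : act 4 n32815 = n45890 := (sb E51747 (iv4 F72479))
theorem E55794 : n79167 = n70806 := (((D70806).symm.trans (sb E51747 D79167))).symm
theorem E55795 : n70812 = n36566 := ((((iv3 F57436)).symm.trans (sb E51748 D70812))).symm
theorem F300750 : act 4 n17641 = n15713 := (sb E51748 (iv4 D32818))
theorem E55796 : n70814 = n36568 := (((D36568).symm.trans (sb E51748 D70814))).symm
theorem E55797 : n79168 = n61605 := (((F96166).symm.trans (sb E51749 D79168))).symm
theorem E55798 : n79169 = n70367 := ((((iv0 F106850)).symm.trans (sb E51749 D79169))).symm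
theorem F300751 : act 2 n32819 = n36827 := (sb E51749 (iv2 F57760))
theorem E55800 : n79171 = n70815 := (((D70815).symm.trans (sb E51749 D79171))).symm
theorem F300752 : act 0 n32822 = n36829 := (sb E51751 (iv1 F57762))
theorem E55802 : n34700 = n34389 := (((iv3 F54941)).symm.trans (sb E51752 F55980))
theorem F300753 : act 4 n16804 = n17104 := (sb E51752 (iv4 D35248))
theorem F300754 : act 3 n17287 = n17106 := (sb E51753 F55981)
theorem E55804 : n77221 = n35668 := (((D35668).symm.trans (sb E51753 D77221))).symm
theorem F300755 : act 5 n17287 = n17104 := (sb E51753 (iv5 D35249))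
theorem F300756 : act 0 n36051 = n26408 := (sb E51754 F85658)
theorem F300757 : act 1 n36051 = n33154 := (sb E51754 (iv0 F85660))
theorem F300758 : act 2 n36051 = n32307 := (sb E51754 F85655)
theorem E55805 : n79183 = n33856 := ((D79183).symm.trans (sb E51754 F85659))
theorem E55806 : n79184 = n26245 := ((D79184).symm.trans (sb E51754 (iv6 D54287)))
theorem F300759 : act 7 n36051 = n26811 := (sb E51754 F85657)
theorem F300760 : act 6 n17732 = n17447 := (sb E51755 (iv6 D36053))
theorem F300761 : act 6 n98189 = n167758 := (sb E51756 (iv6 F264101))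
theorem E55807 : n121803 = n33386 := (((F52694).symm.trans (sb E51757 (iv0 F194411)))).symm
theorem E55808 : n118776 = n72375 := ((((iv3 F108859)).symm.trans (sb E51757 F186831))).symm
theorem F300763 : act 4 n33420 = n45887 := (sb E51757 (iv4 D98190))
theorem E55809 : n81599 = n72399 := ((((iv5 F108894)).symm.trans (sb E51757 F151502))).symm
theorem F300764 : act 6 n80502 = n45887 := (sb E51758 (iv6 D98191))
theorem E55810 : n153210 = n46989 := ((D153210).symm.trans (sb E51759 F134748))
theorem E55811 : n153211 = n46506 := ((D153211).symm.trans (sb E51759 F134749))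
theorem F300765 : act 7 n72334 = n47003 := (sb E51759 F134747)
theorem E55812 : n39981 = n33388 := (((D33388).symm.trans (sb E51760 F124256))).symm
theorem E55813 : n153250 = n147648 := (((iv4 F240740)).symm.trans (sb E51761 F240598))
theorem F300766 : act 0 n98193 = n148849 := (sb E51762 F241009)
theorem F300767 : act 5 n98193 = n128193 := (sb E51762 F206332)
theorem E55814 : n147345 = n77107 := (((F128185).symm.trans (sb E51763 (iv4 F240556)))).symm
theorem E55815 : n147575 = n77106 := ((((iv4 F128208)).symm.trans (sb E51764 (iv4 F240555)))).symm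
theorem E55816 : n147359 = n60067 := (((F128260).symm.trans (sb E51765 (iv1 F240562)))).symm
theorem E55817 : n147649 = n83595 := ((((iv0 F128677)).symm.trans (sb E51765 F240561))).symm
theorem F300768 : act 2 n98194 = n148849 := (sb E51767 (iv2 F236587))
theorem F300769 : act 4 n98194 = n73004 := (sb E51767 F236588)
theorem F300770 : act 5 n98194 = n162719 := (sb E51767 (iv5 F256947))
theorem F300771 : act 6 n98194 = n148832 := (sb E51767 F236589)
theorem E55818 : n184283 = n73003 := (((iv4 F286235)).symm.trans (sb E51768 F236584))
theorem F300772 : act 5 n98195 = n162720 := (sb E51768 F256954)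
theorem F300773 : act 6 n98195 = n147804 := (sb E51768 (iv6 F236585))
theorem F300774 : act 7 n98195 = n148849 := (sb E51768 F236586)
theorem F300775 : act 0 n98196 = n73037 := (sb E51769 F236592)
theorem F300776 : act 1 n98196 = n128195 := (sb E51769 F236593)
theorem F300777 : act 2 n98196 = n128193 := (sb E51769 F236590)
theorem F300778 : act 7 n98196 = n128192 := (sb E51769 F236599)
theorem F300779 : act 1 n98197 = n148849 := (sb E51770 (iv0 F236597))
theorem F300781 : act 2 n78198 = n75776 := (sb E51771 F151515)
theorem F300782 : act 5 n78198 = n45891 := (sb E51771 (iv5 D98199))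
theorem F300783 : act 7 n78198 = n75786 := (sb E51771 F151516)
theorem F300784 : act 2 n78199 = n75786 := (sb E51772 F151520)
theorem F300785 : act 5 n78199 = n45892 := (sb E51772 (iv5 D98201))
theorem F300786 : act 7 n78199 = n75776 := (sb E51772 F151521)
theorem F300787 : act 7 n98202 = n75704 := (sb E51773 (iv7 D158709))
theorem F300788 : act 0 n83115 = n45893 := (sb E51774 F129242)
theorem F300789 : act 1 n83115 = n82523 := (sb E51774 F129243)
theorem E55820 : n176595 = n173814 := ((((iv4 F272401)).symm.trans (sb E51774 D176595))).symm
theorem E55821 : n176593 = n173815 := (((D173815).symm.trans (sb E51774 (iv6 F275955)))).symm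
theorem F300790 : act 2 n83112 = n82523 := (sb E51775 F151533)
theorem F300791 : act 5 n83112 = n45894 := (sb E51775 F151534)
theorem F300792 : act 7 n83112 = n45893 := (sb E51775 (iv7 D98205))
theorem F300793 : act 0 n34625 = n36730 := (sb E51779 (iv1 D80512))
theorem F300796 : act 5 n84048 = n45879 := (sb E51781 F129085)
theorem E55825 : n176392 = n176228 := (((D176228).symm.trans (sb E51781 D176392))).symm
theorem E55826 : n133878 = n60082 := (((iv1 F215620)).symm.trans (sb E51783 (iv1 F190980)))
theorem E55827 : n133877 = n34573 := ((F215627).symm.trans (sb E51783 (tr F190982 E52973)))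
theorem E55828 : n133880 = n60079 := (((iv2 F215624)).symm.trans (sb E51783 (iv2 F191026)))
theorem E55829 : n133790 = n33417 := (((iv4 F215427)).symm.trans (sb E51783 (iv4 D72389)))
theorem E55831 : n119820 = n61187 := (((F98105).symm.trans (sb E51783 F191105))).symm
theorem E55832 : n62888 = n28538 := ((D62888).symm.trans (iv1 (sb E51784 (tr F113433 E54550))))
theorem E55833 : n60081 = n54551 := ((D60081).symm.trans (sb E51784 F113431))
theorem E55834 : n72393 = n62887 := ((((iv2 F98100)).symm.trans (iv2 (sb E51785 (tr (iv2 F113435) E54550))))).symm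
theorem E55835 : n75577 = n62887 := (E51785).trans E55834
theorem E55836 : n153264 = n61793 := (((F98101).symm.trans (sb E55835 (tr (iv3 F249082) E54023)))).symm
theorem E55837 : n133786 = n33418 := (((iv4 F215423)).symm.trans (sb E55835 (tr (iv4 F123981) E54109)))
theorem E55838 : n133879 = n71979 := ((D133879).symm.trans (sb E55835 F113436))
theorem E55839 : n158433 = n29756 := ((((iv6 D62887)).symm.trans (sb E55835 D158433))).symm
theorem E55840 : n81517 = n72347 := (((D72347).symm.trans (sb E51786 F152240))).symm
theorem E55841 : n128329 = n54952 := (((F86941).symm.trans (sb E51787 F240781))).symm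
theorem F300798 : act 0 n98751 = n169049 := (sb E51788 (iv1 F266245))
theorem F300799 : act 1 n98751 = n169050 := (sb E51788 (iv0 F266248))
theorem E55843 : n153266 = n29756 := (((E55839).symm.trans (((iv2 F249629)).symm.trans (sb E51788 (iv2 F240783))))).symm
theorem E55845 : n158410 = n60137 := ((D158410).symm.trans (sb E51790 (iv3 D127996)))
theorem E55846 : n70911 = n61759 := (((E52324).symm.trans (((iv4 F267522)).symm.trans (sb E51790 F205987)))).symm
theorem E55856 : n118712 = n26453 := (((D26453).symm.trans (sb E51795 (iv1 F186732)))).symm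
theorem E55857 : n70933 = n26454 := (((D26454).symm.trans (sb E51795 (iv0 F107480)))).symm
theorem E55863 : n121814 = n26468 := (((D26468).symm.trans (sb E51797 D121814))).symm
theorem E55870 : n154858 = n26421 := (((D26421).symm.trans (sb E51799 (iv4 F243568)))).symm
theorem E55872 : n155258 = n26635 := (((D26635).symm.trans (sb E51801 (iv1 F244164)))).symm
theorem E55873 : n119768 = n26636 := (((D26636).symm.trans (sb E51801 (iv0 F188974)))).symm
theorem E55875 : n155307 = n26637 := (((D26637).symm.trans (sb E51801 (iv5 F244243)))).symm
theorem E55885 : n155253 = n26614 := (((D26614).symm.trans (sb E51811 (iv1 F244159)))).symm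
theorem E55886 : n155252 = n26615 := (((D26615).symm.trans (sb E51811 F244158))).symm
theorem E55898 : n154921 = n18750 := (((D18750).symm.trans (sb E51818 F282585))).symm
theorem E55907 : n165581 = n58526 := (((D58526).symm.trans (sb E51822 D165581))).symm
theorem E55921 : n124926 = n27795 := (((D27795).symm.trans (sb E51826 D124926))).symm
theorem F300802 : act 3 n36620 = n17716 := (sb E51828 F91201)
theorem F300803 : act 6 n36620 = n18898 := (sb E51828 F91203)
theorem E55928 : n171029 = n39015 := (((D39015).symm.trans (sb E51835 (iv5 F268747)))).symm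
theorem E55929 : n124425 = n123007 := (((D123007).symm.trans (sb E51836 (iv3 F199009)))).symm
theorem E55930 : n124429 = n123008 := (((D123008).symm.trans (sb E51836 D124429))).symm
theorem F300804 : act 6 n57229 = n27672 := (sb E51836 (iv6 D58021))
theorem E55931 : n123051 = n101475 := (((iv3 F197206)).symm.trans (sb E51837 (iv3 F184770)))
theorem F300805 : act 0 n77828 = n77338 := (sb E51839 (iv1 F254701))
theorem F300806 : act 1 n77828 = n77336 := (sb E51839 (iv0 D161119))
theorem E55932 : n162020 = n160474 := ((D162020).symm.trans (sb E51839 F254700))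
theorem F300807 : act 0 n83117 = n157990 := (sb E51841 F270750)
theorem E55933 : n155189 = n60231 := ((D155189).symm.trans (sb E51842 F191393))
theorem E55934 : n173826 = n119291 := ((((iv0 F190689)).symm.trans (sb E51842 D173826))).symm
theorem E55935 : n173827 = n119399 := ((((iv2 F188122)).symm.trans (sb E51842 D173827))).symm
theorem F300808 : act 3 n73697 = n38266 := (sb E51842 (iv3 D83125))
theorem E55937 : n173828 = n155190 := (((D155190).symm.trans (sb E51842 D173828))).symm
theorem F300809 : act 1 n83126 = n157990 := (sb E51843 (iv0 F248875))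
theorem E55939 : n174205 = n173831 := (((D173831).symm.trans (sb E51843 (iv6 F272995)))).symm
theorem E55943 : n176109 = n162699 := (((D162699).symm.trans (sb E51845 (iv2 F275363)))).symm
theorem F300811 : act 4 n157995 = n173810 := (sb E51846 F281265)
theorem F300812 : act 2 n158689 = n160631 := (sb E51848 F281256)
theorem F300813 : act 5 n158689 = n86319 := (sb E51848 (iv5 D180718))
theorem F300814 : act 0 n78162 = n75252 := (sb E51849 F128981)
theorem F300815 : act 1 n78162 = n75684 := (sb E51849 (iv0 F128982))
theorem E55944 : n176127 = n162702 := (((D162702).symm.trans (sb E51849 (iv6 F275382)))).symm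
theorem F300817 : act 7 n78162 = n75693 := (sb E51849 F135948)
theorem F300818 : act 0 n78187 = n75776 := (sb E51851 (iv1 D158822))
theorem F300819 : act 1 n78187 = n75786 := (sb E51851 F250057)
theorem F300820 : act 0 n55847 = n75786 := (sb E51853 (iv1 F250055))
theorem F300821 : act 1 n55847 = n75776 := (sb E51853 (iv0 D158821))
theorem F300823 : act 6 n84019 = n86322 := (sb E51854 (iv6 D180724))
theorem E55945 : n176129 = n166193 := ((D176129).symm.trans (sb E51855 (iv2 F281302)))
theorem F300824 : act 5 n84024 = n86325 := (sb E51858 (iv5 D180730))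
theorem F300825 : act 6 n78191 = n82403 := (sb E51862 (iv6 D172057))
theorem E55948 : n128284 = n83625 := ((F270190).symm.trans (sb E51863 (iv4 F271643)))
theorem F300826 : act 2 n155087 = n82410 := (sb E51865 (iv2 D172071))
theorem F300827 : act 6 n172072 = n152411 := (sb E51866 F271646)
theorem F300828 : act 6 n167570 = n82411 := (sb E51867 (iv6 D172075))
theorem F300829 : act 0 n167786 = n82404 := (sb E51868 (iv1 D172058))
theorem F300830 : act 1 n167786 = n82411 := (sb E51868 F270149)
theorem F300831 : act 4 n167786 = n176121 := (sb E51868 (iv4 F275377))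
theorem F300833 : act 3 n125160 = n75720 := (sb E51874 (iv3 D158742))
theorem E55949 : n176534 = n123958 := ((D176534).symm.trans (sb E51875 F275433))
theorem E55950 : n176413 = n84044 := ((D176413).symm.trans (sb E51881 F279285))
theorem E55951 : n176415 = n83729 := ((D176415).symm.trans (sb E51881 (iv4 F272272)))
theorem E55953 : n176420 = n83730 := ((D176420).symm.trans (sb E51882 (iv4 F274125)))
theorem F300834 : act 5 n158211 = n166225 := (sb E51891 F281341)
theorem F300836 : act 0 n75666 = n86334 := (sb E51896 (iv1 D180757))
theorem F300837 : act 5 n84092 = n86334 := (sb E51897 (iv5 D180759))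
theorem E55956 : n149193 = n123133 := (((D123133).symm.trans (sb E51901 F234564))).symm
theorem E55958 : n175761 = n123135 := (((D123135).symm.trans (sb E51901 (iv2 F275179)))).symm
theorem F300839 : act 4 n57298 = n38642 := (sb E51901 F128894)
theorem E55960 : n175796 = n173727 := ((D175796).symm.trans (sb E51902 F281355))
theorem E55962 : n176230 = n75682 := ((((iv4 F113544)).symm.trans (sb E51906 (iv4 F281373)))).symm
theorem E55963 : n167788 = n83046 := (((D83046).symm.trans (sb E51909 (iv6 F264168)))).symm
theorem F300840 : act 4 n38219 = n36731 := (sb E51910 (iv4 D80515))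
theorem F300841 : act 7 n38219 = n78224 := (sb E51910 F123768)
theorem F300843 : act 6 n83954 = n86338 := (sb E51912 F264174)
theorem F300844 : act 1 n97108 = n55029 := (sb E51916 (iv0 D119600))
theorem F300845 : act 6 n97108 = n85089 := (sb E51916 F278173)
theorem F300846 : act 1 n119601 = n79363 := (sb E51917 F206320)
theorem E55964 : n119601 = n119338 := ((((iv2 F187928)).symm.trans (iv2 (sb E51917 (tr F206315 E52839))))).symm
theorem E55965 : n128180 = n119338 := (E51917).trans E55964
theorem F300847 : act 3 n119338 = n60260 := (sb E55965 (iv3 D128180))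
theorem E55966 : n128084 = n98340 := (((iv4 F206139)).symm.trans (sb E55965 F206316))
theorem F300848 : act 5 n119338 = n95737 := (sb E55965 F206317)
theorem F300849 : act 7 n119338 = n123578 := (sb E55965 F206318)
theorem F300850 : act 0 n119314 = n123578 := (sb E51918 (iv1 F197996))
theorem F300851 : act 3 n119314 = n149828 := (sb E51918 (iv3 F235670))
theorem F300852 : act 5 n119314 = n95832 := (sb E51918 F192653)
theorem F300853 : act 7 n119314 = n79363 := (sb E51918 F192652)
theorem E55967 : n119135 = n95830 := (((F149936).symm.trans (sb E51919 F188633))).symm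
theorem F300854 : act 5 n97187 = n55029 := (sb E51919 (iv5 D119602))
theorem F300855 : act 1 n119603 = n123578 := (sb E51921 (iv0 F197995))
theorem F300856 : act 2 n119603 = n79363 := (sb E51921 F192660)
theorem F300857 : act 3 n119603 = n60178 := (sb E51921 F192664)
theorem F300858 : act 5 n119603 = n95833 := (sb E51921 F192661)
theorem F300859 : act 4 n119595 = n167949 := (sb E51922 (iv4 F264667))
theorem F300860 : act 6 n119595 = n60177 := (sb E51922 (iv6 D128055))
theorem F300862 : act 6 n119587 = n77696 := (sb E51923 (iv6 D161749))
theorem F300863 : act 0 n128058 = n82936 := (sb E51924 (iv1 F255736))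
theorem F300864 : act 2 n128058 = n83401 := (sb E51924 F255733)
theorem F300865 : act 3 n128058 = n77691 := (sb E51924 F255734)
theorem F300866 : act 6 n128058 = n83227 := (sb E51924 F255735)
theorem F300867 : act 7 n128058 = n77687 := (sb E51924 (iv7 D161726))
theorem F300868 : act 0 n39293 = n60179 := (sb E51925 (iv1 D128059))
theorem F300869 : act 2 n128060 = n83404 := (sb E51926 F273386)
theorem F300870 : act 0 n128061 = n77687 := (sb E51927 (iv1 D161724))
theorem F300871 : act 1 n128061 = n83401 := (sb E51927 F255725)
theorem F300872 : act 2 n128061 = n82936 := (sb E51927 (iv2 F255727))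
theorem F300873 : act 6 n128061 = n176410 := (sb E51927 (iv6 F275710))
theorem E55968 : n150671 = n83423 := (((D83423).symm.trans (sb E51933 (iv3 F237213)))).symm
theorem E55969 : n167097 = n38523 := ((D167097).symm.trans (sb E51937 (tr (iv2 F253725) E53847)))
theorem E55970 : n119410 = n60199 := (((iv3 F188482)).symm.trans (sb E51937 F206172))
theorem F300874 : act 6 n80220 = n60198 := (sb E51937 (iv6 D128095))
theorem E55972 : n124036 = n100727 := (((D100727).symm.trans (sb E51939 D124036))).symm
theorem E55973 : n124037 = n100728 := (((D100728).symm.trans (sb E51939 D124037))).symm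
theorem F300875 : act 3 n46975 = n27581 := (sb E51939 (iv3 D57785))
theorem E55975 : n124040 = n100729 := (((D100729).symm.trans (sb E51939 D124040))).symm
theorem E55976 : n170702 = n124032 := ((((iv1 F198421)).symm.trans (sb E51940 D170702))).symm
theorem F300876 : act 2 n57787 = n86510 := (sb E51940 (iv2 F132708))
theorem E55977 : n170704 = n124042 := (((D124042).symm.trans (sb E51940 D170704))).symm
theorem E55978 : n176572 = n152600 := (((F261699).symm.trans (sb E51941 F275932))).symm
theorem E55979 : n173355 = n73266 := ((D173355).symm.trans (sb E51941 (iv4 D154566)))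
theorem E55980 : n173360 = n73265 := ((D173360).symm.trans (sb E51942 (iv4 D154561)))
theorem F300877 : act 1 n57917 = n39169 := (sb E51943 F129960)
theorem E55982 : n178049 = n124220 := (((D124220).symm.trans (sb E51943 D178049))).symm
theorem F300878 : act 6 n57917 = n122315 := (sb E51943 F199322)
theorem F300880 : act 2 n164123 = n162661 := (sb E51946 F276027)
theorem E55989 : n33106 = n32656 := ((((iv1 F51723)).symm.trans (sb E51951 F191005))).symm
theorem E55990 : n76562 = n32657 := ((((iv2 F51733)).symm.trans (sb E51951 (iv2 F114812)))).symm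
theorem E55992 : n120727 = n60394 := ((((iv0 F94911)).symm.trans (sb E51954 F259719))).symm
theorem E55995 : n149896 = n33080 := (((F232520).symm.trans (sb E51960 (iv1 F235770)))).symm
theorem F300881 : act 7 n35256 = n35507 := (sb E51963 F116339)
theorem E56002 : n36643 = n36628 := ((((iv1 F91373)).symm.trans (sb E51964 (iv1 F116489)))).symm
theorem F300882 : act 5 n35257 = n35418 := (sb E51964 (iv5 D77594))
theorem F300883 : act 7 n35257 = n36526 := (sb E51964 F116486)
theorem F300885 : act 2 n35261 = n17217 := (sb E51966 F56093)
theorem E56004 : n168259 = n1509 := ((((iv5 D3435)).symm.trans (sb E51969 D168259))).symm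
theorem E56005 : n174123 = n128235 := ((D174123).symm.trans (sb E51970 (iv1 F236454)))
theorem F300887 : act 5 n83240 = n70729 := (sb E51970 F236453)
theorem F300888 : act 7 n83240 = n70728 := (sb E51970 (iv7 D150256))
theorem F300889 : act 2 n84215 = n167570 := (sb E51971 (iv2 F263827))
theorem F300890 : act 5 n84215 = n77117 := (sb E51971 (iv5 D160727))
theorem F300891 : act 2 n160746 = n174140 := (sb E51972 F273799)
theorem F300892 : act 4 n158790 = n174481 := (sb E51974 (iv4 F273369))
theorem F300894 : act 4 n80224 = n75757 := (sb E51976 F249961)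
theorem E56006 : n167108 = n161987 := ((D167108).symm.trans (sb E51976 (iv5 F255979)))
theorem F300895 : act 6 n80224 = n75743 := (sb E51976 (iv6 D158772))
theorem F300896 : act 0 n38311 = n77128 := (sb E51978 (iv1 F253906))
theorem F300897 : act 1 n38306 = n77128 := (sb E51979 F253908)
theorem F300898 : act 0 n160763 = n83259 := (sb E51983 F272889)
theorem F300899 : act 1 n160763 = n83267 := (sb E51983 F272890)
theorem F300900 : act 5 n158741 = n166226 := (sb E51985 (iv5 F261720))
theorem F300901 : act 6 n158741 = n77127 := (sb E51985 (iv6 D160762))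
theorem F300902 : act 1 n38519 = n77132 := (sb E51992 (iv0 D160771))
theorem F300903 : act 1 n160772 = n83542 := (sb E51993 F271793)
theorem F300904 : act 2 n160772 = n83546 := (sb E51993 F271790)
theorem F300905 : act 4 n160772 = n82955 := (sb E51993 F271791)
theorem F300906 : act 5 n160772 = n176843 := (sb E51993 (iv5 F276215))
theorem F300907 : act 7 n160772 = n82954 := (sb E51993 (iv7 D173342))
theorem F300908 : act 7 n160773 = n174129 := (sb E51994 F273795)
theorem F300909 : act 2 n160774 = n174139 := (sb E51995 F273796)
theorem F300910 : act 4 n160774 = n173255 := (sb E51995 F273797)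
theorem F300911 : act 7 n160774 = n174130 := (sb E51995 F273798)
theorem F300912 : act 7 n83241 = n77132 := (sb E51996 (iv7 D160775))
theorem F300913 : act 1 n77498 = n77142 := (sb E51998 (iv0 F121550))
theorem E56007 : n161429 = n160357 := ((D161429).symm.trans (sb E51998 (iv4 F253283)))
theorem F300914 : act 0 n82906 = n77162 := (sb E51999 (iv1 F253934))
theorem F300915 : act 1 n82906 = n77148 := (sb E51999 (iv0 D160786))
theorem F300916 : act 0 n58055 = n77148 := (sb E52000 (iv1 D160787))
theorem F300917 : act 1 n58055 = n77162 := (sb E52000 F253935)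
theorem F300918 : act 0 n160788 = n83234 := (sb E52001 (iv1 F272892))
theorem F300919 : act 1 n160788 = n83225 := (sb E52001 (iv0 D174090))
theorem F300920 : act 2 n160788 = n158632 := (sb E52001 (iv2 F272893))
theorem F300921 : act 7 n160788 = n174180 := (sb E52001 (iv7 F272973))
theorem F300922 : act 0 n82908 = n77164 := (sb E52002 (iv1 F253947))
theorem F300923 : act 1 n82908 = n77153 := (sb E52002 (iv0 D160794))
theorem F300924 : act 0 n160797 = n83280 := (sb E52003 (iv1 D174224))
theorem F300925 : act 1 n160797 = n83282 := (sb E52003 F273012)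
theorem F300926 : act 2 n160797 = n174190 := (sb E52003 (iv2 F273015))
theorem F300927 : act 7 n160797 = n174192 := (sb E52003 F273013)
theorem F300928 : act 0 n160806 = n83225 := (sb E52004 (iv1 D174091))
theorem F300929 : act 1 n160806 = n83234 := (sb E52004 F272894)
theorem F300930 : act 2 n160806 = n174180 := (sb E52004 (iv2 F272972))
theorem F300932 : act 1 n75654 = n77163 := (sb E52005 (iv0 D160808))
theorem F300933 : act 0 n160811 = n83282 := (sb E52006 (iv1 F273009))
theorem F300934 : act 1 n160811 = n83280 := (sb E52006 (iv0 D174223))
theorem F300935 : act 2 n160811 = n174192 := (sb E52006 (iv2 F273010))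
theorem F300936 : act 7 n160811 = n174190 := (sb E52006 (iv7 F273011))
theorem F300937 : act 6 n160819 = n176864 := (sb E52007 (iv6 F276236))
theorem F300938 : act 7 n160819 = n158890 := (sb E52007 F273006)
theorem F300939 : act 0 n160820 = n83273 := (sb E52008 (iv1 F272989))
theorem F300940 : act 1 n160820 = n83265 := (sb E52008 (iv0 D174198))
theorem F300941 : act 2 n160820 = n176844 := (sb E52008 (iv2 F276219))
theorem F300942 : act 4 n160820 = n83545 := (sb E52008 F272988)
theorem F300943 : act 7 n160820 = n158892 := (sb E52008 F272990)
theorem F300944 : act 7 n83284 = n77182 := (sb E52012 (iv7 D160835))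
theorem F300945 : act 1 n158810 = n77183 := (sb E52013 (iv0 D160836))
theorem F300946 : act 1 n160837 = n173255 := (sb E52014 F272980)
theorem F300947 : act 2 n160837 = n174235 := (sb E52014 F273029)
theorem F300948 : act 5 n160837 = n83261 := (sb E52014 (iv5 D174188))
theorem F300949 : act 7 n160837 = n174236 := (sb E52014 (iv7 F273032))
theorem F300950 : act 2 n160838 = n174130 := (sb E52015 F273790)
theorem F300951 : act 5 n160838 = n83542 := (sb E52015 (iv5 D174896))
theorem F300952 : act 7 n160838 = n174139 := (sb E52015 F273791)
theorem F300953 : act 7 n83285 = n77183 := (sb E52016 (iv7 D160840))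
theorem F300954 : act 5 n97107 = n54767 := (sb E52017 (iv5 D119014))
theorem F300955 : act 6 n70542 = n79215 := (sb E52019 (iv6 D164861))
theorem F300957 : act 7 n149623 = n77646 := (sb E52020 (iv7 D161672))
theorem F300958 : act 2 n164867 = n150515 := (sb E52021 F270695)
theorem F300960 : act 4 n164867 = n82583 := (sb E52021 (iv4 D172494))
theorem F300962 : act 4 n38684 = n75703 := (sb E52027 (iv4 D158706))
theorem F300963 : act 4 n158707 = n83992 := (sb E52028 F249944)
theorem F300964 : act 0 n83421 = n75704 := (sb E52029 (iv1 D158708))
theorem F300965 : act 4 n80181 = n75764 := (sb E52030 F249983)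
theorem E56008 : n167039 = n161611 := ((D167039).symm.trans (sb E52030 (iv5 F255611)))
theorem F300966 : act 6 n80181 = n77369 := (sb E52030 F249984)
theorem E56009 : n173743 = n167773 := ((D173743).symm.trans (sb E52033 F275500))
theorem E56010 : n120484 = n120409 := ((D120484).symm.trans (sb E52035 (tr F262955 E55582)))
theorem F300967 : act 6 n55465 = n47007 := (sb E52035 (iv6 D100823))
theorem E56012 : n170723 = n120490 := (((D120490).symm.trans (sb E52036 D170723))).symm
theorem F300968 : act 0 n60042 = n60118 := (sb E52037 F151894)
theorem E56014 : n127844 = n46058 := ((D127844).symm.trans (sb E52037 (iv5 D98485)))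
theorem E56015 : n157222 = n40718 := ((((iv5 F61832)).symm.trans (sb E52038 (iv5 F247421)))).symm
theorem E56016 : n127951 = n60119 := (((D60119).symm.trans (sb E52038 F235563))).symm
theorem F300969 : act 0 n127962 = n114614 := (sb E52039 (iv1 F234197))
theorem F300970 : act 1 n127962 = n114613 := (sb E52039 F234198)
theorem F300971 : act 7 n127962 = n69874 := (sb E52039 (iv7 D148997))
theorem F300972 : act 1 n54877 = n60135 := (sb E52040 (iv0 D127989))
theorem F300973 : act 3 n54552 = n28538 := (sb E52042 F94628)
theorem F300974 : act 6 n54552 = n28536 := (sb E52042 (iv6 D60074))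
theorem E56019 : n114064 = n71792 := ((D114064).symm.trans (sb E52043 F239285))
theorem E56020 : n127849 = n46721 := ((D127849).symm.trans (sb E52044 (iv1 D100060)))
theorem E56021 : n127850 = n87878 := ((D127850).symm.trans (sb E52044 F153990))
theorem E56022 : n127851 = n81969 := ((D127851).symm.trans (sb E52044 F153992))
theorem F300975 : act 2 n16161 = n18939 := (sb E52045 F35238)
theorem F300976 : act 4 n16161 = n10736 := (sb E52045 (iv4 D22677))
theorem E56023 : n33460 = n18926 := ((D33460).symm.trans (sb E52045 F35239))
theorem E56024 : n47133 = n33461 := (((D33461).symm.trans (sb E52045 D47133))).symm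
theorem F300977 : act 7 n16161 = n18949 := (sb E52045 F35240)
theorem F300978 : act 2 n40033 = n33149 := (sb E52046 F86765)
theorem E56025 : n119149 = n37455 := (((F60898).symm.trans (sb E52046 D119149))).symm
theorem F300979 : act 5 n40033 = n26523 := (sb E52046 (iv5 D54828))
theorem E56026 : n86441 = n73661 := ((D86441).symm.trans (sb E52046 (iv6 F110363)))
theorem F300980 : act 0 n150265 = n73658 := (sb E52048 (iv1 F243974))
theorem F300981 : act 1 n150265 = n73646 := (sb E52048 (iv0 D155161))
theorem F300982 : act 2 n150265 = n152079 := (sb E52048 (iv2 F243973))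
theorem E56031 : n162934 = n160009 := ((((iv4 F252406)).symm.trans (sb E52048 (iv4 F257280)))).symm
theorem F300983 : act 5 n150265 = n155185 := (sb E52048 (iv5 F244015))
theorem F300984 : act 6 n150265 = n119528 := (sb E52048 (iv6 F243976))
theorem F300985 : act 7 n150265 = n152078 := (sb E52048 F243975)
theorem F300986 : act 1 n54825 = n95834 := (sb E52049 (iv0 F147525))
theorem E56032 : n119143 = n95585 := (((iv5 F187461)).symm.trans (sb E52049 (iv5 F147250)))
theorem F300987 : act 1 n45774 = n33164 := (sb E52050 F130340)
theorem F300988 : act 5 n45774 = n26526 := (sb E52050 F86768)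
theorem E56035 : n119157 = n98050 := (((D98050).symm.trans (sb E52050 D119157))).symm
theorem F300989 : act 0 n45773 = n33164 := (sb E52052 F130294)
theorem E56040 : n107855 = n23342 := (((F72242).symm.trans (sb E52052 (iv4 F166612)))).symm
theorem F300990 : act 5 n45773 = n26484 := (sb E52052 F78722)
theorem E56041 : n98049 = n24284 := ((D98049).symm.trans (sb E52052 (iv6 D49812)))
theorem F300991 : act 1 n40095 = n33149 := (sb E52054 (iv0 D71696))
theorem E56047 : n152080 = n40746 := ((((iv4 F61858)).symm.trans (sb E52054 D152080))).symm
theorem F300992 : act 5 n40095 = n54909 := (sb E52054 F108178)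
theorem E56048 : n144807 = n86515 := (((D86515).symm.trans (sb E52054 (iv6 F227704)))).symm
theorem F300993 : act 0 n40094 = n33149 := (sb E52055 (iv1 D71697))
theorem E56049 : n131241 = n86513 := (((D86513).symm.trans (sb E52055 (iv3 F210288)))).symm
theorem E56050 : n152081 = n40353 := (((F61436).symm.trans (sb E52055 D152081))).symm
theorem F300994 : act 5 n40094 = n55035 := (sb E52055 (iv5 F162730))
theorem E56051 : n86514 = n62745 := ((D86514).symm.trans (sb E52055 F187482))
theorem E56053 : n152083 = n83792 := ((((iv0 F128826)).symm.trans (sb E52056 D152083))).symm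
theorem F300995 : act 4 n46980 = n33149 := (sb E52056 (iv4 D71698))
theorem E56056 : n152086 = n100745 := (((D100745).symm.trans (sb E52056 D152086))).symm
theorem E56057 : n162835 = n71994 := (((F108477).symm.trans (sb E52057 F257106))).symm
theorem E56059 : n168223 = n55166 := ((((iv5 F188619)).symm.trans (sb E52057 D168223))).symm
theorem E56076 : n71493 = n70487 := ((((iv3 D149909)).symm.trans (sb E52062 (iv3 D151712)))).symm
theorem F300996 : act 2 n160596 = n84024 := (sb E52063 F270109)
theorem F300997 : act 5 n175310 = n87978 := (sb E52064 (iv5 D184482))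
theorem F300998 : act 4 n82000 = n46861 := (sb E52065 F154453)
theorem F300999 : act 6 n82000 = n46860 := (sb E52065 (iv6 D100404))
theorem E56077 : n79339 = n62923 := ((((iv6 F98172)).symm.trans (iv6 (sb E52069 (tr (iv6 D150440) E55087))))).symm
theorem E56078 : n165054 = n70309 := ((D165054).symm.trans (sb E52071 (iv1 F185452)))
theorem E56079 : n165055 = n54378 := ((D165055).symm.trans (sb E52071 (iv0 D118055)))
theorem E56080 : n165056 = n152461 := ((D165056).symm.trans (sb E52071 (iv4 F239647)))
theorem E56081 : n150011 = n80251 := ((D150011).symm.trans (sb E52073 (iv6 D167163)))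
theorem E56085 : n174940 = n119465 := ((((iv3 F188245)).symm.trans (sb E52074 (iv3 F273833)))).symm
theorem E56086 : n164678 = n70428 := (((F115757).symm.trans (sb E52074 (iv4 F259682)))).symm
theorem E56088 : n158409 = n77615 := (((iv2 F249594)).symm.trans (sb E52076 F255596))
theorem E56090 : n158405 = n77614 := ((F249593).symm.trans (sb E52076 (iv7 D161595)))
theorem F301001 : act 3 n72636 = n77614 := (sb E52078 (iv3 D161592))
theorem E56093 : n174428 = n57606 := (((F128071).symm.trans (sb E52080 (iv3 F273308)))).symm
theorem F301003 : act 4 n83087 = n174433 := (sb E52080 (iv4 F273313))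
theorem E56094 : n173746 = n38410 := ((D173746).symm.trans (sb E52080 (iv6 D83377)))
theorem E56095 : n173747 = n84170 := ((D173747).symm.trans (sb E52081 (iv6 D176542)))
theorem F301004 : act 2 n160717 = n82449 := (sb E52082 (iv2 D172160))
theorem F301005 : act 7 n160717 = n82450 := (sb E52082 (iv7 F270329))
theorem F301006 : act 2 n160718 = n82450 := (sb E52083 F270330)
theorem F301007 : act 7 n160718 = n82449 := (sb E52083 (iv7 D172165))
theorem E56100 : n170680 = n167774 := ((D170680).symm.trans (sb E52085 (iv4 F264142)))
theorem F301008 : act 5 n81819 = n78224 := (sb E52085 (iv5 D162766))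
theorem E56101 : n167775 = n83962 := (((D83962).symm.trans (sb E52086 (iv4 F264143)))).symm
theorem F301009 : act 0 n81823 = n76999 := (sb E52087 (iv1 D160604))
theorem F301010 : act 1 n81823 = n79797 := (sb E52087 F253693)
theorem E56102 : n122749 = n87975 := ((((iv1 F195921)).symm.trans (sb E52088 D122749))).symm
theorem E56103 : n122750 = n120299 := (((E54072).symm.trans ((D122458).symm.trans (sb E52088 D122750)))).symm
theorem E56104 : n122751 = n122459 := (((D122459).symm.trans (sb E52088 D122751))).symm
theorem F301011 : act 4 n56771 = n37932 := (sb E52088 F121522)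
theorem E56106 : n122753 = n122461 := (((D122461).symm.trans (sb E52088 D122753))).symm
theorem F301012 : act 7 n56771 = n120385 := (sb E52088 (iv7 F191775))
theorem F301013 : act 1 n38542 = n78103 := (sb E52089 (iv0 D162626))
theorem F301014 : act 0 n80507 = n45947 := (sb E52102 (iv1 F129204))
theorem F301015 : act 2 n80507 = n82578 := (sb E52102 F129202)
theorem E56114 : n176505 = n167768 := (((D167768).symm.trans (sb E52102 (iv3 F275820)))).symm
theorem E56115 : n176531 = n167769 := (((D167769).symm.trans (sb E52102 (iv4 F275840)))).symm
theorem F301016 : act 5 n80507 = n38796 := (sb E52102 F129203)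
theorem E56116 : n176532 = n167770 := (((D167770).symm.trans (sb E52102 D176532))).symm
theorem F301017 : act 1 n80508 = n45947 := (sb E52103 F128070)
theorem E56117 : n173738 = n167771 := (((D167771).symm.trans (sb E52103 (iv3 F272305)))).symm
theorem E56118 : n173745 = n167772 := (((D167772).symm.trans (sb E52103 D173745))).symm
theorem F301018 : act 5 n80508 = n38241 := (sb E52103 (iv5 D83086))
theorem F301019 : act 7 n80508 = n82578 := (sb E52103 F128068)
theorem F301020 : act 5 n80509 = n98251 := (sb E52104 F151659)
theorem E56119 : n176586 = n167781 := (((D167781).symm.trans (sb E52105 (iv5 F275946)))).symm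
theorem F301021 : act 0 n80513 = n38835 := (sb E52106 (iv1 F129235))
theorem F301022 : act 1 n80513 = n38818 := (sb E52106 (iv0 D84188))
theorem F301023 : act 2 n80513 = n82590 := (sb E52106 (iv2 F129236))
theorem E56120 : n176585 = n167785 := (((D167785).symm.trans (sb E52106 D176585))).symm
theorem F301024 : act 6 n84166 = n78186 := (sb E52116 (iv6 D162708))
theorem F301025 : act 6 n123037 = n86173 := (sb E52117 F201481)
theorem E56124 : n84835 = n58007 := ((D84835).symm.trans (sb E52118 (iv6 D124411)))
theorem F301026 : act 0 n163953 = n81895 := (sb E52119 (iv1 D170822))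
theorem E56126 : n180094 = n123487 := (((D123487).symm.trans (sb E52120 D180094))).symm
theorem E56127 : n170831 = n123488 := (((D123488).symm.trans (sb E52120 F268424))).symm
theorem F301027 : act 2 n98174 = n166971 := (sb E52121 (iv2 F262865))
theorem F301028 : act 3 n98174 = n167435 := (sb E52121 (iv3 F263556))
theorem E56128 : n177967 = n123445 := (((iv4 F277521)).symm.trans (sb E52121 F197826))
theorem F301029 : act 5 n98174 = n123486 := (sb E52121 (iv5 F197902))
theorem E56129 : n180095 = n123489 := (((D123489).symm.trans (sb E52123 D180095))).symm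
theorem E56130 : n180096 = n123490 := (((D123490).symm.trans (sb E52123 D180096))).symm
theorem F301030 : act 5 n17735 = n17498 := (sb E52124 (iv5 D36226))
theorem F301031 : act 0 n80577 = n76013 := (sb E52125 F250483)
theorem F301032 : act 1 n80577 = n81638 := (sb E52125 F250485)
theorem F301033 : act 2 n80577 = n81726 := (sb E52125 F250480)
theorem F301034 : act 5 n80577 = n124510 := (sb E52125 (iv5 F250484))
theorem F301035 : act 6 n80577 = n75996 := (sb E52125 (iv6 D159105))
theorem F301036 : act 1 n48514 = n79867 := (sb E52126 (iv0 D166327))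
theorem F301037 : act 0 n121275 = n86154 := (sb E52127 (iv1 F257778))
theorem F301038 : act 2 n121275 = n157878 := (sb E52127 F257775)
theorem F301039 : act 7 n121275 = n157877 := (sb E52127 F257776)
theorem F301040 : act 5 n161505 = n77943 := (sb E52128 (iv5 D162240))
theorem F301041 : act 7 n161505 = n162295 := (sb E52128 F256440)
theorem E56134 : n80624 = n54576 := (((D54576).symm.trans (sb E52132 D80624))).symm
theorem E56136 : n80627 = n54580 := (((D54580).symm.trans (sb E52133 D80627))).symm
theorem F301042 : act 4 n26384 = n54557 := (sb E52134 (iv4 F86221))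
theorem E56138 : n71396 = n54561 := (((D54561).symm.trans (sb E52134 D71396))).symm
theorem E56139 : n79215 = n54582 := (((D54582).symm.trans (sb E52135 (iv1 F120493)))).symm
theorem E56140 : n79219 = n54583 := (((D54583).symm.trans (sb E52135 (iv0 F123581)))).symm
theorem E56141 : n72010 = n54584 := (((D54584).symm.trans (sb E52135 (iv4 F108493)))).symm
theorem E56146 : n33105 = n33090 := (((D33090).symm.trans (sb E52137 D33105))).symm
theorem E56147 : n33107 = n33091 := (((D33091).symm.trans (sb E52137 D33107))).symm
theorem E56148 : n33108 = n33092 := (((D33092).symm.trans (sb E52137 D33108))).symm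
theorem E56149 : n33112 = n33094 := (((D33094).symm.trans (sb E52138 D33112))).symm
theorem F301043 : act 3 n15930 = n26384 := (sb E52139 (iv3 F42118))
theorem E56151 : n33040 = n33036 := (((D33036).symm.trans (sb E52139 D33040))).symm
theorem F301044 : act 6 n15930 = n7466 := (sb E52139 (iv6 D15931))
theorem E56152 : n33114 = n33096 := (((D33096).symm.trans (sb E52140 D33114))).symm
theorem E56153 : n33115 = n33097 := (((D33097).symm.trans (sb E52140 D33115))).symm
theorem F301045 : act 3 n15963 = n7482 := (sb E52140 F25483)
theorem E56154 : n33116 = n33098 := (((D33098).symm.trans (sb E52140 D33116))).symm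
theorem E56155 : n33099 = n7478 := ((D33099).symm.trans (sb E52140 F25484))
theorem F301046 : act 5 n35319 = n62891 := (sb E52143 F126851)
theorem E56166 : n160520 = n120922 := (((D120922).symm.trans (sb E52158 D160520))).symm
theorem E56167 : n160521 = n120923 := (((D120923).symm.trans (sb E52158 D160521))).symm
theorem E56168 : n160522 = n120924 := (((D120924).symm.trans (sb E52158 D160522))).symm
theorem E56170 : n121726 = n120927 := (((D120927).symm.trans (sb E52159 (iv1 F194293)))).symm
theorem E56172 : n120929 = n74985 := ((D120929).symm.trans (sb E52159 F115687))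
theorem E56176 : n164967 = n155538 := (((D155538).symm.trans (sb E52161 D164967))).symm
theorem F301054 : act 6 n73999 = n36083 := (sb E52161 F121624)
theorem E56181 : n164973 = n125364 := (((D125364).symm.trans (sb E52163 D164973))).symm
theorem F301055 : act 7 n36786 = n36225 := (sb E52165 F121615)
theorem E56184 : n166421 = n166015 := (((D166015).symm.trans (sb E52166 (iv3 F261987)))).symm
theorem E56185 : n166016 = n86268 := ((D166016).symm.trans (sb E52166 (iv5 F132225)))
theorem E56186 : n166019 = n78727 := ((D166019).symm.trans (sb E52167 (iv1 F258311)))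
theorem F301059 : act 1 n27893 = n36225 := (sb E52173 (iv0 D79544))
theorem E56196 : n62918 = n45875 := ((((iv5 F72445)).symm.trans (sb E52178 (iv5 D133955)))).symm
theorem F301061 : act 0 n27042 = n15995 := (sb E52179 F47878)
theorem F301062 : act 4 n27042 = n14143 := (sb E52179 (iv4 D29767))
theorem E56197 : n62920 = n56065 := (((D56065).symm.trans (sb E52179 D62920))).symm
theorem E56198 : n78343 = n40143 := (((D40143).symm.trans (sb E52184 (iv6 F215760)))).symm
theorem E56199 : n106053 = n41139 := ((((iv3 F62348)).symm.trans (sb E52185 (iv3 F163008)))).symm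
theorem E56200 : n106056 = n52951 := ((((iv4 F83681)).symm.trans (sb E52185 (iv4 F163009)))).symm
theorem E56201 : n79285 = n23912 := ((D79285).symm.trans (sb E52185 (iv6 D49020)))
theorem E56202 : n62902 = n32800 := (((F56837).symm.trans (sb E52186 (iv5 D133923)))).symm
theorem E56203 : n85803 = n79286 := (((D79286).symm.trans (sb E52186 (iv6 F215731)))).symm
theorem F301063 : act 3 n26492 = n14142 := (sb E52187 (iv3 D29762))
theorem E56205 : n62905 = n37330 := (((F300294).symm.trans (sb E52187 D62905))).symm
theorem E56206 : n170313 = n29296 := ((F300295).symm.trans (sb E52187 F47864))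
theorem E56207 : n79287 = n40235 := ((D79287).symm.trans (sb E52188 F191198))
theorem E56208 : n85802 = n79288 := (((D79288).symm.trans (sb E52188 D85802))).symm
theorem E56209 : n85805 = n79289 := (((D79289).symm.trans (sb E52188 D85805))).symm
theorem E56210 : n79290 = n32533 := ((D79290).symm.trans (sb E52188 F60521))
theorem F301064 : act 1 n26519 = n15995 := (sb E52189 (iv0 F47871))
theorem F301065 : act 4 n26519 = n14142 := (sb E52189 (iv4 D29763))
theorem E56212 : n62908 = n54818 := (((D54818).symm.trans (sb E52189 D62908))).symm
theorem E56213 : n70548 = n62876 := ((((iv1 F103955)).symm.trans (sb E52190 F298380))).symm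
theorem E56214 : n62910 = n32849 := ((D62910).symm.trans (sb E52190 F298381))
theorem E56215 : n79296 = n62911 := (((D62911).symm.trans (sb E52190 D79296))).symm
theorem F301066 : act 2 n36099 = n34743 := (sb E52191 F60522)
theorem E56216 : n79305 = n75905 := ((D79305).symm.trans (sb E52191 (iv4 F113811)))
theorem E56217 : n79306 = n32536 := ((D79306).symm.trans (sb E52191 F60523))
theorem F301067 : act 7 n15408 = n17463 := (sb E52192 (iv7 D36100))
theorem F301068 : act 3 n84393 = n54909 := (sb E52193 F187824)
theorem E56218 : n177071 = n54906 := ((D177071).symm.trans (sb E52193 (iv6 D119311)))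
theorem F301069 : act 2 n49008 = n96301 := (sb E52194 (iv2 F148148))
theorem E56221 : n149829 = n106016 := (((D106016).symm.trans (sb E52194 (iv3 F235672)))).symm
theorem F301070 : act 6 n49008 = n38916 := (sb E52194 (iv6 D84395))
theorem E56224 : n149324 = n125219 := ((((iv1 F201338)).symm.trans (sb E52195 (iv1 F234752)))).symm
theorem E56226 : n181364 = n177079 := (((D177079).symm.trans (sb E52195 (iv3 F282458)))).symm
theorem E56228 : n181369 = n177081 := (((D177081).symm.trans (sb E52195 D181369))).symm
theorem E56229 : n177082 = n40144 := ((D177082).symm.trans (sb E52195 (iv6 D86593)))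
theorem E56234 : n149333 = n125217 := (((F201335).symm.trans (sb E52197 F278378))).symm
theorem F301071 : act 6 n58577 = n32531 := (sb E52199 (iv6 D70119))
theorem F301072 : act 1 n95445 = n181169 := (sb E52200 (iv0 F282196))
theorem F301073 : act 3 n84379 = n79724 := (sb E52203 F261420)
theorem F301074 : act 2 n81695 = n79730 := (sb E52205 F261427)
theorem F301075 : act 1 n75997 = n56226 := (sb E52206 (iv0 D121685))
theorem F301076 : act 2 n75997 = n79728 := (sb E52206 F194643)
theorem F301077 : act 7 n75997 = n79727 := (sb E52206 F194641)
theorem F301078 : act 2 n84385 = n79729 := (sb E52207 F261426)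
theorem F301079 : act 6 n83065 = n79799 := (sb E52208 (iv6 D166203))
theorem F301080 : act 0 n83066 = n80432 := (sb E52209 F261686)
theorem F301081 : act 1 n83066 = n80429 := (sb E52209 F261687)
theorem F301082 : act 1 n27524 = n37544 := (sb E52211 (iv0 D81981))
theorem E56240 : n179817 = n123001 := (((D123001).symm.trans (sb E52212 (iv3 F280035)))).symm
theorem F301083 : act 6 n57219 = n39719 := (sb E52212 (iv6 D85880))
theorem F301084 : act 1 n26905 = n28684 := (sb E52215 F56401)
theorem F301085 : act 6 n26905 = n27146 := (sb E52215 F56399)
theorem F301086 : act 7 n26905 = n17304 := (sb E52215 (iv7 D35711))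
theorem E56242 : n125104 = n124087 := (((D124087).symm.trans (sb E52217 D125104))).symm
theorem F301087 : act 4 n57819 = n39538 := (sb E52217 F92414)
theorem F301088 : act 5 n85573 = n124061 := (sb E52219 F254609)
theorem F301089 : act 1 n58590 = n36767 := (sb E52222 (iv0 D80570))
theorem F301090 : act 0 n27568 = n37572 := (sb E52224 (iv1 D82016))
theorem E56249 : n171123 = n57742 := (((D57742).symm.trans (sb E52224 D171123))).symm
theorem E56251 : n178618 = n164591 := ((((iv3 F259500)).symm.trans (sb E52227 (iv3 F282766)))).symm
theorem E56252 : n176335 = n176211 := ((((iv4 F275448)).symm.trans (sb E52233 (iv4 F282735)))).symm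
theorem E56253 : n170579 = n167878 := ((D170579).symm.trans (sb E52239 (iv4 F281565)))
theorem E56254 : n63283 = n16063 := (((D16063).symm.trans (sb E52242 F186595))).symm
theorem E56256 : n17650 = n14202 := ((D17650).symm.trans (sb E52243 (iv5 D29907)))
theorem E56257 : n61224 = n17654 := (((D17654).symm.trans (sb E52244 (iv4 D130498)))).symm
theorem E56258 : n130495 = n17655 := (((D17655).symm.trans (sb E52244 F209057))).symm
theorem E56259 : n70674 = n54683 := (((D54683).symm.trans (sb E52245 F107136))).symm
theorem E56261 : n71410 = n33771 := ((((iv5 F53012)).symm.trans (sb E52245 D71410))).symm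
theorem E56262 : n71411 = n54684 := (((D54684).symm.trans (sb E52245 D71411))).symm
theorem E56263 : n71406 = n33668 := (((F52942).symm.trans (sb E52246 D71406))).symm
theorem E56265 : n71415 = n54657 := (((D54657).symm.trans (sb E52247 (iv5 F107918)))).symm
theorem E56266 : n54662 = n54658 := (((D54658).symm.trans (sb E52247 (iv6 F86449)))).symm
theorem E56267 : n71413 = n54686 := (((D54686).symm.trans (sb E52248 (iv1 F107913)))).symm
theorem E56268 : n71412 = n48950 := ((((iv0 F77214)).symm.trans (sb E52248 F107919))).symm
theorem E56269 : n71634 = n27340 := (((F44241).symm.trans (sb E52248 (iv4 F108122)))).symm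
theorem E56270 : n71635 = n54687 := (((D54687).symm.trans (sb E52248 D71635))).symm
theorem E56271 : n54688 = n54660 := ((D54688).symm.trans (sb E52249 (iv1 F86443)))
theorem E56272 : n54689 = n54659 := ((D54689).symm.trans (sb E52249 F86450))
theorem F301110 : act 3 n26452 = n12634 := (sb E52249 F42314)
theorem E56273 : n54705 = n54690 := (((D54690).symm.trans (sb E52249 (iv5 F86515)))).symm
theorem F301111 : act 7 n26452 = n12626 := (sb E52249 (iv7 D26456))
theorem E56275 : n56308 = n54628 := ((D56308).symm.trans (sb E52250 F86352))
theorem E56276 : n56309 = n54745 := ((D56309).symm.trans (sb E52250 (iv5 F86581)))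
theorem E56277 : n56310 = n15998 := ((D56310).symm.trans (sb E52250 F52395))
theorem F301112 : act 2 n36115 = n28656 := (sb E52256 F185356)
theorem E56279 : n128080 = n54950 := (((F86937).symm.trans (sb E52256 (iv4 F206125)))).symm
theorem E56280 : n79326 = n28610 := ((D79326).symm.trans (sb E52256 (iv6 D60191)))
theorem E56281 : n128320 = n54634 := (((F86372).symm.trans (sb E52257 (iv3 F206442)))).symm
theorem E56283 : n128078 = n79327 := (((D79327).symm.trans (sb E52257 (iv6 F206117)))).symm
theorem F301113 : act 7 n36116 = n28656 := (sb E52257 (iv7 D60336))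
theorem F301114 : act 0 n36117 = n28656 := (sb E52258 F205839)
theorem E56284 : n69817 = n62915 := (((iv5 F106253)).symm.trans (sb E52258 F188446))
theorem E56285 : n79328 = n28618 := ((D79328).symm.trans (sb E52258 (iv6 D60213)))
theorem E56286 : n62916 = n37296 := ((D62916).symm.trans (sb E52259 (iv4 F58254)))
theorem F301115 : act 5 n29766 = n17468 := (sb E52259 (iv5 D36118))
theorem E56287 : n79331 = n62917 := (((D62917).symm.trans (sb E52259 D79331))).symm
theorem E56288 : n79332 = n28621 := (((F188406).symm.trans (sb E52260 D79332))).symm
theorem E56289 : n79333 = n28603 := ((((iv0 F188409)).symm.trans (sb E52260 D79333))).symm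
theorem F301116 : act 6 n15400 = n17468 := (sb E52260 (iv6 D36119))
theorem E56292 : n79337 = n62854 := ((((iv0 F104182)).symm.trans (sb E52261 D79337))).symm
theorem E56298 : n131698 = n75460 := (((D75460).symm.trans (sb E52263 (iv2 F211056)))).symm
theorem E56299 : n131712 = n16750 := (((F54771).symm.trans (sb E52263 D131712))).symm
theorem E56300 : n75462 = n62444 := ((D75462).symm.trans (sb E52263 (iv6 F97319)))
theorem F301117 : act 4 n29528 = n16749 := (sb E52264 F54778)
theorem E56301 : n75466 = n14030 := ((((iv5 D29528)).symm.trans (sb E52264 D75466))).symm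
theorem F301118 : act 6 n29528 = n16748 := (sb E52264 (iv6 D34533))
theorem E56303 : n152089 = n55703 := (((D55703).symm.trans (sb E52266 D152089))).symm
theorem E56304 : n60944 = n55704 := (((D55704).symm.trans (sb E52266 F209600))).symm
theorem F301119 : act 4 n8068 = n16419 := (sb E52268 (iv4 D33967))
theorem E56306 : n74008 = n17199 := (((D17199).symm.trans (sb E52268 (iv6 F110755)))).symm
theorem E56307 : n130511 = n17200 := (((D17200).symm.trans (sb E52269 F244588))).symm
theorem E56311 : n117575 = n77638 := (((D77638).symm.trans (sb E52270 F190430))).symm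
theorem E56312 : n131746 = n77046 := (((F298811).symm.trans (sb E52270 D131746))).symm
theorem E56313 : n129363 = n77644 := (((D77644).symm.trans (sb E52271 (iv1 F211112)))).symm
theorem E56314 : n131750 = n77645 := (((D77645).symm.trans (sb E52271 D131750))).symm
theorem F301120 : act 4 n35452 = n29295 := (sb E52271 F96380)
theorem E56315 : n131751 = n77646 := (((D77646).symm.trans (sb E52271 D131751))).symm
theorem E56316 : n131752 = n77647 := (((D77647).symm.trans (sb E52271 D131752))).symm
theorem E56317 : n73970 = n38200 := ((D73970).symm.trans (sb E52273 F74450))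
theorem E56319 : n79218 = n72835 := ((((iv3 F190725)).symm.trans (sb E52274 D79218))).symm
theorem E56320 : n73975 = n38201 := ((D73975).symm.trans (sb E52274 (iv4 F71077)))
theorem F301121 : act 2 n33760 = n16411 := (sb E52275 F53288)
theorem E56322 : n73925 = n73397 := (((D73397).symm.trans (sb E52275 D73925))).symm
theorem E56323 : n73398 = n16408 := ((D73398).symm.trans (sb E52275 (iv6 D33942)))
theorem E56324 : n77696 = n73978 := (((D73978).symm.trans (sb E52276 D77696))).symm
theorem E56325 : n77697 = n73979 := (((D73979).symm.trans (sb E52276 D77697))).symm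
theorem E56326 : n73980 = n73619 := ((D73980).symm.trans (sb E52276 (iv4 F110322)))
theorem E56338 : n73327 = n55105 := (((D55105).symm.trans (sb E52280 (iv3 F240710)))).symm
theorem E56340 : n58406 = n55107 := (((D55107).symm.trans (sb E52281 F232663))).symm
theorem E56341 : n151476 = n55100 := (((D55100).symm.trans (sb E52282 F238272))).symm
theorem E56342 : n73773 = n55101 := (((D55101).symm.trans (sb E52282 F189349))).symm
theorem E56344 : n62753 = n55108 := (((D55108).symm.trans (sb E52283 F232700))).symm
theorem E56345 : n73771 = n55109 := (((D55109).symm.trans (sb E52284 (iv1 F110479)))).symm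
theorem E56346 : n55122 = n55110 := (((D55110).symm.trans (sb E52284 (iv0 F232563)))).symm
theorem E56347 : n55111 = n34351 := ((D55111).symm.trans (sb E52284 (iv5 F54507)))
theorem E56348 : n55112 = n16388 := ((D55112).symm.trans (sb E52284 (iv7 D33904)))
theorem E56349 : n55705 = n14101 := ((D55705).symm.trans (sb E52285 (iv1 D29680)))
theorem E56350 : n55706 = n29157 := ((D55706).symm.trans (sb E52285 F47706))
theorem E56351 : n55707 = n34353 := ((D55707).symm.trans (sb E52285 (iv5 F54511)))
theorem E56352 : n55708 = n29154 := ((D55708).symm.trans (sb E52285 (iv7 F53307)))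
theorem F301122 : act 1 n26666 = n12874 := (sb E52286 (iv0 D26899))
theorem E56353 : n55710 = n55017 := ((((iv3 F113928)).symm.trans (sb E52286 D55710))).symm
theorem F301123 : act 0 n26643 = n12874 := (sb E52287 (iv1 D26900))
theorem F301124 : act 5 n16631 = n12874 := (sb E52288 (iv5 D26901))
theorem F301125 : act 4 n7608 = n12878 := (sb E52289 F43398)
theorem F301126 : act 7 n7608 = n12874 := (sb E52289 (iv7 D26902))
theorem F301127 : act 4 n15600 = n12876 := (sb E52290 (iv4 D26910))
theorem E56356 : n128464 = n123084 := ((((iv4 F197271)).symm.trans (sb E52291 D128464))).symm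
theorem E56357 : n121987 = n29265 := (((iv5 F194817)).symm.trans (sb E52291 F184775))
theorem E56358 : n123349 = n58554 := ((D123349).symm.trans (sb E52291 F184776))
theorem E56359 : n128465 = n123044 := ((((iv4 F197199)).symm.trans (sb E52292 D128465))).symm
theorem E56360 : n83197 = n29266 := ((F128275).symm.trans (sb E52292 F184779))
theorem E56361 : n123350 = n32465 := ((D123350).symm.trans (sb E52292 F184780))
theorem E56362 : n101591 = n70700 := (((iv5 F156504)).symm.trans (sb E52293 F184621))
theorem E56363 : n123351 = n28687 := ((D123351).symm.trans (sb E52293 (iv6 D60407)))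
theorem E56364 : n121438 = n70612 := (((iv1 F193779)).symm.trans (sb E52294 (iv1 F184772)))
theorem E56365 : n98108 = n70607 := (((iv0 F151263)).symm.trans (sb E52294 (iv0 F184771)))
theorem E56367 : n128462 = n123352 := (((D123352).symm.trans (sb E52294 (iv6 F206599)))).symm
theorem F301128 : act 6 n13671 = n27484 := (sb E52295 (iv6 D57450))
theorem E56372 : n128472 = n123357 := (((D123357).symm.trans (sb E52296 D128472))).symm
theorem F301129 : act 2 n57451 = n67892 := (sb E52296 (iv2 F103950))
theorem E56373 : n123358 = n28692 := ((D123358).symm.trans (sb E52296 (iv5 D60422)))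
theorem E56374 : n123359 = n61639 := ((D123359).symm.trans (sb E52296 (iv7 F96204)))
theorem F301130 : act 6 n29204 = n36826 := (sb E52298 (iv6 D80685))
theorem E56382 : n154209 = n22690 := (((F35266).symm.trans (sb E52300 F242320))).symm
theorem E56384 : n40154 = n33692 := ((D40154).symm.trans (sb E52300 (iv6 D73174)))
theorem E56385 : n154470 = n40843 := (((F77350).symm.trans (sb E52301 F261588))).symm
theorem E56386 : n106008 = n105954 := ((D106008).symm.trans (sb E52301 F261589))
theorem E56387 : n168905 = n5124 := ((((iv4 D11196)).symm.trans (sb E52302 D168905))).symm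
theorem E56388 : n146047 = n23910 := (((D23910).symm.trans (sb E52302 (iv6 F229292)))).symm
theorem F301131 : act 6 n48983 = n23909 := (sb E52303 (iv6 D49006))
theorem E56393 : n149161 = n22692 := ((((iv2 D47163)).symm.trans (sb E52304 F266039))).symm
theorem E56395 : n168906 = n40047 := (((F74445).symm.trans (sb E52304 (iv5 F266033)))).symm
theorem E56396 : n168907 = n8899 := (((F30277).symm.trans (sb E52306 D168907))).symm
theorem E56397 : n61631 = n40140 := (((D40140).symm.trans (sb E52306 F215162))).symm
theorem E56398 : n181334 = n55737 := ((D181334).symm.trans (sb E52307 (tr (iv1 F257272) E54442)))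
theorem E56399 : n181335 = n78339 := ((D181335).symm.trans (sb E52307 (iv0 D162932)))
theorem E56400 : n181336 = n107932 := ((D181336).symm.trans (sb E52307 F257269))
theorem E56401 : n181337 = n78344 := ((D181337).symm.trans (sb E52307 F257271))
theorem F301132 : act 2 n32423 = n29296 := (sb E52308 (iv2 D61818))
theorem E56404 : n181340 = n23903 := ((((iv0 F191156)).symm.trans (sb E52309 D181340))).symm
theorem F301133 : act 6 n36322 = n40141 := (sb E52309 (iv6 D86585))
theorem F301134 : act 1 n15704 = n29296 := (sb E52310 F190079)
theorem E56407 : n105861 = n8012 := (((F25197).symm.trans (sb E52310 (iv3 F162572)))).symm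
theorem E56408 : n105894 = n7381 := ((((iv4 D15704)).symm.trans (sb E52310 D105894))).symm
theorem F301135 : act 5 n15704 = n23880 := (sb E52310 (iv5 D48955))
theorem E56409 : n32803 = n23883 := ((D32803).symm.trans (sb E52310 F77222))
theorem F301136 : act 0 n32412 = n29296 := (sb E52311 (iv1 D61817))
theorem E56410 : n131755 = n69793 := (((D69793).symm.trans (sb E52311 D131755))).symm
theorem F301137 : act 5 n32412 = n32824 := (sb E52311 F112445)
theorem E56412 : n131292 = n69794 := (((D69794).symm.trans (sb E52311 (iv6 F210416)))).symm
theorem E56413 : n74921 = n15957 := ((((iv1 F43066)).symm.trans (sb E52312 F112444))).symm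
theorem E56414 : n131759 = n27013 := ((((iv0 F43644)).symm.trans (sb E52312 D131759))).symm
theorem F301138 : act 4 n26494 = n29296 := (sb E52312 (iv4 D61819))
theorem E56417 : n131762 = n54780 := (((D54780).symm.trans (sb E52312 D131762))).symm
theorem E56418 : n131763 = n32884 := ((D131763).symm.trans (sb E52313 F110798))
theorem E56433 : n131772 = n77669 := (((D77669).symm.trans (sb E52322 D131772))).symm
theorem E56434 : n129583 = n77670 := (((D77670).symm.trans (sb E52322 (iv0 F211136)))).symm
theorem F301139 : act 4 n35460 = n29298 := (sb E52322 F96383)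
theorem E56435 : n131774 = n77671 := (((D77671).symm.trans (sb E52322 D131774))).symm
theorem E56436 : n131775 = n77672 := (((D77672).symm.trans (sb E52322 D131775))).symm
theorem F301140 : act 4 n119016 = n96301 := (sb E52342 F238113)
theorem F301141 : act 6 n119016 = n71359 := (sb E52342 (iv6 D151392))
theorem F301142 : act 5 n152428 = n79286 := (sb E52343 (iv5 D165024))
theorem E56440 : n70307 = n31809 := (((F104185).symm.trans (iv7 (sb E52344 (tr (iv7 D165057) E56215))))).symm
theorem E56441 : n128400 = n29056 := ((D128400).symm.trans (sb E52345 (tr (iv3 D164680) E52412)))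
theorem E56444 : n181321 = n180012 := (((D180012).symm.trans (sb E52350 F282397))).symm
theorem F301143 : act 2 n166065 = n177056 := (sb E52352 F276467)
theorem F301144 : act 4 n166065 = n81459 := (sb E52352 (iv4 D169869))
theorem F301145 : act 7 n166065 = n177057 := (sb E52352 (iv7 F276469))
theorem F301146 : act 2 n166066 = n177057 := (sb E52353 F276471)
theorem F301147 : act 4 n166066 = n81460 := (sb E52353 (iv4 D169872))
theorem F301148 : act 7 n166066 = n177056 := (sb E52353 F276468)
theorem E56445 : n169854 = n61389 := (E52356).trans E55716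
theorem E56446 : n164585 = n130852 := (((D130852).symm.trans (sb E56445 F267275))).symm
theorem F301149 : act 0 n157992 = n83117 := (sb E52360 (iv1 D173821))
theorem F301150 : act 1 n157992 = n83126 := (sb E52360 F272410)
theorem F301151 : act 0 n121958 = n82615 := (sb E52361 (iv1 F195937))
theorem F301152 : act 1 n121958 = n56792 := (sb E52361 (iv0 D122469))
theorem F301153 : act 2 n121958 = n75692 := (sb E52361 (iv2 F195944))
theorem F301154 : act 5 n121958 = n83432 := (sb E52361 F195935)
theorem F301155 : act 6 n121958 = n75251 := (sb E52361 (iv6 F195945))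
theorem F301156 : act 0 n70844 = n122601 := (sb E52362 (iv1 F238132))
theorem F301157 : act 1 n70844 = n122600 := (sb E52362 F238133)
theorem F301158 : act 7 n70844 = n71370 := (sb E52362 (iv7 D151414))
theorem F301159 : act 0 n81548 = n71370 := (sb E52363 (iv1 D151412))
theorem F301160 : act 1 n81549 = n71370 := (sb E52364 (iv0 D151411))
theorem F301161 : act 7 n81550 = n122602 := (sb E52365 F264470)
theorem E56449 : n150451 = n29265 := (((E56357).symm.trans (((iv3 F194820)).symm.trans (sb E52367 (iv3 F236888))))).symm
theorem E56450 : n170253 = n161013 := (((D161013).symm.trans (sb E52367 (iv4 F267768)))).symm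
theorem F301162 : act 6 n77267 = n37319 := (sb E52367 (iv6 D81653))
theorem F301163 : act 0 n100062 = n96492 := (sb E52368 F235987)
theorem F301164 : act 1 n100062 = n122615 := (sb E52368 F235988)
theorem F301165 : act 2 n100062 = n96742 := (sb E52368 F235984)
theorem F301166 : act 3 n100062 = n70570 := (sb E52368 (iv3 D150010))
theorem F301167 : act 5 n100062 = n119070 := (sb E52368 F235986)
theorem F301168 : act 7 n100062 = n150449 := (sb E52368 (iv7 F236882))
theorem F301169 : act 0 n87537 = n57103 := (sb E52369 (iv1 D122826))
theorem F301170 : act 1 n87537 = n70374 := (sb E52369 F196800)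
theorem F301171 : act 3 n87537 = n75314 := (sb E52369 (iv3 F196803))
theorem F301172 : act 4 n87537 = n96742 := (sb E52369 F196802)
theorem E56453 : n183383 = n160143 := ((D183383).symm.trans (sb E52369 (iv5 F252762)))
theorem F301173 : act 7 n87537 = n72426 := (sb E52369 F196801)
theorem F301174 : act 3 n152639 = n75315 := (sb E52370 F249071)
theorem F301175 : act 6 n152639 = n75313 := (sb E52370 (iv6 D158129))
theorem F301177 : act 5 n148975 = n181588 := (sb E52374 (iv5 F282648))
theorem F301178 : act 7 n128408 = n86556 := (sb E52375 (iv7 D181267))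
theorem F301180 : act 2 n124407 = n160778 := (sb E52380 F263130)
theorem F301181 : act 5 n124407 = n160397 := (sb E52380 F263132)
theorem F301183 : act 4 n162879 = n81630 := (sb E52382 (iv4 D170210))
theorem E56455 : n81103 = n35465 := (((D35465).symm.trans (sb E52384 D81103))).symm
theorem E56456 : n81104 = n35466 := (((D35466).symm.trans (sb E52384 D81104))).symm
theorem E56457 : n70429 = n61383 := ((E54684).symm.trans ((D80715).symm.trans (sb E52385 (iv1 F96158))))
theorem E56458 : n80716 = n29179 := ((D80716).symm.trans (sb E52385 (iv0 F57995)))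
theorem F301186 : act 2 n36850 = n32830 := (sb E52385 F57994)
theorem E56459 : n80717 = n58547 := ((D80717).symm.trans (sb E52385 (iv5 F92484)))
theorem E56460 : n80718 = n61382 := ((D80718).symm.trans (sb E52385 (iv7 F95874)))
theorem F301187 : act 5 n27852 = n17757 := (sb E52386 (iv5 D36853))
theorem F301188 : act 7 n36378 = n17757 := (sb E52387 (iv7 D36854))
theorem E56462 : n58453 = n55536 := (((iv3 F92326)).symm.trans (sb E52388 (iv3 F87820)))
theorem F301189 : act 4 n27815 = n17671 := (sb E52388 (iv4 D36671))
theorem E56464 : n80126 = n32778 := (((D32778).symm.trans (sb E52389 F122983))).symm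
theorem E56465 : n77632 = n32780 := (((D32780).symm.trans (sb E52389 (iv5 F122985)))).symm
theorem E56467 : n77629 = n32785 := (((D32785).symm.trans (sb E52390 (iv5 F124101)))).symm
theorem E56470 : n72472 = n18959 := ((((iv0 F30267)).symm.trans (sb E52393 (iv0 F191272)))).symm
theorem F301190 : act 3 n17124 = n23880 := (sb E52393 F77166)
theorem E56471 : n127861 = n40375 := (((iv2 F205742)).symm.trans (sb E52394 F120401))
theorem E56472 : n118505 = n75320 := ((F189084).symm.trans (sb E52394 F120402))
theorem E56475 : n150355 = n26560 := ((((iv4 F42530)).symm.trans (sb E52396 D150355))).symm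
theorem F301191 : act 5 n23908 = n32825 := (sb E52396 (iv5 D70828))
theorem E56476 : n131313 = n49004 := (((D49004).symm.trans (sb E52396 (iv6 F210452)))).symm
theorem E56477 : n164650 = n150356 := (((D150356).symm.trans (sb E52397 D164650))).symm
theorem F301192 : act 4 n70829 = n96755 := (sb E52397 (iv4 F149224))
theorem E56481 : n150367 = n3964 := ((((iv3 D8887)).symm.trans (sb E52398 D150367))).symm
theorem E56482 : n150368 = n3968 := (((F13855).symm.trans (sb E52398 D150368))).symm
theorem E56483 : n131297 = n18965 := (((D18965).symm.trans (sb E52398 (iv6 F215163)))).symm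
theorem E56486 : n150370 = n48981 := (((D48981).symm.trans (sb E52399 D150370))).symm
theorem E56487 : n65314 = n26424 := ((((iv1 F42225)).symm.trans (sb E52400 (iv1 F222345)))).symm
theorem E56488 : n150371 = n26485 := ((((iv0 F42378)).symm.trans (sb E52400 D150371))).symm
theorem E56491 : n150374 = n26561 := (((D26561).symm.trans (sb E52400 D150374))).symm
theorem E56492 : n131314 = n36310 := (((F131633).symm.trans (sb E52401 (iv1 F215253)))).symm
theorem E56493 : n70113 = n62775 := ((F131634).symm.trans (sb E52401 (iv0 F191372)))
theorem F301193 : act 3 n40138 = n32830 := (sb E52401 F107307)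
theorem E56494 : n86582 = n85757 := ((D86582).symm.trans (sb E52401 (iv5 F131493)))
theorem E56495 : n131274 = n70117 := ((((iv7 F130344)).symm.trans (sb E52401 (iv7 F210379)))).symm
theorem E56496 : n150375 = n86572 := ((D150375).symm.trans (sb E52402 (iv3 F233120)))
theorem E56497 : n164654 = n150376 := (((D150376).symm.trans (sb E52402 D164654))).symm
theorem E56499 : n164656 = n149337 := (((F234768).symm.trans (sb E52402 D164656))).symm
theorem E56500 : n164657 = n150079 := (((F236654).symm.trans (sb E52403 D164657))).symm
theorem E56501 : n164658 = n150377 := (((D150377).symm.trans (sb E52403 D164658))).symm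
theorem E56508 : n131422 = n86548 := (((iv2 F210637)).symm.trans (sb E52406 (iv2 F132783)))
theorem E56509 : n164665 = n150214 := (((D150214).symm.trans (sb E52406 D164665))).symm
theorem F301195 : act 5 n70701 = n36087 := (sb E52406 F120408)
theorem E56510 : n164666 = n62812 := (((F184645).symm.trans (sb E52406 D164666))).symm
theorem F301196 : act 7 n70701 = n57449 := (sb E52406 F120409)
theorem E56511 : n150339 = n38380 := ((((iv3 F59244)).symm.trans (sb E52407 D150339))).symm
theorem F301197 : act 4 n18312 = n32817 := (sb E52407 (iv4 D70810))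
theorem E56512 : n62331 = n38382 := (((D38382).symm.trans (sb E52407 (iv6 F185266)))).symm
theorem E56520 : n129742 = n80281 := (((D80281).symm.trans (sb E52410 (iv1 F207952)))).symm
theorem E56521 : n80282 = n60769 := ((D80282).symm.trans (sb E52410 (iv0 F107315)))
theorem F301198 : act 4 n36576 = n32830 := (sb E52410 F107314)
theorem E56523 : n129741 = n80284 := (((D80284).symm.trans (sb E52410 (iv7 F207935)))).symm
theorem E56526 : n130062 = n38523 := (((iv4 F208520)).symm.trans (sb E52411 F255738))
theorem E56528 : n70428 = n61388 := (((F96160).symm.trans (sb E52411 (tr D164678 E56086)))).symm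
theorem E56530 : n60752 = n38524 := (((iv4 F95347)).symm.trans (sb E52412 F259679))
theorem E56537 : n80715 = n61383 := (E54684).trans E56457
theorem E56547 : n164717 = n54581 := ((((iv0 F131025)).symm.trans (sb E52420 D164717))).symm
theorem E56548 : n159942 = n85455 := ((((iv2 F130678)).symm.trans (sb E52420 (iv2 F252239)))).symm
theorem F301199 : act 4 n39466 = n80188 := (sb E52420 (iv4 F123156))
theorem E56554 : n71619 = n71554 := (((iv0 F232557)).symm.trans (sb E52423 (iv0 F130821)))
theorem E56555 : n71532 = n71501 := ((((iv2 F232447)).symm.trans (sb E52423 (iv2 F232538)))).symm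
theorem F301200 : act 0 n48997 = n54779 := (sb E52425 (iv1 F187180))
theorem F301201 : act 1 n48997 = n54769 := (sb E52425 (iv0 D119018))
theorem E56559 : n70669 = n57104 := (((F90154).symm.trans (sb E52425 F187176))).symm
theorem E56560 : n155348 = n23906 := ((((iv5 D48997)).symm.trans (sb E52425 (iv5 F244302)))).symm
theorem E56561 : n119750 = n105987 := (((D105987).symm.trans (sb E52425 (iv6 F188946)))).symm
theorem F301202 : act 0 n33093 = n54769 := (sb E52426 (iv1 F124882))
theorem F301203 : act 1 n33093 = n54779 := (sb E52426 (iv0 F124883))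
theorem E56562 : n71609 = n23902 := ((((iv5 F52313)).symm.trans (sb E52426 D71609))).symm
theorem E56563 : n71610 = n71549 := (((D71549).symm.trans (sb E52426 D71610))).symm
theorem E56564 : n74922 = n32421 := (((F52305).symm.trans (sb E52428 D74922))).symm
theorem F301204 : act 5 n33081 = n54769 := (sb E52428 (iv5 F86643))
theorem E56566 : n71513 = n16625 := ((D71513).symm.trans (sb E52428 (iv6 D34333)))
theorem E56567 : n133933 = n45215 := (((iv3 F215768)).symm.trans (sb E52431 F108063))
theorem F301205 : act 5 n55995 = n54779 := (sb E52432 F187293)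
theorem E56568 : n160026 = n121375 := (((D121375).symm.trans (sb E52432 (iv6 F252463)))).symm
theorem F301207 : act 1 n179473 = n86595 := (sb E52434 F282464)
theorem F301211 : act 6 n120313 = n81975 := (sb E52438 (iv6 D171028))
theorem F301212 : act 0 n120314 = n56655 := (sb E52439 (iv1 D122340))
theorem F301213 : act 4 n120314 = n177832 := (sb E52439 (iv4 F277362))
theorem E56569 : n170212 = n33848 := (((F188617).symm.trans (iv2 (sb E52440 (tr F281796 E56059))))).symm
theorem E56570 : n180993 = n33848 := (E52440).trans E56569
theorem E56571 : n162837 = n55167 := ((((iv7 F188621)).symm.trans (sb E56570 F281799))).symm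
theorem F301214 : act 2 n170213 = n86497 := (sb E52441 F281813)
theorem E56572 : n118474 = n38191 := (((F108916).symm.trans (sb E52451 F191307))).symm
theorem F301224 : act 6 n41704 = n33246 := (sb E52451 (iv6 D71960))
theorem E56574 : n181936 = n150622 := ((D181936).symm.trans (sb E52452 F266010))
theorem F301225 : act 2 n158458 = n80312 := (sb E52454 F263471)
theorem F301226 : act 0 n158460 = n80312 := (sb E52455 F263348)
theorem E56575 : n170559 = n158460 := ((D170559).symm.trans (iv2 (sb E52455 (tr F263345 E53418))))
theorem F301227 : act 3 n158460 = n118784 := (sb E52455 F263346)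
theorem F301228 : act 6 n158460 = n80258 := (sb E52455 (iv6 D167178))
theorem E56576 : n173989 = n38408 := (((F60266).symm.trans (sb E52456 (iv3 F272624)))).symm
theorem E56577 : n80276 = n56429 := ((D80276).symm.trans (sb E52456 (iv6 D121988)))
theorem F301229 : act 3 n37884 = n39282 := (sb E52457 (iv3 D84905))
theorem E56578 : n82518 = n46989 := ((D82518).symm.trans (sb E52457 F130114))
theorem F301230 : act 7 n37884 = n80274 := (sb E52457 F130115)
theorem E56580 : n82514 = n54816 := (((D54816).symm.trans (sb E52458 F263330))).symm
theorem F301231 : act 6 n36562 = n39282 := (sb E52459 (iv6 D84906))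
theorem F301242 : act 4 n119126 = n62912 := (sb E52469 F215795)
theorem F301246 : act 3 n161811 = n95832 := (sb E52470 F267260)
theorem F301247 : act 4 n161811 = n81442 := (sb E52470 (iv4 D169828))
theorem E56585 : n149828 = n77712 := ((((iv5 D161811)).symm.trans (sb E52470 F267262))).symm
theorem F301248 : act 7 n161811 = n149669 := (sb E52470 F267261)
theorem E56586 : n79430 = n37187 := ((((iv5 D81430)).symm.trans (sb E52472 (iv5 D165350)))).symm
theorem E56587 : n161730 = n128164 := ((((iv4 F206302)).symm.trans (sb E52473 F265240))).symm
theorem E56603 : n120888 = n35149 := (((D35149).symm.trans (sb E52501 (iv4 F192798)))).symm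
theorem E56606 : n151475 = n32658 := (((D32658).symm.trans (sb E52511 D151475))).symm
theorem F301251 : act 0 n37549 = n57230 := (sb E52515 F121080)
theorem F301252 : act 1 n37549 = n18517 := (sb E52515 (iv0 D39017))
theorem E56608 : n84556 = n81987 := (((D81987).symm.trans (sb E52515 D84556))).symm
theorem F301253 : act 6 n37549 = n35124 := (sb E52515 F121083)
theorem F301254 : act 2 n78312 = n76161 := (sb E52516 F149068)
theorem F301255 : act 4 n78312 = n45174 := (sb E52516 (iv4 D96704))
theorem F301256 : act 6 n78312 = n84480 := (sb E52516 F149069)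
theorem F301257 : act 7 n78312 = n81639 := (sb E52516 F149070)
theorem F301258 : act 0 n163968 = n157873 := (sb E52524 (iv1 F261273))
theorem F301259 : act 2 n163968 = n157872 := (sb E52524 F261275)
theorem F301260 : act 4 n163968 = n166749 := (sb E52524 F262491)
theorem F301261 : act 5 n163968 = n93242 := (sb E52524 F261272)
theorem F301262 : act 7 n163968 = n157871 := (sb E52524 (iv7 F261274))
theorem F301263 : act 1 n163969 = n157873 := (sb E52525 F261276)
theorem F301264 : act 2 n163969 = n157871 := (sb E52525 (iv2 F261280))
theorem F301265 : act 4 n163969 = n165799 := (sb E52525 (iv4 F261278))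
theorem F301266 : act 7 n163969 = n157872 := (sb E52525 F261277)
theorem F301267 : act 0 n163965 = n157872 := (sb E52526 (iv1 F261267))
theorem F301268 : act 1 n163965 = n157871 := (sb E52526 F261269)
theorem F301269 : act 3 n163965 = n157890 := (sb E52526 (iv3 F261268))
theorem F301270 : act 7 n163965 = n157873 := (sb E52526 F261266)
theorem F301271 : act 7 n163970 = n157874 := (sb E52527 F261282)
theorem F301272 : act 1 n81911 = n78778 := (sb E52528 (iv0 D163984))
theorem F301273 : act 0 n81908 = n78778 := (sb E52529 (iv1 D163985))
theorem F301274 : act 4 n86159 = n78778 := (sb E52530 (iv4 D163986))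
theorem F301275 : act 2 n163976 = n157893 := (sb E52531 F269326)
theorem F301276 : act 4 n163976 = n180402 := (sb E52531 (iv4 F280770))
theorem E56611 : n120336 = n47565 := ((D120336).symm.trans (sb E52533 (iv1 F289835)))
theorem E56612 : n120337 = n102440 := ((D120337).symm.trans (sb E52533 F289789))
theorem F301277 : act 5 n55383 = n37515 := (sb E52533 (iv5 D81931))
theorem E56613 : n120339 = n102471 := ((D120339).symm.trans (sb E52533 (iv7 F289827)))
theorem F301278 : act 0 n55495 = n27272 := (sb E52534 F117526)
theorem F301279 : act 2 n55495 = n26826 := (sb E52534 F87873)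
theorem F301280 : act 3 n55495 = n34725 := (sb E52534 F87874)
theorem F301281 : act 5 n55495 = n37500 := (sb E52534 F117280)
theorem F301282 : act 0 n17959 = n18786 := (sb E52538 F117170)
theorem F301283 : act 2 n17959 = n18796 := (sb E52538 F117377)
theorem F301284 : act 6 n17959 = n13209 := (sb E52538 (iv6 D27669))
theorem F301285 : act 1 n17960 = n26826 := (sb E52539 (iv0 D55575))
theorem F301286 : act 2 n17960 = n27272 := (sb E52539 F117396)
theorem F301287 : act 5 n95879 = n54644 := (sb E52540 (iv5 D118681))
theorem F301288 : act 7 n95879 = n85364 := (sb E52540 F232479)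
theorem F301289 : act 0 n95880 = n85364 := (sb E52542 (iv1 F238070))
theorem F301290 : act 1 n95881 = n85364 := (sb E52543 F238071)
theorem F301291 : act 5 n95881 = n160008 := (sb E52543 (iv5 F252403))
theorem F301292 : act 2 n95883 = n85364 := (sb E52544 F200577)
theorem F301293 : act 5 n95883 = n58386 := (sb E52544 (iv5 D124891))
theorem F301295 : act 4 n95892 = n88055 := (sb E52545 F282349)
theorem F301296 : act 6 n95892 = n86558 := (sb E52545 (iv6 D181270))
theorem E56619 : n165900 = n164022 := (((D164022).symm.trans (sb E52546 D165900))).symm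
theorem E56620 : n165901 = n164023 := (((D164023).symm.trans (sb E52546 D165901))).symm
theorem E56621 : n165902 = n164024 := (((D164024).symm.trans (sb E52546 D165902))).symm
theorem E56625 : n165906 = n164028 := (((D164028).symm.trans (sb E52547 D165906))).symm
theorem E56628 : n165910 = n164019 := (((D164019).symm.trans (sb E52548 D165910))).symm
theorem E56631 : n164033 = n98415 := ((D164033).symm.trans (sb E52549 (iv4 F295454)))
theorem F301297 : act 4 n56152 = n35876 := (sb E52550 (iv4 D78806))
theorem F301299 : act 5 n163382 = n79203 := (sb E52556 (iv5 D164837))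
theorem F301300 : act 7 n163382 = n165711 := (sb E52556 (iv7 F261048))
theorem F301301 : act 6 n76954 = n79203 := (sb E52557 (iv6 D164838))
theorem F301304 : act 4 n163372 = n124244 := (sb E52562 F261206)
theorem F301305 : act 4 n163375 = n124246 := (sb E52564 F261208)
theorem F301307 : act 4 n84844 = n55758 := (sb E52566 F192819)
theorem E56640 : n165879 = n164149 := ((((iv2 F258695)).symm.trans (sb E52569 (iv2 F261250)))).symm
theorem F301308 : act 6 n78862 = n36277 := (sb E52569 (iv6 D79662))
theorem F301310 : act 0 n158849 = n173856 := (sb E52573 (iv1 F272494))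
theorem F301311 : act 4 n158849 = n173813 := (sb E52573 (iv4 F272399))
theorem F301312 : act 7 n158849 = n166695 := (sb E52573 (iv7 F262370))
theorem E56651 : n174216 = n173833 := (((D173833).symm.trans (sb E52575 D174216))).symm
theorem F301313 : act 2 n39189 = n57889 := (sb E52582 F196297)
theorem F301314 : act 7 n39177 = n84563 := (sb E52583 F198656)
theorem F301315 : act 0 n39178 = n26794 := (sb E52584 (iv1 D55498))
theorem F301316 : act 3 n39178 = n26834 := (sb E52584 F121155)
theorem E56653 : n120481 = n84781 := (((D84781).symm.trans (sb E52584 F191922))).symm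
theorem F301317 : act 6 n39178 = n37426 := (sb E52584 F121156)
theorem F301318 : act 2 n39182 = n84563 := (sb E52585 F197613)
theorem F301319 : act 1 n121284 = n86213 := (sb E52586 F195573)
theorem F301320 : act 3 n121284 = n55961 := (sb E52586 F193426)
theorem F301321 : act 7 n121284 = n58683 := (sb E52586 F193428)
theorem F301322 : act 0 n34795 = n18517 := (sb E52587 (iv1 D39018))
theorem F301323 : act 1 n34795 = n57230 := (sb E52587 (iv0 F121070))
theorem F301324 : act 6 n34795 = n55949 := (sb E52587 F121559)
theorem F301328 : act 0 n78218 = n158849 := (sb E52591 F273539)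
theorem F301329 : act 2 n173859 = n158849 := (sb E52592 F275983)
theorem F301330 : act 0 n36233 = n40287 := (sb E52593 (iv1 F61314))
theorem F301331 : act 2 n36233 = n58651 := (sb E52593 (iv2 F92631))
theorem F301332 : act 4 n36233 = n18833 := (sb E52593 (iv4 D39807))
theorem E56654 : n86035 = n79558 := (((D79558).symm.trans (sb E52593 D86035))).symm
theorem E56655 : n79559 = n55932 := ((D79559).symm.trans (sb E52593 F88500))
theorem F301333 : act 7 n36233 = n37451 := (sb E52593 F60632)
theorem F301334 : act 7 n36398 = n79704 := (sb E52597 F260189)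
theorem F301335 : act 1 n77188 = n83458 := (sb E52598 (iv0 D174655))
theorem F301336 : act 3 n13070 = n27267 := (sb E52600 F89742)
theorem E56657 : n153902 = n19180 := (((F58176).symm.trans (sb E52601 (iv4 F241872)))).symm
theorem E56658 : n81521 = n33726 := ((D81521).symm.trans (sb E52601 F109964))
theorem F301337 : act 0 n16295 = n21901 := (sb E52602 F61681)
theorem E56659 : n77636 = n33733 := ((((iv3 F52980)).symm.trans (sb E52602 (iv3 F116537)))).symm
theorem E56661 : n33467 = n8870 := ((((iv5 D18918)).symm.trans (sb E52603 (iv5 D72526)))).symm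
theorem E56662 : n85797 = n40009 := (((D40009).symm.trans (sb E52603 F190402))).symm
theorem E56663 : n33470 = n17917 := ((((iv1 F29090)).symm.trans (sb E52604 F190786))).symm
theorem E56664 : n33371 = n19161 := ((((iv0 F30790)).symm.trans (sb E52604 F190787))).symm
theorem E56666 : n118615 = n17909 := (((F295922).symm.trans (sb E52604 D118615))).symm
theorem E56668 : n87400 = n85796 := (((D85796).symm.trans (sb E52605 (iv0 F281928)))).symm
theorem E56669 : n85798 = n81443 := ((D85798).symm.trans (sb E52605 F296250))
theorem F301338 : act 6 n39628 = n21901 := (sb E52605 (iv6 D45804))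
theorem E56670 : n86846 = n33617 := (((F190774).symm.trans (sb E52605 (iv7 F133183)))).symm
theorem E56671 : n81568 = n62707 := ((D81568).symm.trans (sb E52606 F97819))
theorem E56672 : n118616 = n81569 := (((D81569).symm.trans (sb E52606 D118616))).symm
theorem F301339 : act 2 n37264 = n33165 := (sb E52606 F86323)
theorem E56673 : n81442 = n69743 := (((iv5 F125278)).symm.trans (sb E52606 F106136))
theorem E56674 : n118617 = n44474 := ((((iv7 F69989)).symm.trans (sb E52606 D118617))).symm
theorem F301340 : act 0 n16338 = n19033 := (sb E52608 (iv1 D40275))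
theorem E56677 : n120718 = n33724 := (((F190625).symm.trans (sb E52609 D120718))).symm
theorem F301341 : act 2 n47257 = n33953 := (sb E52612 F166633)
theorem E56680 : n119678 = n22726 := ((((iv4 D47257)).symm.trans (sb E52612 (iv4 F188789)))).symm
theorem E56681 : n107860 = n101594 := (((D101594).symm.trans (sb E52612 (iv5 F166629)))).symm
theorem E56682 : n101595 = n26614 := ((D101595).symm.trans (sb E52612 (iv6 D55065)))
theorem F301342 : act 7 n47257 = n33952 := (sb E52612 F166634)
theorem F301343 : act 2 n47262 = n33952 := (sb E52613 F166636)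
theorem E56683 : n155455 = n22727 := ((((iv4 D47262)).symm.trans (sb E52613 D155455))).symm
theorem E56684 : n118476 = n101600 := (((D101600).symm.trans (sb E52613 (iv5 F186326)))).symm
theorem E56685 : n101601 = n39410 := ((D101601).symm.trans (sb E52613 F199947))
theorem F301344 : act 7 n47262 = n33953 := (sb E52613 F166637)
theorem F301345 : act 0 n55099 = n33953 := (sb E52614 (iv1 F110722))
theorem F301346 : act 1 n55099 = n33952 := (sb E52614 F110723)
theorem E56686 : n155457 = n119741 := (((D119741).symm.trans (sb E52614 (iv5 F244445)))).symm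
theorem E56687 : n119846 = n119742 := (((D119742).symm.trans (sb E52614 (iv6 F189164)))).symm
theorem E56688 : n155529 = n119657 := ((((iv4 F188742)).symm.trans (sb E52615 (iv4 F244548)))).symm
theorem E56689 : n120709 = n61575 := ((D120709).symm.trans (sb E52615 (iv6 F110745)))
theorem F301347 : act 7 n55643 = n33954 := (sb E52615 (iv7 D73981))
theorem E56691 : n120711 = n33848 := (((F130752).symm.trans (sb E52616 D120711))).symm
theorem F301348 : act 4 n55168 = n35373 := (sb E52616 F88035)
theorem F301349 : act 6 n55168 = n26870 := (sb E52616 (iv6 D55644))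
theorem F301350 : act 2 n29155 = n26898 := (sb E52617 F88036)
theorem F301351 : act 6 n29155 = n26871 := (sb E52617 (iv6 D55645))
theorem E56698 : n119958 = n33767 := (((D33767).symm.trans (sb E52620 D119958))).symm
theorem E56700 : n119961 = n33768 := (((D33768).symm.trans (sb E52620 D119961))).symm
theorem E56701 : n119323 = n33769 := (((D33769).symm.trans (sb E52621 (iv3 F232681)))).symm
theorem E56703 : n33770 = n33763 := ((D33770).symm.trans (sb E52621 (iv6 F232683)))
theorem E56704 : n71596 = n33761 := (((D33761).symm.trans (sb E52622 (iv5 F232366)))).symm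
theorem E56705 : n33762 = n26671 := ((D33762).symm.trans (sb E52622 (iv6 D55195)))
theorem E56707 : n119956 = n33773 := (((D33773).symm.trans (sb E52623 (iv6 F189377)))).symm
theorem F301352 : act 4 n12740 = n7590 := (sb E52624 F25846)
theorem F301353 : act 6 n12740 = n7589 := (sb E52624 (iv6 D16324))
theorem E56710 : n117719 = n36161 := (((D36161).symm.trans (sb E52625 F184347))).symm
theorem E56711 : n119977 = n36162 := (((D36162).symm.trans (sb E52625 D119977))).symm
theorem F301354 : act 2 n17483 = n33965 := (sb E52625 F87346)
theorem E56712 : n36163 = n26676 := ((D36163).symm.trans (sb E52625 (iv5 D55211)))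
theorem E56713 : n61574 = n36164 := (((D36164).symm.trans (sb E52625 (iv7 F96122)))).symm
theorem E56717 : n149088 = n133670 := ((D149088).symm.trans (sb E52627 F215090))
theorem E56720 : n154822 = n119556 := ((((iv3 F188537)).symm.trans (sb E52628 (iv3 F243521)))).symm
theorem E56721 : n165180 = n119570 := ((((iv4 F188552)).symm.trans (sb E52628 (iv4 F260438)))).symm
theorem F301355 : act 6 n55019 = n36139 := (sb E52628 (iv6 D79364))
theorem E56724 : n119589 = n107888 := (((iv4 F188588)).symm.trans (sb E52629 (tr (iv4 F238102) E54563)))
theorem E56725 : n119593 = n86600 := ((D119593).symm.trans (sb E52629 F132847))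
theorem F301356 : act 5 n40749 = n26602 := (sb E52630 (iv5 D55034))
theorem E56728 : n119607 = n87545 := (((D87545).symm.trans (sb E52630 (iv6 F188638)))).symm
theorem F301357 : act 2 n18917 = n33164 := (sb E52632 F130312)
theorem E56734 : n69415 = n40008 := (((D40008).symm.trans (sb E52632 F105692))).symm
theorem E56735 : n165192 = n39318 := ((D165192).symm.trans (sb E52633 (iv1 F130330)))
theorem E56736 : n165193 = n39355 := ((D165193).symm.trans (sb E52633 (iv0 F130328)))
theorem E56737 : n165195 = n39309 := ((D165195).symm.trans (sb E52633 (iv7 D84997)))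
theorem F301358 : act 4 n47001 = n33164 := (sb E52634 (iv4 D71736))
theorem E56740 : n152120 = n55425 := ((((iv6 F297096)).symm.trans (sb E52634 D152120))).symm
theorem E56741 : n152121 = n70878 := ((((iv1 F107387)).symm.trans (sb E52635 D152121))).symm
theorem E56742 : n152122 = n32668 := ((((iv0 D70379)).symm.trans (sb E52635 D152122))).symm
theorem F301359 : act 3 n70379 = n33165 := (sb E52635 F108205)
theorem F301360 : act 6 n70379 = n33164 := (sb E52635 (iv6 D71737))
theorem E56743 : n70877 = n69410 := (((iv7 F107381)).symm.trans (sb E52635 (iv7 F130321)))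
theorem F301361 : act 1 n18657 = n36144 := (sb E52636 (iv0 D79374))
theorem E56744 : n165205 = n39318 := ((((iv2 F130144)).symm.trans (sb E52636 D165205))).symm
theorem E56749 : n165210 = n39355 := (((D39355).symm.trans (sb E52636 D165210))).symm
theorem E56750 : n165211 = n68732 := ((D165211).symm.trans (sb E52637 F200212))
theorem E56751 : n178509 = n165212 := (((D165212).symm.trans (sb E52637 (iv4 F278164)))).symm
theorem E56752 : n165213 = n68730 := ((D165213).symm.trans (sb E52637 (iv5 F200225)))
theorem E56753 : n165214 = n39371 := ((D165214).symm.trans (sb E52637 F130231))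
theorem F301362 : act 5 n75850 = n36144 := (sb E52638 (iv5 D79376))
theorem F301363 : act 7 n39635 = n36144 := (sb E52639 (iv7 D79377))
theorem E56758 : n118709 = n118478 := ((((iv2 F186356)).symm.trans (sb E52640 (iv2 F186722)))).symm
theorem E56759 : n118530 = n118489 := (((iv4 F186433)).symm.trans (sb E52640 (iv4 F186391)))
theorem F301364 : act 2 n54624 = n27125 := (sb E52641 F89021)
theorem E56763 : n121812 = n33331 := (((F86341).symm.trans (sb E52641 D121812))).symm
theorem E56765 : n120164 = n76728 := (((iv3 F189797)).symm.trans (sb E52642 (iv3 F298575)))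
theorem E56766 : n131101 = n119123 := (((iv4 F209960)).symm.trans (sb E52642 (iv4 F187429)))
theorem E56767 : n131103 = n76727 := ((D131103).symm.trans (sb E52642 (iv5 F298576)))
theorem E56769 : n151908 = n81922 := ((F238871).symm.trans (sb E52643 (iv3 F298579)))
theorem E56770 : n133942 = n119124 := (((iv4 F215789)).symm.trans (sb E52643 F187432))
theorem E56771 : n165225 = n148830 := ((((iv5 F233697)).symm.trans (sb E52643 D165225))).symm
theorem E56773 : n164605 = n34408 := (((F108208).symm.trans (sb E52644 (iv1 F298588)))).symm
theorem E56774 : n165228 = n69744 := ((((iv0 F108209)).symm.trans (sb E52644 D165228))).symm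
theorem E56775 : n149670 = n68353 := ((((iv4 F113803)).symm.trans (sb E52644 (iv4 F298594)))).symm
theorem E56778 : n165085 = n39410 := (((D39410).symm.trans (sb E52646 D165085))).symm
theorem E56779 : n124911 = n39400 := ((((iv2 F60333)).symm.trans (sb E52646 (iv2 F200618)))).symm
theorem E56783 : n39443 = n33787 := ((D39443).symm.trans (sb E52648 F232533))
theorem E56784 : n124918 = n39439 := ((((iv2 F60366)).symm.trans (sb E52648 (iv2 F200636)))).symm
theorem E56785 : n55547 = n39444 := (((D39444).symm.trans (sb E52648 F92250))).symm
theorem E56786 : n39453 = n39445 := (((D39445).symm.trans (sb E52648 F92251))).symm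
theorem E56787 : n86849 = n55548 := (((D55548).symm.trans (sb E52649 D86849))).symm
theorem F301365 : act 5 n26812 = n19033 := (sb E52649 (iv5 D40276))
theorem F301366 : act 6 n18700 = n19033 := (sb E52650 (iv6 D40277))
theorem F301367 : act 3 n13191 = n8815 := (sb E52656 F30039)
theorem E56811 : n174101 = n128157 := ((((iv2 F206286)).symm.trans (sb E52663 (iv2 F272909)))).symm
theorem E56813 : n174122 = n173803 := (((D173803).symm.trans (sb E52664 D174122))).symm
theorem E56814 : n174119 = n173804 := (((D173804).symm.trans (sb E52664 (iv6 F272923)))).symm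
theorem E56817 : n176576 = n173771 := ((((iv2 F272365)).symm.trans (sb E52666 (iv2 F275936)))).symm
theorem F301368 : act 6 n83104 = n38817 := (sb E52666 (iv6 D84187))
theorem F301369 : act 1 n83114 = n75695 := (sb E52667 (iv0 D158693))
theorem F301370 : act 3 n83358 = n155087 := (sb E52669 F256799)
theorem F301371 : act 6 n83358 = n78065 := (sb E52669 (iv6 D162559))
theorem E56819 : n173872 = n72830 := ((((iv0 F190374)).symm.trans (sb E52673 F272521))).symm
theorem E56820 : n173875 = n72828 := ((((iv2 F190727)).symm.trans (sb E52673 (iv2 F272518)))).symm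
theorem F301372 : act 6 n36357 = n38728 := (sb E52673 F128215)
theorem E56822 : n173893 = n79814 := (((D79814).symm.trans (sb E52674 (iv4 F272534)))).symm
theorem E56823 : n173894 = n79815 := (((D79815).symm.trans (sb E52674 D173894))).symm
theorem F301373 : act 7 n36358 = n38279 := (sb E52674 (iv7 D83157))
theorem F301374 : act 2 n84189 = n167786 := (sb E52675 (iv2 F264156))
theorem E56824 : n119292 = n60167 := ((D119292).symm.trans (sb E52677 F206054))
theorem F301375 : act 6 n54897 = n60166 := (sb E52677 (iv6 D128048))
theorem E56825 : n173279 = n119511 := (((D119511).symm.trans (sb E52678 F271662))).symm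
theorem E56826 : n173284 = n119512 := (((D119512).symm.trans (sb E52678 F271671))).symm
theorem E56827 : n119513 = n60201 := ((D119513).symm.trans (sb E52678 F206174))
theorem E56828 : n119514 = n71981 := ((D119514).symm.trans (sb E52678 F206175))
theorem F301376 : act 6 n54984 = n60200 := (sb E52678 (iv6 D128097))
theorem E56829 : n184760 = n84945 := ((D184760).symm.trans (sb E52679 (iv6 D178499)))
theorem E56830 : n88942 = n70713 := ((F153340).symm.trans (sb E52680 (iv1 D150224)))
theorem E56831 : n169047 = n98484 := (((F153339).symm.trans (sb E52680 (iv7 F266235)))).symm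
theorem F301377 : act 6 n54985 = n79325 := (sb E52681 (iv6 D165097))
theorem E56832 : n175301 = n153238 := ((D175301).symm.trans (sb E52682 (iv1 F240677)))
theorem E56835 : n166286 = n38583 := ((((iv6 D83711)).symm.trans (sb E52682 (iv6 F261838)))).symm
theorem E56836 : n175304 = n60344 := ((D175304).symm.trans (sb E52682 F201127))
theorem E56837 : n144897 = n71331 := ((F227854).symm.trans (sb E52683 (iv3 D151355)))
theorem F301380 : act 0 n84043 = n84116 := (sb E52685 (iv1 F129133))
theorem F301381 : act 2 n84043 = n176334 := (sb E52685 D176334)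
theorem F301383 : act 1 n84044 = n84116 := (sb E52686 F129135)
theorem F301385 : act 7 n84044 = n176334 := (sb E52686 F275640)
theorem F301388 : act 3 n84045 = n84171 := (sb E52687 (iv3 F129206))
theorem F301392 : act 2 n84049 = n75679 := (sb E52689 F129087)
theorem E56850 : n176393 = n176231 := (((D176231).symm.trans (sb E52689 D176393))).symm
theorem F301393 : act 5 n84049 = n83073 := (sb E52689 F129089)
theorem F301394 : act 7 n84049 = n75678 := (sb E52689 F129088)
theorem F301395 : act 2 n84050 = n84173 := (sb E52690 (iv2 F129209))
theorem F301396 : act 2 n76841 = n88641 := (sb E52692 (iv2 F135894))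
theorem E56855 : n170699 = n160327 := (((D160327).symm.trans (sb E52692 (iv3 F268205)))).symm
theorem E56856 : n170701 = n160328 := (((D160328).symm.trans (sb E52692 D170701))).symm
theorem F301397 : act 5 n76841 = n37456 := (sb E52692 (iv5 D81834))
theorem F301398 : act 0 n57783 = n27672 := (sb E52693 (iv1 F91762))
theorem F301399 : act 1 n57783 = n27667 := (sb E52693 (iv0 D57999))
theorem F301400 : act 2 n57783 = n88642 := (sb E52693 (iv2 F135897))
theorem E56857 : n124392 = n124030 := ((((iv3 F198417)).symm.trans (sb E52693 D124392))).symm
theorem F301401 : act 4 n57783 = n35494 := (sb E52693 (iv4 F118684))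
theorem F301402 : act 7 n57783 = n37456 := (sb E52693 (iv7 F119058))
theorem F301403 : act 3 n47218 = n27536 := (sb E52694 F90769)
theorem E56861 : n123622 = n101474 := (((D101474).symm.trans (sb E52694 (iv5 F198031)))).symm
theorem F301404 : act 7 n47218 = n27531 := (sb E52694 (iv7 D57620))
theorem F301405 : act 2 n57638 = n122299 := (sb E52695 (iv2 F195518))
theorem E56864 : n170780 = n123646 := (((D123646).symm.trans (sb E52695 D170780))).symm
theorem E56867 : n123063 = n101477 := (((iv2 F197237)).symm.trans (sb E52696 (iv2 F184751)))
theorem F301406 : act 4 n57269 = n86713 := (sb E52696 (iv4 F132986))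
theorem F301407 : act 7 n57269 = n122298 := (sb E52696 (iv7 F195517))
theorem F301408 : act 7 n57273 = n122299 := (sb E52697 (iv7 F195519))
theorem E56871 : n123470 = n101259 := (((D101259).symm.trans (sb E52698 (iv1 F197879)))).symm
theorem E56872 : n123469 = n101260 := (((D101260).symm.trans (sb E52698 F197875))).symm
theorem E56874 : n123471 = n101262 := (((D101262).symm.trans (sb E52698 (iv7 F197878)))).symm
theorem E56875 : n170765 = n123472 := (((D123472).symm.trans (sb E52699 (iv5 F268356)))).symm
theorem F301409 : act 7 n57537 = n37483 := (sb E52699 (iv7 D81870))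
theorem E56876 : n178196 = n101481 := ((((iv3 F277375)).symm.trans (sb E52700 D178196))).symm
theorem E56878 : n178198 = n170789 := (((D170789).symm.trans (sb E52700 D178198))).symm
theorem E56881 : n170792 = n123995 := ((D170792).symm.trans (sb E52701 (iv6 F198404)))
theorem E56883 : n170798 = n123475 := (((D123475).symm.trans (sb E52702 D170798))).symm
theorem F301410 : act 7 n57538 = n37487 := (sb E52702 (iv7 D81884))
theorem E56884 : n125284 = n123496 := ((((iv3 F197911)).symm.trans (sb E52703 D125284))).symm
theorem E56885 : n125285 = n123501 := ((((iv5 F197914)).symm.trans (sb E52703 D125285))).symm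
theorem F301411 : act 1 n35130 = n27272 := (sb E52704 F117320)
theorem F301412 : act 3 n35130 = n26835 := (sb E52704 F87888)
theorem F301413 : act 5 n35130 = n27902 := (sb E52704 F87889)
theorem F301414 : act 7 n35130 = n26826 := (sb E52704 (iv7 D55577))
theorem F301415 : act 0 n81892 = n39240 := (sb E52705 (iv1 D84827))
theorem F301416 : act 4 n81892 = n121527 := (sb E52705 (iv4 F193906))
theorem E56887 : n178219 = n170812 := (((D170812).symm.trans (sb E52705 D178219))).symm
theorem F301417 : act 1 n81893 = n39240 := (sb E52706 (iv0 D84826))
theorem E56890 : n178217 = n170815 := (((D170815).symm.trans (sb E52706 D178217))).symm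
theorem F301418 : act 6 n81893 = n122583 := (sb E52706 F196318)
theorem F301419 : act 0 n57540 = n122315 := (sb E52707 (iv1 F195578))
theorem F301420 : act 1 n57540 = n122314 := (sb E52707 F195577)
theorem E56891 : n170820 = n123476 := (((D123476).symm.trans (sb E52707 (iv3 F268405)))).symm
theorem E56892 : n170825 = n123477 := (((D123477).symm.trans (sb E52707 (iv5 F268407)))).symm
theorem F301421 : act 7 n57540 = n37501 := (sb E52707 (iv7 D81896))
theorem E56894 : n174630 = n46065 := ((D174630).symm.trans (sb E52708 (iv4 D98514)))
theorem E56895 : n174623 = n170730 := ((F273487).symm.trans (sb E52708 (iv7 F268255)))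
theorem E56896 : n174393 = n128238 := ((D174393).symm.trans (sb E52709 F256826))
theorem E56897 : n174394 = n172853 := ((D174394).symm.trans (sb E52709 (iv4 F271122)))
theorem E56898 : n172852 = n119663 := ((((iv4 F188757)).symm.trans (sb E52710 (iv4 F271120)))).symm
theorem E56899 : n173302 = n128230 := ((D173302).symm.trans (sb E52714 (iv3 F256835)))
theorem F301423 : act 1 n83479 = n78143 := (sb E52717 (iv0 D162669))
theorem E56900 : n176099 = n119512 := (((E56826).symm.trans ((D173284).symm.trans (sb E52719 (iv4 F275357))))).symm
theorem F301424 : act 0 n162660 = n83465 := (sb E52724 (iv1 D174673))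
theorem F301425 : act 2 n162660 = n174606 := (sb E52724 (iv2 F273532))
theorem F301426 : act 7 n162660 = n174608 := (sb E52724 F273530)
theorem F301427 : act 1 n162663 = n83465 := (sb E52725 (iv0 D174672))
theorem F301428 : act 2 n162663 = n174608 := (sb E52725 (iv2 F273527))
theorem F301429 : act 7 n162663 = n174606 := (sb E52725 (iv7 F273528))
theorem F301430 : act 0 n16164 = n18949 := (sb E52726 F58249)
theorem F301431 : act 1 n16164 = n18939 := (sb E52726 F58250)
theorem F301432 : act 0 n16112 = n18939 := (sb E52727 (iv1 D40067))
theorem F301433 : act 1 n16112 = n18949 := (sb E52727 F60966)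
theorem E56902 : n80259 = n33360 := ((((iv3 F52595)).symm.trans (sb E52727 (iv3 F123336)))).symm
theorem E56903 : n72818 = n18937 := (((D18937).symm.trans (sb E52728 (iv1 F190533)))).symm
theorem E56904 : n73355 = n18938 := (((D18938).symm.trans (sb E52728 (iv0 F190530)))).symm
theorem E56906 : n118594 = n18940 := (((D18940).symm.trans (sb E52728 D118594))).symm
theorem E56907 : n118595 = n86486 := (((D86486).symm.trans (sb E52729 D118595))).symm
theorem E56908 : n118596 = n86487 := (((D86487).symm.trans (sb E52729 D118596))).symm
theorem F301434 : act 3 n40068 = n26408 := (sb E52729 F86299)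
theorem E56909 : n86488 = n55139 := ((D86488).symm.trans (sb E52729 (iv5 F87223)))
theorem E56910 : n86489 = n73029 := ((D86489).symm.trans (sb E52729 (iv7 F190540)))
theorem E56911 : n79417 = n62721 := ((D79417).symm.trans (sb E52730 F97838))
theorem E56912 : n118141 = n79418 := (((D79418).symm.trans (sb E52730 (iv0 F185638)))).symm
theorem F301435 : act 2 n36160 = n33153 := (sb E52730 F86302)
theorem E56913 : n79419 = n55140 := ((D79419).symm.trans (sb E52730 (iv5 F87226)))
theorem E56914 : n118599 = n79420 := (((D79420).symm.trans (sb E52730 D118599))).symm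
theorem E56917 : n171011 = n55871 := (((D55871).symm.trans (sb E52735 D171011))).symm
theorem F301436 : act 6 n26952 = n55660 := (sb E52735 F126370)
theorem F301437 : act 4 n54559 = n38196 := (sb E52737 (iv4 F113265))
theorem E56920 : n121804 = n54946 := (((F86913).symm.trans (sb E52737 D121804))).symm
theorem F301438 : act 3 n54562 = n26435 := (sb E52738 (iv3 D54656))
theorem E56921 : n118710 = n33211 := (((F86234).symm.trans (sb E52738 D118710))).symm
theorem E56930 : n130177 = n77438 := (((D77438).symm.trans (sb E52742 F208928))).symm
theorem E56931 : n149791 = n77439 := (((D77439).symm.trans (sb E52742 (iv0 F235614)))).symm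
theorem F301439 : act 4 n35356 = n33153 := (sb E52742 F108188)
theorem E56932 : n152094 = n77440 := (((D77440).symm.trans (sb E52742 D152094))).symm
theorem E56933 : n152095 = n77441 := (((D77441).symm.trans (sb E52742 D152095))).symm
theorem E56935 : n168239 = n55322 := (((F162892).symm.trans (sb E52743 D168239))).symm
theorem E56936 : n131191 = n77692 := (((iv4 F210142)).symm.trans (sb E52743 (iv4 F124251)))
theorem E56940 : n149985 = n123238 := (((iv3 F235936)).symm.trans (sb E52744 F197527))
theorem E56941 : n149990 = n77693 := ((D149990).symm.trans (sb E52744 F124243))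
theorem E56954 : n118783 = n84889 := ((F186855).symm.trans (sb E52749 F232224))
theorem E56955 : n148443 = n76619 := ((((iv2 F232569)).symm.trans (sb E52749 (iv2 F232184)))).symm
theorem F301440 : act 3 n55335 = n32307 := (sb E52749 F105843)
theorem E56956 : n120251 = n119783 := ((D120251).symm.trans (sb E52749 (iv5 F232617)))
theorem E56957 : n120252 = n32298 := ((D120252).symm.trans (sb E52749 (iv6 D69569)))
theorem E56969 : n164773 = n78251 := (((D78251).symm.trans (sb E52755 D164773))).symm
theorem E56983 : n159268 = n55878 := ((((iv3 F88383)).symm.trans (sb E52764 (iv3 F250753)))).symm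
theorem F301441 : act 6 n35736 = n55794 := (sb E52765 (iv6 D120974))
theorem E56987 : n165982 = n78420 := (((D78420).symm.trans (sb E52766 (iv6 F261390)))).symm
theorem E56988 : n173229 = n149944 := (((iv3 F271547)).symm.trans (sb E52768 (iv3 F235848)))
theorem F301442 : act 7 n88652 = n79885 := (sb E52769 F193072)
theorem F301443 : act 0 n83155 = n79800 := (sb E52770 (iv1 F194144))
theorem F301444 : act 2 n83155 = n79813 := (sb E52770 (iv2 F194145))
theorem F301445 : act 5 n83155 = n80511 := (sb E52770 F194143)
theorem F301446 : act 7 n83155 = n79812 := (sb E52770 (iv7 F194146))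
theorem E56989 : n158577 = n123148 := (((D123148).symm.trans (sb E52772 (iv3 F249759)))).symm
theorem E56990 : n171110 = n123149 := (((D123149).symm.trans (sb E52772 D171110))).symm
theorem F301447 : act 5 n57305 = n37570 := (sb E52772 (iv5 D82010))
theorem E56992 : n122757 = n120643 := ((F196631).symm.trans (sb E52773 (iv0 F195532)))
theorem F301448 : act 2 n81805 = n122357 := (sb E52773 (iv2 F195681))
theorem E56993 : n170665 = n158578 := ((D170665).symm.trans (sb E52773 (iv3 F249760)))
theorem F301449 : act 4 n81805 = n157851 := (sb E52773 (iv4 F248758))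
theorem F301450 : act 6 n81805 = n37570 := (sb E52773 (iv6 D82011))
theorem E56994 : n171115 = n123151 := ((D171115).symm.trans (sb E52774 (iv5 F253216)))
theorem F301451 : act 6 n82012 = n76833 := (sb E52774 (iv6 D160314))
theorem E56995 : n171117 = n123152 := (((D123152).symm.trans (sb E52775 D171117))).symm
theorem F301452 : act 5 n57306 = n37571 := (sb E52775 (iv5 D82013))
theorem F301453 : act 1 n27573 = n37572 := (sb E52776 (iv0 D82015))
theorem E56997 : n171119 = n57752 := ((((iv3 F90932)).symm.trans (sb E52776 D171119))).symm
theorem E56998 : n171120 = n57756 := (((D57756).symm.trans (sb E52776 D171120))).symm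
theorem F301454 : act 0 n76070 = n57299 := (sb E52778 (iv1 D123138))
theorem F301455 : act 1 n76070 = n57303 := (sb E52778 F197330)
theorem F301456 : act 2 n76070 = n57741 := (sb E52778 (iv2 F197333))
theorem F301457 : act 1 n55576 = n37424 := (sb E52779 (iv0 F121205))
theorem F301458 : act 2 n55576 = n37426 := (sb E52779 (iv2 F121129))
theorem F301459 : act 3 n55576 = n37940 := (sb E52779 F121535)
theorem F301460 : act 5 n55576 = n57252 := (sb E52779 (iv5 F91109))
theorem F301461 : act 0 n167586 = n158804 := (sb E52780 (iv1 F275796))
theorem F301462 : act 2 n167586 = n172827 := (sb E52780 F275790)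
theorem F301463 : act 5 n167586 = n84152 := (sb E52780 (iv5 D176483))
theorem F301464 : act 6 n167586 = n172820 := (sb E52780 (iv6 F275792))
theorem F301465 : act 0 n82744 = n80428 := (sb E52781 (iv1 D167587))
theorem F301466 : act 4 n83057 = n80429 := (sb E52782 (iv4 D167591))
theorem F301467 : act 4 n83058 = n80432 := (sb E52783 (iv4 D167598))
theorem F301468 : act 2 n54822 = n95834 := (sb E52784 F240563)
theorem F301469 : act 3 n54822 = n72331 := (sb E52784 (iv3 D153206))
theorem F301470 : act 3 n72621 = n70712 := (sb E52787 (iv3 D150220))
theorem E57004 : n160008 = n69775 := (((D69775).symm.trans (sb E52800 (iv3 F278893)))).symm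
theorem E57005 : n160006 = n69778 := (((D69778).symm.trans (sb E52800 F278894))).symm
theorem F301471 : act 1 n148852 = n175299 := (sb E52806 (iv0 F275643))
theorem F301472 : act 2 n167584 = n175823 := (sb E52810 F275647)
theorem F301475 : act 0 n83039 = n80436 := (sb E52817 (iv1 D167607))
theorem F301476 : act 7 n167608 = n175824 := (sb E52818 F275646)
theorem F301477 : act 5 n158592 = n80436 := (sb E52819 (iv5 D167609))
theorem F301478 : act 4 n83921 = n80437 := (sb E52820 F263867)
theorem F301479 : act 7 n83921 = n80436 := (sb E52820 (iv7 D167610))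
theorem F301480 : act 2 n167611 = n84094 := (sb E52821 F272245)
theorem F301481 : act 4 n167611 = n175825 := (sb E52821 (iv4 F275233))
theorem F301482 : act 5 n167611 = n83243 := (sb E52821 F272246)
theorem F301483 : act 4 n114560 = n95834 := (sb E52822 F252198)
theorem F301484 : act 5 n114560 = n98481 := (sb E52822 F252197)
theorem F301485 : act 2 n47004 = n72334 := (sb E52823 F240570)
theorem F301486 : act 6 n47004 = n72333 := (sb E52823 (iv6 D153209))
theorem E57007 : n96352 = n41713 := (((D41713).symm.trans (sb E52824 F191824))).symm
theorem F301487 : act 5 n57615 = n41711 := (sb E52825 (iv5 D89289))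
theorem F301488 : act 2 n89290 = n122797 := (sb E52826 (iv2 F196724))
theorem F301489 : act 4 n89290 = n153589 := (sb E52826 (iv4 F241414))
theorem E57008 : n83192 = n38019 := (((iv3 F128261)).symm.trans (sb E52827 F74249))
theorem E57009 : n83195 = n22602 := ((D83195).symm.trans (sb E52827 (iv5 D47005)))
theorem F301490 : act 1 n80125 = n37884 := (sb E52828 (iv0 D82516))
theorem F301491 : act 2 n80125 = n41712 := (sb E52828 (iv2 F270618))
theorem E57011 : n172293 = n83351 := ((((iv5 F128474)).symm.trans (sb E52828 D172293))).symm
theorem E57012 : n166906 = n101862 := ((D166906).symm.trans (sb E52828 F270617))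
theorem F301492 : act 5 n47214 = n41712 := (sb E52829 (iv5 D89295))
theorem E57013 : n172298 = n83147 := ((((iv7 F128202)).symm.trans (sb E52829 F270628))).symm
theorem F301493 : act 3 n82517 = n83148 := (sb E52830 F248306)
theorem E57014 : n119140 = n97097 := ((D119140).symm.trans (sb E52831 (iv1 F149808)))
theorem F301494 : act 1 n54824 = n44718 := (sb E52831 F134846)
theorem F301495 : act 2 n54824 = n97107 := (sb E52831 F149839)
theorem E57015 : n119142 = n40977 := ((D119142).symm.trans (sb E52831 (iv4 D87855)))
theorem E57016 : n184194 = n119132 := ((((iv6 F187456)).symm.trans (sb E52831 D184194))).symm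
theorem F301496 : act 5 n97185 = n70712 := (sb E52833 (iv5 D150221))
theorem F301497 : act 1 n80121 = n70687 := (sb E52834 (iv0 F205715))
theorem F301498 : act 3 n80121 = n60043 := (sb E52834 (iv3 D127846))
theorem F301499 : act 5 n86455 = n60043 := (sb E52835 (iv5 D127847))
theorem E57017 : n166902 = n152591 := ((D166902).symm.trans (sb E52837 (tr (iv1 F279031) E55412)))
theorem E57019 : n166904 = n85261 := ((D166904).symm.trans (sb E52837 (iv5 D178838)))
theorem E57020 : n167053 = n166905 := (((D166905).symm.trans (sb E52837 (tr (iv7 F279053) E55410)))).symm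
theorem F301500 : act 0 n162557 = n84171 := (sb E52838 (iv1 F272256))
theorem F301501 : act 1 n162557 = n83075 := (sb E52838 (iv0 D173709))
theorem F301502 : act 7 n162557 = n84169 := (sb E52838 (iv7 F275856))
theorem F301503 : act 3 n84947 = n78064 := (sb E52839 F147439)
theorem F301504 : act 4 n84947 = n88105 := (sb E52839 F147440)
theorem F301505 : act 5 n84947 = n44718 := (sb E52839 (iv5 D95744))
theorem F301506 : act 7 n84947 = n97108 := (sb E52839 (iv7 F149843))
theorem E57021 : n128199 = n119663 := ((((iv4 F188757)).symm.trans (sb E52840 (tr F256797 E54113)))).symm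
theorem F301507 : act 6 n83362 = n78064 := (sb E52840 (iv6 D162558))
theorem F301508 : act 3 n82584 = n80504 := (sb E52843 F264065)
theorem F301509 : act 2 n38795 = n80508 := (sb E52846 (iv2 F194721))
theorem F301510 : act 7 n38795 = n80507 := (sb E52846 (iv7 F194722))
theorem F301511 : act 2 n82587 = n80509 := (sb E52847 F264071)
theorem F301512 : act 2 n82588 = n80510 := (sb E52848 F264073)
theorem F301513 : act 3 n60148 = n98259 := (sb E52851 (iv3 F151628))
theorem F301514 : act 3 n71038 = n37906 := (sb E52853 F127196)
theorem E57039 : n172481 = n150670 := (((D150670).symm.trans (sb E52853 D172481))).symm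
theorem F301515 : act 3 n71039 = n37907 := (sb E52854 F127197)
theorem F301516 : act 7 n82579 = n80509 := (sb E52855 F194727)
theorem E57042 : n172512 = n150242 := ((D172512).symm.trans (sb E52857 F256962))
theorem E57043 : n172513 = n150666 := ((D172513).symm.trans (sb E52857 F256961))
theorem E57044 : n172514 = n153595 := ((D172514).symm.trans (sb E52857 F256958))
theorem E57045 : n172522 = n78201 := ((D172522).symm.trans (sb E52859 (iv5 D162739)))
theorem F301517 : act 7 n37915 = n82457 := (sb E52860 (iv7 D172185))
theorem E57050 : n122448 = n57760 := (((iv1 F195898)).symm.trans (sb E52864 F121464))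
theorem F301518 : act 2 n56772 = n37418 := (sb E52864 (iv2 F121520))
theorem E57051 : n122754 = n122462 := (((D122462).symm.trans (sb E52864 D122754))).symm
theorem E57052 : n122755 = n122463 := (((D122463).symm.trans (sb E52864 D122755))).symm
theorem F301519 : act 7 n56772 = n120386 := (sb E52864 (iv7 F191777))
theorem F301520 : act 2 n56773 = n37419 := (sb E52865 (iv2 F121521))
theorem F301521 : act 0 n8808 = n18518 := (sb E52866 F121092)
theorem F301522 : act 5 n8808 = n13191 := (sb E52866 (iv5 D27623))
theorem F301523 : act 7 n8808 = n13191 := (sb E52866 (iv7 F44523))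
theorem E57053 : n122758 = n85914 := (((D85914).symm.trans (sb E52867 D122758))).symm
theorem F301524 : act 6 n82616 = n83116 := (sb E52868 (iv6 D173820))
theorem F301531 : act 0 n35568 = n17235 := (sb E52880 (iv1 D35569))
theorem F301532 : act 2 n35568 = n55914 := (sb E52880 F91291)
theorem F301533 : act 3 n35629 = n55913 := (sb E52883 F192928)
theorem F301535 : act 7 n124436 = n76887 := (sb E52884 (iv7 F253196))
theorem F301536 : act 1 n177356 = n170241 := (sb E52885 F276765)
theorem F301537 : act 4 n159072 = n79862 := (sb E52886 (iv4 D166316))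
theorem E57057 : n133893 = n35210 := ((((iv7 F296228)).symm.trans (sb E52932 (iv7 F269928)))).symm
theorem F301539 : act 0 n37891 = n82446 := (sb E52942 (iv1 F270320))
theorem F301540 : act 1 n37891 = n82445 := (sb E52942 F270321)
theorem F301541 : act 7 n37891 = n82444 := (sb E52942 (iv7 D172146))
theorem F301542 : act 0 n37892 = n82444 := (sb E52943 (iv1 D172144))
theorem E57076 : n152244 = n82536 := (((D82536).symm.trans (sb E52943 (iv4 F270314)))).symm
theorem F301543 : act 1 n37893 = n82444 := (sb E52944 (iv0 D172143))
theorem E57077 : n98234 = n82541 := (((D82541).symm.trans (sb E52944 F270309))).symm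
theorem E57078 : n154621 = n57280 := (((D57280).symm.trans (sb E52952 F268354))).symm
theorem E57079 : n81868 = n57283 := (((D57283).symm.trans (sb E52952 (iv6 D170761)))).symm
theorem E57084 : n179785 = n57307 := (((D57307).symm.trans (sb E52954 (iv4 F280014)))).symm
theorem E57087 : n128112 = n54949 := (((D54949).symm.trans (sb E52957 (iv0 F240782)))).symm
theorem F301545 : act 4 n26576 = n28656 := (sb E52957 F94868)
theorem E57088 : n54953 = n28654 := ((D54953).symm.trans (sb E52957 (iv6 D60330)))
theorem E57090 : n128310 = n54954 := ((((iv4 F86945)).symm.trans (sb E52958 (iv4 F206434)))).symm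
theorem E57092 : n79840 = n54979 := (((D54979).symm.trans (sb E52959 F260599))).symm
theorem E57093 : n154888 = n54980 := (((D54980).symm.trans (sb E52959 F260600))).symm
theorem E57094 : n128142 = n54982 := (((D54982).symm.trans (sb E52959 (iv6 F260601)))).symm
theorem E57095 : n153966 = n84007 := (((D84007).symm.trans (sb E52963 F241984))).symm
theorem F301546 : act 6 n38692 = n78161 := (sb E52963 F194103)
theorem F301547 : act 7 n38692 = n57613 := (sb E52963 F194104)
theorem F301548 : act 2 n38694 = n79797 := (sb E52964 F194105)
theorem F301549 : act 7 n38694 = n76999 := (sb E52964 F194106)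
theorem F301550 : act 0 n34772 = n57426 := (sb E52968 F115340)
theorem F301551 : act 1 n34772 = n57551 := (sb E52968 (iv0 F115341))
theorem F301552 : act 2 n34772 = n35124 := (sb E52968 F115423)
theorem E57097 : n160283 = n76121 := (((D76121).symm.trans (sb E52968 D160283))).symm
theorem F301553 : act 7 n34772 = n35129 := (sb E52968 F115424)
theorem E57098 : n172753 = n83191 := ((D172753).symm.trans (sb E52969 (iv6 D173990)))
theorem E57099 : n98303 = n56981 := ((D98303).symm.trans (sb E52970 F196491))
theorem F301554 : act 2 n45998 = n75314 := (sb E52970 F196493)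
theorem F301555 : act 4 n45998 = n75248 := (sb E52970 F196489)
theorem E57100 : n154331 = n98305 := (((D98305).symm.trans (sb E52970 (iv5 F242421)))).symm
theorem F301556 : act 7 n45998 = n75318 := (sb E52970 F196490)
theorem F301557 : act 2 n45997 = n75315 := (sb E52971 F248864)
theorem F301558 : act 6 n45997 = n75248 := (sb E52971 (iv6 D157984))
theorem F301559 : act 2 n78215 = n75779 := (sb E52972 F248891)
theorem F301560 : act 4 n78215 = n75257 := (sb E52972 (iv4 D157996))
theorem F301561 : act 6 n78215 = n75768 := (sb E52972 F248892)
theorem F301562 : act 7 n78215 = n75788 := (sb E52972 F248893)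
theorem F301563 : act 2 n34573 = n28538 := (sb E52973 F94537)
theorem F301564 : act 4 n34573 = n28508 := (sb E52973 F94538)
theorem F301565 : act 6 n34573 = n28507 := (sb E52973 (iv6 D60034))
theorem E57102 : n73165 = n10742 := (((D10742).symm.trans (sb E52981 F241744))).symm
theorem E57103 : n73172 = n19253 := ((((iv3 F30909)).symm.trans (sb E52982 (iv3 F109653)))).symm
theorem E57104 : n19255 = n16283 := ((D19255).symm.trans (sb E52982 (iv6 D33694)))
theorem E57106 : n57680 = n45805 := (((D45805).symm.trans (sb E52984 F198230))).symm
theorem E57107 : n179655 = n45806 := (((D45806).symm.trans (sb E52984 D179655))).symm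
theorem F301566 : act 4 n21902 = n39628 := (sb E52984 F131579)
theorem F301567 : act 1 n37460 = n55467 := (sb E52985 F131583)
theorem E57111 : n123169 = n18789 := (((D18789).symm.trans (sb E52986 D123169))).symm
theorem E57112 : n72658 = n54447 := (((D54447).symm.trans (sb E52991 (iv0 F191747)))).symm
theorem E57113 : n122746 = n56736 := (((D56736).symm.trans (sb E52994 (iv4 F196607)))).symm
theorem F301568 : act 0 n27661 = n57886 := (sb E52995 (iv1 F197572))
theorem E57114 : n160351 = n57978 := (((D57978).symm.trans (sb E52995 F253265))).symm
theorem F301569 : act 7 n27661 = n57383 := (sb E52995 (iv7 D123286))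
theorem F301570 : act 1 n27662 = n57886 := (sb E52996 (iv0 F126201))
theorem F301571 : act 2 n27662 = n57383 := (sb E52996 F121525)
theorem E57115 : n162026 = n57980 := (((D57980).symm.trans (sb E52996 (iv3 F256042)))).symm
theorem E57116 : n160350 = n57981 := (((D57981).symm.trans (sb E52996 (iv5 F253260)))).symm
theorem F301572 : act 6 n27662 = n35519 := (sb E52996 (iv6 D77833))
theorem F301573 : act 0 n27664 = n57383 := (sb E52998 F253163)
theorem F301574 : act 2 n27664 = n57886 := (sb E52998 F196289)
theorem F301575 : act 0 n27668 = n35124 := (sb E52999 F121139)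
theorem F301576 : act 1 n27668 = n35129 := (sb E52999 F121140)
theorem F301577 : act 2 n27668 = n57551 := (sb E52999 F121141)
theorem F301578 : act 3 n27668 = n18624 := (sb E52999 F60209)
theorem F301579 : act 6 n27668 = n18622 := (sb E52999 (iv6 D39254))
theorem F301580 : act 7 n27668 = n57426 := (sb E52999 F121142)
theorem E57117 : n120498 = n83902 := (((D83902).symm.trans (sb E53000 (iv5 F197329)))).symm
theorem F301581 : act 6 n38640 = n57298 := (sb E53000 (iv6 D123137))
theorem E57118 : n179765 = n120499 := (((D120499).symm.trans (sb E53001 (iv4 F279990)))).symm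
theorem F301582 : act 5 n55470 = n56653 := (sb E53001 (iv5 D122338))
theorem F301583 : act 4 n39684 = n83451 := (sb E53002 F197882)
theorem F301584 : act 6 n39684 = n57537 := (sb E53002 (iv6 D123473))
theorem F301585 : act 1 n120311 = n56655 := (sb E53003 (iv0 D122339))
theorem F301586 : act 4 n120311 = n177831 := (sb E53003 (iv4 F277355))
theorem F301587 : act 0 n39685 = n55467 := (sb E53004 (iv1 F191919))
theorem E57119 : n124112 = n58501 := (((D58501).symm.trans (sb E53005 D124112))).symm
theorem E57120 : n124113 = n58502 := (((D58502).symm.trans (sb E53005 D124113))).symm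
theorem F301588 : act 6 n27839 = n57240 := (sb E53005 F133157)
theorem E57123 : n124165 = n58505 := (((D58505).symm.trans (sb E53006 D124165))).symm
theorem E57125 : n120502 = n58509 := (((D58509).symm.trans (sb E53007 F191942))).symm
theorem E57127 : n124114 = n85831 := (((D85831).symm.trans (sb E53008 D124114))).symm
theorem E57128 : n124115 = n85832 := (((D85832).symm.trans (sb E53008 D124115))).symm
theorem E57129 : n124116 = n85833 := (((D85833).symm.trans (sb E53008 D124116))).symm
theorem E57130 : n124117 = n85834 := (((D85834).symm.trans (sb E53008 D124117))).symm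
theorem E57131 : n124118 = n85835 := (((D85835).symm.trans (sb E53008 D124118))).symm
theorem F301589 : act 7 n39693 = n57819 := (sb E53008 F91124)
theorem E57132 : n120501 = n85836 := (((D85836).symm.trans (sb E53009 (iv4 F191938)))).symm
theorem F301590 : act 4 n8647 = n15991 := (sb E53015 (iv4 D33161))
theorem E57135 : n71732 = n18354 := (((D18354).symm.trans (sb E53015 D71732))).symm
theorem E57138 : n80165 = n61190 := ((D80165).symm.trans (sb E53025 F98103))
theorem F301591 : act 4 n28985 = n34530 := (sb E53026 F57347)
theorem F301592 : act 6 n28985 = n17623 := (sb E53026 (iv6 D36513))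
theorem E57140 : n132895 = n80174 := (((D80174).symm.trans (sb E53028 F213466))).symm
theorem E57141 : n150270 = n80175 := (((D80175).symm.trans (sb E53028 (iv0 F236475)))).symm
theorem F301593 : act 6 n17166 = n8071 := (sb E53029 (iv6 D17213))
theorem F301594 : act 3 n17168 = n19040 := (sb E53030 F61307)
theorem F301595 : act 5 n17168 = n35261 := (sb E53030 (iv5 F61308))
theorem F301596 : act 6 n17168 = n19037 := (sb E53030 (iv6 D40286))
theorem F301599 : act 1 n120321 = n57972 := (sb E53039 F192273)
theorem F301600 : act 3 n120321 = n183010 := (sb E53039 F284623)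
theorem F301601 : act 0 n120327 = n57972 := (sb E53040 (iv1 D124343))
theorem E57142 : n170706 = n123931 := (((D123931).symm.trans (sb E53042 D170706))).symm
theorem E57143 : n170707 = n123932 := (((D123932).symm.trans (sb E53042 D170707))).symm
theorem E57144 : n170708 = n123922 := ((((iv2 F198347)).symm.trans (sb E53042 D170708))).symm
theorem F301602 : act 4 n57735 = n86471 := (sb E53042 (iv4 F132607))
theorem F301603 : act 7 n57735 = n86692 := (sb E53042 (iv7 F132949))
theorem E57146 : n170712 = n123950 := (((D123950).symm.trans (sb E53043 D170712))).symm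
theorem E57148 : n170715 = n123975 := ((D170715).symm.trans (sb E53044 F279795))
theorem F301604 : act 1 n81841 = n55368 := (sb E53045 (iv0 D120316))
theorem F301605 : act 2 n81841 = n55469 := (sb E53045 (iv2 F191589))
theorem F301606 : act 7 n81841 = n55470 := (sb E53045 F191590)
theorem F301607 : act 1 n57761 = n39744 := (sb E53046 (iv0 F125797))
theorem F301608 : act 4 n57761 = n80353 := (sb E53046 F125795)
theorem F301609 : act 6 n57761 = n37459 := (sb E53046 (iv6 D81842))
theorem E57149 : n84665 = n73332 := ((D84665).symm.trans (sb E53048 (iv6 D154652)))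
theorem E57151 : n72876 = n9038 := (((F30824).symm.trans (sb E53049 (iv0 F240972)))).symm
theorem E57152 : n72815 = n21203 := ((((iv2 F33441)).symm.trans (sb E53049 (iv2 F109959)))).symm
theorem F301610 : act 4 n19181 = n16295 := (sb E53049 F52981)
theorem E57153 : n40615 = n16293 := ((D40615).symm.trans (sb E53049 (iv6 D33736)))
theorem E57154 : n73340 = n23316 := ((((iv7 F36427)).symm.trans (sb E53049 D73340))).symm
theorem E57155 : n98880 = n73321 := ((D98880).symm.trans (sb E53050 F242743))
theorem E57156 : n98881 = n73319 := ((D98881).symm.trans (sb E53050 (iv6 D154630)))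
theorem E57159 : n98884 = n73333 := (((D73333).symm.trans (sb E53051 D98884))).symm
theorem F301611 : act 6 n33734 = n22132 := (sb E53051 (iv6 D46277))
theorem E57160 : n98885 = n72795 := ((((iv7 F110003)).symm.trans (sb E53051 D98885))).symm
theorem F301612 : act 1 n87557 = n57491 := (sb E53053 (iv0 D123425))
theorem E57161 : n58296 = n40755 := ((((iv3 D87557)).symm.trans (sb E53053 F197797))).symm
theorem E57162 : n183422 = n149162 := ((D183422).symm.trans (sb E53053 (iv4 F234539)))
theorem E57163 : n183424 = n72965 := ((D183424).symm.trans (sb E53053 (iv6 F197798)))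
theorem E57164 : n89031 = n58290 := (((iv7 F285177)).symm.trans (sb E53053 (iv7 F197799)))
theorem F301613 : act 1 n123208 = n89033 := (sb E53054 F198856)
theorem E57165 : n183439 = n72859 := (((F197496).symm.trans (sb E53054 (iv3 F285158)))).symm
theorem E57166 : n170750 = n153811 := (((iv4 F268331)).symm.trans (sb E53054 (iv4 F241669)))
theorem F301614 : act 7 n123208 = n89030 := (sb E53054 (iv7 F285186))
theorem F301615 : act 2 n41583 = n57491 := (sb E53055 (iv2 D123427))
theorem F301616 : act 0 n123428 = n183451 := (sb E53056 F287231)
theorem F301617 : act 2 n123428 = n89032 := (sb E53056 F198857)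
theorem F301618 : act 6 n123428 = n89028 := (sb E53056 F198859)
theorem F301619 : act 1 n123028 = n89030 := (sb E53057 F198866)
theorem F301620 : act 2 n123028 = n89033 := (sb E53057 F198860)
theorem F301621 : act 6 n122307 = n57366 := (sb E53058 F197127)
theorem F301622 : act 7 n122307 = n57237 := (sb E53058 (iv7 D123021))
theorem E57167 : n86045 = n57500 := ((F195546).symm.trans (sb E53059 F197158))
theorem F301623 : act 2 n122308 = n57503 := (sb E53059 F197150)
theorem F301624 : act 7 n122308 = n57241 := (sb E53059 (iv7 D123033))
theorem E57168 : n57482 = n54399 := ((D57482).symm.trans (sb E53060 (iv1 F232414)))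
theorem E57169 : n60409 = n57483 := (((D57483).symm.trans (sb E53060 D60409))).symm
theorem E57170 : n60405 = n57477 := ((((iv2 F90651)).symm.trans (sb E53060 (iv2 F94918)))).symm
theorem F301625 : act 4 n27495 = n13671 := (sb E53060 (iv4 D28688))
theorem E57171 : n60410 = n57484 := (((D57484).symm.trans (sb E53060 D60410))).symm
theorem F301626 : act 7 n27495 = n49024 := (sb E53060 (iv7 F77368))
theorem E57173 : n86048 = n57488 := ((((iv6 F90657)).symm.trans (sb E53061 D86048))).symm
theorem F301627 : act 2 n123431 = n84671 := (sb E53062 (iv2 F198867))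
theorem F301628 : act 7 n123431 = n84672 := (sb E53062 F198868)
theorem F301632 : act 6 n123433 = n98406 := (sb E53064 F198871)
theorem F301633 : act 6 n46033 = n57493 := (sb E53065 (iv6 D123434))
theorem F301634 : act 0 n123029 = n84672 := (sb E53066 (iv1 F198874))
theorem F301635 : act 1 n123029 = n84671 := (sb E53066 F198875)
theorem F301636 : act 4 n125311 = n120280 := (sb E53067 (iv4 F277764))
theorem F301637 : act 6 n125311 = n123013 := (sb E53067 F277765)
theorem F301639 : act 3 n35328 = n26935 := (sb E53068 (iv3 D55828))
theorem E57175 : n167511 = n167445 := ((((iv1 F263595)).symm.trans (sb E53072 (iv1 F263724)))).symm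
theorem F301640 : act 4 n99986 = n55500 := (sb E53072 F191994)
theorem F301642 : act 1 n57221 = n46698 := (sb E53073 (iv0 D99987))
theorem F301644 : act 0 n57387 = n46698 := (sb E53074 (iv1 D99988))
theorem E57176 : n123287 = n46740 := ((D123287).symm.trans (sb E53076 F153931))
theorem F301650 : act 5 n57384 = n46699 := (sb E53076 F153932)
theorem F301651 : act 7 n57384 = n46698 := (sb E53076 (iv7 D99990))
theorem F301652 : act 2 n81976 = n120493 := (sb E53077 (iv2 F191932))
theorem E57178 : n177474 = n171030 := (((D171030).symm.trans (sb E53077 D177474))).symm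
theorem F301653 : act 4 n84559 = n77336 := (sb E53078 (iv4 D161120))
theorem E57180 : n177495 = n171072 := ((D177495).symm.trans (sb E53078 (iv5 F268793)))
theorem F301654 : act 6 n84559 = n124407 := (sb E53078 F254702)
theorem E57182 : n177477 = n171034 := (((D171034).symm.trans (sb E53079 D177477))).symm
theorem F301655 : act 7 n81979 = n120493 := (sb E53079 F191934)
theorem F301656 : act 4 n84560 = n77338 := (sb E53080 (iv4 D161121))
theorem E57184 : n177497 = n171073 := ((D177497).symm.trans (sb E53080 (iv5 F268794)))
theorem F301657 : act 0 n80359 = n77419 := (sb E53081 (iv1 F133153))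
theorem F301659 : act 2 n19173 = n16159 := (sb E53082 F52606)
theorem F301660 : act 4 n19173 = n16112 := (sb E53082 F52607)
theorem F301661 : act 6 n35051 = n47081 := (sb E53083 (iv6 D101060))
theorem F301663 : act 4 n120531 = n75976 := (sb E53085 F192221)
theorem F301664 : act 7 n120531 = n76073 := (sb E53085 F192222)
theorem F301665 : act 2 n120532 = n55569 := (sb E53086 F192223)
theorem F301666 : act 7 n120532 = n76074 := (sb E53086 F192224)
theorem F301667 : act 0 n120533 = n56733 := (sb E53087 F192229)
theorem F301668 : act 2 n120533 = n55570 := (sb E53087 F192227)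
theorem F301669 : act 5 n120533 = n84672 := (sb E53087 F192230)
theorem F301670 : act 0 n34765 = n57355 := (sb E53089 F192038)
theorem E57186 : n76089 = n57773 := ((D76089).symm.trans (sb E53089 F192036))
theorem F301671 : act 0 n57321 = n76081 := (sb E53090 (iv1 F195842))
theorem F301672 : act 1 n57321 = n56719 := (sb E53090 (iv0 D122395))
theorem F301673 : act 2 n39736 = n27599 := (sb E53091 F90474)
theorem E57187 : n123164 = n85905 := ((((iv3 F131804)).symm.trans (sb E53091 (iv3 F197383)))).symm
theorem F301674 : act 7 n39736 = n27618 := (sb E53091 F90475)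
theorem F301675 : act 7 n122396 = n124094 := (sb E53092 (iv7 F198493))
theorem F301676 : act 2 n57821 = n76081 := (sb E53093 F192248)
theorem F301677 : act 5 n57821 = n55566 := (sb E53093 (iv5 D120627))
theorem F301678 : act 7 n57821 = n56719 := (sb E53093 F192249)
theorem E57191 : n40377 = n33543 := ((D40377).symm.trans (sb E53095 F190089))
theorem E57192 : n40378 = n33306 := ((D40378).symm.trans (sb E53095 (iv0 D72148)))
theorem E57194 : n152894 = n40379 := (((D40379).symm.trans (sb E53095 D152894))).symm
theorem E57202 : n120447 = n47134 := (((D47134).symm.trans (sb E53099 (iv1 F236621)))).symm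
theorem E57203 : n153429 = n47042 := (((F155086).symm.trans (sb E53099 D153429))).symm
theorem E57204 : n73103 = n47136 := (((D47136).symm.trans (sb E53099 F191299))).symm
theorem E57206 : n86558 = n70521 := (((iv4 F232743)).symm.trans (sb E53102 (iv4 D149945)))
theorem E57207 : n154138 = n88054 := (((D88054).symm.trans (sb E53102 (iv5 F242211)))).symm
theorem E57208 : n120430 = n88055 := (((D88055).symm.trans (sb E53102 F235850))).symm
theorem E57209 : n86559 = n70522 := (((iv4 F232746)).symm.trans (sb E53103 (iv4 D149946)))
theorem E57211 : n153685 = n88060 := (((D88060).symm.trans (sb E53103 (iv6 F241557)))).symm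
theorem E57212 : n88061 = n57648 := ((D88061).symm.trans (sb E53104 F197980))
theorem E57213 : n88062 = n73105 := ((D88062).symm.trans (sb E53104 (iv0 F197979)))
theorem E57214 : n88064 = n73102 := ((D88064).symm.trans (sb E53104 (iv7 F198083)))
theorem F301680 : act 2 n81982 = n57598 := (sb E53107 F197227)
theorem F301681 : act 5 n81982 = n57264 := (sb E53107 F197228)
theorem F301683 : act 0 n81984 = n57598 := (sb E53109 (iv1 F197220))
theorem F301684 : act 1 n81984 = n57263 := (sb E53109 (iv0 D123056))
theorem F301686 : act 1 n54736 = n122443 := (sb E53110 D122443)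
theorem F301687 : act 3 n54736 = n27265 := (sb E53110 (iv3 D56752))
theorem E57217 : n122445 = n118937 := (((D118937).symm.trans (sb E53110 D122445))).symm
theorem E57218 : n122446 = n118938 := (((D118938).symm.trans (sb E53110 D122446))).symm
theorem F301688 : act 2 n56753 = n120386 := (sb E53111 (iv2 F191776))
theorem E57219 : n122473 = n122449 := (((D122449).symm.trans (sb E53111 D122473))).symm
theorem F301689 : act 7 n56753 = n37418 := (sb E53111 F89822)
theorem F301690 : act 0 n56754 = n120483 := (sb E53112 (iv1 F196260))
theorem F301691 : act 1 n84555 = n45858 := (sb E53113 F131810)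
theorem E57222 : n122744 = n122432 := (((iv4 F196606)).symm.trans (sb E53113 (iv4 F195869)))
theorem F301692 : act 1 n85915 = n56947 := (sb E53114 (iv0 D122623))
theorem F301693 : act 2 n85915 = n81810 := (sb E53114 (iv2 F196445))
theorem E57224 : n122743 = n122433 := (((F195873).symm.trans (sb E53114 (iv4 F196604)))).symm
theorem F301694 : act 7 n85915 = n120421 := (sb E53114 F196447)
theorem F301695 : act 1 n17655 = n36620 := (sb E53115 F57484)
theorem F301696 : act 2 n17655 = n17208 := (sb E53115 (iv2 F91327))
theorem F301697 : act 6 n17655 = n17165 := (sb E53115 (iv6 F28728))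
theorem F301698 : act 1 n17656 = n36526 := (sb E53116 (iv0 F91386))
theorem E57225 : n167503 = n167436 := (((D167436).symm.trans (sb E53117 D167503))).symm
theorem E57227 : n167505 = n167438 := (((D167438).symm.trans (sb E53117 D167505))).symm
theorem E57230 : n124162 = n39721 := (((F123439).symm.trans (sb E53118 (iv1 F198622)))).symm
theorem E57231 : n167441 = n123177 := ((D167441).symm.trans (sb E53118 (iv0 F197413)))
theorem E57232 : n167508 = n167442 := (((D167442).symm.trans (sb E53118 D167508))).symm
theorem F301699 : act 1 n57378 = n39695 := (sb E53120 F123460)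
theorem F301700 : act 2 n57378 = n39719 := (sb E53120 F123457)
theorem E57234 : n167446 = n123272 := ((((iv3 F197556)).symm.trans (sb E53120 D167446))).symm
theorem F301701 : act 4 n57378 = n36611 := (sb E53120 (iv4 D80354))
theorem F301702 : act 7 n57378 = n39720 := (sb E53120 F123458)
theorem F301703 : act 1 n98169 = n72647 := (sb E53121 F196574)
theorem F301704 : act 2 n98169 = n72649 := (sb E53121 F191759)
theorem F301705 : act 4 n98169 = n56726 := (sb E53121 F191756)
theorem F301706 : act 0 n98170 = n81813 := (sb E53123 (iv1 F195940))
theorem F301707 : act 0 n57860 = n39695 := (sb E53124 (iv1 F119032))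
theorem F301708 : act 2 n57860 = n39720 := (sb E53124 F91740)
theorem E57235 : n124363 = n124160 := (((D124160).symm.trans (sb E53124 (iv3 F198896)))).symm
theorem F301709 : act 4 n57860 = n45868 := (sb E53124 (iv4 F119029))
theorem F301710 : act 6 n57860 = n27661 := (sb E53124 (iv6 D57979))
theorem F301711 : act 7 n57860 = n39719 := (sb E53124 (iv7 F123429))
theorem F301712 : act 0 n123042 = n161507 := (sb E53126 F268394)
theorem F301713 : act 0 n122310 = n57553 := (sb E53127 (iv1 F197194))
theorem F301714 : act 1 n122310 = n57552 := (sb E53127 F197195)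
theorem F301715 : act 2 n122310 = n57556 := (sb E53127 F197192)
theorem F301716 : act 6 n122310 = n160413 := (sb E53127 (iv6 F253376))
theorem F301717 : act 7 n122310 = n57254 := (sb E53127 (iv7 D123043))
theorem F301723 : act 3 n77399 = n40288 := (sb E53130 F133219)
theorem F301725 : act 6 n77399 = n40285 := (sb E53130 (iv6 D86858))
theorem E57238 : n180099 = n123494 := (((D123494).symm.trans (sb E53138 D180099))).symm
theorem F301728 : act 4 n57554 = n39835 := (sb E53138 F131996)
theorem E57240 : n180101 = n123497 := (((D123497).symm.trans (sb E53139 D180101))).symm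
theorem E57243 : n73326 = n57471 := (((D57471).symm.trans (sb E53145 (iv4 F240717)))).symm
theorem E57245 : n125143 = n57473 := (((D57473).symm.trans (sb E53145 F236116))).symm
theorem E57247 : n69907 = n57475 := (((D57475).symm.trans (sb E53146 F233019))).symm
theorem F301729 : act 7 n123211 = n179846 := (sb E53156 (iv7 F280081))
theorem E57250 : n179843 = n58359 := ((D179843).symm.trans (sb E53157 F197370))
theorem E57251 : n179844 = n98886 := ((D179844).symm.trans (sb E53157 F197372))
theorem E57252 : n179845 = n98888 := ((D179845).symm.trans (sb E53157 (iv2 F197371)))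
theorem F301730 : act 7 n85895 = n57352 := (sb E53157 F197369)
theorem E57253 : n70602 = n57109 := ((((iv2 F90158)).symm.trans (sb E53158 (iv2 F107068)))).symm
theorem E57255 : n70665 = n57114 := (((D57114).symm.trans (sb E53158 (iv6 F107132)))).symm
theorem E57256 : n82041 = n57119 := (((D57119).symm.trans (sb E53159 D82041))).symm
theorem E57257 : n57120 = n47536 := ((D57120).symm.trans (sb E53159 F289824))
theorem F301731 : act 5 n27383 = n18033 := (sb E53159 (iv5 D37595))
theorem E57258 : n82044 = n57122 := (((D57122).symm.trans (sb E53159 D82044))).symm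
theorem E57259 : n69985 = n57854 := (((D57854).symm.trans (sb E53166 (iv0 F232659)))).symm
theorem E57260 : n125145 = n57855 := (((D57855).symm.trans (sb E53166 D125145))).symm
theorem F301732 : act 4 n27617 = n27856 := (sb E53166 F92447)
theorem E57261 : n85862 = n57857 := (((D57857).symm.trans (sb E53166 (iv6 F131718)))).symm
theorem F301733 : act 5 n123212 = n125129 := (sb E53168 F250582)
theorem E57262 : n179779 = n123989 := (((F198399).symm.trans (sb E53168 (iv7 F280009)))).symm
theorem F301734 : act 7 n85897 = n57355 := (sb E53169 F197374)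
theorem E57263 : n179870 = n123145 := (((D123145).symm.trans (sb E53170 (iv6 F280139)))).symm
theorem F301735 : act 0 n57304 = n39744 := (sb E53171 (iv1 F131809))
theorem F301736 : act 4 n57304 = n80352 := (sb E53171 F131808)
theorem E57268 : n121511 = n121430 := (((D121430).symm.trans (sb E53173 D121511))).symm
theorem E57269 : n121512 = n121431 := (((D121431).symm.trans (sb E53173 D121512))).symm
theorem F301737 : act 0 n35576 = n27058 := (sb E53174 (iv1 F88778))
theorem F301738 : act 1 n35577 = n27058 := (sb E53175 F88775)
theorem F301739 : act 3 n35577 = n27084 := (sb E53175 F91248)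
theorem F301740 : act 6 n35577 = n35419 := (sb E53175 (iv6 F91264))
theorem F301741 : act 0 n35535 = n35419 := (sb E53176 (iv1 F56261))
theorem F301742 : act 1 n35535 = n35418 := (sb E53176 F56262)
theorem F301743 : act 7 n35535 = n17238 := (sb E53176 (iv7 D35578))
theorem F301744 : act 0 n123201 = n84708 := (sb E53182 (iv1 F277195))
theorem F301745 : act 1 n123202 = n84708 := (sb E53183 F277200)
theorem F301746 : act 0 n123200 = n84707 := (sb E53184 (iv1 F277201))
theorem F301749 : act 7 n123203 = n84709 := (sb E53185 F277203)
theorem F301750 : act 7 n39125 = n57346 := (sb E53186 (iv7 D123204))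
theorem F301751 : act 2 n122696 = n84703 := (sb E53189 F269025)
theorem F301752 : act 0 n123205 = n84640 := (sb E53193 F250720)
theorem F301753 : act 2 n123205 = n84700 := (sb E53193 F250717)
theorem F301754 : act 5 n123205 = n76170 := (sb E53193 (iv5 D159225))
theorem F301755 : act 7 n123205 = n84701 := (sb E53193 F250718)
theorem F301756 : act 1 n120526 = n84640 := (sb E53194 F277204)
theorem F301757 : act 2 n120526 = n84701 := (sb E53194 (iv2 F277207))
theorem F301758 : act 7 n120526 = n84700 := (sb E53194 F277205)
theorem E57271 : n178028 = n124045 := ((((iv1 F198432)).symm.trans (sb E53195 (iv1 F277579)))).symm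
theorem E57272 : n178031 = n124048 := ((((iv0 F198433)).symm.trans (sb E53195 (iv0 F277582)))).symm
theorem F301759 : act 2 n123206 = n84702 := (sb E53195 F277208)
theorem F301760 : act 7 n123206 = n84712 := (sb E53195 F277209)
theorem F301761 : act 7 n39127 = n57349 := (sb E53196 (iv7 D123207))
theorem E57273 : n178003 = n124026 := (((D124026).symm.trans (sb E53197 D178003))).symm
theorem E57274 : n178004 = n124027 := (((D124027).symm.trans (sb E53197 D178004))).symm
theorem E57275 : n178005 = n124028 := (((D124028).symm.trans (sb E53197 D178005))).symm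
theorem F301762 : act 4 n57780 = n86520 := (sb E53197 (iv4 F132724))
theorem E57276 : n178006 = n124029 := (((D124029).symm.trans (sb E53197 D178006))).symm
theorem F301763 : act 7 n57780 = n86509 := (sb E53197 F132707)
theorem E57277 : n178007 = n124033 := (((D124033).symm.trans (sb E53198 D178007))).symm
theorem F301764 : act 7 n57782 = n86510 := (sb E53198 (iv7 F132709))
theorem F301765 : act 0 n57916 = n39169 := (sb E53199 (iv1 F129959))
theorem E57280 : n178046 = n124217 := (((D124217).symm.trans (sb E53199 D178046))).symm
theorem F301766 : act 0 n122581 = n124446 := (sb E53200 F256145)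
theorem F301767 : act 3 n122581 = n166155 := (sb E53200 (iv3 F261634))
theorem F301768 : act 5 n122581 = n178130 := (sb E53200 (iv5 F277693))
theorem F301769 : act 0 n162294 = n84807 := (sb E53201 (iv1 F277302))
theorem F301770 : act 1 n162294 = n84659 := (sb E53201 (iv0 D177801))
theorem F301771 : act 2 n162294 = n84803 := (sb E53201 F277303)
theorem F301772 : act 7 n162294 = n84804 := (sb E53201 (iv7 F277301))
theorem E57283 : n70671 = n57106 := (((D57106).symm.trans (sb E53202 D70671))).symm
theorem E57284 : n70673 = n16156 := ((((iv3 F51748)).symm.trans (sb E53203 D70673))).symm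
theorem E57285 : n70675 = n57107 := (((D57107).symm.trans (sb E53203 D70675))).symm
theorem E57286 : n70676 = n57108 := (((D57108).symm.trans (sb E53203 D70676))).symm
theorem F301773 : act 4 n27380 = n15675 := (sb E53204 F51840)
theorem F301774 : act 6 n27380 = n15674 := (sb E53204 (iv6 D32750))
theorem E57288 : n87783 = n16202 := (((D16202).symm.trans (sb E53205 (iv6 F134763)))).symm
theorem E57289 : n98855 = n72649 := (((D72649).symm.trans (sb E53208 (iv1 F154475)))).symm
theorem F301775 : act 1 n33530 = n98854 := (sb E53208 F154476)
theorem F301776 : act 7 n33530 = n46863 := (sb E53208 (iv7 D100414))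
theorem F301777 : act 5 n76751 = n46861 := (sb E53209 (iv5 D100407))
theorem E57290 : n160195 = n89023 := ((D160195).symm.trans (sb E53209 F154456))
theorem F301778 : act 0 n122649 = n177809 := (sb E53218 F285945)
theorem F301779 : act 7 n122649 = n124378 := (sb E53218 F268951)
theorem F301780 : act 5 n122650 = n124378 := (sb E53219 F250596)
theorem F301781 : act 6 n122650 = n179763 := (sb E53219 F279987)
theorem F301782 : act 5 n122651 = n102457 := (sb E53229 F290097)
theorem F301783 : act 6 n76859 = n76073 := (sb E53233 (iv6 D159135))
theorem E57291 : n160365 = n154077 := ((D160365).symm.trans (sb E53235 (iv0 F242151)))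
theorem E57293 : n167934 = n160368 := (((D160368).symm.trans (sb E53235 (iv6 F264639)))).symm
theorem F301785 : act 1 n76874 = n56733 := (sb E53237 (iv0 F192267))
theorem F301786 : act 5 n76874 = n84671 := (sb E53237 (iv5 F192265))
theorem F301787 : act 7 n76874 = n55570 := (sb E53237 (iv7 D120637))
theorem F301788 : act 0 n57986 = n56977 := (sb E53238 (iv1 D122656))
theorem E57294 : n160334 = n124388 := ((((iv4 F198920)).symm.trans (sb E53238 F253256))).symm
theorem F301789 : act 0 n122657 = n186084 := (sb E53239 (iv1 F288748))
theorem F301790 : act 7 n122657 = n124379 := (sb E53239 F268975)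
theorem F301791 : act 5 n57983 = n56978 := (sb E53240 F196519)
theorem F301792 : act 7 n57983 = n56977 := (sb E53240 (iv7 D122658))
theorem F301793 : act 0 n35299 = n36504 := (sb E53241 (iv1 D80154))
theorem E57295 : n98327 = n76659 := ((D98327).symm.trans (sb E53242 F147086))
theorem E57296 : n98328 = n56989 := ((D98328).symm.trans (sb E53242 F147087))
theorem E57297 : n98329 = n44590 := ((D98329).symm.trans (sb E53242 (iv4 D95448)))
theorem F301794 : act 0 n100066 = n70374 := (sb E53244 F196496)
theorem F301795 : act 1 n100066 = n57103 := (sb E53244 F196497)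
theorem F301796 : act 2 n100066 = n72426 := (sb E53244 (iv2 F196528))
theorem F301797 : act 4 n100066 = n150449 := (sb E53244 (iv4 F236880))
theorem F301798 : act 5 n100066 = n100791 := (sb E53244 F196495)
theorem F301799 : act 5 n46995 = n46726 := (sb E53245 F154012)
theorem E57298 : n174786 = n98976 := ((D174786).symm.trans (sb E53248 F286928))
theorem E57299 : n174787 = n46731 := ((D174787).symm.trans (sb E53248 F286929))
theorem E57300 : n179775 = n174788 := (((D174788).symm.trans (sb E53248 F286931))).symm
theorem E57301 : n175575 = n77602 := (((F147099).symm.trans (sb E53249 F287026))).symm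
theorem F301800 : act 6 n95455 = n89577 := (sb E53249 (iv6 F287027))
theorem E57302 : n77603 = n46073 := ((F146965).symm.trans (sb E53250 (iv5 D98547)))
theorem F301801 : act 1 n122636 = n89529 := (sb E53252 (iv0 F287077))
theorem F301802 : act 5 n122636 = n179777 := (sb E53252 (iv5 F280006))
theorem F301803 : act 0 n100107 = n174789 := (sb E53253 (iv1 F273617))
theorem F301804 : act 1 n100107 = n56966 := (sb E53253 (iv0 D122637))
theorem F301805 : act 0 n99307 = n56966 := (sb E53254 (iv1 D122638))
theorem F301806 : act 1 n99307 = n174789 := (sb E53254 F273616)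
theorem F301807 : act 5 n85867 = n56966 := (sb E53255 (iv5 D122639))
theorem F301808 : act 2 n100106 = n174789 := (sb E53256 (iv2 F273612))
theorem F301809 : act 3 n100106 = n55486 := (sb E53256 (iv3 D120514))
theorem F301810 : act 4 n100106 = n77437 := (sb E53256 F191978)
theorem F301811 : act 6 n100106 = n160343 := (sb E53256 (iv6 F253250))
theorem F301812 : act 7 n100106 = n56966 := (sb E53256 F191979)
theorem F301813 : act 6 n122641 = n102468 := (sb E53260 (iv6 F290075))
theorem F301814 : act 5 n85869 = n56967 := (sb E53261 (iv5 D122642))
theorem F301815 : act 5 n122643 = n179783 := (sb E53262 (iv5 F280011))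
theorem F301816 : act 0 n120320 = n179738 := (sb E53263 (iv1 F279964))
theorem F301817 : act 4 n120320 = n55585 := (sb E53263 F192268)
theorem F301818 : act 5 n120320 = n183010 := (sb E53263 (iv5 F284621))
theorem F301819 : act 6 n120320 = n167836 := (sb E53263 (iv6 F264399))
theorem F301820 : act 0 n120322 = n56729 := (sb E53264 F192276)
theorem F301821 : act 3 n120322 = n167836 := (sb E53264 (iv3 F264398))
theorem F301822 : act 5 n120322 = n84701 := (sb E53264 F192277)
theorem F301823 : act 7 n120322 = n76170 := (sb E53264 F192275)
theorem F301825 : act 0 n57826 = n39716 := (sb E53267 (iv1 F92418))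
theorem F301826 : act 2 n57826 = n27842 := (sb E53267 F92416)
theorem E57303 : n125108 = n124105 := (((D124105).symm.trans (sb E53267 D125108))).symm
theorem F301827 : act 7 n57826 = n39694 := (sb E53267 F92417)
theorem F301828 : act 5 n58508 = n55486 := (sb E53269 (iv5 D120515))
theorem F301829 : act 0 n55462 = n39685 := (sb E53270 (iv1 F125798))
theorem F301830 : act 1 n55462 = n37460 := (sb E53270 (iv0 D81843))
theorem E57306 : n170720 = n120479 := (((D120479).symm.trans (sb E53270 D170720))).symm
theorem F301831 : act 0 n55463 = n84790 := (sb E53271 (iv1 F277651))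
theorem F301832 : act 0 n160268 = n122459 := (sb E53272 (iv1 F286396))
theorem F301833 : act 7 n160268 = n87975 := (sb E53272 (iv7 D184477))
theorem F301834 : act 3 n70618 = n76809 := (sb E53273 F238682)
theorem E57308 : n150082 = n76676 := ((D150082).symm.trans (sb E53273 F238683))
theorem E57309 : n182044 = n123101 := (((D123101).symm.trans (sb E53274 F286380))).symm
theorem F301835 : act 4 n124385 = n76813 := (sb E53276 (iv4 D160279))
theorem E57310 : n33676 = n19633 := (((D19633).symm.trans (sb E53278 F87727))).symm
theorem F301836 : act 4 n13604 = n19624 := (sb E53279 F64337)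
theorem E57311 : n85603 = n6477 := ((((iv5 D13604)).symm.trans (sb E53279 (iv5 F297865)))).symm
theorem F301837 : act 6 n13604 = n19623 := (sb E53279 (iv6 D41687))
theorem E57314 : n89228 = n28581 := ((((iv4 F46156)).symm.trans (sb E53280 D89228))).symm
theorem F301838 : act 5 n16278 = n19624 := (sb E53280 (iv5 D41690))
theorem E57315 : n33677 = n19627 := ((D33677).symm.trans (sb E53280 F64339))
theorem F301839 : act 0 n55444 = n88817 := (sb E53281 (iv1 F286474))
theorem F301840 : act 1 n55444 = n88816 := (sb E53281 F286475)
theorem E57316 : n181940 = n120427 := (((D120427).symm.trans (sb E53281 F286472))).symm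
theorem E57317 : n181963 = n120428 := (((D120428).symm.trans (sb E53283 (iv5 F283252)))).symm
theorem F301841 : act 7 n55445 = n40317 := (sb E53283 (iv7 D86907))
theorem E57320 : n184727 = n120429 := (((D120429).symm.trans (sb E53286 F287198))).symm
theorem E57332 : n89299 = n57641 := ((((iv3 F90783)).symm.trans (sb E53290 F287317))).symm
theorem E57333 : n88151 = n13167 := ((((iv5 D27539)).symm.trans (sb E53290 (iv5 D184901)))).symm
theorem E57335 : n120440 = n89318 := ((D120440).symm.trans (sb E53292 F286658))
theorem E57336 : n120441 = n98098 := ((D120441).symm.trans (sb E53292 F286659))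
theorem E57337 : n182109 = n120442 := (((D120442).symm.trans (sb E53292 F286660))).symm
theorem E57338 : n120446 = n98099 := ((D120446).symm.trans (sb E53293 F155922))
theorem E57339 : n120448 = n88084 := ((D120448).symm.trans (sb E53294 (iv1 F286765)))
theorem E57340 : n120449 = n88079 := ((D120449).symm.trans (sb E53294 (iv0 D184716)))
theorem E57342 : n120505 = n85870 := ((D120505).symm.trans (sb E53296 (iv7 F250625)))
theorem F301842 : act 1 n55472 = n81841 := (sb E53297 F268226)
theorem F301843 : act 2 n75006 = n88816 := (sb E53298 (iv2 D186468))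
theorem F301844 : act 7 n75006 = n88817 := (sb E53298 (iv7 F289331))
theorem F301845 : act 5 n71446 = n88816 := (sb E53299 (iv5 D186471))
theorem F301846 : act 2 n75007 = n88817 := (sb E53300 F289335)
theorem F301847 : act 7 n75007 = n88816 := (sb E53300 (iv7 D186473))
theorem F301848 : act 3 n77726 = n81775 := (sb E53302 F268036)
theorem E57350 : n177359 = n177350 := (((D177350).symm.trans (sb E53304 (iv2 F276747)))).symm
theorem F301852 : act 6 n84487 = n38975 := (sb E53304 (iv6 D84502))
theorem F301855 : act 0 n78279 = n81639 := (sb E53306 (iv1 F250711))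
theorem F301856 : act 1 n78279 = n76161 := (sb E53306 (iv0 D159213))
theorem F301858 : act 1 n159118 = n86446 := (sb E53307 (iv0 D181002))
theorem F301859 : act 2 n159118 = n86530 := (sb E53307 (iv2 F281828))
theorem F301860 : act 0 n179467 = n86460 := (sb E53308 (iv1 F279564))
theorem F301862 : act 3 n179467 = n85668 := (sb E53308 (iv3 D179542))
theorem F301863 : act 7 n179467 = n86458 := (sb E53308 F279563)
theorem F301864 : act 1 n179466 = n86458 := (sb E53309 (iv0 D181025))
theorem F301865 : act 0 n179465 = n86458 := (sb E53310 (iv1 D181026))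
theorem F301866 : act 7 n159087 = n86461 := (sb E53311 (iv7 D181041))
theorem F301869 : act 2 n120651 = n86657 := (sb E53315 F281905)
theorem F301883 : act 4 n179674 = n98935 := (sb E53319 F281924)
theorem E57353 : n183397 = n117968 := (((F279875).symm.trans (sb E53319 (iv6 F285119)))).symm
theorem E57354 : n179674 = n133669 := (((F215086).symm.trans (iv7 (sb E53319 (tr F281927 E56051))))).symm
theorem E57356 : n164940 = n48983 := (((D48983).symm.trans (sb E53321 F260064))).symm
theorem E57360 : n154890 = n49012 := (((D49012).symm.trans (sb E53322 F260639))).symm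
theorem E57361 : n165510 = n49013 := (((D49013).symm.trans (sb E53322 D165510))).symm
theorem F301885 : act 6 n23912 = n165517 := (sb E53323 D165517)
theorem F301886 : act 1 n23917 = n26905 := (sb E53329 (iv0 D55735))
theorem E57404 : n165547 = n39856 := (((D39856).symm.trans (sb E53337 D165547))).symm
theorem F301887 : act 3 n106022 = n58131 := (sb E53341 F199215)
theorem F301888 : act 7 n124550 = n86673 := (sb E53342 F282638)
theorem E57408 : n181385 = n76737 := (((iv3 F282486)).symm.trans (sb E53344 F242015))
theorem F301890 : act 0 n164583 = n86515 := (sb E53345 (iv1 D181158))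
theorem F301892 : act 7 n164583 = n183395 := (sb E53345 (iv7 F285113))
theorem F301893 : act 6 n170104 = n86714 := (sb E53346 (iv6 D181687))
theorem F301894 : act 1 n124624 = n78616 := (sb E53347 (iv0 D163627))
theorem F301895 : act 0 n124520 = n78616 := (sb E53348 (iv1 D163628))
theorem F301896 : act 2 n177207 = n167673 := (sb E53349 F282632)
theorem F301898 : act 3 n35663 = n36829 := (sb E53350 (iv3 D80693))
theorem F301899 : act 1 n76023 = n121941 := (sb E53351 F281571)
theorem E57412 : n77288 = n11184 := ((((iv5 D23869)).symm.trans (sb E53352 D77288))).symm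
theorem F301900 : act 6 n23869 = n17124 := (sb E53352 (iv6 D35279))
theorem E57413 : n70766 = n11187 := (((D11187).symm.trans (sb E53354 F236517))).symm
theorem F301901 : act 1 n26829 = n36099 := (sb E53356 (iv0 D79303))
theorem F301902 : act 0 n26843 = n36099 := (sb E53359 (iv1 D79304))
theorem E57425 : n149914 = n33089 := (((F232391).symm.trans (sb E53364 (iv0 F235800)))).symm
theorem E57426 : n151723 = n33087 := ((((iv2 F232463)).symm.trans (sb E53364 (iv2 F238597)))).symm
theorem F301903 : act 4 n16801 = n34391 := (sb E53364 F112598)
theorem E57431 : n85604 = n14103 := (((F54231).symm.trans (iv7 (sb E53367 (tr (iv7 D150297) E57413))))).symm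
theorem E57432 : n161052 = n7711 := (E53368).trans E54994
theorem E57433 : n158608 = n6720 := (((F26545).symm.trans (sb E57432 F254588))).symm
theorem E57434 : n161054 = n11450 := (E53370).trans E54991
theorem E57435 : n151740 = n11493 := ((((iv4 F18784)).symm.trans (sb E57434 F254589))).symm
theorem E57437 : n71111 = n11493 := (((iv2 F109861)).symm.trans (sb E53371 (tr F238637 E57435)))
theorem F301907 : act 5 n85607 = n167692 := (sb E53379 (iv5 F263965))
theorem E57439 : n86370 = n72349 := (((F190790).symm.trans (sb E53382 (iv2 F132390)))).symm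
theorem E57440 : n127923 = n96752 := (((iv4 F205850)).symm.trans (sb E53382 (iv4 F149219)))
theorem F301916 : act 1 n34336 = n29734 := (sb E53383 (iv0 D62830))
theorem E57441 : n74701 = n32726 := (((F54492).symm.trans (sb E53383 (iv2 F112463)))).symm
theorem E57442 : n133791 = n54769 := ((((iv3 F86642)).symm.trans (sb E53383 D133791))).symm
theorem F301917 : act 4 n34336 = n49813 := (sb E53383 F112468)
theorem E57444 : n117766 = n24384 := (((F54493).symm.trans (sb E53383 (iv6 F184441)))).symm
theorem E57445 : n147047 = n117767 := ((((iv6 F184445)).symm.trans (sb E53384 F235579))).symm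
theorem E57446 : n73294 = n17919 := ((((iv1 D37297)).symm.trans (sb E53385 (iv1 F190794)))).symm
theorem E57447 : n72398 = n45190 := (((F71223).symm.trans (sb E53385 F190796))).symm
theorem E57448 : n68948 = n54249 := (((iv5 F105115)).symm.trans (sb E53385 (iv5 D117764)))
theorem F301918 : act 6 n37297 = n72396 := (sb E53385 (iv6 F190792))
theorem E57449 : n69162 = n45189 := ((((iv7 F71215)).symm.trans (sb E53385 (iv7 F190440)))).symm
theorem F301919 : act 2 n89258 = n120200 := (sb E53387 F287088)
theorem F301920 : act 6 n89258 = n155195 := (sb E53387 (iv6 F244041))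
theorem E57450 : n120200 = n61735 := (((D61735).symm.trans (sb E55071 F287090))).symm
theorem E57451 : n175252 = n81651 := (((F151561).symm.trans (sb E53389 (iv0 F274281)))).symm
theorem F301921 : act 6 n98221 = n119112 := (sb E53389 F274034)
theorem E57452 : n148924 = n148910 := (((iv3 F234000)).symm.trans (sb E53390 (iv3 F233979)))
theorem F301922 : act 5 n123379 = n69682 := (sb E53390 (iv5 D148684))
theorem E57454 : n158402 = n29524 := (((F47350).symm.trans (sb E53392 D158402))).symm
theorem E57456 : n82711 = n61794 := (((D61794).symm.trans (sb E53393 F127482))).symm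
theorem E57457 : n82717 = n61795 := (((D61795).symm.trans (sb E53393 (iv0 F127485)))).symm
theorem E57458 : n158136 = n61793 := (E54023).trans E55836
theorem E57459 : n61726 = n37971 := (((iv4 F96322)).symm.trans (sb E53393 F113256))
theorem F301923 : act 5 n29288 = n34531 := (sb E53393 (iv5 D75461))
theorem E57470 : n133112 = n46186 := (((D46186).symm.trans (sb E53396 (iv1 F215661)))).symm
theorem E57471 : n133904 = n46187 := (((D46187).symm.trans (sb E53396 D133904))).symm
theorem E57472 : n133905 = n46188 := (((D46188).symm.trans (sb E53396 D133905))).symm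
theorem E57479 : n149962 = n61197 := ((D149962).symm.trans (sb E53405 (iv6 D130428)))
theorem E57480 : n166838 = n133154 := ((D166838).symm.trans (sb E53406 F213904))
theorem E57481 : n153234 = n130069 := ((F296791).symm.trans (sb E53407 F211070))
theorem F301924 : act 4 n80082 = n71740 := (sb E53408 F211072)
theorem E57482 : n133916 = n77617 := ((((iv6 F298378)).symm.trans (sb E53408 (iv6 F215695)))).symm
theorem E57483 : n133914 = n77614 := (((D77614).symm.trans (sb E53409 D133914))).symm
theorem E57484 : n133129 = n77615 := (((D77615).symm.trans (sb E53409 F213825))).symm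
theorem E57485 : n133915 = n77616 := (((D77616).symm.trans (sb E53409 D133915))).symm
theorem F301926 : act 3 n121443 = n82445 := (sb E53410 (iv3 D172148))
theorem F301927 : act 4 n81787 = n170060 := (sb E53413 F281553)
theorem F301928 : act 4 n81789 = n170062 := (sb E53415 F281560)
theorem E57486 : n150517 = n48971 := ((F267948).symm.trans (sb E53418 F162664))
theorem E57487 : n170562 = n48969 := ((D170562).symm.trans (sb E53418 (iv6 D105917)))
theorem F301929 : act 7 n81761 = n167345 := (sb E53420 F281581)
theorem F301930 : act 2 n167881 = n81743 := (sb E53430 F267501)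
theorem F301931 : act 4 n167881 = n81559 := (sb E53430 (iv4 D170052))
theorem F301932 : act 7 n167881 = n81740 := (sb E53430 F267503)
theorem F301933 : act 2 n167897 = n81740 := (sb E53431 F267495)
theorem F301934 : act 7 n167897 = n81743 := (sb E53431 F267496)
theorem F301935 : act 0 n150626 = n81717 := (sb E53434 (iv1 F267488))
theorem F301936 : act 1 n150626 = n81716 := (sb E53434 F267486)
theorem F301937 : act 2 n150626 = n81555 := (sb E53434 (iv2 D170044))
theorem F301938 : act 4 n150626 = n82584 := (sb E53434 F267484)
theorem F301939 : act 7 n150626 = n81718 := (sb E53434 F267485)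
theorem F301940 : act 5 n170046 = n167897 := (sb E53437 F281606)
theorem F301941 : act 3 n80567 = n81718 := (sb E53446 F267463)
theorem F301942 : act 2 n80572 = n81723 := (sb E53449 F267478)
theorem F301943 : act 7 n80572 = n81734 := (sb E53449 F267479)
theorem F301944 : act 2 n80573 = n81724 := (sb E53450 F267480)
theorem F301945 : act 6 n17207 = n27061 := (sb E53452 (iv6 D56141))
theorem E57498 : n121531 = n75535 := ((((iv2 F184698)).symm.trans (sb E53455 (iv2 F273116)))).symm
theorem E57500 : n161416 = n83782 := (((D83782).symm.trans (sb E53455 F273119))).symm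
theorem E57501 : n83491 = n75536 := ((((iv7 F184697)).symm.trans (sb E53455 F273120))).symm
theorem E57502 : n118446 = n83784 := (((D83784).symm.trans (sb E53456 (iv3 F186269)))).symm
theorem E57503 : n33657 = n22716 := ((((iv4 F184686)).symm.trans (sb E53456 F109572))).symm
theorem E57504 : n154187 = n83786 := (((D83786).symm.trans (sb E53456 D154187))).symm
theorem E57505 : n121533 = n83791 := (((D83791).symm.trans (sb E53458 F273128))).symm
theorem F301946 : act 3 n38605 = n27057 := (sb E53459 (iv3 D56126))
theorem E57506 : n161513 = n119689 := ((D161513).symm.trans (sb E53460 (iv1 F273079)))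
theorem F301947 : act 7 n77548 = n83302 := (sb E53460 (iv7 D174283))
theorem F301948 : act 2 n77550 = n83331 := (sb E53461 (iv2 F263649))
theorem F301949 : act 7 n77550 = n83303 := (sb E53461 F263647)
theorem F301950 : act 5 n77557 = n77373 := (sb E53462 (iv5 D161172))
theorem E57508 : n161540 = n121536 := (((D121536).symm.trans (sb E53466 D161540))).symm
theorem F301951 : act 7 n56127 = n35406 := (sb E53466 (iv7 D77560))
theorem F301952 : act 3 n77595 = n35802 := (sb E53467 F119173)
theorem F301953 : act 5 n77595 = n35568 := (sb E53467 (iv5 D77962))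
theorem E57509 : n161563 = n121539 := (((D121539).symm.trans (sb E53469 (iv3 F255558)))).symm
theorem F301957 : act 6 n56129 = n77395 := (sb E53469 F116493)
theorem E57514 : n177781 = n124025 := (((D124025).symm.trans (sb E53471 D177781))).symm
theorem E57515 : n177782 = n124024 := ((((iv6 F198414)).symm.trans (sb E53471 D177782))).symm
theorem E57516 : n124394 = n33689 := ((D124394).symm.trans (sb E53473 (iv1 D73163)))
theorem E57518 : n153842 = n124396 := (((D124396).symm.trans (sb E53473 F241708))).symm
theorem E57519 : n154452 = n124397 := (((D124397).symm.trans (sb E53473 D154452))).symm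
theorem E57520 : n124398 = n81809 := ((D124398).symm.trans (sb E53473 F190627))
theorem F301960 : act 0 n58002 = n76834 := (sb E53474 (iv1 D160316))
theorem F301961 : act 2 n37422 = n39744 := (sb E53475 F117423)
theorem F301962 : act 6 n37422 = n27667 := (sb E53475 (iv6 D58003))
theorem F301963 : act 1 n58020 = n76834 := (sb E53476 (iv0 D160315))
theorem F301964 : act 1 n76844 = n88641 := (sb E53477 F250656)
theorem E57521 : n101230 = n75031 := (((F115374).symm.trans (sb E53477 (iv3 F286969)))).symm
theorem E57522 : n160337 = n124384 := (((iv4 F253233)).symm.trans (sb E53477 F250657))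
theorem E57523 : n174784 = n160330 := (((D160330).symm.trans (sb E53478 (iv3 F273604)))).symm
theorem F301965 : act 5 n76842 = n88642 := (sb E53478 F269087)
theorem F301966 : act 7 n76842 = n88641 := (sb E53478 F269086)
theorem F301967 : act 1 n77789 = n160286 := (sb E53479 (iv0 F253167))
theorem F301968 : act 6 n77789 = n57553 := (sb E53479 (iv6 D123491))
theorem F301969 : act 3 n123278 = n57383 := (sb E53480 F197569)
theorem F301970 : act 6 n123278 = n57380 := (sb E53480 (iv6 D123280))
theorem E57524 : n72793 = n69982 := (((D69982).symm.trans (sb E53483 F197755))).symm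
theorem F301971 : act 5 n124322 = n76858 := (sb E53490 (iv5 D160344))
theorem F301972 : act 0 n124184 = n57984 := (sb E53492 (iv1 F198815))
theorem F301973 : act 1 n124184 = n57983 := (sb E53492 F198820)
theorem F301974 : act 2 n124184 = n57986 := (sb E53492 F198812)
theorem F301975 : act 7 n124184 = n57955 := (sb E53492 (iv7 D124324))
theorem F301976 : act 0 n124179 = n174827 := (sb E53493 F273704)
theorem F301977 : act 4 n124179 = n84347 := (sb E53493 F198801)
theorem F301978 : act 7 n124179 = n57953 := (sb E53493 (iv7 D124319))
theorem E57526 : n123258 = n82039 := (((D82039).symm.trans (sb E53503 (iv5 F197550)))).symm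
theorem F301979 : act 3 n106076 = n57503 := (sb E53508 F197790)
theorem F301980 : act 1 n106077 = n72971 := (sb E53509 (iv0 F197055))
theorem F301981 : act 3 n106077 = n57222 := (sb E53509 F197052)
theorem F301982 : act 5 n123031 = n98170 := (sb E53510 F201461)
theorem F301983 : act 5 n123455 = n171141 := (sb E53513 (iv5 F268873))
theorem E57529 : n176105 = n72861 := (((F241982).symm.trans (sb E53514 F275361))).symm
theorem F301984 : act 3 n46077 = n57498 := (sb E53523 F197818)
theorem F301985 : act 0 n170793 = n84819 := (sb E53524 (iv1 D178200))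
theorem F301989 : act 7 n123442 = n98460 := (sb E53526 F277378)
theorem F301990 : act 1 n57636 = n122299 := (sb E53527 F195929)
theorem F301991 : act 5 n57636 = n56773 := (sb E53527 (iv5 D122466))
theorem F301992 : act 1 n47213 = n27531 := (sb E53528 (iv0 D57617))
theorem F301993 : act 0 n47221 = n27531 := (sb E53529 (iv1 D57618))
theorem F301994 : act 2 n47219 = n27531 := (sb E53530 F90752)
theorem E57541 : n123594 = n101479 := (((D101479).symm.trans (sb E53530 D123594))).symm
theorem E57542 : n101480 = n27528 := ((D101480).symm.trans (sb E53530 (iv6 D57610)))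
theorem F301995 : act 4 n170808 = n166088 := (sb E53534 F277766)
theorem F301996 : act 5 n123498 = n86083 := (sb E53536 F280489)
theorem F301997 : act 7 n123498 = n161507 := (sb E53536 F280488)
theorem F301998 : act 0 n122344 = n56983 := (sb E53537 (iv1 D122671))
theorem F301999 : act 4 n122344 = n151799 := (sb E53537 F238720)
theorem F302000 : act 1 n122345 = n56983 := (sb E53538 (iv0 D122670))
theorem F302001 : act 4 n122345 = n151798 := (sb E53538 (iv4 F238719))
theorem F302002 : act 0 n118169 = n56986 := (sb E53539 (iv1 F196538))
theorem F302003 : act 1 n118169 = n56985 := (sb E53539 F196539)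
theorem F302004 : act 7 n118169 = n56983 := (sb E53539 (iv7 D122673))
theorem F302005 : act 7 n122346 = n56987 := (sb E53540 (iv7 D122691))
theorem F302006 : act 1 n120382 = n56669 := (sb E53541 (iv0 D122348))
theorem F302007 : act 0 n120381 = n56669 := (sb E53542 (iv1 D122349))
theorem F302008 : act 0 n122350 = n170658 := (sb E53543 (iv1 F268124))
theorem F302009 : act 1 n122350 = n170671 := (sb E53543 (iv0 F268154))
theorem E57543 : n122436 = n120383 := (((iv5 F195877)).symm.trans (sb E53543 F196613))
theorem F302010 : act 0 n9064 = n16159 := (sb E53548 (iv1 D33453))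
theorem E57545 : n72474 = n19279 := (((D19279).symm.trans (sb E53548 D72474))).symm
theorem F302011 : act 4 n19171 = n16164 := (sb E53552 F52743)
theorem E57547 : n72137 = n40594 := (((D40594).symm.trans (sb E53552 (iv6 F190111)))).symm
theorem F302012 : act 7 n19171 = n16159 := (sb E53552 (iv7 D33455))
theorem E57551 : n87781 = n72480 := (((F108999).symm.trans (sb E53554 D87781))).symm
theorem F302013 : act 3 n33535 = n46863 := (sb E53554 (iv3 F74074))
theorem E57552 : n87782 = n72670 := ((((iv5 F109185)).symm.trans (sb E53554 D87782))).symm
theorem F302014 : act 6 n33535 = n19278 := (sb E53554 (iv6 D40901))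
theorem F302015 : act 3 n70694 = n46862 := (sb E53555 (iv3 D100409))
theorem E57553 : n150200 = n76678 := ((D150200).symm.trans (sb E53555 F154463))
theorem F302016 : act 3 n100410 = n72599 := (sb E53556 F241324)
theorem F302017 : act 7 n100410 = n72594 := (sb E53556 (iv7 D153536))
theorem F302019 : act 0 n98169 = n46863 := (sb E53558 (iv1 D100412))
theorem F302020 : act 7 n100413 = n72651 := (sb E53560 (iv7 D153637))
theorem F302021 : act 0 n33446 = n45910 := (sb E53561 (iv1 F72501))
theorem F302022 : act 2 n33446 = n46859 := (sb E53561 (iv2 F74063))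
theorem E57554 : n72454 = n21268 := ((D72454).symm.trans (sb E53561 F62001))
theorem E57556 : n154664 = n19272 := (((D19272).symm.trans (sb E53564 (iv6 F242811)))).symm
theorem F302023 : act 1 n72964 = n82020 := (sb E53565 (iv0 D171135))
theorem E57558 : n87900 = n33636 := (((F109472).symm.trans (sb E53565 F286686))).symm
theorem F302024 : act 0 n77832 = n76169 := (sb E53566 F198912)
theorem F302025 : act 1 n77832 = n81986 := (sb E53566 (iv0 F198913))
theorem F302027 : act 1 n123002 = n76169 := (sb E53567 (iv0 D159222))
theorem F302028 : act 1 n171053 = n84553 := (sb E53568 (iv0 D177479))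
theorem F302029 : act 2 n34796 = n55500 := (sb E53569 F191623)
theorem F302030 : act 5 n34796 = n56903 := (sb E53569 F191624)
theorem F302031 : act 7 n34796 = n55374 := (sb E53569 (iv7 D120325))
theorem F302032 : act 0 n159223 = n84553 := (sb E53570 (iv1 D177480))
theorem F302033 : act 1 n57386 = n81983 := (sb E53573 (iv0 D171044))
theorem F302034 : act 1 n123058 = n82024 := (sb E53575 (iv0 D171142))
theorem F302036 : act 0 n123575 = n82024 := (sb E53576 (iv1 D171143))
theorem F302041 : act 4 n159227 = n120261 := (sb E53579 F276932)
theorem E57559 : n178118 = n123311 := (((D123311).symm.trans (sb E53581 (iv3 F277670)))).symm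
theorem F302042 : act 6 n57408 = n39182 := (sb E53581 (iv6 D84789))
theorem F302043 : act 6 n124264 = n76189 := (sb E53583 (iv6 D159248))
theorem F302045 : act 1 n171056 = n123333 := (sb E53584 F276937)
theorem F302046 : act 0 n159230 = n123333 := (sb E53585 F276943)
theorem E57563 : n152311 = n75323 := (((D75323).symm.trans (sb E53588 F259299))).symm
theorem F302048 : act 2 n77621 = n77443 := (sb E53590 F123135)
theorem E57566 : n167031 = n161608 := (((D161608).symm.trans (sb E53590 (iv3 F263036)))).symm
theorem F302049 : act 5 n77621 = n36518 := (sb E53590 (iv5 D80179))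
theorem E57568 : n167035 = n161610 := (((D161610).symm.trans (sb E53590 D167035))).symm
theorem F302050 : act 7 n77621 = n75744 := (sb E53590 F123136)
theorem F302051 : act 0 n80180 = n36618 := (sb E53591 (iv1 D80371))
theorem E57569 : n166993 = n166982 := ((F262946).symm.trans (sb E53591 F262910))
theorem E57570 : n167485 = n167032 := ((((iv3 F263038)).symm.trans (sb E53591 D167485))).symm
theorem F302052 : act 7 n80180 = n77373 := (sb E53591 F123478)
theorem F302053 : act 2 n77622 = n75744 := (sb E53592 F123140)
theorem F302054 : act 5 n77622 = n36519 := (sb E53592 (iv5 D80182))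
theorem F302055 : act 7 n77622 = n77443 := (sb E53592 F123141)
theorem F302057 : act 0 n80155 = n36526 := (sb E53594 (iv1 F123088))
theorem E57576 : n179788 = n57776 := (((iv1 F280020)).symm.trans (sb E53595 (iv1 F197358)))
theorem F302058 : act 2 n120632 = n57772 := (sb E53595 F253273)
theorem F302059 : act 1 n120635 = n81813 := (sb E53596 F196571)
theorem F302060 : act 4 n120635 = n166971 := (sb E53596 (iv4 F262867))
theorem F302061 : act 5 n120635 = n123030 := (sb E53596 (iv5 F197155))
theorem F302062 : act 4 n123155 = n76074 := (sb E53598 (iv4 D159136))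
theorem E57577 : n124147 = n70660 := ((D124147).symm.trans (sb E53599 (iv0 F233115)))
theorem F302063 : act 1 n57858 = n82017 := (sb E53600 F201074)
theorem F302064 : act 0 n57822 = n82017 := (sb E53603 (iv1 F201046))
theorem F302065 : act 1 n123146 = n82027 := (sb E53605 (iv0 D171150))
theorem F302066 : act 5 n123146 = n170716 := (sb E53605 F268886)
theorem F302067 : act 0 n123139 = n82027 := (sb E53606 (iv1 D171151))
theorem F302068 : act 4 n123943 = n76081 := (sb E53607 (iv4 D159142))
theorem F302069 : act 5 n123943 = n84670 := (sb E53607 F250575)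
theorem F302070 : act 7 n123943 = n82027 := (sb E53607 F250576)
theorem E57579 : n178077 = n123118 := ((((iv3 F197307)).symm.trans (sb E53608 (iv3 F277617)))).symm
theorem E57580 : n178082 = n123157 := (((D123157).symm.trans (sb E53608 (iv6 F277619)))).symm
theorem F302071 : act 0 n81807 = n122357 := (sb E53610 F277658)
theorem F302072 : act 6 n99867 = n57787 := (sb E53612 (iv6 D124043))
theorem F302073 : act 6 n99863 = n76841 := (sb E53613 (iv6 D160329))
theorem E57582 : n127864 = n13138 := (((F36435).symm.trans (sb E53614 D127864))).symm
theorem E57583 : n60245 = n48186 := (((D48186).symm.trans (sb E53614 F94797))).symm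
theorem F302074 : act 3 n23344 = n26325 := (sb E53615 (iv3 D54432))
theorem E57584 : n118158 = n18930 := (((F36466).symm.trans (sb E53615 D118158))).symm
theorem E57585 : n118159 = n48205 := (((D48205).symm.trans (sb E53615 D118159))).symm
theorem E57586 : n108322 = n35272 := (((F64334).symm.trans (sb E53616 (iv5 F167497)))).symm
theorem E57587 : n108326 = n9032 := (((F28065).symm.trans (sb E53617 D108326))).symm
theorem E57589 : n108325 = n8011 := ((((iv4 D17121)).symm.trans (sb E53617 (iv4 F167501)))).symm
theorem E57590 : n35273 = n24399 := ((D35273).symm.trans (sb E53617 (iv6 D50027)))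
theorem E57592 : n154312 = n19626 := (((D19626).symm.trans (sb E53618 D154312))).symm
theorem E57598 : n80461 = n32864 := ((D80461).symm.trans (sb E53620 F191184))
theorem E57599 : n80462 = n72659 := ((D80462).symm.trans (sb E53620 F191185))
theorem E57600 : n127981 = n80463 := (((D80463).symm.trans (sb E53620 (iv5 F205960)))).symm
theorem E57601 : n122443 = n40317 := ((F301686).symm.trans (sb E53621 (iv0 D86904)))
theorem E57604 : n181955 = n118937 := (((D118937).symm.trans (sb E53621 D181955))).symm
theorem E57605 : n118938 = n88178 := ((D118938).symm.trans (sb E53621 F135128))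
theorem F302075 : act 0 n72145 = n40317 := (sb E53622 (iv1 D86905))
theorem E57608 : n181959 = n152889 := (((D152889).symm.trans (sb E53622 D181959))).symm
theorem E57609 : n181960 = n152890 := (((D152890).symm.trans (sb E53622 D181960))).symm
theorem E57611 : n131209 = n18950 := (((D18950).symm.trans (sb E53623 (iv6 F210174)))).symm
theorem E57612 : n124752 = n86521 := (((D86521).symm.trans (sb E53624 F199673))).symm
theorem E57613 : n86522 = n34377 := ((D86522).symm.trans (sb E53624 F190507))
theorem F302076 : act 2 n40098 = n33160 := (sb E53624 F108196)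
theorem E57614 : n86523 = n58343 := ((D86523).symm.trans (sb E53624 (iv5 F190537)))
theorem E57615 : n124845 = n86524 := (((D86524).symm.trans (sb E53624 (iv7 F200519)))).symm
theorem E57618 : n123693 = n88011 := (((D88011).symm.trans (sb E53625 F198154))).symm
theorem E57619 : n88013 = n57684 := ((D88013).symm.trans (sb E53626 (iv1 F198226)))
theorem E57620 : n88014 = n57679 := ((D88014).symm.trans (sb E53626 (iv0 D123738)))
theorem E57621 : n33469 = n10303 := ((D33469).symm.trans (sb E53627 F30185))
theorem E57622 : n39982 = n7545 := (((F25699).symm.trans (sb E53627 D39982))).symm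
theorem F302077 : act 3 n71539 = n33156 := (sb E53628 F190570)
theorem F302078 : act 4 n71539 = n70694 := (sb E53628 (iv4 F190634))
theorem E57623 : n151851 = n39983 := (((F108054).symm.trans (sb E53628 D151851))).symm
theorem E57624 : n151766 = n33513 := ((D151766).symm.trans (sb E53628 F190502))
theorem F302079 : act 5 n18909 = n33156 := (sb E53629 (iv5 D71715))
theorem E57626 : n131079 = n39984 := (((D39984).symm.trans (sb E53629 (iv6 F209911)))).symm
theorem E57630 : n74871 = n37220 := (((D37220).symm.trans (sb E53631 F190585))).symm
theorem E57631 : n72574 = n8443 := ((((iv4 D17895)).symm.trans (sb E53631 F190586))).symm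
theorem E57632 : n72573 = n37222 := (((D37222).symm.trans (sb E53631 F190588))).symm
theorem E57633 : n73328 = n35449 := ((((iv3 F56156)).symm.trans (sb E53632 (iv3 F109816)))).symm
theorem F302080 : act 5 n19157 = n16295 := (sb E53632 (iv5 D33741))
theorem E57635 : n73344 = n27715 := ((((iv6 F296474)).symm.trans (sb E53632 (iv6 F109948)))).symm
theorem E57636 : n152108 = n3961 := ((((iv1 D8876)).symm.trans (sb E53633 D152108))).symm
theorem E57640 : n152112 = n18929 := (((D18929).symm.trans (sb E53633 D152112))).symm
theorem E57641 : n131210 = n21553 := (((F297098).symm.trans (sb E53634 (iv1 F210188)))).symm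
theorem E57642 : n61485 = n37200 := ((((iv0 F297315)).symm.trans (sb E53634 F190591))).symm
theorem E57643 : n86446 = n85304 := ((D86446).symm.trans (sb E53634 (iv5 F130588)))
theorem E57645 : n168265 = n86521 := (((E57612).symm.trans (((iv2 F199669)).symm.trans (sb E53635 D168265)))).symm
theorem E57646 : n168266 = n124838 := ((((iv3 F200498)).symm.trans (sb E53635 D168266))).symm
theorem E57647 : n124846 = n40902 := ((D124846).symm.trans (sb E53635 F233091))
theorem E57649 : n168268 = n124847 := (((D124847).symm.trans (sb E53635 D168268))).symm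
theorem E57652 : n124861 = n40903 := ((D124861).symm.trans (sb E53636 (iv4 F265225)))
theorem E57655 : n168273 = n58318 := ((((iv1 F190864)).symm.trans (sb E53637 D168273))).symm
theorem E57656 : n168274 = n58313 := ((((iv0 F190639)).symm.trans (sb E53637 D168274))).symm
theorem F302081 : act 4 n71730 = n46648 := (sb E53638 F124262)
theorem E57661 : n184948 = n27552 := ((((iv0 D57686)).symm.trans (sb E53643 F287364))).symm
theorem E57662 : n123692 = n88006 := (((iv2 F234062)).symm.trans (sb E53643 F155828))
theorem E57663 : n123760 = n47105 := ((D123760).symm.trans (sb E53643 (iv3 F155370)))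
theorem F302082 : act 5 n57686 = n46645 := (sb E53643 (iv5 D99881))
theorem E57664 : n162772 = n86575 := (((F233129).symm.trans (sb E53644 (iv0 F257015)))).symm
theorem F302085 : act 5 n57687 = n46646 := (sb E53645 (iv5 D99886))
theorem E57665 : n153287 = n101326 := ((D153287).symm.trans (sb E53646 (iv5 F156106)))
theorem F302086 : act 6 n72410 = n46646 := (sb E53646 (iv6 D99887))
theorem E57666 : n88166 = n57661 := (((iv5 F153799)).symm.trans (sb E53647 (iv5 D123690)))
theorem E57667 : n88080 = n57660 := (((iv5 F153792)).symm.trans (sb E53648 (iv5 D123686)))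
theorem F302087 : act 3 n99891 = n57741 := (sb E53649 F239136)
theorem F302088 : act 0 n123136 = n150108 := (sb E53650 F275198)
theorem F302089 : act 2 n85873 = n57858 := (sb E53651 F197408)
theorem F302090 : act 4 n85873 = n57321 := (sb E53651 (iv4 D123175))
theorem F302091 : act 7 n85873 = n57822 := (sb E53651 F197409)
theorem F302092 : act 2 n85906 = n57822 := (sb E53652 F197393)
theorem F302093 : act 7 n85906 = n57858 := (sb E53652 F197394)
theorem E57668 : n89146 = n73504 := ((D89146).symm.trans (sb E53655 (iv6 D154966)))
theorem F302094 : act 2 n124031 = n122452 := (sb E53659 F268217)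
theorem F302095 : act 4 n124031 = n84723 := (sb E53659 (iv4 F268218))
theorem F302096 : act 5 n124031 = n84790 := (sb E53659 (iv5 F268216))
theorem F302097 : act 7 n124031 = n181153 := (sb E53659 (iv7 F282169))
theorem E57674 : n170656 = n85883 := ((D170656).symm.trans (sb E53661 (iv0 D179824)))
theorem E57675 : n179722 = n123304 := ((((iv3 F197593)).symm.trans (sb E53663 D179722))).symm
theorem F302098 : act 7 n57405 = n39744 := (sb E53663 F131703)
theorem F302099 : act 0 n122427 = n120422 := (sb E53664 F196597)
theorem F302100 : act 1 n122427 = n170647 := (sb E53664 (iv0 F268101))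
theorem F302101 : act 0 n122430 = n170647 := (sb E53665 (iv1 F268102))
theorem F302102 : act 1 n122430 = n120422 := (sb E53665 (iv0 F196587))
theorem E57676 : n98854 = n56726 := ((F301775).symm.trans (sb E53666 (iv0 D122411)))
theorem F302103 : act 2 n100411 = n56726 := (sb E53668 (iv2 D122413))
theorem F302104 : act 3 n100411 = n167438 := (sb E53668 (iv3 F263563))
theorem F302105 : act 4 n100411 = n72649 := (sb E53668 F195860)
theorem F302106 : act 0 n57862 = n56728 := (sb E53672 (iv1 F131736))
theorem F302107 : act 1 n57862 = n56732 := (sb E53672 F131737)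
theorem E57677 : n179758 = n124152 := ((((iv3 F198611)).symm.trans (sb E53672 (iv3 F279981)))).symm
theorem E57678 : n179827 = n124161 := (((D124161).symm.trans (sb E53672 (iv4 F280049)))).symm
theorem F302108 : act 0 n122416 = n170653 := (sb E53673 (iv1 F268114))
theorem F302109 : act 1 n122416 = n170650 := (sb E53673 (iv0 F268106))
theorem F302110 : act 0 n57322 = n39720 := (sb E53677 (iv1 F131698))
theorem F302111 : act 1 n57322 = n39719 := (sb E53677 F131699)
theorem F302112 : act 7 n57322 = n39695 := (sb E53677 (iv7 D85839))
theorem E57679 : n124153 = n39714 := ((((iv3 F60585)).symm.trans (sb E53678 (iv3 F198612)))).symm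
theorem F302113 : act 7 n18791 = n27619 := (sb E53678 (iv7 D57863))
theorem F302114 : act 0 n56734 = n27349 := (sb E53679 (iv1 D57008))
theorem F302115 : act 2 n56734 = n120382 := (sb E53679 (iv2 F196593))
theorem E57680 : n122739 = n122426 := (((D122426).symm.trans (sb E53679 D122739))).symm
theorem F302116 : act 7 n56734 = n120381 := (sb E53679 (iv7 F196595))
theorem F302117 : act 0 n36502 = n29528 := (sb E53680 (iv1 F97362))
theorem F302118 : act 1 n36502 = n29528 := (sb E53680 (iv0 D62478))
theorem E57683 : n80151 = n63683 := ((D80151).symm.trans (sb E53680 (iv5 F99014)))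
theorem E57687 : n166987 = n75329 := ((((iv2 F273738)).symm.trans (sb E55459 D166987))).symm
theorem E57688 : n56731 = n46718 := (((F249129).symm.trans (sb E55459 F123079))).symm
theorem E57689 : n166988 = n75622 := (((D75622).symm.trans (sb E55459 D166988))).symm
theorem E57690 : n166989 = n75623 := (((D75623).symm.trans (sb E55459 D166989))).symm
theorem E57691 : n75328 = n36616 := ((F273737).symm.trans (sb E55459 F123080))
theorem E57692 : n80158 = n63683 := (E53682).trans E57683
theorem E57693 : n166976 = n62109 := (((F99015).symm.trans (sb E57692 (tr (iv1 F262890) E55339)))).symm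
theorem E57694 : n135471 = n75622 := ((D135471).symm.trans (sb E57692 (tr (iv3 F262930) E57689)))
theorem E57695 : n166990 = n30054 := ((((iv4 D63683)).symm.trans (sb E57692 D166990))).symm
theorem E57697 : n63309 = n36617 := ((F99013).symm.trans (sb E57692 F123082))
theorem F302119 : act 1 n80152 = n77444 := (sb E53683 F123561)
theorem E57698 : n166975 = n75623 := (((iv3 F262884)).symm.trans (sb E53683 (tr (iv3 F262932) E57690)))
theorem F302120 : act 0 n35445 = n17208 := (sb E53684 (iv1 D35513))
theorem F302121 : act 2 n35445 = n36620 := (sb E53684 F91205)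
theorem F302122 : act 3 n35445 = n17293 := (sb E53684 F91185)
theorem F302123 : act 1 n35505 = n38779 := (sb E53685 F123045)
theorem F302124 : act 3 n122420 = n72649 := (sb E53688 F196565)
theorem E57701 : n180075 = n123447 := (((iv5 F280455)).symm.trans (sb E53690 (iv5 F197827)))
theorem F302125 : act 0 n122423 = n170650 := (sb E53691 (iv1 F268107))
theorem F302126 : act 1 n122423 = n170653 := (sb E53691 (iv0 F268113))
theorem E57702 : n180077 = n123449 := (((iv5 F280458)).symm.trans (sb E53692 (iv5 F197829)))
theorem F302127 : act 1 n57501 = n122308 := (sb E53693 (iv0 F195545))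
theorem F302128 : act 5 n57501 = n56733 := (sb E53693 (iv5 F131989))
theorem F302129 : act 1 n56735 = n27349 := (sb E53694 (iv0 D57007))
theorem F302130 : act 2 n56735 = n120381 := (sb E53694 (iv2 F196594))
theorem F302131 : act 7 n56735 = n120382 := (sb E53694 F196592)
theorem F302132 : act 2 n83144 = n72812 := (sb E53701 F240550)
theorem E57707 : n73417 = n73316 := ((F128180).symm.trans (sb E53701 F240551))
theorem E57708 : n147589 = n86478 := ((((iv5 F132635)).symm.trans (sb E53701 F240553))).symm
theorem E57709 : n173860 = n72326 := ((D173860).symm.trans (sb E53701 (iv6 D153205)))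
theorem E57710 : n147588 = n98137 := ((((iv7 F151339)).symm.trans (sb E53701 (iv7 F240554)))).symm
theorem E57713 : n128062 = n123087 := ((D128062).symm.trans (sb E53702 (iv3 F197280)))
theorem F302133 : act 6 n60180 = n38273 := (sb E53702 (iv6 D83146))
theorem E57716 : n169945 = n73253 := ((D169945).symm.trans (sb E53703 F241850))
theorem F302134 : act 7 n81519 = n72812 := (sb E53703 (iv7 D153893))
theorem E57717 : n173868 = n38304 := ((D173868).symm.trans (sb E53704 (tr (iv1 F242591) E53916)))
theorem E57718 : n173869 = n128159 := ((D173869).symm.trans (sb E53704 F242592))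
theorem E57719 : n128236 = n98138 := ((((iv2 F151343)).symm.trans (sb E53704 F242588))).symm
theorem E57720 : n173871 = n73243 := ((D173871).symm.trans (sb E53704 (iv7 D154543)))
theorem F302135 : act 3 n60211 = n98107 := (sb E53705 (iv3 F151258))
theorem F302136 : act 6 n60211 = n38275 := (sb E53705 (iv6 D83150))
theorem E57726 : n173881 = n72825 := ((((iv3 F109327)).symm.trans (sb E53707 D173881))).symm
theorem F302137 : act 3 n70084 = n38279 := (sb E53708 F128212)
theorem E57733 : n172398 = n149282 := (((D149282).symm.trans (sb E53708 (iv6 F270611)))).symm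
theorem F302138 : act 1 n75726 = n79800 := (sb E53709 F194147)
theorem F302140 : act 7 n75726 = n79813 := (sb E53709 F194148)
theorem E57735 : n152886 = n87336 := (((D87336).symm.trans (sb E53712 (iv6 F240081)))).symm
theorem F302141 : act 7 n40592 = n33446 := (sb E53712 (iv7 D72455))
theorem F302142 : act 0 n45907 = n33446 := (sb E53713 (iv1 D72453))
theorem E57738 : n153361 = n98235 := (((D98235).symm.trans (sb E53714 F264051))).symm
theorem E57739 : n122679 = n98240 := (((D98240).symm.trans (sb E53715 (iv4 F264055)))).symm
theorem F302145 : act 4 n121009 = n58721 := (sb E53726 (iv4 D125411))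
theorem F302146 : act 5 n121009 = n121111 := (sb E53726 F201694)
theorem F302147 : act 6 n121009 = n125326 := (sb E53726 F201692)
theorem F302149 : act 0 n121010 = n78718 := (sb E53727 (iv1 D163868))
theorem E57740 : n180597 = n159270 := ((((iv3 F250755)).symm.trans (sb E53728 (iv3 F281108)))).symm
theorem F302153 : act 6 n76195 = n55661 := (sb E53731 F192506)
theorem E57741 : n181875 = n79565 := ((((iv6 F122195)).symm.trans (sb E53737 (iv6 F283146)))).symm
theorem E57745 : n79567 = n73841 := ((D79567).symm.trans (sb E53739 F133254))
theorem E57746 : n86123 = n79571 := ((((iv5 F122199)).symm.trans (sb E53740 F257685))).symm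
theorem F302156 : act 1 n36234 = n40287 := (sb E53741 (iv0 F61313))
theorem F302157 : act 2 n36234 = n37451 := (sb E53741 F60036)
theorem E57747 : n84568 = n79560 := (((D79560).symm.trans (sb E53741 (iv3 F129728)))).symm
theorem F302158 : act 4 n36234 = n18528 := (sb E53741 F60037)
theorem E57748 : n84569 = n79561 := (((D79561).symm.trans (sb E53741 D84569))).symm
theorem E57749 : n79562 = n18527 := ((D79562).symm.trans (sb E53741 (iv6 D39026)))
theorem F302159 : act 7 n36234 = n58651 := (sb E53741 (iv7 F92633))
theorem F302161 : act 7 n33911 = n17500 := (sb E53743 (iv7 D36237))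
theorem F302162 : act 0 n163401 = n79270 := (sb E53744 (iv1 D164987))
theorem F302164 : act 0 n163403 = n79269 := (sb E53746 (iv1 F258143))
theorem F302165 : act 1 n163403 = n79268 := (sb E53746 F258144)
theorem F302169 : act 5 n121635 = n78529 := (sb E53747 (iv5 D163404))
theorem F302174 : act 0 n120959 = n78503 := (sb E53753 (iv1 F257652))
theorem F302175 : act 1 n120959 = n78502 := (sb E53753 F257653)
theorem F302176 : act 7 n120959 = n78501 := (sb E53753 (iv7 D163348))
theorem F302178 : act 7 n120958 = n78503 := (sb E53754 (iv7 F257654))
theorem F302179 : act 4 n163350 = n165880 := (sb E53755 F261251)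
theorem F302180 : act 2 n120957 = n78503 := (sb E53759 F257655)
theorem F302181 : act 7 n120957 = n78502 := (sb E53759 (iv7 D163354))
theorem F302182 : act 0 n163355 = n78699 := (sb E53760 (iv1 D163805))
theorem F302183 : act 1 n163355 = n78704 := (sb E53760 F258176)
theorem F302184 : act 2 n163355 = n80038 := (sb E53760 (iv2 F258178))
theorem F302185 : act 4 n163355 = n163336 := (sb E53760 F258179)
theorem F302186 : act 7 n163355 = n80039 := (sb E53760 F258177)
theorem F302187 : act 3 n163356 = n78832 := (sb E53761 (iv3 D164089))
theorem F302188 : act 1 n120958 = n78501 := (sb E53764 (iv0 D163345))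
theorem F302189 : act 0 n120957 = n78501 := (sb E53765 (iv1 D163346))
theorem F302191 : act 7 n120961 = n55907 := (sb E53772 (iv7 D121170))
theorem F302192 : act 0 n120965 = n78589 := (sb E53775 (iv1 F193247))
theorem F302197 : act 1 n162617 = n84652 := (sb E53814 (iv0 D177785))
theorem F302198 : act 2 n162617 = n84775 := (sb E53814 (iv2 F277272))
theorem F302199 : act 7 n162617 = n84776 := (sb E53814 F277274)
theorem F302200 : act 0 n124647 = n78207 := (sb E53815 (iv1 D162744))
theorem F302201 : act 1 n124647 = n78212 := (sb E53815 F256968)
theorem F302202 : act 2 n124647 = n83121 := (sb E53815 F256971)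
theorem F302203 : act 7 n124647 = n83128 := (sb E53815 F256969)
theorem F302204 : act 7 n162635 = n102786 := (sb E53816 F273502)
theorem F302205 : act 0 n162636 = n83455 := (sb E53817 (iv1 F273480))
theorem F302206 : act 1 n162636 = n83444 := (sb E53817 (iv0 D174619))
theorem F302207 : act 2 n162636 = n186305 := (sb E53817 (iv2 F289075))
theorem F302208 : act 4 n162636 = n83589 := (sb E53817 F273479)
theorem F302209 : act 7 n162636 = n102787 := (sb E53817 F273481)
theorem E57751 : n174682 = n78217 := ((D174682).symm.trans (sb E53818 (iv6 D162760)))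
theorem F302210 : act 0 n83468 = n162660 := (sb E53819 F256990)
theorem F302211 : act 1 n83468 = n162663 := (sb E53819 F256991)
theorem F302212 : act 6 n35654 = n38481 := (sb E53820 (iv6 D83469))
theorem E57754 : n165171 = n121682 := (((D121682).symm.trans (sb E53821 D165171))).symm
theorem F302213 : act 6 n56208 = n36257 := (sb E53821 F121948)
theorem E57759 : n165167 = n84811 := (((D84811).symm.trans (sb E53823 D165167))).symm
theorem E57763 : n125337 = n121678 := (((D121678).symm.trans (sb E53826 (iv3 F201607)))).symm
theorem E57765 : n165162 = n121679 := (((D121679).symm.trans (sb E53827 D165162))).symm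
theorem F302214 : act 0 n166369 = n176601 := (sb E53828 (iv1 F275968))
theorem F302215 : act 5 n166369 = n82414 := (sb E53828 (iv5 D172079))
theorem F302217 : act 0 n158830 = n78377 := (sb E53831 (iv1 D162987))
theorem F302218 : act 1 n158830 = n173849 := (sb E53831 (iv0 F272484))
theorem F302219 : act 2 n158830 = n162751 := (sb E53831 (iv2 F257343))
theorem F302220 : act 7 n158830 = n162754 := (sb E53831 (iv7 F257344))
theorem F302221 : act 0 n158840 = n173849 := (sb E53832 (iv1 F272485))
theorem F302222 : act 1 n158840 = n78377 := (sb E53832 (iv0 D162986))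
theorem F302223 : act 2 n158840 = n162754 := (sb E53832 (iv2 F257345))
theorem F302224 : act 7 n158840 = n162751 := (sb E53832 F257347)
theorem F302225 : act 4 n124437 = n76976 := (sb E53833 F253344)
theorem E57767 : n177783 = n124168 := (((iv6 F277267)).symm.trans (sb E53833 F253345))
theorem F302226 : act 7 n124437 = n76889 := (sb E53833 (iv7 D160396))
theorem F302227 : act 7 n124438 = n76890 := (sb E53834 (iv7 D160401))
theorem F302228 : act 2 n57868 = n39169 := (sb E53835 F129850)
theorem E57768 : n177784 = n124169 := (((D124169).symm.trans (sb E53835 D177784))).symm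
theorem F302229 : act 6 n57868 = n58030 := (sb E53835 F129851)
theorem F302230 : act 4 n124441 = n158000 := (sb E53836 F253173)
theorem F302231 : act 6 n124441 = n76827 := (sb E53836 F253174)
theorem F302232 : act 2 n124442 = n76890 := (sb E53837 F253175)
theorem E57769 : n173226 = n98138 := (((E57719).symm.trans (((iv1 F242259)).symm.trans (sb E53838 D173226)))).symm
theorem E57771 : n173228 = n128159 := ((((iv2 F206288)).symm.trans (sb E53838 D173228))).symm
theorem F302233 : act 3 n70520 = n38135 := (sb E53838 (iv3 D82898))
theorem F302234 : act 6 n38502 = n78102 := (sb E53841 (iv6 D162625))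
theorem F302235 : act 6 n173824 = n83461 := (sb E53842 (iv6 D174664))
theorem F302236 : act 4 n86036 = n173322 := (sb E53843 (iv4 F271750))
theorem F302237 : act 3 n150672 = n82582 := (sb E53846 F270681)
theorem F302238 : act 4 n38523 = n149833 := (sb E53847 F253726)
theorem F302239 : act 6 n38523 = n77019 := (sb E53847 (iv6 D160622))
theorem E57772 : n128071 = n83560 := (((D83560).symm.trans (sb E53848 (iv3 F256875)))).symm
theorem E57773 : n179384 = n83563 := (((D83563).symm.trans (sb E53848 (iv6 F279335)))).symm
theorem F302240 : act 0 n38541 = n78103 := (sb E53851 (iv1 D162627))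
theorem F302241 : act 4 n84841 = n176767 := (sb E53854 (iv4 F276152))
theorem F302242 : act 0 n162671 = n83589 := (sb E53856 (iv1 D175033))
theorem F302243 : act 1 n162671 = n186303 := (sb E53856 (iv0 F289070))
theorem F302244 : act 2 n162671 = n174548 := (sb E53856 (iv2 F273945))
theorem F302245 : act 5 n162671 = n173300 := (sb E53856 F273943)
theorem F302246 : act 7 n162671 = n174523 := (sb E53856 F273942)
theorem F302247 : act 5 n83476 = n78144 := (sb E53857 F256911)
theorem F302248 : act 7 n83476 = n78143 := (sb E53857 (iv7 D162673))
theorem F302249 : act 1 n158863 = n173838 := (sb E53858 (iv0 F272436))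
theorem F302250 : act 5 n158863 = n78212 := (sb E53858 (iv5 D162749))
theorem F302251 : act 5 n124408 = n160398 := (sb E53859 (iv5 F263138))
theorem F302252 : act 7 n124408 = n160778 := (sb E53859 F263135)
theorem E57777 : n165748 = n78401 := (((D78401).symm.trans (sb E53861 (iv6 F261103)))).symm
theorem F302253 : act 3 n165648 = n84563 := (sb E53862 F276952)
theorem F302254 : act 6 n165648 = n84561 := (sb E53862 (iv6 D177502))
theorem F302255 : act 2 n177506 = n84788 := (sb E53863 F277285)
theorem F302256 : act 7 n177506 = n84778 := (sb E53863 F277286)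
theorem F302257 : act 0 n35382 = n35328 := (sb E53865 (iv1 F115997))
theorem F302258 : act 1 n35382 = n35256 := (sb E53865 (iv0 D77228))
theorem F302259 : act 6 n35382 = n36627 := (sb E53865 (iv6 F115998))
theorem F302260 : act 4 n84797 = n77488 := (sb E53866 (iv4 D161414))
theorem F302261 : act 7 n84797 = n77836 := (sb E53866 F255268)
theorem F302262 : act 3 n150641 = n75996 := (sb E53868 (iv3 D159103))
theorem F302263 : act 7 n125214 = n86645 := (sb E53876 F264538)
theorem F302264 : act 3 n119130 = n177939 := (sb E53877 F277503)
theorem F302265 : act 3 n119133 = n56014 := (sb E53881 (iv3 D121399))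
theorem F302266 : act 2 n86855 = n56091 := (sb E53883 F193671)
theorem F302267 : act 7 n86855 = n56015 := (sb E53883 (iv7 D121403))
theorem F302268 : act 0 n121449 = n56086 := (sb E53884 (iv1 F193826))
theorem F302269 : act 5 n121449 = n80238 := (sb E53884 F193825)
theorem F302270 : act 1 n121450 = n56086 := (sb E53885 F193827)
theorem F302271 : act 0 n121400 = n77659 := (sb E53888 (iv1 F193817))
theorem F302272 : act 1 n121400 = n77658 := (sb E53888 F193818)
theorem F302273 : act 7 n121400 = n56072 := (sb E53888 (iv7 D121452))
theorem E57779 : n105963 = n70395 := (((iv0 F191163)).symm.trans (sb E53889 (iv0 D149813)))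
theorem F302274 : act 3 n70110 = n81438 := (sb E53889 F274241)
theorem F302275 : act 6 n161842 = n81438 := (sb E53890 (iv6 D169820))
theorem F302276 : act 0 n86745 = n81437 := (sb E53891 (iv1 D169815))
theorem F302277 : act 1 n86745 = n81441 := (sb E53891 F267246)
theorem F302278 : act 2 n86745 = n81439 := (sb E53891 (iv2 F267248))
theorem E57780 : n152203 = n83676 := (((iv4 F239279)).symm.trans (sb E53891 (iv4 F267249)))
theorem F302279 : act 7 n86745 = n81438 := (sb E53891 F267247)
theorem F302280 : act 3 n73428 = n81439 := (sb E53892 (iv3 D169821))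
theorem E57782 : n123665 = n89183 := (((iv4 F198090)).symm.trans (sb E53892 F267255))
theorem E57783 : n154832 = n101494 := ((D154832).symm.trans (sb E53892 F267256))
theorem F302281 : act 6 n119468 = n83488 := (sb E53893 (iv6 D174739))
theorem F302282 : act 6 n73427 = n81439 := (sb E53894 (iv6 D169823))
theorem F302283 : act 1 n151744 = n81476 := (sb E53895 (iv0 D169879))
theorem F302288 : act 7 n128395 = n71520 := (sb E53897 (iv7 D151746))
theorem F302289 : act 7 n169881 = n86570 := (sb E53898 (iv7 D181307))
theorem F302290 : act 1 n169883 = n181199 := (sb E53899 F282406)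
theorem F302291 : act 7 n169883 = n86578 := (sb E53899 (iv7 D181325))
theorem E57784 : n83217 = n60282 := ((D83217).symm.trans (sb E53916 (iv1 D128234)))
theorem E57785 : n154542 = n83219 := (((D83219).symm.trans (sb E53916 F242587))).symm
theorem E57786 : n83220 = n60318 := ((D83220).symm.trans (sb E53916 F206365))
theorem F302292 : act 6 n38304 = n80519 := (sb E53916 (iv6 F206367))
theorem F302293 : act 7 n38304 = n70520 := (sb E53916 (iv7 F206368))
theorem F302294 : act 6 n38309 = n83109 := (sb E53917 (iv6 D173802))
theorem F302295 : act 5 n38675 = n80440 := (sb E53919 (iv5 D167615))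
theorem F302296 : act 5 n38680 = n80446 := (sb E53922 (iv5 D167628))
theorem F302297 : act 6 n38739 = n84045 := (sb E53927 (iv6 D176219))
theorem E57788 : n84736 = n16282 := (((D16282).symm.trans (sb E53932 D84736))).symm
theorem E57789 : n84737 = n16283 := (((D16283).symm.trans (sb E53932 D84737))).symm
theorem E57791 : n84742 = n57790 := (((D57790).symm.trans (sb E53933 D84742))).symm
theorem E57792 : n84743 = n57791 := (((D57791).symm.trans (sb E53933 D84743))).symm
theorem E57793 : n84762 = n72762 := ((((iv1 F196230)).symm.trans (sb E53936 (iv1 F268341)))).symm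
theorem F302298 : act 2 n122557 = n84761 := (sb E53936 F268340)
theorem F302300 : act 0 n101013 = n56888 := (sb E53937 (iv1 D122558))
theorem E57794 : n84761 = n72759 := (((D72759).symm.trans (sb E53938 (iv1 F268337)))).symm
theorem E57795 : n81864 = n72760 := (((D72760).symm.trans (sb E53938 (iv0 D170751)))).symm
theorem F302301 : act 7 n122559 = n84763 := (sb E53939 F277250)
theorem F302302 : act 4 n39166 = n82393 := (sb E53940 F196228)
theorem F302303 : act 7 n39166 = n56888 := (sb E53940 (iv7 D122560))
theorem F302304 : act 3 n100730 = n56889 := (sb E53943 (iv3 D122561))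
theorem F302305 : act 4 n100730 = n78102 := (sb E53943 F196233)
theorem F302306 : act 0 n122562 = n122452 := (sb E53944 (iv1 F268221))
theorem F302307 : act 1 n122562 = n181153 := (sb E53944 F282168)
theorem F302308 : act 4 n122562 = n177962 := (sb E53944 (iv4 F277512))
theorem F302309 : act 4 n122567 = n177924 := (sb E53945 (iv4 F277490))
theorem F302310 : act 5 n122567 = n81980 := (sb E53945 (iv5 D171036))
theorem F302311 : act 4 n120482 = n177925 := (sb E53946 (iv4 F277493))
theorem F302312 : act 7 n122568 = n84765 := (sb E53947 F277255)
theorem F302313 : act 1 n39167 = n57789 := (sb E53949 F196277)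
theorem F302314 : act 2 n39167 = n57778 := (sb E53949 F196274)
theorem F302315 : act 7 n39167 = n56891 := (sb E53949 (iv7 D122569))
theorem F302316 : act 7 n122584 = n84769 := (sb E53950 F277261)
theorem F302317 : act 1 n122585 = n181155 := (sb E53951 (iv0 F282175))
theorem F302318 : act 7 n122585 = n84770 := (sb E53951 F277263)
theorem F302320 : act 1 n166193 = n84019 := (sb E53953 F270087)
theorem F302322 : act 1 n166194 = n84017 := (sb E53954 F270086)
theorem F302323 : act 3 n166194 = n84009 := (sb E53954 F270084)
theorem F302325 : act 7 n166194 = n84019 := (sb E53954 F270085)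
theorem F302326 : act 7 n166195 = n84021 := (sb E53955 F270090)
theorem F302328 : act 2 n160603 = n84013 := (sb E53957 (iv2 F270096))
theorem F302329 : act 5 n160603 = n158187 := (sb E53957 F270095)
theorem F302330 : act 7 n160603 = n84012 := (sb E53957 F270094)
theorem F302331 : act 1 n166196 = n176588 := (sb E53958 (iv0 F275951))
theorem F302332 : act 2 n166196 = n84014 := (sb E53958 F270097)
theorem F302333 : act 7 n166196 = n84023 := (sb E53958 F270098)
theorem F302334 : act 2 n166197 = n84015 := (sb E53959 F270099)
theorem F302335 : act 5 n166197 = n158692 := (sb E53959 F270100)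
theorem F302336 : act 0 n123599 = n84009 := (sb E53960 (iv1 F270101))
theorem F302337 : act 1 n123600 = n84009 := (sb E53961 F270102)
theorem F302338 : act 2 n101478 = n57613 := (sb E53962 F198004)
theorem F302339 : act 6 n101478 = n57609 := (sb E53962 (iv6 D123591))
theorem F302340 : act 7 n123601 = n84010 := (sb E53963 F270104)
theorem F302341 : act 0 n160605 = n176588 := (sb E53964 (iv1 F275952))
theorem F302342 : act 2 n160605 = n84023 := (sb E53964 F270107)
theorem F302343 : act 7 n160605 = n84014 := (sb E53964 F270108)
theorem F302344 : act 1 n166230 = n98120 := (sb E53969 F270114)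
theorem F302345 : act 2 n166230 = n84028 := (sb E53969 F270112)
theorem F302346 : act 4 n166230 = n82400 := (sb E53969 (iv4 D172047))
theorem F302347 : act 7 n166230 = n84031 := (sb E53969 F270113)
theorem F302348 : act 4 n166248 = n163632 := (sb E53972 F270215)
theorem F302349 : act 7 n166248 = n84236 := (sb E53972 F270216)
theorem F302350 : act 0 n166249 = n176597 := (sb E53973 (iv1 F275964))
theorem F302351 : act 1 n166249 = n174200 := (sb E53973 (iv0 F272992))
theorem F302352 : act 2 n166249 = n84234 := (sb E53973 F270217)
theorem F302353 : act 7 n166249 = n84237 := (sb E53973 F270218)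
theorem F302354 : act 7 n166245 = n84233 := (sb E53974 F270222)
theorem F302356 : act 1 n166246 = n176597 := (sb E53975 (iv0 F275963))
theorem F302357 : act 2 n166246 = n84237 := (sb E53975 F270223)
theorem F302358 : act 7 n166246 = n84234 := (sb E53975 F270224)
theorem F302359 : act 4 n172089 = n84769 := (sb E53976 F277611)
theorem F302360 : act 6 n172089 = n173837 := (sb E53976 F277612)
theorem F302361 : act 2 n36492 = n54570 := (sb E53977 F155346)
theorem E57796 : n150191 = n80128 := (((D80128).symm.trans (sb E53977 D150191))).symm
theorem F302362 : act 7 n36492 = n54571 := (sb E53977 F155345)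
theorem F302363 : act 0 n33205 = n54571 := (sb E53978 (iv1 F186313))
theorem F302364 : act 1 n33205 = n54570 := (sb E53978 F186314)
theorem F302365 : act 4 n33205 = n54562 := (sb E53978 F186311)
theorem E57797 : n71854 = n71849 := (((D71849).symm.trans (sb E53978 F186312))).symm
theorem E57798 : n77460 = n71749 := (((D71749).symm.trans (sb E53979 (iv0 F116282)))).symm
theorem E57799 : n71848 = n71750 := (((D71750).symm.trans (sb E53979 (iv2 F108305)))).symm
theorem E57800 : n71632 = n71558 := (((iv4 F108120)).symm.trans (sb E53979 (iv4 F108073)))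
theorem F302366 : act 5 n33168 = n17616 := (sb E53979 (iv5 D36493))
theorem E57803 : n80131 = n71851 := ((((iv0 F108312)).symm.trans (sb E53980 D80131))).symm
theorem F302367 : act 3 n33269 = n17618 := (sb E53980 F57317)
theorem E57804 : n80132 = n72029 := ((((iv5 F108502)).symm.trans (sb E53980 D80132))).symm
theorem F302368 : act 6 n33269 = n17616 := (sb E53980 (iv6 D36494))
theorem E57805 : n77742 = n28988 := (((F98510).symm.trans (sb E55366 (iv1 F117122)))).symm
theorem E57806 : n80144 = n28988 := (E55474).trans E57805
theorem E57807 : n72029 = n30045 := ((((iv3 F48262)).symm.trans (sb E55366 (iv3 F108501)))).symm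
theorem F302369 : act 6 n26383 = n54557 := (sb E53984 (iv6 D118468))
theorem E57811 : n161930 = n161736 := (((D161736).symm.trans (sb E53985 (iv4 F255917)))).symm
theorem F302370 : act 6 n77690 = n35485 := (sb E53985 (iv6 D77767))
theorem E57813 : n161186 = n155136 := ((D161186).symm.trans (sb E53986 (iv1 F243958)))
theorem E57814 : n161187 = n80128 := ((D161187).symm.trans (sb E53986 (tr (iv0 F236374) E57796)))
theorem E57815 : n161188 = n155191 := ((D161188).symm.trans (sb E53986 (iv2 F244020)))
theorem F302371 : act 4 n77378 = n55544 := (sb E53986 F192177)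
theorem F302372 : act 6 n77378 = n55542 := (sb E53986 (iv6 D120604))
theorem F302376 : act 7 n77226 = n77736 := (sb E53988 F255210)
theorem F302377 : act 5 n77227 = n77658 := (sb E53989 F255549)
theorem F302378 : act 7 n77227 = n80190 := (sb E53989 F255548)
theorem E57816 : n161368 = n119856 := (((iv3 F255179)).symm.trans (sb E53990 (iv3 F194830)))
theorem F302380 : act 5 n77480 = n56434 := (sb E53992 F194837)
theorem E57818 : n167110 = n161988 := (((D161988).symm.trans (sb E53993 D167110))).symm
theorem F302382 : act 5 n77807 = n36545 := (sb E53993 (iv5 D80225))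
theorem E57821 : n167115 = n161990 := (((D161990).symm.trans (sb E53995 (iv3 F263213)))).symm
theorem F302386 : act 5 n77808 = n36546 := (sb E53995 (iv5 D80228))
theorem E57824 : n167530 = n167116 := ((((iv3 F263215)).symm.trans (sb E53996 D167530))).symm
theorem F302388 : act 7 n80229 = n77444 := (sb E53996 F193758)
theorem F302391 : act 0 n77327 = n80140 := (sb E53999 (iv1 D166953))
theorem F302392 : act 7 n77327 = n80238 := (sb E53999 F262816)
theorem E57826 : n178842 = n161331 := (((D161331).symm.trans (sb E54000 F278720))).symm
theorem E57827 : n164530 = n161332 := (((D161332).symm.trans (sb E54000 (iv2 F259340)))).symm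
theorem F302393 : act 6 n77449 = n55327 := (sb E54000 (iv6 D120232))
theorem F302396 : act 6 n121998 = n161920 := (sb E54004 (iv6 F281389))
theorem F302397 : act 4 n41476 = n36539 := (sb E54005 F112538)
theorem E57828 : n97045 = n88846 := ((((iv5 F136216)).symm.trans (sb E54005 F149711))).symm
theorem E57830 : n83839 = n16756 := ((((iv1 D34556)).symm.trans (sb E54006 F249737))).symm
theorem E57832 : n167079 = n75627 := ((((iv5 F113467)).symm.trans (sb E54007 D167079))).symm
theorem F302398 : act 6 n34588 = n36539 := (sb E54007 (iv6 D80212))
theorem F302399 : act 3 n35961 = n19630 := (sb E54008 F64352)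
theorem E57834 : n89264 = n75522 := ((((iv5 F113346)).symm.trans (sb E54008 D89264))).symm
theorem F302400 : act 6 n35961 = n19629 := (sb E54008 (iv6 D41705))
theorem E57835 : n89277 = n75523 := (((D75523).symm.trans (sb E54009 D89277))).symm
theorem F302401 : act 5 n34555 = n19630 := (sb E54009 (iv5 D41708))
theorem E57836 : n75524 = n75252 := ((D75524).symm.trans (sb E54009 (iv6 F112801)))
theorem E57837 : n167002 = n152604 := (((F239804).symm.trans (sb E54011 (iv1 F273768)))).symm
theorem E57838 : n174870 = n167081 := (((D167081).symm.trans (sb E54011 (iv0 F273767)))).symm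
theorem E57839 : n167082 = n47281 := ((D167082).symm.trans (sb E54011 (iv5 D101675)))
theorem E57840 : n174868 = n167083 := (((D167083).symm.trans (sb E54011 F286956))).symm
theorem E57841 : n174865 = n167088 := (((D167088).symm.trans (sb E54012 (iv3 F273762)))).symm
theorem E57842 : n157593 = n47111 := (((iv4 F248348)).symm.trans (sb E54012 (iv4 F155364)))
theorem E57843 : n167089 = n101643 := ((D167089).symm.trans (sb E54012 (iv5 F156558)))
theorem E57844 : n167090 = n38504 := ((D167090).symm.trans (sb E54012 (iv6 D83533)))
theorem E57845 : n167093 = n38630 := ((D167093).symm.trans (sb E54013 (iv1 D83885)))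
theorem E57846 : n167094 = n47283 := ((D167094).symm.trans (sb E54013 F128885))
theorem E57847 : n175720 = n167095 := (((D167095).symm.trans (sb E54013 D175720))).symm
theorem E57849 : n167096 = n47280 := ((D167096).symm.trans (sb E54013 (iv7 F286951)))
theorem F302403 : act 4 n41702 = n26391 := (sb E54018 (iv4 D54575))
theorem E57852 : n89259 = n73700 := ((D89259).symm.trans (sb E54018 (iv6 F110397)))
theorem E57853 : n173423 = n152586 := ((D173423).symm.trans (sb E54019 (iv1 F239773)))
theorem E57854 : n173426 = n84928 := ((D173426).symm.trans (sb E54019 F188126))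
theorem F302404 : act 4 n41703 = n26392 := (sb E54020 (iv4 D54579))
theorem E57856 : n118518 = n89260 := (((D89260).symm.trans (sb E54020 D118518))).symm
theorem F302405 : act 0 n60079 = n55306 := (sb E54021 (iv1 D120194))
theorem F302406 : act 3 n60079 = n82634 := (sb E54021 (iv3 F189849))
theorem E57857 : n127907 = n77363 := ((D127907).symm.trans (sb E54021 F189848))
theorem F302408 : act 4 n154151 = n82635 := (sb E54022 F270831)
theorem F302409 : act 6 n154151 = n82634 := (sb E54022 (iv6 D172606))
theorem E57858 : n131696 = n82640 := ((D131696).symm.trans (sb E57458 (iv1 F249084)))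
theorem E57859 : n131697 = n75317 := ((D131697).symm.trans (sb E57458 (iv0 D158136)))
theorem E57860 : n131537 = n75458 := (((iv4 F210790)).symm.trans (sb E57458 F249081))
theorem E57861 : n131699 = n82634 := ((D131699).symm.trans (sb E57458 F249085))
theorem E57862 : n133094 = n72064 := ((D133094).symm.trans (iv1 (sb E54024 (tr (iv0 D158302) E56300))))
theorem E57863 : n77813 = n29527 := (((D29527).symm.trans (iv1 (sb E54025 (tr (iv0 D158309) E56301))))).symm
theorem E57864 : n158309 = n29527 := (E54025).trans E57863
theorem E57865 : n80379 = n28984 := ((((iv2 F98839)).symm.trans (sb E57864 (iv2 F249420)))).symm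
theorem E57867 : n80339 = n80336 := (((F249422).symm.trans (sb E54026 (iv1 F263534)))).symm
theorem F302413 : act 1 n36591 = n80190 := (sb E54028 (iv0 F193768))
theorem F302414 : act 0 n77474 = n80374 := (sb E54029 F123484)
theorem F302415 : act 4 n77474 = n38783 := (sb E54029 (iv4 F123054))
theorem E57873 : n120869 = n33925 := ((((iv6 F53278)).symm.trans (sb E54054 D120869))).symm
theorem F302417 : act 2 n60082 = n55306 := (sb E54059 F108269)
theorem F302418 : act 3 n60082 = n33194 := (sb E54059 F108270)
theorem E57876 : n127914 = n33193 := (((iv5 F205822)).symm.trans (sb E54059 (iv5 D71814)))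
theorem E57877 : n152240 = n80528 := (((F188365).symm.trans (sb E54059 D152240))).symm
theorem F302419 : act 3 n60140 = n55307 := (sb E54061 F189851)
theorem F302420 : act 6 n60140 = n55306 := (sb E54061 (iv6 D120195))
theorem E57881 : n118811 = n60113 := (((D60113).symm.trans (sb E54062 (iv6 F191009)))).symm
theorem F302421 : act 1 n158694 = n173810 := (sb E54065 F272402)
theorem F302422 : act 4 n158694 = n78192 := (sb E54065 (iv4 D162717))
theorem F302423 : act 5 n158694 = n173857 := (sb E54065 (iv5 F272499))
theorem F302425 : act 0 n83459 = n80442 := (sb E54066 (iv1 F249894))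
theorem F302426 : act 0 n158862 = n173838 := (sb E54067 (iv1 F272437))
theorem F302427 : act 5 n158862 = n78207 := (sb E54067 (iv5 D162746))
theorem F302429 : act 6 n100810 = n72381 := (sb E54068 (iv6 D153255))
theorem E57882 : n160105 = n41716 := ((((iv1 D89308)).symm.trans (sb E54070 (iv1 F252696)))).symm
theorem F302430 : act 3 n89308 = n55361 := (sb E54070 (iv3 D120298))
theorem F302431 : act 5 n89308 = n123815 := (sb E54070 (iv5 F198279))
theorem F302432 : act 0 n120299 = n56771 := (sb E54072 (iv1 D122458))
theorem F302433 : act 3 n120299 = n101068 := (sb E54072 (iv3 F195919))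
theorem F302434 : act 4 n120299 = n167758 := (sb E54072 (iv4 F264100))
theorem F302435 : act 7 n120299 = n82002 := (sb E54072 F195920)
theorem F302436 : act 1 n120304 = n179683 := (sb E54081 (iv0 F279894))
theorem F302437 : act 4 n120308 = n179789 := (sb E54087 (iv4 F280022))
theorem F302438 : act 0 n120312 = n56754 := (sb E54090 (iv1 D122451))
theorem F302439 : act 1 n120312 = n177789 := (sb E54090 (iv0 F277283))
theorem F302440 : act 4 n120312 = n80357 := (sb E54090 (iv4 F195903))
theorem F302441 : act 7 n120312 = n81980 := (sb E54090 F195900)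
theorem F302442 : act 2 n85871 = n55471 := (sb E54091 F191592)
theorem F302443 : act 4 n85871 = n55368 := (sb E54091 (iv4 D120317))
theorem E57883 : n125132 = n57775 := (((iv7 F250623)).symm.trans (sb E54091 (iv7 F191594)))
theorem F302444 : act 4 n45993 = n75315 := (sb E54094 F249078)
theorem F302445 : act 6 n45993 = n75314 := (sb E54094 (iv6 D158131))
theorem F302446 : act 1 n47128 = n75315 := (sb E54095 (iv0 D158132))
theorem F302447 : act 0 n37560 = n75315 := (sb E54096 (iv1 D158133))
theorem F302448 : act 5 n55617 = n75315 := (sb E54097 (iv5 D158134))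
theorem E57884 : n119653 = n101598 := (((iv6 F188730)).symm.trans (sb E54097 F249079))
theorem F302449 : act 7 n87976 = n75315 := (sb E54098 (iv7 D158135))
theorem F302450 : act 4 n100045 = n75319 := (sb E54099 F249094)
theorem F302451 : act 6 n100045 = n75318 := (sb E54099 (iv6 D158139))
theorem F302454 : act 5 n162718 = n172060 := (sb E54102 F270546)
theorem F302455 : act 1 n160636 = n82522 := (sb E54103 (iv0 D172308))
theorem F302458 : act 0 n162701 = n82522 := (sb E54104 (iv1 D172309))
theorem F302461 : act 5 n162988 = n82522 := (sb E54105 (iv5 D172311))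
theorem E57885 : n72382 = n71748 := (((D71748).symm.trans (sb E54106 (iv1 D153257)))).symm
theorem F302462 : act 3 n35370 = n72385 := (sb E54107 F240759)
theorem E57886 : n152136 = n35370 := ((D152136).symm.trans (iv5 (sb E54107 (tr (iv5 D153258) E57885))))
theorem E57887 : n86477 = n72390 := (((D72390).symm.trans (sb E54108 F249581))).symm
theorem E57888 : n86476 = n72394 := (((D72394).symm.trans (sb E54109 (iv5 F132624)))).symm
theorem E57890 : n80256 = n72374 := (((D72374).symm.trans (sb E54110 (iv5 F127143)))).symm
theorem E57891 : n81597 = n72397 := (((D72397).symm.trans (sb E54111 F132395))).symm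
theorem F302463 : act 4 n78064 = n72385 := (sb E54112 (iv4 D153260))
theorem E57893 : n81616 = n73291 := (((iv5 F125530)).symm.trans (sb E54112 F240764))
theorem F302464 : act 3 n100809 = n71037 := (sb E54114 (iv3 D150665))
theorem F302465 : act 7 n100809 = n72624 := (sb E54114 F237208)
theorem F302466 : act 1 n37289 = n72396 := (sb E54115 F108895)
theorem F302467 : act 5 n37289 = n33389 := (sb E54115 F108800)
theorem E57895 : n81601 = n73299 := ((D81601).symm.trans (sb E54115 (iv6 F185288)))
theorem E57896 : n74847 = n37227 := (((F77346).symm.trans (sb E54120 (iv4 F243037)))).symm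
theorem E57897 : n133761 = n106006 := (((D106006).symm.trans (sb E54120 (iv6 F215334)))).symm
theorem E57898 : n166311 = n151747 := (((F238652).symm.trans (sb E54121 F261888))).symm
theorem E57899 : n168144 = n70734 := ((D168144).symm.trans (sb E54121 F201175))
theorem F302468 : act 3 n80707 = n70829 := (sb E54121 F124891)
theorem E57900 : n168145 = n125180 := ((D168145).symm.trans (sb E54121 (iv5 F201226)))
theorem E57901 : n168146 = n166312 := ((D168146).symm.trans (sb E54121 (iv7 F261900)))
theorem E57902 : n96494 = n60096 := (((D60096).symm.trans (sb E54123 (iv4 F148602)))).symm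
theorem E57904 : n76563 = n60123 := ((D76563).symm.trans (sb E54124 F191010))
theorem E57905 : n165105 = n131740 := ((((iv4 F211087)).symm.trans (sb E54125 D165105))).symm
theorem F302471 : act 5 n62914 = n36846 := (sb E54125 (iv5 F121927))
theorem F302472 : act 6 n28586 = n36846 := (sb E54126 (iv6 D80706))
theorem E57908 : n84342 = n62800 := (((iv4 F129403)).symm.trans (sb E54127 (iv4 F191046)))
theorem E57909 : n168147 = n62799 := ((D168147).symm.trans (sb E54127 F191044))
theorem F302473 : act 0 n60335 = n36848 := (sb E54128 (iv1 D80709))
theorem E57910 : n128319 = n40129 := (((iv3 F206440)).symm.trans (sb E54128 (iv3 F124177)))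
theorem E57911 : n128335 = n123505 := ((D128335).symm.trans (sb E54128 (iv4 F197926)))
theorem E57912 : n168148 = n128334 := ((((iv6 F206451)).symm.trans (sb E54128 D168148))).symm
theorem E57913 : n37228 = n32170 := (((iv1 F71124)).symm.trans (sb E54129 (iv1 D69170)))
theorem E57914 : n74874 = n21551 := ((((iv0 D45137)).symm.trans (sb E54129 F112384))).symm
theorem E57915 : n117578 = n76732 := ((((iv3 F115107)).symm.trans (sb E54129 (iv3 F243040)))).symm
theorem E57916 : n69010 = n55637 := ((((iv5 F88019)).symm.trans (sb E54129 (iv5 F105453)))).symm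
theorem E57917 : n147586 = n96654 := (((D96654).symm.trans (sb E54129 D147586))).symm
theorem E57918 : n168149 = n133762 := ((D168149).symm.trans (sb E54130 (iv1 F215348)))
theorem E57919 : n168150 = n61586 := ((D168150).symm.trans (sb E54130 (iv0 F191397)))
theorem E57920 : n168151 = n125182 := ((D168151).symm.trans (sb E54130 (iv5 F201241)))
theorem E57921 : n168152 = n130844 := ((D168152).symm.trans (sb E54130 (iv7 F209413)))
theorem E57922 : n169048 = n168153 := (((D168153).symm.trans (sb E54131 D169048))).symm
theorem E57923 : n169049 = n158477 := ((((iv4 F249679)).symm.trans (sb E54131 D169049))).symm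
theorem E57924 : n168154 = n60347 := ((D168154).symm.trans (sb E54131 F201164))
theorem E57925 : n168155 = n149368 := ((D168155).symm.trans (sb E54131 (iv6 F234851)))
theorem E57926 : n149767 = n76565 := ((((iv3 F233100)).symm.trans (sb E54132 F261890))).symm
theorem E57927 : n169050 = n158452 := ((((iv4 F249658)).symm.trans (sb E54132 D169050))).symm
theorem E57928 : n168156 = n60348 := ((D168156).symm.trans (sb E54132 F261891))
theorem F302474 : act 5 n58546 = n36849 := (sb E54133 (iv5 D80713))
theorem F302475 : act 4 n79860 = n75713 := (sb E54134 F124183)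
theorem F302476 : act 7 n79860 = n36849 := (sb E54134 (iv7 D80714))
theorem E57936 : n147559 = n72622 := ((((iv3 F297030)).symm.trans (sb E54135 (iv3 F231348)))).symm
theorem E57937 : n82738 = n32167 := ((D82738).symm.trans (sb E54135 (iv5 D69157)))
theorem E57938 : n147563 = n82739 := (((D82739).symm.trans (sb E54135 (iv6 F231350)))).symm
theorem F302477 : act 0 n69195 = n82500 := (sb E54136 (iv1 F298370))
theorem E57939 : n147641 = n46186 := (((iv3 F231412)).symm.trans (sb E54136 (iv3 D98761)))
theorem E57940 : n146994 = n32181 := ((((iv5 D69195)).symm.trans (sb E54136 F296764))).symm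
theorem E57941 : n73293 = n55638 := (((F192394).symm.trans (sb E54137 (iv4 D154618)))).symm
theorem F302478 : act 4 n153268 = n82502 := (sb E54138 (iv4 D172249))
theorem F302479 : act 5 n128270 = n82502 := (sb E54139 (iv5 D172250))
theorem F302482 : act 4 n75043 = n82503 := (sb E54141 (iv4 D172254))
theorem F302483 : act 5 n128271 = n82503 := (sb E54142 (iv5 D172255))
theorem F302484 : act 6 n75041 = n82503 := (sb E54143 (iv6 D172256))
theorem F302485 : act 0 n124768 = n82504 := (sb E54144 (iv1 D172258))
theorem E57942 : n176260 = n58333 := ((((iv5 D124768)).symm.trans (sb E54144 (iv5 F275540)))).symm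
theorem F302486 : act 5 n128092 = n69166 := (sb E54146 (iv5 D147581))
theorem F302487 : act 5 n158336 = n162710 := (sb E54148 F270347)
theorem F302488 : act 3 n153594 = n75501 := (sb E54149 (iv3 D158337))
theorem F302489 : act 7 n153594 = n82592 := (sb E54149 F249467)
theorem F302490 : act 0 n158339 = n82457 := (sb E54151 (iv1 D172183))
theorem F302491 : act 1 n158340 = n82457 := (sb E54152 (iv0 D172182))
theorem F302492 : act 4 n158346 = n178122 := (sb E54166 (iv4 F277677))
theorem E57952 : n135466 = n80138 := (((D80138).symm.trans (sb E54182 D135466))).symm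
theorem E57953 : n80139 = n61234 := ((D80139).symm.trans (sb E54182 F98993))
theorem E57955 : n80132 = n30045 := (E57804).trans E57807
theorem F302493 : act 5 n14260 = n17618 := (sb E54183 (iv5 D36498))
theorem E57957 : n62476 = n35505 := ((((iv4 F56188)).symm.trans (sb E54184 (iv4 D133162)))).symm
theorem E57958 : n63280 = n54569 := (((D54569).symm.trans (sb E54188 F186599))).symm
theorem E57959 : n56439 = n30047 := ((D56439).symm.trans (sb E54189 (iv1 F48264)))
theorem E57960 : n56440 = n30046 := ((D56440).symm.trans (sb E54189 F48267))
theorem F302494 : act 4 n27167 = n54624 := (sb E54189 (iv4 F86340))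
theorem F302495 : act 5 n27167 = n30048 := (sb E54189 (iv5 F48266))
theorem E57961 : n56442 = n14201 := ((D56442).symm.trans (sb E54189 (iv7 D29905)))
theorem E57962 : n134701 = n77467 := (((D77467).symm.trans (sb E54191 F216705))).symm
theorem E57963 : n129587 = n77469 := (((D77469).symm.trans (sb E54191 (iv5 F207764)))).symm
theorem E57965 : n131237 = n55056 := (((D55056).symm.trans (sb E54192 F236624))).symm
theorem E57966 : n56074 = n29446 := ((D56074).symm.trans (sb E54193 F186349))
theorem E57967 : n60946 = n56075 := (((D56075).symm.trans (sb E54193 F186350))).symm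
theorem F302496 : act 4 n27045 = n29155 := (sb E54193 (iv4 D61576))
theorem E57968 : n131238 = n56076 := (((D56076).symm.trans (sb E54193 D131238))).symm
theorem E57969 : n60943 = n56077 := (((D56077).symm.trans (sb E54193 F209596))).symm
theorem E57970 : n167008 = n130474 := ((D167008).symm.trans (sb E54195 F208976))
theorem E57971 : n167010 = n133133 := ((D167010).symm.trans (sb E54195 (iv5 F213836)))
theorem E57972 : n167011 = n130073 := ((D167011).symm.trans (sb E54195 (iv7 F208546)))
theorem E57973 : n130074 = n119403 := (((D119403).symm.trans (sb E54196 F266082))).symm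
theorem E57976 : n167014 = n130075 := (((D130075).symm.trans (sb E54197 D167014))).symm
theorem F302497 : act 6 n61075 = n36516 := (sb E54197 (iv6 D80173))
theorem F302498 : act 0 n8866 = n16163 := (sb E54203 (iv1 F190404))
theorem E57979 : n71743 = n10442 := ((((iv2 F16630)).symm.trans (sb E54203 D71743))).symm
theorem F302499 : act 3 n8866 = n15994 := (sb E54203 (iv3 D33166))
theorem E57980 : n71745 = n18910 := (((D18910).symm.trans (sb E54203 D71745))).symm
theorem E57981 : n79393 = n71746 := (((D71746).symm.trans (sb E54204 D79393))).symm
theorem F302500 : act 4 n33167 = n34567 := (sb E54204 F56891)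
theorem E57983 : n79395 = n55084 := ((((iv5 F87114)).symm.trans (sb E54204 D79395))).symm
theorem E57984 : n79396 = n71747 := (((D71747).symm.trans (sb E54204 D79396))).symm
theorem F302501 : act 4 n75555 = n61824 := (sb E54205 F211077)
theorem E57985 : n158407 = n132899 := ((D158407).symm.trans (sb E54205 (iv5 F213476)))
theorem E57986 : n158408 = n133145 := ((D158408).symm.trans (sb E54205 F213874))
theorem F302502 : act 4 n75556 = n61759 := (sb E54206 F208954)
theorem E57987 : n158412 = n132900 := ((D158412).symm.trans (sb E54206 F213479))
theorem E57988 : n158413 = n61205 := ((D158413).symm.trans (sb E54206 (iv6 D130445)))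
theorem E57989 : n158414 = n130181 := ((D158414).symm.trans (sb E54207 F211079))
theorem F302503 : act 0 n33584 = n18918 := (sb E54209 (iv1 F56884))
theorem F302504 : act 1 n33584 = n17478 := (sb E54209 (iv0 D36150))
theorem F302505 : act 7 n33584 = n37221 := (sb E54209 (iv7 F58175))
theorem F302506 : act 0 n33742 = n17478 := (sb E54210 (iv1 D36151))
theorem F302507 : act 1 n33742 = n18918 := (sb E54210 F56885)
theorem F302508 : act 2 n33742 = n37221 := (sb E54210 (iv2 F58174))
theorem E57992 : n73416 = n73329 := ((((iv3 F109817)).symm.trans (sb E54210 (iv3 F110117)))).symm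
theorem E57993 : n79388 = n72806 := ((((iv6 F110018)).symm.trans (sb E54210 D79388))).symm
theorem F302509 : act 0 n21888 = n16295 := (sb E54211 (iv1 F110036))
theorem E57994 : n45778 = n16251 := ((D45778).symm.trans (sb E54211 (iv6 D33612)))
theorem F302510 : act 4 n26619 = n19352 := (sb E54212 F56889)
theorem E57997 : n79391 = n55079 := (((D55079).symm.trans (sb E54212 D79391))).symm
theorem F302511 : act 6 n26619 = n17478 := (sb E54212 (iv6 D36152))
theorem E57999 : n72772 = n10757 := (((D10757).symm.trans (sb E54214 (iv6 D153848)))).symm
theorem E58001 : n72773 = n19354 := (((D19354).symm.trans (sb E54215 (iv6 D153850)))).symm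
theorem E58002 : n19355 = n16223 := ((D19355).symm.trans (sb E54216 (iv1 D33572)))
theorem E58003 : n19356 = n16285 := ((D19356).symm.trans (sb E54216 F52865))
theorem E58004 : n72774 = n19357 := (((D19357).symm.trans (sb E54216 D72774))).symm
theorem E58006 : n162938 = n18968 := (((D18968).symm.trans (sb E54218 (iv6 F257293)))).symm
theorem E58007 : n73020 = n47141 := (((D47141).symm.trans (sb E54219 F241713))).symm
theorem E58008 : n153291 = n47142 := (((D47142).symm.trans (sb E54219 F241710))).symm
theorem E58009 : n72770 = n47143 := (((D47143).symm.trans (sb E54219 (iv7 D153843)))).symm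
theorem E58010 : n57658 = n47154 := (((D47154).symm.trans (sb E54222 (iv1 F190751)))).symm
theorem E58011 : n47155 = n16272 := ((D47155).symm.trans (sb E54222 (iv0 F190752)))
theorem E58012 : n72902 = n47156 := (((D47156).symm.trans (sb E54222 D72902))).symm
theorem E58013 : n57656 = n47157 := (((D47157).symm.trans (sb E54222 (iv7 F191179)))).symm
theorem F302512 : act 1 n33664 = n19352 := (sb E54223 (iv0 D41133))
theorem E58014 : n73054 = n41657 := (((iv3 F109582)).symm.trans (sb E54223 F184701))
theorem E58015 : n86602 = n73057 := ((((iv4 F109583)).symm.trans (sb E54223 (iv4 F232373)))).symm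
theorem E58016 : n88093 = n73077 := ((((iv5 F109592)).symm.trans (sb E54223 D88093))).symm
theorem F302513 : act 0 n27543 = n19352 := (sb E54224 (iv1 D41134))
theorem E58018 : n88096 = n57652 := ((((iv3 F90816)).symm.trans (sb E54224 D88096))).symm
theorem E58020 : n88098 = n57657 := (((D57657).symm.trans (sb E54224 D88098))).symm
theorem E58021 : n88103 = n72921 := ((D88103).symm.trans (sb E54225 (iv7 F190765)))
theorem F302514 : act 7 n33615 = n19352 := (sb E54226 (iv7 D41136))
theorem F302515 : act 0 n122303 = n57538 := (sb E54227 (iv1 F197834))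
theorem F302516 : act 5 n122303 = n81804 := (sb E54227 F197833)
theorem F302517 : act 1 n122304 = n57538 := (sb E54228 F197837)
theorem F302518 : act 5 n122304 = n81805 := (sb E54228 F197839)
theorem F302523 : act 6 n160426 = n170845 := (sb E54237 F280983)
theorem F302524 : act 6 n76183 = n79593 := (sb E54239 (iv6 D165719))
theorem E58023 : n121066 = n120905 := (((iv0 F193082)).symm.trans (sb E54240 F261078))
theorem F302527 : act 0 n124212 = n58683 := (sb E54246 (iv1 D125316))
theorem F302528 : act 5 n124212 = n86213 := (sb E54246 (iv5 F201562))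
theorem F302529 : act 7 n124212 = n86213 := (sb E54246 (iv7 F280956))
theorem F302530 : act 0 n120654 = n162858 := (sb E54249 F267666)
theorem F302531 : act 5 n120654 = n166619 := (sb E54249 F267665)
theorem F302532 : act 6 n163523 = n79633 := (sb E54254 (iv6 D165809))
theorem F302535 : act 2 n35508 = n35256 := (sb E54263 (iv2 F91283))
theorem F302536 : act 5 n35508 = n17637 := (sb E54263 (iv5 D36556))
theorem F302538 : act 4 n121175 = n78596 := (sb E54268 F257840)
theorem F302539 : act 1 n76173 = n77836 := (sb E54271 F197580)
theorem F302540 : act 6 n76173 = n121283 := (sb E54271 (iv6 F193399))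
theorem E58032 : n178055 = n124225 := (((D124225).symm.trans (sb E54273 D178055))).symm
theorem E58033 : n178056 = n124226 := (((D124226).symm.trans (sb E54273 D178056))).symm
theorem E58034 : n177995 = n124227 := (((D124227).symm.trans (sb E54273 F277540))).symm
theorem F302541 : act 0 n124210 = n177792 := (sb E54278 F277587)
theorem F302542 : act 1 n124210 = n177795 := (sb E54278 F277588)
theorem F302543 : act 2 n124210 = n178130 := (sb E54278 F277694)
theorem F302544 : act 7 n124210 = n178129 := (sb E54278 F277690)
theorem F302545 : act 6 n124214 = n86084 := (sb E54279 F277591)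
theorem F302546 : act 7 n124214 = n166155 := (sb E54279 F277592)
theorem F302547 : act 0 n124215 = n177795 := (sb E54280 F277593)
theorem F302548 : act 1 n124215 = n177792 := (sb E54280 F277594)
theorem F302549 : act 2 n124215 = n178129 := (sb E54280 F277689)
theorem F302550 : act 7 n124215 = n178130 := (sb E54280 (iv7 F277692))
theorem F302552 : act 0 n123312 = n171065 := (sb E54285 F277675)
theorem E58037 : n180238 = n166148 := (((D166148).symm.trans (sb E54287 D180238))).symm
theorem E58038 : n180235 = n166149 := (((D166149).symm.trans (sb E54287 (iv2 F280565)))).symm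
theorem E58040 : n118823 = n117878 := (((iv3 F232514)).symm.trans (sb E54289 (iv3 F184850)))
theorem F302553 : act 0 n163482 = n180342 := (sb E54290 F280650)
theorem F302554 : act 5 n163482 = n86066 := (sb E54290 (iv5 D180135))
theorem F302555 : act 5 n180034 = n86578 := (sb E54291 (iv5 D181324))
theorem F302559 : act 6 n120972 = n78416 := (sb E54300 (iv6 D163097))
theorem F302560 : act 1 n119508 = n128137 := (sb E54304 (iv0 F272362))
theorem F302561 : act 2 n119508 = n128140 := (sb E54304 F206270)
theorem F302562 : act 3 n119508 = n77024 := (sb E54304 F192726)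
theorem F302563 : act 2 n158676 = n83117 := (sb E54305 F253740)
theorem F302564 : act 5 n158676 = n77024 := (sb E54305 (iv5 D160633))
theorem F302565 : act 7 n158676 = n83126 := (sb E54305 F253741)
theorem F302566 : act 6 n124412 = n82905 := (sb E54306 (iv6 D173246))
theorem F302567 : act 0 n124413 = n75691 := (sb E54307 (iv1 F249835))
theorem F302568 : act 1 n124413 = n75687 := (sb E54307 (iv0 D158675))
theorem E58042 : n177608 = n159266 := (((D159266).symm.trans (sb E54313 (iv0 F277073)))).symm
theorem F302570 : act 7 n76198 = n55773 := (sb E54313 (iv7 D120926))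
theorem E58043 : n177231 = n40143 := (((E56198).symm.trans ((D78343).symm.trans (sb E54315 D177231)))).symm
theorem E58044 : n177232 = n78344 := (((D78344).symm.trans (sb E54315 D177232))).symm
theorem E58045 : n177228 = n78339 := ((((iv2 F119556)).symm.trans (sb E54315 (iv2 F276615)))).symm
theorem F302572 : act 4 n35707 = n38934 := (sb E54315 (iv4 D84441))
theorem E58047 : n177220 = n131090 := ((D177220).symm.trans (sb E54317 F257171))
theorem E58048 : n177221 = n148940 := ((D177221).symm.trans (sb E54317 (iv5 F257176)))
theorem E58049 : n177223 = n106015 := ((D177223).symm.trans (sb E54317 (iv7 F257175)))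
theorem E58050 : n177225 = n55003 := ((D177225).symm.trans (sb E54318 F188531))
theorem E58051 : n177226 = n148941 := ((D177226).symm.trans (sb E54318 F234013))
theorem E58052 : n177227 = n55001 := ((D177227).symm.trans (sb E54318 (iv6 D119548)))
theorem E58054 : n165616 = n39852 := (((D39852).symm.trans (sb E54333 (iv5 F260897)))).symm
theorem F302574 : act 1 n18862 = n36236 := (sb E54334 (iv0 D79568))
theorem E58062 : n164818 = n84587 := (((D84587).symm.trans (sb E54341 D164818))).symm
theorem F302575 : act 6 n39068 = n36060 := (sb E54341 F120473)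
theorem F302577 : act 0 n77870 = n77598 := (sb E54349 (iv1 F119189))
theorem F302578 : act 1 n77870 = n77597 := (sb E54349 F119190)
theorem F302583 : act 6 n167499 = n161426 := (sb E54355 F263771)
theorem F302586 : act 6 n77494 = n80381 := (sb E54357 F254138)
theorem F302587 : act 1 n162087 = n161564 := (sb E54358 F256472)
theorem F302588 : act 4 n162087 = n161538 := (sb E54358 F256468)
theorem F302589 : act 7 n162087 = n77978 := (sb E54358 (iv7 D162327))
theorem F302590 : act 5 n162324 = n83349 := (sb E54359 F273210)
theorem F302592 : act 0 n80322 = n77327 := (sb E54360 (iv1 F249206))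
theorem F302594 : act 4 n121557 = n77733 := (sb E54361 (iv4 D161854))
theorem F302598 : act 7 n124188 = n84658 := (sb E54365 (iv7 D177800))
theorem F302599 : act 0 n124189 = n84804 := (sb E54366 (iv1 F277316))
theorem F302600 : act 1 n124189 = n84803 := (sb E54366 F277317)
theorem F302601 : act 2 n124189 = n84807 := (sb E54366 F277313)
theorem F302602 : act 4 n124189 = n84725 := (sb E54366 F277314)
theorem F302603 : act 7 n124189 = n84659 := (sb E54366 (iv7 D177805))
theorem F302604 : act 2 n124251 = n84779 := (sb E54367 F277278)
theorem F302605 : act 6 n124251 = n84652 := (sb E54367 (iv6 D177788))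
theorem F302606 : act 4 n121299 = n157875 := (sb E54368 F256397)
theorem F302607 : act 6 n121299 = n77946 := (sb E54368 (iv6 D162245))
theorem F302608 : act 7 n58703 = n36236 := (sb E54372 (iv7 D79572))
theorem F302609 : act 0 n54276 = n36236 := (sb E54373 (iv1 D79569))
theorem F302610 : act 4 n77246 = n83284 := (sb E54393 F260856)
theorem F302611 : act 4 n162114 = n169901 := (sb E54397 (iv4 F267328))
theorem F302613 : act 4 n162118 = n161679 := (sb E54398 F256517)
theorem F302615 : act 6 n78398 = n79598 := (sb E54400 (iv6 D165733))
theorem F302616 : act 0 n162242 = n78799 := (sb E54404 (iv1 D164018))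
theorem F302617 : act 1 n162243 = n78799 := (sb E54405 (iv0 D164017))
theorem F302618 : act 0 n162244 = n78801 := (sb E54406 (iv1 F258481))
theorem F302619 : act 1 n162244 = n78800 := (sb E54406 F258482)
theorem F302620 : act 7 n162244 = n78799 := (sb E54406 (iv7 D164020))
theorem E58088 : n162808 = n160372 := (((D160372).symm.trans (sb E54409 (iv3 F257089)))).symm
theorem F302622 : act 6 n76875 = n78876 := (sb E54409 F198955)
theorem F302623 : act 4 n123014 = n76954 := (sb E54412 F253537)
theorem F302624 : act 7 n123014 = n159246 := (sb E54412 F253538)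
theorem F302625 : act 7 n123015 = n159247 := (sb E54413 F253539)
theorem F302626 : act 4 n58216 = n122316 := (sb E54414 (iv4 F195582))
theorem F302627 : act 6 n58216 = n55796 := (sb E54414 (iv6 D120980))
theorem F302628 : act 7 n123484 = n58022 := (sb E54416 F198835)
theorem F302630 : act 2 n123317 = n58020 := (sb E54418 F198836)
theorem F302631 : act 7 n123317 = n58002 := (sb E54418 F198837)
theorem F302632 : act 2 n123323 = n58022 := (sb E54419 F198842)
theorem F302633 : act 6 n123323 = n86171 := (sb E54419 F198843)
theorem F302644 : act 0 n106015 = n84440 := (sb E54441 (iv1 F276314))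
theorem F302645 : act 1 n106015 = n84348 := (sb E54441 (iv0 D176971))
theorem E58090 : n120875 = n49015 := ((D120875).symm.trans (sb E54442 F191330))
theorem E58091 : n162933 = n120877 := (((D120877).symm.trans (sb E54442 (iv2 F257273)))).symm
theorem E58092 : n145289 = n120878 := (((D120878).symm.trans (sb E54442 (iv5 F228299)))).symm
theorem F302646 : act 7 n55737 = n35707 := (sb E54442 (iv7 D78346))
theorem F302648 : act 1 n165714 = n86190 := (sb E54443 F280879)
theorem F302650 : act 6 n165714 = n163053 := (sb E54443 F280883)
theorem F302653 : act 0 n123340 = n159247 := (sb E54451 F277699)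
theorem F302654 : act 5 n123340 = n84797 := (sb E54451 (iv5 D178141))
theorem E58093 : n180157 = n165614 := (((D165614).symm.trans (sb E54453 (iv5 F280511)))).symm
theorem F302655 : act 6 n79546 = n86189 := (sb E54453 F201496)
theorem F302656 : act 7 n79546 = n80611 := (sb E54453 F201497)
theorem E58095 : n180158 = n165618 := (((D165618).symm.trans (sb E54454 D180158))).symm
theorem E58098 : n165627 = n162822 := ((((iv2 F257096)).symm.trans (sb E54455 D165627))).symm
theorem F302658 : act 4 n78269 = n83467 := (sb E54455 (iv4 F128573))
theorem F302659 : act 4 n125287 = n84777 := (sb E54459 F260119)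
theorem F302660 : act 7 n123320 = n84779 := (sb E54465 (iv7 D178106))
theorem F302661 : act 0 n123502 = n84794 := (sb E54466 F277686)
theorem F302662 : act 1 n121268 = n84779 := (sb E54468 (iv0 D178103))
theorem F302663 : act 0 n163959 = n84779 := (sb E54469 (iv1 D178104))
theorem F302664 : act 3 n163873 = n84779 := (sb E54470 F277636)
theorem F302665 : act 6 n163873 = n84777 := (sb E54470 (iv6 D178099))
theorem F302666 : act 4 n39260 = n26906 := (sb E54473 (iv4 D55743))
theorem F302667 : act 0 n55757 = n35156 := (sb E54477 F88355)
theorem F302668 : act 2 n55757 = n35717 := (sb E54477 F88353)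
theorem E58106 : n121065 = n120904 := (((D120904).symm.trans (sb E54477 D121065))).symm
theorem F302669 : act 6 n55757 = n84844 := (sb E54477 (iv6 F130044))
theorem F302670 : act 7 n55757 = n36395 := (sb E54477 F88354)
theorem F302671 : act 6 n39055 = n79704 := (sb E54486 (iv6 F257068))
theorem E58108 : n119496 = n36368 := (((D36368).symm.trans (sb E54490 (iv0 F188284)))).symm
theorem E58113 : n54337 = n33024 := ((D54337).symm.trans (sb E54492 F107865))
theorem E58114 : n151391 = n54338 := (((D54338).symm.trans (sb E54492 (iv4 F238112)))).symm
theorem F302672 : act 6 n26265 = n33022 := (sb E54492 (iv6 D71369))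
theorem F302673 : act 0 n55490 = n80351 := (sb E54497 (iv1 D167444))
theorem F302674 : act 1 n55490 = n84717 := (sb E54497 F263585)
theorem F302675 : act 7 n55490 = n99986 := (sb E54497 F263586)
theorem F302677 : act 5 n124555 = n80569 := (sb E54498 (iv5 D167870))
theorem F302678 : act 5 n124557 = n80573 := (sb E54500 (iv5 D167885))
theorem E58116 : n144180 = n103081 := ((D144180).symm.trans (sb E54502 F158368))
theorem F302679 : act 3 n67545 = n44794 := (sb E54502 F147601)
theorem E58117 : n144182 = n44789 := ((D144182).symm.trans (sb E54502 (iv5 D95975)))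
theorem E58118 : n144183 = n48063 := ((D144183).symm.trans (sb E54502 (iv7 F147602)))
theorem F302681 : act 6 n95990 = n51167 := (sb E54503 (iv6 D110977))
theorem E58119 : n144009 = n44793 := ((D144009).symm.trans (sb E54504 (iv5 D95988)))
theorem F302682 : act 6 n67471 = n44794 := (sb E54504 F147622)
theorem F302683 : act 3 n24899 = n48067 := (sb E54507 (iv3 D103828))
theorem F302684 : act 3 n91271 = n51171 := (sb E54508 F172021)
theorem F302685 : act 6 n91271 = n66941 := (sb E54508 F172022)
theorem F302686 : act 6 n24898 = n48067 := (sb E54509 (iv6 D103830))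
theorem F302687 : act 3 n103618 = n51172 := (sb E54510 F172023)
theorem F302688 : act 6 n103618 = n107504 := (sb E54510 F172024)
theorem E58120 : n144014 = n43929 := ((D144014).symm.trans (sb E54513 (iv6 D93992)))
theorem F302689 : act 2 n67572 = n43941 := (sb E54515 F144841)
theorem E58121 : n144269 = n114358 := ((D144269).symm.trans (sb E54515 (iv5 F205509)))
theorem E58122 : n144238 = n43939 := (((iv6 F226929)).symm.trans (sb E54515 (iv6 D94010)))

end Cfsg.Agent.Helper17.ONTC
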