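import Cfsg.Agent.Helper17.ONTC.Facts36

set_option autoImplicit false
set_option linter.all false

noncomputable section

namespace Cfsg.Agent.Helper17.ONTC

theorem E58123 : n144236 = n44797 := ((D144236).symm.trans (sb E54516 (iv1 F144798)))
theorem E58124 : n144237 = n44730 := ((D144237).symm.trans (sb E54516 F157267))
theorem F302690 : act 2 n67562 = n43928 := (sb E54516 (iv2 D93987))
theorem E58125 : n144187 = n44787 := (((iv3 F226891)).symm.trans (sb E54516 F144792))
theorem E58126 : n144239 = n44798 := ((D144239).symm.trans (sb E54516 F144794))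
theorem F302691 : act 5 n67474 = n43928 := (sb E54517 (iv5 D93988))
theorem E58127 : n144022 = n44799 := ((D144022).symm.trans (sb E54517 F144803))
theorem E58128 : n150058 = n120365 := (((D120365).symm.trans (sb E54524 D150058))).symm
theorem E58129 : n120366 = n118173 := ((D120366).symm.trans (sb E54525 (iv6 F185690)))
theorem E58131 : n120371 = n118170 := ((((iv0 F185685)).symm.trans (sb E54526 D120371))).symm
theorem F302699 : act 3 n54449 = n26769 := (sb E54526 F87706)
theorem E58132 : n120372 = n118204 := ((((iv5 F185742)).symm.trans (sb E54526 D120372))).symm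
theorem F302700 : act 6 n54449 = n26767 := (sb E54526 (iv6 D55409))
theorem F302701 : act 7 n55413 = n27261 := (sb E54527 (iv7 D56737))
theorem F302702 : act 7 n57009 = n122350 := (sb E54528 F195871)
theorem F302703 : act 5 n71445 = n88817 := (sb E54530 (iv5 D186476))
theorem E58134 : n181750 = n170597 := (((D170597).symm.trans (sb E54531 F282926))).symm
theorem F302704 : act 6 n81773 = n77726 := (sb E54531 (iv6 D161844))
theorem E58135 : n131545 = n75459 := (((F113247).symm.trans (sb E54540 (iv4 F210794)))).symm
theorem E58136 : n82641 = n62441 := ((D82641).symm.trans (sb E54540 (iv6 F97315)))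
theorem F302705 : act 7 n37973 = n29288 := (sb E54540 (iv7 D61797))
theorem F302706 : act 6 n29526 = n18185 := (sb E54541 (iv6 D37975))
theorem F302707 : act 3 n16993 = n26324 := (sb E54542 (iv3 D54429))
theorem E58140 : n118148 = n35009 := (((D35009).symm.trans (sb E54542 D118148))).symm
theorem E58141 : n35706 = n35010 := (((D35010).symm.trans (sb E54542 F85967))).symm
theorem F302708 : act 5 n40119 = n26324 := (sb E54543 (iv5 D54431))
theorem E58143 : n86551 = n35710 := ((D86551).symm.trans (sb E54543 F85969))
theorem E58145 : n118163 = n36089 := (((F60923).symm.trans (sb E54545 D118163))).symm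
theorem F302709 : act 5 n40043 = n26325 := (sb E54545 (iv5 D54434))
theorem E58146 : n49033 = n31709 := (((iv6 F297733)).symm.trans (sb E54545 F85970))
theorem F302710 : act 0 n19163 = n14134 := (sb E54547 (iv1 D29736))
theorem F302711 : act 1 n19163 = n34256 := (sb E54547 F53912)
theorem F302712 : act 2 n19163 = n34255 := (sb E54547 F131093)
theorem E58147 : n169942 = n62832 := (((D62832).symm.trans (sb E54548 (iv5 F267361)))).symm
theorem E58152 : n62889 = n55306 := ((D62889).symm.trans (sb E54550 (iv0 F87536)))
theorem F302713 : act 5 n29757 = n36512 := (sb E54550 F72852)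
theorem E58153 : n98751 = n14140 := ((((iv6 D29757)).symm.trans (sb E54550 D98751))).symm
theorem E58159 : n167941 = n73706 := (((D73706).symm.trans (sb E54556 D167941))).symm
theorem F302714 : act 0 n119826 = n71358 := (sb E54557 (iv1 D151389))
theorem E58161 : n143742 = n131096 := (((iv4 F226413)).symm.trans (sb E54557 (tr (iv4 F276483) E54681)))
theorem E58167 : n80251 = n61691 := (((D61691).symm.trans (sb E54559 F299895))).symm
theorem E58168 : n80254 = n61692 := (((D61692).symm.trans (sb E54559 F299896))).symm
theorem E58169 : n131444 = n79008 := ((D131444).symm.trans (sb E54561 F127895))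
theorem E58170 : n131439 = n38191 := (E55070).trans E56572
theorem E58171 : n131445 = n38189 := ((D131445).symm.trans (sb E54561 (iv5 D82973)))
theorem E58173 : n146224 = n39639 := (E54564).trans E54569
theorem E58174 : n68570 = n53991 := ((((iv5 F199805)).symm.trans (sb E58173 (iv5 D146224)))).symm
theorem F302716 : act 0 n45225 = n40120 := (sb E54565 (iv1 F297803))
theorem E58176 : n85746 = n45229 := ((D85746).symm.trans (sb E54566 F149242))
theorem E58177 : n45222 = n31821 := ((((iv5 F199786)).symm.trans (sb E54566 (iv5 D96766)))).symm
theorem F302717 : act 6 n39608 = n45225 := (sb E54566 F149243)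
theorem E58178 : n85807 = n54644 := ((D85807).symm.trans (sb E54569 F186668))
theorem F302718 : act 6 n39639 = n54643 := (sb E54569 (iv6 D118678))
theorem E58179 : n85747 = n61578 := ((((iv3 F207747)).symm.trans (iv3 (sb E54570 (tr F282177 E56051))))).symm
theorem E58181 : n127660 = n45230 := ((F205232).symm.trans (sb E54572 F149255))
theorem E58182 : n179661 = n40617 := ((((iv1 F133434)).symm.trans (sb E54574 (iv1 F279821)))).symm
theorem E58183 : n58341 = n40616 := (((F133435).symm.trans (sb E54574 (iv0 F200337)))).symm
theorem F302719 : act 4 n86941 = n85812 := (sb E54574 (iv4 F199800))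
theorem E58185 : n58294 = n40758 := (((F133432).symm.trans (sb E54574 (iv6 D124722)))).symm
theorem E58188 : n73737 = n72879 := ((((iv2 F190903)).symm.trans (sb E54575 (iv2 F232298)))).symm
theorem E58189 : n170450 = n117966 := (((D117966).symm.trans (sb E54575 (tr (iv5 F282510) E54890)))).symm
theorem E58190 : n72874 = n40148 := (((iv7 F190898)).symm.trans (sb E54575 (iv7 D86605)))
theorem F302720 : act 5 n161173 = n77542 := (sb E54582 (iv5 D161509))
theorem F302721 : act 6 n161173 = n174916 := (sb E54582 (iv6 F273819))
theorem F302723 : act 6 n161174 = n174930 := (sb E54583 (iv6 F273824))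
theorem E58191 : n167121 = n133133 := (E55273).trans E57971
theorem F302724 : act 6 n83552 = n77374 := (sb E54584 (iv6 D161176))
theorem F302726 : act 6 n155164 = n77548 := (sb E54585 (iv6 D161517))
theorem F302728 : act 1 n77473 = n77226 := (sb E54586 (iv0 D160927))
theorem F302729 : act 1 n84466 = n77229 := (sb E54587 (iv0 D160933))
theorem E58195 : n161883 = n161394 := (((D161394).symm.trans (sb E54588 (iv2 F255868)))).symm
theorem F302732 : act 6 n77476 = n35480 := (sb E54588 (iv6 D77749))
theorem F302733 : act 0 n77478 = n77226 := (sb E54589 (iv1 F123273))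
theorem E58199 : n174304 = n119466 := ((D174304).symm.trans (sb E54590 (iv2 F188248)))
theorem E58200 : n174305 = n54553 := ((D174305).symm.trans (sb E54590 F186289))
theorem E58201 : n174306 = n153243 := ((D174306).symm.trans (sb E54590 (iv4 F240698)))
theorem E58202 : n174308 = n54551 := ((D174308).symm.trans (sb E54590 (iv6 D118464)))
theorem E58203 : n174309 = n73909 := ((D174309).symm.trans (sb E54590 (iv7 F186290)))
theorem E58204 : n174310 = n119470 := ((D174310).symm.trans (sb E54591 F244411))
theorem E58205 : n175176 = n174312 := (((D174312).symm.trans (sb E54591 (iv6 F274211)))).symm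
theorem F302736 : act 0 n83327 = n77558 := (sb E54595 (iv1 F193755))
theorem F302737 : act 1 n83327 = n77557 := (sb E54595 F193761)
theorem F302738 : act 7 n83327 = n56051 := (sb E54595 (iv7 D121433))
theorem F302740 : act 1 n80372 = n77550 := (sb E54597 F123553)
theorem E58213 : n88106 = n69998 := ((D88106).symm.trans (sb E54600 (iv6 D149153)))
theorem F302741 : act 6 n55057 = n35370 := (sb E54601 (iv6 D77457))
theorem E58218 : n77267 = n61738 := (((iv5 F116497)).symm.trans (sb E54602 F206600))
theorem E58219 : n125199 = n88104 := (((D88104).symm.trans (sb E54602 F206601))).symm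
theorem E58220 : n161347 = n39404 := ((D161347).symm.trans (sb E54603 (iv1 D85266)))
theorem E58221 : n161348 = n124977 := ((D161348).symm.trans (sb E54603 (tr F278689 E55318)))
theorem E58223 : n161349 = n158973 := ((D161349).symm.trans (sb E54603 F250304))
theorem E58224 : n161350 = n119668 := ((D161350).symm.trans (sb E54603 F201285))
theorem F302742 : act 5 n57281 = n54570 := (sb E54604 (iv5 D118496))
theorem E58225 : n89314 = n47215 := (((F90356).symm.trans (sb E54605 (iv3 F287104)))).symm
theorem F302743 : act 5 n57276 = n54571 := (sb E54605 (iv5 D118499))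
theorem F302744 : act 0 n73634 = n35373 := (sb E54606 (iv1 D77464))
theorem E58226 : n155058 = n119842 := ((((iv0 F243955)).symm.trans (sb E54606 F243840))).symm
theorem E58227 : n161360 = n119854 := ((((iv2 F280224)).symm.trans (sb E54606 (iv2 F255177)))).symm
theorem E58228 : n161361 = n155128 := ((((iv3 F243950)).symm.trans (sb E54606 D161361))).symm
theorem E58232 : n161355 = n119855 := ((((iv7 F280223)).symm.trans (sb E54606 F255176))).symm
theorem E58233 : n161366 = n72007 := ((D161366).symm.trans (sb E54607 (iv0 D152631)))
theorem E58234 : n155056 = n119854 := (((D119854).symm.trans (sb E54608 (iv1 F243834)))).symm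
theorem E58235 : n155055 = n119855 := (((D119855).symm.trans (sb E54608 F243839))).symm
theorem F302745 : act 3 n55161 = n35378 := (sb E54608 F116286)
theorem F302746 : act 7 n55161 = n35373 := (sb E54608 (iv7 D77466))
theorem E58236 : n155446 = n119644 := (((D119644).symm.trans (sb E54611 D155446))).symm
theorem F302748 : act 0 n56088 = n86855 := (sb E54612 (iv1 F263529))
theorem F302749 : act 1 n56089 = n86855 := (sb E54613 F262840)
theorem E58239 : n118624 = n33206 := ((((iv2 F52428)).symm.trans (sb E54614 D118624))).symm
theorem E58240 : n118528 = n33264 := (((D33264).symm.trans (sb E54614 (iv4 F186431)))).symm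
theorem E58241 : n33265 = n26418 := ((D33265).symm.trans (sb E54614 F86328))
theorem F302750 : act 6 n12605 = n8313 := (sb E54615 (iv6 D17647))
theorem E58246 : n152144 = n98189 := (((E55286).symm.trans ((D118501).symm.trans (sb E54616 (iv1 F239189))))).symm
theorem E58247 : n152143 = n100810 := (((E55290).symm.trans ((D118502).symm.trans (sb E54616 F239188)))).symm
theorem E58248 : n152132 = n37889 := (((E55304).symm.trans (((iv2 F186308)).symm.trans (sb E54616 F239182)))).symm
theorem F302751 : act 7 n54572 = n33168 := (sb E54616 (iv7 D71752))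
theorem F302752 : act 2 n30048 = n27167 := (sb E54618 F89080)
theorem E58258 : n121844 = n63662 := (E55306).trans E55312
theorem F302753 : act 4 n30048 = n27125 := (sb E54618 F89081)
theorem F302754 : act 6 n30048 = n27124 := (sb E54618 (iv6 D56306))
theorem E58260 : n161795 = n30046 := (E54619).trans E57960
theorem E58261 : n77707 = n63669 := (((D63669).symm.trans (sb E58260 (iv5 D161795)))).symm
theorem F302755 : act 2 n85244 = n39404 := (sb E54623 F130554)
theorem E58262 : n178822 = n173938 := ((D178822).symm.trans (sb E54623 F272585))
theorem F302758 : act 3 n58433 = n80270 := (sb E54627 (iv3 D167209))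
theorem F302759 : act 3 n58434 = n80374 := (sb E54628 (iv3 D167489))
theorem F302761 : act 3 n167210 = n124986 := (sb E54630 F281394)
theorem E58263 : n166949 = n60798 := (((F98509).symm.trans (iv0 (sb E54631 (tr (iv1 D166950) E57953))))).symm
theorem E58264 : n166950 = n60798 := (E54631).trans E58263
theorem E58265 : n80315 = n61381 := ((((iv2 F95871)).symm.trans (sb E58264 (tr (iv2 F262809) E55323)))).symm
theorem E58266 : n129383 = n80374 := ((D129383).symm.trans (sb E58264 F262808))
theorem E58267 : n175413 = n38598 := (((F113417).symm.trans (sb E54632 (iv0 F274475)))).symm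
theorem F302762 : act 4 n152241 = n84171 := (sb E54636 F275770)
theorem F302763 : act 6 n152241 = n173683 := (sb E54636 F275771)
theorem F302764 : act 5 n161321 = n77618 := (sb E54637 (iv5 D161604))
theorem F302769 : act 0 n80367 = n36617 := (sb E54644 (iv1 D80368))
theorem E58270 : n166977 = n62109 := (E55339).trans E57693
theorem E58272 : n149116 = n122988 := (((D122988).symm.trans (sb E54645 (iv3 F234495)))).symm
theorem E58273 : n124704 = n105916 := (((F162662).symm.trans (sb E54645 (iv4 F199510)))).symm
theorem F302770 : act 6 n57213 = n32486 := (sb E54645 (iv6 D69980))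
theorem E58274 : n122990 = n85903 := ((D122990).symm.trans (sb E54646 (iv6 D179861)))
theorem E58275 : n122994 = n118095 := ((D122994).symm.trans (sb E54647 F257319))
theorem F302771 : act 7 n57217 = n106077 := (sb E54647 F257318)
theorem F302772 : act 0 n57377 = n76925 := (sb E54648 (iv1 D160470))
theorem F302773 : act 1 n57377 = n99985 := (sb E54648 F253478)
theorem F302774 : act 0 n57382 = n99985 := (sb E54649 (iv1 F253475))
theorem F302775 : act 1 n57382 = n76925 := (sb E54649 (iv0 D160469))
theorem F302777 : act 1 n170334 = n84885 := (sb E54650 (iv0 D178411))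
theorem E58276 : n128309 = n54633 := (((F86365).symm.trans (sb E54654 F243572))).symm
theorem E58277 : n149819 = n62832 := (((E58147).symm.trans (((iv0 F267363)).symm.trans (sb E54655 F235663)))).symm
theorem F302783 : act 6 n105960 = n85808 := (sb E54655 F215440)
theorem F302784 : act 6 n54318 = n40147 := (sb E54658 (iv6 D86601))
theorem E58279 : n101593 = n67327 := (((iv4 F156510)).symm.trans (sb E54659 F185660))
theorem E58280 : n117917 = n67326 := ((E54853).symm.trans ((D181009).symm.trans (sb E54659 F185656)))
theorem F302785 : act 6 n49032 = n71368 := (sb E54660 (iv6 D151408))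
theorem E58281 : n151836 = n33084 := (((F108041).symm.trans (sb E54661 (iv3 F238759)))).symm
theorem E58282 : n138702 = n71368 := ((((iv4 F108044)).symm.trans (sb E54661 (iv4 F221855)))).symm
theorem E58283 : n106087 = n34279 := (((iv6 F299961)).symm.trans (sb E54661 (iv6 D74820)))
theorem E58284 : n156829 = n119586 := ((((iv1 F188629)).symm.trans (sb E54662 F246781))).symm
theorem E58285 : n155203 = n119594 := ((((iv0 F188628)).symm.trans (sb E54662 (iv0 F244065)))).symm
theorem E58286 : n107861 = n67327 := (E54848).trans E58279
theorem E58287 : n53804 = n35990 := (((F112448).symm.trans (sb E54662 (iv6 D116779)))).symm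
theorem E58288 : n157333 = n117920 := (((F184950).symm.trans (sb E54663 (iv1 F247600)))).symm
theorem E58289 : n68408 = n26264 := ((((iv0 D54332)).symm.trans (sb E54663 (iv0 F182234)))).symm
theorem E58290 : n117943 = n67892 := ((D117943).symm.trans (sb E54663 (iv3 F182231)))
theorem E58291 : n117944 = n67891 := ((D117944).symm.trans (sb E54663 F182229))
theorem E58292 : n117918 = n67343 := ((F184953).symm.trans (sb E54663 (iv7 F182233)))
theorem E58293 : n73406 = n32674 := ((((iv3 F51757)).symm.trans (sb E54664 (iv3 D154799)))).symm
theorem E58295 : n133143 = n83550 := (((D83550).symm.trans (sb E54668 F227783))).symm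
theorem E58296 : n155565 = n83551 := (((D83551).symm.trans (sb E54668 (iv0 F244577)))).symm
theorem F302786 : act 4 n38522 = n67892 := (sb E54668 (iv4 D144850))
theorem E58297 : n130449 = n83552 := (((D83552).symm.trans (sb E54668 F227782))).symm
theorem E58298 : n132815 = n83553 := (((D83553).symm.trans (sb E54668 F227781))).symm
theorem F302787 : act 3 n131096 = n84389 := (sb E54681 (iv3 D177064))
theorem E58315 : n133692 = n105960 := (((iv5 F215141)).symm.trans (sb E54681 F276484))
theorem F302788 : act 3 n119402 = n107859 := (sb E54682 F240796)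
theorem F302789 : act 5 n119402 = n72396 := (sb E54682 (iv5 D153269))
theorem F302790 : act 6 n119402 = n124774 := (sb E54682 F240797)
theorem E58316 : n83937 = n29723 := ((((iv7 F57938)).symm.trans (sb E54683 (tr F279474 E54895)))).symm
theorem F302791 : act 1 n61383 = n36850 := (sb E56537 (iv0 D80715))
theorem E58317 : n168162 = n61600 := ((((iv2 F96159)).symm.trans (sb E56537 D168162))).symm
theorem E58318 : n129242 = n80220 := (((iv4 F207459)).symm.trans (sb E56537 (iv4 F154836)))
theorem F302792 : act 3 n150640 = n81737 := (sb E54685 F267954)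
theorem E58321 : n165285 = n130852 := (E54688).trans E56446
theorem E58322 : n86518 = n61399 := (((F209432).symm.trans (sb E58321 (iv1 F260545)))).symm
theorem E58323 : n86520 = n74858 := ((((iv2 F209431)).symm.trans (sb E58321 F260542))).symm
theorem E58324 : n149812 = n86747 := (((F234489).symm.trans (sb E54689 F259480))).symm
theorem F302795 : act 6 n149114 = n79067 := (sb E54689 (iv6 D164584))
theorem F302796 : act 2 n124670 = n69977 := (sb E54691 (iv2 D149113))
theorem E58325 : n154556 = n34302 := ((((iv0 D74857)).symm.trans (iv0 (sb E54694 (tr (iv1 D165283) E55661))))).symm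
theorem F302798 : act 0 n180009 = n166028 := (sb E54698 (iv1 F282235))
theorem F302799 : act 1 n180009 = n86532 := (sb E54698 (iv0 D181204))
theorem F302800 : act 0 n180006 = n86532 := (sb E54699 (iv1 D181205))
theorem F302801 : act 1 n180006 = n166028 := (sb E54699 F282236)
theorem F302802 : act 5 n180006 = n166325 := (sb E54699 (iv5 F282238))
theorem F302803 : act 5 n120495 = n86692 := (sb E54700 (iv5 D181646))
theorem F302804 : act 4 n170667 = n86699 := (sb E54701 F282753)
theorem F302805 : act 6 n170667 = n86692 := (sb E54701 (iv6 D181647))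
theorem F302806 : act 1 n155212 = n86699 := (sb E54702 (iv0 D181656))
theorem F302807 : act 5 n170581 = n86699 := (sb E54703 (iv5 D181658))
theorem F302809 : act 1 n167879 = n170046 := (sb E54706 F268012)
theorem F302810 : act 2 n167879 = n170476 := (sb E54706 F268008)
theorem F302811 : act 4 n167879 = n81764 := (sb E54706 (iv4 D170582))
theorem F302812 : act 5 n167879 = n170476 := (sb E54706 F268009)
theorem F302813 : act 7 n167879 = n170475 := (sb E54706 F268010)
theorem E58328 : n178076 = n123095 := (((F197291).symm.trans (sb E54708 D178076))).symm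
theorem F302815 : act 6 n57292 = n39166 := (sb E54708 (iv6 D84764))
theorem E58330 : n123161 = n85902 := (((D85902).symm.trans (sb E54709 D123161))).symm
theorem E58331 : n123163 = n85904 := (((D85904).symm.trans (sb E54709 D123163))).symm
theorem F302816 : act 7 n39735 = n27617 := (sb E54709 F90473)
theorem E58334 : n177943 = n124067 := (((D124067).symm.trans (sb E54710 (iv2 F277505)))).symm
theorem F302818 : act 0 n57808 = n34765 := (sb E54711 (iv1 D76088))
theorem F302819 : act 2 n57808 = n85897 := (sb E54711 (iv2 F131782))
theorem E58336 : n159152 = n124069 := (((D124069).symm.trans (sb E54711 D159152))).symm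
theorem E58337 : n159153 = n124070 := (((D124070).symm.trans (sb E54711 D159153))).symm
theorem E58338 : n176263 = n79849 := (((D79849).symm.trans (sb E54715 D176263))).symm
theorem E58339 : n83709 = n79850 := (((D79850).symm.trans (sb E54715 (iv0 F129050)))).symm
theorem E58340 : n176261 = n79844 := ((((iv2 F122586)).symm.trans (sb E54715 (iv2 F275541)))).symm
theorem F302820 : act 4 n36371 = n38728 := (sb E54715 (iv4 D84065))
theorem E58344 : n85060 = n13892 := ((((iv1 D29204)).symm.trans (sb E54723 F272050))).symm
theorem E58345 : n181370 = n29726 := (((F47774).symm.trans (sb E54723 F282478))).symm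
theorem E58346 : n83932 = n29724 := (((F57937).symm.trans (sb E54723 (iv2 F274319)))).symm
theorem E58347 : n83033 = n61075 := ((((iv4 F185273)).symm.trans (sb E54723 (iv4 D173602)))).symm
theorem F302821 : act 0 n55489 = n39708 := (sb E54724 (iv1 F129905))
theorem F302822 : act 1 n55489 = n39108 := (sb E54724 (iv0 D84669))
theorem E58349 : n159157 = n120523 := (((D120523).symm.trans (sb E54724 (iv4 F250591)))).symm
theorem F302823 : act 0 n57885 = n39130 := (sb E54725 (iv1 F129838))
theorem F302824 : act 1 n57885 = n39129 := (sb E54725 F129842)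
theorem F302825 : act 2 n57885 = n39132 := (sb E54725 F129835)
theorem E58351 : n177772 = n124182 := (((D124182).symm.trans (sb E54725 (iv4 F277244)))).symm
theorem E58352 : n177773 = n124183 := (((D124183).symm.trans (sb E54725 D177773))).symm
theorem F302826 : act 7 n57885 = n39089 := (sb E54725 (iv7 D84645))
theorem E58353 : n87563 = n7570 := ((((iv1 D16252)).symm.trans (sb E54726 (iv1 F233191)))).symm
theorem E58354 : n87558 = n27772 := (((F44857).symm.trans (sb E54726 (iv0 F233185)))).symm
theorem E58355 : n98059 = n27770 := ((((iv2 F190736)).symm.trans (sb E54726 (iv2 F151198)))).symm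
theorem E58359 : n73442 = n55190 := (((iv3 F110146)).symm.trans (sb E54728 (iv3 D119911)))
theorem E58365 : n177758 = n153877 := (((F241795).symm.trans (sb E54737 D177758))).symm
theorem F302827 : act 3 n73331 = n39088 := (sb E54737 (iv3 D84638))
theorem F302828 : act 4 n73331 = n123028 := (sb E54737 (iv4 F197141))
theorem E58366 : n177759 = n154650 := (((D154650).symm.trans (sb E54737 D177759))).symm
theorem F302829 : act 6 n73331 = n85895 := (sb E54737 F131784)
theorem F302830 : act 7 n73331 = n39120 := (sb E54737 F129818)
theorem F302831 : act 4 n84810 = n163622 := (sb E54738 F260423)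
theorem E58403 : n151824 = n27447 := ((((iv5 F44364)).symm.trans (sb E54752 D151824))).symm
theorem E58404 : n78338 = n33076 := (((D33076).symm.trans (sb E54752 F119553))).symm
theorem E58408 : n149916 = n33085 := (((D33085).symm.trans (sb E54755 (iv6 F235804)))).symm
theorem E58411 : n85391 = n33088 := (((D33088).symm.trans (sb E54757 (iv5 F200624)))).symm
theorem E58443 : n33892 = n33764 := (((D33764).symm.trans (sb E54782 F87319))).symm
theorem E58444 : n119921 = n33765 := (((D33765).symm.trans (sb E54782 D119921))).symm
theorem E58446 : n119753 = n33779 := (((D33779).symm.trans (sb E54785 (iv3 F188953)))).symm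
theorem E58447 : n60112 = n33780 := (((D33780).symm.trans (sb E54785 (iv4 F94673)))).symm
theorem F302832 : act 6 n16325 = n26631 := (sb E54785 (iv6 D55106))
theorem E58450 : n60323 = n33785 := (((D33785).symm.trans (sb E54786 (iv4 F110587)))).symm
theorem E58465 : n165059 = n39774 := (((D39774).symm.trans (sb E54800 D165059))).symm
theorem E58478 : n80764 = n39415 := (((D39415).symm.trans (sb E54817 (iv6 F124266)))).symm
theorem E58482 : n85372 = n85252 := ((((iv2 F130564)).symm.trans (sb E54821 F133172))).symm
theorem F302833 : act 4 n39412 = n77625 := (sb E54821 F133173)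
theorem E58487 : n154868 = n39334 := (((F133058).symm.trans (sb E54824 (iv3 F243578)))).symm
theorem E58488 : n85741 = n39436 := (((D39436).symm.trans (sb E54824 F200352))).symm
theorem E58489 : n154871 = n39437 := (((D39437).symm.trans (sb E54824 D154871))).symm
theorem E58490 : n71553 = n39447 := (((D39447).symm.trans (sb E54825 (iv0 D151789)))).symm
theorem E58491 : n119765 = n39450 := (((D39450).symm.trans (sb E54826 F242185))).symm
theorem E58492 : n155304 = n39451 := (((D39451).symm.trans (sb E54826 F244231))).symm
theorem E58495 : n58405 = n58397 := (((D58397).symm.trans (sb E54830 D58405))).symm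
theorem E58496 : n58396 = n58394 := ((((iv2 F92229)).symm.trans (sb E54830 (iv2 F92238)))).symm
theorem F302834 : act 3 n27794 = n13267 := (sb E54830 F44883)
theorem E58497 : n58399 = n34706 := ((D58399).symm.trans (sb E54830 (iv5 F54946)))
theorem F302835 : act 6 n27794 = n13264 := (sb E54830 (iv6 D27796))
theorem F302836 : act 2 n28683 = n26905 := (sb E54832 F89153)
theorem F302838 : act 6 n170526 = n86500 := (sb E54833 (iv6 D181129))
theorem F302839 : act 6 n78294 = n84440 := (sb E54836 (iv6 D177230))
theorem F302840 : act 5 n78300 = n84447 := (sb E54839 (iv5 D177249))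
theorem F302841 : act 0 n149322 = n84381 := (sb E54842 (iv1 F276458))
theorem F302842 : act 1 n149322 = n84380 := (sb E54842 F276459)
theorem F302843 : act 2 n149322 = n84383 := (sb E54842 F276456)
theorem F302845 : act 7 n149322 = n84379 := (sb E54842 (iv7 D177039))
theorem F302847 : act 1 n177060 = n166065 := (sb E54844 F282256)
theorem F302848 : act 2 n177060 = n121687 := (sb E54844 F282252)
theorem F302849 : act 5 n177060 = n166096 := (sb E54844 F282254)
theorem F302851 : act 3 n119586 = n71359 := (sb E54846 F238108)
theorem F302852 : act 5 n119586 = n71358 := (sb E54846 (iv5 D151390))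
theorem E58499 : n138979 = n55026 := ((F222150).symm.trans (sb E58286 (iv1 F188596)))
theorem F302853 : act 2 n67327 = n74928 := (sb E58286 F166639)
theorem E58500 : n143743 = n49814 := ((D143743).symm.trans (sb E58286 (iv5 D107861)))
theorem E58501 : n55062 = n31302 := ((((iv6 D67327)).symm.trans (sb E58286 (iv6 F166646)))).symm
theorem E58502 : n143744 = n73969 := ((D143744).symm.trans (sb E58286 F166641))
theorem F302854 : act 0 n83548 = n72812 := (sb E54849 F240630)
theorem F302855 : act 3 n83548 = n74928 := (sb E54849 F240628)
theorem E58503 : n174913 = n72820 := ((D174913).symm.trans (sb E54849 F240631))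
theorem E58504 : n181009 = n67326 := (E54853).trans E58280
theorem F302856 : act 6 n67326 = n86448 := (sb E58504 (iv6 D181009))
theorem E58505 : n179406 = n61682 := ((((iv2 F210517)).symm.trans (iv2 (sb E54859 (tr F282310 E56510))))).symm
theorem E58506 : n181243 = n61682 := (E54859).trans E58505
theorem E58507 : n173459 = n131420 := (((D131420).symm.trans (sb E58506 F282312))).symm
theorem E58508 : n165007 = n131503 := ((D165007).symm.trans (sb E54863 (iv6 F210766)))
theorem E58509 : n85597 = n62815 := (((iv6 F300071)).symm.trans (sb E54864 (iv6 D133770)))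
theorem E58511 : n75092 = n61776 := (((iv4 F112601)).symm.trans (iv4 (sb E54865 (tr F282315 E58143))))
theorem F302857 : act 6 n61776 = n86549 := (sb E54865 (iv6 D181244))
theorem E58512 : n131242 = n117767 := ((((iv6 F184445)).symm.trans (sb E54866 F266078))).symm
theorem E58513 : n85591 = n29205 := (((F109932).symm.trans (sb E54867 (iv1 F131341)))).symm
theorem E58514 : n62816 = n39569 := ((F109933).symm.trans (sb E54867 (iv0 D85643)))
theorem E58515 : n179508 = n62871 := (((F109934).symm.trans (sb E54867 D179508))).symm
theorem F302858 : act 6 n61640 = n80684 := (sb E54867 F299959)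
theorem E58517 : n155302 = n119747 := (((iv3 F244215)).symm.trans (sb E54868 F282329))
theorem F302860 : act 3 n128397 = n160005 := (sb E54872 F282325)
theorem E58520 : n128397 = n55738 := (((E54960).symm.trans ((F104262).symm.trans (iv7 (sb E54872 (tr (iv7 D181251) E58143)))))).symm
theorem E58521 : n118133 = n32794 := (((F56396).symm.trans (iv0 (sb E54873 (tr F264957 E58143))))).symm
theorem E58524 : n128407 = n32796 := (((F56395).symm.trans (iv1 (sb E54878 (tr (iv0 D181249) E58143))))).symm
theorem F302863 : act 3 n149982 = n160004 := (sb E54879 F282322)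
theorem E58526 : n149982 = n17304 := ((((iv5 D35710)).symm.trans (iv5 (sb E54879 (tr (iv5 D181250) E58143))))).symm
theorem F302866 : act 0 n180008 = n166049 := (sb E54882 (iv1 F282391))
theorem E58528 : n180008 = n179597 := (((D179597).symm.trans (iv1 (sb E54882 (tr (iv0 F282390) E56494))))).symm
theorem E58529 : n181317 = n179597 := (E54882).trans E58528
theorem E58530 : n150641 = n139204 := (((F282935).symm.trans (sb E58529 F282388))).symm
theorem F302867 : act 7 n179597 = n150640 := (sb E58529 F282389)
theorem F302870 : act 5 n170551 = n181309 := (sb E54887 (iv5 F282507))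
theorem E58532 : n181397 = n117966 := (E54890).trans E58189
theorem E58533 : n155249 = n154008 := ((((iv2 F242030)).symm.trans (sb E58532 F282509))).symm
theorem F302871 : act 0 n86606 = n85812 := (sb E54891 F257016)
theorem E58535 : n123737 = n96787 := ((((iv2 F299901)).symm.trans (sb E54891 (iv2 F198224)))).symm
theorem E58536 : n123687 = n41129 := (((F232506).symm.trans (sb E54891 (iv4 F198130)))).symm
theorem E58537 : n181398 = n68460 := ((D181398).symm.trans (sb E54891 F200380))
theorem E58538 : n181399 = n40232 := ((D181399).symm.trans (sb E54891 (iv6 D86774)))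
theorem E58539 : n149349 = n96788 := ((((iv7 F299908)).symm.trans (sb E54891 (iv7 F234784)))).symm
theorem F302872 : act 1 n86607 = n85812 := (sb E54892 F257017)
theorem E58540 : n123745 = n41130 := (((F232509).symm.trans (sb E54892 (iv4 F229253)))).symm
theorem E58541 : n84417 = n68459 := ((E54893).symm.trans ((D181401).symm.trans (sb E54892 (iv5 D146028))))
theorem E58542 : n181401 = n68459 := (E54893).trans E58541
theorem F302873 : act 5 n68459 = n86607 := (sb E58542 (iv5 D181401))
theorem F302874 : act 2 n86609 = n85812 := (sb E54894 F242032)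
theorem E58546 : n181482 = n67343 := (E54898).trans E58292
theorem E58547 : n175864 = n62811 := (((F110530).symm.trans (sb E58546 F282570))).symm
theorem E58548 : n181483 = n61682 := (E54899).trans E58505
theorem E58549 : n175852 = n62812 := (((F210517).symm.trans (sb E58548 F282571))).symm
theorem F302878 : act 6 n45808 = n33615 := (sb E54929 (iv6 D72922))
theorem F302879 : act 0 n58483 = n120314 := (sb E54930 (iv1 F191585))
theorem F302880 : act 1 n58483 = n120311 := (sb E54930 (iv0 F191576))
theorem F302881 : act 0 n120496 = n85864 := (sb E54931 (iv1 D179766))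
theorem F302882 : act 1 n120496 = n85868 := (sb E54931 F279994)
theorem F302883 : act 2 n120496 = n170716 := (sb E54931 (iv2 F279998))
theorem F302884 : act 2 n120497 = n170717 := (sb E54932 F282755)
theorem F302885 : act 2 n122447 = n81801 := (sb E54933 (iv2 F195959))
theorem F302886 : act 5 n122447 = n81808 := (sb E54933 F195962)
theorem F302887 : act 7 n122447 = n81800 := (sb E54933 F195961)
theorem F302888 : act 0 n124175 = n69906 := (sb E54934 (iv1 D149043))
theorem F302889 : act 1 n124176 = n69906 := (sb E54935 (iv0 D149042))
theorem F302890 : act 0 n124177 = n84629 := (sb E54936 (iv1 F234374))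
theorem F302891 : act 1 n124177 = n84628 := (sb E54936 F234375)
theorem F302892 : act 3 n124177 = n69910 := (sb E54936 F234372)
theorem F302893 : act 7 n124177 = n69906 := (sb E54936 (iv7 D149045))
theorem F302894 : act 7 n124178 = n84630 := (sb E54937 (iv7 D177736))
theorem E58562 : n151862 = n60056 := (((D60056).symm.trans (sb E54942 D151862))).symm
theorem E58563 : n86960 = n60060 := (((D60060).symm.trans (sb E54943 F136940))).symm
theorem E58564 : n86958 = n60126 := (((D60126).symm.trans (sb E54945 (iv1 F133480)))).symm
theorem E58565 : n86957 = n60127 := (((D60127).symm.trans (sb E54945 F133485))).symm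
theorem E58566 : n167666 = n60128 := (((D60128).symm.trans (sb E54945 (iv5 F263954)))).symm
theorem F302895 : act 7 n28575 = n36685 := (sb E54945 (iv7 D80464))
theorem F302896 : act 3 n32881 = n36685 := (sb E54948 F106255)
theorem E58567 : n148929 = n70995 := (((D70995).symm.trans (sb E54948 (iv4 F234009)))).symm
theorem E58568 : n148932 = n70996 := (((D70996).symm.trans (sb E54948 D148932))).symm
theorem F302897 : act 6 n32881 = n32424 := (sb E54948 (iv6 D69820))
theorem F302898 : act 6 n28522 = n41686 := (sb E54949 (iv6 D89211))
theorem F302899 : act 2 n69810 = n41686 := (sb E54950 F124108)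
theorem F302900 : act 4 n69810 = n41704 := (sb E54950 F124109)
theorem E58569 : n133701 = n70754 := (((iv5 F215169)).symm.trans (sb E54950 F124110))
theorem E58570 : n177081 = n13888 := (((F23577).symm.trans (sb E54951 (tr (iv0 F282473) E56228)))).symm
theorem E58571 : n70755 = n29691 := (((D29691).symm.trans (sb E54951 (iv5 D150275)))).symm
theorem F302901 : act 5 n32798 = n32422 := (sb E54952 F97926)
theorem E58573 : n148954 = n70499 := ((D148954).symm.trans (sb E54953 (iv1 D149931)))
theorem E58575 : n107966 = n40152 := ((D107966).symm.trans (sb E54955 F132834))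
theorem E58576 : n181359 = n107967 := (((D107967).symm.trans (sb E54955 D181359))).symm
theorem E58577 : n107968 = n40146 := ((D107968).symm.trans (sb E54955 F132835))
theorem F302902 : act 6 n32720 = n120899 := (sb E54959 D120899)
theorem F302903 : act 0 n55738 = n32430 := (sb E54960 (iv1 F104264))
theorem F302904 : act 1 n55738 = n32432 := (sb E54960 (iv0 F104263))
theorem E58584 : n120882 = n120235 := ((D120882).symm.trans (sb E54960 (iv4 F191440)))
theorem E58585 : n120883 = n31710 := ((D120883).symm.trans (sb E54960 (iv6 D68113)))
theorem F302905 : act 7 n55738 = n35710 := (sb E54960 (iv7 F104262))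
theorem F302906 : act 1 n77814 = n121557 := (sb E54969 F193952)
theorem E58589 : n167134 = n162002 := (((D162002).symm.trans (sb E54969 D167134))).symm
theorem E58592 : n151757 = n79019 := (((F131004).symm.trans (sb E54971 (iv2 F238664)))).symm
theorem F302908 : act 4 n55329 = n77449 := (sb E54971 F124216)
theorem E58603 : n167730 = n121034 := (((D121034).symm.trans (sb E54976 D167730))).symm
theorem E58605 : n76611 = n32705 := (((iv4 F114887)).symm.trans (sb E54977 (iv4 D70488)))
theorem E58609 : n118794 = n73499 := ((((iv0 F243486)).symm.trans (sb E54979 (iv0 F205939)))).symm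
theorem F302909 : act 0 n21580 = n29737 := (sb E54981 (iv1 F53911))
theorem F302910 : act 1 n21580 = n16579 := (sb E54981 (iv0 D34254))
theorem F302911 : act 2 n21580 = n29735 := (sb E54981 F131095)
theorem E58613 : n74756 = n10310 := (((F33979).symm.trans (sb E54981 D74756))).symm
theorem E58615 : n31820 = n10308 := ((((iv6 D21580)).symm.trans (sb E54981 F53908))).symm
theorem E58616 : n65073 = n32718 := (((F51784).symm.trans (sb E54982 F131125))).symm
theorem E58617 : n34144 = n33083 := ((((iv0 F300125)).symm.trans (sb E54982 F131126))).symm
theorem F302912 : act 4 n26323 = n29735 := (sb E54982 (iv4 D62836))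
theorem E58620 : n117150 = n12540 := ((((iv6 D26323)).symm.trans (sb E54982 (iv6 F183246)))).symm
theorem E58621 : n50053 = n15813 := ((((iv1 F33973)).symm.trans (sb E54983 F104192))).symm
theorem E58622 : n108000 = n15812 := (((F33972).symm.trans (sb E54983 F166871))).symm
theorem E58623 : n31900 = n26109 := (((iv5 F50207)).symm.trans (sb E54983 (iv5 D53990)))
theorem F302913 : act 6 n21578 = n29735 := (sb E54983 (iv6 F85170))
theorem E58625 : n74700 = n54560 := (((iv3 F112111)).symm.trans (sb E54984 (iv3 F107009)))
theorem E58626 : n107888 = n74703 := (((D74703).symm.trans (sb E54984 (iv5 F166695)))).symm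
theorem E58627 : n119804 = n16563 := ((((iv6 D34231)).symm.trans (sb E54984 (iv6 F189041)))).symm
theorem F302914 : act 7 n34231 = n33866 := (sb E54984 F107008)
theorem E58628 : n76011 = n11509 := ((((iv1 F18826)).symm.trans (sb E54985 (iv1 F189044)))).symm
theorem E58629 : n149790 = n5333 := (((F11977).symm.trans (sb E54985 F235609))).symm
theorem E58630 : n125228 = n3491 := ((((iv5 D7703)).symm.trans (sb E54985 F201366))).symm
theorem F302915 : act 1 n62831 = n33866 := (sb E54986 (iv0 F107014))
theorem E58632 : n133793 = n54610 := ((D133793).symm.trans (sb E54986 F107011))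
theorem E58633 : n133794 = n49815 := ((D133794).symm.trans (sb E54986 F107012))
theorem E58634 : n133795 = n54852 := ((D133795).symm.trans (sb E54986 F107013))
theorem F302916 : act 3 n33387 = n29734 := (sb E54987 F98058)
theorem F302917 : act 4 n33387 = n29757 := (sb E54987 F98059)
theorem E58637 : n133789 = n72347 := (((D72347).symm.trans (sb E54987 D133789))).symm
theorem E58638 : n72348 = n29733 := ((D72348).symm.trans (sb E54987 (iv6 D62829)))
theorem E58639 : n133796 = n105960 := ((D133796).symm.trans (sb E54988 (tr (iv1 F215143) E58315)))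
theorem E58640 : n133797 = n86600 := ((D133797).symm.trans (sb E54988 (tr (iv0 F188623) E56725)))
theorem E58641 : n133798 = n119586 := ((D133798).symm.trans (sb E54988 (tr (iv4 F246778) E58284)))
theorem E58642 : n49978 = n34304 := ((F98060).symm.trans (sb E54988 (iv6 D74864)))
theorem E58643 : n133799 = n119826 := ((D133799).symm.trans (sb E54988 (iv7 F189093)))
theorem E58644 : n71268 = n6936 := (((F26540).symm.trans (sb E54989 (iv1 F110388)))).symm
theorem E58645 : n71272 = n12774 := (((F26541).symm.trans (sb E54989 F186177))).symm
theorem E58646 : n118957 = n11488 := (((F26543).symm.trans (sb E54989 (iv5 F187064)))).symm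
theorem E58647 : n33858 = n16562 := (((F26544).symm.trans (sb E54989 (iv7 D73693)))).symm
theorem F302918 : act 4 n55136 = n29737 := (sb E54990 F98061)
theorem E58648 : n74696 = n26642 := ((((iv6 D55136)).symm.trans (sb E54990 (iv6 F112100)))).symm
theorem F302919 : act 7 n55136 = n29734 := (sb E54990 (iv7 D62833))
theorem E58649 : n55600 = n11503 := ((((iv3 F18806)).symm.trans (sb E54992 (iv3 D120653)))).symm
theorem E58650 : n55612 = n11507 := (((D11507).symm.trans (sb E54992 F192312))).symm
theorem E58652 : n125225 = n6711 := (((D6711).symm.trans (sb E54993 (iv1 F201355)))).symm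
theorem E58653 : n39548 = n6710 := ((((iv0 F26448)).symm.trans (sb E54993 (iv0 D85592)))).symm
theorem E58659 : n33857 = n16590 := (((D16590).symm.trans (sb E54994 (iv6 D73691)))).symm
theorem E58660 : n78253 = n50040 := ((((iv1 F79188)).symm.trans (sb E54995 (iv1 F119447)))).symm
theorem E58661 : n78251 = n50039 := (((F79192).symm.trans (sb E54995 (iv0 F119438)))).symm
theorem F302920 : act 2 n34271 = n33865 := (sb E54995 F87211)
theorem E58662 : n118139 = n55255 := ((((iv5 F87441)).symm.trans (sb E54995 (iv5 F185634)))).symm
theorem E58663 : n80211 = n61733 := ((F136976).symm.trans (sb E54996 (iv1 F210696)))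
theorem E58664 : n71959 = n61732 := (((iv0 F136977)).symm.trans (sb E54996 F210699))
theorem F302921 : act 4 n89258 = n61693 := (sb E54996 F210694)
theorem F302922 : act 7 n89258 = n61690 := (sb E54996 (iv7 D131446))
theorem E58665 : n155198 = n61749 := ((D155198).symm.trans (sb E54997 (iv1 F167542)))
theorem E58666 : n155199 = n61748 := ((D155199).symm.trans (sb E54997 F167543))
theorem E58667 : n155200 = n61747 := ((D155200).symm.trans (sb E54997 F167537))
theorem E58668 : n149868 = n74146 := (((iv5 F235725)).symm.trans (sb E54997 F167539))
theorem F302923 : act 6 n73704 = n61693 := (sb E54997 F167540)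
theorem E58669 : n119802 = n50038 := (((iv7 F189033)).symm.trans (sb E54997 (iv7 D108362)))
theorem E58670 : n139247 = n33863 := (((F53237).symm.trans (sb E54998 F247235))).symm
theorem E58671 : n74694 = n33856 := ((((iv1 F53205)).symm.trans (sb E55000 (iv1 F112095)))).symm
theorem E58672 : n74693 = n33855 := (((F53202).symm.trans (sb E55000 F112101))).symm
theorem E58673 : n139255 = n7601 := ((((iv5 D16371)).symm.trans (sb E55000 (iv5 F222438)))).symm
theorem E58674 : n30654 = n26640 := ((((iv7 F42693)).symm.trans (sb E55000 (iv7 D65359)))).symm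
theorem F302924 : act 1 n34270 = n33865 := (sb E55001 F106948)
theorem E58675 : n74800 = n36686 := ((D74800).symm.trans (sb E55001 F297840))
theorem E58676 : n65012 = n32708 := (((iv4 F215860)).symm.trans (sb E55001 (iv4 D70496)))
theorem E58677 : n149924 = n74802 := (((D74802).symm.trans (sb E55001 D149924))).symm
theorem E58678 : n74803 = n55595 := ((D74803).symm.trans (sb E55001 (iv6 F130798)))
theorem F302925 : act 0 n34269 = n33865 := (sb E55002 F106944)
theorem E58680 : n65011 = n32707 := (((iv4 F215857)).symm.trans (sb E55002 (iv4 D70493)))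
theorem E58681 : n149922 = n74797 := (((D74797).symm.trans (sb E55002 D149922))).symm
theorem E58682 : n149923 = n74798 := (((D74798).symm.trans (sb E55002 D149923))).symm
theorem E58683 : n55254 = n32692 := (((iv1 F87438)).symm.trans (sb E55003 (iv1 D70448)))
theorem E58684 : n55253 = n39078 := ((F87443).symm.trans (sb E55003 F106911))
theorem E58685 : n74154 = n35744 := (((iv4 F110870)).symm.trans (sb E55003 F106912))
theorem F302926 : act 5 n34017 = n33865 := (sb E55003 (iv5 F106913))
theorem F302927 : act 7 n24405 = n33865 := (sb E55004 F87200)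
theorem E58688 : n49855 = n40719 := (((F61835).symm.trans (sb E55005 F188480))).symm
theorem F302928 : act 3 n33023 = n34255 := (sb E55005 (iv3 D74760))
theorem E58692 : n65072 = n40043 := ((((iv5 F302709)).symm.trans (sb E55006 D65072))).symm
theorem E58693 : n54435 = n14497 := ((D54435).symm.trans (sb E55006 (iv6 D30560)))
theorem E58699 : n133812 = n15819 := (((F41981).symm.trans (sb E55008 D133812))).symm
theorem F302929 : act 4 n32753 = n151923 := (sb E55009 (iv4 F238895))
theorem E58700 : n160130 = n15817 := ((((iv1 F51990)).symm.trans (sb E55011 (iv1 F252732)))).symm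
theorem E58702 : n117141 = n15815 := ((((iv1 D32855)).symm.trans (sb E55012 F185199))).symm
theorem E58703 : n70846 = n70235 := (((iv2 F185133)).symm.trans (sb E55012 F200063))
theorem E58705 : n70918 = n54360 := ((D70918).symm.trans (sb E55012 (iv5 D118007)))
theorem E58707 : n70845 = n70239 := (((iv7 F185132)).symm.trans (sb E55012 F200061))
theorem E58708 : n74709 = n54850 := ((((iv4 F185136)).symm.trans (sb E55013 F167585))).symm
theorem E58709 : n70913 = n54361 := ((D70913).symm.trans (sb E55013 F167586))
theorem E58710 : n70914 = n50055 := ((D70914).symm.trans (sb E55013 (iv6 D108402)))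
theorem E58712 : n133814 = n70923 := ((((iv5 F107469)).symm.trans (sb E55014 D133814))).symm
theorem E58713 : n70921 = n70214 := (((F185022).symm.trans (sb E55015 (iv1 F236738)))).symm
theorem E58714 : n70920 = n70094 := ((((iv0 F185023)).symm.trans (sb E55015 F236739))).symm
theorem F302930 : act 5 n117961 = n70848 := (sb E55015 F236737)
theorem E58715 : n117225 = n70847 := ((F185021).symm.trans (sb E55015 (iv7 D150397)))
theorem F302931 : act 6 n70503 = n33083 := (sb E55017 (iv6 D71519))
theorem E58719 : n151923 = n55407 := ((F302929).symm.trans (sb E55018 F124096))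
theorem E58720 : n118717 = n60121 := ((((iv3 F188370)).symm.trans (sb E55020 F259611))).symm
theorem F302935 : act 3 n71370 = n70848 := (sb E55032 (iv3 F300123))
theorem F302937 : act 7 n149906 = n81742 := (sb E55039 F267494)
theorem E58722 : n184531 = n75006 := (((D75006).symm.trans (sb E55042 D184531))).symm
theorem F302939 : act 2 n34365 = n41468 := (sb E55042 F135003)
theorem E58723 : n184533 = n54668 := ((((iv5 F86477)).symm.trans (sb E55042 D184533))).symm
theorem F302940 : act 6 n34365 = n41081 := (sb E55042 (iv6 D87998))
theorem F302941 : act 0 n88819 = n75007 := (sb E55043 F186796)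
theorem F302942 : act 2 n88819 = n55444 := (sb E55043 F186792)
theorem F302943 : act 4 n88819 = n54686 := (sb E55043 F186794)
theorem E58724 : n186481 = n54670 := (((iv5 F289345)).symm.trans (sb E55043 (iv5 D118741)))
theorem F302944 : act 3 n56916 = n62914 := (sb E55044 F188420)
theorem E58726 : n157305 = n122599 := (((D122599).symm.trans (sb E55044 F247540))).symm
theorem E58727 : n151903 = n88817 := ((((iv4 F299883)).symm.trans (sb E55045 F238862))).symm
theorem E58728 : n122598 = n49850 := ((D122598).symm.trans (sb E55045 (iv6 D107927)))
theorem E58730 : n71414 = n27339 := (((F87649).symm.trans (sb E55047 (iv0 F215434)))).symm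
theorem E58731 : n53988 = n44765 := (((F70916).symm.trans (sb E55048 (iv5 D117148)))).symm
theorem E58733 : n182985 = n118647 := (((D118647).symm.trans (sb E55049 (iv6 F284577)))).symm
theorem F302945 : act 5 n71364 = n81924 := (sb E55060 (iv5 D170896))
theorem E58735 : n104174 = n78247 := ((((iv3 F119432)).symm.trans (sb E55065 (iv3 F259708)))).symm
theorem F302947 : act 1 n55309 = n61690 := (sb E55068 (iv0 D131443))
theorem E58736 : n71621 = n71555 := (((F297871).symm.trans (sb E55068 (iv4 F210697)))).symm
theorem E58737 : n82972 = n61734 := (((D61734).symm.trans (sb E55069 (iv5 F127892)))).symm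
theorem F302948 : act 3 n38191 = n61690 := (sb E58170 F210678)
theorem E58739 : n82977 = n61688 := ((D82977).symm.trans (sb E58170 (iv6 D131439)))
theorem E58740 : n131566 = n75599 := ((D131566).symm.trans (iv6 (sb E55072 (tr (iv6 D167078) E58663))))
theorem E58741 : n150486 = n75597 := ((((iv1 F249652)).symm.trans (sb E55073 F267991))).symm
theorem F302949 : act 4 n158449 = n81758 := (sb E55073 (iv4 D170560))
theorem E58742 : n158144 = n72042 := (((iv3 F249097)).symm.trans (sb E55074 (iv3 D152698)))
theorem F302950 : act 3 n87997 = n48952 := (sb E55075 F162607)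
theorem F302951 : act 6 n87997 = n48950 := (sb E55075 (iv6 D105876))
theorem E58744 : n186479 = n71429 := (((F107955).symm.trans (sb E55076 D186479))).symm
theorem E58745 : n186480 = n15941 := ((((iv4 D33055)).symm.trans (sb E55076 D186480))).symm
theorem F302952 : act 5 n33055 = n41468 := (sb E55076 (iv5 D88818))
theorem E58746 : n71441 = n41471 := ((D71441).symm.trans (sb E55076 F136201))
theorem E58747 : n186464 = n73421 := ((D186464).symm.trans (sb E55078 F238717))
theorem F302953 : act 6 n55312 = n45909 := (sb E55079 (iv6 D98223))
theorem F302954 : act 3 n161922 = n83397 := (sb E55080 (iv3 D174493))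
theorem F302955 : act 3 n161924 = n84941 := (sb E55081 F278106)
theorem F302956 : act 5 n161924 = n84933 := (sb E55081 (iv5 D178480))
theorem F302957 : act 6 n161924 = n84936 := (sb E55081 F278107)
theorem F302958 : act 6 n161725 = n77764 := (sb E55082 (iv6 D161927))
theorem F302959 : act 0 n32727 = n62912 := (sb E55083 (iv1 F98154))
theorem F302960 : act 1 n32727 = n29295 := (sb E55083 (iv0 F96362))
theorem E58748 : n49878 = n15635 := ((((iv3 D32727)).symm.trans (sb E55083 F110538))).symm
theorem E58749 : n60382 = n54369 := ((((iv5 F85817)).symm.trans (sb E55083 (iv5 F110539)))).symm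
theorem E58750 : n70549 = n29283 := ((D70549).symm.trans (sb E55083 (iv6 D61782)))
theorem E58751 : n131585 = n38551 := (((iv3 F228039)).symm.trans (sb E55084 F107408))
theorem F302961 : act 4 n61814 = n80081 := (sb E55084 (iv4 F122887))
theorem E58752 : n131754 = n70262 := ((D131754).symm.trans (sb E55084 F107409))
theorem E58753 : n150441 = n131344 := ((((iv6 F210524)).symm.trans (sb E55084 D150441))).symm
theorem E58754 : n32629 = n14969 := ((((iv1 D31810)).symm.trans (sb E55085 (iv1 D70308)))).symm
theorem E58755 : n68335 = n52907 := ((F104522).symm.trans (sb E55085 F106768))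
theorem E58756 : n149695 = n68359 := (((D68359).symm.trans (sb E55085 D149695))).symm
theorem E58757 : n86323 = n68360 := (((D68360).symm.trans (sb E55085 F178693))).symm
theorem F302962 : act 3 n16626 = n33081 := (sb E55088 (iv3 D71511))
theorem F302963 : act 3 n24285 = n45773 := (sb E55090 F297892)
theorem F302964 : act 4 n24285 = n26325 := (sb E55090 (iv4 D54433))
theorem E58763 : n149989 = n3509 := ((((iv0 D7729)).symm.trans (sb E55091 F235953))).symm
theorem E58764 : n70503 = n16531 := ((((iv4 F26150)).symm.trans (sb E55091 F235844))).symm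
theorem E58765 : n178682 = n5358 := (((F12021).symm.trans (sb E55091 (iv5 F278500)))).symm
theorem E58766 : n70501 = n11437 := ((((iv7 F18697)).symm.trans (sb E55091 (iv7 D149938)))).symm
theorem F302965 : act 4 n34337 = n26324 := (sb E55092 (iv4 D54430))
theorem E58767 : n49821 = n35708 := (((iv6 F78744)).symm.trans (sb E55092 F85968))
theorem E58768 : n34342 = n32717 := ((F78725).symm.trans (sb E55094 (iv6 D70530)))
theorem E58769 : n107862 = n70937 := ((D107862).symm.trans (sb E55095 (iv6 F185653)))
theorem E58770 : n127924 = n81671 := (((iv4 F205853)).symm.trans (sb E55096 (iv4 F132386)))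
theorem F302966 : act 5 n72350 = n83548 := (sb E55096 F132385)
theorem E58771 : n153228 = n81786 := ((D153228).symm.trans (sb E55096 (iv6 F297887)))
theorem F302967 : act 1 n74702 = n55136 := (sb E55097 F112459)
theorem E58772 : n157126 = n70541 := ((D157126).symm.trans (sb E55097 F112457))
theorem F302968 : act 7 n74702 = n34336 := (sb E55097 (iv7 D74931))
theorem E58773 : n120693 = n70856 := (((iv1 F192402)).symm.trans (sb E55098 (iv1 F230519)))
theorem E58774 : n120188 = n70851 := ((F189834).symm.trans (sb E55098 F230520))
theorem E58775 : n69441 = n68949 := ((F112449).symm.trans (sb E55098 (iv7 D147045)))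
theorem E58776 : n32725 = n32258 := (((F54491).symm.trans (sb E55099 (iv6 D70543)))).symm
theorem E58777 : n33925 = n15532 := ((((iv1 D32659)).symm.trans (sb E55100 F85595))).symm
theorem E58778 : n74987 = n15547 := (((F51736).symm.trans (sb E55100 F112522))).symm
theorem E58779 : n32062 = n26232 := ((F51738).symm.trans (sb E55100 (iv5 D54251)))
theorem F302969 : act 6 n32659 = n49813 := (sb E55100 (iv6 F85596))
theorem E58781 : n70304 = n32259 := ((((iv5 D69456)).symm.trans (sb E55102 (iv5 D149691)))).symm
theorem E58783 : n119037 = n23879 := (((F55462).symm.trans (sb E55103 F187294))).symm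
theorem F302970 : act 3 n35000 = n34337 := (sb E55103 F112446)
theorem E58784 : n133925 = n16989 := ((((iv4 D35000)).symm.trans (sb E55103 (iv4 F215746)))).symm
theorem E58785 : n107867 = n76592 := (((D76592).symm.trans (sb E55103 (iv6 F166656)))).symm
theorem F302971 : act 3 n76592 = n35708 := (sb E55105 (iv3 D78347))
theorem E58789 : n159974 = n155245 := ((D159974).symm.trans (sb E55105 (iv5 F244150)))
theorem F302972 : act 5 n34337 = n74702 := (sb E55107 (iv5 D157125))
theorem E58791 : n70527 = n18957 := (((D18957).symm.trans (sb E55108 F235863))).symm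
theorem F302973 : act 4 n32715 = n19310 := (sb E55109 F61018)
theorem F302974 : act 6 n32715 = n18956 := (sb E55109 (iv6 D40123))
theorem E58793 : n86561 = n35661 := ((((iv7 F56329)).symm.trans (sb E55109 D86561))).symm
theorem E58794 : n127315 = n33022 := (((F61013).symm.trans (sb E55110 (iv1 F235877)))).symm
theorem E58796 : n70532 = n60385 := ((((iv6 F300073)).symm.trans (sb E55110 F235874))).symm
theorem E58797 : n70446 = n32430 := (((F51786).symm.trans (sb E55111 (iv0 F300074)))).symm
theorem E58798 : n86556 = n15600 := ((((iv5 D32720)).symm.trans (sb E55111 D86556))).symm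
theorem E58799 : n120899 = n18955 := ((F302902).symm.trans (sb E55111 (iv6 D40122)))
theorem E58800 : n60394 = n60378 := (((iv7 F94910)).symm.trans (sb E55111 (iv7 F300075)))
theorem F302975 : act 5 n10158 = n16159 := (sb E55115 (iv5 D33454))
theorem E58802 : n72462 = n21269 := (((D21269).symm.trans (sb E55115 (iv6 F108988)))).symm
theorem E58804 : n162774 = n48187 := (((D48187).symm.trans (sb E55118 (iv1 F257028)))).symm
theorem E58805 : n162773 = n48188 := (((D48188).symm.trans (sb E55118 F257024))).symm
theorem E58806 : n124694 = n48189 := (((D48189).symm.trans (sb E55118 F206292))).symm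
theorem E58809 : n87890 = n48187 := ((D87890).symm.trans (sb E55123 (tr F257031 E58804)))
theorem E58810 : n87892 = n55528 := ((D87892).symm.trans (sb E55123 F192147))
theorem E58811 : n87894 = n55526 := ((D87894).symm.trans (sb E55123 (iv6 D120573)))
theorem E58812 : n87895 = n48188 := ((D87895).symm.trans (sb E55123 (tr F257027 E58805)))
theorem E58813 : n87897 = n69262 := ((D87897).symm.trans (sb E55124 F231589))
theorem E58814 : n87899 = n69261 := ((D87899).symm.trans (sb E55124 (iv6 D147826)))
theorem E58815 : n124696 = n87901 := (((D87901).symm.trans (sb E55125 F199483))).symm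
theorem E58816 : n154130 = n87902 := (((D87902).symm.trans (sb E55125 D154130))).symm
theorem E58819 : n75048 = n48207 := (((D48207).symm.trans (sb E55127 (iv0 F240504)))).symm
theorem E58820 : n124782 = n48208 := (((D48208).symm.trans (sb E55127 F240503))).symm
theorem F302976 : act 7 n69819 = n48952 := (sb E55128 F191240)
theorem F302977 : act 1 n32660 = n48952 := (sb E55129 (iv0 D105878))
theorem E58822 : n119793 = n70359 := (((D70359).symm.trans (sb E55129 F190048))).symm
theorem E58824 : n182955 = n70375 := (((D70375).symm.trans (sb E55132 D182955))).symm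
theorem E58825 : n147805 = n86407 := ((F231564).symm.trans (sb E55134 F297901))
theorem F302978 : act 5 n69416 = n79369 := (sb E55134 F297902)
theorem E58826 : n76766 = n32247 := ((((iv6 D69416)).symm.trans (sb E55134 (iv6 D160217)))).symm
theorem E58827 : n76767 = n32241 := ((((iv1 D69393)).symm.trans (sb E55135 (iv1 F115190)))).symm
theorem E58828 : n32584 = n32249 := (((F105675).symm.trans (sb E55135 (iv0 D70203)))).symm
theorem E58829 : n149488 = n148114 := (((D148114).symm.trans (sb E55135 D149488))).symm
theorem F302979 : act 5 n69393 = n70379 := (sb E55135 F107031)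
theorem E58832 : n161042 = n32843 := (((D32843).symm.trans (sb E55136 D161042))).symm
theorem F302980 : act 0 n153299 = n98343 := (sb E55137 (iv1 F286174))
theorem F302981 : act 1 n153299 = n98342 := (sb E55137 F286175)
theorem F302982 : act 2 n153299 = n98345 := (sb E55137 F286171)
theorem F302983 : act 7 n153299 = n87879 := (sb E55137 (iv7 D184241))
theorem F302984 : act 0 n100065 = n72457 := (sb E55138 (iv1 F197954))
theorem F302985 : act 4 n100065 = n57571 := (sb E55138 (iv4 D123527))
theorem F302986 : act 7 n100065 = n100791 := (sb E55138 F197952)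
theorem E58834 : n182951 = n72301 := (((D72301).symm.trans (sb E55140 D182951))).symm
theorem F302987 : act 5 n69791 = n48952 := (sb E55143 (iv5 D105880))
theorem F302988 : act 3 n80597 = n96681 := (sb E55145 F235591)
theorem F302989 : act 6 n80597 = n70356 := (sb E55145 (iv6 D149772))
theorem E58836 : n181733 = n150411 := (((D150411).symm.trans (sb E55148 (iv5 F282902)))).symm
theorem F302990 : act 1 n72373 = n71539 := (sb E55149 F133030)
theorem F302991 : act 3 n72373 = n40224 := (sb E55149 F133026)
theorem F302992 : act 4 n72373 = n55405 := (sb E55149 F133027)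
theorem E58837 : n153246 = n40223 := ((D153246).symm.trans (sb E55149 (iv5 D86744)))
theorem E58838 : n181715 = n153247 := (((D153247).symm.trans (sb E55149 D181715))).symm
theorem E58839 : n107882 = n40225 := (((D40225).symm.trans (sb E55150 (iv6 F187284)))).symm
theorem F302993 : act 5 n120364 = n125121 := (sb E55153 (iv5 F236101))
theorem F302995 : act 2 n118192 = n72663 := (sb E55154 (iv2 D153664))
theorem F302996 : act 4 n118192 = n150541 := (sb E55154 F241547)
theorem F302997 : act 7 n96681 = n81758 := (sb E55155 (iv7 D170563))
theorem F302998 : act 0 n162838 = n81688 := (sb E55156 (iv1 D170352))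
theorem F302999 : act 2 n162838 = n170216 := (sb E55156 (iv2 F267840))
theorem F303000 : act 7 n162838 = n170213 := (sb E55156 F267838)
theorem E58844 : n158446 = n72044 := ((D158446).symm.trans (sb E55157 (iv1 D152701)))
theorem F303001 : act 0 n75595 = n37375 := (sb E55161 (iv1 D81759))
theorem E58846 : n170565 = n34580 := (((F113454).symm.trans (sb E55161 D170565))).symm
theorem E58850 : n167333 = n150483 := ((D167333).symm.trans (sb E55162 (iv4 F267529)))
theorem E58854 : n167337 = n152660 := ((D167337).symm.trans (sb E55163 (iv3 F263474)))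
theorem F303002 : act 4 n80311 = n158458 := (sb E55164 (iv4 F300256))
theorem F303003 : act 4 n80314 = n159114 := (sb E55166 (iv4 F250504))
theorem F303004 : act 0 n180011 = n86578 := (sb E55168 (iv1 D181322))
theorem F303005 : act 7 n180011 = n181199 := (sb E55168 F282399)
theorem E58873 : n133700 = n32425 := (((D32425).symm.trans (sb E55173 (iv6 F215158)))).symm
theorem E58874 : n139050 = n12938 := (((F30275).symm.trans (sb E55174 (iv4 F243280)))).symm
theorem E58875 : n168904 = n40137 := (((D40137).symm.trans (sb E55174 D168904))).symm
theorem E58876 : n168074 = n70777 := ((D168074).symm.trans (sb E55175 F215761))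
theorem E58877 : n168075 = n149872 := ((D168075).symm.trans (sb E55175 F235734))
theorem E58879 : n168077 = n128134 := ((D168077).symm.trans (sb E55175 (iv7 F206252)))
theorem E58884 : n168912 = n18634 := (((D18634).symm.trans (sb E55176 D168912))).symm
theorem E58885 : n133745 = n32704 := (((F60245).symm.trans (sb E55177 F215284))).symm
theorem E58886 : n168913 = n78294 := (((F119497).symm.trans (sb E55177 D168913))).symm
theorem E58887 : n118126 = n84885 := (((D84885).symm.trans (sb E55177 (iv5 F185597)))).symm
theorem E58888 : n168914 = n78293 := ((((iv7 F119490)).symm.trans (sb E55177 D168914))).symm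
theorem E58889 : n101209 = n78245 := ((F155921).symm.trans (sb E55178 F234810))
theorem E58890 : n168915 = n168078 := (((D168078).symm.trans (sb E55178 D168915))).symm
theorem E58891 : n168079 = n70486 := ((D168079).symm.trans (sb E55178 (iv5 F234811)))
theorem E58893 : n168916 = n168081 := (((D168081).symm.trans (sb E55179 D168916))).symm
theorem E58895 : n168083 = n70487 := ((D168083).symm.trans (sb E55179 F234818))
theorem E58896 : n168084 = n167915 := ((D168084).symm.trans (sb E55179 (iv6 F264585)))
theorem F303006 : act 5 n54415 = n36825 := (sb E55180 (iv5 D80682))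
theorem F303008 : act 7 n70453 = n36825 := (sb E55181 (iv7 D80683))
theorem F303009 : act 1 n62787 = n36827 := (sb E55184 (iv0 D80686))
theorem F303010 : act 0 n70744 = n36827 := (sb E55185 (iv1 D80687))
theorem E58910 : n168100 = n32793 := ((((iv5 D70744)).symm.trans (sb E55185 D168100))).symm
theorem F303011 : act 5 n54416 = n36827 := (sb E55186 (iv5 D80688))
theorem E58915 : n168105 = n118127 := (((D118127).symm.trans (sb E55186 D168105))).symm
theorem F303012 : act 6 n80689 = n61599 := (sb E55187 F124794)
theorem F303013 : act 4 n32707 = n168112 := (sb E55189 D168112)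
theorem F303014 : act 4 n32708 = n168118 := (sb E55190 D168118)
theorem F303015 : act 5 n32708 = n36829 := (sb E55190 (iv5 D80694))
theorem F303016 : act 6 n28480 = n36829 := (sb E55191 (iv6 D80695))
theorem F303017 : act 1 n40217 = n26493 := (sb E55194 (iv0 D54776))
theorem E58924 : n119032 = n18991 := ((((iv5 D40217)).symm.trans (sb E55194 D119032))).symm
theorem E58925 : n86725 = n55121 := ((D86725).symm.trans (sb E55194 F87182))
theorem E58926 : n74949 = n40224 := (((F114862).symm.trans (sb E55195 (iv1 F247242)))).symm
theorem F303018 : act 3 n76591 = n74702 := (sb E55195 (iv3 D157124))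
theorem F303019 : act 6 n149967 = n76591 := (sb E55196 (iv6 D159973))
theorem E58929 : n119039 = n26491 := (((F77209).symm.trans (sb E55201 D119039))).symm
theorem F303020 : act 5 n48949 = n26493 := (sb E55201 (iv5 D54778))
theorem E58930 : n105875 = n26495 := ((D105875).symm.trans (sb E55201 F86662))
theorem E58931 : n165035 = n76588 := ((D165035).symm.trans (sb E55203 F252310))
theorem F303022 : act 6 n79289 = n76587 := (sb E55203 (iv6 D159964))
theorem F303028 : act 0 n170316 = n84885 := (sb E55209 (iv1 D178412))
theorem F303035 : act 6 n148477 = n81678 := (sb E55213 (iv6 D170325))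
theorem F303038 : act 4 n119782 = n81679 := (sb E55215 (iv4 D170328))
theorem F303040 : act 1 n86581 = n81680 := (sb E55217 (iv0 D170331))
theorem F303041 : act 0 n162862 = n81680 := (sb E55218 (iv1 D170332))
theorem F303042 : act 6 n56386 = n55737 := (sb E55224 (iv6 D120879))
theorem E58933 : n118792 = n118716 := (((F235905).symm.trans (sb E55228 (iv0 F267932)))).symm
theorem F303043 : act 0 n80567 = n61820 := (sb E55233 (iv1 D131764))
theorem E58934 : n133831 = n36766 := (((F185045).symm.trans (sb E55234 F235182))).symm
theorem F303044 : act 2 n69818 = n61820 := (sb E55234 F211125)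
theorem E58935 : n148927 = n133946 := (((iv3 F234007)).symm.trans (sb E55234 (iv3 F215805)))
theorem E58936 : n166113 = n148928 := (((D148928).symm.trans (sb E55234 (iv5 F261549)))).symm
theorem E58938 : n167862 = n166125 := ((D167862).symm.trans (sb E55239 (iv5 F261583)))
theorem F303046 : act 7 n80566 = n61820 := (sb E55239 (iv7 D131765))
theorem F303048 : act 1 n150484 = n165124 := (sb E55248 (iv0 F263470))
theorem F303049 : act 4 n150484 = n80310 := (sb E55248 (iv4 D167338))
theorem F303050 : act 4 n161209 = n123330 := (sb E55249 F255360)
theorem F303072 : act 6 n35509 = n56140 := (sb E55260 (iv6 D121551))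
theorem F303076 : act 4 n162275 = n164125 := (sb E55262 (iv4 F258678))
theorem E58939 : n80404 = n80378 := (((iv6 F123562)).symm.trans (sb E55266 (iv6 D167496)))
theorem F303077 : act 0 n77492 = n77370 := (sb E55267 (iv1 D161162))
theorem F303078 : act 1 n77492 = n77372 := (sb E55267 F254838)
theorem F303079 : act 1 n36622 = n80376 := (sb E55268 F123493)
theorem F303080 : act 2 n36622 = n35505 := (sb E55268 (iv2 F91370))
theorem F303081 : act 6 n36622 = n35381 := (sb E55268 F57495)
theorem E58941 : n161432 = n154425 := ((D161432).symm.trans (sb E55269 (iv0 F256056)))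
theorem E58942 : n162042 = n161433 := (((D161433).symm.trans (sb E55269 (iv2 F256107)))).symm
theorem F303085 : act 5 n167119 = n82882 := (sb E55271 (iv5 D173202))
theorem F303088 : act 6 n133133 = n80230 := (sb E58191 (iv6 D167121))
theorem F303089 : act 0 n174280 = n161515 := (sb E55276 (iv1 F275985))
theorem F303090 : act 1 n174281 = n161515 := (sb E55277 F275986)
theorem F303091 : act 0 n174279 = n161514 := (sb E55278 (iv1 F273228))
theorem F303092 : act 4 n174279 = n83358 := (sb E55278 (iv4 D174381))
theorem F303093 : act 7 n174279 = n161515 := (sb E55278 F273226)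
theorem F303094 : act 7 n174282 = n161516 := (sb E55279 F275988)
theorem F303095 : act 7 n174284 = n161519 := (sb E55282 F275992)
theorem F303096 : act 6 n98142 = n176540 := (sb E55284 (iv6 F275850))
theorem E58947 : n131577 = n80454 := ((((iv5 F123670)).symm.trans (sb E55285 F244474))).symm
theorem F303097 : act 1 n98189 = n54572 := (sb E55286 (iv0 D118501))
theorem F303098 : act 3 n121390 = n176540 := (sb E55287 F275849)
theorem F303099 : act 7 n121390 = n85265 := (sb E55287 F244481)
theorem E58948 : n149168 = n33653 := ((((iv4 D73043)).symm.trans (sb E55288 F244484))).symm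
theorem E58949 : n154176 = n149154 := ((D154176).symm.trans (sb E55288 F244485))
theorem E58950 : n131450 = n80453 := (((F123665).symm.trans (sb E55289 (iv5 F210707)))).symm
theorem E58951 : n101285 = n32491 := ((D101285).symm.trans (sb E55289 (iv6 D70001)))
theorem F303100 : act 0 n100810 = n54572 := (sb E55290 (iv1 D118502))
theorem F303101 : act 6 n69999 = n56011 := (sb E55291 (iv6 D121391))
theorem F303102 : act 3 n33940 = n55047 := (sb E55294 F188687)
theorem F303103 : act 6 n33940 = n55046 := (sb E55294 (iv6 D119642))
theorem F303104 : act 5 n120813 = n73945 := (sb E55297 (iv5 D155479))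
theorem F303105 : act 3 n33946 = n56015 := (sb E55300 F193652)
theorem F303106 : act 7 n121402 = n181855 := (sb E55302 (iv7 F283086))
theorem F303107 : act 3 n120816 = n73945 := (sb E55303 F244455)
theorem F303108 : act 2 n37889 = n54572 := (sb E55304 F186308)
theorem E58954 : n82528 = n82525 := (((D82525).symm.trans (sb E55304 F186309))).symm
theorem F303109 : act 4 n56981 = n54572 := (sb E55305 (iv4 D118503))
theorem E58955 : n135389 = n82525 := (((iv2 F217619)).symm.trans (sb E58258 F194509))
theorem E58956 : n135425 = n122665 := (((iv4 F217750)).symm.trans (sb E58258 (iv4 F196532)))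
theorem E58957 : n161373 = n63287 := (((D63287).symm.trans (sb E55311 (iv5 F255182)))).symm
theorem F303110 : act 6 n63662 = n54572 := (sb E55312 F186399)
theorem F303111 : act 6 n39398 = n85244 := (sb E55314 (iv6 D178823))
theorem F303116 : act 0 n121390 = n85244 := (sb E55316 (iv1 F255629))
theorem F303117 : act 1 n121390 = n77625 := (sb E55316 (iv0 D161620))
theorem F303118 : act 0 n119668 = n77625 := (sb E55317 (iv1 D161621))
theorem F303119 : act 1 n119668 = n85244 := (sb E55317 F255630)
theorem F303120 : act 1 n124977 = n85265 := (sb E55318 F278690)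
theorem F303121 : act 5 n124977 = n152628 := (sb E55318 F278688)
theorem F303122 : act 0 n161622 = n152630 := (sb E55319 (iv1 F272587))
theorem F303123 : act 1 n161622 = n83175 := (sb E55319 (iv0 D173937))
theorem F303124 : act 2 n161622 = n152628 := (sb E55319 F272582)
theorem F303126 : act 3 n124990 = n77627 := (sb E55320 F255632)
theorem F303127 : act 6 n124990 = n77625 := (sb E55320 (iv6 D161623))
theorem F303130 : act 2 n161625 = n167210 := (sb E55322 F283031)
theorem E58959 : n167359 = n167357 := ((((iv5 F263493)).symm.trans (sb E55322 F283032))).symm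
theorem E58960 : n80316 = n61381 := (E55323).trans E58265
theorem E58961 : n62490 = n36590 := (((iv1 F98506)).symm.trans (sb E58960 (iv1 D80316)))
theorem E58962 : n152668 = n130843 := ((((iv3 F209411)).symm.trans (sb E58960 (iv3 F239886)))).symm
theorem E58964 : n167357 = n29054 := ((((iv6 D61381)).symm.trans (sb E58960 (tr D167359 E58959)))).symm
theorem F303131 : act 5 n155084 = n80188 := (sb E55324 (iv5 D167055))
theorem F303132 : act 7 n155084 = n161333 := (sb E55324 F263094)
theorem F303136 : act 3 n120603 = n77684 := (sb E55327 (iv3 D161716))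
theorem F303141 : act 0 n77624 = n75744 := (sb E55331 (iv1 D158774))
theorem F303142 : act 1 n77624 = n77443 := (sb E55331 F249965)
theorem F303143 : act 5 n167046 = n83061 := (sb E55332 (iv5 D173684))
theorem F303148 : act 5 n167043 = n84120 := (sb E55335 (iv5 D176434))
theorem F303149 : act 6 n167490 = n84120 := (sb E55336 F263663)
theorem F303152 : act 2 n167045 = n84132 := (sb E55338 F275741)
theorem E58966 : n130494 = n80376 := (((iv5 F209053)).symm.trans (sb E58270 F262892))
theorem E58967 : n80367 = n60816 := (((F96806).symm.trans (sb E58270 F262891))).symm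
theorem F303153 : act 3 n119645 = n55155 := (sb E55342 (iv3 D119840))
theorem F303155 : act 2 n121499 = n181856 := (sb E55346 (iv2 F283087))
theorem F303156 : act 1 n98540 = n56084 := (sb E55347 (iv0 D121479))
theorem F303157 : act 1 n121480 = n77635 := (sb E55348 (iv0 D161639))
theorem F303158 : act 2 n121480 = n77640 := (sb E55348 F268276)
theorem F303159 : act 7 n121480 = n77641 := (sb E55348 F268277)
theorem F303160 : act 0 n121481 = n77641 := (sb E55349 (iv1 F255652))
theorem F303161 : act 1 n121481 = n77640 := (sb E55349 F255653)
theorem F303162 : act 6 n121481 = n181812 := (sb E55349 (iv6 F283002))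
theorem F303163 : act 7 n121481 = n77635 := (sb E55349 (iv7 D161641))
theorem F303164 : act 7 n121483 = n77642 := (sb E55350 (iv7 D161661))
theorem F303165 : act 3 n157667 = n77658 := (sb E55351 (iv3 D161673))
theorem F303166 : act 0 n121485 = n161533 := (sb E55352 (iv1 F255689))
theorem F303167 : act 1 n121485 = n161529 := (sb E55352 F255690)
theorem F303168 : act 5 n121485 = n162390 := (sb E55352 (iv5 F256515))
theorem F303171 : act 0 n73909 = n83313 := (sb E55354 (iv1 D174297))
theorem F303172 : act 1 n73909 = n83318 := (sb E55354 F273094)
theorem F303173 : act 0 n119466 = n83318 := (sb E55355 F273093)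
theorem F303174 : act 1 n119466 = n83313 := (sb E55355 (iv0 D174296))
theorem F303175 : act 4 n119466 = n83555 := (sb E55355 F273092)
theorem F303176 : act 4 n161548 = n79777 := (sb E55356 F261625)
theorem F303181 : act 4 n77512 = n76195 := (sb E55359 (iv4 D159261))
theorem E58970 : n36597 = n29531 := (((F98504).symm.trans (iv0 (sb E55365 (tr (iv1 D36598) E56256))))).symm
theorem E58971 : n36598 = n29531 := (E55365).trans E58970
theorem E58972 : n80338 = n62487 := (((D62487).symm.trans (sb E58971 D80338))).symm
theorem E58973 : n80336 = n14031 := ((((iv4 D29531)).symm.trans (sb E58971 (tr D80339 E57867)))).symm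
theorem E58974 : n77474 = n62488 := (((D62488).symm.trans (sb E58971 (iv5 F116299)))).symm
theorem E58979 : n150187 = n86363 := ((D150187).symm.trans (sb E55369 F133475))
theorem F303185 : act 7 n70689 = n80121 := (sb E55369 F133474)
theorem F303186 : act 3 n118497 = n173861 := (sb E55370 (iv3 F272509))
theorem F303187 : act 1 n41717 = n80274 := (sb E55371 F154917)
theorem F303188 : act 7 n41717 = n80125 := (sb E55371 F154918)
theorem F303189 : act 2 n70610 = n80121 := (sb E55372 (iv2 F133462))
theorem E58981 : n150070 = n86362 := ((D150070).symm.trans (sb E55372 F133459))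
theorem E58982 : n182065 = n150071 := (((D150071).symm.trans (sb E55372 D182065))).symm
theorem F303190 : act 2 n118500 = n80123 := (sb E55373 F194765)
theorem F303191 : act 1 n83196 = n80125 := (sb E55374 (iv0 F128494))
theorem F303192 : act 2 n83196 = n80274 := (sb E55374 F128486)
theorem E58983 : n173994 = n38407 := (((iv3 F272629)).symm.trans (sb E55374 (iv3 D83366)))
theorem E58984 : n174008 = n46506 := (((iv5 F272638)).symm.trans (sb E55374 F128488))
theorem E58986 : n174006 = n47004 := ((((iv1 F107104)).symm.trans (sb E55375 (iv1 F272633)))).symm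
theorem F303193 : act 3 n83202 = n80275 := (sb E55376 F263388)
theorem F303194 : act 6 n83202 = n80274 := (sb E55376 (iv6 D167214))
theorem E58988 : n178435 = n80255 := ((((iv1 D167171)).symm.trans (sb E55377 (iv1 F278041)))).symm
theorem F303195 : act 1 n167171 = n80275 := (sb E55377 (iv0 D167215))
theorem F303196 : act 0 n167170 = n80275 := (sb E55378 (iv1 D167216))
theorem E58989 : n178432 = n174011 := ((D178432).symm.trans (sb E55379 (iv1 F272654)))
theorem E58990 : n178433 = n174010 := ((D178433).symm.trans (sb E55379 F272661))
theorem F303197 : act 7 n83198 = n80275 := (sb E55380 (iv7 D167218))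
theorem E58991 : n178495 = n161907 := (((D161907).symm.trans (sb E55381 (iv1 F278127)))).symm
theorem E58992 : n178494 = n161908 := (((D161908).symm.trans (sb E55381 F278132))).symm
theorem E58993 : n178497 = n161909 := (((D161909).symm.trans (sb E55381 (iv2 F278130)))).symm
theorem F303198 : act 5 n77759 = n80280 := (sb E55381 F263395)
theorem F303199 : act 7 n77759 = n80279 := (sb E55381 (iv7 D167236))
theorem F303204 : act 1 n118497 = n80236 := (sb E55385 (iv0 D167136))
theorem E58994 : n174481 = n173861 := (((F303186).symm.trans (sb E55385 F273370))).symm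
theorem E58997 : n160016 = n119392 := (((F188090).symm.trans (sb E55386 (iv2 F252424)))).symm
theorem F303205 : act 3 n73699 = n36051 := (sb E55386 (iv3 D79182))
theorem F303206 : act 4 n73699 = n80236 := (sb E55386 (iv4 F123269))
theorem F303209 : act 3 n117848 = n80238 := (sb E55388 F263269)
theorem F303210 : act 6 n117848 = n80236 := (sb E55388 (iv6 D167139))
theorem F303211 : act 3 n36557 = n17732 := (sb E55389 F91309)
theorem F303212 : act 5 n36557 = n35576 := (sb E55389 F57496)
theorem F303213 : act 7 n36557 = n35299 := (sb E55389 F91310)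
theorem F303220 : act 7 n77760 = n80287 := (sb E55396 (iv7 D167253))
theorem E59000 : n174987 = n84928 := (((iv3 F273871)).symm.trans (sb E55398 (iv3 D178476)))
theorem F303221 : act 0 n161163 = n77752 := (sb E55399 (iv1 F255849))
theorem F303222 : act 1 n161163 = n77738 := (sb E55399 (iv0 D161861))
theorem F303227 : act 0 n80373 = n77444 := (sb E55403 (iv1 F123555))
theorem E59003 : n179108 = n166905 := (E55410).trans E57020
theorem F303236 : act 2 n166905 = n161331 := (sb E59003 (tr (iv2 F279051) E57826))
theorem F303237 : act 5 n166905 = n124983 := (sb E59003 F279050)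
theorem F303238 : act 6 n166905 = n155136 := (sb E59003 (iv6 F279054))
theorem F303239 : act 0 n118500 = n80188 := (sb E55411 (iv1 D167054))
theorem F303240 : act 3 n152672 = n80190 := (sb E55413 F263095)
theorem F303241 : act 6 n152672 = n80188 := (sb E55413 (iv6 D167056))
theorem F303244 : act 5 n167213 = n161403 := (sb E55417 F283025)
theorem F303245 : act 0 n161316 = n181814 := (sb E55418 (iv1 F283012))
theorem F303247 : act 0 n158775 = n77685 := (sb E55419 (iv1 D161719))
theorem F303248 : act 1 n158775 = n181814 := (sb E55419 (iv0 F283011))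
theorem E59004 : n75615 = n75329 := ((D75615).symm.trans (sb E55420 (tr (iv3 F262924) E57687)))
theorem E59005 : n167438 = n46717 := (((F249125).symm.trans (sb E55420 (tr (iv4 F263701) E57227)))).symm
theorem E59008 : n75620 = n36502 := ((D75620).symm.trans (sb E55421 (iv3 D80150)))
theorem F303249 : act 5 n161177 = n77794 := (sb E55424 (iv5 D161966))
theorem F303259 : act 4 n41473 = n80125 := (sb E55432 (iv4 F122980))
theorem E59012 : n88837 = n44993 := ((D88837).symm.trans (sb E55432 F112537))
theorem E59014 : n88843 = n44677 := ((D88843).symm.trans (sb E55433 F116270))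
theorem E59015 : n97042 = n88844 := (((D88844).symm.trans (sb E55433 (iv0 F149698)))).symm
theorem F303260 : act 3 n41475 = n33055 := (sb E55433 (iv3 D71439))
theorem E59016 : n88845 = n78991 := ((D88845).symm.trans (sb E55433 (iv4 F120170)))
theorem E59018 : n83840 = n18379 := ((((iv5 F29554)).symm.trans (sb E55434 F274525))).symm
theorem E59019 : n83022 = n27036 := ((((iv5 F54809)).symm.trans (sb E55435 (iv5 F249750)))).symm
theorem E59020 : n98224 = n75695 := ((D98224).symm.trans (sb E55436 F249752))
theorem F303261 : act 6 n34607 = n21952 := (sb E55437 (iv6 D45911))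
theorem E59023 : n98228 = n75684 := ((((iv7 F113546)).symm.trans (sb E55437 D98228))).symm
theorem F303262 : act 3 n71961 = n75331 := (sb E55438 F249108)
theorem E59025 : n97104 = n89335 := ((((iv4 F137020)).symm.trans (sb E55439 (iv4 F149828)))).symm
theorem E59026 : n123696 = n89336 := (((D89336).symm.trans (sb E55439 D123696))).symm
theorem E59028 : n157560 = n47032 := (((F74287).symm.trans (sb E55440 D157560))).symm
theorem F303263 : act 3 n158179 = n152581 := (sb E55441 F255115)
theorem E59030 : n174790 = n83774 := ((D174790).symm.trans (sb E55442 (iv5 D175438)))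
theorem E59031 : n174994 = n174791 := (((D174791).symm.trans (sb E55442 F274620))).symm
theorem E59032 : n174979 = n174792 := (((D174792).symm.trans (sb E55443 (iv3 F273860)))).symm
theorem E59033 : n174793 = n47040 := ((D174793).symm.trans (sb E55443 F155085))
theorem E59034 : n174794 = n83775 := ((D174794).symm.trans (sb E55443 F128813))
theorem E59036 : n38617 = n34559 := ((((iv1 F56146)).symm.trans (sb E55444 (iv1 D83838)))).symm
theorem E59037 : n173564 = n17184 := ((((iv0 D35429)).symm.trans (sb E55444 F274568))).symm
theorem E59038 : n173563 = n38489 := ((((iv2 F59330)).symm.trans (sb E55444 F273895))).symm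
theorem E59040 : n175510 = n57640 := ((((iv4 F90776)).symm.trans (sb E55444 (iv4 F274769)))).symm
theorem E59041 : n174997 = n77609 := (((D77609).symm.trans (sb E55444 (iv6 F273894)))).symm
theorem E59042 : n158387 = n38493 := ((((iv7 F59339)).symm.trans (sb E55444 F273896))).symm
theorem E59043 : n175456 = n54545 := (((F86197).symm.trans (sb E55445 (iv3 F274707)))).symm
theorem E59044 : n47231 = n16269 := ((((iv4 D33655)).symm.trans (sb E55445 F184687))).symm
theorem F303265 : act 6 n33655 = n38603 := (sb E55445 (iv6 D83787))
theorem F303266 : act 4 n100935 = n77434 := (sb E55446 (iv4 D161290))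
theorem F303267 : act 5 n158423 = n77434 := (sb E55447 (iv5 D161291))
theorem F303268 : act 6 n158522 = n77434 := (sb E55448 (iv6 D161292))
theorem F303269 : act 4 n99441 = n77435 := (sb E55449 (iv4 D161293))
theorem F303270 : act 3 n158424 = n152585 := (sb E55450 F255121)
theorem F303271 : act 5 n158424 = n77435 := (sb E55450 (iv5 D161294))
theorem E59045 : n173367 = n152586 := ((D173367).symm.trans (sb E55451 F255122))
theorem F303272 : act 6 n82964 = n77435 := (sb E55451 (iv6 D161295))
theorem E59046 : n175428 = n174799 := (((iv1 F274519)).symm.trans (sb E55452 (iv1 F273641)))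
theorem F303273 : act 1 n83772 = n77436 := (sb E55452 (iv0 D161296))
theorem E59047 : n174796 = n158421 := ((((iv2 F249604)).symm.trans (sb E55452 (iv2 F274474)))).symm
theorem E59048 : n174797 = n158418 := ((((iv7 F249599)).symm.trans (sb E55452 F274473))).symm
theorem F303274 : act 0 n83767 = n77436 := (sb E55453 (iv1 D161297))
theorem E59049 : n175425 = n152588 := (((iv3 F274500)).symm.trans (sb E55453 F274471))
theorem E59051 : n167455 = n47035 := ((((iv4 F74285)).symm.trans (sb E55454 D167455))).symm
theorem E59075 : n167495 = n158176 := (((F249123).symm.trans (iv0 (sb E55462 (tr F263751 E57832))))).symm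
theorem E59076 : n167536 = n158176 := (E55462).trans E59075
theorem E59077 : n101650 = n80378 := ((F274674).symm.trans (sb E59076 (tr (iv5 D167536) E58939)))
theorem F303278 : act 5 n167497 = n161422 := (sb E55464 F263755)
theorem E59081 : n80339 = n14031 := (E57867).trans E58973
theorem F303280 : act 0 n166944 = n80311 := (sb E55466 (iv1 F262826))
theorem F303281 : act 1 n166945 = n80311 := (sb E55467 F262830)
theorem F303282 : act 0 n166946 = n80310 := (sb E55468 (iv1 F262831))
theorem F303284 : act 7 n166946 = n80311 := (sb E55468 F262828)
theorem F303286 : act 4 n77728 = n81773 := (sb E55473 F267980)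
theorem E59082 : n166964 = n161851 := (((D161851).symm.trans (sb E55473 F267981))).symm
theorem E59083 : n161851 = n61232 := (((D61232).symm.trans (sb E57806 (tr D166964 E59082)))).symm
theorem F303288 : act 0 n35386 = n35256 := (sb E55498 (iv1 F91285))
theorem F303291 : act 2 n160358 = n77789 := (sb E55506 F255931)
theorem F303292 : act 4 n160358 = n77783 := (sb E55506 (iv4 D161952))
theorem F303293 : act 5 n160358 = n124455 := (sb E55506 F255934)
theorem F303294 : act 7 n160358 = n159183 := (sb E55506 F255933)
theorem F303295 : act 5 n83295 = n79885 := (sb E55507 (iv5 D166374))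
theorem F303296 : act 5 n162668 = n174707 := (sb E55508 (iv5 F273555))
theorem F303297 : act 6 n162668 = n83284 := (sb E55508 F260837)
theorem F303298 : act 0 n162653 = n173320 := (sb E55510 F273465)
theorem F303299 : act 1 n162653 = n124646 := (sb E55510 F273466)
theorem F303300 : act 2 n162653 = n174653 := (sb E55510 F273510)
theorem F303301 : act 7 n162653 = n174652 := (sb E55510 F273506)
theorem F303302 : act 6 n162657 = n84236 := (sb E55511 F273469)
theorem F303303 : act 0 n162658 = n124646 := (sb E55512 F273470)
theorem F303304 : act 1 n162658 = n173320 := (sb E55512 F273471)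
theorem F303305 : act 2 n162658 = n174652 := (sb E55512 F273505)
theorem F303306 : act 7 n162658 = n174653 := (sb E55512 (iv7 F273508))
theorem F303307 : act 6 n166867 = n84814 := (sb E55515 (iv6 D178189))
theorem F303308 : act 6 n39218 = n80107 := (sb E55517 F262654)
theorem F303309 : act 7 n78409 = n81993 := (sb E55518 (iv7 D171071))
theorem F303310 : act 7 n84576 = n81994 := (sb E55519 (iv7 D171076))
theorem E59086 : n180039 = n165633 := (((D165633).symm.trans (sb E55520 D180039))).symm
theorem E59087 : n180040 = n165634 := (((D165634).symm.trans (sb E55520 D180040))).symm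
theorem E59088 : n180041 = n165635 := (((D165635).symm.trans (sb E55520 D180041))).symm
theorem E59090 : n165638 = n121245 := ((D165638).symm.trans (sb E55520 (iv6 F193318)))
theorem F303311 : act 7 n79557 = n81828 := (sb E55520 F131976)
theorem F303313 : act 1 n84232 = n121704 := (sb E55522 F261753)
theorem F303315 : act 0 n84227 = n121704 := (sb E55523 F261754)
theorem F303322 : act 1 n76895 = n84794 := (sb E55525 (iv0 D178132))
theorem F303324 : act 5 n123990 = n85864 := (sb E55532 (iv5 D179768))
theorem E59091 : n179988 = n57748 := (((D57748).symm.trans (sb E55533 F280357))).symm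
theorem F303325 : act 2 n72958 = n39120 := (sb E55534 (iv2 D84694))
theorem E59092 : n177909 = n154082 := (((D154082).symm.trans (sb E55534 D177909))).symm
theorem F303326 : act 1 n72795 = n39120 := (sb E55535 (iv0 D84692))
theorem F303327 : act 0 n73332 = n39120 := (sb E55536 (iv1 D84693))
theorem E59099 : n177905 = n153896 := ((((iv3 F241854)).symm.trans (sb E55536 D177905))).symm
theorem F303328 : act 6 n73332 = n177908 := (sb E55536 D177908)
theorem E59102 : n122692 = n100078 := (((iv1 F196553)).symm.trans (sb E55537 (iv1 F154007)))
theorem E59103 : n100077 = n77604 := ((((iv0 F147344)).symm.trans (sb E55537 F154013))).symm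
theorem F303329 : act 5 n95646 = n46005 := (sb E55537 F151738)
theorem F303330 : act 7 n95646 = n46004 := (sb E55537 (iv7 D98330))
theorem E59104 : n100079 = n44646 := ((D100079).symm.trans (sb E55539 (iv4 D95591)))
theorem F303331 : act 7 n46725 = n46995 := (sb E55539 F147262)
theorem F303332 : act 5 n76643 = n46002 := (sb E55541 (iv5 D98320))
theorem F303333 : act 2 n98321 = n80201 := (sb E55542 F263119)
theorem F303334 : act 3 n98321 = n99290 := (sb E55542 F263120)
theorem F303335 : act 4 n98321 = n80214 := (sb E55542 F263121)
theorem F303336 : act 1 n46889 = n80201 := (sb E55543 (iv0 D167067))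
theorem E59105 : n174411 = n100495 := ((((iv4 F154556)).symm.trans (sb E55543 F273294))).symm
theorem F303337 : act 5 n124381 = n80201 := (sb E55544 (iv5 D167069))
theorem F303338 : act 6 n123248 = n57984 := (sb E55545 (iv6 D124383))
theorem E59106 : n150163 = n122835 := (((iv1 F236344)).symm.trans (sb E55546 (iv1 F253306)))
theorem E59107 : n150121 = n122832 := (((iv2 F236281)).symm.trans (sb E55546 F253307))
theorem F303339 : act 7 n76086 = n76872 := (sb E55546 F253149)
theorem F303340 : act 0 n76093 = n123285 := (sb E55547 F253153)
theorem F303341 : act 2 n76093 = n76860 := (sb E55547 F253151)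
theorem F303342 : act 7 n76093 = n76873 := (sb E55547 F253152)
theorem F303343 : act 0 n160285 = n77786 := (sb E55548 (iv1 D161957))
theorem F303344 : act 1 n124382 = n160331 := (sb E55549 F263129)
theorem F303345 : act 2 n124382 = n122657 := (sb E55549 F263127)
theorem E59108 : n160320 = n101842 := ((D160320).symm.trans (sb E55550 (iv0 F286961)))
theorem F303346 : act 0 n76839 = n58002 := (sb E55551 (iv1 D124400))
theorem F303347 : act 1 n76839 = n58020 := (sb E55551 F198941)
theorem F303348 : act 1 n76840 = n56773 := (sb E55552 (iv0 D122464))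
theorem F303349 : act 5 n76840 = n81881 := (sb E55552 F195925)
theorem E59109 : n87348 = n33367 := (((D33367).symm.trans (sb E55553 D87348))).symm
theorem F303350 : act 6 n16111 = n19173 := (sb E55553 (iv6 D40599))
theorem E59110 : n149457 = n46269 := ((D149457).symm.trans (sb E55554 F152415))
theorem F303351 : act 1 n72647 = n100411 := (sb E55555 F154474)
theorem F303352 : act 7 n72647 = n46262 := (sb E55555 (iv7 D98857))
theorem F303353 : act 2 n123252 = n85869 := (sb E55556 F201035)
theorem F303354 : act 6 n123252 = n58507 := (sb E55556 (iv6 D125127))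
theorem E59111 : n150174 = n120539 := (((D120539).symm.trans (sb E55557 F236358))).symm
theorem E59112 : n150094 = n120540 := (((D120540).symm.trans (sb E55557 (iv2 F236201)))).symm
theorem F303355 : act 4 n55507 = n34781 := (sb E55557 F114084)
theorem E59113 : n149092 = n120541 := (((D120541).symm.trans (sb E55557 F234481))).symm
theorem F303356 : act 6 n55507 = n69838 := (sb E55557 F114085)
theorem F303357 : act 0 n55508 = n39108 := (sb E55558 F114087)
theorem F303358 : act 1 n55508 = n39708 := (sb E55558 F114086)
theorem E59114 : n159175 = n120543 := (((D120543).symm.trans (sb E55558 D159175))).symm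
theorem E59115 : n159176 = n120544 := (((D120544).symm.trans (sb E55558 D159176))).symm
theorem F303359 : act 0 n39715 = n57826 := (sb E55559 (iv1 D124104))
theorem F303360 : act 3 n27546 = n41723 := (sb E55560 F136948)
theorem F303361 : act 3 n34364 = n41724 := (sb E55561 (iv3 F64358))
theorem E59118 : n86974 = n75005 := (((D75005).symm.trans (sb E55561 (iv5 F133491)))).symm
theorem F303362 : act 7 n34364 = n19081 := (sb E55561 (iv7 D40380))
theorem E59119 : n184545 = n57667 := (((D57667).symm.trans (sb E55562 D184545))).symm
theorem E59120 : n57668 = n41684 := ((D57668).symm.trans (sb E55562 F135007))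
theorem E59121 : n184560 = n72411 := (((D72411).symm.trans (sb E55564 (iv0 F286545)))).symm
theorem E59122 : n101231 = n72412 := (((D72412).symm.trans (sb E55564 F155944))).symm
theorem E59128 : n99501 = n75020 := (((D75020).symm.trans (sb E55569 (iv3 F155413)))).symm
theorem E59129 : n181312 = n70874 := ((((iv4 F109931)).symm.trans (sb E55569 (iv4 F282384)))).symm
theorem E59130 : n184559 = n75021 := (((D75021).symm.trans (sb E55569 D184559))).symm
theorem F303363 : act 6 n34369 = n41084 := (sb E55569 (iv6 D88012))
theorem E59131 : n184555 = n75027 := (((D75027).symm.trans (sb E55570 F286979))).symm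
theorem E59132 : n75028 = n22696 := ((D75028).symm.trans (sb E55571 (iv1 D47180)))
theorem E59133 : n101233 = n75029 := (((D75029).symm.trans (sb E55571 F155950))).symm
theorem F303364 : act 0 n76843 = n124323 := (sb E55577 F269091)
theorem F303365 : act 2 n76843 = n124385 := (sb E55577 F269089)
theorem F303366 : act 3 n47082 = n35051 := (sb E55578 F115025)
theorem E59135 : n101063 = n35050 := ((D101063).symm.trans (sb E55578 (iv5 D76677)))
theorem E59136 : n96188 = n70697 := (((D70697).symm.trans (sb E55579 F196646))).symm
theorem F303367 : act 3 n32784 = n55433 := (sb E55580 (iv3 D120408))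
theorem E59137 : n123602 = n70716 := (((D70716).symm.trans (sb E55580 (iv5 F198021)))).symm
theorem F303368 : act 3 n120409 = n70717 := (sb E55582 F236435)
theorem F303369 : act 5 n120409 = n175769 := (sb E55582 (iv5 F275195))
theorem E59138 : n44595 = n41718 := (((D41718).symm.trans (sb E55583 (iv5 D95457)))).symm
theorem E59139 : n186517 = n71452 := ((((iv1 F109574)).symm.trans (sb E55584 (iv1 F289403)))).symm
theorem F303370 : act 5 n73048 = n41474 := (sb E55584 (iv5 D88841))
theorem E59141 : n186522 = n154188 := (((D154188).symm.trans (sb E55584 D186522))).symm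
theorem F303371 : act 3 n88842 = n122798 := (sb E55585 F248311)
theorem F303372 : act 2 n89095 = n57700 := (sb E55586 F177741)
theorem F303373 : act 4 n89095 = n52682 := (sb E55586 F177742)
theorem F303374 : act 6 n89095 = n52681 := (sb E55586 (iv6 D114122))
theorem F303375 : act 3 n89354 = n57704 := (sb E55587 F198270)
theorem F303376 : act 7 n89354 = n57700 := (sb E55587 (iv7 D123799))
theorem F303377 : act 1 n118233 = n55436 := (sb E55588 (iv0 D120413))
theorem F303379 : act 0 n123964 = n83899 := (sb E55590 (iv1 D175765))
theorem F303380 : act 1 n123965 = n83899 := (sb E55591 (iv0 D175764))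
theorem F303382 : act 1 n123961 = n83908 := (sb E55592 F275193)
theorem F303385 : act 5 n75672 = n57751 := (sb E55593 (iv5 D123966))
theorem F303386 : act 5 n123967 = n170679 := (sb E55594 F272121)
theorem E59142 : n174079 = n28651 := (((D28651).symm.trans (sb E55595 F272885))).symm
theorem E59143 : n71330 = n28653 := (((D28653).symm.trans (sb E55596 F188149))).symm
theorem E59147 : n73403 = n16385 := (((D16385).symm.trans (sb E55603 (iv2 F110101)))).symm
theorem F303387 : act 4 n7605 = n16328 := (sb E55603 F53021)
theorem E59150 : n79475 = n16399 := (((D16399).symm.trans (sb E55604 D79475))).symm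
theorem F303388 : act 3 n60290 = n38426 := (sb E55609 F128524)
theorem E59166 : n174544 = n128263 := (((D128263).symm.trans (sb E55609 D174544))).symm
theorem F303389 : act 0 n162610 = n173300 := (sb E55610 F273450)
theorem F303390 : act 2 n162610 = n174520 := (sb E55610 F273448)
theorem F303391 : act 4 n162610 = n83432 := (sb E55610 (iv4 D174595))
theorem F303392 : act 7 n162610 = n174521 := (sb E55610 F273449)
theorem F303393 : act 1 n162611 = n173300 := (sb E55611 F273455)
theorem F303394 : act 2 n162611 = n174521 := (sb E55611 F273452)
theorem F303395 : act 4 n162611 = n83433 := (sb E55611 (iv4 D174598))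
theorem F303396 : act 7 n162611 = n174520 := (sb E55611 F273453)
theorem F303397 : act 0 n162613 = n186303 := (sb E55612 (iv1 F289071))
theorem F303398 : act 1 n162613 = n83589 := (sb E55612 (iv0 D175032))
theorem F303399 : act 2 n162613 = n174523 := (sb E55612 (iv2 F273940))
theorem F303400 : act 4 n162613 = n173333 := (sb E55612 F273939)
theorem F303401 : act 7 n162613 = n174548 := (sb E55612 (iv7 F273941))
theorem F303402 : act 7 n83417 = n78086 := (sb E55613 (iv7 D162614))
theorem F303403 : act 0 n162621 = n80215 := (sb E55615 (iv1 D167085))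
theorem F303404 : act 1 n162622 = n80215 := (sb E55616 (iv0 D167084))
theorem E59167 : n177724 = n153894 := ((((iv4 F256854)).symm.trans (sb E55616 (iv4 F277179)))).symm
theorem F303405 : act 0 n162623 = n82961 := (sb E55617 (iv1 F263177))
theorem F303406 : act 1 n162623 = n82960 := (sb E55617 (iv0 F263178))
theorem F303407 : act 3 n162623 = n80223 := (sb E55617 F263174)
theorem F303408 : act 6 n162623 = n83499 := (sb E55617 F263175)
theorem F303409 : act 7 n162623 = n80215 := (sb E55617 (iv7 D167087))
theorem F303410 : act 7 n162624 = n82962 := (sb E55618 (iv7 D173366))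
theorem F303411 : act 0 n162628 = n83587 := (sb E55619 (iv1 F271863))
theorem F303412 : act 1 n162628 = n83586 := (sb E55619 F271864)
theorem F303413 : act 2 n162628 = n83590 := (sb E55619 F271861)
theorem F303414 : act 5 n162628 = n186303 := (sb E55619 (iv5 F289069))
theorem F303415 : act 7 n162628 = n82970 := (sb E55619 (iv7 D173381))
theorem F303416 : act 2 n162629 = n83591 := (sb E55620 F271865)
theorem F303417 : act 5 n162629 = n83547 := (sb E55620 F271866)
theorem E59168 : n158623 = n61197 := (E55621).trans E57479
theorem E59169 : n75663 = n28978 := ((((iv1 D61197)).symm.trans (sb E59168 (iv1 D158623)))).symm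
theorem F303418 : act 4 n158586 = n160324 := (sb E55622 F264219)
theorem F303419 : act 6 n158586 = n160322 := (sb E55622 F264220)
theorem F303420 : act 5 n167614 = n83966 := (sb E55640 (iv5 D175958))
theorem F303421 : act 5 n167627 = n83980 := (sb E55644 (iv5 D176006))
theorem F303422 : act 3 n57665 = n75582 := (sb E55646 F249636)
theorem F303423 : act 3 n34987 = n52881 := (sb E55647 F106829)
theorem E59171 : n61743 = n46010 := ((((iv0 D98338)).symm.trans (sb E55648 (iv0 F206141)))).symm
theorem F303424 : act 2 n98338 = n60044 := (sb E55648 F178639)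
theorem E59172 : n133584 = n86392 := (((F151759).symm.trans (sb E55648 (iv4 F214886)))).symm
theorem F303425 : act 5 n98338 = n52881 := (sb E55648 (iv5 D114562))
theorem F303426 : act 6 n98338 = n52883 := (sb E55648 F178641)
theorem F303427 : act 4 n45390 = n75582 := (sb E55649 (iv4 D158439))
theorem E59173 : n152246 = n127898 := (((F239272).symm.trans (sb E55650 (iv2 F240154)))).symm
theorem F303428 : act 3 n152188 = n72178 := (sb E55650 (iv3 D152922))
theorem F303429 : act 7 n152188 = n75585 := (sb E55650 F240153)
theorem F303430 : act 5 n98339 = n60045 := (sb E55651 F205722)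
theorem F303431 : act 6 n98339 = n157456 := (sb E55651 (iv6 F248070))
theorem F303432 : act 7 n98339 = n60044 := (sb E55651 (iv7 D127852))
theorem F303433 : act 2 n80527 = n127962 := (sb E55652 F259761)
theorem E59174 : n130864 = n40097 := (((D40097).symm.trans (sb E55653 (iv6 F209452)))).symm
theorem F303435 : act 4 n85094 = n127986 := (sb E55654 (iv4 F205976))
theorem F303436 : act 6 n85094 = n40096 := (sb E55654 (iv6 D86516))
theorem E59178 : n181164 = n85165 := (((F130503).symm.trans (sb E55654 D181164))).symm
theorem F303437 : act 0 n120207 = n127986 := (sb E55655 F233892)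
theorem F303438 : act 3 n120207 = n69776 := (sb E55655 (iv3 D148863))
theorem F303439 : act 0 n26525 = n18917 := (sb E55656 (iv1 D40007))
theorem F303440 : act 1 n26525 = n45775 := (sb E55656 F72255)
theorem F303441 : act 2 n26525 = n45773 := (sb E55656 F72250)
theorem F303442 : act 3 n26525 = n48949 := (sb E55656 F77211)
theorem E59180 : n54831 = n46679 := ((D54831).symm.trans (sb E55656 F73779))
theorem E59181 : n86400 = n12666 := (((F42467).symm.trans (sb E55656 D86400))).symm
theorem F303443 : act 7 n26525 = n45774 := (sb E55656 F72249)
theorem F303444 : act 3 n40006 = n49815 := (sb E55658 F166619)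
theorem F303445 : act 5 n40006 = n54610 := (sb E55658 F166620)
theorem E59182 : n74936 = n70528 := ((((iv6 F296535)).symm.trans (sb E55658 F166621))).symm
theorem E59183 : n165282 = n157409 := ((D165282).symm.trans (sb E55660 (iv6 F247892)))
theorem E59184 : n149114 = n130865 := ((((iv1 F209460)).symm.trans (sb E55661 F252832))).symm
theorem F303446 : act 3 n74857 = n36159 := (sb E55661 F122000)
theorem F303447 : act 6 n74857 = n36158 := (sb E55661 (iv6 D79412))
theorem E59187 : n87343 = n33456 := (((D33456).symm.trans (sb E55666 F134755))).symm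
theorem F303448 : act 0 n72444 = n45998 := (sb E55668 (iv1 D98304))
theorem F303449 : act 1 n172153 = n127898 := (sb E55669 (iv0 F270566))
theorem F303450 : act 4 n82759 = n82449 := (sb E55670 (iv4 D172162))
theorem F303451 : act 4 n82760 = n82450 := (sb E55671 (iv4 D172167))
theorem F303452 : act 2 n172172 = n172545 := (sb E55675 F270730)
theorem F303453 : act 6 n172173 = n82571 := (sb E55676 (iv6 D172464))
theorem F303454 : act 0 n167750 = n85130 := (sb E55677 F270716)
theorem F303455 : act 4 n167750 = n84431 := (sb E55677 (iv4 F270713))
theorem F303456 : act 5 n167750 = n82596 := (sb E55677 (iv5 D172528))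
theorem F303457 : act 6 n167750 = n82896 := (sb E55677 F270714)
theorem F303458 : act 7 n167750 = n84166 := (sb E55677 F270712)
theorem F303459 : act 5 n78197 = n82592 := (sb E55680 (iv5 D172516))
theorem F303460 : act 0 n174634 = n98961 := (sb E55681 (iv1 F275431))
theorem F303461 : act 4 n174634 = n85827 := (sb E55681 F275429)
theorem F303462 : act 7 n174634 = n88074 := (sb E55681 F275430)
theorem F303463 : act 1 n174640 = n88074 := (sb E55682 (iv0 F275428))
theorem F303464 : act 3 n174640 = n172426 := (sb E55682 F275427)
theorem F303465 : act 4 n174640 = n88949 := (sb E55682 (iv4 F275426))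
theorem F303466 : act 7 n174640 = n98961 := (sb E55682 F275425)
theorem F303467 : act 0 n174639 = n88074 := (sb E55683 (iv1 F275423))
theorem F303468 : act 2 n174639 = n98961 := (sb E55683 (iv2 F275424))
theorem F303469 : act 3 n174639 = n181035 := (sb E55683 (iv3 F281875))
theorem F303470 : act 4 n174639 = n98960 := (sb E55683 F275422)
theorem F303471 : act 0 n32494 = n57448 := (sb E55688 (iv1 F121667))
theorem F303472 : act 1 n32494 = n36087 := (sb E55688 (iv0 D79278))
theorem F303473 : act 2 n32494 = n57447 := (sb E55688 F121676)
theorem F303474 : act 3 n32494 = n47161 := (sb E55688 F121666)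
theorem E59189 : n73042 = n70007 := ((((iv4 F106410)).symm.trans (sb E55688 F121665))).symm
theorem F303475 : act 7 n32494 = n57446 := (sb E55688 (iv7 F121668))
theorem E59191 : n179987 = n100061 := ((((iv3 F153996)).symm.trans (sb E55689 (iv3 F280350)))).symm
theorem E59192 : n154635 = n57600 := ((((iv4 F121669)).symm.trans (sb E55689 (iv4 F242748)))).symm
theorem E59193 : n165006 = n39774 := ((D165006).symm.trans (sb E55689 (iv6 D86011)))
theorem F303476 : act 4 n78348 = n57217 := (sb E55690 F121679)
theorem F303477 : act 6 n78348 = n36087 := (sb E55690 (iv6 D79281))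
theorem F303478 : act 6 n26565 = n45776 := (sb E55694 (iv6 D98052))
theorem E59196 : n150424 = n148163 := (((iv7 F300228)).symm.trans (sb E55696 (iv7 F231977)))
theorem E59197 : n133317 = n122685 := (((iv3 F214291)).symm.trans (sb E55701 F196546))
theorem F303482 : act 3 n60185 = n54959 := (sb E55708 F188158)
theorem E59199 : n128074 = n83600 := ((D128074).symm.trans (sb E55708 F188159))
theorem E59200 : n80762 = n61544 := ((((iv1 F96085)).symm.trans (sb E55710 D80762))).symm
theorem F303483 : act 2 n33162 = n36159 := (sb E55710 F57824)
theorem F303484 : act 3 n33162 = n40038 := (sb E55710 (iv3 F60911))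
theorem E59202 : n79711 = n61543 := ((((iv7 F96078)).symm.trans (sb E55710 (iv7 F122380)))).symm
theorem E59203 : n80221 = n61071 := ((D80221).symm.trans (sb E55712 (iv0 F186561)))
theorem E59204 : n129240 = n80223 := (((D80223).symm.trans (sb E55712 (iv7 F207451)))).symm
theorem F303485 : act 1 n61390 = n36159 := (sb E55713 (iv0 D79413))
theorem F303486 : act 0 n29135 = n36159 := (sb E55714 (iv1 D79414))
theorem E59210 : n154830 = n61542 := ((((iv3 F96075)).symm.trans (sb E55714 (iv3 F243529)))).symm
theorem F303487 : act 5 n58410 = n36159 := (sb E55715 (iv5 D79415))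
theorem F303488 : act 7 n61389 = n36159 := (sb E55716 (iv7 D79416))
theorem F303489 : act 0 n172145 = n82545 := (sb E55718 (iv1 F270576))
theorem F303491 : act 7 n172145 = n82532 := (sb E55718 (iv7 D172345))
theorem F303492 : act 0 n119125 = n114697 := (sb E55719 (iv1 F235218))
theorem F303493 : act 1 n119125 = n70263 := (sb E55719 (iv0 D149622))
theorem F303494 : act 4 n119125 = n81581 := (sb E55719 F235216)
theorem F303495 : act 7 n119125 = n169795 := (sb E55719 (iv7 F267215))
theorem F303496 : act 5 n83187 = n82443 := (sb E55721 (iv5 D172141))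
theorem F303497 : act 0 n152379 = n73935 := (sb E55722 (iv1 F243898))
theorem F303498 : act 0 n148543 = n71889 := (sb E55723 (iv1 D152380))
theorem F303499 : act 5 n33830 = n71889 := (sb E55725 (iv5 D152381))
theorem F303500 : act 4 n119849 = n71893 := (sb E55726 F239575)
theorem F303501 : act 7 n119849 = n71889 := (sb E55726 (iv7 D152382))
theorem F303502 : act 5 n172155 = n173288 := (sb E55734 F271672)
theorem F303503 : act 0 n172156 = n82532 := (sb E55735 (iv1 D172343))
theorem F303504 : act 5 n172156 = n83180 := (sb E55735 (iv5 F270571))
theorem F303507 : act 5 n172184 = n158341 := (sb E55738 F270728)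
theorem F303508 : act 7 n172184 = n82602 := (sb E55738 (iv7 D172544))
theorem E59219 : n128294 = n83594 := (((iv4 F206415)).symm.trans (sb E55739 F192608))
theorem F303509 : act 6 n60320 = n55683 := (sb E55739 (iv6 D120776))
theorem F303510 : act 3 n33006 = n28656 := (sb E55740 F94867)
theorem F303511 : act 4 n60094 = n37297 := (sb E55741 F107240)
theorem F303512 : act 5 n60094 = n55684 := (sb E55741 F107241)
theorem F303513 : act 4 n85788 = n98141 := (sb E55742 F192611)
theorem F303514 : act 6 n85788 = n55684 := (sb E55742 (iv6 D120777))
theorem F303515 : act 3 n60097 = n98339 := (sb E55743 F151766)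
theorem E59221 : n127927 = n81546 := (((iv4 F205856)).symm.trans (sb E55743 (iv4 F125419)))
theorem E59223 : n164734 = n127838 := (((D127838).symm.trans (sb E55744 D164734))).symm
theorem E59225 : n74916 = n37298 := ((((iv1 F71212)).symm.trans (sb E55745 F190417))).symm
theorem E59226 : n72351 = n21568 := ((((iv0 D45188)).symm.trans (sb E55745 F190418))).symm
theorem F303516 : act 4 n45188 = n29293 := (sb E55745 (iv4 D61809))
theorem E59227 : n96657 = n32169 := (((iv5 F148955)).symm.trans (sb E55745 F190419))
theorem E59228 : n128340 = n83708 := (((iv4 F206463)).symm.trans (sb E55747 F201115))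
theorem E59229 : n144892 = n71332 := (((iv3 F229096)).symm.trans (sb E55748 (iv3 F232403)))
theorem E59230 : n179647 = n83656 := ((D179647).symm.trans (sb E55748 (iv4 F192615)))
theorem E59231 : n95434 = n72813 := ((D95434).symm.trans (sb E55752 (iv6 D153898)))
theorem E59232 : n174375 = n128239 := (((D128239).symm.trans (sb E55753 (iv2 F273218)))).symm
theorem F303517 : act 6 n60284 = n47214 := (sb E55753 (iv6 D101463))
theorem F303518 : act 1 n83592 = n72812 := (sb E55754 F240626)
theorem E59233 : n175039 = n85294 := ((D175039).symm.trans (sb E55754 F240623))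
theorem F303519 : act 5 n40063 = n72812 := (sb E55755 F240770)
theorem F303520 : act 3 n101465 = n72338 := (sb E55757 F240572)
theorem F303521 : act 5 n101465 = n72334 := (sb E55757 (iv5 D153212))
theorem E59235 : n174433 = n72338 := ((F301003).symm.trans (sb E55758 (iv4 D153223)))
theorem E59236 : n153891 = n120703 := ((((iv5 F192415)).symm.trans (sb E55758 F241841))).symm
theorem E59237 : n147360 = n128102 := (((F206181).symm.trans (sb E55759 (iv1 F231084)))).symm
theorem E59238 : n147347 = n146995 := (((D146995).symm.trans (sb E55759 (iv2 F231045)))).symm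
theorem E59240 : n32168 = n32060 := (((F105085).symm.trans (sb E55759 (iv4 D69161)))).symm
theorem E59242 : n117763 = n117488 := ((((iv7 F184020)).symm.trans (sb E55759 F190438))).symm
theorem E59243 : n176258 = n58335 := ((D176258).symm.trans (sb E55761 F200429))
theorem F303522 : act 5 n84063 = n148851 := (sb E55761 F233867)
theorem E59244 : n176253 = n147148 := ((D176253).symm.trans (sb E55762 F261710))
theorem E59245 : n176254 = n148850 := ((D176254).symm.trans (sb E55762 (iv5 F261712)))
theorem E59246 : n176255 = n167794 := ((D176255).symm.trans (sb E55762 F264191))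
theorem E59248 : n86406 = n58351 := (((F200440).symm.trans (sb E55763 (iv3 D180905)))).symm
theorem F303523 : act 4 n124775 = n98147 := (sb E55763 F281650)
theorem F303524 : act 4 n83081 = n84116 := (sb E55767 F275490)
theorem F303525 : act 4 n83083 = n84118 := (sb E55768 F256965)
theorem F303526 : act 0 n84183 = n155087 := (sb E55771 (iv1 F261697))
theorem E59249 : n176567 = n152601 := ((D176567).symm.trans (sb E55771 F261696))
theorem F303527 : act 1 n84184 = n155087 := (sb E55772 F261703)
theorem E59250 : n176571 = n128168 := ((D176571).symm.trans (sb E55772 (iv3 F261700)))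
theorem F303528 : act 4 n84185 = n155091 := (sb E55773 F261701)
theorem F303530 : act 1 n55027 = n79799 := (sb E55777 (iv0 D166200))
theorem F303531 : act 4 n84033 = n79813 := (sb E55778 (iv4 D166227))
theorem F303532 : act 4 n84034 = n79812 := (sb E55779 (iv4 D166223))
theorem F303533 : act 0 n166204 = n84031 := (sb E55780 (iv1 F275406))
theorem F303534 : act 1 n166204 = n84028 := (sb E55780 (iv0 D176164))
theorem F303535 : act 7 n166204 = n98120 := (sb E55780 F275407)
theorem F303536 : act 4 n84226 = n174605 := (sb E55781 (iv4 F273459))
theorem F303537 : act 3 n33075 = n28508 := (sb E55784 F94533)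
theorem F303538 : act 6 n33075 = n28505 := (sb E55784 (iv6 D60032))
theorem F303539 : act 0 n40136 = n60335 := (sb E55785 F94869)
theorem F303540 : act 2 n40136 = n32814 := (sb E55785 F189876)
theorem E59253 : n69169 = n27017 := (((F61027).symm.trans (sb E55785 (iv4 F190462)))).symm
theorem F303541 : act 5 n40136 = n28540 := (sb E55785 (iv5 D60087))
theorem E59254 : n127919 = n86580 := (((D86580).symm.trans (sb E55785 D127919))).symm
theorem F303542 : act 3 n60088 = n80679 := (sb E55786 (iv3 F124114))
theorem F303543 : act 4 n60088 = n98193 := (sb E55786 (iv4 F151507))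
theorem F303544 : act 0 n70800 = n49003 := (sb E55787 (iv1 F120451))
theorem F303545 : act 3 n70800 = n99589 := (sb E55787 (iv3 F153342))
theorem E59258 : n133765 = n99591 := (((iv4 F215360)).symm.trans (sb E55787 (iv4 F153344)))
theorem F303546 : act 5 n70800 = n36115 := (sb E55787 F120450)
theorem F303547 : act 7 n70800 = n80708 := (sb E55787 F124174)
theorem F303548 : act 1 n70801 = n49003 := (sb E55788 F120452)
theorem F303549 : act 2 n70801 = n80708 := (sb E55788 F124173)
theorem E59260 : n150332 = n57324 := ((D150332).symm.trans (sb E55788 (iv3 F120453)))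
theorem E59261 : n164741 = n61584 := (((F191045).symm.trans (sb E55788 D164741))).symm
theorem F303550 : act 5 n70801 = n36116 := (sb E55788 F120454)
theorem E59263 : n69172 = n45138 := ((((iv1 F71129)).symm.trans (sb E55789 F191062))).symm
theorem E59264 : n34310 = n17897 := ((((iv0 D37226)).symm.trans (sb E55789 F191063))).symm
theorem E59265 : n120131 = n35989 := (((F58181).symm.trans (sb E55789 F243056))).symm
theorem F303551 : act 4 n37226 = n32814 := (sb E55789 (iv4 D70802))
theorem E59267 : n150334 = n81524 := (((D81524).symm.trans (sb E55789 D150334))).symm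
theorem E59268 : n164743 = n131260 := (((F210343).symm.trans (sb E55790 D164743))).symm
theorem E59269 : n164744 = n148951 := ((((iv0 F234026)).symm.trans (sb E55790 D164744))).symm
theorem E59271 : n164746 = n150335 := (((D150335).symm.trans (sb E55790 D164746))).symm
theorem E59274 : n71494 = n70486 := (((F234813).symm.trans (sb E55792 (iv3 F235555)))).symm
theorem E59275 : n164751 = n150337 := (((D150337).symm.trans (sb E55792 D164751))).symm
theorem F303552 : act 4 n70806 = n98197 := (sb E55794 (iv4 F151510))
theorem E59282 : n150342 = n38281 := (((F59150).symm.trans (sb E55795 D150342))).symm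
theorem E59285 : n129923 = n80266 := (((D80266).symm.trans (sb E55796 F208285))).symm
theorem E59286 : n150347 = n80267 := (((D80267).symm.trans (sb E55796 D150347))).symm
theorem F303553 : act 4 n36568 = n32819 := (sb E55796 F107291)
theorem E59287 : n150348 = n80268 := (((D80268).symm.trans (sb E55796 D150348))).symm
theorem E59288 : n150349 = n80269 := (((D80269).symm.trans (sb E55796 D150349))).symm
theorem F303554 : act 0 n61605 = n80689 := (sb E55797 (iv1 F124135))
theorem E59289 : n164759 = n32431 := (((F109887).symm.trans (sb E55797 D164759))).symm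
theorem F303555 : act 1 n70367 = n80689 := (sb E55798 F124133)
theorem E59291 : n164762 = n70626 := (((F155499).symm.trans (sb E55798 D164762))).symm
theorem E59292 : n164763 = n32662 := ((((iv5 D70367)).symm.trans (sb E55798 D164763))).symm
theorem F303556 : act 2 n70815 = n80689 := (sb E55800 (iv2 F124128))
theorem E59299 : n71603 = n71547 := ((((iv1 F186848)).symm.trans (sb E55802 (iv1 F232634)))).symm
theorem E59300 : n71534 = n71499 := ((((iv2 F232525)).symm.trans (sb E55802 (iv2 F232546)))).symm
theorem F303557 : act 3 n34389 = n16804 := (sb E55802 F54941)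
theorem E59301 : n75084 = n73685 := ((D75084).symm.trans (sb E55802 (iv5 F110376)))
theorem F303558 : act 6 n34389 = n16801 := (sb E55802 (iv6 D34700))
theorem E59304 : n160922 = n78257 := (((D78257).symm.trans (sb E55804 D160922))).symm
theorem F303559 : act 5 n33856 = n36051 := (sb E55805 (iv5 D79183))
theorem F303560 : act 6 n26245 = n36051 := (sb E55806 (iv6 D79184))
theorem E59308 : n81516 = n72343 := (((D72343).symm.trans (sb E55807 F194409))).symm
theorem F303561 : act 2 n72375 = n71539 := (sb E55808 F186832)
theorem E59309 : n153249 = n84932 := (((iv5 F240730)).symm.trans (sb E55808 F186830))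
theorem F303562 : act 2 n72399 = n37289 := (sb E55809 (iv2 D81599))
theorem F303563 : act 1 n46989 = n72334 := (sb E55810 (iv0 D153210))
theorem F303564 : act 0 n46506 = n72334 := (sb E55811 (iv1 D153211))
theorem F303565 : act 7 n33388 = n37289 := (sb E55812 F60855)
theorem F303566 : act 1 n147648 = n72376 := (sb E55813 (iv0 D153250))
theorem F303567 : act 2 n147648 = n83191 := (sb E55813 (iv2 F240741))
theorem F303568 : act 3 n147648 = n161013 := (sb E55813 (iv3 F254526))
theorem F303569 : act 4 n147648 = n83190 := (sb E55813 F240740)
theorem E59312 : n147206 = n120685 := ((F240601).symm.trans (sb E55813 F240739))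
theorem F303570 : act 7 n147648 = n127880 := (sb E55813 F240743)
theorem E59313 : n81527 = n69077 := ((F125403).symm.trans (sb E55814 (iv5 D147345)))
theorem E59314 : n152433 = n69158 := (((iv5 F239619)).symm.trans (sb E55815 F231364))
theorem F303571 : act 2 n60067 = n69195 := (sb E55816 F231080)
theorem E59315 : n127881 = n69086 := ((D127881).symm.trans (sb E55816 (iv5 D147359)))
theorem E59316 : n175047 = n69196 := ((D175047).symm.trans (sb E55817 F231416))
theorem F303572 : act 7 n83595 = n69195 := (sb E55817 (iv7 D147649))
theorem F303573 : act 4 n73003 = n98195 := (sb E55818 F286235)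
theorem F303574 : act 0 n173814 = n157994 := (sb E55820 F275958)
theorem F303575 : act 1 n173814 = n158669 := (sb E55820 F275959)
theorem F303577 : act 5 n173815 = n84191 := (sb E55821 (iv5 D176593))
theorem F303582 : act 5 n176228 = n172313 := (sb E55825 F275671)
theorem F303583 : act 1 n60082 = n62891 := (sb E55826 F215620)
theorem F303584 : act 0 n34573 = n62891 := (sb E55827 (iv1 F215627))
theorem F303585 : act 1 n34573 = n62887 := (sb E55827 (iv0 D133877))
theorem F303586 : act 2 n60079 = n62891 := (sb E55828 F215624)
theorem E59317 : n130331 = n73021 := (((F191028).symm.trans (sb E55828 F215626))).symm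
theorem F303587 : act 4 n33417 = n62891 := (sb E55829 F215427)
theorem E59318 : n130379 = n55133 := ((((iv6 F190478)).symm.trans (sb E55829 F215428))).symm
theorem E59319 : n150336 = n130330 := ((((iv1 F208849)).symm.trans (sb E55831 (iv1 F236617)))).symm
theorem E59320 : n150337 = n130329 := (((F208851).symm.trans (sb E55831 (iv0 F236619)))).symm
theorem F303588 : act 1 n28538 = n29757 := (sb E55832 (iv0 D62888))
theorem F303589 : act 5 n54551 = n28538 := (sb E55833 (iv5 D60081))
theorem F303590 : act 6 n54551 = n127904 := (sb E55833 (iv6 F205818))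
theorem F303591 : act 1 n62887 = n60082 := (sb E55834 (iv0 F190657))
theorem F303592 : act 7 n62887 = n60079 := (sb E55834 (iv7 F191029))
theorem E59329 : n157117 = n26392 := ((((iv3 F190465)).symm.trans (sb E55837 (iv3 F247231)))).symm
theorem F303593 : act 4 n33418 = n62887 := (sb E55837 F215423)
theorem E59330 : n72395 = n62828 := ((D72395).symm.trans (sb E55837 (iv6 D133786)))
theorem F303594 : act 5 n71979 = n62887 := (sb E55838 (iv5 D133879))
theorem E59331 : n152596 = n130193 := ((D152596).symm.trans (sb E55838 F215623))
theorem E59333 : n133764 = n96300 := ((F215356).symm.trans (sb E55840 (iv4 F148147)))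
theorem F303595 : act 4 n54952 = n69195 := (sb E55841 F206447)
theorem E59335 : n150261 = n28972 := (((F47845).symm.trans (sb E55843 (iv0 F240785)))).symm
theorem F303596 : act 3 n60137 = n75556 := (sb E55845 (iv3 D158410))
theorem F303597 : act 3 n61759 = n32854 := (sb E55846 (iv3 D70911))
theorem E59341 : n127950 = n54694 := (((D54694).symm.trans (sb E55856 F205906))).symm
theorem E59343 : n155280 = n54696 := (((D54696).symm.trans (sb E55856 (iv6 F244196)))).symm
theorem E59345 : n54699 = n32859 := ((D54699).symm.trans (sb E55857 (iv4 D70933)))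
theorem E59348 : n165459 = n54738 := (((D54738).symm.trans (sb E55863 F260663))).symm
theorem E59350 : n73437 = n54635 := (((D54635).symm.trans (sb E55870 (iv6 D154858)))).symm
theorem E59354 : n85394 = n55117 := (((D55117).symm.trans (sb E55872 (iv6 F244233)))).symm
theorem E59356 : n84885 = n55120 := (((D55120).symm.trans (sb E55873 (tr F188973 E58887)))).symm
theorem E59358 : n151779 = n55123 := (((D55123).symm.trans (sb E55875 (iv1 F244244)))).symm
theorem E59359 : n118782 = n55119 := ((((iv0 F187228)).symm.trans (sb E55875 F244245))).symm
theorem E59360 : n175452 = n55063 := (((D55063).symm.trans (sb E55885 (iv4 F274702)))).symm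
theorem E59361 : n175453 = n55068 := (((D55068).symm.trans (sb E55886 F274704))).symm
theorem E59363 : n73484 = n39592 := (((D39592).symm.trans (sb E55898 F243616))).symm
theorem F303598 : act 4 n58526 = n83711 := (sb E55907 (iv4 F260841))
theorem E59367 : n118779 = n58401 := (((D58401).symm.trans (sb E55921 F200655))).symm
theorem E59368 : n151792 = n58402 := (((D58402).symm.trans (sb E55921 F238714))).symm
theorem F303599 : act 0 n39015 = n81976 := (sb E55928 (iv1 D171029))
theorem F303600 : act 1 n39015 = n81979 := (sb E55928 F268746)
theorem F303601 : act 6 n123007 = n58019 := (sb E55929 (iv6 D124425))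
theorem F303602 : act 0 n123008 = n81979 := (sb E55930 (iv1 F199015))
theorem F303603 : act 1 n123008 = n81976 := (sb E55930 F199014)
theorem F303604 : act 3 n101475 = n57264 := (sb E55931 F197206)
theorem F303605 : act 4 n101475 = n78161 := (sb E55931 F197207)
theorem F303606 : act 7 n101475 = n57259 := (sb E55931 (iv7 D123051))
theorem F303607 : act 2 n160474 = n77836 := (sb E55932 F256022)
theorem F303608 : act 4 n160474 = n77828 := (sb E55932 (iv4 D162020))
theorem F303609 : act 5 n160474 = n123341 := (sb E55932 (iv5 F256026))
theorem F303610 : act 6 n160474 = n124248 := (sb E55932 F256023)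
theorem F303611 : act 1 n60231 = n73697 := (sb E55933 (iv0 D155189))
theorem F303612 : act 1 n119291 = n128140 := (sb E55934 F272417)
theorem F303613 : act 7 n119291 = n128137 := (sb E55934 F272415)
theorem F303614 : act 0 n119399 = n128137 := (sb E55935 (iv1 F272420))
theorem F303615 : act 7 n119399 = n128140 := (sb E55935 F272418)
theorem F303616 : act 3 n155190 = n83126 := (sb E55937 F272421)
theorem F303617 : act 5 n173831 = n83268 := (sb E55939 (iv5 D174205))
theorem F303619 : act 6 n162699 = n84009 := (sb E55943 (iv6 D176109))
theorem F303620 : act 2 n162702 = n158692 := (sb E55944 F275381)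
theorem F303621 : act 5 n162702 = n84015 := (sb E55944 (iv5 D176127))
theorem F303622 : act 2 n166193 = n84017 := (sb E55945 (iv2 D176129))
theorem F303623 : act 7 n166193 = n84018 := (sb E55945 (iv7 F275383))
theorem E59371 : n152603 = n60308 := (((iv1 F239800)).symm.trans (sb E55948 (iv1 D128284)))
theorem F303627 : act 4 n83625 = n172069 := (sb E55948 (iv4 F270190))
theorem F303628 : act 2 n123958 = n178506 := (sb E55949 (iv2 F278161))
theorem F303629 : act 3 n123958 = n84169 := (sb E55949 (iv3 D176534))
theorem F303630 : act 6 n123958 = n128238 := (sb E55949 (tr F275858 E56896))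
theorem E59373 : n176334 = n84115 := ((F301385).symm.trans (sb E55950 (iv7 F275719)))
theorem F303631 : act 4 n83729 = n84114 := (sb E55951 (iv4 D176415))
theorem F303632 : act 4 n83730 = n84115 := (sb E55953 (iv4 D176420))
theorem F303633 : act 3 n123133 = n70026 := (sb E55956 F234563)
theorem F303634 : act 4 n123133 = n178506 := (sb E55956 (iv4 F278163))
theorem F303635 : act 6 n123133 = n70024 := (sb E55956 (iv6 D149193))
theorem E59379 : n123956 = n123133 := ((D123956).symm.trans (iv7 (sb E55956 (tr (iv7 F280356) E59091))))
theorem F303637 : act 6 n123135 = n83897 := (sb E55958 (iv6 D175761))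
theorem F303640 : act 3 n173727 = n83908 := (sb E55960 (iv3 D175796))
theorem F303643 : act 0 n75682 = n84049 := (sb E55962 (iv1 D176230))
theorem F303644 : act 7 n83046 = n123967 := (sb E55963 F264169)
theorem F303645 : act 0 n119338 = n55029 := (sb E55964 (iv1 D119601))
theorem F303646 : act 1 n119338 = n79363 := (sb E55964 F300846)
theorem F303647 : act 4 n98340 = n119338 := (sb E55966 F206139)
theorem F303648 : act 6 n98340 = n60192 := (sb E55966 (iv6 D128084))
theorem F303649 : act 5 n95830 = n54822 := (sb E55967 (iv5 D119135))
theorem E59380 : n174566 = n128063 := ((D174566).symm.trans (sb E55968 (iv1 F237215)))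
theorem E59381 : n174567 = n73242 := ((D174567).symm.trans (sb E55968 F237214))
theorem E59382 : n174568 = n128229 := ((D174568).symm.trans (sb E55968 F237212))
theorem F303650 : act 5 n83423 = n71039 := (sb E55968 (iv5 D150671))
theorem E59383 : n83554 = n80220 := ((D83554).symm.trans (sb E55969 (iv2 D167097)))
theorem E59384 : n149833 = n61600 := ((F302238).symm.trans (sb E55969 (tr (iv4 F265085) E58317)))
theorem E59385 : n83559 = n61071 := ((D83559).symm.trans (sb E55969 (tr (iv7 F263185) E59203)))
theorem F303651 : act 3 n60199 = n80220 := (sb E55970 F188482)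
theorem E59386 : n128237 = n119336 := ((((iv4 F187924)).symm.trans (sb E55972 F242570))).symm
theorem F303652 : act 3 n100728 = n73144 := (sb E55973 F242572)
theorem F303653 : act 3 n100729 = n57787 := (sb E55975 F198430)
theorem F303654 : act 2 n124032 = n181153 := (sb E55976 F282167)
theorem F303655 : act 4 n124032 = n84722 := (sb E55976 (iv4 F268214))
theorem F303657 : act 0 n124042 = n177763 := (sb E55977 (iv1 F277224))
theorem F303658 : act 1 n124042 = n177766 := (sb E55977 (iv0 F277230))
theorem F303659 : act 2 n124042 = n177963 := (sb E55977 F277517)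
theorem F303660 : act 7 n124042 = n177962 := (sb E55977 F277514)
theorem E59387 : n128285 = n83628 := ((((iv1 F239798)).symm.trans (sb E55978 (iv1 F275934)))).symm
theorem F303661 : act 4 n152600 = n84184 := (sb E55978 (iv4 D176572))
theorem F303662 : act 4 n73266 = n82960 := (sb E55979 (iv4 D173355))
theorem F303663 : act 4 n73265 = n82961 := (sb E55980 (iv4 D173360))
theorem F303664 : act 1 n124220 = n177787 := (sb E55982 F277598)
theorem F303665 : act 2 n124220 = n178100 := (sb E55982 F277639)
theorem F303666 : act 7 n124220 = n178101 := (sb E55982 (iv7 F277642))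
theorem E59391 : n71594 = n70350 := (((D70350).symm.trans (sb E55989 D71594))).symm
theorem F303667 : act 6 n32657 = n34987 := (sb E55990 (iv6 D76562))
theorem E59394 : n120727 = n60378 := (E55992).trans E58800
theorem E59395 : n174080 = n39799 := (((F94893).symm.trans (sb E59394 (iv3 F272886)))).symm
theorem E59399 : n71496 = n70481 := (((iv4 F108025)).symm.trans (sb E55995 (iv4 D149896)))
theorem F303668 : act 0 n36628 = n35299 := (sb E56002 (iv1 F91363))
theorem E59403 : n86374 = n3436 := (((D3436).symm.trans (sb E56004 F265219))).symm
theorem F303670 : act 1 n128235 = n83240 := (sb E56005 (iv0 D174123))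
theorem F303671 : act 5 n161987 = n80224 := (sb E56006 (iv5 D167108))
theorem F303672 : act 7 n161987 = n161167 := (sb E56006 F263199)
theorem F303674 : act 4 n160357 = n77498 := (sb E56007 (iv4 D161429))
theorem F303675 : act 5 n160357 = n124456 := (sb E56007 (iv5 F255323))
theorem F303678 : act 5 n161611 = n80181 := (sb E56008 (iv5 D167039))
theorem F303679 : act 7 n161611 = n161314 := (sb E56008 F263061)
theorem F303680 : act 2 n167773 = n84164 := (sb E56009 F272311)
theorem F303681 : act 5 n167773 = n83085 := (sb E56009 (iv5 D173743))
theorem F303682 : act 1 n120409 = n55465 := (sb E56010 (iv0 D120484))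
theorem F303683 : act 0 n120490 = n124344 := (sb E56012 F268246)
theorem F303684 : act 1 n120490 = n125112 := (sb E56012 F268247)
theorem F303685 : act 2 n120490 = n177832 := (sb E56012 F277363)
theorem F303686 : act 7 n120490 = n177831 := (sb E56012 F277358)
theorem F303687 : act 5 n46058 = n60042 := (sb E56014 (iv5 D127844))
theorem E59404 : n107947 = n87494 := (((D87494).symm.trans (sb E56015 F247424))).symm
theorem E59405 : n118720 = n60120 := (((iv0 F188357)).symm.trans (sb E56016 F205911))
theorem E59406 : n159409 = n127963 := (((D127963).symm.trans (sb E56016 (iv5 F251029)))).symm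
theorem E59408 : n118467 = n71807 := (((iv2 F186299)).symm.trans (sb E56019 F177577))
theorem E59409 : n152219 = n54544 := ((D152219).symm.trans (sb E56019 F177578))
theorem F303688 : act 6 n71792 = n52644 := (sb E56019 (iv6 D114064))
theorem F303689 : act 1 n46721 = n60044 := (sb E56020 (iv0 D127849))
theorem F303690 : act 0 n87878 = n60044 := (sb E56021 (iv1 D127850))
theorem F303691 : act 4 n81969 = n60044 := (sb E56022 (iv4 D127851))
theorem E59411 : n171013 = n60051 := ((D171013).symm.trans (sb E56022 F205719))
theorem F303692 : act 5 n18926 = n16161 := (sb E56023 (iv5 D33460))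
theorem E59413 : n72504 = n40034 := (((D40034).symm.trans (sb E56023 D72504))).symm
theorem F303693 : act 2 n33461 = n40068 := (sb E56024 F74377)
theorem F303694 : act 4 n33461 = n22678 := (sb E56024 F74378)
theorem E59415 : n101208 = n72507 := (((D72507).symm.trans (sb E56024 D101208))).symm
theorem E59416 : n155174 = n81833 := (((D81833).symm.trans (sb E56025 (iv6 F243992)))).symm
theorem E59418 : n178419 = n79018 := ((((iv0 F120205)).symm.trans (sb E56026 (iv0 F278008)))).symm
theorem F303695 : act 6 n73661 = n40033 := (sb E56026 (iv6 D86441))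
theorem E59419 : n119873 = n78272 := (((iv7 F189214)).symm.trans (sb E56026 (iv7 F132540)))
theorem F303696 : act 1 n160009 = n118102 := (sb E56031 (iv0 F257281))
theorem E59420 : n78341 = n76609 := ((((iv3 D160009)).symm.trans (sb E56031 (iv3 D162934)))).symm
theorem F303697 : act 5 n160009 = n150196 := (sb E56031 F257278)
theorem F303698 : act 7 n160009 = n149909 := (sb E56031 F257279)
theorem F303699 : act 5 n95585 = n54825 := (sb E56032 F187461)
theorem F303700 : act 7 n95585 = n54824 := (sb E56032 (iv7 D119143))
theorem E59422 : n162782 = n74935 := (((iv1 F299127)).symm.trans (sb E56035 (iv1 F187487)))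
theorem E59423 : n162781 = n71766 := (((iv0 F300181)).symm.trans (sb E56035 (iv0 F209039)))
theorem E59424 : n162783 = n54846 := (((iv7 F300180)).symm.trans (sb E56035 F187486))
theorem E59425 : n138555 = n10967 := (((F36462).symm.trans (sb E56040 (iv3 F221728)))).symm
theorem E59426 : n49811 = n48202 := (((D48202).symm.trans (sb E56040 (iv6 D107855)))).symm
theorem E59427 : n77316 = n26853 := ((((iv0 F43275)).symm.trans (sb E56041 (iv0 F238656)))).symm
theorem F303701 : act 6 n24284 = n45773 := (sb E56041 (iv6 D98049))
theorem E59428 : n150225 = n41530 := (((F64073).symm.trans (sb E56047 F239094))).symm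
theorem E59429 : n164583 = n155564 := (((iv0 F301890)).symm.trans (sb E56048 (iv0 F244573)))
theorem E59430 : n181159 = n67862 := ((D181159).symm.trans (sb E56048 (iv5 D144807)))
theorem E59431 : n181160 = n133680 := ((D181160).symm.trans (sb E56048 F227705))
theorem F303702 : act 0 n86513 = n119826 := (sb E56049 F210292)
theorem E59432 : n157127 = n86513 := ((D157127).symm.trans (iv1 (sb E56049 (tr (iv0 F210291) E58626))))
theorem F303703 : act 5 n86513 = n119594 := (sb E56049 F210289)
theorem F303704 : act 6 n86513 = n61578 := (sb E56049 (iv6 D131241))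
theorem E59433 : n133681 = n86936 := (((D86936).symm.trans (sb E56050 F239095))).symm
theorem E59434 : n181061 = n29677 := ((((iv1 D62745)).symm.trans (sb E56051 (iv1 F281978)))).symm
theorem E59435 : n129899 = n40198 := ((F208246).symm.trans (sb E56051 F234470))
theorem F303705 : act 6 n62745 = n40094 := (sb E56051 (iv6 D86514))
theorem E59437 : n107905 = n38606 := ((((iv3 D83792)).symm.trans (sb E56053 (iv3 F266237)))).symm
theorem E59438 : n175470 = n107903 := ((D175470).symm.trans (sb E56053 F266238))
theorem F303706 : act 4 n100745 = n71699 := (sb E56056 F239099)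
theorem F303707 : act 7 n100745 = n157668 := (sb E56056 (iv7 F248444))
theorem E59439 : n105988 = n76620 := ((((iv3 F232573)).symm.trans (sb E56057 (iv3 F257104)))).symm
theorem E59440 : n152617 = n118087 := ((D152617).symm.trans (sb E56057 (iv4 F257105)))
theorem E59442 : n78340 = n76608 := (((iv2 F234815)).symm.trans (sb E56076 F234222))
theorem E59443 : n149910 = n70352 := ((D149910).symm.trans (sb E56076 (iv4 F232791)))
theorem F303708 : act 5 n70487 = n151713 := (sb E56076 D151713)
theorem E59444 : n151714 = n70860 := (((F234817).symm.trans (sb E56076 D151714))).symm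
theorem E59445 : n165110 = n133951 := ((((iv3 F215815)).symm.trans (sb E56077 (iv3 F260386)))).symm
theorem E59446 : n133960 = n121445 := (((iv4 F215838)).symm.trans (sb E56077 (iv4 F193790)))
theorem E59448 : n70309 = n31798 := (((F98148).symm.trans (iv1 (sb E56078 (tr (iv0 D165054) E56215))))).symm
theorem E59449 : n54378 = n31811 := ((((iv0 F98149)).symm.trans (iv0 (sb E56079 (tr (iv1 D165055) E56215))))).symm
theorem E59450 : n152461 = n133945 := (((D133945).symm.trans (iv4 (sb E56080 (tr (iv4 D165056) E56215))))).symm
theorem E59452 : n150011 = n61691 := (E56081).trans E58167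
theorem E59453 : n131449 = n70570 := ((D131449).symm.trans (sb E59452 (iv6 D150011)))
theorem F303709 : act 6 n119465 = n83555 := (sb E56085 (iv6 D174940))
theorem F303710 : act 2 n77615 = n75556 := (sb E56088 F249594)
theorem E59454 : n161591 = n75555 := ((F255593).symm.trans (sb E56088 (iv7 D158409)))
theorem F303711 : act 7 n77614 = n75556 := (sb E56090 (iv7 F249593))
theorem E59455 : n123586 = n83374 := ((D123586).symm.trans (sb E56093 (iv6 D174428)))
theorem F303712 : act 6 n38410 = n83087 := (sb E56094 (iv6 D173746))
theorem F303713 : act 2 n84170 = n162557 := (sb E56095 F272325)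
theorem F303714 : act 6 n84170 = n83088 := (sb E56095 (iv6 D173747))
theorem F303715 : act 0 n167774 = n98262 := (sb E56100 F268187)
theorem F303716 : act 2 n167774 = n172488 := (sb E56100 F270693)
theorem F303717 : act 4 n167774 = n81819 := (sb E56100 (iv4 D170680))
theorem F303718 : act 5 n167774 = n172488 := (sb E56100 (iv5 F270691))
theorem F303719 : act 7 n167774 = n172487 := (sb E56100 F270688)
theorem F303720 : act 0 n83962 = n80509 := (sb E56101 (iv1 D167775))
theorem F303721 : act 0 n87975 = n72705 := (sb E56102 (iv1 F196614))
theorem F303722 : act 1 n120299 = n72705 := (sb E56103 F196618)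
theorem F303723 : act 3 n122459 = n72145 := (sb E56104 F196615)
theorem F303724 : act 4 n122459 = n82608 := (sb E56104 F196616)
theorem F303725 : act 7 n122459 = n72705 := (sb E56104 F196617)
theorem F303726 : act 4 n122461 = n82610 := (sb E56106 F196621)
theorem F303727 : act 5 n122461 = n123639 := (sb E56106 (iv5 F198038))
theorem F303728 : act 0 n167768 = n158323 := (sb E56114 (iv1 F275822))
theorem F303729 : act 1 n167768 = n158325 := (sb E56114 F275823)
theorem F303730 : act 5 n167768 = n84159 := (sb E56114 F275821)
theorem F303731 : act 7 n167768 = n84158 := (sb E56114 (iv7 D176505))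
theorem F303732 : act 0 n167769 = n122467 := (sb E56115 (iv1 F275842))
theorem F303733 : act 1 n167769 = n158347 := (sb E56115 F275843)
theorem F303734 : act 2 n167769 = n170681 := (sb E56115 F275839)
theorem F303735 : act 5 n167769 = n170681 := (sb E56115 F275841)
theorem F303736 : act 7 n167769 = n84167 := (sb E56115 (iv7 D176531))
theorem F303737 : act 0 n167770 = n172445 := (sb E56116 F275846)
theorem F303738 : act 2 n167770 = n172486 := (sb E56116 F275844)
theorem F303739 : act 5 n167770 = n172275 := (sb E56116 F275845)
theorem F303740 : act 5 n167771 = n83083 := (sb E56117 (iv5 D173738))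
theorem F303741 : act 7 n167771 = n172485 := (sb E56117 F272306)
theorem F303742 : act 0 n167772 = n158347 := (sb E56118 F272321)
theorem F303743 : act 1 n167772 = n122467 := (sb E56118 F272322)
theorem F303744 : act 2 n167772 = n84167 := (sb E56118 F272318)
theorem F303745 : act 5 n167772 = n84167 := (sb E56118 F272320)
theorem F303746 : act 7 n167772 = n170681 := (sb E56118 F272319)
theorem F303747 : act 2 n167781 = n172509 := (sb E56119 F275945)
theorem F303749 : act 7 n167785 = n176121 := (sb E56120 F275942)
theorem F303750 : act 2 n58007 = n123484 := (sb E56124 (iv2 F197898))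
theorem E59458 : n166445 = n124409 := (((D124409).symm.trans (sb E56124 (iv3 F262004)))).symm
theorem F303751 : act 6 n58007 = n39253 := (sb E56124 (iv6 D84835))
theorem F303752 : act 7 n58007 = n123323 := (sb E56124 (iv7 F197633))
theorem F303753 : act 0 n123487 = n170809 := (sb E56126 F280478)
theorem F303754 : act 1 n123487 = n125313 := (sb E56126 F280479)
theorem F303755 : act 2 n123487 = n180173 := (sb E56126 F280531)
theorem F303756 : act 7 n123487 = n180172 := (sb E56126 F280528)
theorem F303758 : act 1 n123488 = n84808 := (sb E56127 F268420)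
theorem F303762 : act 2 n123445 = n120635 := (sb E56128 F277520)
theorem F303763 : act 4 n123445 = n98174 := (sb E56128 F277521)
theorem F303764 : act 6 n123445 = n84717 := (sb E56128 (iv6 D177967))
theorem F303765 : act 7 n123445 = n98170 := (sb E56128 F277522)
theorem F303766 : act 6 n123489 = n161961 := (sb E56129 F280481)
theorem F303767 : act 0 n123490 = n125313 := (sb E56130 F280482)
theorem F303768 : act 1 n123490 = n170809 := (sb E56130 F280483)
theorem F303769 : act 2 n123490 = n180172 := (sb E56130 F280527)
theorem F303770 : act 7 n123490 = n180173 := (sb E56130 (iv7 F280529))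
theorem F303771 : act 1 n54576 = n55643 := (sb E56134 F123973)
theorem E59461 : n118509 = n60178 := ((D118509).symm.trans (sb E56134 F123974))
theorem F303772 : act 0 n54580 = n55643 := (sb E56136 F123984)
theorem E59467 : n118519 = n60177 := ((D118519).symm.trans (sb E56136 F123986))
theorem E59468 : n167949 = n118520 := (((D118520).symm.trans (sb E56136 D167949))).symm
theorem E59473 : n151454 = n118477 := (((D118477).symm.trans (sb E56138 D151454))).symm
theorem E59475 : n118522 = n80408 := ((D118522).symm.trans (sb E56139 (iv4 F123576)))
theorem E59476 : n70542 = n69450 := ((((iv6 F112122)).symm.trans (sb E56139 (iv6 F300955)))).symm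
theorem E59477 : n118524 = n80409 := ((D118524).symm.trans (sb E56140 F123580))
theorem E59478 : n164867 = n118525 := (((D118525).symm.trans (sb E56140 D164867))).symm
theorem E59479 : n152639 = n118526 := (((D118526).symm.trans (sb E56141 D152639))).symm
theorem E59480 : n152640 = n118527 := (((D118527).symm.trans (sb E56141 D152640))).symm
theorem E59481 : n118529 = n114192 := ((D118529).symm.trans (sb E56141 (iv5 F177978)))
theorem F303773 : act 1 n33090 = n33408 := (sb E56146 F190479)
theorem E59496 : n71587 = n71541 := (((D71541).symm.trans (sb E56146 D71587))).symm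
theorem E59497 : n71588 = n71542 := (((D71542).symm.trans (sb E56146 D71588))).symm
theorem E59499 : n71599 = n71543 := (((D71543).symm.trans (sb E56147 D71599))).symm
theorem E59500 : n71546 = n39276 := ((D71546).symm.trans (sb E56148 F60246))
theorem E59502 : n71615 = n71550 := (((D71550).symm.trans (sb E56149 D71615))).symm
theorem F303774 : act 3 n33036 = n54561 := (sb E56151 (iv3 F86230))
theorem E59503 : n71398 = n15934 := ((D71398).symm.trans (sb E56151 F52235))
theorem E59505 : n71624 = n41467 := ((((iv6 F300209)).symm.trans (sb E56152 D71624))).symm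
theorem E59507 : n71629 = n71557 := (((D71557).symm.trans (sb E56153 D71629))).symm
theorem E59508 : n71633 = n54652 := ((((iv5 F86416)).symm.trans (sb E56154 D71633))).symm
theorem E59509 : n71559 = n15981 := ((D71559).symm.trans (sb E56154 F52331))
theorem F303775 : act 6 n7478 = n15963 := (sb E56155 (iv6 D33099))
theorem F303777 : act 0 n120922 = n159267 := (sb E56166 (iv1 F253584))
theorem F303778 : act 1 n120923 = n159267 := (sb E56167 F253588)
theorem F303779 : act 1 n120924 = n159265 := (sb E56168 F253587)
theorem F303780 : act 3 n120924 = n159260 := (sb E56168 F253585)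
theorem F303781 : act 7 n120924 = n159267 := (sb E56168 F253586)
theorem F303785 : act 4 n120927 = n157513 := (sb E56170 (iv4 F248221))
theorem F303786 : act 5 n120927 = n56250 := (sb E56170 (iv5 D121726))
theorem F303787 : act 7 n120927 = n84574 := (sb E56170 F194291)
theorem F303793 : act 4 n74985 = n55774 := (sb E56172 (iv4 D120929))
theorem F303796 : act 6 n155538 = n79270 := (sb E56176 F260134)
theorem F303797 : act 5 n125364 = n79275 := (sb E56181 F260149)
theorem F303800 : act 6 n166015 = n84573 := (sb E56184 F261988)
theorem F303801 : act 7 n166015 = n79898 := (sb E56184 (iv7 D166421))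
theorem F303802 : act 5 n86268 = n79704 := (sb E56185 (iv5 D166016))
theorem F303803 : act 1 n78727 = n79706 := (sb E56186 (iv0 D166019))
theorem E59526 : n133947 = n81612 := ((((iv4 F125523)).symm.trans (sb E56196 (iv4 F215809)))).symm
theorem E59528 : n133958 = n121442 := (((D121442).symm.trans (sb E56197 D133958))).symm
theorem E59529 : n130895 = n121443 := (((D121443).symm.trans (sb E56197 F211139))).symm
theorem F303809 : act 4 n56065 = n29768 := (sb E56197 F98168)
theorem E59530 : n133959 = n121444 := (((D121444).symm.trans (sb E56197 D133959))).symm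
theorem E59531 : n120877 = n86587 := (((D86587).symm.trans (sb E56198 (tr (iv1 F257277) E58091)))).symm
theorem E59532 : n86588 = n35707 := ((D86588).symm.trans (sb E56198 (iv0 D78343)))
theorem E59533 : n162939 = n86586 := ((((iv4 F132833)).symm.trans (sb E56198 D162939))).symm
theorem F303810 : act 5 n40143 = n49864 := (sb E56198 F191395)
theorem E59534 : n86590 = n49015 := ((D86590).symm.trans (sb E56198 F191396))
theorem E59535 : n88107 = n49017 := ((D88107).symm.trans (sb E56199 (iv6 D106053)))
theorem E59536 : n114729 = n49018 := ((D114729).symm.trans (sb E56200 (iv6 D106056)))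
theorem E59540 : n165517 = n36091 := ((F301885).symm.trans (sb E56201 (iv6 D79285)))
theorem F303811 : act 3 n32800 = n60094 := (sb E56202 (iv3 F188415))
theorem E59543 : n133924 = n45214 := (((F298523).symm.trans (sb E56202 D133924))).symm
theorem E59544 : n165022 = n70125 := ((D165022).symm.trans (sb E56203 (iv1 F131660)))
theorem E59545 : n165023 = n70124 := ((D165023).symm.trans (sb E56203 F131658))
theorem F303812 : act 3 n79286 = n85788 := (sb E56203 F131656)
theorem E59546 : n179667 = n152428 := ((((iv5 F301142)).symm.trans (sb E56203 D179667))).symm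
theorem E59547 : n165025 = n70115 := ((D165025).symm.trans (sb E56203 F131657))
theorem E59551 : n133931 = n17929 := ((((iv1 D37330)).symm.trans (sb E56205 D133931))).symm
theorem E59552 : n133932 = n45216 := (((F71274).symm.trans (sb E56205 D133932))).symm
theorem F303813 : act 3 n37330 = n29765 := (sb E56205 F98138)
theorem E59553 : n127568 = n76587 := ((((iv5 F114847)).symm.trans (sb E56205 F205026))).symm
theorem F303814 : act 7 n29296 = n26492 := (sb E56206 (iv7 F300295))
theorem F303815 : act 1 n40235 = n36093 := (sb E56207 (iv0 D79287))
theorem F303816 : act 3 n40235 = n86606 := (sb E56207 (iv3 F232505))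
theorem E59554 : n165026 = n86779 := ((((iv4 F133051)).symm.trans (sb E56207 D165026))).symm
theorem E59557 : n179665 = n165029 := (((D165029).symm.trans (sb E56208 D179665))).symm
theorem E59559 : n165031 = n150279 := ((D165031).symm.trans (sb E56208 (iv5 F236497)))
theorem E59560 : n165032 = n70491 := ((D165032).symm.trans (sb E56208 (iv6 F194700)))
theorem E59561 : n165033 = n70771 := ((D165033).symm.trans (sb E56209 F191364))
theorem E59562 : n165034 = n70776 := ((D165034).symm.trans (sb E56209 (iv0 F215762)))
theorem E59563 : n179669 = n76588 := (((E58931).symm.trans ((D165035).symm.trans (sb E56209 D179669)))).symm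
theorem E59564 : n165036 = n70126 := ((D165036).symm.trans (sb E56209 F131663))
theorem F303818 : act 7 n32533 = n36093 := (sb E56210 (iv7 D79290))
theorem F303819 : act 4 n54818 = n29765 := (sb E56212 F98144)
theorem E59569 : n133943 = n119125 := (((D119125).symm.trans (sb E56212 D133943))).symm
theorem F303820 : act 2 n62876 = n32727 := (sb E56213 (iv2 D70548))
theorem E59570 : n133856 = n52941 := (((iv3 F215560)).symm.trans (sb E56213 F107015))
theorem E59571 : n128399 = n52940 := (((iv5 F206520)).symm.trans (sb E56213 F107016))
theorem F303821 : act 0 n32849 = n29765 := (sb E56214 (iv1 D62910))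
theorem F303822 : act 1 n32849 = n61815 := (sb E56214 F98145)
theorem F303823 : act 2 n32849 = n61814 := (sb E56214 F110543)
theorem E59573 : n128420 = n32611 := (((F52019).symm.trans (sb E56214 (iv5 F206549)))).symm
theorem E59574 : n133767 = n70896 := (((D70896).symm.trans (sb E56214 (iv6 F215371)))).symm
theorem F303824 : act 6 n62911 = n36099 := (sb E56215 F121693)
theorem F303825 : act 4 n75905 = n36099 := (sb E56216 (iv4 D79305))
theorem F303826 : act 7 n32536 = n36099 := (sb E56217 (iv7 D79306))
theorem F303827 : act 6 n54906 = n84393 := (sb E56218 (iv6 D177071))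
theorem F303828 : act 6 n106016 = n70426 := (sb E56221 (iv6 D149829))
theorem E59578 : n125219 = n29699 := ((((iv6 D62775)).symm.trans (iv6 (sb E56224 (tr (iv6 D149324) E56493))))).symm
theorem F303831 : act 4 n177079 = n179491 := (sb E56226 F282459)
theorem E59581 : n181369 = n13888 := (E56228).trans E58570
theorem E59582 : n150295 = n6603 := ((((iv2 D13888)).symm.trans (sb E59581 F282471))).symm
theorem E59583 : n150294 = n14105 := ((((iv7 F23575)).symm.trans (sb E59581 F282472))).symm
theorem F303834 : act 6 n40144 = n84397 := (sb E56229 (iv6 D177082))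
theorem E59585 : n178979 = n144831 := (((iv4 F278881)).symm.trans (sb E56234 F234762))
theorem E59586 : n125217 = n29694 := (((D29694).symm.trans (iv5 (sb E56234 (tr (iv5 F236521) E59583))))).symm
theorem F303844 : act 6 n123001 = n85879 := (sb E56240 (iv6 D179817))
theorem F303846 : act 3 n124087 = n173632 := (sb E56242 (iv3 F272105))
theorem F303851 : act 0 n57742 = n122396 := (sb E56249 F268858)
theorem E59587 : n148910 = n85068 := ((E57452).symm.trans ((F259501).symm.trans (sb E56251 (iv4 D178618))))
theorem F303852 : act 1 n176211 = n85083 := (sb E56252 F282734)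
theorem F303853 : act 0 n167878 = n170046 := (sb E56253 F268005)
theorem F303855 : act 4 n167878 = n81763 := (sb E56253 (iv4 D170579))
theorem E59590 : n134512 = n33207 := ((((iv2 F52432)).symm.trans (sb E56254 (iv2 F216463)))).symm
theorem E59592 : n33268 = n29902 := ((D33268).symm.trans (sb E56254 (iv5 D63283)))
theorem F303858 : act 5 n14202 = n8314 := (sb E56256 (iv5 D17650))
theorem F303859 : act 0 n17654 = n28985 := (sb E56257 (iv1 F95685))
theorem F303860 : act 1 n17654 = n28985 := (sb E56257 (iv0 D61224))
theorem E59598 : n61222 = n36622 := (((D36622).symm.trans (sb E56258 (iv4 D130495)))).symm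
theorem F303861 : act 1 n54683 = n72375 := (sb E56259 F190945)
theorem F303862 : act 2 n54683 = n72373 := (sb E56259 (iv2 F190480))
theorem E59600 : n150171 = n118777 := (((D118777).symm.trans (sb E56259 D150171))).symm
theorem E59604 : n131181 = n73428 := (((D73428).symm.trans (sb E56261 (iv6 F210125)))).symm
theorem E59605 : n125016 = n76570 := ((((iv1 F232314)).symm.trans (sb E56262 F232555))).symm
theorem F303863 : act 1 n54684 = n34391 := (sb E56262 F232556)
theorem E59606 : n118780 = n85401 := ((D118780).symm.trans (sb E56262 (iv7 F232636)))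
theorem E59608 : n151478 = n73082 := (((D73082).symm.trans (sb E56263 D151478))).symm
theorem E59610 : n151491 = n118711 := (((D118711).symm.trans (sb E56265 D151491))).symm
theorem F303864 : act 0 n54658 = n26454 := (sb E56266 (iv1 F86451))
theorem F303865 : act 1 n54658 = n26453 := (sb E56266 F86452)
theorem E59611 : n118726 = n118713 := (((D118713).symm.trans (sb E56266 (iv5 F186750)))).symm
theorem F303866 : act 7 n54658 = n26436 := (sb E56266 (iv7 D54662))
theorem E59612 : n131564 = n80258 := (((F123335).symm.trans (sb E56267 F210810))).symm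
theorem E59614 : n151486 = n118784 := (((D118784).symm.trans (sb E56267 D151486))).symm
theorem E59616 : n151484 = n87997 := ((((iv6 F302951)).symm.trans (sb E56268 D151484))).symm
theorem E59619 : n151936 = n56982 := (((D56982).symm.trans (sb E56269 D151936))).symm
theorem E59620 : n151513 = n118785 := (((D118785).symm.trans (sb E56270 (iv1 F238382)))).symm
theorem E59621 : n151512 = n118786 := (((D118786).symm.trans (sb E56270 F238381))).symm
theorem E59622 : n118855 = n118787 := (((D118787).symm.trans (sb E56270 (iv5 F186917)))).symm
theorem E59623 : n118788 = n33144 := ((D118788).symm.trans (sb E56270 F108124))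
theorem F303867 : act 1 n54660 = n26452 := (sb E56271 (iv0 D54688))
theorem E59625 : n118790 = n85427 := ((((iv5 F232944)).symm.trans (sb E56271 D118790))).symm
theorem F303868 : act 0 n54659 = n26452 := (sb E56272 (iv1 D54689))
theorem E59628 : n118795 = n118724 := ((D118795).symm.trans (sb E56273 (iv1 F186744)))
theorem E59629 : n118796 = n118723 := ((D118796).symm.trans (sb E56273 F186751))
theorem F303869 : act 3 n54690 = n26474 := (sb E56273 F86514)
theorem E59630 : n118854 = n118797 := (((D118797).symm.trans (sb E56273 (iv4 F186915)))).symm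
theorem F303870 : act 7 n54690 = n26455 := (sb E56273 (iv7 D54705))
theorem F303872 : act 0 n54628 = n27125 := (sb E56275 (iv1 D56308))
theorem F303873 : act 5 n54745 = n27125 := (sb E56276 (iv5 D56309))
theorem F303874 : act 7 n15998 = n27125 := (sb E56277 (iv7 D56310))
theorem E59646 : n119406 = n60189 := ((D119406).symm.trans (sb E56279 (iv6 D128080)))
theorem F303875 : act 6 n28610 = n36115 := (sb E56280 (iv6 D79326))
theorem E59648 : n131648 = n106004 := ((((iv6 F162804)).symm.trans (sb E56281 F210992))).symm
theorem F303876 : act 2 n79327 = n60320 := (sb E56283 F206115)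
theorem E59650 : n165100 = n108319 := ((D165100).symm.trans (sb E56283 F206116))
theorem E59651 : n120894 = n60187 := (((iv7 F192804)).symm.trans (sb E56283 (iv7 D128078)))
theorem F303877 : act 3 n62915 = n32423 := (sb E56284 (iv3 D69817))
theorem F303878 : act 5 n62915 = n36117 := (sb E56284 F106253)
theorem F303879 : act 6 n28618 = n36117 := (sb E56285 (iv6 D79328))
theorem F303880 : act 4 n37296 = n29766 := (sb E56286 (iv4 D62916))
theorem E59653 : n69078 = n68947 := ((((iv5 F105112)).symm.trans (sb E56286 (iv5 F190799)))).symm
theorem E59654 : n133948 = n81613 := (((D81613).symm.trans (sb E56286 D133948))).symm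
theorem E59655 : n165107 = n133949 := (((D133949).symm.trans (sb E56287 D165107))).symm
theorem E59656 : n165108 = n133950 := (((D133950).symm.trans (sb E56287 D165108))).symm
theorem E59659 : n119495 = n60208 := ((((iv4 F94776)).symm.trans (sb E56288 F188287))).symm
theorem E59662 : n118654 = n60165 := ((((iv3 F94712)).symm.trans (sb E56289 (iv3 F232333)))).symm
theorem E59671 : n165124 = n133842 := ((((iv3 F215497)).symm.trans (sb E56292 D165124))).symm
theorem F303881 : act 5 n75460 = n61793 := (sb E56298 (iv5 D131698))
theorem E59681 : n158300 = n132905 := ((D158300).symm.trans (sb E56298 (iv6 F213490)))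
theorem E59682 : n133096 = n34541 := (((D34541).symm.trans (sb E56299 (iv6 F213734)))).symm
theorem E59683 : n158303 = n133095 := (((D133095).symm.trans (sb E56300 D158303))).symm
theorem F303882 : act 6 n62444 = n34531 := (sb E56300 (iv6 D75462))
theorem E59686 : n129758 = n120813 := (((D120813).symm.trans (sb E56303 F239103))).symm
theorem E59687 : n120814 = n28898 := ((D120814).symm.trans (sb E56304 (iv1 D60944)))
theorem E59688 : n120815 = n62225 := ((D120815).symm.trans (sb E56304 F96989))
theorem E59689 : n129760 = n120816 := (((D120816).symm.trans (sb E56304 D129760))).symm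
theorem E59690 : n120817 = n61572 := ((D120817).symm.trans (sb E56304 F209598))
theorem E59696 : n135456 = n35470 := (((D35470).symm.trans (sb E56306 F217782))).symm
theorem E59697 : n155566 = n35471 := (((D35471).symm.trans (sb E56306 D155566))).symm
theorem F303883 : act 4 n17199 = n33965 := (sb E56306 (iv4 D74008))
theorem E59698 : n132492 = n35472 := (((D35472).symm.trans (sb E56306 (iv5 F212608)))).symm
theorem E59699 : n129756 = n35473 := (((D35473).symm.trans (sb E56306 (iv7 F209613)))).symm
theorem E59700 : n133179 = n35375 := (((F116891).symm.trans (sb E56307 (iv2 F213961)))).symm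
theorem E59701 : n141808 = n35477 := (((D35477).symm.trans (sb E56307 (iv5 F224817)))).symm
theorem E59702 : n61233 = n35478 := (((D35478).symm.trans (sb E56307 (iv6 D130511)))).symm
theorem E59703 : n149689 = n54167 := (((iv5 F235360)).symm.trans (sb E56311 (iv5 D117575)))
theorem E59704 : n120143 = n69758 := (((F115773).symm.trans (sb E56312 (iv0 F215173)))).symm
theorem E59705 : n161665 = n60791 := ((D161665).symm.trans (sb E56313 (iv6 D129363)))
theorem E59706 : n161668 = n134709 := ((D161668).symm.trans (sb E56314 F216716))
theorem E59707 : n161669 = n129750 := ((D161669).symm.trans (sb E56315 F211109))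
theorem F303884 : act 4 n77647 = n61815 := (sb E56316 F211114)
theorem F303885 : act 4 n38200 = n33952 := (sb E56317 (iv4 D73970))
theorem E59710 : n155521 = n82998 := (((D82998).symm.trans (sb E56317 D155521))).symm
theorem F303886 : act 0 n72835 = n83144 := (sb E56319 F128181)
theorem F303887 : act 1 n72835 = n81519 := (sb E56319 (iv0 F125387))
theorem F303888 : act 2 n72835 = n83548 := (sb E56319 (iv2 F128643))
theorem F303889 : act 7 n72835 = n83592 := (sb E56319 (iv7 F128671))
theorem E59716 : n155522 = n82879 := ((((iv3 F127646)).symm.trans (sb E56320 D155522))).symm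
theorem F303890 : act 4 n38201 = n33953 := (sb E56320 (iv4 D73975))
theorem E59717 : n119647 = n82999 := (((D82999).symm.trans (sb E56320 (iv6 F188705)))).symm
theorem F303891 : act 0 n73397 = n54580 := (sb E56322 F131026)
theorem F303892 : act 1 n73397 = n54576 := (sb E56322 (iv0 F130750))
theorem F303893 : act 2 n73397 = n33954 := (sb E56322 F110719)
theorem E59723 : n154783 = n146910 := ((D154783).symm.trans (sb E56322 (iv6 F230297)))
theorem F303894 : act 6 n16408 = n33760 := (sb E56323 (iv6 D73398))
theorem E59725 : n155524 = n78044 := ((D155524).symm.trans (sb E56324 (iv4 F119232)))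
theorem E59726 : n119587 = n107885 := ((((iv6 F166697)).symm.trans (sb E56324 (iv6 F300862)))).symm
theorem E59727 : n155525 = n78045 := ((D155525).symm.trans (sb E56325 (iv4 F119234)))
theorem F303895 : act 4 n73619 = n33954 := (sb E56326 (iv4 D73980))
theorem E59732 : n155515 = n155093 := (((D155093).symm.trans (sb E56326 (iv6 F244531)))).symm
theorem E59768 : n154624 = n119752 := (((D119752).symm.trans (sb E56338 F242732))).symm
theorem E59773 : n120600 = n119757 := (((D119757).symm.trans (sb E56340 (iv5 F232666)))).symm
theorem E59774 : n119743 = n71660 := ((D119743).symm.trans (sb E56341 F238274))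
theorem E59775 : n70452 = n33902 := ((F106916).symm.trans (sb E56342 (iv1 F110483)))
theorem E59776 : n119744 = n33901 := ((D119744).symm.trans (sb E56342 F110484))
theorem E59777 : n119745 = n71507 := ((D119745).symm.trans (sb E56342 (iv5 F232500)))
theorem E59778 : n119746 = n33891 := ((D119746).symm.trans (sb E56342 (iv7 D73773)))
theorem E59780 : n119759 = n71421 := ((D119759).symm.trans (sb E56344 (iv1 F232703)))
theorem E59781 : n119760 = n71661 := ((D119760).symm.trans (sb E56344 (iv0 F232834)))
theorem E59782 : n119761 = n74952 := ((D119761).symm.trans (sb E56344 (iv5 F209815)))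
theorem E59783 : n119762 = n61571 := ((D119762).symm.trans (sb E56344 F97893))
theorem E59784 : n153874 = n119763 := (((D119763).symm.trans (sb E56345 (iv3 F241783)))).symm
theorem E59786 : n120253 = n119764 := (((D119764).symm.trans (sb E56345 F232882))).symm
theorem E59787 : n119766 = n119553 := ((D119766).symm.trans (sb E56346 (iv3 F238282)))
theorem E59788 : n119792 = n54415 := ((((iv4 F87175)).symm.trans (sb E56346 (iv4 F189012)))).symm
theorem E59789 : n119796 = n119767 := (((D119767).symm.trans (sb E56346 D119796))).symm
theorem F303896 : act 6 n55110 = n26636 := (sb E56346 (iv6 D55122))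
theorem F303897 : act 5 n34351 = n26634 := (sb E56347 (iv5 D55111))
theorem F303898 : act 4 n16388 = n26638 := (sb E56348 F87178)
theorem F303899 : act 7 n16388 = n26634 := (sb E56348 (iv7 D55112))
theorem F303900 : act 1 n14101 = n26898 := (sb E56349 (iv0 D55705))
theorem F303901 : act 0 n29157 = n26898 := (sb E56350 (iv1 D55706))
theorem F303902 : act 5 n34353 = n26898 := (sb E56351 (iv5 D55707))
theorem F303903 : act 7 n29154 = n26898 := (sb E56352 (iv7 D55708))
theorem E59805 : n120834 = n119306 := ((((iv2 F187805)).symm.trans (sb E56353 D120834))).symm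
theorem E59810 : n154813 = n154636 := (((iv1 F243511)).symm.trans (sb E56356 (iv1 F242758)))
theorem F303904 : act 6 n123084 = n125200 := (sb E56356 F206603)
theorem E59811 : n61739 = n56429 := ((D61739).symm.trans (sb E56357 (iv4 D121987)))
theorem F303905 : act 5 n29265 = n57446 := (sb E56357 F194817)
theorem F303906 : act 6 n58554 = n57446 := (sb E56358 (iv6 D123349))
theorem F303907 : act 6 n123044 = n69913 := (sb E56359 F206606)
theorem E59812 : n61744 = n38297 := ((D61744).symm.trans (sb E56360 (iv4 D83197)))
theorem F303908 : act 5 n29266 = n57447 := (sb E56360 (iv5 F128275))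
theorem F303909 : act 6 n32465 = n57447 := (sb E56361 (iv6 D123350))
theorem F303910 : act 2 n70700 = n57449 := (sb E56362 F156502)
theorem F303911 : act 3 n70700 = n86448 := (sb E56362 F156507)
theorem E59814 : n150213 = n47256 := ((D150213).symm.trans (sb E56362 (iv4 D101591)))
theorem F303912 : act 5 n70700 = n57448 := (sb E56362 F156504)
theorem F303913 : act 6 n28687 = n57448 := (sb E56363 (iv6 D123351))
theorem F303914 : act 1 n70612 = n57449 := (sb E56364 F193779)
theorem E59815 : n150075 = n56063 := ((D150075).symm.trans (sb E56364 (iv4 D121438)))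
theorem F303915 : act 0 n70607 = n57449 := (sb E56365 F151263)
theorem F303916 : act 3 n70607 = n46058 := (sb E56365 F151261)
theorem E59816 : n150069 = n45819 := ((D150069).symm.trans (sb E56365 (iv4 D98108)))
theorem F303917 : act 2 n123352 = n143741 := (sb E56367 (iv2 F226408))
theorem F303918 : act 5 n123352 = n60415 := (sb E56367 (iv5 D128462))
theorem F303919 : act 7 n123352 = n131342 := (sb E56367 (iv7 F210509))
theorem F303921 : act 1 n123357 = n62811 := (sb E56372 F206608)
theorem F303922 : act 2 n123357 = n131268 := (sb E56372 (iv2 F210355))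
theorem E59818 : n123357 = n77710 := (((D77710).symm.trans (iv4 (sb E56372 (tr (iv4 F244581) E59697))))).symm
theorem E59819 : n128472 = n77710 := (E56372).trans E59818
theorem E59820 : n161805 = n68069 := ((D161805).symm.trans (sb E59819 (iv5 F206610)))
theorem E59821 : n161806 = n61387 := ((D161806).symm.trans (sb E59819 (iv6 F206611)))
theorem E59822 : n161772 = n68068 := (((iv7 F255774)).symm.trans (sb E59819 F206609))
theorem F303923 : act 5 n28692 = n57451 := (sb E56373 (iv5 D123358))
theorem F303924 : act 7 n61639 = n57451 := (sb E56374 (iv7 D123359))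
theorem E59828 : n73055 = n47158 := (((D47158).symm.trans (sb E56382 (iv6 D154209)))).symm
theorem E59830 : n86626 = n73151 := (((F109639).symm.trans (sb E56384 D86626))).symm
theorem E59831 : n86627 = n73173 := (((D73173).symm.trans (sb E56384 D86627))).symm
theorem F303925 : act 6 n33692 = n18969 := (sb E56384 (iv6 D40154))
theorem E59833 : n87667 = n73170 := ((D87667).symm.trans (sb E56385 (iv6 D154470)))
theorem F303926 : act 6 n105954 = n49005 := (sb E56386 (iv6 D106008))
theorem E59834 : n151884 = n11194 := (((D11194).symm.trans (sb E56387 F266031))).symm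
theorem E59835 : n68477 = n49009 := (((D49009).symm.trans (sb E56388 (iv5 D146047)))).symm
theorem E59837 : n150193 = n18931 := (((F35275).symm.trans (sb E56393 (iv5 F236378)))).symm
theorem E59838 : n129541 = n60028 := ((((iv4 F94523)).symm.trans (sb E56395 F266036))).symm
theorem E59839 : n129540 = n86458 := (((D86458).symm.trans (sb E56395 F266034))).symm
theorem E59840 : n131328 = n18997 := (((D18997).symm.trans (sb E56396 F266043))).symm
theorem E59841 : n39337 = n29200 := ((F90869).symm.trans (sb E56397 (iv1 D61631)))
theorem E59842 : n131104 = n85670 := (((F131392).symm.trans (sb E56397 (iv0 F209969)))).symm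
theorem E59843 : n131329 = n86584 := (((D86584).symm.trans (sb E56397 D131329))).symm
theorem E59845 : n120876 = n86583 := ((D120876).symm.trans (sb E56398 (iv0 D181334)))
theorem F303927 : act 0 n78339 = n86583 := (sb E56399 (iv1 D181335))
theorem F303928 : act 5 n107932 = n86583 := (sb E56400 (iv5 D181336))
theorem E59846 : n162933 = n86587 := (E58091).trans E59531
theorem F303929 : act 7 n78344 = n86583 := (sb E56401 (iv7 D181337))
theorem E59848 : n149814 = n48988 := ((((iv4 F77309)).symm.trans (sb E56404 F282436))).symm
theorem E59849 : n133295 = n3626 := ((((iv4 D8012)).symm.trans (sb E56407 (iv4 F214269)))).symm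
theorem E59850 : n48939 = n17125 := (((D17125).symm.trans (sb E56407 F162573))).symm
theorem E59851 : n48957 = n15705 := (((D15705).symm.trans (sb E56408 F162615))).symm
theorem E59852 : n70764 = n29740 := (((F50931).symm.trans (sb E56409 D70764))).symm
theorem E59853 : n70765 = n13915 := (((F50932).symm.trans (sb E56409 D70765))).symm
theorem F303930 : act 6 n23883 = n15704 := (sb E56409 (iv6 D32803))
theorem F303931 : act 5 n69793 = n70687 := (sb E56410 F211121)
theorem E59855 : n120219 = n61833 := ((F191416).symm.trans (sb E56412 F248033))
theorem E59856 : n148894 = n133698 := ((D148894).symm.trans (sb E56412 F215159))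
theorem E59857 : n167912 = n148895 := (((D148895).symm.trans (sb E56412 (iv5 F264571)))).symm
theorem E59858 : n148896 = n61614 := ((D148896).symm.trans (sb E56412 (iv7 D131292)))
theorem E59859 : n156534 = n7473 := ((((iv3 D15957)).symm.trans (sb E56413 (iv3 F246155)))).symm
theorem E59861 : n34332 = n33082 := (((D33082).symm.trans (sb E56413 (iv6 D74921)))).symm
theorem E59862 : n157496 = n55996 := (((D55996).symm.trans (sb E56414 F248199))).symm
theorem F303932 : act 4 n54780 = n61820 := (sb E56417 F211129)
theorem F303933 : act 1 n32884 = n61820 := (sb E56418 (iv0 D131763))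
theorem E59863 : n71008 = n70243 := ((D71008).symm.trans (sb E56418 F235188))
theorem E59864 : n161704 = n121442 := ((D161704).symm.trans (sb E56433 (tr F215831 E59528)))
theorem E59865 : n161705 = n132724 := ((D161705).symm.trans (sb E56433 (iv5 F213072)))
theorem E59866 : n161706 = n134703 := ((D161706).symm.trans (sb E56433 F216707))
theorem E59867 : n161707 = n121443 := ((D161707).symm.trans (sb E56433 (tr F212341 E59529)))
theorem F303935 : act 4 n77670 = n62569 := (sb E56434 F207762)
theorem E59868 : n161709 = n132725 := ((D161709).symm.trans (sb E56434 F213078))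
theorem E59869 : n161710 = n60874 := ((D161710).symm.trans (sb E56434 (iv6 D129583)))
theorem E59871 : n161712 = n129922 := ((D161712).symm.trans (sb E56435 F211134))
theorem F303936 : act 4 n77672 = n61826 := (sb E56436 F211137)
theorem E59874 : n96250 = n68356 := (((D68356).symm.trans (sb E56440 F148043))).symm
theorem E59875 : n114458 = n68357 := (((D68357).symm.trans (sb E56440 (iv4 F178512)))).symm
theorem E59877 : n60375 = n16595 := (((F46694).symm.trans (sb E56441 (iv3 D128400)))).symm
theorem E59878 : n85583 = n13828 := ((((iv6 D29056)).symm.trans (sb E56441 F206522))).symm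
theorem F303937 : act 1 n180012 = n86578 := (sb E56444 (iv0 D181321))
theorem F303938 : act 2 n180012 = n181199 := (sb E56444 (iv2 F282395))
theorem E59882 : n79068 = n74860 := (((F209433).symm.trans (sb E56446 (iv0 D164585)))).symm
theorem F303939 : act 4 n130852 = n124028 := (sb E56446 F259482)
theorem E59883 : n70900 = n61741 := (((D61741).symm.trans (sb E56449 (iv6 D150451)))).symm
theorem E59884 : n172621 = n147648 := ((((iv3 F303568)).symm.trans (sb E56450 (iv3 F270846)))).symm
theorem F303940 : act 6 n161013 = n81651 := (sb E56450 (iv6 D170253))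
theorem F303941 : act 2 n160143 = n100065 := (sb E56453 F285091)
theorem F303942 : act 5 n160143 = n87537 := (sb E56453 (iv5 D183383))
theorem F303943 : act 6 n160143 = n87540 := (sb E56453 F285092)
theorem E59885 : n169051 = n18282 := (((F57353).symm.trans (sb E56455 D169051))).symm
theorem E59889 : n129294 = n77688 := (((D77688).symm.trans (sb E56456 (iv1 F207946)))).symm
theorem E59890 : n77689 = n60940 := ((D77689).symm.trans (sb E56456 (iv0 F124899)))
theorem E59892 : n129293 = n77691 := (((D77691).symm.trans (sb E56456 (iv7 F207491)))).symm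
theorem E59895 : n34282 = n32687 := ((F95875).symm.trans (sb E56457 F106892))
theorem E59897 : n61596 = n32686 := (((iv6 F96147)).symm.trans (sb E56457 (iv6 D70429)))
theorem F303945 : act 0 n29179 = n36850 := (sb E56458 (iv1 D80716))
theorem E59898 : n168167 = n61598 := ((((iv3 F96154)).symm.trans (sb E56458 D168167))).symm
theorem F303946 : act 5 n58547 = n36850 := (sb E56459 (iv5 D80717))
theorem F303947 : act 7 n61382 = n36850 := (sb E56460 (iv7 D80718))
theorem F303948 : act 3 n55536 = n27815 := (sb E56462 F92326)
theorem E59906 : n120598 = n27813 := ((D120598).symm.trans (sb E56462 (iv5 D58453)))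
theorem F303949 : act 7 n55536 = n34391 := (sb E56462 F92327)
theorem F303950 : act 1 n32778 = n41686 := (sb E56464 (iv0 F122982))
theorem F303951 : act 4 n32778 = n36492 := (sb E56464 (iv4 D80126))
theorem E59909 : n70691 = n40045 := ((D70691).symm.trans (sb E56464 F122984))
theorem E59910 : n166907 = n70692 := (((D70692).symm.trans (sb E56464 D166907))).symm
theorem E59911 : n70702 = n35447 := ((D70702).symm.trans (sb E56465 (iv4 D77632)))
theorem E59913 : n70718 = n35446 := ((D70718).symm.trans (sb E56467 (iv4 D77629)))
theorem E59915 : n153397 = n8886 := ((((iv5 D18959)).symm.trans (sb E56470 D153397))).symm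
theorem F303952 : act 0 n40375 = n70610 := (sb E56471 (iv1 F205744))
theorem F303953 : act 1 n40375 = n70689 := (sb E56471 F205745)
theorem F303954 : act 2 n40375 = n70687 := (sb E56471 F205742)
theorem E59917 : n148983 = n86956 := (((D86956).symm.trans (sb E56471 (iv6 F234152)))).symm
theorem F303955 : act 4 n75320 = n70687 := (sb E56472 (iv4 F189084))
theorem E59918 : n74612 = n12943 := (((F42529).symm.trans (sb E56475 F243282))).symm
theorem E59919 : n143516 = n54910 := (((D54910).symm.trans (sb E56475 (iv6 F236694)))).symm
theorem E59920 : n133732 = n79724 := (((F130345).symm.trans (sb E56476 (iv1 F215259)))).symm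
theorem E59921 : n61623 = n32531 := (((F130346).symm.trans (sb E56476 (iv0 D131313)))).symm
theorem E59922 : n179592 = n106007 := (((D106007).symm.trans (sb E56476 (iv5 F279688)))).symm
theorem E59923 : n133730 = n79722 := ((((iv7 F131649)).symm.trans (sb E56476 (iv7 F215251)))).symm
theorem F303956 : act 4 n150356 = n150409 := (sb E56477 (iv4 F259642))
theorem E59924 : n157442 = n8877 := ((((iv2 F13843)).symm.trans (sb E56481 (iv2 F247997)))).symm
theorem E59925 : n127946 = n8889 := (((D8889).symm.trans (sb E56481 F236677))).symm
theorem E59926 : n136632 = n8900 := (((D8900).symm.trans (sb E56482 F236679))).symm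
theorem E59927 : n61617 = n40144 := (((D40144).symm.trans (sb E56483 (iv1 D131297)))).symm
theorem E59928 : n61633 = n40145 := (((D40145).symm.trans (sb E56483 F210429))).symm
theorem E59929 : n61630 = n39587 := ((((iv7 F60457)).symm.trans (sb E56483 F210430))).symm
theorem E59930 : n145192 = n55001 := (((F87010).symm.trans (sb E56486 F243399))).symm
theorem E59931 : n106058 = n105946 := (((D105946).symm.trans (sb E56486 F236681))).symm
theorem E59932 : n146050 = n105947 := (((D105947).symm.trans (sb E56486 F236682))).symm
theorem E59933 : n139121 = n18632 := (((F42221).symm.trans (sb E56487 (iv2 F222313)))).symm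
theorem E59934 : n139149 = n12614 := (((F42222).symm.trans (sb E56487 (iv3 F222334)))).symm
theorem E59935 : n139163 = n48986 := ((((iv4 F77299)).symm.trans (sb E56487 (iv4 F222341)))).symm
theorem E59936 : n139165 = n12612 := ((((iv5 D26424)).symm.trans (sb E56487 D139165))).symm
theorem E59937 : n54639 = n30643 := ((D54639).symm.trans (sb E56487 (iv6 D65314)))
theorem E59939 : n139120 = n54768 := (((D54768).symm.trans (sb E56488 (iv6 F236686)))).symm
theorem E59941 : n143385 = n54911 := (((D54911).symm.trans (sb E56491 F236691))).symm
theorem E59942 : n133734 = n54912 := (((D54912).symm.trans (sb E56491 (iv0 F236690)))).symm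
theorem E59943 : n143515 = n54914 := (((D54914).symm.trans (sb E56491 (iv7 F236689)))).symm
theorem E59944 : n108317 = n17533 := ((((iv3 D36310)).symm.trans (sb E56492 F210455))).symm
theorem E59946 : n133725 = n21470 := (((F296887).symm.trans (sb E56492 (iv6 F215238)))).symm
theorem F303958 : act 0 n62775 = n40138 := (sb E56493 (iv1 F131634))
theorem E59947 : n149322 = n133726 := ((((iv3 F215243)).symm.trans (sb E56493 D149322))).symm
theorem E59948 : n133729 = n32530 := (((iv4 F215249)).symm.trans (sb E56493 (iv4 D70113)))
theorem E59949 : n149323 = n133731 := (((D133731).symm.trans (sb E56493 D149323))).symm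
theorem E59950 : n181332 = n179598 := (((D179598).symm.trans (sb E56494 D181332))).symm
theorem F303959 : act 5 n85757 = n40138 := (sb E56494 (iv5 D86582))
theorem E59952 : n150555 = n149328 := (((iv7 F237075)).symm.trans (sb E56494 (iv7 F234760)))
theorem F303960 : act 3 n70117 = n61599 := (sb E56495 (iv3 D131274))
theorem F303961 : act 3 n86572 = n70838 := (sb E56496 (iv3 D150375))
theorem E59953 : n181308 = n86804 := ((D181308).symm.trans (sb E56496 F236695))
theorem F303962 : act 0 n150376 = n150412 := (sb E56497 F259650)
theorem F303964 : act 2 n150376 = n150409 := (sb E56497 F259648)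
theorem F303965 : act 3 n150376 = n184547 := (sb E56497 (iv3 F286485))
theorem F303966 : act 3 n149337 = n181309 := (sb E56499 (iv3 F282379))
theorem F303967 : act 2 n150079 = n181310 := (sb E56500 (iv2 F282381))
theorem F303968 : act 0 n150377 = n150408 := (sb E56501 (iv1 F259655))
theorem F303969 : act 1 n150377 = n150412 := (sb E56501 (iv0 F259653))
theorem F303970 : act 3 n150377 = n159060 := (sb E56501 (iv3 F259654))
theorem F303971 : act 7 n150377 = n150409 := (sb E56501 F259652)
theorem F303972 : act 0 n86548 = n70607 := (sb E56508 F210640)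
theorem F303973 : act 1 n86548 = n70612 := (sb E56508 F210641)
theorem F303974 : act 2 n86548 = n70701 := (sb E56508 F210637)
theorem F303975 : act 6 n86548 = n61682 := (sb E56508 (iv6 D131422))
theorem F303976 : act 7 n86548 = n70700 := (sb E56508 F210639)
theorem F303977 : act 0 n150214 = n101590 := (sb E56509 F259663)
theorem F303978 : act 1 n150214 = n83488 := (sb E56509 F259664)
theorem F303979 : act 2 n150214 = n82997 := (sb E56509 F259659)
theorem F303980 : act 3 n150214 = n82880 := (sb E56509 F259660)
theorem F303981 : act 5 n150214 = n96740 := (sb E56509 F259661)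
theorem F303982 : act 7 n150214 = n83311 := (sb E56509 F259662)
theorem E59954 : n132816 = n83314 := (((D83314).symm.trans (sb E56511 F236622))).symm
theorem E59955 : n83319 = n29485 := ((D83319).symm.trans (sb E56512 (iv1 D62331)))
theorem E59956 : n83320 = n61077 := ((D83320).symm.trans (sb E56512 F97195))
theorem F303983 : act 2 n38382 = n61075 := (sb E56512 (iv2 F185272))
theorem F303984 : act 4 n38382 = n29724 := (sb E56512 F185265)
theorem E59957 : n132817 = n83321 := (((D83321).symm.trans (sb E56512 D132817))).symm
theorem E59958 : n83322 = n61074 := ((D83322).symm.trans (sb E56512 (iv7 F185278)))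
theorem E59959 : n167237 = n77688 := ((D167237).symm.trans (sb E56520 (tr F207948 E59889)))
theorem F303985 : act 4 n80281 = n61390 := (sb E56520 F207949)
theorem E59960 : n167238 = n141812 := ((D167238).symm.trans (sb E56520 (iv5 F224821)))
theorem E59961 : n167239 = n129272 := ((D167239).symm.trans (sb E56520 F207950))
theorem E59962 : n167240 = n60940 := ((D167240).symm.trans (sb E56520 (iv7 D129742)))
theorem F303986 : act 0 n60769 = n36576 := (sb E56521 (iv1 D80282))
theorem E59963 : n167241 = n129292 := ((((iv3 F207490)).symm.trans (sb E56521 D167241))).symm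
theorem F303987 : act 4 n80284 = n61599 := (sb E56523 (iv4 F207937))
theorem E59966 : n129211 = n77019 := (((F302239).symm.trans (sb E56526 F208521))).symm
theorem E59968 : n96302 = n61594 := (((F96148).symm.trans (sb E56528 (iv0 F148151)))).symm
theorem E59969 : n130849 = n52908 := (((iv3 F209423)).symm.trans (sb E56528 F106890))
theorem E59971 : n129236 = n83560 := (((D83560).symm.trans (sb E56530 (iv3 F207448)))).symm
theorem F303988 : act 4 n38524 = n29056 := (sb E56530 F95347)
theorem E59972 : n129241 = n83562 := (((D83562).symm.trans (sb E56530 D129241))).symm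
theorem E59973 : n83563 = n28826 := ((D83563).symm.trans (sb E56530 (iv6 D60752)))
theorem E59975 : n174853 = n89260 := (((E57856).symm.trans (((iv4 F186426)).symm.trans (sb E56547 F273715)))).symm
theorem F303989 : act 4 n85455 = n152591 := (sb E56548 F252240)
theorem F303990 : act 0 n71554 = n34391 := (sb E56554 F232557)
theorem F303991 : act 0 n71501 = n33095 := (sb E56555 F232536)
theorem F303992 : act 0 n57104 = n72375 := (sb E56559 F190939)
theorem E59984 : n150156 = n48996 := (((F90155).symm.trans (sb E56559 D150156))).symm
theorem E59985 : n122829 = n72956 := ((D122829).symm.trans (sb E56559 F190941))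
theorem F303993 : act 7 n57104 = n72373 := (sb E56559 (iv7 F190483))
theorem E59986 : n73812 = n48998 := (((D48998).symm.trans (sb E56560 (iv6 D155348)))).symm
theorem F303994 : act 0 n105987 = n151737 := (sb E56561 (iv1 F238629))
theorem F303995 : act 1 n105987 = n73685 := (sb E56561 F232895)
theorem F303996 : act 5 n105987 = n55103 := (sb E56561 (iv5 D119750))
theorem F303997 : act 7 n105987 = n55116 := (sb E56561 F188945)
theorem E59987 : n151885 = n48988 := (((D48988).symm.trans (sb E56562 D151885))).symm
theorem E59988 : n151781 = n151216 := ((D151781).symm.trans (sb E56563 (iv1 F237933)))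
theorem E59989 : n151782 = n120221 := ((D151782).symm.trans (sb E56563 F232789))
theorem E59990 : n151783 = n85063 := ((D151783).symm.trans (sb E56563 (iv5 F233133)))
theorem E59991 : n131559 = n69811 := (((D69811).symm.trans (sb E56564 F210808))).symm
theorem E59994 : n157474 = n69800 := (((F299163).symm.trans (sb E56564 D157474))).symm
theorem E59997 : n150277 = n34285 := (((F54394).symm.trans (sb E56566 F236493))).symm
theorem E59998 : n150278 = n16997 := ((((iv0 F29904)).symm.trans (sb E56566 (iv0 F236496)))).symm
theorem F303998 : act 6 n16625 = n33081 := (sb E56566 (iv6 D71513))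
theorem E60001 : n139201 = n21576 := ((((iv1 D45215)).symm.trans (sb E56567 (iv1 F222401)))).symm
theorem E60002 : n131652 = n37331 := (((F71273).symm.trans (sb E56567 F248019))).symm
theorem F303999 : act 3 n45215 = n62912 := (sb E56567 F215768)
theorem E60003 : n107866 = n69827 := (((F232768).symm.trans (sb E56568 (iv1 F252465)))).symm
theorem E60004 : n107865 = n69832 := ((((iv0 F232733)).symm.trans (sb E56568 F252474))).symm
theorem F304000 : act 5 n121375 = n151372 := (sb E56568 F252462)
theorem E60005 : n149932 = n76627 := ((F300222).symm.trans (sb E56568 (iv7 D160026)))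
theorem E60006 : n81632 = n73033 := ((((iv3 F190646)).symm.trans (sb E56569 (iv3 D170212)))).symm
theorem E60007 : n119871 = n78273 := ((D119871).symm.trans (sb E56571 F257109))
theorem F304001 : act 4 n38191 = n54560 := (sb E56572 (iv4 D118474))
theorem F304002 : act 2 n150622 = n100892 := (sb E56574 F283228)
theorem F304003 : act 4 n150622 = n86899 := (sb E56574 F283230)
theorem F304004 : act 6 n150622 = n86898 := (sb E56574 (iv6 D181936))
theorem F304005 : act 2 n158460 = n81758 := (sb E56575 (iv2 D170559))
theorem E60009 : n83368 = n83190 := ((D83368).symm.trans (sb E56576 (iv6 D173989)))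
theorem F304006 : act 6 n56429 = n36574 := (sb E56577 (iv6 D80276))
theorem E60015 : n172301 = n72334 := (((F303563).symm.trans (sb E56578 D172301))).symm
theorem E60016 : n172302 = n22597 := ((((iv4 D46989)).symm.trans (sb E56578 D172302))).symm
theorem F304007 : act 5 n46989 = n37884 := (sb E56578 (iv5 D82518))
theorem E60017 : n100773 = n37887 := ((D100773).symm.trans (sb E56578 F127165))
theorem E60020 : n172278 = n119011 := ((((iv2 F187159)).symm.trans (sb E56580 (iv2 F270530)))).symm
theorem E60022 : n119119 = n37883 := ((D119119).symm.trans (sb E56580 (iv5 D82514)))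
theorem E60023 : n172289 = n119120 := (((D119120).symm.trans (sb E56580 D172289))).symm
theorem E60024 : n164604 = n161809 := (((D161809).symm.trans (sb E56585 F259522))).symm
theorem E60025 : n161810 = n128164 := ((D161810).symm.trans (sb E56585 (iv0 F235671)))
theorem E60026 : n161797 = n128053 := (((iv2 F255793)).symm.trans (sb E56585 F235669))
theorem E60027 : n161803 = n119314 := (((iv3 F255795)).symm.trans (sb E56585 (iv3 F300851)))
theorem E60028 : n70426 = n61387 := (((E59821).symm.trans (((iv4 F255796)).symm.trans (sb E56585 (iv4 D149828))))).symm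
theorem E60029 : n165179 = n161812 := (((D161812).symm.trans (sb E56585 (iv7 F260436)))).symm
theorem E60033 : n165342 = n17884 := ((((iv3 D37187)).symm.trans (sb E56586 (iv3 F260583)))).symm
theorem E60034 : n165345 = n39944 := ((((iv4 F60773)).symm.trans (sb E56586 (iv4 F260584)))).symm
theorem E60035 : n81431 = n36162 := ((D81431).symm.trans (sb E56586 (iv6 D79430)))
theorem F304008 : act 6 n128164 = n77688 := (sb E56587 (iv6 D161730))
theorem F304009 : act 0 n35149 = n55757 := (sb E56603 (iv1 F192799))
theorem E60065 : n149907 = n70353 := (((D70353).symm.trans (sb E56606 (iv0 F238269)))).symm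
theorem E60066 : n178417 = n70354 := (((D70354).symm.trans (sb E56606 (iv7 F277999)))).symm
theorem F304010 : act 0 n81987 = n77836 := (sb E56608 F129723)
theorem E60069 : n177489 = n171055 := (((D171055).symm.trans (sb E56608 D177489))).symm
theorem F304011 : act 6 n81987 = n76865 := (sb E56608 F129722)
theorem F304012 : act 1 n47565 = n55383 := (sb E56611 (iv0 D120336))
theorem F304013 : act 0 n102440 = n55383 := (sb E56612 (iv1 D120337))
theorem F304014 : act 3 n102471 = n151397 := (sb E56613 (iv3 F238116))
theorem F304015 : act 4 n102471 = n120420 := (sb E56613 (iv4 F191838))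
theorem F304016 : act 6 n102471 = n56996 := (sb E56613 F191651)
theorem F304017 : act 7 n102471 = n55383 := (sb E56613 (iv7 D120339))
theorem F304018 : act 4 n164022 = n176711 := (sb E56619 F276074)
theorem F304019 : act 1 n164023 = n157923 := (sb E56620 (iv0 F280823))
theorem F304020 : act 4 n164024 = n89176 := (sb E56621 (iv4 F295372))
theorem F304021 : act 3 n164028 = n157899 := (sb E56625 (iv3 F261264))
theorem F304022 : act 4 n164019 = n182304 := (sb E56628 (iv4 F295399))
theorem F304023 : act 4 n98415 = n78802 := (sb E56631 (iv4 D164033))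
theorem F304025 : act 6 n164149 = n79659 := (sb E56640 (iv6 D165879))
theorem F304028 : act 4 n173833 = n84573 := (sb E56651 F273003)
theorem F304029 : act 0 n84781 = n55463 := (sb E56653 (iv1 D120481))
theorem E60071 : n178108 = n154442 := ((D178108).symm.trans (sb E56653 (iv3 F242490)))
theorem F304030 : act 5 n84781 = n124032 := (sb E56653 F198423)
theorem F304031 : act 6 n84781 = n81807 := (sb E56653 (iv6 F191923))
theorem F304032 : act 0 n79558 = n58698 := (sb E56654 F131979)
theorem E60072 : n165462 = n69525 := (((iv4 F260665)).symm.trans (sb E56654 F131977))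
theorem F304035 : act 7 n79558 = n81829 := (sb E56654 F131978)
theorem F304036 : act 6 n55932 = n36233 := (sb E56655 (iv6 D79559))
theorem E60077 : n73279 = n40614 := (((D40614).symm.trans (sb E56657 F241874))).symm
theorem E60078 : n169949 = n72805 := ((((iv1 F110011)).symm.trans (sb E56658 D169949))).symm
theorem F304037 : act 6 n33726 = n37221 := (sb E56658 (iv6 D81521))
theorem F304038 : act 1 n33733 = n55105 := (sb E56659 (iv0 F116539))
theorem F304039 : act 1 n8870 = n16163 := (sb E56661 (iv0 D33467))
theorem E60088 : n86405 = n58314 := ((D86405).symm.trans (sb E56662 (iv1 F190862)))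
theorem F304040 : act 2 n40009 = n39628 := (sb E56662 (iv2 D85797))
theorem E60089 : n86408 = n58306 := ((D86408).symm.trans (sb E56662 (iv7 F190395)))
theorem E60090 : n72536 = n8456 := ((((iv4 D17917)).symm.trans (sb E56663 (iv4 F109032)))).symm
theorem F304041 : act 5 n17917 = n16164 := (sb E56663 F52749)
theorem E60091 : n72537 = n37291 := (((D37291).symm.trans (sb E56663 D72537))).symm
theorem F304042 : act 7 n17917 = n16163 := (sb E56663 (iv7 D33470))
theorem F304043 : act 2 n19161 = n16163 := (sb E56664 F52609)
theorem E60092 : n72299 = n36565 := ((((iv3 F57434)).symm.trans (sb E56664 (iv3 F108746)))).symm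
theorem E60093 : n72320 = n9006 := ((((iv4 D19161)).symm.trans (sb E56664 D72320))).symm
theorem F304044 : act 5 n19161 = n16112 := (sb E56664 (iv5 D33371))
theorem E60094 : n40564 = n16115 := ((D40564).symm.trans (sb E56664 F52610))
theorem E60095 : n154550 = n8457 := ((((iv1 F29084)).symm.trans (sb E56666 F242612))).symm
theorem E60096 : n157425 = n8454 := ((((iv0 D17909)).symm.trans (sb E56666 (iv0 F247946)))).symm
theorem E60097 : n147341 = n37194 := ((((iv5 F58156)).symm.trans (sb E56666 F231021))).symm
theorem E60100 : n183094 = n179660 := (((D179660).symm.trans (sb E56668 D183094))).symm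
theorem E60103 : n169830 = n55522 := ((D169830).symm.trans (sb E56669 F190814))
theorem F304045 : act 3 n81443 = n39629 := (sb E56669 F131594)
theorem E60105 : n179662 = n44935 := (((F125279).symm.trans (sb E56669 D179662))).symm
theorem F304046 : act 5 n81443 = n39628 := (sb E56669 (iv5 D85798))
theorem E60106 : n169833 = n72927 := ((D169833).symm.trans (sb E56669 (iv7 F190773)))
theorem F304047 : act 4 n33617 = n45808 := (sb E56670 F133181)
theorem F304048 : act 1 n62707 = n37264 := (sb E56671 (iv0 D81568))
theorem E60107 : n133603 = n100890 := (((iv3 F214943)).symm.trans (sb E56671 F155028))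
theorem F304049 : act 4 n62707 = n77644 := (sb E56671 (iv4 F296914))
theorem E60108 : n160173 = n133605 := (((D133605).symm.trans (sb E56671 (iv5 F252823)))).symm
theorem F304050 : act 1 n81569 = n71740 := (sb E56672 F186571)
theorem F304051 : act 2 n81569 = n71738 := (sb E56672 (iv2 F186573))
theorem E60110 : n149969 = n148186 := ((F235914).symm.trans (sb E56672 F232006))
theorem E60111 : n160164 = n146725 := (((iv5 F252813)).symm.trans (sb E56672 (iv5 F230057)))
theorem E60112 : n170074 = n133599 := ((D170074).symm.trans (sb E56672 (iv6 F214934)))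
theorem F304052 : act 7 n81569 = n61505 := (sb E56672 F186572)
theorem E60113 : n169789 = n32373 := ((((iv1 D69743)).symm.trans (sb E56673 F267196))).symm
theorem E60114 : n169791 = n75135 := (((F112666).symm.trans (sb E56673 (iv0 F267202)))).symm
theorem E60115 : n161811 = n145745 := ((((iv4 F228871)).symm.trans (sb E56673 (iv4 F301247)))).symm
theorem F304053 : act 5 n69743 = n37264 := (sb E56673 F125278)
theorem E60116 : n87469 = n75134 := ((((iv7 F112667)).symm.trans (sb E56673 (iv7 F134286)))).symm
theorem F304054 : act 0 n44474 = n71738 := (sb E56674 (iv1 F186578))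
theorem F304055 : act 1 n44474 = n61505 := (sb E56674 F186579)
theorem F304056 : act 2 n44474 = n71740 := (sb E56674 F186575)
theorem F304057 : act 4 n33724 = n58001 := (sb E56677 F192454)
theorem E60123 : n55063 = n47259 := (((D47259).symm.trans (sb E56680 (iv6 D119678)))).symm
theorem F304058 : act 0 n101594 = n54561 := (sb E56681 (iv1 F166630))
theorem F304059 : act 1 n101594 = n54585 := (sb E56681 (iv0 F166628))
theorem F304060 : act 2 n101594 = n54583 := (sb E56681 (iv2 F184963))
theorem F304061 : act 3 n101594 = n49814 := (sb E56681 (iv3 D107860))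
theorem F304062 : act 7 n101594 = n54582 := (sb E56681 F166627)
theorem F304063 : act 6 n26614 = n47257 := (sb E56682 (iv6 D101595))
theorem E60124 : n85295 = n47264 := (((D47264).symm.trans (sb E56683 F244440))).symm
theorem F304064 : act 0 n101600 = n54585 := (sb E56684 (iv1 F186329))
theorem F304065 : act 1 n101600 = n54561 := (sb E56684 (iv0 D118476))
theorem F304066 : act 2 n101600 = n54582 := (sb E56684 (iv2 F186325))
theorem F304067 : act 7 n101600 = n54583 := (sb E56684 F186328)
theorem F304068 : act 6 n39410 = n47262 := (sb E56685 (iv6 D101601))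
theorem F304069 : act 0 n119741 = n73979 := (sb E56686 (iv1 F244446))
theorem F304070 : act 1 n119741 = n73978 := (sb E56686 F244447)
theorem F304071 : act 6 n119741 = n118546 := (sb E56686 (iv6 F244448))
theorem F304072 : act 0 n119742 = n55167 := (sb E56687 (iv1 F189165))
theorem F304073 : act 1 n119742 = n55166 := (sb E56687 F189166)
theorem F304074 : act 2 n119742 = n55168 := (sb E56687 F189161)
theorem F304075 : act 5 n119742 = n62695 := (sb E56687 F189163)
theorem F304076 : act 7 n119742 = n55157 := (sb E56687 (iv7 D119846))
theorem F304077 : act 6 n119657 = n131236 := (sb E56688 (iv6 F244549))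
theorem F304078 : act 6 n61575 = n55643 := (sb E56689 (iv6 D120709))
theorem E60125 : n175056 = n73033 := ((((iv3 F190646)).symm.trans (sb E56691 (iv3 F274017)))).symm
theorem E60126 : n179859 = n73418 := (((D73418).symm.trans (sb E56698 F280118))).symm
theorem E60127 : n75924 = n73421 := (((D73421).symm.trans (sb E56700 (iv5 F189379)))).symm
theorem E60128 : n73424 = n54911 := ((D73424).symm.trans (sb E56701 (iv6 D119323)))
theorem F304079 : act 6 n33763 = n16322 := (sb E56703 (iv6 D33770))
theorem E60131 : n151871 = n73399 := (((D73399).symm.trans (sb E56704 D151871))).symm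
theorem F304080 : act 4 n26671 = n16320 := (sb E56705 F53001)
theorem F304081 : act 6 n26671 = n16319 := (sb E56705 (iv6 D33762))
theorem E60133 : n73433 = n55203 := ((D73433).symm.trans (sb E56707 (iv5 D119956)))
theorem E60134 : n131231 = n73434 := (((D73434).symm.trans (sb E56707 (iv7 F210237)))).symm
theorem F304082 : act 0 n36161 = n62752 := (sb E56710 F184346)
theorem E60140 : n79421 = n69377 := ((D79421).symm.trans (sb E56710 F184345))
theorem E60141 : n130474 = n79423 := (((D79423).symm.trans (sb E56710 (iv4 F208977)))).symm
theorem E60142 : n79424 = n54229 := ((D79424).symm.trans (sb E56710 (iv5 D117719)))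
theorem E60143 : n119001 = n79425 := (((D79425).symm.trans (sb E56710 (iv6 F187133)))).symm
theorem E60144 : n79426 = n74007 := ((D79426).symm.trans (sb E56710 (iv7 F184348)))
theorem F304083 : act 1 n36162 = n62752 := (sb E56711 F189393)
theorem E60145 : n79429 = n69378 := ((D79429).symm.trans (sb E56711 (iv5 F189395)))
theorem F304084 : act 6 n36162 = n61394 := (sb E56711 F189397)
theorem F304085 : act 5 n26676 = n17483 := (sb E56712 (iv5 D36163))
theorem E60149 : n79434 = n31526 := ((((iv7 F53108)).symm.trans (sb E56712 D79434))).symm
theorem F304086 : act 0 n36164 = n74007 := (sb E56713 (iv1 F110754))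
theorem F304087 : act 1 n36164 = n69377 := (sb E56713 (iv0 F105635))
theorem F304088 : act 2 n36164 = n62752 := (sb E56713 (iv2 F97890))
theorem F304089 : act 6 n36164 = n29154 := (sb E56713 (iv6 D61574))
theorem E60155 : n86471 = n62739 := ((((iv1 D133670)).symm.trans (sb E56717 F234469))).symm
theorem E60156 : n86697 = n62747 := (((F215087).symm.trans (sb E56717 (iv0 F274329)))).symm
theorem E60157 : n139116 = n84881 := (((iv3 F222305)).symm.trans (sb E56717 F234466))
theorem F304090 : act 4 n133670 = n69963 := (sb E56717 F234467)
theorem F304091 : act 6 n133670 = n69962 := (sb E56717 (iv6 D149088))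
theorem E60158 : n86696 = n62744 := (((F215088).symm.trans (sb E56717 (iv7 F234468)))).symm
theorem E60159 : n177065 = n131090 := ((((iv2 F209933)).symm.trans (sb E56720 (iv2 F276488)))).symm
theorem F304092 : act 4 n119556 = n96303 := (sb E56720 F243522)
theorem F304093 : act 6 n119556 = n73423 := (sb E56720 (iv6 D154822))
theorem F304094 : act 6 n119570 = n79363 := (sb E56721 (iv6 D165180))
theorem E60160 : n119589 = n74703 := (E56724).trans E58626
theorem E60161 : n157129 = n55026 := ((D157129).symm.trans (sb E60160 F188588))
theorem E60162 : n55024 = n34266 := (((F112114).symm.trans (sb E60160 (iv6 D119589)))).symm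
theorem E60163 : n148607 = n40147 := ((((iv4 D86600)).symm.trans (sb E56725 (iv4 F233363)))).symm
theorem F304095 : act 5 n86600 = n55026 := (sb E56725 (iv5 D119593))
theorem E60164 : n148195 = n76737 := (((E57408).symm.trans ((D181385).symm.trans (sb E56725 (iv6 F232020))))).symm
theorem E60165 : n148175 = n86713 := ((((iv0 F233189)).symm.trans (sb E56728 (iv0 F239154)))).symm
theorem E60166 : n183396 = n55031 := ((D183396).symm.trans (sb E56728 (iv5 D119607)))
theorem E60167 : n144809 = n117968 := (((E57353).symm.trans ((D183397).symm.trans (sb E56728 (iv7 F227709))))).symm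
theorem E60169 : n74983 = n32844 := ((((iv1 F296539)).symm.trans (sb E56734 F188616))).symm
theorem E60170 : n148161 = n70380 := ((((iv0 F296540)).symm.trans (sb E56734 F231975))).symm
theorem E60171 : n148113 = n37266 := ((((iv7 F296543)).symm.trans (sb E56734 (iv7 F231928)))).symm
theorem F304096 : act 1 n39318 = n79369 := (sb E56735 (iv0 D165192))
theorem F304097 : act 0 n39355 = n79369 := (sb E56736 (iv1 D165193))
theorem F304098 : act 0 n39309 = n79375 := (sb E56737 (iv1 F260453))
theorem F304099 : act 7 n39309 = n79369 := (sb E56737 (iv7 D165195))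
theorem E60172 : n148162 = n56943 := ((((iv7 F90019)).symm.trans (sb E56740 (iv7 F239151)))).symm
theorem E60173 : n155265 = n70358 := (((F107383).symm.trans (sb E56741 (iv3 F244179)))).symm
theorem E60174 : n119844 = n70247 := (((F107385).symm.trans (sb E56741 F239152))).symm
theorem E60175 : n150425 = n71997 := ((D150425).symm.trans (sb E56741 F239153))
theorem E60176 : n119869 = n35064 := ((((iv5 F55678)).symm.trans (sb E56742 (iv5 F239163)))).symm
theorem E60177 : n133685 = n70381 := (((D70381).symm.trans (sb E56742 (iv6 F239164)))).symm
theorem F304100 : act 7 n69410 = n70379 := (sb E56743 F107381)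
theorem F304101 : act 7 n39318 = n79375 := (sb E56744 (iv7 F260478))
theorem F304102 : act 2 n39355 = n79375 := (sb E56749 F260482)
theorem F304103 : act 3 n68732 = n79375 := (sb E56750 (iv3 D165211))
theorem F304108 : act 6 n165212 = n85136 := (sb E56751 F278166)
theorem F304110 : act 5 n68730 = n79375 := (sb E56752 (iv5 D165213))
theorem F304111 : act 6 n39371 = n79375 := (sb E56753 (iv6 D165214))
theorem F304112 : act 3 n118478 = n54657 := (sb E56758 F186723)
theorem F304113 : act 4 n118478 = n153323 := (sb E56758 (iv4 F240883))
theorem E60180 : n161013 = n131578 := (((iv0 F254529)).symm.trans (sb E56759 (iv0 F210823)))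
theorem F304114 : act 4 n118489 = n54585 := (sb E56759 F186433)
theorem F304115 : act 7 n118489 = n54584 := (sb E56759 (iv7 D118530))
theorem E60181 : n165334 = n54761 := (((F86618).symm.trans (sb E56763 (iv0 F260579)))).symm
theorem E60182 : n117570 = n54848 := ((((iv1 F125525)).symm.trans (sb E56765 (iv1 F215812)))).symm
theorem E60183 : n119581 = n98222 := ((((iv2 F151566)).symm.trans (sb E56765 F189796))).symm
theorem F304116 : act 3 n76728 = n61505 := (sb E56765 F189797)
theorem E60184 : n119305 = n35069 := ((((iv5 D76728)).symm.trans (sb E56765 F189798))).symm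
theorem E60185 : n160175 = n55292 := ((D160175).symm.trans (sb E56765 (iv6 D120164)))
theorem F304117 : act 4 n119123 = n61505 := (sb E56766 F209960)
theorem F304118 : act 6 n119123 = n61503 := (sb E56766 (iv6 D131101))
theorem E60186 : n117294 = n81430 := (((F125584).symm.trans (sb E56767 F209964))).symm
theorem E60187 : n160142 = n130857 := ((F252760).symm.trans (sb E56767 (iv0 F209965)))
theorem F304119 : act 5 n76727 = n61505 := (sb E56767 (iv5 D131103))
theorem E60188 : n160174 = n119300 := ((D160174).symm.trans (sb E56767 F209963))
theorem F304120 : act 3 n81922 = n71738 := (sb E56769 (iv3 F238871))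
theorem F304121 : act 4 n119124 = n71738 := (sb E56770 F215789)
theorem F304122 : act 6 n119124 = n135463 := (sb E56770 (iv6 F217806))
theorem F304123 : act 3 n148830 = n99606 := (sb E56771 F298585)
theorem F304124 : act 4 n148830 = n160621 := (sb E56771 F298586)
theorem E60190 : n79084 = n26207 := (((F54587).symm.trans (sb E56773 F259523))).symm
theorem E60191 : n98768 = n75133 := ((((iv4 F112660)).symm.trans (sb E56773 (iv4 F296783)))).symm
theorem E60192 : n79082 = n29133 := (((F54588).symm.trans (sb E56773 (iv5 D164605)))).symm
theorem E60193 : n148803 = n97231 := (((iv3 F233643)).symm.trans (sb E56774 F298591))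
theorem E60194 : n148809 = n98763 := (((iv4 F233652)).symm.trans (sb E56774 F298592))
theorem E60196 : n70295 = n31808 := ((((iv1 D68353)).symm.trans (sb E56775 (iv1 D149670)))).symm
theorem E60197 : n145747 = n114604 := ((F228878).symm.trans (sb E56775 F235317))
theorem E60198 : n145795 = n128054 := ((D145795).symm.trans (sb E56775 F235318))
theorem E60199 : n145796 = n128053 := ((D145796).symm.trans (sb E56775 F235316))
theorem E60201 : n175423 = n47264 := (((E60124).symm.trans ((D85295).symm.trans (sb E56778 (iv4 F274498))))).symm
theorem F304125 : act 4 n39400 = n85244 := (sb E56779 F200619)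
theorem F304126 : act 0 n33787 = n18692 := (sb E56783 (iv1 D39443))
theorem E60202 : n85388 = n73489 := (((D73489).symm.trans (sb E56783 D85388))).symm
theorem F304127 : act 7 n33787 = n55107 := (sb E56783 F199750)
theorem E60203 : n85373 = n76578 := ((D85373).symm.trans (sb E56784 (iv5 F232460)))
theorem E60204 : n85380 = n85374 := (((D85374).symm.trans (sb E56784 F200639))).symm
theorem E60205 : n85390 = n76581 := ((D85390).symm.trans (sb E56785 F232549))
theorem F304128 : act 3 n39444 = n26812 := (sb E56785 (iv3 D55547))
theorem E60206 : n120611 = n85392 := (((D85392).symm.trans (sb E56785 D120611))).symm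
theorem E60207 : n120612 = n85393 := (((D85393).symm.trans (sb E56785 D120612))).symm
theorem E60208 : n85395 = n73818 := ((D85395).symm.trans (sb E56786 (iv0 F232900)))
theorem F304129 : act 3 n39445 = n18700 := (sb E56786 F60372)
theorem E60209 : n85430 = n85396 := (((D85396).symm.trans (sb E56786 (iv5 F130662)))).symm
theorem F304130 : act 7 n39445 = n18694 := (sb E56786 (iv7 D39453))
theorem E60210 : n181844 = n120613 := (((D120613).symm.trans (sb E56787 D181844))).symm
theorem F304131 : act 6 n128157 = n83228 := (sb E56811 (iv6 D174101))
theorem E60217 : n162733 = n158685 := (((iv1 F272390)).symm.trans (sb E56813 F272926))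
theorem E60218 : n162732 = n158677 := ((F272391).symm.trans (sb E56813 F272927))
theorem F304132 : act 5 n173804 = n83235 := (sb E56814 (iv5 D174119))
theorem F304133 : act 6 n173771 = n84185 := (sb E56817 (iv6 D176576))
theorem E60219 : n153911 = n101467 := (((iv3 F241890)).symm.trans (sb E56819 F283306))
theorem F304134 : act 6 n72828 = n84064 := (sb E56820 F272520)
theorem E60221 : n166229 = n158600 := ((D166229).symm.trans (sb E56822 (iv1 F272535)))
theorem F304135 : act 7 n79814 = n83156 := (sb E56822 (iv7 D173893))
theorem F304136 : act 5 n79815 = n84068 := (sb E56823 F272537)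
theorem F304137 : act 3 n60167 = n54897 := (sb E56824 (iv3 D119292))
theorem F304138 : act 0 n119511 = n128101 := (sb E56825 F271661)
theorem F304139 : act 4 n119511 = n82926 := (sb E56825 (iv4 D173279))
theorem F304140 : act 1 n119512 = n128101 := (sb E56826 (iv0 F271668))
theorem F304141 : act 4 n119512 = n82927 := (sb E56826 (iv4 D173284))
theorem F304142 : act 2 n60201 = n54984 := (sb E56827 (iv2 D119513))
theorem F304143 : act 4 n71981 = n54984 := (sb E56828 (iv4 D119514))
theorem F304144 : act 6 n84945 = n88105 := (sb E56829 (iv6 D184760))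
theorem E60222 : n150223 = n86565 := ((D150223).symm.trans (sb E56830 F136514))
theorem F304145 : act 1 n70713 = n99589 := (sb E56830 (iv0 F153340))
theorem F304146 : act 2 n70713 = n86455 := (sb E56830 F136511)
theorem F304147 : act 7 n70713 = n46058 := (sb E56830 F136513)
theorem F304148 : act 6 n98484 = n131404 := (sb E56831 F266234)
theorem F304149 : act 1 n153238 = n83711 := (sb E56832 (iv0 D175301))
theorem E60223 : n128115 = n83706 := (((D83706).symm.trans (sb E56835 F261839))).symm
theorem E60224 : n178891 = n83707 := (((D83707).symm.trans (sb E56835 (iv0 F278761)))).symm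
theorem F304152 : act 3 n60344 = n83727 := (sb E56836 F274338)
theorem E60226 : n166285 = n118679 := ((((iv2 F232383)).symm.trans (sb E56837 (iv2 F261830)))).symm
theorem F304154 : act 3 n71331 = n83717 := (sb E56837 (iv3 F227854))
theorem E60227 : n151356 = n67914 := ((D151356).symm.trans (sb E56837 (iv5 D144897)))
theorem E60228 : n151357 = n83715 := ((D151357).symm.trans (sb E56837 F227853))
theorem E60229 : n179670 = n118680 := ((((iv7 F232381)).symm.trans (sb E56837 (iv7 F279857)))).symm
theorem F304163 : act 5 n176231 = n173704 := (sb E56850 F275672)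
theorem F304173 : act 5 n160327 = n81833 := (sb E56855 (iv5 D170699))
theorem F304174 : act 0 n160328 = n124379 := (sb E56856 F268209)
theorem F304175 : act 1 n160328 = n124382 := (sb E56856 F268210)
theorem F304176 : act 2 n160328 = n186084 := (sb E56856 (iv2 F288746))
theorem F304177 : act 4 n124030 = n78272 := (sb E56857 F198932)
theorem F304178 : act 7 n124030 = n81833 := (sb E56857 F198934)
theorem F304179 : act 3 n101474 = n57638 := (sb E56861 F198030)
theorem F304180 : act 7 n101474 = n57619 := (sb E56861 (iv7 D123622))
theorem F304181 : act 5 n123646 = n171043 := (sb E56864 (iv5 F268768))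
theorem F304182 : act 2 n101477 = n57269 := (sb E56867 F197237)
theorem F304183 : act 4 n101477 = n155564 := (sb E56867 (tr (iv4 F259478) E59429))
theorem F304184 : act 6 n101477 = n57267 := (sb E56867 (iv6 D123063))
theorem F304185 : act 0 n101259 = n57537 := (sb E56871 (iv1 D123470))
theorem F304186 : act 1 n101260 = n57537 := (sb E56872 (iv0 D123469))
theorem F304187 : act 2 n101262 = n57537 := (sb E56874 (iv2 D123471))
theorem F304188 : act 4 n101262 = n83449 := (sb E56874 F197877)
theorem F304189 : act 7 n123472 = n81869 := (sb E56875 (iv7 D170765))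
theorem F304190 : act 5 n101481 = n160324 := (sb E56876 F277751)
theorem F304193 : act 5 n170789 = n160326 := (sb E56878 F277754)
theorem F304196 : act 6 n123995 = n81882 := (sb E56881 (iv6 D170792))
theorem F304198 : act 5 n123475 = n85830 := (sb E56883 F268384)
theorem F304199 : act 4 n123496 = n58653 := (sb E56884 F201490)
theorem F304200 : act 1 n123501 = n161507 := (sb E56885 (iv0 F255501))
theorem F304201 : act 0 n170812 = n123479 := (sb E56887 F277774)
theorem F304202 : act 1 n170812 = n123483 := (sb E56887 F277775)
theorem F304203 : act 2 n170812 = n178239 := (sb E56887 F277787)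
theorem F304204 : act 7 n170812 = n178240 := (sb E56887 F277786)
theorem F304205 : act 0 n170815 = n123483 := (sb E56890 F277772)
theorem F304206 : act 1 n170815 = n123479 := (sb E56890 F277773)
theorem F304207 : act 2 n170815 = n178240 := (sb E56890 F277785)
theorem F304208 : act 7 n170815 = n178239 := (sb E56890 (iv7 F277789))
theorem F304209 : act 7 n123476 = n81894 := (sb E56891 (iv7 D170820))
theorem F304210 : act 7 n123477 = n81895 := (sb E56892 (iv7 D170825))
theorem F304213 : act 4 n46065 = n83448 := (sb E56894 (iv4 D174630))
theorem F304214 : act 2 n170730 = n83447 := (sb E56895 (iv2 D174623))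
theorem F304215 : act 7 n170730 = n83448 := (sb E56895 (iv7 F273487))
theorem F304216 : act 2 n128238 = n84949 := (sb E56896 F273248)
theorem F304217 : act 3 n128238 = n83363 := (sb E56896 (iv3 D174393))
theorem F304219 : act 7 n128238 = n83374 := (sb E56896 F273249)
theorem F304220 : act 2 n172853 = n83380 := (sb E56897 F273252)
theorem F304221 : act 4 n172853 = n83363 := (sb E56897 (iv4 D174394))
theorem F304222 : act 6 n172853 = n176535 := (sb E56897 (iv6 F275859))
theorem F304224 : act 1 n119663 = n82755 := (sb E56898 (iv0 D172852))
theorem F304225 : act 3 n128230 = n82938 := (sb E56899 (iv3 D173302))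
theorem F304226 : act 7 n128230 = n83423 := (sb E56899 F271708)
theorem F304227 : act 3 n119512 = n84007 := (sb E56900 (iv3 D176099))
theorem F304228 : act 0 n33360 = n57104 := (sb E56902 (iv1 F123340))
theorem F304229 : act 1 n33360 = n54683 := (sb E56902 F123339)
theorem F304230 : act 7 n33360 = n71539 := (sb E56902 F123337)
theorem F304231 : act 5 n18937 = n33584 := (sb E56903 (iv5 D72818))
theorem E60235 : n146680 = n40064 := (((D40064).symm.trans (sb E56903 (iv6 F230002)))).symm
theorem E60236 : n154649 = n40065 := (((D40065).symm.trans (sb E56904 (iv3 F242798)))).symm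
theorem F304232 : act 5 n18938 = n33742 := (sb E56904 F109952)
theorem E60238 : n61567 = n39559 := ((((iv6 F296094)).symm.trans (sb E56904 F110046))).symm
theorem E60239 : n133618 = n40069 := (((D40069).symm.trans (sb E56906 F214984))).symm
theorem E60240 : n152594 = n40070 := (((D40070).symm.trans (sb E56906 (iv0 F239784)))).symm
theorem E60241 : n119833 = n40071 := (((D40071).symm.trans (sb E56906 (iv5 F189120)))).symm
theorem E60243 : n181087 = n55528 := ((D181087).symm.trans (sb E56907 F192045))
theorem E60244 : n181088 = n119818 := ((D181088).symm.trans (sb E56907 (iv3 F191093)))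
theorem E60245 : n181089 = n73003 := ((D181089).symm.trans (sb E56907 F191092))
theorem E60246 : n181090 = n55516 := ((D181090).symm.trans (sb E56907 (iv6 F191094)))
theorem E60247 : n181091 = n69262 := ((D181091).symm.trans (sb E56907 (iv7 F192043)))
theorem E60248 : n181092 = n154075 := ((D181092).symm.trans (sb E56908 (iv3 F242132)))
theorem E60249 : n181093 = n73004 := ((D181093).symm.trans (sb E56908 F191085))
theorem E60250 : n181094 = n69102 := ((D181094).symm.trans (sb E56908 (iv6 F191084)))
theorem E60253 : n181097 = n119832 := (((D119832).symm.trans (sb E56909 D181097))).symm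
theorem F304233 : act 5 n55139 = n40068 := (sb E56909 (iv5 D86488))
theorem F304234 : act 4 n73029 = n41112 := (sb E56910 F132658)
theorem F304235 : act 7 n73029 = n40068 := (sb E56910 (iv7 D86489))
theorem F304236 : act 1 n62721 = n36160 := (sb E56911 (iv0 D79417))
theorem E60254 : n165297 = n61549 := (((F186141).symm.trans (sb E56911 D165297))).symm
theorem E60255 : n154251 = n133629 := ((((iv3 F214997)).symm.trans (sb E56911 (iv3 F242360)))).symm
theorem E60258 : n165300 = n70557 := ((((iv7 F186140)).symm.trans (sb E56911 D165300))).symm
theorem E60259 : n165301 = n119115 := ((D165301).symm.trans (sb E56912 (iv3 F187402)))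
theorem E60260 : n165302 = n54422 := ((D165302).symm.trans (sb E56912 (iv5 D118141)))
theorem E60261 : n165303 = n133638 := ((D165303).symm.trans (sb E56912 (iv6 F215032)))
theorem F304238 : act 5 n55140 = n36160 := (sb E56913 (iv5 D79419))
theorem E60264 : n165307 = n119834 := (((D119834).symm.trans (sb E56913 D165307))).symm
theorem F304240 : act 1 n79420 = n61549 := (sb E56914 F186520)
theorem F304241 : act 2 n79420 = n71706 := (sb E56914 F186517)
theorem F304242 : act 4 n55871 = n81993 := (sb E56917 F268705)
theorem F304243 : act 6 n55871 = n120738 := (sb E56917 F268706)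
theorem F304244 : act 4 n54946 = n82987 := (sb E56920 F194414)
theorem F304245 : act 3 n33211 = n54658 := (sb E56921 F186728)
theorem F304246 : act 4 n77438 = n61605 := (sb E56930 F208929)
theorem E60266 : n161302 = n61107 := ((D161302).symm.trans (sb E56930 (iv6 D130177)))
theorem F304247 : act 4 n77439 = n70367 := (sb E56931 (iv4 D149791))
theorem E60267 : n161305 = n130429 := ((D161305).symm.trans (sb E56931 F235613))
theorem E60268 : n161306 = n133142 := ((D161306).symm.trans (sb E56931 F235611))
theorem E60269 : n161307 = n133108 := ((D161307).symm.trans (sb E56932 F239106))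
theorem F304248 : act 4 n77441 = n71706 := (sb E56933 F239108)
theorem E60272 : n173947 = n120230 := (((D120230).symm.trans (sb E56935 (iv4 F272603)))).symm
theorem F304249 : act 4 n77692 = n61549 := (sb E56936 F210142)
theorem E60274 : n161740 = n61547 := ((D161740).symm.trans (sb E56936 (iv6 D131191)))
theorem E60275 : n161741 = n80267 := ((D161741).symm.trans (sb E56936 (tr (iv7 F236629) E59286)))
theorem E60278 : n155350 = n149891 := ((((iv0 F235758)).symm.trans (sb E56940 F244310))).symm
theorem F304250 : act 2 n123238 = n120220 := (sb E56940 F235935)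
theorem F304252 : act 5 n123238 = n70555 := (sb E56940 (iv5 D149985))
theorem F304253 : act 7 n123238 = n133629 := (sb E56940 F235937)
theorem F304254 : act 4 n77693 = n70557 := (sb E56941 (iv4 D149990))
theorem F304255 : act 0 n84889 = n55335 := (sb E56954 (iv1 F186855))
theorem F304256 : act 6 n84889 = n71554 := (sb E56954 F186852)
theorem F304257 : act 7 n84889 = n54685 := (sb E56954 (iv7 D118783))
theorem E60283 : n160017 = n151737 := ((D160017).symm.trans (sb E56955 (iv5 F238626)))
theorem E60284 : n160018 = n69559 := ((D160018).symm.trans (sb E56955 (iv6 D148443)))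
theorem F304258 : act 5 n119783 = n55335 := (sb E56956 (iv5 D120251))
theorem F304259 : act 4 n32298 = n55337 := (sb E56957 F191463)
theorem F304260 : act 6 n32298 = n55335 := (sb E56957 (iv6 D120252))
theorem E60289 : n164773 = n50039 := (E56969).trans E58661
theorem E60290 : n168112 = n34269 := (((F208047).symm.trans (sb E60289 (iv2 F264984)))).symm
theorem E60291 : n168118 = n34270 := (((F208048).symm.trans (sb E60289 (iv7 F265000)))).symm
theorem F304261 : act 4 n55878 = n76198 := (sb E56983 (iv4 D159268))
theorem F304262 : act 5 n78420 = n79695 := (sb E56987 (iv5 D165982))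
theorem F304263 : act 3 n149944 = n82899 := (sb E56988 F271547)
theorem F304264 : act 7 n149944 = n83221 := (sb E56988 F271548)
theorem F304265 : act 5 n123148 = n75641 := (sb E56989 (iv5 D158577))
theorem F304266 : act 5 n123149 = n177832 := (sb E56990 (iv5 F277361))
theorem F304267 : act 0 n120643 = n81805 := (sb E56992 (iv1 F196631))
theorem F304268 : act 1 n120643 = n81804 := (sb E56992 F196632)
theorem F304269 : act 2 n120643 = n81807 := (sb E56992 F196629)
theorem F304270 : act 5 n120643 = n123074 := (sb E56992 (iv5 F197257))
theorem F304271 : act 3 n158578 = n81805 := (sb E56993 (iv3 D170665))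
theorem F304272 : act 7 n158578 = n160324 := (sb E56993 F268130)
theorem F304273 : act 5 n123151 = n82012 := (sb E56994 (iv5 D171115))
theorem F304274 : act 5 n123152 = n177831 := (sb E56995 (iv5 F277354))
theorem E60293 : n123969 = n99477 := ((D123969).symm.trans (sb E56997 (iv0 F268856)))
theorem F304275 : act 1 n57756 = n122396 := (sb E56998 F268855)
theorem E60294 : n150802 = n71522 := (((F233059).symm.trans (sb E57004 F252402))).symm
theorem E60295 : n105826 = n95881 := ((F230636).symm.trans (sb E57004 (iv5 F301291)))
theorem E60297 : n148865 = n120205 := (((iv4 F233893)).symm.trans (sb E57005 F252393))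
theorem E60298 : n89298 = n73045 := ((D89298).symm.trans (sb E57007 F148303))
theorem F304276 : act 3 n41713 = n57615 := (sb E57007 F148301)
theorem E60299 : n89300 = n44990 := ((D89300).symm.trans (sb E57007 (iv4 D96352)))
theorem F304277 : act 7 n41713 = n73048 := (sb E57007 F148302)
theorem F304278 : act 3 n38019 = n38296 := (sb E57008 F128261)
theorem E60302 : n173993 = n18200 := ((((iv5 D38019)).symm.trans (sb E57008 D173993))).symm
theorem E60303 : n82712 = n38295 := ((D82712).symm.trans (sb E57008 (iv6 D83192)))
theorem E60304 : n174007 = n10714 := ((((iv4 D22602)).symm.trans (sb E57009 D174007))).symm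
theorem F304279 : act 5 n22602 = n38296 := (sb E57009 (iv5 D83195))
theorem E60305 : n47006 = n45893 := ((D47006).symm.trans (sb E57009 F128264))
theorem E60306 : n172861 = n38401 := ((((iv1 D83351)).symm.trans (sb E57011 F271127))).symm
theorem F304280 : act 6 n101862 = n80125 := (sb E57012 (iv6 D166906))
theorem F304281 : act 5 n83147 = n82517 := (sb E57013 (iv5 D172298))
theorem F304282 : act 1 n97097 = n54824 := (sb E57014 (iv0 D119140))
theorem F304283 : act 4 n40977 = n54824 := (sb E57015 (iv4 D119142))
theorem F304284 : act 4 n119132 = n87856 := (sb E57016 F286123)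
theorem E60307 : n161330 = n80123 := ((F255148).symm.trans (sb E57017 (iv0 D166902)))
theorem F304285 : act 5 n85261 = n80123 := (sb E57019 (iv5 D166904))
theorem F304286 : act 0 n166905 = n161332 := (sb E57020 (iv1 F263091))
theorem F304287 : act 1 n166905 = n80188 := (sb E57020 (iv0 D167053))
theorem E60308 : n153216 = n83375 := ((((iv2 F188774)).symm.trans (sb E57021 (iv2 F240577)))).symm
theorem F304288 : act 5 n119663 = n60270 := (sb E57021 (iv5 D128199))
theorem F304289 : act 6 n119663 = n72385 := (sb E57021 F206336)
theorem F304290 : act 3 n150670 = n82580 := (sb E57039 F270680)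
theorem F304291 : act 5 n150670 = n174570 := (sb E57039 (iv5 F273431))
theorem F304292 : act 1 n150242 = n82592 := (sb E57042 (iv0 D172512))
theorem F304293 : act 0 n150666 = n82592 := (sb E57043 (iv1 D172513))
theorem F304294 : act 2 n153595 = n82592 := (sb E57044 (iv2 D172514))
theorem F304295 : act 5 n78201 = n82595 := (sb E57045 (iv5 D172522))
theorem F304296 : act 0 n57760 = n56753 := (sb E57050 (iv1 D122448))
theorem F304297 : act 1 n57760 = n56772 := (sb E57050 F195898)
theorem F304298 : act 2 n122462 = n81802 := (sb E57051 F196622)
theorem F304299 : act 2 n122463 = n81803 := (sb E57052 F196624)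
theorem F304300 : act 5 n122463 = n123640 := (sb E57052 (iv5 F198039))
theorem F304301 : act 4 n85914 = n82616 := (sb E57053 F196633)
theorem E60309 : n130402 = n75485 := ((((iv6 F297039)).symm.trans (sb E57057 F215632))).symm
theorem F304306 : act 0 n82536 = n71816 := (sb E57076 (iv1 D152244))
theorem F304307 : act 1 n82541 = n71816 := (sb E57077 F270311)
theorem F304308 : act 3 n82541 = n45913 := (sb E57077 (iv3 D98234))
theorem E60310 : n123086 = n73314 := ((D123086).symm.trans (sb E57078 (iv6 D154621)))
theorem E60311 : n149173 = n122555 := ((((iv7 F196219)).symm.trans (sb E57078 (iv7 F242717)))).symm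
theorem E60312 : n123090 = n37483 := ((D123090).symm.trans (sb E57079 (iv1 D81868)))
theorem E60313 : n123091 = n101262 := ((D123091).symm.trans (sb E57079 F156027))
theorem E60314 : n122554 = n101260 := (((iv2 F196217)).symm.trans (sb E57079 F184640))
theorem E60315 : n170760 = n123092 := (((D123092).symm.trans (sb E57079 D170760))).symm
theorem E60316 : n123093 = n101259 := ((D123093).symm.trans (sb E57079 (iv7 F184639)))
theorem F304309 : act 0 n57307 = n120632 := (sb E57084 F280016)
theorem F304310 : act 4 n54949 = n72835 := (sb E57087 F206192)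
theorem E60317 : n119405 = n60205 := ((D119405).symm.trans (sb E57087 (iv6 D128112)))
theorem F304311 : act 3 n28654 = n26579 := (sb E57088 F86943)
theorem E60319 : n119412 = n60329 := (((D60329).symm.trans (sb E57088 D119412))).symm
theorem F304312 : act 6 n28654 = n26576 := (sb E57088 (iv6 D54953))
theorem E60320 : n79104 = n60325 := (((iv3 F120367)).symm.trans (sb E57090 (iv3 D128310)))
theorem F304313 : act 0 n54979 = n60206 := (sb E57092 (iv1 F188477))
theorem E60321 : n119494 = n60205 := ((D119494).symm.trans (sb E57092 F188478))
theorem E60322 : n166270 = n119497 := (((D119497).symm.trans (sb E57092 D166270))).symm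
theorem E60323 : n119498 = n60236 := ((D119498).symm.trans (sb E57092 F188474))
theorem F304314 : act 7 n54979 = n60167 := (sb E57092 (iv7 F188475))
theorem E60324 : n119500 = n73461 := ((D119500).symm.trans (sb E57093 (iv3 D154888)))
theorem E60325 : n119510 = n60231 := ((D119510).symm.trans (sb E57094 (iv7 D128142)))
theorem E60326 : n176100 = n72862 := ((D176100).symm.trans (sb E57095 (iv4 D153966)))
theorem F304315 : act 2 n76121 = n76865 := (sb E57097 F253154)
theorem F304316 : act 7 n76121 = n76875 := (sb E57097 F253156)
theorem E60327 : n131704 = n83191 := ((D131704).symm.trans (iv6 (sb E57098 (tr (iv6 D172753) E57456))))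
theorem F304317 : act 1 n56981 = n45998 := (sb E57099 (iv0 D98303))
theorem F304318 : act 0 n98305 = n76401 := (sb E57100 (iv1 F242423))
theorem F304319 : act 1 n98305 = n153341 := (sb E57100 F242422)
theorem F304320 : act 2 n98305 = n158130 := (sb E57100 (iv2 F249073))
theorem F304321 : act 4 n98305 = n73117 := (sb E57100 (iv4 D154331))
theorem F304322 : act 7 n98305 = n158138 := (sb E57100 (iv7 F249091))
theorem E60328 : n124396 = n22694 := (((D22694).symm.trans (sb E57102 (tr (iv1 F241705) E57518)))).symm
theorem E60329 : n119817 = n22695 := (((D22695).symm.trans (sb E57102 (iv0 F215555)))).symm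
theorem E60331 : n133854 = n22693 := ((((iv4 F35278)).symm.trans (sb E57102 F215553))).symm
theorem E60332 : n33689 = n22697 := (((D22697).symm.trans (sb E57102 (iv7 D73165)))).symm
theorem E60335 : n154466 = n18382 := (((F30908).symm.trans (sb E57103 (iv2 F242510)))).symm
theorem E60336 : n40844 = n33691 := ((D40844).symm.trans (sb E57103 (iv6 D73172)))
theorem E60338 : n40850 = n33574 := (((F52870).symm.trans (sb E57104 D40850))).symm
theorem F304323 : act 2 n16283 = n9089 := (sb E57104 F30912)
theorem E60339 : n40851 = n33693 := (((D33693).symm.trans (sb E57104 D40851))).symm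
theorem F304324 : act 6 n16283 = n9055 := (sb E57104 (iv6 D19255))
theorem E60340 : n40852 = n33571 := (((F162979).symm.trans (sb E57104 D40852))).symm
theorem E60341 : n123733 = n22722 := (((F155151).symm.trans (sb E57106 (iv3 F198212)))).symm
theorem E60342 : n123744 = n98091 := (((D98091).symm.trans (sb E57106 D123744))).symm
theorem E60343 : n98092 = n27550 := ((D98092).symm.trans (sb E57106 (iv6 D57680)))
theorem E60344 : n123758 = n98097 := (((D98097).symm.trans (sb E57107 (iv6 F279801)))).symm
theorem E60345 : n123406 = n39711 := (((D39711).symm.trans (sb E57111 (iv0 F242037)))).symm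
theorem E60346 : n118197 = n33532 := ((D118197).symm.trans (sb E57112 (iv3 D72658)))
theorem E60347 : n153653 = n118199 := (((D118199).symm.trans (sb E57112 D153653))).symm
theorem E60348 : n153654 = n118200 := (((D118200).symm.trans (sb E57112 D153654))).symm
theorem F304325 : act 5 n56736 = n57009 := (sb E57113 (iv5 D122746))
theorem F304326 : act 0 n57978 = n76860 := (sb E57114 (iv1 D160351))
theorem F304327 : act 1 n57978 = n76873 := (sb E57114 F253263)
theorem F304328 : act 7 n57978 = n123285 := (sb E57114 F253264)
theorem F304329 : act 6 n57980 = n77831 := (sb E57115 (iv6 D162026))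
theorem F304330 : act 0 n57981 = n76873 := (sb E57116 (iv1 F253261))
theorem F304331 : act 1 n57981 = n76860 := (sb E57116 (iv0 D160350))
theorem F304332 : act 2 n57981 = n123285 := (sb E57116 (iv2 F253262))
theorem F304333 : act 3 n83902 = n55470 := (sb E57117 (iv3 D120498))
theorem F304334 : act 0 n120499 = n85868 := (sb E57118 (iv1 F279991))
theorem F304335 : act 1 n120499 = n85864 := (sb E57118 (iv0 D179765))
theorem F304336 : act 7 n120499 = n170716 := (sb E57118 (iv7 F279993))
theorem F304337 : act 4 n58501 = n85895 := (sb E57119 F198539)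
theorem F304338 : act 6 n58501 = n123028 := (sb E57119 F198540)
theorem F304339 : act 0 n58502 = n120327 := (sb E57120 F198544)
theorem F304340 : act 1 n58502 = n120321 := (sb E57120 F198545)
theorem F304341 : act 3 n58505 = n124082 := (sb E57123 F198623)
theorem F304342 : act 0 n58509 = n55471 := (sb E57125 (iv1 D120502))
theorem F304344 : act 0 n85831 = n124082 := (sb E57127 (iv1 F198546))
theorem F304345 : act 1 n85832 = n124082 := (sb E57128 F198549)
theorem F304346 : act 0 n85833 = n124088 := (sb E57129 (iv1 F198550))
theorem F304347 : act 1 n85833 = n124087 := (sb E57129 F198548)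
theorem F304349 : act 7 n85834 = n124089 := (sb E57130 F198552)
theorem F304350 : act 7 n85835 = n123174 := (sb E57131 F198554)
theorem F304351 : act 1 n85836 = n55471 := (sb E57132 (iv0 D120501))
theorem F304352 : act 5 n85836 = n57858 := (sb E57132 (iv5 F191939))
theorem F304353 : act 4 n18354 = n33162 := (sb E57135 F108203)
theorem E60356 : n130061 = n38526 := (((D38526).symm.trans (sb E57135 (iv7 F208507)))).symm
theorem E60357 : n152312 = n130400 := (((D130400).symm.trans (sb E57138 F239448))).symm
theorem E60358 : n166995 = n130401 := (((D130401).symm.trans (sb E57138 D166995))).symm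
theorem F304354 : act 6 n61190 = n36512 := (sb E57138 (iv6 D80165))
theorem F304355 : act 4 n80174 = n62787 := (sb E57140 F213465)
theorem F304356 : act 4 n80175 = n70744 := (sb E57141 (iv4 D150270))
theorem E60363 : n167022 = n133113 := ((D167022).symm.trans (sb E57141 F236474))
theorem F304357 : act 0 n123931 = n181645 := (sb E57142 (iv1 F282747))
theorem F304358 : act 1 n123932 = n181645 := (sb E57143 F282749)
theorem F304359 : act 4 n123932 = n181515 := (sb E57143 (iv4 F282610))
theorem F304360 : act 0 n123922 = n181644 := (sb E57144 (iv1 F282748))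
theorem F304361 : act 1 n123922 = n181643 := (sb E57144 F282743)
theorem F304362 : act 3 n123922 = n83897 := (sb E57144 F268222)
theorem E60365 : n123922 = n62743 := ((((iv4 F97877)).symm.trans (iv4 (sb E57144 (tr (iv4 F281976) E59434))))).symm
theorem E60366 : n170708 = n62743 := (E57144).trans E60365
theorem E60367 : n181645 = n133678 := (((D133678).symm.trans (sb E60366 (iv7 F282746)))).symm
theorem F304363 : act 0 n123950 = n125126 := (sb E57146 F268231)
theorem F304364 : act 1 n123950 = n125129 := (sb E57146 F268232)
theorem F304365 : act 4 n123975 = n83046 := (sb E57148 F268236)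
theorem F304366 : act 6 n123975 = n81840 := (sb E57148 (iv6 D170715))
theorem E60368 : n175568 = n39120 := (((F303327).symm.trans (sb E57149 (iv1 F287352)))).symm
theorem E60369 : n173572 = n153877 := (((F241796).symm.trans (sb E57149 (iv0 F287348)))).symm
theorem E60370 : n177811 = n153896 := ((((iv3 F241854)).symm.trans (sb E57149 (iv3 F277331)))).symm
theorem E60371 : n177812 = n154628 := ((((iv4 F242741)).symm.trans (sb E57149 (iv4 F277335)))).symm
theorem E60372 : n177815 = n154651 := (((D154651).symm.trans (sb E57149 D177815))).symm
theorem E60373 : n177908 = n39104 := ((F303328).symm.trans (sb E57149 (iv6 D84665)))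
theorem E60374 : n177816 = n153878 := ((((iv7 F241801)).symm.trans (sb E57149 D177816))).symm
theorem E60378 : n33604 = n19228 := (((D19228).symm.trans (sb E57151 (iv6 D72876)))).symm
theorem F304367 : act 4 n21203 = n33584 := (sb E57152 F109300)
theorem E60379 : n44578 = n33582 := ((D44578).symm.trans (sb E57152 (iv6 D72815)))
theorem E60380 : n87389 = n33595 := (((F109822).symm.trans (sb E57153 D87389))).symm
theorem E60381 : n87390 = n33712 := (((F52971).symm.trans (sb E57153 D87390))).symm
theorem E60382 : n87391 = n33735 := (((D33735).symm.trans (sb E57153 D87391))).symm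
theorem F304368 : act 6 n16293 = n19181 := (sb E57153 (iv6 D40615))
theorem E60383 : n87392 = n33577 := ((((iv7 F109986)).symm.trans (sb E57153 D87392))).symm
theorem F304369 : act 4 n23316 = n33742 := (sb E57154 F109946)
theorem E60384 : n153887 = n48184 := (((D48184).symm.trans (sb E57154 (iv6 F241827)))).symm
theorem F304370 : act 2 n73321 = n57280 := (sb E57155 F152441)
theorem F304371 : act 3 n73321 = n46276 := (sb E57155 (iv3 D98880))
theorem E60385 : n150206 = n117379 := (((iv5 F236389)).symm.trans (sb E57155 (iv5 F183811)))
theorem F304372 : act 6 n73319 = n46276 := (sb E57156 (iv6 D98881))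
theorem E60386 : n154656 = n46852 := ((D154656).symm.trans (sb E57159 F152447))
theorem E60387 : n177810 = n153880 := (((D153880).symm.trans (sb E57160 (iv6 F277326)))).symm
theorem E60388 : n86923 = n33605 := (((iv1 F133384)).symm.trans (sb E57161 (iv1 F92167)))
theorem E60389 : n86920 = n33607 := ((F285167).symm.trans (sb E57161 F92163))
theorem E60390 : n124726 = n87559 := (((D87559).symm.trans (sb E57161 (iv5 F199558)))).symm
theorem E60391 : n87560 = n33637 := ((D87560).symm.trans (sb E57161 F92165))
theorem E60392 : n86921 = n27768 := (((iv7 F285173)).symm.trans (sb E57161 (iv7 D58296)))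
theorem F304373 : act 4 n149162 = n87557 := (sb E57162 (iv4 D183422))
theorem F304374 : act 6 n72965 = n87557 := (sb E57163 (iv6 D183424))
theorem F304375 : act 0 n58290 = n41583 := (sb E57164 (iv1 D89031))
theorem F304376 : act 7 n58290 = n87557 := (sb E57164 F285177)
theorem E60394 : n153906 = n101468 := (((iv4 F241885)).symm.trans (sb E57165 (iv4 F285159)))
theorem F304377 : act 2 n153811 = n124701 := (sb E57166 F268329)
theorem F304378 : act 4 n153811 = n123208 := (sb E57166 F268331)
theorem F304379 : act 6 n153811 = n81863 := (sb E57166 (iv6 D170750))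
theorem F304380 : act 0 n57500 = n122308 := (sb E57167 (iv1 F195546))
theorem E60396 : n177970 = n123446 := (((D123446).symm.trans (sb E57167 (iv6 F277526)))).symm
theorem F304381 : act 1 n54399 = n27495 := (sb E57168 (iv0 D57482))
theorem F304382 : act 1 n57483 = n106071 := (sb E57169 (iv0 F163018))
theorem F304383 : act 2 n57483 = n106074 := (sb E57169 F163043)
theorem E60401 : n123404 = n33729 := ((D123404).symm.trans (sb E57169 F110024))
theorem E60402 : n128442 = n123405 := (((D123405).symm.trans (sb E57169 D128442))).symm
theorem F304384 : act 7 n57483 = n32484 := (sb E57169 (iv7 F232353))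
theorem F304385 : act 0 n57477 = n32484 := (sb E57170 F232416)
theorem F304386 : act 1 n57477 = n106074 := (sb E57170 F163033)
theorem F304387 : act 4 n57477 = n28687 := (sb E57170 (iv4 D60405))
theorem F304388 : act 7 n57477 = n106071 := (sb E57170 (iv7 F163017))
theorem E60405 : n128445 = n123408 := (((D123408).symm.trans (sb E57171 D128445))).symm
theorem F304389 : act 7 n57484 = n106076 := (sb E57171 (iv7 F163048))
theorem E60413 : n180084 = n123422 := (((D123422).symm.trans (sb E57173 D180084))).symm
theorem F304392 : act 0 n167445 = n120322 := (sb E57175 (iv1 F263723))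
theorem F304393 : act 3 n46740 = n57384 := (sb E57176 (iv3 D123287))
theorem F304395 : act 1 n171030 = n123274 := (sb E57178 F276924)
theorem F304398 : act 5 n171072 = n84559 := (sb E57180 (iv5 D177495))
theorem F304399 : act 7 n171072 = n177540 := (sb E57180 F276977)
theorem F304400 : act 0 n171034 = n123274 := (sb E57182 F276925)
theorem F304402 : act 2 n171073 = n177540 := (sb E57184 F276976)
theorem F304403 : act 5 n171073 = n84560 := (sb E57184 (iv5 D177497))
theorem F304405 : act 4 n57773 = n34765 := (sb E57186 (iv4 D76089))
theorem E60418 : n159158 = n124014 := (((D124014).symm.trans (sb E57186 D159158))).symm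
theorem F304406 : act 7 n57773 = n120632 := (sb E57186 (iv7 F192259))
theorem F304407 : act 7 n85905 = n57856 := (sb E57187 F197384)
theorem F304409 : act 1 n33543 = n19081 := (sb E57191 (iv0 D40377))
theorem E60419 : n86962 = n72705 := (((D72705).symm.trans (sb E57191 D86962))).symm
theorem E60421 : n86964 = n72706 := (((D72706).symm.trans (sb E57191 D86964))).symm
theorem E60422 : n86965 = n72707 := (((D72707).symm.trans (sb E57191 D86965))).symm
theorem F304410 : act 0 n33306 = n19081 := (sb E57192 (iv1 D40378))
theorem E60425 : n86969 = n72150 := (((D72150).symm.trans (sb E57192 D86969))).symm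
theorem E60426 : n86970 = n72151 := (((D72151).symm.trans (sb E57192 D86970))).symm
theorem E60427 : n170670 = n86972 := (((D86972).symm.trans (sb E57194 (iv0 F268151)))).symm
theorem F304411 : act 6 n47134 = n55450 := (sb E57202 (iv6 D120447))
theorem E60431 : n100940 = n78244 := ((D100940).symm.trans (sb E57203 F241002))
theorem E60432 : n100942 = n73184 := ((D100942).symm.trans (sb E57203 (iv6 F241003)))
theorem E60433 : n101212 = n33674 := ((D101212).symm.trans (sb E57204 (iv1 D73103)))
theorem E60434 : n123663 = n100957 := ((((iv0 F184733)).symm.trans (sb E57204 F198080))).symm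
theorem E60436 : n123661 = n101215 := (((D101215).symm.trans (sb E57204 (iv7 F198081)))).symm
theorem E60437 : n104124 = n78242 := ((((iv1 F119425)).symm.trans (sb E57206 (iv1 F159612)))).symm
theorem F304412 : act 4 n70521 = n41109 := (sb E57206 F232743)
theorem E60440 : n127661 = n95892 := (((iv6 F205230)).symm.trans (sb E57206 (iv6 F301296)))
theorem E60441 : n184662 = n73019 := ((D184662).symm.trans (sb E57207 (iv1 F242212)))
theorem E60442 : n184663 = n73000 := ((D184663).symm.trans (sb E57207 (iv0 D154138)))
theorem F304413 : act 0 n88055 = n55446 := (sb E57208 (iv1 D120430))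
theorem F304414 : act 1 n88055 = n55452 := (sb E57208 F191868)
theorem F304415 : act 2 n88055 = n55450 := (sb E57208 F233804)
theorem F304416 : act 7 n88055 = n55449 := (sb E57208 F233805)
theorem F304417 : act 4 n70522 = n41110 := (sb E57209 F232746)
theorem E60444 : n181272 = n149947 := (((D149947).symm.trans (sb E57209 D181272))).symm
theorem E60445 : n183832 = n154442 := ((F286649).symm.trans (sb E57211 (iv1 F242493)))
theorem E60446 : n88145 = n72776 := (((iv5 F135115)).symm.trans (sb E57211 F241554))
theorem E60447 : n184674 = n73189 := ((D184674).symm.trans (sb E57211 F241558))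
theorem F304418 : act 1 n57648 = n41111 := (sb E57212 (iv0 D88061))
theorem E60448 : n123652 = n99447 := (((iv3 F198055)).symm.trans (sb E57212 (iv3 F184731)))
theorem F304419 : act 0 n73105 = n41111 := (sb E57213 (iv1 D88062))
theorem E60453 : n184299 = n154293 := ((((iv4 F242395)).symm.trans (sb E57213 (iv4 F286244)))).symm
theorem E60454 : n101267 = n33675 := (((F109606).symm.trans (sb E57213 (iv5 F156030)))).symm
theorem F304420 : act 3 n73102 = n81984 := (sb E57214 F135056)
theorem E60456 : n184683 = n154132 := (((F242239).symm.trans (sb E57214 (iv4 F286683)))).symm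
theorem F304421 : act 5 n73102 = n41112 := (sb E57214 F135057)
theorem E60457 : n184684 = n154286 := (((D154286).symm.trans (sb E57214 D184684))).symm
theorem F304422 : act 7 n73102 = n41111 := (sb E57214 (iv7 D88064))
theorem F304423 : act 3 n118937 = n56753 := (sb E57217 F195894)
theorem E60458 : n122446 = n88178 := (E57218).trans E57605
theorem E60459 : n184968 = n56754 := (((iv3 F287380)).symm.trans (sb E60458 F195895))
theorem E60460 : n184973 = n54738 := ((D184973).symm.trans (sb E60458 (tr F260662 E59348)))
theorem F304424 : act 7 n122449 = n81802 := (sb E57219 F195963)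
theorem F304425 : act 0 n122432 = n57009 := (sb E57222 (iv1 D122744))
theorem F304426 : act 2 n122432 = n170658 := (sb E57222 (iv2 F268120))
theorem F304427 : act 4 n122432 = n84555 := (sb E57222 F196606)
theorem F304428 : act 7 n122432 = n170671 := (sb E57222 (iv7 F268153))
theorem F304429 : act 1 n122433 = n57009 := (sb E57224 (iv0 D122743))
theorem F304430 : act 2 n122433 = n170671 := (sb E57224 (iv2 F268152))
theorem F304431 : act 7 n122433 = n170658 := (sb E57224 (iv7 F268121))
theorem F304432 : act 3 n167436 = n172556 := (sb E57225 (iv3 F270738))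
theorem F304433 : act 7 n39721 = n57862 := (sb E57230 (iv7 D124162))
theorem F304434 : act 0 n123177 = n80350 := (sb E57231 (iv1 D167441))
theorem F304435 : act 1 n123177 = n85882 := (sb E57231 F263577)
theorem F304436 : act 7 n123177 = n85838 := (sb E57231 F263578)
theorem F304437 : act 1 n167442 = n123982 := (sb E57232 F263712)
theorem F304438 : act 7 n123272 = n85881 := (sb E57234 F263597)
theorem F304439 : act 6 n124160 = n57977 := (sb E57235 (iv6 D124363))
theorem F304440 : act 7 n124160 = n85879 := (sb E57235 (iv7 F198897))
theorem F304441 : act 4 n123494 = n86060 := (sb E57238 F280484)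
theorem F304443 : act 5 n123497 = n86082 := (sb E57240 F280486)
theorem F304444 : act 1 n57471 = n33733 := (sb E57243 (iv0 D73326))
theorem E60461 : n154648 = n123379 := (((D123379).symm.trans (sb E57243 D154648))).symm
theorem E60465 : n159144 = n123382 := (((D123382).symm.trans (sb E57245 (iv5 F250577)))).symm
theorem F304445 : act 0 n57475 = n32489 := (sb E57247 (iv1 F106341))
theorem F304446 : act 1 n57475 = n32464 := (sb E57247 (iv0 D69907))
theorem F304447 : act 2 n57475 = n32486 := (sb E57247 F187844)
theorem E60469 : n149046 = n33595 := (((F90648).symm.trans (sb E57247 D149046))).symm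
theorem E60470 : n149047 = n123385 := (((D123385).symm.trans (sb E57247 D149047))).symm
theorem F304448 : act 7 n57475 = n32487 := (sb E57247 F187845)
theorem F304449 : act 1 n58359 = n85895 := (sb E57250 (iv0 D179843))
theorem F304450 : act 0 n98886 = n85895 := (sb E57251 (iv1 D179844))
theorem F304451 : act 2 n98888 = n85895 := (sb E57252 (iv2 D179845))
theorem E60471 : n150063 = n84374 := ((((iv4 F129491)).symm.trans (sb E57253 D150063))).symm
theorem E60472 : n122841 = n87361 := ((D122841).symm.trans (sb E57253 (iv6 F134120)))
theorem E60477 : n150146 = n122850 := (((D122850).symm.trans (sb E57255 D150146))).symm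
theorem E60478 : n122851 = n104240 := ((D122851).symm.trans (sb E57255 (iv0 F289966)))
theorem F304452 : act 5 n57114 = n32772 := (sb E57255 (iv5 D70665))
theorem E60479 : n150149 = n122853 := (((D122853).symm.trans (sb E57255 D150149))).symm
theorem F304453 : act 0 n57119 = n102471 := (sb E57256 F289842)
theorem E60480 : n122865 = n47565 := ((D122865).symm.trans (sb E57256 F289843))
theorem E60481 : n171201 = n122866 := (((D122866).symm.trans (sb E57256 D171201))).symm
theorem E60482 : n171202 = n122867 := (((D122867).symm.trans (sb E57256 D171202))).symm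
theorem E60483 : n122868 = n47564 := ((D122868).symm.trans (sb E57256 (iv5 F289850)))
theorem E60484 : n171204 = n122869 := (((D122869).symm.trans (sb E57256 D171204))).symm
theorem E60485 : n122870 = n102440 := ((D122870).symm.trans (sb E57256 F289844))
theorem F304454 : act 0 n47536 = n27383 := (sb E57257 (iv1 D57120))
theorem F304455 : act 0 n57122 = n102440 := (sb E57258 F289790)
theorem F304456 : act 1 n57122 = n47565 := (sb E57258 (iv0 F289834))
theorem F304457 : act 2 n57122 = n102471 := (sb E57258 (iv2 F289825))
theorem F304458 : act 5 n57122 = n37596 := (sb E57258 F126461)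
theorem E60490 : n149130 = n124140 := (((D124140).symm.trans (sb E57259 (iv3 F234510)))).symm
theorem E60491 : n124706 = n124141 := (((D124141).symm.trans (sb E57259 (iv4 F199514)))).symm
theorem E60492 : n149133 = n124142 := (((D124142).symm.trans (sb E57259 D149133))).symm
theorem F304459 : act 6 n57854 = n32487 := (sb E57259 (iv6 D69985))
theorem F304460 : act 4 n57855 = n58556 := (sb E57260 F201064)
theorem E60493 : n179735 = n124145 := (((D124145).symm.trans (sb E57260 (iv6 F279959)))).symm
theorem E60494 : n124150 = n118090 := ((D124150).symm.trans (sb E57261 F237240))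
theorem E60495 : n179041 = n124151 := (((D124151).symm.trans (sb E57261 (iv0 F278976)))).symm
theorem F304461 : act 4 n57857 = n39766 := (sb E57261 F131717)
theorem F304462 : act 4 n123989 = n85897 := (sb E57262 F280008)
theorem F304463 : act 5 n123989 = n85868 := (sb E57262 (iv5 D179779))
theorem F304464 : act 4 n123145 = n167893 := (sb E57263 F280138)
theorem F304466 : act 0 n121430 = n56127 := (sb E57268 (iv1 F193873))
theorem F304467 : act 5 n121430 = n80229 := (sb E57268 F193872)
theorem F304468 : act 1 n121431 = n56127 := (sb E57269 F193874)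
theorem F304470 : act 0 n124045 = n177760 := (sb E57271 F277578)
theorem F304471 : act 2 n124045 = n177924 := (sb E57271 F277576)
theorem F304472 : act 7 n124045 = n177925 := (sb E57271 F277577)
theorem F304473 : act 1 n124048 = n177760 := (sb E57272 F277583)
theorem F304474 : act 2 n124048 = n177925 := (sb E57272 F277580)
theorem F304475 : act 7 n124048 = n177924 := (sb E57272 F277581)
theorem E60496 : n131159 = n124026 := (((iv0 F247893)).symm.trans (iv0 (sb E57273 (tr (iv1 F277557) E59183))))
theorem F304476 : act 1 n124027 = n157409 := (sb E57274 (tr F277560 E59183))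
theorem F304477 : act 4 n124027 = n181295 := (sb E57274 (iv4 F282373))
theorem F304478 : act 0 n124028 = n181151 := (sb E57275 (iv1 F282162))
theorem F304479 : act 1 n124028 = n181150 := (sb E57275 F282161)
theorem F304480 : act 7 n124028 = n157409 := (sb E57275 (tr F277559 E59183))
theorem F304481 : act 7 n124029 = n181152 := (sb E57276 (iv7 F282164))
theorem F304482 : act 0 n124033 = n177766 := (sb E57277 (iv1 F277565))
theorem F304483 : act 1 n124033 = n177763 := (sb E57277 F277564)
theorem F304484 : act 2 n124033 = n177962 := (sb E57277 F277562)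
theorem F304485 : act 7 n124033 = n177963 := (sb E57277 F277563)
theorem F304486 : act 0 n124217 = n177787 := (sb E57280 F277595)
theorem F304487 : act 2 n124217 = n178101 := (sb E57280 F277644)
theorem F304488 : act 7 n124217 = n178100 := (sb E57280 F277640)
theorem E60499 : n150162 = n122834 := (((D122834).symm.trans (sb E57283 D150162))).symm
theorem E60501 : n150169 = n33441 := (((D33441).symm.trans (sb E57284 D150169))).symm
theorem E60503 : n150173 = n122837 := (((D122837).symm.trans (sb E57285 D150173))).symm
theorem E60504 : n122839 = n85856 := ((D122839).symm.trans (sb E57286 (iv5 F233143)))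
theorem E60507 : n87341 = n33532 := (((D33532).symm.trans (sb E57288 (iv1 F134765)))).symm
theorem E60508 : n87340 = n33533 := (((D33533).symm.trans (sb E57288 F134766))).symm
theorem E60509 : n184027 = n33534 := (((D33534).symm.trans (sb E57288 (iv5 F285968)))).symm
theorem F304489 : act 0 n72649 = n46262 := (sb E57289 (iv1 D98855))
theorem E60510 : n154805 = n122866 := (((E60481).symm.trans ((F290079).symm.trans (sb E57290 F252860)))).symm
theorem E60511 : n154807 = n47605 := ((((iv0 F136668)).symm.trans (sb E57290 (iv0 F252859)))).symm
theorem F304490 : act 3 n89023 = n153336 := (sb E57290 F252857)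
theorem F304491 : act 4 n89023 = n76752 := (sb E57290 F252858)
theorem F304492 : act 6 n89023 = n76751 := (sb E57290 (iv6 D160195))
theorem F304493 : act 7 n89023 = n154933 := (sb E57290 (iv7 F252861))
theorem F304494 : act 0 n154077 = n76872 := (sb E57291 (iv1 D160365))
theorem F304495 : act 3 n154077 = n153181 := (sb E57291 (iv3 F253300))
theorem E60512 : n151773 = n72951 := ((((iv4 D154077)).symm.trans (sb E57291 (iv4 F253301)))).symm
theorem F304497 : act 1 n160368 = n118200 := (sb E57293 F264642)
theorem F304498 : act 4 n160368 = n80610 := (sb E57293 (iv4 D167934))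
theorem F304499 : act 5 n160368 = n149094 := (sb E57293 F264641)
theorem F304500 : act 7 n160368 = n120631 := (sb E57293 F264640)
theorem F304501 : act 0 n124388 = n76843 := (sb E57294 (iv1 D160334))
theorem F304502 : act 1 n76659 = n46004 := (sb E57295 (iv0 D98327))
theorem E60513 : n186529 = n89091 := ((((iv4 F136804)).symm.trans (sb E57295 (iv4 F289437)))).symm
theorem E60514 : n175576 = n38596 := (((F114990).symm.trans (sb E57295 (iv5 F274914)))).symm
theorem F304503 : act 0 n56989 = n46004 := (sb E57296 (iv1 D98328))
theorem E60515 : n186530 = n89084 := ((((iv4 F136798)).symm.trans (sb E57296 (iv4 F289443)))).symm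
theorem E60516 : n173555 = n27453 := (((F90069).symm.trans (sb E57296 F274510))).symm
theorem F304504 : act 4 n44590 = n46004 := (sb E57297 (iv4 D98329))
theorem E60519 : n95449 = n46007 := ((D95449).symm.trans (sb E57297 F151737))
theorem F304505 : act 1 n98976 = n83505 := (sb E57298 (iv0 D174786))
theorem E60520 : n178437 = n174479 := ((((iv4 F275031)).symm.trans (sb E57298 (iv4 F278043)))).symm
theorem F304506 : act 0 n46731 = n83505 := (sb E57299 (iv1 D174787))
theorem E60521 : n158160 = n100092 := ((((iv3 F154028)).symm.trans (sb E57299 F273609))).symm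
theorem F304507 : act 0 n174788 = n88956 := (sb E57300 F286910)
theorem F304508 : act 1 n174788 = n88951 := (sb E57300 F286911)
theorem F304509 : act 2 n174788 = n85867 := (sb E57300 (iv2 D179775))
theorem F304510 : act 7 n174788 = n98949 := (sb E57300 (iv7 F287074))
theorem E60522 : n83830 = n57345 := ((((iv1 F116495)).symm.trans (sb E57301 (iv1 D175575)))).symm
theorem E60523 : n98545 = n35423 := ((((iv0 D77602)).symm.trans (sb E57301 F274905))).symm
theorem E60524 : n98548 = n57344 := ((((iv2 F116558)).symm.trans (sb E57301 (iv2 F274909)))).symm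
theorem E60525 : n172862 = n47216 := (((F116494).symm.trans (sb E57301 F274906))).symm
theorem E60526 : n161569 = n98532 := ((D161569).symm.trans (sb E57301 (iv6 F274907)))
theorem E60527 : n89052 = n57343 := ((((iv7 F116561)).symm.trans (sb E57301 F274908))).symm
theorem E60528 : n98539 = n72845 := (((iv3 F151930)).symm.trans (sb E57302 F187451))
theorem E60529 : n119127 = n98542 := ((((iv4 F151933)).symm.trans (sb E57302 (iv4 F187449)))).symm
theorem F304511 : act 5 n46073 = n95326 := (sb E57302 (iv5 F146965))
theorem F304512 : act 0 n124105 = n85871 := (sb E57303 F200997)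
theorem F304513 : act 2 n124105 = n58509 := (sb E57303 F200994)
theorem F304514 : act 5 n124105 = n85906 := (sb E57303 F200995)
theorem F304515 : act 7 n124105 = n85836 := (sb E57303 F200996)
theorem F304517 : act 0 n120479 = n125112 := (sb E57306 F268243)
theorem F304518 : act 1 n120479 = n124344 := (sb E57306 F268244)
theorem F304519 : act 2 n120479 = n177831 := (sb E57306 F277357)
theorem F304520 : act 7 n120479 = n177832 := (sb E57306 (iv7 F277360))
theorem F304521 : act 5 n76676 = n70618 := (sb E57308 (iv5 D150082))
theorem E60531 : n172710 = n154960 := ((((iv6 F243667)).symm.trans (sb E57308 (iv6 F270953)))).symm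
theorem F304522 : act 5 n123101 = n86947 := (sb E57309 (iv5 D182044))
theorem E60532 : n73040 = n41720 := (((D41720).symm.trans (sb E57310 (iv1 F109564)))).symm
theorem E60533 : n45365 = n41721 := (((D41721).symm.trans (sb E57310 (iv0 F90782)))).symm
theorem F304523 : act 3 n19633 = n16278 := (sb E57310 (iv3 D33676))
theorem E60534 : n73106 = n41722 := (((D41722).symm.trans (sb E57310 D73106))).symm
theorem E60540 : n39550 = n13605 := (((D13605).symm.trans (sb E57311 (iv6 D85603)))).symm
theorem E60544 : n60136 = n41700 := ((D60136).symm.trans (sb E57314 F136947))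
theorem F304524 : act 6 n19627 = n16278 := (sb E57315 (iv6 D33677))
theorem E60547 : n73111 = n41701 := (((D41701).symm.trans (sb E57315 D73111))).symm
theorem F304525 : act 0 n120427 = n100894 := (sb E57316 (iv1 F283238))
theorem F304526 : act 1 n120427 = n100893 := (sb E57316 F283239)
theorem F304527 : act 2 n120427 = n100896 := (sb E57316 F283235)
theorem F304528 : act 7 n120427 = n86899 := (sb E57316 (iv7 D181940))
theorem F304529 : act 1 n120428 = n86971 := (sb E57317 F283255)
theorem F304530 : act 7 n120428 = n86906 := (sb E57317 (iv7 D181963))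
theorem F304531 : act 5 n120429 = n88086 := (sb E57320 (iv5 D184727))
theorem F304532 : act 0 n57641 = n41713 := (sb E57332 (iv1 D89299))
theorem E60554 : n184808 = n27538 := (((D27538).symm.trans (sb E57333 (iv4 F287270)))).symm
theorem F304533 : act 3 n89318 = n55449 := (sb E57335 (iv3 D120440))
theorem F304534 : act 4 n89318 = n83506 := (sb E57335 F191980)
theorem F304535 : act 5 n98098 = n55449 := (sb E57336 (iv5 D120441))
theorem F304536 : act 3 n120442 = n100951 := (sb E57337 (iv3 F286654))
theorem E60557 : n88146 = n72777 := (((F191887).symm.trans (sb E57337 (iv5 F286655)))).symm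
theorem F304537 : act 5 n98099 = n55450 := (sb E57338 (iv5 D120446))
theorem F304538 : act 1 n88084 = n55451 := (sb E57339 (iv0 D120448))
theorem F304539 : act 0 n88079 = n55451 := (sb E57340 (iv1 D120449))
theorem F304540 : act 0 n85870 = n124105 := (sb E57342 (iv1 F198512))
theorem F304541 : act 4 n85870 = n55472 := (sb E57342 F191950)
theorem F304542 : act 5 n85870 = n57307 := (sb E57342 F191951)
theorem F304543 : act 7 n85870 = n55471 := (sb E57342 (iv7 D120505))
theorem F304544 : act 6 n177350 = n84500 := (sb E57350 (iv6 D177359))
theorem F304546 : act 1 n117968 = n180829 := (sb E57353 F285121)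
theorem E60558 : n124720 = n87549 := (((iv4 F199549)).symm.trans (sb E57353 F285118))
theorem F304547 : act 7 n117968 = n87545 := (sb E57353 (iv7 D183397))
theorem E60559 : n85813 = n62755 := (((F215083).symm.trans (sb E57354 (iv3 D179674)))).symm
theorem F304548 : act 4 n133669 = n98935 := (sb E57354 F301883)
theorem E60560 : n178015 = n33692 := (((F77288).symm.trans (sb E57356 (iv3 F277569)))).symm
theorem E60561 : n73463 = n72365 := ((((iv0 F110596)).symm.trans (sb E57360 (iv0 D154890)))).symm
theorem E60562 : n154866 = n106033 := (((D106033).symm.trans (sb E57361 F260762))).symm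
theorem F304549 : act 4 n39856 = n79779 := (sb E57404 F260798)
theorem F304550 : act 3 n76737 = n87545 := (sb E57408 F282486)
theorem F304551 : act 6 n76737 = n86600 := (sb E57408 (iv6 D181385))
theorem E60570 : n35282 = n23870 := (((D23870).symm.trans (sb E57412 F116089))).symm
theorem E60572 : n71524 = n70489 := (((iv4 F108048)).symm.trans (sb E57425 F235793))
theorem F304552 : act 4 n33087 = n71501 := (sb E57426 F238598)
theorem E60578 : n39551 = n29684 := (((D29684).symm.trans (sb E57431 (iv3 D85604)))).symm
theorem E60581 : n150291 = n6612 := ((((iv1 F10964)).symm.trans (sb E57433 F250214))).symm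
theorem E60582 : n75659 = n6561 := (((F10962).symm.trans (sb E57433 (iv4 D158608)))).symm
theorem E60583 : n35666 = n16520 := ((((iv1 F26123)).symm.trans (sb E57437 F107633))).symm
theorem E60584 : n34747 = n11427 := (((F18783).symm.trans (sb E57437 F109861))).symm
theorem E60585 : n120648 = n24378 := ((((iv3 F38219)).symm.trans (sb E57437 (iv3 F192300)))).symm
theorem E60586 : n32925 = n5350 := ((((iv5 D11493)).symm.trans (sb E57437 (iv5 D71111)))).symm
theorem E60587 : n149456 = n24380 := (((D24380).symm.trans (sb E57437 (iv6 F235045)))).symm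
theorem F304553 : act 3 n72349 = n101600 := (sb E57439 (iv3 F156525))
theorem F304554 : act 5 n72349 = n83592 := (sb E57439 F132382)
theorem F304555 : act 6 n72349 = n45188 := (sb E57439 (iv6 F297885))
theorem F304556 : act 2 n96752 = n61810 := (sb E57440 F205849)
theorem F304557 : act 4 n96752 = n72396 := (sb E57440 F205850)
theorem E60589 : n152427 = n145811 := (((iv5 F239611)).symm.trans (sb E57440 (iv5 F228963)))
theorem F304558 : act 6 n96752 = n60094 := (sb E57440 (iv6 D127923))
theorem F304559 : act 1 n32726 = n34231 := (sb E57441 (iv0 D74701))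
theorem F304560 : act 4 n32726 = n34334 := (sb E57441 F112120)
theorem E60592 : n69455 = n15634 := ((((iv6 D32726)).symm.trans (sb E57441 (iv6 F112125)))).symm
theorem F304561 : act 7 n32726 = n62831 := (sb E57441 (iv7 F112462))
theorem E60593 : n157490 = n48997 := ((((iv1 F301201)).symm.trans (sb E57442 (iv1 F248174)))).symm
theorem E60595 : n108398 = n12522 := (((F38234).symm.trans (sb E57444 F184443))).symm
theorem E60596 : n157522 = n12524 := (((F38235).symm.trans (sb E57444 F248233))).symm
theorem E60597 : n156917 = n11498 := ((((iv5 D24384)).symm.trans (sb E57444 F246951))).symm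
theorem E60598 : n68950 = n54252 := ((((iv5 D117767)).symm.trans (sb E57445 (iv5 D147047)))).symm
theorem E60599 : n37299 = n33721 := ((D37299).symm.trans (sb E57446 (iv5 D73294)))
theorem E60600 : n37300 = n33725 := ((D37300).symm.trans (sb E57446 F109793))
theorem E60601 : n153271 = n37269 := (((F71220).symm.trans (sb E57447 D153271))).symm
theorem F304562 : act 4 n45190 = n33419 := (sb E57447 (iv4 D72398))
theorem E60602 : n146684 = n52946 := ((((iv5 F83666)).symm.trans (sb E57447 (iv5 F230015)))).symm
theorem E60603 : n96716 = n33429 := ((D96716).symm.trans (sb E57447 F108892))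
theorem E60604 : n37229 = n32141 := (((F190801).symm.trans (sb E57448 (iv1 F105116)))).symm
theorem E60605 : n96655 = n32171 := ((((iv0 F190802)).symm.trans (sb E57448 (iv0 F148951)))).symm
theorem F304563 : act 5 n54249 = n37297 := (sb E57448 F105115)
theorem E60606 : n147044 = n117765 := (((D117765).symm.trans (sb E57448 D147044))).symm
theorem F304564 : act 4 n45189 = n62915 := (sb E57449 F190453)
theorem E60607 : n147578 = n96715 := (((D96715).symm.trans (sb E57449 D147578))).symm
theorem F304565 : act 1 n61735 = n55309 := (sb E57450 (iv0 D120200))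
theorem F304566 : act 2 n61735 = n89258 := (sb E57450 (iv2 F301919))
theorem E60608 : n131570 = n84373 := (((iv5 F210819)).symm.trans (sb E57450 F300204))
theorem E60609 : n83690 = n83311 := ((((iv5 F128411)).symm.trans (sb E57451 (iv5 D175252)))).symm
theorem E60610 : n174922 = n62466 := (((D62466).symm.trans (sb E57454 F297986))).symm
theorem E60611 : n131700 = n82640 := ((D131700).symm.trans (sb E57456 F127478))
theorem E60612 : n131701 = n75248 := ((D131701).symm.trans (sb E57456 F127481))
theorem E60613 : n131702 = n38019 := ((D131702).symm.trans (sb E57456 (iv4 D82711)))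
theorem E60614 : n131703 = n82879 := ((D131703).symm.trans (sb E57456 (iv5 F127645)))
theorem E60615 : n131705 = n75317 := ((D131705).symm.trans (sb E57456 F127479))
theorem E60616 : n131706 = n96740 := ((D131706).symm.trans (sb E57457 (iv3 F149195)))
theorem E60617 : n131707 = n38022 := ((D131707).symm.trans (sb E57457 (iv4 D82717)))
theorem E60618 : n131708 = n82880 := ((D131708).symm.trans (sb E57457 (iv5 F127652)))
theorem E60619 : n172762 = n131709 := (((D131709).symm.trans (sb E57457 D172762))).symm
theorem F304568 : act 3 n37971 = n29263 := (sb E57459 F96321)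
theorem F304569 : act 4 n37971 = n29288 := (sb E57459 F96322)
theorem E60622 : n131544 = n82637 := (((D82637).symm.trans (sb E57459 D131544))).symm
theorem E60623 : n82638 = n29261 := ((D82638).symm.trans (sb E57459 (iv6 D61726)))
theorem F304570 : act 4 n46186 = n62876 := (sb E57470 F213775)
theorem E60624 : n98764 = n62451 := ((D98764).symm.trans (sb E57470 (iv6 D133112)))
theorem E60625 : n130485 = n98769 := (((D98769).symm.trans (sb E57471 (iv6 F215657)))).symm
theorem E60626 : n129210 = n98770 := (((D98770).symm.trans (sb E57472 F215664))).symm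
theorem E60627 : n130426 = n70534 := ((D130426).symm.trans (sb E57479 F235882))
theorem F304571 : act 6 n61197 = n70533 := (sb E57479 (iv6 D149962))
theorem E60629 : n80446 = n62472 := ((((iv0 D133154)).symm.trans (sb E57480 F263896))).symm
theorem F304572 : act 3 n133154 = n175048 := (sb E57480 (iv3 F273969))
theorem F304573 : act 6 n133154 = n80081 := (sb E57480 (iv6 D166838))
theorem F304574 : act 0 n130069 = n80083 := (sb E57481 F240667)
theorem F304575 : act 1 n130069 = n98758 := (sb E57481 (iv0 F296791))
theorem F304576 : act 3 n130069 = n72360 := (sb E57481 F240663)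
theorem F304577 : act 4 n130069 = n76727 := (sb E57481 F240665)
theorem E60630 : n72359 = n61073 := ((((iv5 D130069)).symm.trans (sb E57481 (iv5 D153234)))).symm
theorem F304578 : act 7 n130069 = n98771 := (sb E57481 (iv7 F296804))
theorem F304579 : act 4 n77617 = n118621 := (sb E57482 F215694)
theorem F304580 : act 4 n77614 = n62921 := (sb E57483 F215685)
theorem E60632 : n161594 = n130476 := ((D161594).symm.trans (sb E57483 F215687))
theorem F304581 : act 4 n77615 = n62854 := (sb E57484 F213821)
theorem E60633 : n161597 = n130184 := ((D161597).symm.trans (sb E57484 F213822))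
theorem E60634 : n161598 = n62459 := ((D161598).symm.trans (sb E57484 (iv6 D133129)))
theorem E60635 : n161599 = n132897 := ((D161599).symm.trans (sb E57485 F215691))
theorem E60637 : n105920 = n70939 := ((D105920).symm.trans (sb E57486 (iv0 D150517)))
theorem F304582 : act 3 n48971 = n81758 := (sb E57486 (iv3 F267948))
theorem F304583 : act 6 n48969 = n81758 := (sb E57487 (iv6 D170562))
theorem E60638 : n158385 = n77843 := ((D158385).symm.trans (sb E57498 (iv6 F198059)))
theorem E60642 : n77844 = n47279 := (((F271835).symm.trans (sb E57500 (iv1 F255276)))).symm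
theorem E60643 : n175451 = n77491 := ((D175451).symm.trans (sb E57500 (iv0 D161416)))
theorem E60644 : n174748 = n158386 := (((D158386).symm.trans (sb E57501 D174748))).symm
theorem E60645 : n175452 = n47259 := (E59360).trans E60123
theorem E60646 : n175199 = n71786 := (((iv2 F274244)).symm.trans (sb E57502 F186268))
theorem E60647 : n175454 = n69849 := ((D175454).symm.trans (sb E57502 F186270))
theorem E60648 : n73053 = n47230 := (((D47230).symm.trans (sb E57503 D73053))).symm
theorem E60649 : n175458 = n173347 := ((D175458).symm.trans (sb E57504 (iv6 F271800)))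
theorem F304584 : act 3 n83791 = n56127 := (sb E57505 F193920)
theorem F304585 : act 1 n119689 = n77548 := (sb E57506 (iv0 D161513))
theorem F304589 : act 5 n121536 = n176437 := (sb E57508 (iv5 F275743))
theorem F304590 : act 4 n121539 = n180167 := (sb E57509 (iv4 F280522))
theorem F304591 : act 6 n121539 = n161209 := (sb E57509 F255559)
theorem F304593 : act 2 n124025 = n84765 := (sb E57514 F277264)
theorem F304594 : act 2 n124024 = n84766 := (sb E57515 F277266)
theorem E60651 : n124394 = n22697 := (E57516).trans E60332
theorem E60652 : n58001 = n47140 := (((F74397).symm.trans (sb E60651 (iv0 D124394)))).symm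
theorem E60653 : n153842 = n22694 := (E57518).trans E60328
theorem E60654 : n72805 = n47171 := (((D47171).symm.trans (sb E60653 F241707))).symm
theorem E60655 : n170669 = n47173 := (((D47173).symm.trans (sb E60653 (iv6 F268142)))).symm
theorem E60656 : n47174 = n47141 := ((D47174).symm.trans (sb E60653 (tr F241706 E58007)))
theorem F304595 : act 0 n124397 = n75021 := (sb E57519 F242503)
theorem F304596 : act 1 n124397 = n75026 := (sb E57519 F242502)
theorem E60657 : n101224 = n81809 := ((D101224).symm.trans (iv6 (sb E57520 (tr (iv6 D124398) E60652))))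
theorem E60658 : n73164 = n47182 := (((iv1 F112556)).symm.trans (sb E57521 (iv1 F155949)))
theorem E60659 : n153293 = n47179 := (((iv2 F240845)).symm.trans (sb E57521 F286968))
theorem F304597 : act 4 n124384 = n76844 := (sb E57522 F253233)
theorem F304598 : act 7 n124384 = n76843 := (sb E57522 (iv7 D160337))
theorem F304599 : act 5 n160330 = n83503 := (sb E57523 F273605)
theorem F304600 : act 7 n160330 = n83502 := (sb E57523 (iv7 D174784))
theorem E60660 : n149125 = n33582 := ((D149125).symm.trans (sb E57524 (iv1 F109284)))
theorem E60663 : n149128 = n73151 := ((D149128).symm.trans (sb E57524 F110545))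
theorem E60664 : n153876 = n149129 := (((D149129).symm.trans (sb E57524 D153876))).symm
theorem E60669 : n171196 = n57370 := ((D171196).symm.trans (sb E57526 (iv6 D123258)))
theorem F304601 : act 4 n72861 = n84008 := (sb E57529 (iv4 D176105))
theorem F304602 : act 2 n101479 = n57619 := (sb E57541 F198007)
theorem F304603 : act 6 n27528 = n47219 := (sb E57542 (iv6 D101480))
theorem F304604 : act 5 n120383 = n122350 := (sb E57543 F195877)
theorem F304605 : act 7 n120383 = n56736 := (sb E57543 (iv7 D122436))
theorem E60676 : n153403 = n40904 := (((D40904).symm.trans (sb E57545 D153403))).symm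
theorem F304606 : act 2 n40594 = n33535 := (sb E57547 F190110)
theorem F304607 : act 4 n40594 = n33303 := (sb E57547 (iv4 D72137))
theorem E60680 : n152887 = n87342 := (((D87342).symm.trans (sb E57547 D152887))).symm
theorem E60690 : n184020 = n153418 := (((D153418).symm.trans (sb E57551 D184020))).symm
theorem E60693 : n184024 = n153423 := ((((iv1 F240990)).symm.trans (sb E57552 D184024))).symm
theorem E60694 : n184025 = n153422 := (((F240989).symm.trans (sb E57552 D184025))).symm
theorem F304608 : act 3 n72670 = n100413 := (sb E57552 (iv3 F154469))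
theorem E60695 : n184026 = n153679 := ((((iv4 F241551)).symm.trans (sb E57552 D184026))).symm
theorem E60696 : n153680 = n86916 := ((D153680).symm.trans (sb E57552 F134761))
theorem F304609 : act 5 n76678 = n70694 := (sb E57553 (iv5 D150200))
theorem F304610 : act 5 n21268 = n33446 := (sb E57554 (iv5 D72454))
theorem E60700 : n153343 = n44663 := (((D44663).symm.trans (sb E57554 (iv6 F240917)))).symm
theorem E60701 : n73336 = n40889 := (((D40889).symm.trans (sb E57556 (iv5 D154664)))).symm
theorem E60702 : n104138 = n72980 := (((D72980).symm.trans (sb E57558 (iv1 F159623)))).symm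
theorem F304611 : act 1 n33636 = n41009 := (sb E57558 (iv0 D87900))
theorem E60703 : n104135 = n58270 := ((((iv2 F92126)).symm.trans (sb E57558 F285193))).symm
theorem E60704 : n184293 = n72982 := (((D72982).symm.trans (sb E57558 D184293))).symm
theorem E60707 : n104136 = n72983 := (((D72983).symm.trans (sb E57558 F285191))).symm
theorem F304612 : act 6 n123311 = n84787 := (sb E57559 (iv6 D178118))
theorem E60708 : n158149 = n71861 := ((D158149).symm.trans (sb E57563 (iv1 F239442)))
theorem E60709 : n158150 = n71857 := ((D158150).symm.trans (sb E57563 (iv0 D152311)))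
theorem F304613 : act 7 n75323 = n71961 := (sb E57563 F239443)
theorem F304614 : act 5 n161608 = n80178 := (sb E57566 (iv5 D167031))
theorem F304618 : act 2 n161610 = n161317 := (sb E57568 F263047)
theorem F304619 : act 0 n166982 = n80180 := (sb E57569 (iv1 F262946))
theorem F304621 : act 7 n167032 = n161168 := (sb E57570 F263645)
theorem F304626 : act 1 n57776 = n120632 := (sb E57576 F280020)
theorem F304627 : act 5 n57776 = n85871 := (sb E57576 (iv5 D179788))
theorem F304628 : act 0 n70660 = n57856 := (sb E57577 (iv1 D124147))
theorem F304629 : act 0 n123118 = n184488 := (sb E57579 (iv1 F286430))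
theorem F304630 : act 1 n123118 = n184484 := (sb E57579 (iv0 F286420))
theorem F304631 : act 5 n123157 = n84766 := (sb E57580 (iv5 D178082))
theorem E60710 : n128161 = n27448 := (((D27448).symm.trans (sb E57582 (iv6 F206294)))).symm
theorem F304632 : act 2 n48186 = n32715 := (sb E57583 F189928)
theorem E60711 : n104123 = n28629 := ((D104123).symm.trans (sb E57583 (iv5 D60245)))
theorem E60712 : n68108 = n27898 := ((((iv6 F296467)).symm.trans (sb E57584 (iv6 F185663)))).symm
theorem E60713 : n48205 = n30558 := ((((iv3 F48973)).symm.trans (iv3 (sb E57585 (tr F185664 E58693))))).symm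
theorem E60714 : n118159 = n30558 := (E57585).trans E60713
theorem E60715 : n125254 = n14496 := ((((iv5 D30558)).symm.trans (sb E60714 (iv5 F201415)))).symm
theorem E60716 : n78247 = n34117 := ((((iv7 F53539)).symm.trans (sb E60714 F185665))).symm
theorem E60717 : n77269 = n50025 := ((D77269).symm.trans (sb E57586 (iv6 D108322)))
theorem E60719 : n127587 = n10274 := (((F296108).symm.trans (sb E57587 F205040))).symm
theorem E60721 : n50026 = n17122 := (((D17122).symm.trans (sb E57589 (iv6 D108325)))).symm
theorem E60722 : n55482 = n50011 := ((((iv1 F79117)).symm.trans (sb E57590 F87772))).symm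
theorem F304633 : act 6 n24399 = n17121 := (sb E57590 (iv6 D35273))
theorem E60724 : n154276 = n41696 := (((D41696).symm.trans (sb E57592 (iv5 F242410)))).symm
theorem F304634 : act 1 n32864 = n36685 := (sb E57598 (iv0 D80461))
theorem E60728 : n167655 = n33533 := (((F190163).symm.trans (sb E57598 D167655))).symm
theorem E60730 : n167657 = n70957 := (((D70957).symm.trans (sb E57598 D167657))).symm
theorem F304635 : act 0 n72659 = n36685 := (sb E57599 (iv1 D80462))
theorem E60736 : n167663 = n70969 := ((D167663).symm.trans (sb E57600 (iv1 F205961)))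
theorem E60737 : n167664 = n153692 := ((D167664).symm.trans (sb E57600 F241564))
theorem F304636 : act 0 n40317 = n54736 := (sb E57601 (iv1 F301686))
theorem F304637 : act 0 n118937 = n184724 := (sb E57604 F287194)
theorem F304638 : act 6 n118937 = n184976 := (sb E57604 (iv6 F287387))
theorem F304639 : act 6 n88178 = n54736 := (sb E57605 (iv6 D118938))
theorem F304640 : act 1 n152889 = n184724 := (sb E57608 (iv0 F287193))
theorem F304641 : act 1 n152890 = n99882 := (sb E57609 F286514)
theorem E60741 : n131067 = n17888 := (((F296469).symm.trans (sb E57611 (iv1 F210183)))).symm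
theorem E60742 : n61558 = n40100 := (((D40100).symm.trans (sb E57611 (iv0 D131209)))).symm
theorem E60743 : n124790 = n40101 := (((D40101).symm.trans (sb E57611 F210175))).symm
theorem E60744 : n131066 = n40102 := (((D40102).symm.trans (sb E57611 (iv7 F210179)))).symm
theorem F304642 : act 0 n86521 = n71730 := (sb E57612 F199671)
theorem E60745 : n181174 = n58371 := ((D181174).symm.trans (sb E57612 F199669))
theorem E60746 : n181176 = n58320 := ((D181176).symm.trans (sb E57612 (iv5 D124752)))
theorem E60747 : n181177 = n72157 := ((D181177).symm.trans (sb E57612 F199672))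
theorem E60748 : n181178 = n58376 := ((D181178).symm.trans (sb E57612 F199670))
theorem F304643 : act 0 n34377 = n40098 := (sb E57613 (iv1 D86522))
theorem E60753 : n181183 = n124789 := (((D124789).symm.trans (sb E57614 D181183))).symm
theorem F304644 : act 5 n58343 = n40098 := (sb E57614 (iv5 D86523))
theorem E60754 : n181184 = n124738 := ((((iv7 F199612)).symm.trans (sb E57614 D181184))).symm
theorem F304645 : act 0 n86524 = n58376 := (sb E57615 (iv1 F200518))
theorem F304646 : act 1 n86524 = n58371 := (sb E57615 (iv0 D124845))
theorem F304647 : act 2 n86524 = n71730 := (sb E57615 (iv2 F200517))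
theorem E60755 : n104174 = n34117 := (E58735).trans E60716
theorem E60756 : n184550 = n57662 := (((iv1 F286488)).symm.trans (sb E57618 (iv1 D123693)))
theorem E60757 : n88168 = n57689 := ((F155826).symm.trans (sb E57618 F198153))
theorem F304648 : act 2 n88011 = n57687 := (sb E57618 F234059)
theorem F304649 : act 7 n88011 = n57686 := (sb E57618 F234060)
theorem F304650 : act 0 n57684 = n99891 := (sb E57619 (iv1 F153800))
theorem F304651 : act 1 n57684 = n41085 := (sb E57619 (iv0 D88013))
theorem F304652 : act 2 n57684 = n99888 := (sb E57619 (iv2 F156458))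
theorem E60761 : n184563 = n123755 := (((D123755).symm.trans (sb E57619 D184563))).symm
theorem F304653 : act 7 n57684 = n99889 := (sb E57619 F156457)
theorem F304654 : act 0 n57679 = n41085 := (sb E57620 (iv1 D88014))
theorem F304655 : act 1 n57679 = n99891 := (sb E57620 F153798)
theorem F304656 : act 2 n57679 = n99889 := (sb E57620 (iv2 F156456))
theorem E60762 : n123732 = n99503 := (((iv3 F198211)).symm.trans (sb E57620 F155189))
theorem E60763 : n184059 = n123740 := (((D123740).symm.trans (sb E57620 (iv4 F286006)))).symm
theorem F304657 : act 7 n57679 = n99888 := (sb E57620 (iv7 F156460))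
theorem E60767 : n72534 = n4672 := ((((iv3 D10303)).symm.trans (sb E57621 D72534))).symm
theorem F304658 : act 4 n10303 = n16163 := (sb E57621 (iv4 D33469))
theorem E60769 : n21567 = n16178 := ((D21567).symm.trans (sb E57621 F52748))
theorem E60770 : n77273 = n16176 := (((D16176).symm.trans (sb E57622 F116680))).symm
theorem E60773 : n153248 = n48969 := (((F77260).symm.trans (sb E57623 (iv1 F240722)))).symm
theorem F304659 : act 6 n33513 = n71539 := (sb E57624 (iv6 D151766))
theorem E60775 : n71771 = n36692 := (((F117054).symm.trans (sb E57626 (iv1 F209912)))).symm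
theorem E60776 : n72577 = n36697 := ((((iv0 F117077)).symm.trans (sb E57626 F209913))).symm
theorem E60777 : n86376 = n72724 := ((D86376).symm.trans (sb E57626 F209910))
theorem E60778 : n84520 = n61490 := (((iv7 F296533)).symm.trans (sb E57626 (iv7 D131079)))
theorem F304660 : act 1 n37220 = n72347 := (sb E57630 F191065)
theorem E60779 : n81518 = n69171 := ((D81518).symm.trans (sb E57630 F112378))
theorem E60780 : n81520 = n34309 := ((D81520).symm.trans (sb E57630 (iv6 D74871)))
theorem E60784 : n33498 = n17896 := (((D17896).symm.trans (sb E57631 (iv6 D72574)))).symm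
theorem E60785 : n61556 = n40054 := (((F116738).symm.trans (sb E57632 (iv1 F185234)))).symm
theorem E60786 : n61569 = n40057 := (((F116739).symm.trans (sb E57632 F185258))).symm
theorem E60787 : n81522 = n62861 := ((D81522).symm.trans (sb E57632 F109082))
theorem E60789 : n154623 = n77634 := ((((iv2 F116531)).symm.trans (sb E57633 (iv2 F242723)))).symm
theorem F304661 : act 5 n35449 = n33733 := (sb E57633 (iv5 D73328))
theorem E60791 : n154646 = n58151 := ((((iv6 F297746)).symm.trans (sb E57633 (iv6 F242788)))).symm
theorem E60795 : n147508 = n40206 := ((((iv1 F297114)).symm.trans (sb E57635 F231292))).symm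
theorem E60797 : n58152 = n33738 := ((D58152).symm.trans (sb E57635 (iv5 D73344)))
theorem E60799 : n108324 = n8878 := (((D8878).symm.trans (sb E57636 (iv6 F248002)))).symm
theorem E60800 : n108314 = n12977 := ((((iv0 F118072)).symm.trans (sb E57640 (iv0 F239147)))).symm
theorem E60801 : n157415 = n45140 := ((((iv3 F71134)).symm.trans (sb E57641 F247917))).symm
theorem E60802 : n73375 = n45144 := (((D45144).symm.trans (sb E57641 F210185))).symm
theorem E60804 : n131062 = n81441 := ((((iv3 F125276)).symm.trans (sb E57642 (iv3 F209769)))).symm
theorem E60806 : n81462 = n69302 := (((iv5 F125286)).symm.trans (sb E57642 (iv5 F105569)))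
theorem E60807 : n29105 = n18718 := (((F116767).symm.trans (sb E57642 (iv6 D61485)))).symm
theorem E60808 : n159118 = n147882 := (((F231667).symm.trans (sb E57643 (iv1 F301858)))).symm
theorem E60809 : n178903 = n159115 := ((D178903).symm.trans (sb E57643 (iv0 F300269)))
theorem E60810 : n181004 = n178902 := ((((iv4 F278780)).symm.trans (sb E57643 D181004))).symm
theorem F304662 : act 5 n85304 = n40038 := (sb E57643 (iv5 D86446))
theorem E60811 : n154708 = n79712 := (((iv7 F242885)).symm.trans (sb E57643 F132559))
theorem E60812 : n87784 = n48206 := (((F238654).symm.trans (sb E57645 F265223))).symm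
theorem F304663 : act 4 n124838 = n158717 := (sb E57646 F265231)
theorem F304664 : act 4 n40902 = n58371 := (sb E57647 (iv4 D124846))
theorem E60813 : n87789 = n48207 := ((D87789).symm.trans (sb E57647 (tr F200522 E58819)))
theorem F304665 : act 4 n124847 = n87788 := (sb E57649 F265232)
theorem F304666 : act 4 n40903 = n58376 := (sb E57652 (iv4 D124861))
theorem E60814 : n87793 = n72416 := ((D87793).symm.trans (sb E57652 F200541))
theorem E60815 : n184936 = n27774 := ((((iv5 D58318)).symm.trans (sb E57655 (iv5 F287336)))).symm
theorem E60816 : n180903 = n27773 := ((((iv5 D58313)).symm.trans (sb E57656 (iv5 F281647)))).symm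
theorem E60825 : n91374 = n57674 := ((((iv6 F90863)).symm.trans (sb E57661 F287366))).symm
theorem F304667 : act 2 n88006 = n57686 := (sb E57662 F234062)
theorem F304668 : act 7 n88006 = n57687 := (sb E57662 F234063)
theorem F304669 : act 3 n47105 = n57686 := (sb E57663 (iv3 D123760))
theorem E60826 : n149897 = n76567 := (((F132815).symm.trans (sb E57664 F257011))).symm
theorem E60827 : n181316 = n128011 := (((iv5 F282387)).symm.trans (sb E57664 F257013))
theorem F304670 : act 5 n101326 = n72410 := (sb E57665 (iv5 D153287))
theorem F304671 : act 7 n101326 = n75026 := (sb E57665 F240835)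
theorem E60830 : n123688 = n101144 := ((D123688).symm.trans (sb E57666 F156462))
theorem F304672 : act 5 n57661 = n99888 := (sb E57666 F153799)
theorem E60832 : n123691 = n101332 := ((D123691).symm.trans (sb E57666 F156111))
theorem F304673 : act 5 n57660 = n99889 := (sb E57667 F153792)
theorem E60834 : n186446 = n154811 := ((((iv2 F243500)).symm.trans (sb E57668 (iv2 F289253)))).symm
theorem E60835 : n154961 = n41648 := (((iv3 F243668)).symm.trans (sb E57668 F136851))
theorem E60836 : n154965 = n46133 := ((D154965).symm.trans (sb E57668 F136852))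
theorem F304674 : act 6 n73504 = n41647 := (sb E57668 (iv6 D89146))
theorem F304675 : act 0 n85883 = n81802 := (sb E57674 (iv1 D170656))
theorem F304676 : act 7 n123304 = n85914 := (sb E57675 F279937)
theorem F304677 : act 0 n56726 = n33530 := (sb E57676 (iv1 F301775))
theorem F304678 : act 1 n56726 = n46262 := (sb E57676 (iv0 D98854))
theorem F304679 : act 0 n124152 = n118194 := (sb E57677 (iv1 F279983))
theorem F304680 : act 7 n124152 = n85861 := (sb E57677 (iv7 D179758))
theorem F304681 : act 0 n124161 = n122449 := (sb E57678 (iv1 F280050))
theorem F304682 : act 1 n124161 = n122462 := (sb E57678 F280051)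
theorem F304683 : act 7 n124161 = n85883 := (sb E57678 (iv7 D179827))
theorem F304684 : act 7 n39714 = n57857 := (sb E57679 (iv7 D124153))
theorem F304685 : act 0 n122426 = n72651 := (sb E57680 F268186)
theorem F304686 : act 5 n63683 = n36502 := (sb E57683 (iv5 D80151))
theorem E60837 : n122420 = n46017 := (((F274639).symm.trans (sb E57687 F262925))).symm
theorem E60839 : n122419 = n46019 := (((F73834).symm.trans (sb E57688 D122419))).symm
theorem E60840 : n100052 = n27260 := ((D100052).symm.trans (sb E57688 (iv3 D56731)))
theorem E60841 : n122421 = n100054 := (((D100054).symm.trans (sb E57688 D122421))).symm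
theorem E60842 : n122422 = n100055 := (((D100055).symm.trans (sb E57688 D122422))).symm
theorem E60843 : n80349 = n46016 := ((((iv7 F274642)).symm.trans (sb E57688 (iv7 F123436)))).symm
theorem E60844 : n158170 = n80365 := (((iv7 F273736)).symm.trans (sb E57689 F262931))
theorem F304687 : act 0 n36616 = n34588 := (sb E57691 (iv1 F112949))
theorem F304688 : act 1 n36616 = n34487 := (sb E57691 (iv0 D75328))
theorem F304689 : act 2 n36616 = n34585 := (sb E57691 (iv2 F273732))
theorem E60845 : n158168 = n17654 := ((((iv3 D36616)).symm.trans (sb E57691 D158168))).symm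
theorem E60846 : n83865 = n80366 := (((D80366).symm.trans (sb E57691 F128874))).symm
theorem F304690 : act 7 n36616 = n34586 := (sb E57691 (iv7 F273737))
theorem E60848 : n158529 = n63683 := (((iv3 F249709)).symm.trans (sb E57694 (iv3 D135471)))
theorem E60849 : n158532 = n132287 := ((D158532).symm.trans (sb E57694 F217830))
theorem E60850 : n134717 = n80365 := (((E60844).symm.trans (((iv7 F273736)).symm.trans (sb E57694 F217831)))).symm
theorem E60851 : n80369 = n29911 := ((((iv7 F49074)).symm.trans (sb E57695 F262936))).symm
theorem F304691 : act 2 n36617 = n63683 := (sb E57697 (iv2 F99011))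
theorem E60852 : n80370 = n60739 := ((D80370).symm.trans (sb E57697 F98517))
theorem F304692 : act 7 n36617 = n63683 := (sb E57697 (iv7 F99013))
theorem E60853 : n158530 = n80152 := (((iv3 F249710)).symm.trans (sb E57698 F262884))
theorem F304693 : act 5 n123447 = n100055 := (sb E57701 (tr F280455 E60842))
theorem F304694 : act 5 n123449 = n122424 := (sb E57702 F280458)
theorem F304695 : act 0 n73316 = n33767 := (sb E57707 (iv1 D73417))
theorem F304696 : act 3 n73316 = n83144 := (sb E57707 (iv3 F128180))
theorem F304697 : act 4 n73316 = n57280 := (sb E57707 (iv4 F110118))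
theorem F304698 : act 0 n86478 = n72347 := (sb E57708 (iv1 F231381))
theorem E60855 : n181073 = n157427 := ((D181073).symm.trans (sb E57708 (iv6 F247954)))
theorem F304699 : act 6 n72326 = n83144 := (sb E57709 (iv6 D173860))
theorem F304700 : act 6 n98137 = n154156 := (sb E57710 (iv6 F242252))
theorem F304701 : act 3 n123087 = n60180 := (sb E57713 (iv3 D128062))
theorem F304702 : act 7 n123087 = n60279 := (sb E57713 F206074)
theorem F304703 : act 4 n73253 = n83149 := (sb E57716 F267368)
theorem F304704 : act 6 n73253 = n81519 := (sb E57716 (iv6 D169945))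
theorem E60856 : n83218 = n83149 := ((D83218).symm.trans (sb E57717 (iv0 D173868)))
theorem F304705 : act 0 n128159 = n83149 := (sb E57718 (iv1 D173869))
theorem F304706 : act 1 n98138 = n70520 := (sb E57719 F242259)
theorem F304707 : act 4 n98138 = n154156 := (sb E57719 F242257)
theorem F304708 : act 5 n98138 = n150253 := (sb E57719 (iv5 F242258))
theorem F304709 : act 7 n98138 = n60282 := (sb E57719 (iv7 D128236))
theorem F304710 : act 7 n73243 = n83149 := (sb E57720 (iv7 D173871))
theorem E60857 : n153908 = n84895 := ((D153908).symm.trans (sb E57726 F272531))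
theorem E60858 : n153909 = n101470 := ((D153909).symm.trans (sb E57726 (iv0 F272530)))
theorem F304711 : act 3 n149282 = n82552 := (sb E57733 F270610)
theorem F304712 : act 5 n149282 = n82549 := (sb E57733 (iv5 D172398))
theorem F304713 : act 7 n87336 = n72456 := (sb E57735 F240082)
theorem F304714 : act 0 n98235 = n72456 := (sb E57738 (iv1 D153361))
theorem F304715 : act 3 n98235 = n172368 := (sb E57738 (iv3 F270597))
theorem F304716 : act 1 n98240 = n72456 := (sb E57739 F264054)
theorem F304717 : act 3 n98240 = n56985 := (sb E57739 (iv3 D122679))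
theorem F304718 : act 4 n159270 = n86267 := (sb E57740 F281109)
theorem E60859 : n165665 = n155369 := ((D165665).symm.trans (sb E57741 (iv1 F283150)))
theorem F304720 : act 3 n79565 = n155538 := (sb E57741 F283144)
theorem E60862 : n165654 = n155370 := (((iv7 F260937)).symm.trans (sb E57741 F283147))
theorem F304721 : act 4 n73841 = n36406 := (sb E57745 F122198)
theorem F304722 : act 7 n73841 = n36235 := (sb E57745 (iv7 D79567))
theorem E60869 : n165678 = n119890 := (((iv4 F260950)).symm.trans (sb E57746 (iv4 F189253)))
theorem E60873 : n177520 = n165647 := (((D165647).symm.trans (sb E57747 (iv2 F276967)))).symm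
theorem E60874 : n177523 = n165649 := (((D165649).symm.trans (sb E57747 D177523))).symm
theorem E60875 : n165650 = n39025 := ((D165650).symm.trans (sb E57747 (iv6 D84568)))
theorem F304724 : act 7 n79560 = n125287 := (sb E57747 (iv7 F201495))
theorem F304726 : act 1 n79561 = n58698 := (sb E57748 F129732)
theorem F304727 : act 2 n79561 = n81829 := (sb E57748 F129729)
theorem E60877 : n165651 = n163204 := ((D165651).symm.trans (sb E57748 (iv6 F257487)))
theorem F304729 : act 6 n18527 = n36234 := (sb E57749 (iv6 D79562))
theorem F304731 : act 6 n78217 = n83467 := (sb E57751 (iv6 D174682))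
theorem F304732 : act 6 n121682 = n79619 := (sb E57754 F260426)
theorem F304735 : act 4 n84811 = n124214 := (sb E57759 F260425)
theorem F304736 : act 4 n121678 = n58694 := (sb E57763 (iv4 D125337))
theorem F304737 : act 4 n121679 = n162331 := (sb E57765 F260421)
theorem F304738 : act 6 n124168 = n124437 := (sb E57767 F277267)
theorem F304739 : act 0 n124169 = n181155 := (sb E57768 (iv1 F282176))
theorem F304740 : act 2 n124169 = n84770 := (sb E57768 F277269)
theorem F304741 : act 0 n98138 = n83219 := (sb E57769 (iv1 F271539))
theorem F304742 : act 3 n128159 = n83228 := (sb E57771 F271540)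
theorem F304743 : act 1 n83560 = n60185 := (sb E57772 (iv0 D128071))
theorem E60879 : n174952 = n60306 := ((D174952).symm.trans (sb E57772 (iv2 F206097)))
theorem E60880 : n174953 = n72327 := ((D174953).symm.trans (sb E57772 F206096))
theorem E60881 : n174955 = n153238 := ((D174955).symm.trans (sb E57772 (iv6 F240675)))
theorem E60882 : n174934 = n60199 := (((iv7 F273828)).symm.trans (sb E57772 F206099))
theorem E60883 : n179384 = n28826 := (E57773).trans E59973
theorem E60884 : n86338 = n14020 := (((F46464).symm.trans (sb E60883 F279337))).symm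
theorem E60885 : n153238 = n60750 := ((((iv3 F95344)).symm.trans (sb E60883 F279334))).symm
theorem F304744 : act 5 n78401 = n79603 := (sb E57777 (iv5 D165748))
theorem F304745 : act 0 n70395 = n70110 := (sb E57779 F191163)
theorem E60887 : n128393 = n73479 := (((iv7 F206512)).symm.trans (sb E57779 F191166))
theorem F304746 : act 4 n83676 = n86745 := (sb E57780 F239279)
theorem E60888 : n175201 = n71785 := ((D175201).symm.trans (sb E57780 (iv6 D152203)))
theorem F304747 : act 4 n89183 = n73428 := (sb E57782 F198090)
theorem F304748 : act 6 n89183 = n57651 := (sb E57782 (iv6 D123665))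
theorem F304749 : act 0 n101494 = n151786 := (sb E57783 (iv1 F243536))
theorem F304750 : act 1 n101494 = n151785 := (sb E57783 F243538)
theorem F304751 : act 2 n101494 = n151788 := (sb E57783 F243533)
theorem F304752 : act 6 n101494 = n151776 := (sb E57783 F243534)
theorem F304753 : act 7 n101494 = n73428 := (sb E57783 (iv7 D154832))
theorem F304754 : act 1 n60282 = n38304 := (sb E57784 (iv0 D83217))
theorem F304755 : act 0 n83219 = n73243 := (sb E57785 (iv1 D154542))
theorem F304756 : act 6 n83219 = n167795 := (sb E57785 (iv6 F264195))
theorem F304758 : act 1 n60318 = n79327 := (sb E57786 (iv0 F191379))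
theorem F304759 : act 4 n60318 = n38304 := (sb E57786 (iv4 D83220))
theorem E60895 : n128306 = n39799 := ((D128306).symm.trans (sb E57786 (tr D174080 E59395)))
theorem E60898 : n149164 = n33686 := (((D33686).symm.trans (sb E57788 F273146))).symm
theorem F304760 : act 7 n16282 = n178013 := (sb E57788 D178013)
theorem E60902 : n178013 = n9089 := (((F304323).symm.trans (sb E57789 (iv2 F277568)))).symm
theorem F304761 : act 1 n57790 = n39167 := (sb E57791 F129956)
theorem E60910 : n178032 = n124049 := (((D124049).symm.trans (sb E57791 D178032))).symm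
theorem E60911 : n177920 = n124050 := (((D124050).symm.trans (sb E57792 (iv1 F277487)))).symm
theorem E60912 : n177922 = n124051 := (((D124051).symm.trans (sb E57792 (iv0 F277488)))).symm
theorem E60914 : n177994 = n124053 := (((D124053).symm.trans (sb E57792 (iv5 F277535)))).symm
theorem F304762 : act 0 n72762 = n101013 := (sb E57793 (iv1 F268336))
theorem F304763 : act 2 n72762 = n39166 := (sb E57793 (iv2 D84762))
theorem E60915 : n178069 = n153818 := ((((iv5 F241672)).symm.trans (sb E57793 D178069))).symm
theorem F304764 : act 0 n72759 = n39166 := (sb E57794 (iv1 D84761))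
theorem E60916 : n153805 = n122557 := ((D153805).symm.trans (sb E57794 (iv2 F302298)))
theorem E60917 : n153806 = n101021 := ((D153806).symm.trans (sb E57794 (iv3 F199501)))
theorem F304765 : act 4 n72759 = n128171 := (sb E57794 (iv4 F206309))
theorem E60919 : n153809 = n124422 := ((D153809).symm.trans (sb E57794 (iv6 F242106)))
theorem E60920 : n153810 = n101013 := ((D153810).symm.trans (sb E57794 F199502))
theorem F304766 : act 1 n72760 = n39166 := (sb E57795 F199503)
theorem E60921 : n153812 = n128166 := ((D153812).symm.trans (sb E57795 (iv4 F206305)))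
theorem E60922 : n170752 = n153813 := (((D153813).symm.trans (sb E57795 D170752))).symm
theorem E60923 : n153814 = n37480 := ((D153814).symm.trans (sb E57795 (iv6 D81864)))
theorem F304767 : act 2 n80128 = n118497 := (sb E57796 F236371)
theorem F304768 : act 3 n80128 = n101862 := (sb E57796 (iv3 F287018))
theorem E60924 : n166911 = n73636 := ((D166911).symm.trans (sb E57796 F236373))
theorem F304769 : act 0 n71849 = n33267 := (sb E57797 (iv1 F108317))
theorem F304770 : act 1 n71849 = n33266 := (sb E57797 F108318)
theorem F304771 : act 2 n71849 = n33269 := (sb E57797 F108315)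
theorem F304772 : act 4 n71849 = n33211 := (sb E57797 F108316)
theorem F304773 : act 7 n71849 = n33207 := (sb E57797 (iv7 D71854))
theorem E60926 : n152138 = n98189 := (((iv2 F239187)).symm.trans (sb E57798 F151497))
theorem E60927 : n152139 = n98847 := ((D152139).symm.trans (sb E57798 (iv3 F152393)))
theorem E60928 : n152140 = n76808 := ((D152140).symm.trans (sb E57798 F116281))
theorem E60929 : n152141 = n35371 := ((D152141).symm.trans (sb E57798 (iv5 D77460)))
theorem E60930 : n161346 = n152142 := (((D152142).symm.trans (sb E57798 D161346))).symm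
theorem E60931 : n152133 = n100810 := ((F239186).symm.trans (sb E57798 (iv7 F154909)))
theorem E60932 : n151928 = n72444 := (((iv4 F238896)).symm.trans (sb E57799 (iv4 F108959)))
theorem F304774 : act 5 n71750 = n33205 := (sb E57799 (iv5 D71848))
theorem F304775 : act 4 n71558 = n33168 := (sb E57800 F108120)
theorem E60937 : n151801 = n33141 := ((D151801).symm.trans (sb E57800 F108121))
theorem E60947 : n166923 = n152302 := (((D152302).symm.trans (sb E57803 D166923))).symm
theorem E60953 : n152296 = n63592 := ((((iv2 F98937)).symm.trans (sb E57955 (iv2 F239395)))).symm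
theorem E60957 : n152308 = n63663 := (((D63663).symm.trans (sb E57807 (iv1 F239424)))).symm
theorem E60958 : n152307 = n63664 := (((D63664).symm.trans (sb E57807 F239432))).symm
theorem F304776 : act 5 n30045 = n33269 := (sb E57807 F108502)
theorem F304777 : act 6 n161736 = n77765 := (sb E57811 (iv6 D161930))
theorem F304778 : act 0 n155136 = n152614 := (sb E57813 (iv1 F254862))
theorem F304779 : act 1 n155136 = n77378 := (sb E57813 (iv0 D161186))
theorem E60962 : n166909 = n77378 := ((D166909).symm.trans (sb E57814 (iv1 D161187)))
theorem E60963 : n166910 = n152614 := ((D166910).symm.trans (sb E57814 F254866))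
theorem F304780 : act 0 n155191 = n167137 := (sb E57815 (iv1 F263266))
theorem F304781 : act 2 n155191 = n77378 := (sb E57815 (iv2 D161188))
theorem F304782 : act 3 n155191 = n79017 := (sb E57815 F254863)
theorem F304783 : act 7 n155191 = n152614 := (sb E57815 F254865)
theorem F304785 : act 7 n119856 = n77465 := (sb E57816 (iv7 D161368))
theorem F304789 : act 2 n161988 = n161163 := (sb E57818 F263202)
theorem F304796 : act 5 n161990 = n80227 := (sb E57821 (iv5 D167115))
theorem F304801 : act 7 n167116 = n161315 := (sb E57824 F263741)
theorem F304806 : act 4 n161331 = n179894 := (sb E57826 (iv4 F280169))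
theorem F304807 : act 5 n161331 = n85262 := (sb E57826 (iv5 D178842))
theorem F304808 : act 7 n161331 = n118500 := (sb E57826 F278719)
theorem F304809 : act 0 n161332 = n118500 := (sb E57827 (iv1 F259343))
theorem F304810 : act 5 n161332 = n155085 := (sb E57827 F259342)
theorem F304811 : act 6 n161332 = n79017 := (sb E57827 (iv6 D164530))
theorem E60964 : n186533 = n95791 := (((iv4 F289449)).symm.trans (sb E57828 F149708))
theorem E60967 : n175589 = n34560 := (((D34560).symm.trans (sb E57830 (iv6 F274926)))).symm
theorem E60968 : n158551 = n158359 := ((D158551).symm.trans (sb E57832 F263154))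
theorem E60969 : n158349 = n157987 := ((D158349).symm.trans (sb E57834 (iv6 F248866)))
theorem E60970 : n158350 = n157994 := ((D158350).symm.trans (sb E57835 (iv6 F248886)))
theorem F304812 : act 6 n75252 = n34555 := (sb E57836 (iv6 D75524))
theorem E60973 : n158354 = n157995 := (((D157995).symm.trans (sb E57836 D158354))).symm
theorem F304813 : act 5 n152604 = n175698 := (sb E57837 (iv5 F275102))
theorem F304814 : act 6 n152604 = n80168 := (sb E57837 (iv6 D167002))
theorem F304815 : act 4 n167081 = n101140 := (sb E57838 F273765)
theorem F304816 : act 5 n167081 = n175699 := (sb E57838 F275108)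
theorem F304817 : act 6 n167081 = n158533 := (sb E57838 F273766)
theorem F304818 : act 2 n47281 = n80218 := (sb E57839 F263161)
theorem E60974 : n101673 = n82966 := ((D101673).symm.trans (sb E57839 F263162))
theorem F304819 : act 5 n47281 = n80214 := (sb E57839 (iv5 D167082))
theorem E60975 : n101676 = n82962 := ((D101676).symm.trans (sb E57839 F263163))
theorem F304820 : act 4 n167083 = n100498 := (sb E57840 (iv4 F287001))
theorem F304821 : act 5 n167083 = n83884 := (sb E57840 F273764)
theorem F304822 : act 4 n167088 = n170093 := (sb E57841 F273763)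
theorem F304823 : act 6 n167088 = n83530 := (sb E57841 (iv6 D174865))
theorem F304824 : act 4 n47111 = n80216 := (sb E57842 F248348)
theorem F304825 : act 5 n101643 = n80216 := (sb E57843 (iv5 D167089))
theorem E60976 : n175419 = n83532 := (((D83532).symm.trans (sb E57844 F274487))).symm
theorem F304826 : act 6 n38504 = n80216 := (sb E57844 (iv6 D167090))
theorem F304827 : act 1 n38630 = n80218 := (sb E57845 (iv0 D167093))
theorem F304828 : act 0 n47283 = n80218 := (sb E57846 (iv1 D167094))
theorem E60977 : n154425 = n22733 := (((F74519).symm.trans (sb E57846 (iv5 F263182)))).symm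
theorem F304829 : act 0 n167095 = n172402 := (sb E57847 F275147)
theorem F304830 : act 2 n167095 = n101674 := (sb E57847 (iv2 F286999))
theorem F304831 : act 7 n167095 = n101669 := (sb E57847 F286998)
theorem F304832 : act 3 n47280 = n80233 := (sb E57849 F263183)
theorem F304833 : act 5 n47280 = n80219 := (sb E57849 F263184)
theorem F304834 : act 7 n47280 = n80218 := (sb E57849 (iv7 D167096))
theorem F304839 : act 2 n73700 = n82987 := (sb E57852 F136978)
theorem F304840 : act 6 n73700 = n41702 := (sb E57852 (iv6 D89259))
theorem F304841 : act 1 n152586 = n82987 := (sb E57853 (iv0 D173423))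
theorem F304842 : act 3 n84928 = n172610 := (sb E57854 F271891)
theorem F304843 : act 7 n84928 = n82987 := (sb E57854 (iv7 D173426))
theorem F304844 : act 1 n89260 = n164522 := (sb E57856 F279049)
theorem F304845 : act 4 n89260 = n54581 := (sb E57856 F186426)
theorem F304846 : act 7 n89260 = n178478 := (sb E57856 (iv7 F278100))
theorem F304847 : act 5 n77363 = n60079 := (sb E57857 (iv5 D127907))
theorem F304848 : act 1 n82640 = n61793 := (sb E57858 (iv0 D131696))
theorem F304849 : act 0 n75317 = n61793 := (sb E57859 (iv1 D131697))
theorem F304850 : act 4 n75458 = n61793 := (sb E57860 F210790)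
theorem E60978 : n158297 = n61724 := ((D158297).symm.trans (sb E57860 (iv6 D131537)))
theorem F304851 : act 0 n82634 = n61795 := (sb E57861 (iv1 F211059))
theorem F304852 : act 1 n82634 = n61794 := (sb E57861 F211060)
theorem E60979 : n154151 = n133029 := (((iv6 F302409)).symm.trans (sb E57861 (iv6 F213685)))
theorem F304853 : act 7 n82634 = n61793 := (sb E57861 (iv7 D131699))
theorem F304854 : act 1 n72064 = n62444 := (sb E57862 (iv0 D133094))
theorem E60981 : n161997 = n31037 := ((((iv6 F98842)).symm.trans (sb E57863 (iv6 F255990)))).symm
theorem E60982 : n158176 = n61220 := (((D61220).symm.trans (sb E57865 (tr (iv3 F263670) E59075)))).symm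
theorem E60984 : n167497 = n53575 := ((((iv6 F98522)).symm.trans (sb E57865 D167497))).symm
theorem E60986 : n80317 = n29532 := (((D29532).symm.trans (sb E59081 F123416))).symm
theorem E60997 : n120869 = n15532 := (E57873).trans E58777
theorem E60998 : n17022 = n16399 := ((F27885).symm.trans (sb E60997 (tr F192769 E59150)))
theorem F304856 : act 5 n33193 = n60082 := (sb E57876 F205822)
theorem F304857 : act 3 n80528 = n71816 := (sb E57877 F239302)
theorem F304858 : act 7 n60113 = n60119 := (sb E57881 F188314)
theorem E60999 : n89311 = n81691 := ((D89311).symm.trans (sb E57882 F252698))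
theorem F304859 : act 0 n57775 = n58509 := (sb E57883 (iv1 D125132))
theorem F304860 : act 1 n57775 = n85836 := (sb E57883 F201041)
theorem F304861 : act 2 n57775 = n85870 := (sb E57883 F250624)
theorem F304862 : act 7 n57775 = n85871 := (sb E57883 F250623)
theorem F304863 : act 0 n101598 = n149208 := (sb E57884 F234587)
theorem E61000 : n173466 = n55073 := (((iv2 F271929)).symm.trans (sb E57884 F188729))
theorem F304864 : act 4 n101598 = n55050 := (sb E57884 (iv4 D119653))
theorem F304865 : act 6 n101598 = n55617 := (sb E57884 F188730)
theorem E61001 : n152134 = n33416 := ((D152134).symm.trans (sb E57885 F108880))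
theorem E61002 : n152135 = n76809 := ((D152135).symm.trans (sb E57885 F299511))
theorem E61003 : n152137 = n33415 := ((D152137).symm.trans (sb E57885 (iv6 D72382)))
theorem F304866 : act 5 n35370 = n71748 := (sb E57886 (iv5 D152136))
theorem F304867 : act 0 n72390 = n40063 := (sb E57887 (iv1 D86477))
theorem E61004 : n131246 = n84388 := (((iv4 F210316)).symm.trans (sb E57887 (iv4 F132628)))
theorem E61005 : n181072 = n119824 := (((F190819).symm.trans (sb E57887 D181072))).symm
theorem F304868 : act 1 n72394 = n40063 := (sb E57888 (iv0 D86476))
theorem E61006 : n172841 = n131247 := (((F215352).symm.trans (sb E57888 (iv4 F298872)))).symm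
theorem E61008 : n131463 = n36564 := (((iv4 F210728)).symm.trans (sb E57890 (iv4 D80256)))
theorem F304869 : act 1 n72397 = n37289 := (sb E57891 (iv0 D81597))
theorem E61010 : n170059 = n153270 := (((D153270).symm.trans (sb E57891 (iv6 F300216)))).symm
theorem E61011 : n147183 = n38031 := ((F231363).symm.trans (sb E57893 F297038))
theorem E61012 : n154615 = n114059 := ((D154615).symm.trans (sb E57893 (iv0 F177568)))
theorem E61013 : n154613 = n44718 := (((iv3 F242707)).symm.trans (sb E57893 F125529))
theorem F304870 : act 5 n73291 = n78064 := (sb E57893 F125530)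
theorem E61015 : n154616 = n96717 := ((D154616).symm.trans (sb E57893 (iv7 F149125)))
theorem E61017 : n155177 = n74890 := (((F185291).symm.trans (sb E57895 (iv0 F299157)))).symm
theorem E61018 : n163215 = n73362 := (((F185293).symm.trans (sb E57895 (iv5 F299159)))).symm
theorem F304871 : act 6 n73299 = n37289 := (sb E57895 (iv6 D81601))
theorem E61020 : n34295 = n26866 := ((((iv3 F58185)).symm.trans (sb E57896 (iv3 D74847)))).symm
theorem E61021 : n117282 = n26865 := (((F58186).symm.trans (sb E57896 F183537))).symm
theorem E61022 : n157389 = n81525 := (((D81525).symm.trans (sb E57896 D157389))).symm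
theorem F304872 : act 0 n106006 = n131252 := (sb E57897 (iv1 F215342))
theorem F304873 : act 1 n106006 = n62798 := (sb E57897 (iv0 D133761))
theorem E61023 : n166048 = n131251 := (((iv7 F261447)).symm.trans (sb E57897 (iv7 F215338)))
theorem F304874 : act 0 n151747 = n79860 := (sb E57898 (iv1 D166311))
theorem E61024 : n150798 = n71521 := ((((iv3 D151747)).symm.trans (sb E57898 F261894))).symm
theorem F304876 : act 6 n151747 = n80543 := (sb E57898 (iv6 F261886))
theorem F304877 : act 0 n70734 = n80707 := (sb E57899 (iv1 D168144))
theorem F304880 : act 5 n125180 = n80707 := (sb E57900 (iv5 D168145))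
theorem F304882 : act 1 n166312 = n80711 := (sb E57901 F265068)
theorem F304884 : act 7 n166312 = n80707 := (sb E57901 (iv7 D168146))
theorem E61025 : n127925 = n45052 := ((D127925).symm.trans (sb E57902 (iv3 D96494)))
theorem E61026 : n127926 = n103690 := ((D127926).symm.trans (sb E57902 (iv5 F159135)))
theorem F304885 : act 2 n60123 = n60119 := (sb E57904 F114814)
theorem F304886 : act 4 n60123 = n60113 := (sb E57904 F114815)
theorem E61027 : n159932 = n127970 := ((((iv5 F205943)).symm.trans (sb E57904 D159932))).symm
theorem F304887 : act 6 n60123 = n34988 := (sb E57904 (iv6 D76563))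
theorem F304888 : act 3 n131740 = n120389 := (sb E57905 F260376)
theorem E61028 : n149830 = n130850 := ((((iv1 F243084)).symm.trans (sb E57908 F235675))).symm
theorem E61029 : n49840 = n38889 := ((F98005).symm.trans (sb E57908 (iv3 D84342)))
theorem F304889 : act 4 n62800 = n80708 := (sb E57908 F129403)
theorem F304890 : act 6 n62799 = n80708 := (sb E57909 (iv6 D168147))
theorem F304891 : act 3 n40129 = n60335 := (sb E57910 F206440)
theorem F304892 : act 4 n123505 = n60335 := (sb E57911 (iv4 D128335))
theorem F304893 : act 6 n123505 = n133762 := (sb E57911 (iv6 F215346))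
theorem F304894 : act 3 n128334 = n86567 := (sb E57912 F265071)
theorem F304895 : act 1 n32170 = n45137 := (sb E57913 F71124)
theorem E61033 : n69147 = n45116 := (((iv3 F105442)).symm.trans (sb E57913 (iv3 F71082)))
theorem E61034 : n54797 = n15185 := ((((iv5 D32170)).symm.trans (sb E57913 (iv5 F86708)))).symm
theorem E61035 : n81526 = n34308 := ((((iv6 F54441)).symm.trans (sb E57913 D81526))).symm
theorem E61036 : n69080 = n45139 := (((D45139).symm.trans (sb E57914 F112382))).symm
theorem E61037 : n54168 = n35988 := ((((iv1 F115111)).symm.trans (sb E57915 (iv1 D117578)))).symm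
theorem E61039 : n69462 = n35071 := (((F115106).symm.trans (sb E57915 F184178))).symm
theorem E61040 : n117454 = n35070 := ((((iv5 D76732)).symm.trans (sb E57915 (iv5 F184177)))).symm
theorem E61041 : n160180 = n155514 := ((D160180).symm.trans (sb E57915 F244528))
theorem E61042 : n119736 = n32100 := (((iv6 F188886)).symm.trans (sb E57916 (iv6 D69010)))
theorem F304896 : act 0 n96654 = n157427 := (sb E57917 F247955)
theorem E61043 : n131255 = n58170 := ((((iv0 F154837)).symm.trans (sb E57917 (iv0 F231377)))).symm
theorem F304897 : act 5 n96654 = n147209 := (sb E57917 F231376)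
theorem F304898 : act 7 n96654 = n157426 := (sb E57917 (iv7 F247949))
theorem F304899 : act 1 n133762 = n80710 := (sb E57918 (iv0 D168149))
theorem F304900 : act 0 n61586 = n80710 := (sb E57919 (iv1 D168150))
theorem F304901 : act 5 n125182 = n80710 := (sb E57920 (iv5 D168151))
theorem F304902 : act 7 n130844 = n80710 := (sb E57921 (iv7 D168152))
theorem F304904 : act 1 n168153 = n127848 := (sb E57922 F274159)
theorem F304905 : act 4 n168153 = n175160 := (sb E57922 (iv4 F274174))
theorem F304906 : act 5 n168153 = n128352 := (sb E57922 F266241)
theorem E61045 : n158477 = n29754 := (((D29754).symm.trans (iv1 (sb E57923 (tr (iv0 F300798) E58153))))).symm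
theorem F304908 : act 5 n60347 = n80711 := (sb E57924 (iv5 D168154))
theorem F304909 : act 6 n149368 = n80711 := (sb E57925 (iv6 D168155))
theorem E61047 : n159937 = n128356 := ((D159937).symm.trans (sb E57926 F235569))
theorem E61048 : n158452 = n29755 := (((D29755).symm.trans (iv0 (sb E57927 (tr (iv1 F300799) E58153))))).symm
theorem E61049 : n169050 = n29755 := (E57927).trans E61048
theorem E61050 : n127874 = n62886 := (((D62886).symm.trans (sb E61049 F266247))).symm
theorem F304910 : act 5 n60348 = n80712 := (sb E57928 (iv5 D168156))
theorem E61051 : n69153 = n54789 := (((F109151).symm.trans (sb E57936 (iv5 D147559)))).symm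
theorem E61052 : n78900 = n69155 := (((D69155).symm.trans (sb E57937 (iv1 F298847)))).symm
theorem E61053 : n80421 = n69156 := (((D69156).symm.trans (sb E57937 (iv0 F298284)))).symm
theorem F304912 : act 5 n32167 = n38029 := (sb E57937 (iv5 D82738))
theorem E61055 : n172819 = n69154 := ((D172819).symm.trans (sb E57938 (iv5 D147563)))
theorem F304913 : act 3 n46186 = n69195 := (sb E57939 F231412)
theorem E61056 : n98763 = n69190 := ((D98763).symm.trans (sb E57939 (iv5 D147641)))
theorem F304914 : act 0 n32181 = n68906 := (sb E57940 (iv1 D146994))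
theorem E61057 : n33924 = n26867 := (((F88022).symm.trans (sb E57941 (iv3 F243049)))).symm
theorem E61058 : n146721 = n120705 := (((D120705).symm.trans (sb E57941 F243038))).symm
theorem F304915 : act 6 n58333 = n84063 := (sb E57942 (iv6 D176260))
theorem E61073 : n166947 = n130512 := ((D166947).symm.trans (sb E57952 F217820))
theorem F304916 : act 5 n61234 = n36496 := (sb E57953 (iv5 D80139))
theorem E61074 : n166952 = n60744 := (((F95691).symm.trans (sb E57953 D166952))).symm
theorem E61076 : n129409 = n38779 := ((((iv1 F118741)).symm.trans (sb E57957 (iv1 F207583)))).symm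
theorem F304917 : act 5 n35505 = n29527 := (sb E57957 (iv5 D62476))
theorem E61078 : n133163 = n17206 := ((((iv6 D35505)).symm.trans (sb E57957 D133163))).symm
theorem E61079 : n134630 = n118491 := (((D118491).symm.trans (sb E57958 (iv1 F216589)))).symm
theorem E61081 : n134631 = n37890 := (((F86257).symm.trans (sb E57958 (iv2 F216590)))).symm
theorem E61082 : n134674 = n118490 := ((((iv4 F186395)).symm.trans (sb E57958 (iv4 F216691)))).symm
theorem F304918 : act 5 n54569 = n63662 := (sb E57958 (iv5 F98986))
theorem E61083 : n118494 = n29901 := ((D118494).symm.trans (sb E57958 (iv7 D63280)))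
theorem F304919 : act 1 n30047 = n27167 := (sb E57959 (iv0 D56439))
theorem F304920 : act 0 n30046 = n27167 := (sb E57960 (iv1 D56440))
theorem F304921 : act 7 n14201 = n27167 := (sb E57961 (iv7 D56442))
theorem E61094 : n161369 = n35470 := ((D161369).symm.trans (sb E57962 (tr (iv2 F217779) E59696)))
theorem E61097 : n161379 = n132495 := ((D161379).symm.trans (sb E57963 (iv1 F212621)))
theorem E61098 : n161380 = n60876 := ((D161380).symm.trans (sb E57963 (iv0 D129587)))
theorem E61099 : n161382 = n132493 := ((D161382).symm.trans (sb E57963 (iv7 F212612)))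
theorem E61100 : n119659 = n63230 := ((D119659).symm.trans (sb E57965 F213583))
theorem E61101 : n119660 = n63247 := ((D119660).symm.trans (sb E57965 F216475))
theorem E61102 : n130217 = n119658 := ((((iv4 F188746)).symm.trans (sb E57965 F210252))).symm
theorem F304922 : act 1 n29446 = n27045 := (sb E57966 (iv0 D56074))
theorem E61104 : n121453 = n28898 := (((F47197).symm.trans (sb E57966 D121453))).symm
theorem E61109 : n121458 = n62225 := (((D62225).symm.trans (sb E57966 D121458))).symm
theorem E61110 : n129722 = n121459 := (((D121459).symm.trans (sb E57967 (iv3 F207916)))).symm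
theorem E61111 : n121460 = n29206 := ((D121460).symm.trans (sb E57967 F95491))
theorem E61112 : n129765 = n121461 := (((D121461).symm.trans (sb E57967 (iv5 F208118)))).symm
theorem E61113 : n121462 = n62285 := ((D121462).symm.trans (sb E57967 (iv6 F97104)))
theorem E61114 : n134710 = n121464 := (((D121464).symm.trans (sb E57968 (iv0 F216718)))).symm
theorem E61115 : n129755 = n121466 := (((D121466).symm.trans (sb E57968 F210255))).symm
theorem F304923 : act 4 n56077 = n29679 := (sb E57969 F209594)
theorem E61116 : n167008 = n79423 := (E57970).trans E60141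
theorem E61117 : n165321 = n83553 := ((D165321).symm.trans (sb E61116 (iv1 F263002)))
theorem E61118 : n165322 = n80172 := ((D165322).symm.trans (sb E61116 (iv0 D167008)))
theorem F304924 : act 5 n133133 = n80172 := (sb E57971 (iv5 D167010))
theorem F304925 : act 7 n130073 = n80172 := (sb E57972 (iv7 D167011))
theorem F304926 : act 3 n119403 = n61075 := (sb E57973 (iv3 D130074))
theorem F304927 : act 7 n119403 = n132813 := (sb E57973 (iv7 F213297))
theorem F304928 : act 6 n130075 = n83303 := (sb E57976 F263007)
theorem E61122 : n152124 = n21889 := (((D21889).symm.trans (sb E57979 D152124))).symm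
theorem E61123 : n152128 = n17946 := ((((iv1 F297147)).symm.trans (sb E57980 D152128))).symm
theorem E61124 : n152129 = n17941 := ((((iv0 F297148)).symm.trans (sb E57980 D152129))).symm
theorem F304929 : act 3 n18910 = n33167 := (sb E57980 F108210)
theorem E61125 : n119723 = n39987 := (((D39987).symm.trans (sb E57980 (iv5 F188864)))).symm
theorem E61128 : n151916 = n151798 := (((iv3 F247849)).symm.trans (sb E57981 (iv3 F238718)))
theorem E61137 : n165272 = n119730 := (((D119730).symm.trans (sb E57983 D165272))).symm
theorem F304930 : act 4 n71747 = n75558 := (sb E57984 F121989)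
theorem F304932 : act 5 n132899 = n75555 := (sb E57985 (iv5 D158407))
theorem F304933 : act 5 n133145 = n167105 := (sb E57986 F263190)
theorem F304934 : act 6 n133145 = n75555 := (sb E57986 (iv6 D158408))
theorem F304935 : act 5 n132900 = n75556 := (sb E57987 (iv5 D158412))
theorem F304936 : act 6 n61205 = n75556 := (sb E57988 (iv6 D158413))
theorem F304938 : act 1 n130181 = n75557 := (sb E57989 (iv0 D158414))
theorem F304941 : act 1 n73329 = n33767 := (sb E57992 (iv0 D73416))
theorem E61146 : n165248 = n33579 := ((((iv7 D72806)).symm.trans (sb E57993 D165248))).symm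
theorem F304942 : act 4 n16251 = n22689 := (sb E57994 F72265)
theorem F304943 : act 6 n16251 = n21888 := (sb E57994 (iv6 D45778))
theorem E61154 : n165260 = n119722 := (((D119722).symm.trans (sb E57997 D165260))).symm
theorem E61159 : n153846 = n18383 := ((((iv2 F29560)).symm.trans (sb E57999 D153846))).symm
theorem E61160 : n121424 = n18257 := ((((iv4 F29453)).symm.trans (sb E57999 F193726))).symm
theorem E61161 : n153847 = n22751 := (((D22751).symm.trans (sb E57999 D153847))).symm
theorem E61162 : n33686 = n22748 := ((((iv7 F35302)).symm.trans (sb E57999 F162987))).symm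
theorem E61163 : n72365 = n41141 := (((D41141).symm.trans (sb E58001 (iv1 F120287)))).symm
theorem E61164 : n73257 = n41142 := (((D41142).symm.trans (sb E58001 (iv0 F120286)))).symm
theorem F304944 : act 2 n19354 = n33692 := (sb E58001 F162977)
theorem E61165 : n106050 = n41140 := ((((iv3 F62350)).symm.trans (sb E58001 (iv3 F162878)))).symm
theorem E61166 : n153849 = n41143 := (((D41143).symm.trans (sb E58001 D153849))).symm
theorem E61167 : n41144 = n33687 := ((D41144).symm.trans (sb E58001 F162978))
theorem F304945 : act 1 n16223 = n9089 := (sb E58002 (iv0 D19355))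
theorem E61168 : n41146 = n33569 := ((((iv3 F52863)).symm.trans (sb E58002 D41146))).symm
theorem E61169 : n41148 = n33573 := (((D33573).symm.trans (sb E58002 D41148))).symm
theorem F304946 : act 0 n16285 = n9089 := (sb E58003 (iv1 D19356))
theorem E61170 : n41151 = n27579 := ((((iv3 F44475)).symm.trans (sb E58003 D41151))).symm
theorem E61171 : n41153 = n33698 := ((((iv5 F52954)).symm.trans (sb E58003 D41153))).symm
theorem E61173 : n153851 = n41157 := (((D41157).symm.trans (sb E58004 D153851))).symm
theorem E61174 : n41158 = n33688 := ((D41158).symm.trans (sb E58004 F162989))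
theorem E61175 : n128421 = n40150 := (((D40150).symm.trans (sb E58006 (iv1 F257297)))).symm
theorem E61176 : n128162 = n40151 := (((D40151).symm.trans (sb E58006 (iv0 F257298)))).symm
theorem E61177 : n106031 = n40153 := (((D40153).symm.trans (sb E58006 F257294))).symm
theorem E61178 : n101225 = n22695 := (((iv2 F155942)).symm.trans (sb E58007 (tr F191055 E60329)))
theorem E61179 : n154147 = n101226 := (((D101226).symm.trans (sb E58007 (iv3 F242228)))).symm
theorem E61180 : n101227 = n33647 := ((D101227).symm.trans (sb E58007 F109505))
theorem E61181 : n154150 = n101228 := (((D101228).symm.trans (sb E58007 D154150))).symm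
theorem E61182 : n101229 = n33645 := ((D101229).symm.trans (sb E58007 (iv6 D73020)))
theorem F304947 : act 0 n47142 = n75031 := (sb E58008 (iv1 F240843))
theorem E61183 : n153837 = n99574 := ((((iv3 F153317)).symm.trans (sb E58009 (iv3 F241691)))).symm
theorem F304948 : act 0 n47154 = n33615 := (sb E58010 F190750)
theorem F304949 : act 2 n47154 = n33664 := (sb E58010 F90824)
theorem E61184 : n123669 = n101264 := (((D101264).symm.trans (sb E58010 (iv3 F198092)))).symm
theorem F304950 : act 4 n47154 = n79751 := (sb E58010 F190039)
theorem E61185 : n123680 = n101266 := (((D101266).symm.trans (sb E58010 (iv5 F198112)))).symm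
theorem F304951 : act 7 n47154 = n27543 := (sb E58010 (iv7 D57658))
theorem F304952 : act 0 n16272 = n22689 := (sb E58011 (iv1 D47155))
theorem F304953 : act 3 n16272 = n22716 := (sb E58011 F184688)
theorem E61186 : n101270 = n33663 := (((D33663).symm.trans (sb E58011 D101270))).symm
theorem E61187 : n154029 = n101272 := (((D101272).symm.trans (sb E58012 D154029))).symm
theorem E61188 : n154030 = n101273 := (((D101273).symm.trans (sb E58012 D154030))).symm
theorem E61191 : n123675 = n101275 := (((D101275).symm.trans (sb E58012 (iv7 F198106)))).symm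
theorem F304954 : act 0 n47157 = n27543 := (sb E58013 (iv1 D57656))
theorem F304955 : act 1 n47157 = n33664 := (sb E58013 F90822)
theorem F304956 : act 2 n47157 = n33615 := (sb E58013 F191177)
theorem F304957 : act 3 n41657 = n33664 := (sb E58014 F109582)
theorem E61194 : n154207 = n89180 := (((D89180).symm.trans (sb E58014 (iv5 F242314)))).symm
theorem E61195 : n123653 = n89181 := (((D89181).symm.trans (sb E58014 (iv6 F198057)))).symm
theorem E61196 : n181389 = n148978 := ((((iv3 F234124)).symm.trans (sb E58015 D181389))).symm
theorem E61199 : n184737 = n123637 := ((((iv0 F240102)).symm.trans (sb E58016 D184737))).symm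
theorem E61203 : n123666 = n101492 := ((D123666).symm.trans (sb E58018 (iv1 F184710)))
theorem E61204 : n123667 = n101491 := ((D123667).symm.trans (sb E58018 F184711))
theorem F304958 : act 2 n57652 = n89183 := (sb E58018 F184709)
theorem E61208 : n184745 = n123673 := ((((iv6 F198099)).symm.trans (sb E58020 D184745))).symm
theorem E61209 : n184754 = n154044 := (((D154044).symm.trans (sb E58021 (iv4 F287228)))).symm
theorem F304964 : act 6 n120905 = n180192 := (sb E58023 F280536)
theorem F304965 : act 7 n120905 = n79892 := (sb E58023 F193081)
theorem F304969 : act 0 n124225 = n84770 := (sb E58032 (iv1 F277602))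
theorem F304970 : act 5 n124225 = n84775 := (sb E58032 F277601)
theorem F304971 : act 7 n124225 = n181155 := (sb E58032 (iv7 F282174))
theorem F304972 : act 1 n124226 = n84770 := (sb E58033 F277603)
theorem F304973 : act 2 n124226 = n181155 := (sb E58033 (iv2 F282173))
theorem F304974 : act 5 n124226 = n84776 := (sb E58033 F277604)
theorem F304975 : act 0 n124227 = n84725 := (sb E58034 (iv1 D177995))
theorem F304976 : act 1 n124227 = n84805 := (sb E58034 F277538)
theorem F304977 : act 5 n124227 = n84765 := (sb E58034 F277539)
theorem F304978 : act 4 n166148 = n180140 := (sb E58037 (iv4 F280567))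
theorem F304979 : act 4 n166149 = n86102 := (sb E58038 (iv4 D180235))
theorem E61212 : n155284 = n154806 := ((F244208).symm.trans (sb E58040 (iv0 F243484)))
theorem E61213 : n159944 = n154937 := (((iv2 F252246)).symm.trans (sb E58040 F243636))
theorem F304980 : act 3 n117878 = n54732 := (sb E58040 F232514)
theorem F304981 : act 5 n117878 = n73468 := (sb E58040 (iv5 F232641))
theorem F304982 : act 7 n117878 = n55337 := (sb E58040 F232517)
theorem F304983 : act 1 n159266 = n120924 := (sb E58042 (iv0 F277074))
theorem F304984 : act 4 n159266 = n84595 := (sb E58042 (iv4 D177608))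
theorem E61214 : n149877 = n86586 := ((((iv4 F132833)).symm.trans (sb E58043 F276622))).symm
theorem E61215 : n162941 = n149876 := ((D162941).symm.trans (sb E58044 (iv4 F276625)))
theorem F304985 : act 4 n78339 = n84440 := (sb E58045 (iv4 D177228))
theorem F304986 : act 4 n131090 = n84438 := (sb E58047 (iv4 D177220))
theorem F304987 : act 5 n148940 = n84438 := (sb E58048 (iv5 D177221))
theorem F304988 : act 2 n106015 = n84439 := (sb E58049 F276611)
theorem F304989 : act 7 n106015 = n84438 := (sb E58049 (iv7 D177223))
theorem F304990 : act 4 n55003 = n84439 := (sb E58050 (iv4 D177225))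
theorem F304991 : act 5 n148941 = n84439 := (sb E58051 (iv5 D177226))
theorem F304992 : act 6 n55001 = n84439 := (sb E58052 (iv6 D177227))
theorem F304994 : act 1 n39852 = n79547 := (sb E58054 (iv0 D165616))
theorem F304995 : act 6 n84587 = n79208 := (sb E58062 F259867)
theorem F305000 : act 4 n160372 = n78263 := (sb E58088 (iv4 D162808))
theorem F305001 : act 6 n160372 = n164192 := (sb E58088 (iv6 F258778))
theorem F305002 : act 7 n160372 = n159184 := (sb E58088 F257090)
theorem F305004 : act 1 n49015 = n55737 := (sb E58090 (iv0 D120875))
theorem E61223 : n155217 = n106037 := ((((iv4 F162845)).symm.trans (sb E58090 F244110))).symm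
theorem F305005 : act 0 n86587 = n78344 := (sb E59846 (iv1 F257276))
theorem E61225 : n181351 = n121945 := ((D181351).symm.trans (sb E59846 F257275))
theorem E61226 : n181352 = n78339 := ((D181352).symm.trans (sb E59846 (iv7 D162933)))
theorem F305006 : act 0 n120878 = n69828 := (sb E58092 F228302)
theorem F305007 : act 1 n120878 = n69833 := (sb E58092 (iv0 F228301))
theorem F305008 : act 6 n120878 = n68111 := (sb E58092 (iv6 D145289))
theorem F305010 : act 7 n165614 = n167938 := (sb E58093 F280512)
theorem F305014 : act 5 n165618 = n180478 := (sb E58095 (iv5 F280905))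
theorem F305015 : act 4 n162822 = n174680 := (sb E58098 (iv4 F273535))
theorem F305016 : act 6 n120904 = n178268 := (sb E58106 (iv6 F277816))
theorem F305017 : act 7 n120904 = n79890 := (sb E58106 F193079)
theorem E61227 : n79839 = n71371 := ((D79839).symm.trans (sb E58108 (iv3 F232295)))
theorem F305018 : act 4 n36368 = n54979 := (sb E58108 (iv4 D119496))
theorem F305019 : act 3 n33024 = n26265 := (sb E58113 (iv3 D54337))
theorem E61228 : n117954 = n71373 := (((D71373).symm.trans (sb E58113 D117954))).symm
theorem E61229 : n117956 = n71360 := ((D117956).symm.trans (sb E58114 F238111))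
theorem F305020 : act 6 n54338 = n71358 := (sb E58114 (iv6 D151391))
theorem E61230 : n103814 = n67553 := (((iv1 F159236)).symm.trans (sb E58116 F226883))
theorem F305022 : act 4 n103081 = n115875 := (sb E58116 F226882)
theorem E61231 : n95968 = n67552 := (((iv2 F147598)).symm.trans (sb E58117 F226885))
theorem F305023 : act 5 n44789 = n67545 := (sb E58117 (iv5 D144182))
theorem E61232 : n103812 = n67551 := ((D103812).symm.trans (sb E58118 (iv1 F226888)))
theorem E61233 : n103649 = n67550 := (((iv0 F283732)).symm.trans (sb E58118 F226889))
theorem E61234 : n103815 = n67756 := ((D103815).symm.trans (sb E58118 F226887))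
theorem E61235 : n144220 = n95986 := (((D95986).symm.trans (sb E58119 (iv1 F226913)))).symm
theorem E61236 : n144219 = n95987 := (((D95987).symm.trans (sb E58119 F226909))).symm
theorem F305025 : act 2 n44793 = n67472 := (sb E58119 F226672)
theorem E61237 : n95972 = n67544 := (((iv3 F147600)).symm.trans (sb E58119 F226673))
theorem E61238 : n116415 = n95985 := ((((iv4 F147620)).symm.trans (sb E58119 F226674))).symm
theorem F305026 : act 5 n44793 = n67471 := (sb E58119 (iv5 D144009))
theorem E61239 : n142850 = n95989 := (((D95989).symm.trans (sb E58119 F226675))).symm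
theorem F305027 : act 3 n43929 = n67474 := (sb E58120 F226693)
theorem F305028 : act 6 n43929 = n67472 := (sb E58120 (iv6 D144014))
theorem F305029 : act 5 n114358 = n67572 := (sb E58121 (iv5 D144269))
theorem F305030 : act 4 n43939 = n67562 := (sb E58122 (iv4 D144238))
theorem F305031 : act 6 n43939 = n67572 := (sb E58122 F226929)
theorem F305032 : act 1 n44797 = n67562 := (sb E58123 (iv0 D144236))
theorem F305033 : act 0 n44730 = n67562 := (sb E58124 (iv1 D144237))
theorem F305034 : act 3 n44787 = n67562 := (sb E58125 F226891)
theorem E61240 : n95967 = n67549 := ((D95967).symm.trans (sb E58125 (iv5 D144187)))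
theorem E61241 : n95998 = n67563 := ((D95998).symm.trans (sb E58126 F226930))
theorem F305035 : act 7 n44798 = n67562 := (sb E58126 (iv7 D144239))
theorem E61242 : n96000 = n67561 := ((D96000).symm.trans (sb E58127 (iv1 F226703)))
theorem E61243 : n96001 = n67560 := ((D96001).symm.trans (sb E58127 F226704))
theorem E61244 : n117022 = n96002 := (((D96002).symm.trans (sb E58127 F226701))).symm
theorem E61245 : n144225 = n96003 := (((D96003).symm.trans (sb E58127 (iv6 F226923)))).symm
theorem F305036 : act 7 n44799 = n67474 := (sb E58127 (iv7 D144022))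
theorem F305037 : act 0 n120365 = n76086 := (sb E58128 F236094)
theorem F305039 : act 5 n120365 = n118097 := (sb E58128 F236092)
theorem F305041 : act 3 n118173 = n56983 := (sb E58129 F191731)
theorem F305042 : act 6 n118173 = n55407 := (sb E58129 (iv6 D120366))
theorem F305043 : act 3 n118170 = n72481 := (sb E58131 (iv3 F205767))
theorem F305044 : act 3 n118204 = n55413 := (sb E58132 F191744)
theorem F305045 : act 3 n170597 = n86796 := (sb E58134 F282925)
theorem F305046 : act 6 n170597 = n86794 := (sb E58134 (iv6 D181750))
theorem F305047 : act 3 n75459 = n61735 := (sb E58135 F210793)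
theorem E61249 : n158299 = n133075 := ((D158299).symm.trans (sb E58135 (iv6 F213725)))
theorem F305048 : act 6 n62441 = n37973 := (sb E58136 (iv6 D82641))
theorem E61263 : n78345 = n76607 := (((D76607).symm.trans (sb E58140 F185649))).symm
theorem F305049 : act 3 n35010 = n17303 := (sb E58141 F56382)
theorem E61264 : n76610 = n17302 := ((D76610).symm.trans (sb E58141 (iv5 D35706)))
theorem F305050 : act 6 n35710 = n40119 := (sb E58143 (iv6 D86551))
theorem E61267 : n68109 = n23919 := ((((iv6 F299956)).symm.trans (sb E58145 F185668))).symm
theorem E61268 : n106090 = n14907 := ((((iv0 D31709)).symm.trans (sb E58146 D106090))).symm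
theorem E61269 : n106091 = n68110 := (((D68110).symm.trans (sb E58146 D106091))).symm
theorem F305051 : act 6 n31709 = n40043 := (sb E58146 F297733)
theorem E61270 : n34280 = n28675 := ((F86025).symm.trans (sb E58146 F77395))
theorem F305052 : act 0 n55306 = n29757 := (sb E58152 (iv1 D62889))
theorem F305053 : act 0 n73706 = n86600 := (sb E58159 F264658)
theorem F305054 : act 0 n131096 = n67327 := (sb E58161 (iv1 D143742))
theorem E61281 : n157376 = n84389 := (((F302787).symm.trans (sb E58161 F252108))).symm
theorem F305055 : act 4 n131096 = n119826 := (sb E58161 F226413)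
theorem E61282 : n119827 = n61499 := ((((iv6 D131096)).symm.trans (sb E58161 F226414))).symm
theorem F305056 : act 3 n61691 = n46721 := (sb E58167 F123317)
theorem E61283 : n131448 = n36562 := ((D131448).symm.trans (sb E58167 (iv4 D80251)))
theorem F305057 : act 5 n61691 = n79279 := (sb E58167 F123318)
theorem E61284 : n131451 = n36563 := ((D131451).symm.trans (sb E58168 (iv4 D80254)))
theorem E61285 : n167169 = n131452 := (((D131452).symm.trans (sb E58168 D167169))).symm
theorem F305058 : act 0 n79008 = n61690 := (sb E58169 (iv1 D131444))
theorem F305059 : act 1 n79008 = n61735 := (sb E58169 F210691)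
theorem F305060 : act 5 n38189 = n61690 := (sb E58171 (iv5 D131445))
theorem E61286 : n73563 = n70870 := ((((iv1 F107362)).symm.trans (sb E58174 F110219))).symm
theorem E61287 : n146223 = n28481 := (((F104193).symm.trans (sb E58174 D146223))).symm
theorem E61288 : n117149 = n95879 := (((iv3 F183244)).symm.trans (sb E58174 (iv3 F147550)))
theorem E61289 : n65774 = n31898 := (((iv4 F181000)).symm.trans (sb E58174 (iv4 D68570)))
theorem E61290 : n146225 = n76038 := (((F131104).symm.trans (sb E58174 D146225))).symm
theorem F305061 : act 3 n45229 = n39608 := (sb E58176 (iv3 D85746))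
theorem E61291 : n68393 = n21581 := ((((iv5 D45229)).symm.trans (sb E58176 F200350))).symm
theorem F305062 : act 7 n45229 = n85812 := (sb E58176 (iv7 F200323))
theorem E61292 : n96764 = n34741 := (((F130808).symm.trans (sb E58177 D96764))).symm
theorem E61293 : n96765 = n48932 := ((((iv0 F94902)).symm.trans (sb E58177 D96765))).symm
theorem E61294 : n68396 = n32559 := (((iv4 F104566)).symm.trans (sb E58177 F71291))
theorem E61295 : n21579 = n14974 := ((((iv6 D31821)).symm.trans (sb E58177 (iv6 D45222)))).symm
theorem E61296 : n96767 = n59975 := ((((iv7 F131117)).symm.trans (sb E58177 D96767))).symm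
theorem F305063 : act 3 n54644 = n39639 := (sb E58178 (iv3 D85807))
theorem E61297 : n146668 = n29156 := ((((iv1 D61578)).symm.trans (sb E58179 (iv1 F229978)))).symm
theorem E61298 : n146663 = n62757 := (((F97902).symm.trans (sb E58179 (iv0 F229967)))).symm
theorem E61299 : n85808 = n62756 := ((((iv2 F162908)).symm.trans (sb E58179 (iv2 F200325)))).symm
theorem E61300 : n129637 = n39608 := (((iv4 F207819)).symm.trans (sb E58179 (iv4 D85747)))
theorem E61302 : n59937 = n44768 := ((((iv1 F71303)).symm.trans (sb E58181 (iv1 D127660)))).symm
theorem E61303 : n150298 = n44767 := (((F71304).symm.trans (sb E58181 (iv0 F236529)))).symm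
theorem F305064 : act 5 n45230 = n85812 := (sb E58181 (iv5 F205232))
theorem E61304 : n124788 = n86939 := ((((iv2 F281944)).symm.trans (sb E58182 F279818))).symm
theorem F305065 : act 4 n40617 = n85796 := (sb E58182 (iv4 D179661))
theorem E61305 : n124826 = n87402 := (((D87402).symm.trans (sb E58182 F279819))).symm
theorem E61306 : n124737 = n86938 := ((((iv7 F281941)).symm.trans (sb E58182 F279820))).symm
theorem E61307 : n124781 = n87394 := (((D87394).symm.trans (sb E58183 (iv3 F200451)))).symm
theorem F305066 : act 4 n40616 = n27781 := (sb E58183 F92203)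
theorem E61308 : n124787 = n87396 := (((D87396).symm.trans (sb E58183 D124787))).symm
theorem E61309 : n87397 = n27779 := ((D87397).symm.trans (sb E58183 (iv6 D58341)))
theorem F305067 : act 4 n40758 = n54342 := (sb E58185 F190397)
theorem E61312 : n154007 = n33881 := ((D154007).symm.trans (sb E58188 (iv3 D73737)))
theorem F305068 : act 6 n72879 = n86609 := (sb E58188 (iv6 F232376))
theorem E61313 : n117223 = n81715 := (((iv6 F185025)).symm.trans (sb E58189 (iv6 D170450)))
theorem F305069 : act 0 n40148 = n73057 := (sb E58190 F191172)
theorem F305070 : act 1 n40148 = n48985 := (sb E58190 F191173)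
theorem F305071 : act 3 n40148 = n54318 := (sb E58190 F190897)
theorem F305072 : act 7 n40148 = n54342 := (sb E58190 F190898)
theorem F305073 : act 6 n161394 = n77746 := (sb E58195 (iv6 D161883))
theorem F305075 : act 2 n119466 = n83315 := (sb E58199 (iv2 D174304))
theorem F305076 : act 7 n119466 = n83316 := (sb E58199 (iv7 F273105))
theorem F305077 : act 3 n54553 = n83315 := (sb E58200 (iv3 D174305))
theorem F305078 : act 4 n153243 = n83315 := (sb E58201 (iv4 D174306))
theorem E61316 : n127904 = n83315 := ((F303590).symm.trans (sb E58202 (iv6 D174308)))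
theorem F305079 : act 2 n73909 = n83316 := (sb E58203 F273107)
theorem F305080 : act 7 n73909 = n83315 := (sb E58203 (iv7 D174309))
theorem F305081 : act 3 n119470 = n83316 := (sb E58204 (iv3 D174310))
theorem E61317 : n131270 = n119470 := (((iv4 F210364)).symm.trans (iv4 (sb E58204 (tr F273108 E59898))))
theorem F305082 : act 0 n174312 = n84120 := (sb E58205 (iv1 F274212))
theorem F305083 : act 1 n174312 = n152241 := (sb E58205 F274213)
theorem F305084 : act 2 n174312 = n124974 := (sb E58205 F274209)
theorem F305085 : act 3 n174312 = n83673 := (sb E58205 F274210)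
theorem E61319 : n149164 = n22748 := (E60898).trans E61162
theorem F305092 : act 6 n69998 = n41138 := (sb E58213 (iv6 D88106))
theorem E61324 : n131575 = n69793 := ((D131575).symm.trans (sb E58218 (iv1 F116037)))
theorem F305093 : act 1 n61738 = n35272 := (sb E58218 (iv0 D77267))
theorem F305094 : act 5 n61738 = n41137 := (sb E58218 F116497)
theorem E61325 : n131579 = n37319 := ((D131579).symm.trans (sb E58218 F301162))
theorem E61326 : n184756 = n149072 := ((D184756).symm.trans (sb E58219 (iv1 F236560)))
theorem F305095 : act 3 n88104 = n58554 := (sb E58219 (iv3 D125199))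
theorem E61327 : n184758 = n159186 := ((D184758).symm.trans (sb E58219 (iv5 F250667)))
theorem E61328 : n184759 = n86003 := ((D184759).symm.trans (sb E58219 F201283))
theorem F305096 : act 1 n39404 = n77461 := (sb E58220 (iv0 D161347))
theorem F305097 : act 0 n124977 = n77461 := (sb E58221 (iv1 D161348))
theorem F305098 : act 5 n158973 = n77461 := (sb E58223 (iv5 D161349))
theorem F305099 : act 7 n119668 = n77461 := (sb E58224 (iv7 D161350))
theorem F305100 : act 5 n47215 = n41717 := (sb E58225 (iv5 D89314))
theorem F305101 : act 1 n119842 = n77463 := (sb E58226 F243841)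
theorem F305102 : act 3 n119842 = n73599 := (sb E58226 F243838)
theorem F305103 : act 7 n119842 = n73594 := (sb E58226 (iv7 D155058))
theorem F305104 : act 7 n119854 = n77463 := (sb E58227 (iv7 D161360))
theorem F305105 : act 4 n155128 = n123651 := (sb E58228 F255178)
theorem F305106 : act 2 n119855 = n77463 := (sb E58232 (iv2 D161355))
theorem F305107 : act 0 n72007 = n77465 := (sb E58233 (iv1 D161366))
theorem F305108 : act 0 n119854 = n73594 := (sb E58234 (iv1 D155056))
theorem F305109 : act 1 n119855 = n73594 := (sb E58235 (iv0 D155055))
theorem F305110 : act 3 n119644 = n73919 := (sb E58236 F244419)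
theorem F305111 : act 3 n33206 = n71750 := (sb E58239 F186592)
theorem E61329 : n71850 = n54627 := ((D71850).symm.trans (sb E58239 F186593))
theorem F305112 : act 3 n33264 = n54584 := (sb E58240 (iv3 D118528))
theorem E61330 : n72011 = n54598 := ((D72011).symm.trans (sb E58240 F186432))
theorem E61333 : n72014 = n14200 := (((F42204).symm.trans (sb E58241 D72014))).symm
theorem F305113 : act 6 n26418 = n16062 := (sb E58241 (iv6 D33265))
theorem F305114 : act 0 n98189 = n71750 := (sb E58246 (iv1 D152144))
theorem F305115 : act 1 n100810 = n71750 := (sb E58247 (iv0 D152143))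
theorem F305116 : act 0 n37889 = n71749 := (sb E58248 (iv1 F239185))
theorem F305117 : act 1 n37889 = n71748 := (sb E58248 (iv0 D152132))
theorem F305118 : act 7 n37889 = n71750 := (sb E58248 F239184)
theorem E61352 : n161780 = n135453 := ((((iv3 F217771)).symm.trans (sb E58261 (iv3 F255779)))).symm
theorem F305120 : act 5 n173938 = n85244 := (sb E58262 (iv5 D178822))
theorem E61355 : n129380 = n124989 := (((iv3 F207548)).symm.trans (sb E58263 (iv3 F262804)))
theorem E61357 : n130509 = n77627 := (((iv5 F209067)).symm.trans (sb E58265 F123396))
theorem F305121 : act 5 n80374 = n60798 := (sb E58266 (iv5 D129383))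
theorem E61358 : n161584 = n75559 := ((((iv2 F156430)).symm.trans (sb E58267 F274466))).symm
theorem E61359 : n152248 = n83765 := (((D83765).symm.trans (sb E58267 F274467))).symm
theorem E61360 : n83768 = n83760 := ((D83768).symm.trans (sb E58267 (iv6 D175413)))
theorem F305122 : act 6 n122988 = n69977 := (sb E58272 (iv6 D149116))
theorem F305123 : act 0 n105916 = n73316 := (sb E58273 (iv1 F241772))
theorem F305124 : act 1 n105916 = n73329 := (sb E58273 F241773)
theorem F305125 : act 6 n105916 = n58285 := (sb E58273 (iv6 D124704))
theorem F305126 : act 1 n85903 = n57855 := (sb E58274 F199721)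
theorem F305127 : act 2 n85903 = n57473 := (sb E58274 F197042)
theorem E61363 : n179858 = n58263 := ((D179858).symm.trans (sb E58274 F197043))
theorem F305128 : act 6 n85903 = n57214 := (sb E58274 (iv6 D122990))
theorem F305129 : act 7 n85903 = n57854 := (sb E58274 F199722)
theorem F305130 : act 0 n118095 = n57217 := (sb E58275 (iv1 D122994))
theorem F305131 : act 3 n118095 = n58269 := (sb E58275 (iv3 F197048))
theorem F305132 : act 7 n118095 = n72971 := (sb E58275 F197049)
theorem E61364 : n118652 = n60324 := ((D118652).symm.trans (sb E58276 (iv6 D128309)))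
theorem E61365 : n70397 = n34304 := (((E58642).symm.trans ((F98060).symm.trans (sb E58277 (iv6 D149819))))).symm
theorem E61366 : n143730 = n47257 := (((iv3 F226388)).symm.trans (sb E58279 (iv3 D101593)))
theorem F305133 : act 4 n67327 = n86448 := (sb E58279 F156510)
theorem E61367 : n143740 = n54335 := ((D143740).symm.trans (sb E58280 F184936))
theorem E61368 : n74817 = n54317 := (((iv0 F112275)).symm.trans (sb E58280 (iv0 D117917)))
theorem F305134 : act 2 n67326 = n54332 := (sb E58280 (iv2 F184951))
theorem E61369 : n116790 = n54333 := (((iv7 F182329)).symm.trans (sb E58280 (iv7 F184956)))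
theorem E61370 : n74818 = n71520 := (((D71520).symm.trans (sb E58281 F238760))).symm
theorem E61372 : n65124 = n49032 := ((((iv6 F302785)).symm.trans (sb E58282 (iv6 D138702)))).symm
theorem E61373 : n54331 = n31711 := ((((iv1 F54384)).symm.trans (sb E58283 F163084))).symm
theorem F305135 : act 6 n34279 = n71518 := (sb E58283 F299961)
theorem E61374 : n60372 = n31710 := (((F86026).symm.trans (sb E58283 F163083))).symm
theorem E61375 : n157128 = n71358 := (((F302852).symm.trans (sb E58284 (iv5 F247260)))).symm
theorem E61376 : n74581 = n55023 := ((((iv6 D119586)).symm.trans (sb E58284 (iv6 D156829)))).symm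
theorem F305136 : act 4 n119594 = n73706 := (sb E58285 (iv4 D155203))
theorem E61377 : n73707 = n62701 := (((F188626).symm.trans (sb E58285 F244062))).symm
theorem E61378 : n116776 = n55144 := ((((iv1 F87240)).symm.trans (sb E58287 D116776))).symm
theorem E61380 : n116773 = n72820 := ((((iv3 F190366)).symm.trans (sb E58287 (iv3 F182218)))).symm
theorem E61381 : n79089 = n26015 := ((D79089).symm.trans (sb E58287 (iv5 D53804)))
theorem E61382 : n56004 = n31307 := (((iv7 F120325)).symm.trans (sb E58287 F182235))
theorem E61383 : n127312 = n54320 := (((F184946).symm.trans (sb E58288 F247597))).symm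
theorem F305137 : act 5 n117920 = n157712 := (sb E58288 (iv5 F248531))
theorem E61384 : n120087 = n54421 := (((F184947).symm.trans (sb E58288 F247598))).symm
theorem E61385 : n145886 = n13229 := (((F41715).symm.trans (sb E58289 (iv3 F229052)))).symm
theorem E61386 : n127313 = n12474 := (((F41716).symm.trans (sb E58289 (iv4 F204537)))).symm
theorem E61387 : n68502 = n54334 := (((D54334).symm.trans (sb E58289 (iv5 F104704)))).symm
theorem E61388 : n31823 = n12473 := ((((iv6 D26264)).symm.trans (sb E58289 (iv6 D68408)))).symm
theorem F305138 : act 3 n67892 = n54332 := (sb E58290 (iv3 D117943))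
theorem E61389 : n166193 = n38522 := ((((iv4 F302786)).symm.trans (sb E58290 F261671))).symm
theorem F305139 : act 5 n67891 = n54332 := (sb E58291 (iv5 D117944))
theorem F305140 : act 7 n67343 = n54332 := (sb E58292 (iv7 F184953))
theorem E61391 : n151354 = n60184 := ((((iv1 F185361)).symm.trans (sb E58293 (iv1 F238069)))).symm
theorem F305141 : act 4 n32674 = n33763 := (sb E58293 (iv4 D73406))
theorem F305142 : act 0 n83550 = n130073 := (sb E58295 F213871)
theorem E61393 : n174918 = n79423 := ((D174918).symm.trans (sb E58295 (tr F213869 E60141)))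
theorem F305143 : act 1 n83551 = n130073 := (sb E58296 F244578)
theorem E61397 : n174928 = n133136 := ((D174928).symm.trans (sb E58297 (iv1 F213849)))
theorem E61398 : n174929 = n61207 := ((D174929).symm.trans (sb E58297 (iv0 D130449)))
theorem F305144 : act 2 n83552 = n133133 := (sb E58297 (iv2 F213838))
theorem E61399 : n174931 = n133134 := ((D174931).symm.trans (sb E58297 (iv7 F213840)))
theorem F305145 : act 2 n83553 = n130073 := (sb E58298 F213300)
theorem E61400 : n174917 = n143767 := (((iv3 F273820)).symm.trans (sb E58298 (iv3 F226426)))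
theorem F305146 : act 4 n83553 = n62811 := (sb E58298 F213301)
theorem F305148 : act 0 n105960 = n73706 := (sb E58315 F215142)
theorem F305149 : act 5 n105960 = n131096 := (sb E58315 F215141)
theorem E61414 : n86594 = n29206 := ((((iv1 F47773)).symm.trans (sb E58316 F187918))).symm
theorem E61415 : n175851 = n14115 := ((((iv0 D29723)).symm.trans (sb E58316 F275257))).symm
theorem E61416 : n173597 = n29203 := (((F57940).symm.trans (sb E58316 F274327))).symm
theorem E61417 : n62330 = n38661 := (((iv4 F185262)).symm.trans (sb E58316 (iv4 D83937)))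
theorem F305150 : act 4 n80220 = n61383 := (sb E58318 F207459)
theorem E61419 : n130070 = n60198 := (((F300874).symm.trans (sb E58318 (iv6 F208541)))).symm
theorem E61420 : n105964 = n76626 := ((((iv3 F114907)).symm.trans (sb E58322 (iv3 F191160)))).symm
theorem E61421 : n149048 = n130863 := ((((iv4 F209451)).symm.trans (sb E58322 (iv4 F234380)))).symm
theorem E61423 : n181169 = n29065 := ((((iv6 D61399)).symm.trans (sb E58322 D181169))).symm
theorem E61424 : n157410 = n57780 := ((D157410).symm.trans (sb E58323 (iv4 F301762)))
theorem F305151 : act 2 n86747 = n70395 := (sb E58324 F235654)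
theorem E61426 : n119317 = n105918 := (((iv4 F191111)).symm.trans (sb E58324 F235655))
theorem E61427 : n181722 = n70394 := ((D181722).symm.trans (sb E58324 (iv6 D149812)))
theorem E61428 : n79071 = n16606 := (((F54431).symm.trans (sb E58325 F242625))).symm
theorem E61429 : n74856 = n73256 := (((iv4 F112356)).symm.trans (sb E58325 (iv4 D154556)))
theorem F305152 : act 3 n123095 = n179981 := (sb E58328 (iv3 F280325))
theorem F305153 : act 5 n123095 = n171099 := (sb E58328 F280326)
theorem F305154 : act 6 n123095 = n85826 := (sb E58328 F280327)
theorem F305155 : act 0 n85902 = n57855 := (sb E58330 (iv1 F197375))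
theorem F305156 : act 2 n85902 = n57854 := (sb E58330 F198603)
theorem F305157 : act 7 n85902 = n57473 := (sb E58330 F199798)
theorem F305158 : act 0 n85904 = n57854 := (sb E58331 (iv1 F197382))
theorem F305159 : act 1 n85904 = n57473 := (sb E58331 F199796)
theorem F305160 : act 3 n85904 = n57817 := (sb E58331 F197378)
theorem F305161 : act 7 n85904 = n57855 := (sb E58331 F197379)
theorem F305162 : act 6 n124067 = n84708 := (sb E58334 (iv6 D177943))
theorem F305163 : act 5 n124069 = n125126 := (sb E58336 F250585)
theorem F305164 : act 2 n124070 = n179847 := (sb E58337 (iv2 F280082))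
theorem F305165 : act 5 n124070 = n84713 := (sb E58337 F250586)
theorem E61431 : n175150 = n166284 := (((D166284).symm.trans (sb E58338 F275548))).symm
theorem F305166 : act 4 n79850 = n38583 := (sb E58339 (iv4 D83709))
theorem F305167 : act 4 n79844 = n84064 := (sb E58340 (iv4 D176261))
theorem E61432 : n39343 = n28898 := ((((iv4 F46547)).symm.trans (sb E58344 F130414))).symm
theorem E61435 : n173898 = n62225 := ((((iv4 F96986)).symm.trans (sb E58345 F282475))).symm
theorem E61436 : n38660 = n38382 := ((((iv4 F303984)).symm.trans (sb E58346 (iv4 D83932)))).symm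
theorem E61439 : n38212 = n28942 := ((((iv1 D61075)).symm.trans (sb E58347 (iv1 D83033)))).symm
theorem E61440 : n62333 = n38662 := ((F97202).symm.trans (sb E58347 F127953))
theorem E61441 : n173601 = n119403 := ((((iv3 F304926)).symm.trans (sb E58347 D173601))).symm
theorem F305168 : act 0 n120523 = n85829 := (sb E58349 F250592)
theorem F305169 : act 1 n120523 = n81845 := (sb E58349 F250593)
theorem F305170 : act 0 n124182 = n84723 := (sb E58351 (iv1 F277246))
theorem F305171 : act 1 n124182 = n84722 := (sb E58351 F277247)
theorem F305172 : act 2 n124182 = n84726 := (sb E58351 F277243)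
theorem F305173 : act 5 n124182 = n84805 := (sb E58351 F277245)
theorem F305174 : act 7 n124182 = n84644 := (sb E58351 (iv7 D177772))
theorem F305175 : act 2 n124183 = n84727 := (sb E58352 F277248)
theorem E61444 : n40756 = n16244 := ((((iv4 F25802)).symm.trans (sb E58353 (iv4 D87563)))).symm
theorem F305176 : act 4 n27772 = n40755 := (sb E58354 (iv4 D87558))
theorem F305177 : act 4 n27770 = n47157 := (sb E58355 F151199)
theorem E61450 : n154856 = n118653 := ((((iv0 F232335)).symm.trans (sb E58359 F243561))).symm
theorem F305178 : act 3 n55190 = n54319 := (sb E58359 F110146)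
theorem E61451 : n146288 = n119912 := (((D119912).symm.trans (sb E58359 F229616))).symm
theorem F305179 : act 3 n153877 = n84708 := (sb E58365 F277211)
theorem F305180 : act 3 n154650 = n84640 := (sb E58366 F277216)
theorem F305181 : act 7 n154650 = n84695 := (sb E58366 F277217)
theorem E61452 : n148958 = n57325 := (((D57325).symm.trans (sb E58403 F238742))).symm
theorem F305182 : act 0 n33076 = n70487 := (sb E58404 (iv1 F119552))
theorem E61453 : n71495 = n35705 := ((D71495).symm.trans (sb E58404 (iv5 D78338)))
theorem E61454 : n34142 = n33085 := (((iv3 F53609)).symm.trans (iv3 (sb E58408 (tr F235801 E58764))))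
theorem E61455 : n85722 = n71523 := (((D71523).symm.trans (sb E58408 F235803))).symm
theorem F305183 : act 0 n33088 = n39444 := (sb E58411 (iv1 D85391))
theorem E61457 : n124912 = n71536 := (((D71536).symm.trans (sb E58411 F200623))).symm
theorem E61459 : n73775 = n73409 := (((D73409).symm.trans (sb E58443 D73775))).symm
theorem E61462 : n73782 = n73413 := (((D73413).symm.trans (sb E58444 F189335))).symm
theorem F305184 : act 4 n33779 = n57475 := (sb E58446 F188954)
theorem F305185 : act 6 n33779 = n55105 := (sb E58446 (iv6 D119753))
theorem F305186 : act 2 n33780 = n32674 := (sb E58447 F94672)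
theorem E61464 : n73463 = n41141 := (E60561).trans E61163
theorem E61465 : n127470 = n73464 := (((D73464).symm.trans (sb E58447 (iv5 F204893)))).symm
theorem F305187 : act 6 n33780 = n28563 := (sb E58447 (iv6 D60112))
theorem F305188 : act 3 n33785 = n28672 := (sb E58450 F110586)
theorem E61466 : n127665 = n73483 := (((D73483).symm.trans (sb E58450 (iv5 F205245)))).symm
theorem F305189 : act 7 n33785 = n32674 := (sb E58450 F110588)
theorem E61469 : n123952 = n86009 := (((D86009).symm.trans (sb E58465 (iv4 F260290)))).symm
theorem E61474 : n166027 = n74058 := ((((iv7 F110807)).symm.trans (sb E58478 (iv7 F261416)))).symm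
theorem F305190 : act 3 n85252 = n39439 := (sb E58482 (iv3 D85372))
theorem F305191 : act 4 n85252 = n124977 := (sb E58482 (iv4 F200736))
theorem E61476 : n178968 = n124981 := ((((iv6 F200750)).symm.trans (sb E58482 D178968))).symm
theorem E61477 : n179585 = n85051 := (((D85051).symm.trans (sb E58487 (iv4 F279658)))).symm
theorem F305192 : act 3 n39436 = n39607 := (sb E58488 (iv3 D85741))
theorem E61478 : n159119 = n85364 := (((D85364).symm.trans (sb E58488 (iv5 F250517)))).symm
theorem E61479 : n159943 = n58451 := ((((iv0 F200372)).symm.trans (sb E58489 (iv0 F252244)))).symm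
theorem F305193 : act 5 n39447 = n33095 := (sb E58490 (iv5 D71553))
theorem E61481 : n151787 = n85407 := (((D85407).symm.trans (sb E58490 (iv6 F238704)))).symm
theorem E61482 : n128135 = n85419 := (((D85419).symm.trans (sb E58491 (iv4 F206256)))).symm
theorem F305194 : act 6 n39450 = n55109 := (sb E58491 (iv6 D119765))
theorem E61483 : n125259 = n85424 := (((D85424).symm.trans (sb E58492 F244228))).symm
theorem F305195 : act 2 n58397 = n33787 := (sb E58495 F232656)
theorem E61484 : n124948 = n85685 := (((F131471).symm.trans (sb E58495 D124948))).symm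
theorem E61485 : n124919 = n120599 := ((D124919).symm.trans (sb E58495 (iv5 F232672)))
theorem F305196 : act 6 n58397 = n33764 := (sb E58495 (iv6 F232658))
theorem F305197 : act 0 n58394 = n33787 := (sb E58496 F232534)
theorem F305198 : act 3 n58394 = n39400 := (sb E58496 F92239)
theorem F305199 : act 6 n58394 = n27793 := (sb E58496 (iv6 D58396))
theorem F305200 : act 5 n34706 = n27794 := (sb E58497 (iv5 D58399))
theorem F305201 : act 7 n34706 = n39444 := (sb E58497 F92242)
theorem F305202 : act 1 n55026 = n67327 := (sb E58499 (iv0 F222150))
theorem E61488 : n65237 = n26599 := ((((iv6 D55026)).symm.trans (sb E58499 (iv6 D138979)))).symm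
theorem F305203 : act 5 n49814 = n67327 := (sb E58500 (iv5 D143743))
theorem E61489 : n70937 = n67331 := ((E58769).symm.trans ((D107862).symm.trans (sb E58500 F226411)))
theorem E61490 : n67324 = n33878 := ((D67324).symm.trans (sb E58501 F166643))
theorem E61491 : n67325 = n27018 := ((D67325).symm.trans (sb E58501 F166644))
theorem F305204 : act 2 n31302 = n35990 := (sb E58501 F166645)
theorem E61492 : n67315 = n26614 := (((iv3 F103199)).symm.trans (sb E58501 (iv3 D55062)))
theorem E61493 : n119673 = n14760 := ((((iv5 D31302)).symm.trans (sb E58501 D119673))).symm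
theorem E61494 : n53809 = n35991 := (((iv7 F182239)).symm.trans (sb E58501 F166647))
theorem E61495 : n131055 = n69456 := (((F131193).symm.trans (sb E58502 F226416))).symm
theorem F305205 : act 7 n73969 = n67327 := (sb E58502 (iv7 D143744))
theorem E61496 : n128049 = n83549 := (((iv4 F206055)).symm.trans (sb E58503 F273817))
theorem F305206 : act 6 n72820 = n83548 := (sb E58503 (iv6 D174913))
theorem E61497 : n179510 = n131339 := (((F210512).symm.trans (sb E58505 (iv7 F279486)))).symm
theorem F305207 : act 3 n131420 = n82998 := (sb E58507 F271919)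
theorem F305208 : act 6 n131420 = n82997 := (sb E58507 (iv6 D173459))
theorem F305209 : act 4 n131503 = n122991 := (sb E58508 F260203)
theorem F305210 : act 6 n131503 = n79280 := (sb E58508 (iv6 D165007))
theorem E61498 : n39549 = n29725 := ((((iv1 D62815)).symm.trans (sb E58509 (iv1 D85597)))).symm
theorem E61499 : n85645 = n61645 := (((F98024).symm.trans (sb E58509 F131347))).symm
theorem E61500 : n159084 = n61777 := ((((iv5 F98025)).symm.trans (sb E58509 (iv5 F250455)))).symm
theorem F305211 : act 6 n62815 = n40118 := (sb E58509 F300071)
theorem E61501 : n85644 = n61642 := ((((iv7 F110525)).symm.trans (sb E58509 F200258))).symm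
theorem E61502 : n118126 = n55120 := (E58887).trans E59356
theorem E61503 : n60384 = n34400 := (((iv1 F110506)).symm.trans (sb E58511 (iv1 F112602)))
theorem E61504 : n54416 = n34392 := (((iv0 F96358)).symm.trans (sb E58511 (iv0 D75092)))
theorem F305212 : act 4 n61776 = n35710 := (sb E58511 F112601)
theorem E61506 : n155436 = n29282 := ((((iv5 D61776)).symm.trans (sb E58511 (iv5 F244400)))).symm
theorem E61507 : n120235 = n60374 := ((((iv7 F110519)).symm.trans (sb E58511 (iv7 F191439)))).symm
theorem E61508 : n68737 = n61579 := ((F184447).symm.trans (sb E58512 (iv1 D131242)))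
theorem E61509 : n131056 = n68732 := ((((iv0 F184448)).symm.trans (sb E58512 F210293))).symm
theorem F305213 : act 4 n117767 = n61640 := (sb E58512 F210295)
theorem E61510 : n69590 = n67344 := ((F184446).symm.trans (sb E58512 F210294))
theorem E61511 : n124056 = n61632 := ((((iv3 F96194)).symm.trans (sb E58513 F300085))).symm
theorem E61512 : n61644 = n39602 := ((D61644).symm.trans (sb E58513 F131231))
theorem E61513 : n150017 = n13892 := ((((iv5 D29205)).symm.trans (sb E58513 (iv5 F235997)))).symm
theorem F305214 : act 0 n39569 = n61640 := (sb E58514 (iv1 F109933))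
theorem E61515 : n127944 = n18736 := ((((iv3 D39569)).symm.trans (sb E58514 F205894))).symm
theorem E61516 : n129638 = n18770 := (((F60442).symm.trans (sb E58514 (iv4 F207820)))).symm
theorem E61517 : n85646 = n29726 := ((D85646).symm.trans (sb E58514 F98027))
theorem E61518 : n85647 = n68107 := ((D85647).symm.trans (sb E58514 (iv6 F104255)))
theorem E61519 : n150418 = n61836 := (((F166866).symm.trans (sb E58515 F279477))).symm
theorem E61520 : n127939 = n120649 := ((F209882).symm.trans (sb E58515 F279478))
theorem E61522 : n162931 = n128070 := (((iv1 F257266)).symm.trans (sb E58517 F244214))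
theorem E61523 : n162862 = n119747 := ((D162862).symm.trans (iv5 (sb E58517 (tr (iv5 F266064) E58888))))
theorem F305217 : act 2 n55738 = n60378 := (sb E58520 F206516)
theorem E61524 : n160005 = n120878 := ((((iv3 F192786)).symm.trans (sb E58520 F302860))).symm
theorem E61525 : n120882 = n60374 := (E58584).trans E61507
theorem E61527 : n70745 = n55140 := ((D70745).symm.trans (sb E58521 F185616))
theorem E61528 : n70746 = n54418 := ((D70746).symm.trans (sb E58521 (iv6 D118133)))
theorem E61532 : n73714 = n70753 := (((D70753).symm.trans (sb E58524 F206526))).symm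
theorem E61534 : n150459 = n35709 := (((D35709).symm.trans (sb E58526 (iv1 F236911)))).symm
theorem E61536 : n160004 = n35707 := ((((iv3 F56384)).symm.trans (sb E58526 F302863))).symm
theorem F305218 : act 0 n179597 = n166049 := (sb E58528 F302866)
theorem F305219 : act 3 n179597 = n86023 := (sb E58528 (iv3 D180008))
theorem E61537 : n148939 = n133965 := (((F222402).symm.trans (sb E58530 (iv0 F252343)))).symm
theorem F305220 : act 3 n139204 = n75996 := (sb E58530 F302262)
theorem F305221 : act 4 n139204 = n71016 := (sb E58530 F237186)
theorem E61538 : n167871 = n133819 := (((F282936).symm.trans (sb E58530 (iv6 F264506)))).symm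
theorem F305222 : act 7 n139204 = n71009 := (sb E58530 (iv7 D150641))
theorem F305225 : act 3 n154008 = n73738 := (sb E58533 F244156)
theorem E61539 : n154208 = n101278 := (((iv7 F242316)).symm.trans (sb E58533 F244157))
theorem E61541 : n179978 = n175424 := (((F299902).symm.trans (sb E58535 F280301))).symm
theorem F305226 : act 5 n96787 = n127443 := (sb E58535 F204844)
theorem F305227 : act 6 n96787 = n57678 := (sb E58535 (iv6 D123737))
theorem F305228 : act 6 n41129 = n57660 := (sb E58536 (iv6 D123687))
theorem F305229 : act 5 n68460 = n86606 := (sb E58537 (iv5 D181398))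
theorem F305230 : act 6 n40232 = n86606 := (sb E58538 (iv6 D181399))
theorem E61542 : n127442 = n103702 := ((((iv5 F159152)).symm.trans (sb E58539 F234783))).symm
theorem E61543 : n170668 = n88085 := (((D88085).symm.trans (sb E58540 F268140))).symm
theorem E61546 : n177136 = n103702 := (((E61542).symm.trans (((iv2 F204852)).symm.trans (sb E58541 (iv2 F276557))))).symm
theorem E61547 : n177142 = n146026 := (((D146026).symm.trans (sb E58541 (iv3 F276559)))).symm
theorem E61548 : n177148 = n120581 := ((((iv4 F259443)).symm.trans (sb E58541 (iv4 F276562)))).symm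
theorem E61549 : n146029 = n38924 := ((D146029).symm.trans (sb E58541 (iv6 D84417)))
theorem E61551 : n83939 = n83553 := ((((iv4 F305146)).symm.trans (sb E58547 F275263))).symm
theorem E61552 : n181029 = n61671 := (((F184650).symm.trans (sb E58549 F281872))).symm
theorem E61553 : n86621 = n62860 := ((((iv5 F98084)).symm.trans (sb E58562 F286757))).symm
theorem E61554 : n182083 = n127691 := ((((iv5 F205282)).symm.trans (sb E58563 (iv5 F283484)))).symm
theorem F305232 : act 7 n60060 = n40376 := (sb E58563 (iv7 D86960))
theorem F305233 : act 0 n60126 = n40376 := (sb E58564 (iv1 D86958))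
theorem F305234 : act 1 n60127 = n40376 := (sb E58565 (iv0 D86957))
theorem E61563 : n181432 = n120097 := ((((iv1 F241037)).symm.trans (sb E58566 (iv1 F282545)))).symm
theorem E61564 : n182081 = n127979 := (((D127979).symm.trans (sb E58566 F283485))).symm
theorem F305235 : act 7 n60128 = n80463 := (sb E58566 (iv7 D167666))
theorem F305236 : act 6 n70995 = n69819 := (sb E58567 (iv6 D148929))
theorem F305237 : act 3 n70996 = n80463 := (sb E58568 F234010)
theorem E61565 : n150625 = n69823 := ((D150625).symm.trans (sb E58568 F234011))
theorem F305238 : act 5 n70754 = n69810 := (sb E58569 F215169)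
theorem E61566 : n150274 = n62761 := ((D150274).symm.trans (sb E58569 (iv6 D133701)))
theorem E61567 : n84397 = n29193 := (((D29193).symm.trans (sb E58570 (iv5 D177081)))).symm
theorem E61568 : n75839 = n14136 := (((F54234).symm.trans (sb E58571 F113732))).symm
theorem E61569 : n148477 = n29279 := (((F54235).symm.trans (sb E58571 (iv0 F233230)))).symm
theorem E61570 : n62763 = n32799 := ((D62763).symm.trans (sb E58571 F107227))
theorem F305239 : act 6 n29691 = n32798 := (sb E58571 (iv6 D70755))
theorem F305240 : act 0 n70499 = n69832 := (sb E58573 (iv1 F234088))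
theorem F305241 : act 1 n70499 = n69827 := (sb E58573 (iv0 D148954))
theorem F305242 : act 7 n70499 = n76592 := (sb E58573 F234089)
theorem E61573 : n86620 = n62866 := ((D86620).symm.trans (sb E58575 F210342))
theorem E61574 : n62864 = n47167 := ((((iv2 F74454)).symm.trans (sb E58575 F166835))).symm
theorem F305243 : act 3 n40152 = n49864 := (sb E58575 (iv3 D107966))
theorem E61575 : n86622 = n60110 := ((D86622).symm.trans (sb E58575 F185323))
theorem E61576 : n60109 = n18972 := (((F61054).symm.trans (sb E58575 (iv6 F185321)))).symm
theorem E61577 : n86623 = n62865 := ((D86623).symm.trans (sb E58575 F166834))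
theorem E61578 : n133585 = n86599 := ((F214897).symm.trans (sb E58576 F282453))
theorem E61579 : n86597 = n65343 := ((D86597).symm.trans (sb E58577 F185329))
theorem E61580 : n157445 = n86598 := (((D86598).symm.trans (sb E58577 (iv0 F248034)))).symm
theorem F305244 : act 6 n40146 = n49864 := (sb E58577 (iv6 D107968))
theorem E61581 : n85671 = n60107 := (((iv7 F131398)).symm.trans (sb E58577 (iv7 F185328)))
theorem F305245 : act 4 n60374 = n55738 := (sb E61525 (iv4 D120882))
theorem F305246 : act 6 n31710 = n55738 := (sb E58585 (iv6 D120883))
theorem F305247 : act 4 n162002 = n80487 := (sb E58589 F263259)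
theorem F305249 : act 4 n79019 = n161332 := (sb E58592 (iv4 F255150))
theorem F305251 : act 4 n121034 = n80491 := (sb E58603 F264039)
theorem F305253 : act 4 n32705 = n35014 := (sb E58605 F114887)
theorem F305254 : act 7 n32705 = n35010 := (sb E58605 (iv7 D76611))
theorem E61583 : n154946 = n127967 := ((D154946).symm.trans (sb E58609 (iv4 F205938)))
theorem E61584 : n68392 = n4673 := ((((iv6 D10310)).symm.trans (sb E58613 F112199))).symm
theorem E61588 : n68380 = n15644 := (((F26849).symm.trans (sb E58615 F104558))).symm
theorem F305255 : act 4 n32718 = n49815 := (sb E58616 F100863)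
theorem F305256 : act 4 n33083 = n16626 := (sb E58617 F53613)
theorem E61594 : n74442 = n71518 := (((D71518).symm.trans (sb E58617 D74442))).symm
theorem E61595 : n74986 = n7419 := ((((iv1 F20891)).symm.trans (sb E58620 (iv1 F183248)))).symm
theorem E61597 : n138863 = n5962 := ((((iv5 D12540)).symm.trans (sb E58620 F222021))).symm
theorem E61599 : n108395 = n32851 := (((D32851).symm.trans (sb E58621 (iv3 F167575)))).symm
theorem E61600 : n49029 = n15436 := ((((iv5 F26750)).symm.trans (sb E58621 F79224))).symm
theorem E61601 : n32852 = n24409 := ((D32852).symm.trans (sb E58621 (iv6 D50053)))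
theorem E61602 : n60392 = n15435 := ((((iv5 F26748)).symm.trans (sb E58622 F166869))).symm
theorem E61603 : n62810 = n32850 := (((D32850).symm.trans (sb E58622 F166870))).symm
theorem E61604 : n26285 = n12373 := ((((iv1 D26109)).symm.trans (sb E58623 F50209))).symm
theorem E61605 : n26290 = n14976 := (((F41295).symm.trans (sb E58623 F50210))).symm
theorem E61606 : n30787 = n15047 := ((F180997).symm.trans (sb E58623 (iv4 D31900)))
theorem F305257 : act 5 n26109 = n21578 := (sb E58623 F50207)
theorem E61607 : n15054 = n14973 := ((((iv7 F131105)).symm.trans (sb E58623 F50208))).symm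
theorem F305258 : act 3 n54560 = n34231 := (sb E58625 F112111)
theorem E61610 : n157120 = n73978 := ((((iv5 F131211)).symm.trans (sb E58625 D157120))).symm
theorem E61611 : n85272 = n34230 := (((iv6 F200244)).symm.trans (sb E58625 (iv6 D74700)))
theorem E61612 : n49826 = n34266 := (((F112114).symm.trans (sb E58626 (iv6 D107888)))).symm
theorem F305259 : act 7 n74703 = n73706 := (sb E58626 F166694)
theorem E61613 : n73692 = n7691 := ((((iv1 D16563)).symm.trans (sb E58627 (iv1 F189042)))).symm
theorem E61614 : n70558 = n7731 := (((F26225).symm.trans (sb E58627 F189043))).symm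
theorem E61615 : n72199 = n7708 := (((F26227).symm.trans (sb E58627 F189040))).symm
theorem E61616 : n55129 = n14528 := (((F26226).symm.trans (sb E58627 (iv7 D119804)))).symm
theorem E61617 : n34733 = n24403 := ((((iv3 F38251)).symm.trans (sb E58628 (iv3 D76011)))).symm
theorem E61619 : n150480 = n24411 := (((D24411).symm.trans (sb E58628 F236952))).symm
theorem E61621 : n70366 = n11449 := (((D11449).symm.trans (sb E58629 (iv6 D149790)))).symm
theorem E61622 : n58582 = n7701 := (((D7701).symm.trans (sb E58630 (iv1 D125228)))).symm
theorem F305260 : act 3 n54610 = n62831 := (sb E58632 (iv3 D133793))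
theorem F305261 : act 5 n49815 = n62831 := (sb E58633 (iv5 D133794))
theorem E61625 : n149559 = n70540 := ((((iv1 F106996)).symm.trans (sb E58634 (iv1 F235166)))).symm
theorem E61626 : n65364 = n33271 := (((F185042).symm.trans (sb E58634 F235167))).symm
theorem E61627 : n107862 = n67331 := (E58769).trans E61489
theorem F305262 : act 6 n54852 = n62831 := (sb E58634 (iv6 D133795))
theorem F305263 : act 3 n72347 = n62832 := (sb E58637 F215424)
theorem E61629 : n108214 = n74862 := ((((iv6 F190824)).symm.trans (sb E58637 F215425))).symm
theorem E61630 : n124838 = n62826 := (((D62826).symm.trans (sb E58638 (iv1 F200509)))).symm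
theorem E61631 : n151177 = n62827 := (((D62827).symm.trans (sb E58638 F237874))).symm
theorem E61632 : n153225 = n24368 := (((F47806).symm.trans (sb E58638 D153225))).symm
theorem F305264 : act 6 n29733 = n33387 := (sb E58638 (iv6 D72348))
theorem F305265 : act 1 n105960 = n62832 := (sb E58639 (iv0 D133796))
theorem F305266 : act 0 n86600 = n62832 := (sb E58640 (iv1 D133797))
theorem F305267 : act 4 n119586 = n62832 := (sb E58641 (iv4 D133798))
theorem E61634 : n108216 = n55023 := ((((iv6 D119586)).symm.trans (sb E58641 F215430))).symm
theorem E61635 : n66478 = n49828 := ((((iv1 F78764)).symm.trans (sb E58642 (iv1 F102364)))).symm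
theorem E61636 : n108215 = n16606 := ((((iv0 D34304)).symm.trans (sb E58642 D108215))).symm
theorem E61637 : n72194 = n24369 := (((iv5 F108628)).symm.trans (sb E58642 (iv5 D49978)))
theorem F305268 : act 6 n34304 = n62832 := (sb E58642 (iv6 F98060))
theorem F305269 : act 7 n119826 = n62832 := (sb E58643 (iv7 D133799))
theorem E61639 : n151216 = n14526 := ((((iv3 F24163)).symm.trans (sb E58644 (iv3 F237927)))).symm
theorem E61641 : n32982 = n3123 := ((((iv5 D6936)).symm.trans (sb E58644 (iv5 D71268)))).symm
theorem E61643 : n39380 = n26721 := (((D26721).symm.trans (sb E58645 F162932))).symm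
theorem E61644 : n149781 = n6042 := ((((iv4 D12774)).symm.trans (sb E58645 (iv4 F235600)))).symm
theorem E61645 : n32983 = n7692 := (((F21208).symm.trans (sb E58645 (iv5 D71272)))).symm
theorem E61646 : n54422 = n26722 := (((D26722).symm.trans (sb E58645 F107765))).symm
theorem E61647 : n72198 = n14484 := ((((iv1 F24128)).symm.trans (sb E58646 (iv1 F187066)))).symm
theorem E61648 : n72197 = n13852 := ((((iv0 F23124)).symm.trans (sb E58646 (iv0 F187070)))).symm
theorem E61649 : n85731 = n5347 := ((((iv4 D11488)).symm.trans (sb E58646 (iv4 F201414)))).symm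
theorem E61650 : n54743 = n7699 := (((F18776).symm.trans (sb E58646 (iv7 D118957)))).symm
theorem E61651 : n34229 = n16366 := ((D34229).symm.trans (sb E58647 (iv6 D33858)))
theorem E61652 : n65357 = n55127 := ((((iv1 F87194)).symm.trans (sb E58648 (iv1 F112102)))).symm
theorem E61653 : n65356 = n55126 := (((F87191).symm.trans (sb E58648 F112103))).symm
theorem F305270 : act 4 n26642 = n34271 := (sb E58648 F112099)
theorem E61655 : n35283 = n24400 := (((D24400).symm.trans (sb E58649 (iv0 F297136)))).symm
theorem E61656 : n35281 = n24398 := ((((iv2 F38247)).symm.trans (sb E58649 (iv2 F297133)))).symm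
theorem E61657 : n26840 = n24401 := (((D24401).symm.trans (sb E58649 (iv4 D55600)))).symm
theorem E61658 : n96198 = n5364 := ((((iv5 D11503)).symm.trans (sb E58649 F147933))).symm
theorem E61659 : n34788 = n24402 := (((D24402).symm.trans (sb E58649 F87943))).symm
theorem E61660 : n26845 = n24406 := (((D24406).symm.trans (sb E58650 (iv3 D55612)))).symm
theorem E61661 : n32926 = n11428 := (((F18818).symm.trans (sb E58650 (iv5 F109855)))).symm
theorem E61662 : n32793 = n24407 := (((D24407).symm.trans (sb E58650 F87966))).symm
theorem E61666 : n58581 = n14121 := (((D14121).symm.trans (sb E58652 (iv5 D125225)))).symm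
theorem E61667 : n18732 = n14114 := ((((iv3 F23594)).symm.trans (sb E58653 F60432))).symm
theorem E61669 : n18731 = n14116 := (((D14116).symm.trans (sb E58653 (iv5 D39548)))).symm
theorem E61671 : n70447 = n26698 := ((((iv5 F42801)).symm.trans (sb E58659 (iv5 F106908)))).symm
theorem E61672 : n162780 = n108369 := (((D108369).symm.trans (sb E58660 D162780))).symm
theorem E61673 : n74390 = n35664 := (((iv4 F209036)).symm.trans (sb E58660 (iv4 D78253)))
theorem E61674 : n149854 = n108371 := (((D108371).symm.trans (sb E58660 (iv5 F235704)))).symm
theorem E61675 : n108372 = n70390 := ((D108372).symm.trans (sb E58660 F119444))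
theorem E61676 : n108364 = n80456 := ((D108364).symm.trans (sb E58661 F299110))
theorem E61677 : n74389 = n35663 := (((iv4 F209033)).symm.trans (sb E58661 (iv4 D78251)))
theorem E61678 : n149855 = n108366 := (((D108366).symm.trans (sb E58661 (iv5 F235708)))).symm
theorem E61679 : n127737 = n108367 := (((D108367).symm.trans (sb E58661 (iv6 F205344)))).symm
theorem E61680 : n54420 = n34016 := ((((iv1 F87444)).symm.trans (sb E58662 (iv1 D118139)))).symm
theorem E61681 : n58103 = n34015 := (((F87445).symm.trans (sb E58662 F185632))).symm
theorem E61682 : n120084 = n55879 := (((iv4 F189675)).symm.trans (sb E58662 F185635))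
theorem F305271 : act 1 n61733 = n89258 := (sb E58663 (iv0 F136976))
theorem F305272 : act 2 n61733 = n79008 := (sb E58663 F123220)
theorem E61683 : n131563 = n36539 := ((D131563).symm.trans (sb E58663 (iv3 D80211)))
theorem E61684 : n131565 = n75525 := ((D131565).symm.trans (sb E58663 F123221))
theorem F305273 : act 7 n61733 = n55309 := (sb E58663 F300205)
theorem F305274 : act 0 n61732 = n89258 := (sb E58664 F136977)
theorem F305275 : act 2 n61732 = n55309 := (sb E58664 F299164)
theorem E61685 : n131558 = n33246 := ((D131558).symm.trans (sb E58664 (iv3 D71959)))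
theorem E61686 : n131560 = n98221 := ((D131560).symm.trans (sb E58664 (iv5 F151560)))
theorem E61687 : n131561 = n38550 := ((D131561).symm.trans (sb E58664 F299165))
theorem F305276 : act 7 n61732 = n79008 := (sb E58664 (iv7 F120191))
theorem F305277 : act 1 n61749 = n73704 := (sb E58665 (iv0 D155198))
theorem F305278 : act 0 n61748 = n73704 := (sb E58666 (iv1 D155199))
theorem F305279 : act 2 n61747 = n73704 := (sb E58667 (iv2 D155200))
theorem F305280 : act 5 n74146 = n73704 := (sb E58668 F235725)
theorem F305281 : act 7 n50038 = n73704 := (sb E58669 F189033)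
theorem E61688 : n65355 = n54943 := ((((iv7 F86904)).symm.trans (sb E58670 (iv7 D139247)))).symm
theorem E61689 : n157110 = n34683 := (((F130850).symm.trans (sb E58671 D157110))).symm
theorem E61690 : n73689 = n34341 := ((D73689).symm.trans (sb E58671 F208102))
theorem E61692 : n157112 = n34680 := ((((iv6 F130851)).symm.trans (sb E58671 D157112))).symm
theorem E61693 : n157107 = n73685 := (((D73685).symm.trans (sb E58672 D157107))).symm
theorem E61694 : n73686 = n34340 := ((D73686).symm.trans (sb E58672 F208099))
theorem E61696 : n157109 = n73687 := (((D73687).symm.trans (sb E58672 D157109))).symm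
theorem E61699 : n65358 = n12730 := (((F42345).symm.trans (sb E58673 (iv7 D139255)))).symm
theorem F305282 : act 4 n26640 = n24405 := (sb E58674 F49108)
theorem E61700 : n108318 = n80458 := ((((iv1 F123683)).symm.trans (sb E58675 F209888))).symm
theorem E61701 : n108333 = n76854 := ((((iv2 F115471)).symm.trans (sb E58675 F209886))).symm
theorem F305283 : act 3 n36686 = n34270 := (sb E58675 (iv3 D74800))
theorem E61703 : n157312 = n80466 := (((D80466).symm.trans (sb E58675 D157312))).symm
theorem E61704 : n108341 = n26839 := ((((iv6 F297844)).symm.trans (sb E58675 (iv6 F209884)))).symm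
theorem E61705 : n30535 = n15594 := ((((iv1 D32708)).symm.trans (sb E58676 (iv1 D65012)))).symm
theorem E61706 : n138420 = n26844 := ((((iv3 F130824)).symm.trans (sb E58676 D138420))).symm
theorem E61707 : n138421 = n36829 := (((F303015).symm.trans (sb E58676 D138421))).symm
theorem E61709 : n118132 = n40247 := (((F112255).symm.trans (sb E58677 F235822))).symm
theorem E61710 : n128480 = n118129 := ((F206632).symm.trans (sb E58677 F235823))
theorem E61711 : n85512 = n76152 := ((F215862).symm.trans (sb E58677 F235820))
theorem E61712 : n70576 = n49876 := ((F130796).symm.trans (sb E58678 (iv0 F112257)))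
theorem F305284 : act 6 n55595 = n34270 := (sb E58678 (iv6 D74803))
theorem E61716 : n138419 = n70494 := (((D70494).symm.trans (sb E58680 D138419))).symm
theorem E61717 : n85511 = n78385 := (((iv4 F215877)).symm.trans (sb E58681 F235812))
theorem E61721 : n157311 = n150419 := ((D157311).symm.trans (sb E58682 (iv7 F236796)))
theorem F305285 : act 1 n32692 = n34017 := (sb E58683 F87438)
theorem E61723 : n74038 = n58105 := ((((iv4 F91901)).symm.trans (sb E58683 (iv4 F215864)))).symm
theorem E61725 : n120090 = n70276 := ((((iv6 F106717)).symm.trans (sb E58683 D120090))).symm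
theorem F305286 : act 0 n39078 = n34017 := (sb E58684 (iv1 F87443))
theorem E61726 : n120085 = n84617 := (((D84617).symm.trans (sb E58684 D120085))).symm
theorem E61727 : n74037 = n18557 := ((((iv4 D39078)).symm.trans (sb E58684 (iv4 F215867)))).symm
theorem E61728 : n84618 = n39617 := ((D84618).symm.trans (sb E58684 F112683))
theorem E61729 : n119993 = n55883 := ((((iv1 F88401)).symm.trans (sb E58685 (iv1 F208095)))).symm
theorem E61730 : n119991 = n17322 := ((((iv0 D35744)).symm.trans (sb E58685 (iv0 F208096)))).symm
theorem E61731 : n155920 = n78442 := (((D78442).symm.trans (sb E58685 (iv3 F244905)))).symm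
theorem F305287 : act 4 n35744 = n34017 := (sb E58685 F110870)
theorem E61732 : n155924 = n18527 := (((F56419).symm.trans (sb E58685 (iv5 F244909)))).symm
theorem E61733 : n120096 = n78443 := (((D78443).symm.trans (sb E58685 (iv6 F189708)))).symm
theorem E61734 : n55880 = n34014 := (((iv7 F88389)).symm.trans (sb E58685 (iv7 D74154)))
theorem F305288 : act 3 n40719 = n60037 := (sb E58688 (iv3 F94541))
theorem E61735 : n107936 = n75007 := ((((iv4 F112543)).symm.trans (sb E58688 (iv4 F166806)))).symm
theorem E61736 : n87495 = n24312 := ((D87495).symm.trans (sb E58688 (iv6 D49855)))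
theorem E61743 : n31709 = n30562 := (((iv6 F305051)).symm.trans (sb E58692 F100862))
theorem E61744 : n58614 = n6925 := ((((iv5 D14497)).symm.trans (sb E58693 (iv5 F199758)))).symm
theorem F305289 : act 6 n14497 = n26325 := (sb E58693 (iv6 D54435))
theorem E61747 : n108291 = n32834 := (((F51989).symm.trans (sb E58699 F229013))).symm
theorem E61748 : n76693 = n32865 := (((D32865).symm.trans (sb E58700 (iv4 D160130)))).symm
theorem E61749 : n141003 = n32866 := (((D32866).symm.trans (sb E58700 F252731))).symm
theorem E61750 : n68605 = n32856 := (((D32856).symm.trans (sb E58702 F183217))).symm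
theorem F305290 : act 0 n70235 = n32833 := (sb E58703 (iv1 D70846))
theorem E61751 : n150393 = n32598 := ((((iv5 D70235)).symm.trans (sb E58703 D150393))).symm
theorem F305293 : act 7 n70235 = n32854 := (sb E58703 F185134)
theorem E61753 : n150476 = n32600 := ((((iv1 F85794)).symm.trans (sb E58705 (iv1 F236947)))).symm
theorem F305295 : act 0 n70239 = n32857 := (sb E58707 (iv1 F107323))
theorem F305296 : act 1 n70239 = n32833 := (sb E58707 (iv0 D70845))
theorem F305297 : act 2 n70239 = n32854 := (sb E58707 F185131)
theorem E61760 : n150389 = n149565 := ((((iv3 F235175)).symm.trans (sb E58707 D150389))).symm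
theorem F305298 : act 7 n70239 = n32855 := (sb E58707 F185132)
theorem E61762 : n157135 = n72401 := ((((iv3 F190138)).symm.trans (sb E58708 (iv3 F247276)))).symm
theorem E61763 : n157138 = n119196 := (((D119196).symm.trans (sb E58708 D157138))).symm
theorem E61764 : n76749 = n34232 := (((iv6 F115121)).symm.trans (sb E58708 (iv6 D74709)))
theorem F305299 : act 5 n54361 = n32854 := (sb E58709 (iv5 D70913))
theorem E61768 : n150481 = n108401 := (((D108401).symm.trans (sb E58710 D150481))).symm
theorem F305300 : act 6 n50055 = n32854 := (sb E58710 (iv6 D70914))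
theorem E61770 : n149857 = n76795 := (((iv1 F235715)).symm.trans (sb E58712 F215462))
theorem E61771 : n150395 = n79770 := ((F236733).symm.trans (sb E58712 (iv0 F215464)))
theorem F305302 : act 6 n70923 = n117922 := (sb E58712 F215460)
theorem E61774 : n118130 = n68106 := (((F106675).symm.trans (sb E58713 (iv5 F185610)))).symm
theorem E61778 : n125231 = n61602 := ((((iv5 F109896)).symm.trans (sb E58714 F201371))).symm
theorem E61781 : n68609 = n54028 := ((F107320).symm.trans (sb E58715 (iv6 D117225)))
theorem F305303 : act 7 n70847 = n117961 := (sb E58715 (iv7 F185021))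
theorem F305304 : act 4 n55407 = n32753 := (sb E58719 (iv4 F302929))
theorem F305305 : act 1 n60121 = n60119 := (sb E58720 F190257)
theorem F305307 : act 0 n75006 = n88819 := (sb E58722 (iv1 F286473))
theorem E61782 : n118737 = n88812 := ((D118737).symm.trans (sb E58723 F286469))
theorem F305308 : act 3 n54670 = n88846 := (sb E58724 F289344)
theorem F305309 : act 5 n54670 = n88819 := (sb E58724 F289345)
theorem F305310 : act 0 n122599 = n107945 := (sb E58726 (iv1 F247537))
theorem F305311 : act 1 n122599 = n74795 := (sb E58726 (iv0 D157305))
theorem F305312 : act 3 n122599 = n133757 := (sb E58726 F247536)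
theorem F305313 : act 5 n122599 = n159402 := (sb E58726 (iv5 F251005))
theorem F305314 : act 7 n122599 = n107928 := (sb E58726 F247538)
theorem E61783 : n186477 = n71664 := ((D186477).symm.trans (sb E58727 F238863))
theorem F305315 : act 6 n49850 = n56915 := (sb E58728 (iv6 D122598))
theorem E61787 : n151488 = n56979 := (((D56979).symm.trans (sb E58730 D151488))).symm
theorem E61789 : n56980 = n33049 := ((D56980).symm.trans (sb E58730 F107916))
theorem E61790 : n105775 = n45432 := ((((iv1 F71692)).symm.trans (sb E58731 (iv1 F214890)))).symm
theorem E61791 : n105801 = n45431 := (((F71691).symm.trans (sb E58731 (iv0 F214891)))).symm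
theorem F305316 : act 3 n44765 = n26109 := (sb E58731 (iv3 D53988))
theorem E61793 : n117147 = n31919 := (((F70352).symm.trans (sb E58731 D117147))).symm
theorem E61794 : n31919 = n31813 := ((F70353).symm.trans (sb E58731 F131100))
theorem F305317 : act 5 n118647 = n87358 := (sb E58733 (iv5 D182985))
theorem E61798 : n86573 = n74381 := (((D74381).symm.trans (sb E60755 (iv1 F159705)))).symm
theorem E61799 : n86572 = n74382 := (((D74382).symm.trans (sb E60755 F159706))).symm
theorem E61800 : n86575 = n74379 := ((((iv2 F111599)).symm.trans (sb E60755 F159701))).symm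
theorem E61801 : n74383 = n48209 := ((D74383).symm.trans (sb E60755 F159702))
theorem E61802 : n74384 = n35661 := ((D74384).symm.trans (sb E60755 (tr F159703 E58793)))
theorem F305318 : act 1 n71555 = n72374 := (sb E58736 (iv0 F210698))
theorem E61804 : n131567 = n119436 := ((D131567).symm.trans (sb E58737 F188198))
theorem E61805 : n131568 = n38491 := ((D131568).symm.trans (sb E58737 F127891))
theorem F305319 : act 2 n61734 = n38189 := (sb E58737 (iv2 D82972))
theorem E61806 : n131569 = n44902 := ((D131569).symm.trans (sb E58737 F127890))
theorem E61807 : n173383 = n131554 := ((((iv6 F210803)).symm.trans (sb E58737 D173383))).symm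
theorem E61810 : n131437 = n89260 := ((D131437).symm.trans (sb E58739 (iv2 F136980)))
theorem E61811 : n173396 = n131438 := (((D131438).symm.trans (sb E58739 D173396))).symm
theorem F305320 : act 6 n61688 = n38191 := (sb E58739 (iv6 D82977))
theorem F305321 : act 6 n75599 = n61733 := (sb E58740 (iv6 D131566))
theorem E61813 : n158467 = n71861 := ((D158467).symm.trans (sb E58741 F236963))
theorem E61814 : n158468 = n70916 := ((D158468).symm.trans (sb E58741 (iv4 D150486)))
theorem E61815 : n158461 = n72044 := ((F249674).symm.trans (sb E58741 F236964))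
theorem F305322 : act 2 n72042 = n75323 := (sb E58742 F249096)
theorem F305323 : act 3 n72042 = n75590 := (sb E58742 F249097)
theorem F305324 : act 6 n72042 = n75320 := (sb E58742 (iv6 D158144))
theorem E61816 : n183743 = n33665 := (((F107953).symm.trans (sb E58744 (iv5 F289342)))).symm
theorem E61817 : n88832 = n33056 := (((D33056).symm.trans (sb E58745 F289343))).symm
theorem E61818 : n151541 = n88830 := (((D88830).symm.trans (sb E58746 D151541))).symm
theorem E61819 : n151542 = n88831 := (((D88831).symm.trans (sb E58746 D151542))).symm
theorem F305325 : act 6 n41471 = n33055 := (sb E58746 (iv6 D71441))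
theorem E61822 : n154818 = n148678 := (((iv3 F243516)).symm.trans (sb E58747 F289329))
theorem F305326 : act 6 n73421 = n88814 := (sb E58747 (iv6 D186464))
theorem E61823 : n74965 = n7360 := ((((iv4 D15635)).symm.trans (sb E58748 (iv4 F112484)))).symm
theorem E61824 : n28681 = n26279 := ((((iv5 F41828)).symm.trans (sb E58748 F78870))).symm
theorem E61825 : n32728 = n24320 := ((D32728).symm.trans (sb E58748 (iv6 D49878)))
theorem E61826 : n118025 = n117157 := ((D118025).symm.trans (sb E58749 F183270))
theorem E61827 : n128419 = n98772 := ((((iv0 F296805)).symm.trans (sb E58749 D128419))).symm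
theorem E61828 : n128418 = n118027 := (((D118027).symm.trans (sb E58749 (iv4 F206544)))).symm
theorem E61829 : n118028 = n28676 := ((D118028).symm.trans (sb E58749 (iv6 D60382)))
theorem F305327 : act 6 n29283 = n32727 := (sb E58750 (iv6 D70549))
theorem E61834 : n117130 = n70899 := (((F107429).symm.trans (sb E58751 F210832))).symm
theorem E61835 : n145836 = n32737 := (((F59380).symm.trans (sb E58751 (iv2 F228992)))).symm
theorem F305328 : act 3 n38551 = n61814 := (sb E58751 F228039)
theorem E61836 : n145948 = n52919 := ((((iv5 F83623)).symm.trans (sb E58751 (iv5 F229191)))).symm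
theorem E61837 : n179321 = n149620 := (((D149620).symm.trans (sb E58752 (iv4 F279212)))).symm
theorem F305329 : act 5 n70262 = n61814 := (sb E58752 (iv5 D131754))
theorem E61838 : n149621 = n68331 := ((D149621).symm.trans (sb E58752 F211117))
theorem F305330 : act 3 n131344 = n83605 := (sb E58753 F236864)
theorem E61839 : n15449 = n7128 := (((F24619).symm.trans (sb E58754 (iv3 D32629)))).symm
theorem E61840 : n54329 = n29177 := ((((iv5 F46835)).symm.trans (sb E58754 (iv5 F85736)))).symm
theorem F305331 : act 0 n52907 = n31810 := (sb E58755 (iv1 F104522))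
theorem F305332 : act 1 n52907 = n31809 := (sb E58755 F104523)
theorem E61842 : n117104 = n25685 := ((((iv3 D52907)).symm.trans (sb E58755 (iv3 F183152)))).symm
theorem F305333 : act 5 n52907 = n61388 := (sb E58755 F104521)
theorem E61843 : n114621 = n75143 := ((D114621).symm.trans (sb E58755 (iv6 F112687)))
theorem E61844 : n145810 = n95876 := ((D145810).symm.trans (sb E58756 (iv0 F235378)))
theorem E61846 : n166837 = n69741 := (((F113957).symm.trans (sb E58757 (iv1 F262566)))).symm
theorem E61847 : n145805 = n128104 := ((F228942).symm.trans (sb E58757 (iv0 F206186)))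
theorem E61848 : n145812 = n39945 := ((D145812).symm.trans (sb E58757 F132300))
theorem E61849 : n145813 = n39944 := ((D145813).symm.trans (sb E58757 (iv5 D86323)))
theorem E61851 : n145749 = n77021 := (((iv7 F228884)).symm.trans (sb E58757 F132301))
theorem E61855 : n70556 = n7732 := (((D7732).symm.trans (sb E58763 (iv6 D149989)))).symm
theorem E61856 : n39603 = n7680 := ((((iv5 D16531)).symm.trans (sb E58764 F199777))).symm
theorem F305334 : act 6 n16531 = n33083 := (sb E58764 F302931)
theorem E61857 : n32710 = n14487 := (((F26151).symm.trans (sb E58764 (iv7 D70503)))).symm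
theorem E61858 : n85118 = n6696 := ((((iv1 F10909)).symm.trans (sb E58765 (iv1 D178682)))).symm
theorem E61862 : n32709 = n24290 := (((D24290).symm.trans (sb E58766 (iv6 D70501)))).symm
theorem E61863 : n73727 = n33981 := (((iv5 F110443)).symm.trans (sb E58767 F78743))
theorem F305335 : act 6 n35708 = n34337 := (sb E58767 F78744)
theorem E61864 : n70498 = n49820 := (((iv1 F106951)).symm.trans (sb E58768 (iv1 F78741)))
theorem E61865 : n70497 = n49819 := ((F106950).symm.trans (sb E58768 F78745))
theorem E61866 : n70529 = n55219 := ((D70529).symm.trans (sb E58768 (iv5 F87364)))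
theorem F305336 : act 6 n32717 = n49815 := (sb E58768 (iv6 F78725))
theorem E61867 : n35665 = n16628 := (((iv7 F56342)).symm.trans (sb E58768 (iv7 D34342)))
theorem E61868 : n66849 = n32865 := ((F103212).symm.trans (sb E61627 (tr (iv1 F184422) E61748)))
theorem E61869 : n139782 = n74992 := ((F222963).symm.trans (sb E61627 F166650))
theorem E61870 : n116782 = n74929 := (((iv2 F182308)).symm.trans (sb E61627 F166649))
theorem E61871 : n147028 = n31303 := ((((iv5 D67331)).symm.trans (sb E61627 (iv5 F230483)))).symm
theorem F305337 : act 6 n67331 = n49814 := (sb E61627 (iv6 D107862))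
theorem E61872 : n139780 = n117758 := ((F222960).symm.trans (sb E61627 (iv7 F184419)))
theorem F305338 : act 0 n81671 = n60096 := (sb E58770 (iv1 D127924))
theorem F305339 : act 1 n81671 = n131740 := (sb E58770 F211090)
theorem F305340 : act 2 n81671 = n131741 := (sb E58770 (iv2 F211092))
theorem F305341 : act 4 n81671 = n72350 := (sb E58770 F205853)
theorem E61873 : n164233 = n147566 := (((iv5 F258862)).symm.trans (sb E58770 (iv5 F231353)))
theorem F305342 : act 3 n81786 = n74929 := (sb E58771 F240632)
theorem F305343 : act 6 n81786 = n72350 := (sb E58771 (iv6 D153228))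
theorem F305344 : act 4 n70541 = n74929 := (sb E58772 F247250)
theorem F305345 : act 6 n70541 = n74702 := (sb E58772 (iv6 D157126))
theorem E61875 : n117758 = n54849 := (((F113926).symm.trans (sb E58773 F192401))).symm
theorem F305346 : act 1 n70856 = n74929 := (sb E58773 F192402)
theorem E61876 : n150403 = n55630 := ((D150403).symm.trans (sb E58773 (iv5 D120693)))
theorem E61877 : n152947 = n150404 := (((D150404).symm.trans (sb E58773 (iv6 F240184)))).symm
theorem E61878 : n74992 = n32860 := (((F110566).symm.trans (sb E58773 F200147))).symm
theorem F305347 : act 0 n70851 = n74929 := (sb E58774 (iv1 F189834))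
theorem E61879 : n150399 = n55631 := ((D150399).symm.trans (sb E58774 F189832))
theorem E61880 : n150400 = n55303 := ((D150400).symm.trans (sb E58774 (iv6 D120188)))
theorem E61881 : n147041 = n117399 := (((iv5 F230506)).symm.trans (sb E58775 (iv5 F183866)))
theorem F305348 : act 7 n68949 = n74929 := (sb E58775 (iv7 F112449))
theorem E61882 : n34356 = n15809 := ((F87273).symm.trans (sb E58776 F51804))
theorem E61883 : n69439 = n15804 := (((iv0 F105714)).symm.trans (sb E58776 F51805))
theorem F305349 : act 2 n32258 = n32659 := (sb E58776 F51801)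
theorem E61884 : n32627 = n15214 := ((((iv5 D32258)).symm.trans (sb E58776 F51802))).symm
theorem E61885 : n54246 = n26534 := (((iv7 F105731)).symm.trans (sb E58776 F51803))
theorem E61886 : n73807 = n32660 := (((D32660).symm.trans (sb E58777 (iv3 F110610)))).symm
theorem E61887 : n73874 = n7330 := ((((iv4 D15532)).symm.trans (sb E58777 D73874))).symm
theorem E61888 : n32661 = n16403 := ((D32661).symm.trans (sb E58777 F53278))
theorem E61890 : n55180 = n17021 := (((F27881).symm.trans (sb E58778 F112520))).symm
theorem E61891 : n62751 = n32669 := (((D32669).symm.trans (sb E58778 F112521))).symm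
theorem E61892 : n15418 = n12439 := ((((iv1 D26232)).symm.trans (sb E58779 (iv1 F50683)))).symm
theorem E61893 : n15426 = n15216 := (((F41638).symm.trans (sb E58779 F50684))).symm
theorem E61894 : n53789 = n15125 := (((iv4 F182130)).symm.trans (sb E58779 F50682))
theorem F305350 : act 5 n26232 = n32659 := (sb E58779 (iv5 F51738))
theorem E61895 : n15213 = n15124 := ((F105734).symm.trans (sb E58779 (iv7 D32062)))
theorem E61896 : n70129 = n54290 := (((F87274).symm.trans (sb E58781 F106756))).symm
theorem E61899 : n67266 = n32628 := (((iv4 F163074)).symm.trans (sb E58781 F106755))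
theorem E61901 : n117750 = n48952 := (((D48952).symm.trans (sb E58783 F187286))).symm
theorem E61902 : n74957 = n35001 := (((D35001).symm.trans (sb E58784 (iv6 F215750)))).symm
theorem E61903 : n160025 = n148898 := ((((iv1 F234068)).symm.trans (sb E58785 (iv1 F252453)))).symm
theorem E61904 : n160024 = n148901 := ((((iv0 F233964)).symm.trans (sb E58785 F252464))).symm
theorem E61905 : n155245 = n74028 := ((E58789).symm.trans ((D159974).symm.trans (sb E58785 F166655)))
theorem E61906 : n70499 = n49818 := (((iv7 F305242)).symm.trans (sb E58785 (iv7 D107867)))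
theorem E61907 : n159974 = n74028 := (E58789).trans E61905
theorem F305351 : act 5 n74028 = n76592 := (sb E61907 (iv5 D159974))
theorem E61910 : n127879 = n40075 := ((((iv1 F121050)).symm.trans (sb E58791 F206215))).symm
theorem E61911 : n127875 = n17299 := (((F121049).symm.trans (sb E58791 (iv0 F205788)))).symm
theorem F305352 : act 3 n18957 = n32720 := (sb E58791 F106973)
theorem E61912 : n40126 = n32716 := ((D40126).symm.trans (sb E58791 (iv5 D70527)))
theorem F305353 : act 4 n35661 = n41010 := (sb E58793 F132803)
theorem E61917 : n59763 = n26265 := ((((iv6 F302672)).symm.trans (sb E58794 (iv6 D127315)))).symm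
theorem E61918 : n118127 = n55338 := (((iv1 F185602)).symm.trans (sb E58796 F106983))
theorem E61919 : n55330 = n32700 := (((F109842).symm.trans (sb E58796 F106984))).symm
theorem F305354 : act 4 n60385 = n32720 := (sb E58796 (iv4 D70532))
theorem E61921 : n149961 = n29751 := (((F109843).symm.trans (sb E58796 D149961))).symm
theorem E61922 : n75093 = n28677 := ((((iv7 D60385)).symm.trans (sb E58796 (iv7 F112605)))).symm
theorem E61923 : n149863 = n69839 := ((((iv3 F106262)).symm.trans (sb E58797 (iv3 F235719)))).symm
theorem E61924 : n69840 = n33872 := ((D69840).symm.trans (sb E58797 F106907))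
theorem E61926 : n69841 = n32691 := ((D69841).symm.trans (sb E58797 (iv6 D70446)))
theorem E61930 : n128408 = n28683 := ((((iv7 F46231)).symm.trans (sb E58798 (iv7 F301178)))).symm
theorem F305355 : act 6 n18955 = n32720 := (sb E58799 (iv6 F302902))
theorem F305356 : act 0 n60378 = n32794 := (sb E58800 F94911)
theorem F305357 : act 1 n60378 = n32796 := (sb E58800 F94912)
theorem F305358 : act 7 n60378 = n32720 := (sb E58800 F94910)
theorem E61937 : n153384 = n41891 := ((((iv0 F64601)).symm.trans (sb E58802 D153384))).symm
theorem E61938 : n44664 = n33450 := ((D44664).symm.trans (sb E58802 (iv5 D72462)))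
theorem E61941 : n154113 = n104128 := (((D104128).symm.trans (sb E58804 (iv5 F257033)))).symm
theorem E61942 : n120555 = n104129 := (((D104129).symm.trans (sb E58804 (iv6 F257032)))).symm
theorem E61943 : n154114 = n104133 := (((D104133).symm.trans (sb E58805 F257022))).symm
theorem E61944 : n147410 = n104134 := (((D104134).symm.trans (sb E58805 (iv6 F257026)))).symm
theorem E61945 : n154290 = n104137 := (((D104137).symm.trans (sb E58806 (iv4 F242393)))).symm
theorem E61948 : n104125 = n41007 := ((D104125).symm.trans (sb E58809 (iv2 D87890)))
theorem E61949 : n184262 = n104126 := (((D104126).symm.trans (sb E58809 D184262))).symm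
theorem E61951 : n184264 = n104128 := (((D104128).symm.trans (sb E58809 D184264))).symm
theorem E61952 : n184265 = n104129 := (((D104129).symm.trans (sb E58809 D184265))).symm
theorem E61953 : n104130 = n41008 := ((D104130).symm.trans (sb E58809 (iv7 F134898)))
theorem E61954 : n151770 = n120571 := ((((iv3 F192146)).symm.trans (sb E58810 (iv3 F238689)))).symm
theorem F305359 : act 4 n55528 = n41007 := (sb E58810 (iv4 D87892))
theorem F305360 : act 7 n55528 = n184268 := (sb E58810 D184268)
theorem E61959 : n171129 = n100418 := (((F191981).symm.trans (sb E58811 (iv3 F268863)))).symm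
theorem E61960 : n120572 = n87404 := ((D120572).symm.trans (sb E58811 F134899))
theorem F305361 : act 6 n55526 = n41007 := (sb E58811 (iv6 D87894))
theorem E61961 : n184276 = n120553 := ((((iv7 F192095)).symm.trans (sb E58811 D184276))).symm
theorem E61962 : n171130 = n99292 := ((((iv3 F281643)).symm.trans (sb E58812 (iv3 F268867)))).symm
theorem E61963 : n184268 = n86487 := ((((iv4 F281642)).symm.trans (sb E58812 (iv4 F286200)))).symm
theorem E61964 : n184273 = n104133 := (((D104133).symm.trans (sb E58812 (iv5 F286222)))).symm
theorem F305362 : act 4 n69262 = n41008 := (sb E58813 (iv4 D87897))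
theorem E61970 : n184282 = n147824 := (((D147824).symm.trans (sb E58814 (iv3 F286234)))).symm
theorem E61971 : n184290 = n147825 := (((D147825).symm.trans (sb E58814 D184290))).symm
theorem F305363 : act 6 n69261 = n41008 := (sb E58814 (iv6 D87899))
theorem E61972 : n184291 = n120564 := (((F192135).symm.trans (sb E58814 D184291))).symm
theorem E61973 : n181987 = n58271 := (((iv5 F283308)).symm.trans (sb E58815 F199482))
theorem E61974 : n184298 = n123662 := ((D184298).symm.trans (sb E58816 F242204))
theorem E61975 : n184302 = n154289 := ((D184302).symm.trans (sb E58816 F242391))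
theorem E61976 : n157627 = n104181 := (((D104181).symm.trans (sb E58819 (iv3 F248386)))).symm
theorem F305364 : act 4 n48207 = n34377 := (sb E58819 F112572)
theorem E61977 : n153937 = n104183 := (((D104183).symm.trans (sb E58819 F241954))).symm
theorem E61978 : n104184 = n34375 := ((D104184).symm.trans (sb E58819 (iv6 D75048)))
theorem E61979 : n104185 = n58360 := ((D104185).symm.trans (sb E58820 (iv1 F200452)))
theorem E61980 : n104186 = n58340 := ((D104186).symm.trans (sb E58820 (iv0 D124782)))
theorem E61981 : n150309 = n149775 := (((D149775).symm.trans (sb E58822 F274027))).symm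
theorem E61983 : n183087 = n149794 := (((D149794).symm.trans (sb E58824 (iv5 F284708)))).symm
theorem E61984 : n180908 = n120554 := ((D180908).symm.trans (sb E58825 (iv1 F231562)))
theorem E61985 : n180909 = n69251 := ((D180909).symm.trans (sb E58825 (iv0 D147805)))
theorem F305365 : act 3 n86407 = n69416 := (sb E58825 (iv3 F231564))
theorem E61986 : n69413 = n40012 := (((F132461).symm.trans (sb E58825 F231565))).symm
theorem E61987 : n180911 = n120565 := ((D180911).symm.trans (sb E58825 F231563))
theorem E61988 : n35087 = n15212 := ((((iv1 D32247)).symm.trans (sb E58826 (iv1 D76766)))).symm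
theorem E61989 : n70205 = n69394 := (((F105678).symm.trans (sb E58826 (iv0 F115186)))).symm
theorem E61990 : n153931 = n69414 := (((D69414).symm.trans (sb E58826 (iv4 F241948)))).symm
theorem F305366 : act 5 n32247 = n40008 := (sb E58826 F296542)
theorem E61991 : n70204 = n69392 := ((((iv7 F130323)).symm.trans (sb E58826 F115182))).symm
theorem E61992 : n69799 = n54235 := ((((iv3 F85579)).symm.trans (sb E58827 F115187))).symm
theorem E61993 : n122616 = n69391 := ((((iv4 F105674)).symm.trans (sb E58827 (iv4 F196437)))).symm
theorem E61994 : n61528 = n57570 := (((iv5 F96058)).symm.trans (sb E58827 F115188))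
theorem E61996 : n70193 = n69406 := ((((iv4 F105689)).symm.trans (sb E58828 (iv4 F106647)))).symm
theorem E61997 : n69420 = n35983 := (((iv5 F105695)).symm.trans (sb E58828 (iv5 F56696)))
theorem F305367 : act 0 n148114 = n123392 := (sb E58829 F235112)
theorem F305368 : act 1 n148114 = n72428 := (sb E58829 F235113)
theorem F305369 : act 3 n148114 = n151427 := (sb E58829 (iv3 F238160))
theorem F305370 : act 5 n148114 = n123377 := (sb E58829 F235111)
theorem E61999 : n153929 = n69409 := (((F231930).symm.trans (sb E58829 (iv7 F241941)))).symm
theorem E62001 : n101304 = n29750 := (((F52007).symm.trans (sb E58832 F254583))).symm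
theorem E62004 : n184052 = n34380 := (((F112577).symm.trans (sb E58834 (iv0 F286002)))).symm
theorem E62005 : n183066 = n153180 := (((D153180).symm.trans (sb E58834 F284688))).symm
theorem F305372 : act 0 n150411 = n86795 := (sb E58836 (iv1 F282903))
theorem E62006 : n147587 = n86482 := ((((iv1 F132648)).symm.trans (sb E58837 F240707))).symm
theorem F305374 : act 5 n40223 = n72373 := (sb E58837 (iv5 D153246))
theorem F305376 : act 4 n153247 = n120364 := (sb E58838 F282873)
theorem E62007 : n143517 = n86747 := (((D86747).symm.trans (sb E58839 (iv1 F226233)))).symm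
theorem E62008 : n73479 = n49825 := (((iv0 F190040)).symm.trans (sb E58839 (iv0 D107882)))
theorem E62009 : n160023 = n70110 := ((((iv7 F191151)).symm.trans (sb E58839 (iv7 F252449)))).symm
theorem E62010 : n151781 = n14526 := (E59988).trans E61639
theorem F305382 : act 0 n72044 = n75599 := (sb E58844 (iv1 F249651))
theorem F305383 : act 1 n72044 = n75590 := (sb E58844 (iv0 D158446))
theorem E62011 : n175278 = n152704 := (((D152704).symm.trans (sb E58844 F274289))).symm
theorem E62012 : n152702 = n75596 := (((D75596).symm.trans (sb E58846 (iv1 F267995)))).symm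
theorem F305384 : act 4 n150483 = n80309 := (sb E58850 (iv4 D167333))
theorem F305385 : act 3 n152660 = n80310 := (sb E58854 (iv3 D167337))
theorem E62013 : n74900 = n69821 := (((D69821).symm.trans (sb E58873 (iv1 F215160)))).symm
theorem E62014 : n69822 = n62925 := ((D69822).symm.trans (sb E58873 F215161))
theorem E62015 : n69824 = n62760 := ((D69824).symm.trans (sb E58873 (iv7 D133700)))
theorem E62016 : n65268 = n6134 := (((F21492).symm.trans (sb E58874 (iv3 D139050)))).symm
theorem E62017 : n157646 = n26637 := ((((iv6 F42688)).symm.trans (sb E58874 F266028))).symm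
theorem E62018 : n149768 = n70480 := ((((iv1 F106933)).symm.trans (sb E58875 F266024))).symm
theorem E62019 : n149766 = n35692 := ((((iv0 F85910)).symm.trans (sb E58875 F266025))).symm
theorem E62020 : n155297 = n86581 := (((D86581).symm.trans (sb E58875 F266023))).symm
theorem F305386 : act 1 n70777 = n80679 := (sb E58876 (iv0 D168074))
theorem F305388 : act 7 n70777 = n80681 := (sb E58876 (iv7 F264918))
theorem F305389 : act 0 n149872 = n80679 := (sb E58877 (iv1 D168075))
theorem F305390 : act 2 n149872 = n80681 := (sb E58877 F264919)
theorem F305394 : act 0 n128134 = n80681 := (sb E58879 (iv1 F264928))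
theorem F305395 : act 1 n128134 = n80680 := (sb E58879 F264929)
theorem F305396 : act 4 n128134 = n170317 := (sb E58879 (iv4 F267818))
theorem F305397 : act 7 n128134 = n80679 := (sb E58879 (iv7 D168077))
theorem E62022 : n120255 = n39275 := (((D39275).symm.trans (sb E58884 F266055))).symm
theorem E62025 : n70738 = n26933 := (((F51773).symm.trans (sb E58885 (iv3 F215283)))).symm
theorem E62026 : n70736 = n70484 := (((D70484).symm.trans (sb E58885 F215282))).symm
theorem E62027 : n70485 = n62779 := ((D70485).symm.trans (sb E58885 (iv6 D133745)))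
theorem E62028 : n162845 = n149000 := (((iv3 F257114)).symm.trans (sb E58886 (iv3 F266061)))
theorem E62029 : n162863 = n148999 := ((D162863).symm.trans (sb E58886 F266059))
theorem E62030 : n131651 = n119777 := (((F188987).symm.trans (sb E61502 (iv0 F210997)))).symm
theorem E62031 : n119749 = n86581 := (((iv2 F188942)).symm.trans (sb E61502 (tr F244220 E62020)))
theorem E62032 : n75094 = n55120 := ((D75094).symm.trans (iv3 (sb E61502 (tr F185596 E61504))))
theorem F305398 : act 1 n78245 = n48186 := (sb E58889 F232801)
theorem F305399 : act 3 n78245 = n80680 := (sb E58889 (iv3 F155921))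
theorem F305400 : act 4 n78245 = n47134 := (sb E58889 (iv4 D101209))
theorem E62033 : n168078 = n35013 := ((((iv6 F55559)).symm.trans (iv6 (sb E58890 (tr F266069 E59998))))).symm
theorem F305401 : act 5 n70486 = n80680 := (sb E58891 (iv5 D168079))
theorem F305403 : act 0 n168081 = n150188 := (sb E58893 (iv1 F266073))
theorem F305404 : act 1 n168081 = n150198 := (sb E58893 F266074)
theorem E62034 : n174989 = n150197 := ((F273872).symm.trans (sb E58893 F266070))
theorem F305405 : act 5 n168081 = n149909 := (sb E58893 F266071)
theorem F305406 : act 7 n168081 = n150196 := (sb E58893 F266072)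
theorem E62035 : n151713 = n80681 := ((F303708).symm.trans (sb E58895 (iv5 D168083)))
theorem F305407 : act 6 n167915 = n80681 := (sb E58896 (iv6 D168084))
theorem E62039 : n168100 = n24407 := (E58910).trans E61662
theorem E62040 : n32662 = n24318 := (((F38264).symm.trans (sb E62039 (tr F274008 E59292)))).symm
theorem E62041 : n50047 = n32431 := ((D50047).symm.trans (sb E62039 (tr F273998 E59289)))
theorem E62043 : n168105 = n55338 := (E58915).trans E61918
theorem E62044 : n120259 = n119747 := ((D120259).symm.trans (sb E62043 (tr F264964 E61523)))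
theorem E62045 : n107994 = n80689 := (((iv5 F166857)).symm.trans (sb E62043 F264965))
theorem E62046 : n119767 = n40218 := (((D40218).symm.trans (sb E58924 (tr (iv6 F189016) E59789)))).symm
theorem F305408 : act 2 n55121 = n105987 := (sb E58925 (iv2 F162789))
theorem F305409 : act 3 n55121 = n54685 := (sb E58925 F133017)
theorem F305410 : act 4 n55121 = n70359 := (sb E58925 F133018)
theorem F305411 : act 6 n55121 = n40217 := (sb E58925 (iv6 D86725))
theorem E62049 : n157484 = n72373 := ((((iv3 F302991)).symm.trans (sb E58926 (iv3 F248147)))).symm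
theorem E62050 : n157488 = n70862 := ((((iv4 F107335)).symm.trans (sb E58926 (iv4 F248163)))).symm
theorem E62052 : n86746 = n34343 := ((D86746).symm.trans (sb E58926 (iv6 D74949)))
theorem E62054 : n54781 = n54774 := (((D54774).symm.trans (sb E58929 F187289))).symm
theorem E62055 : n70770 = n35019 := ((((iv1 F55587)).symm.trans (sb E58930 F233182))).symm
theorem E62056 : n70775 = n27003 := ((((iv0 F43608)).symm.trans (sb E58930 (iv0 F233069)))).symm
theorem F305412 : act 6 n26495 = n48949 := (sb E58930 (iv6 D105875))
theorem F305413 : act 4 n76588 = n79289 := (sb E58931 (iv4 D165035))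
theorem E62057 : n150402 = n148919 := ((((iv4 F233986)).symm.trans (sb E58933 (iv4 F236751)))).symm
theorem E62058 : n149536 = n17725 := ((((iv3 D36766)).symm.trans (sb E58934 (iv3 F247854)))).symm
theorem E62059 : n149534 = n80568 := (((D80568).symm.trans (sb E58934 (iv5 F247857)))).symm
theorem E62060 : n80569 = n62847 := ((D80569).symm.trans (sb E58934 (iv6 D133831)))
theorem F305414 : act 3 n133946 = n69818 := (sb E58935 F234007)
theorem F305415 : act 7 n133946 = n150632 := (sb E58935 (iv7 F237179))
theorem E62061 : n149906 = n133744 := (((iv0 F235777)).symm.trans (sb E58936 F261552))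
theorem F305419 : act 6 n148928 = n79760 := (sb E58936 (iv6 D166113))
theorem F305420 : act 2 n166125 = n150633 := (sb E58938 F264473)
theorem F305421 : act 5 n166125 = n80566 := (sb E58938 (iv5 D167862))
theorem F305422 : act 4 n80378 = n123272 := (sb E58939 (iv4 F197557))
theorem F305423 : act 6 n80378 = n77491 := (sb E58939 F123562)
theorem E62065 : n161432 = n22733 := (E58941).trans E60977
theorem E62066 : n77500 = n38629 := ((((iv1 F59445)).symm.trans (sb E62065 (iv1 D161432)))).symm
theorem E62067 : n77804 = n38628 := (((F59444).symm.trans (sb E62065 F255340))).symm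
theorem E62068 : n161433 = n22731 := ((((iv6 D47279)).symm.trans (iv6 (sb E58942 (tr (iv6 D162042) E60642))))).symm
theorem F305427 : act 2 n80454 = n61738 := (sb E58947 (iv2 D131577))
theorem E62069 : n73044 = n70005 := ((D73044).symm.trans (sb E58948 (iv6 D149168)))
theorem F305428 : act 6 n149154 = n73043 := (sb E58949 (iv6 D154176))
theorem F305429 : act 3 n80453 = n61692 := (sb E58950 (iv3 D131450))
theorem F305430 : act 7 n80453 = n61738 := (sb E58950 F210708)
theorem F305431 : act 6 n32491 = n47161 := (sb E58951 (iv6 D101285))
theorem E62071 : n172330 = n172316 := (((D172316).symm.trans (sb E58954 D172330))).symm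
theorem E62072 : n172317 = n37890 := (((F127174).symm.trans (sb E58954 (iv3 F270559)))).symm
theorem E62075 : n172315 = n63661 := ((D172315).symm.trans (sb E58955 (iv1 F217623)))
theorem E62076 : n172316 = n63660 := ((D172316).symm.trans (sb E58955 F217624))
theorem F305432 : act 2 n82525 = n63662 := (sb E58955 F217619)
theorem E62077 : n172318 = n63645 := ((D172318).symm.trans (sb E58955 (iv7 D135389)))
theorem F305433 : act 4 n122665 = n63662 := (sb E58956 F217750)
theorem F305434 : act 7 n122665 = n63659 := (sb E58956 (iv7 D135425))
theorem F305435 : act 6 n63287 = n77467 := (sb E58957 (iv6 D161373))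
theorem F305436 : act 0 n36590 = n61381 := (sb E58961 (iv1 F98507))
theorem F305437 : act 1 n36590 = n61381 := (sb E58961 F98506)
theorem F305438 : act 2 n36590 = n61234 := (sb E58961 F97389)
theorem E62078 : n133180 = n80313 := ((((iv3 F123394)).symm.trans (sb E58961 D133180))).symm
theorem E62079 : n80318 = n61341 := ((D80318).symm.trans (sb E58961 F97390))
theorem F305439 : act 7 n36590 = n61234 := (sb E58961 F97391)
theorem F305440 : act 0 n130843 = n72019 := (sb E58962 (iv1 D152668))
theorem F305441 : act 1 n130843 = n72024 := (sb E58962 F239883)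
theorem F305442 : act 5 n130843 = n124990 := (sb E58962 (iv5 F239885))
theorem E62080 : n161625 = n61027 := ((((iv5 F95557)).symm.trans (sb E58964 F263493))).symm
theorem F305443 : act 5 n80376 = n62109 := (sb E58966 F209053)
theorem F305444 : act 0 n60816 = n36617 := (sb E58967 F302769)
theorem F305445 : act 1 n60816 = n36617 := (sb E58967 (iv0 D80367))
theorem E62081 : n167473 = n129406 := ((((iv3 F207578)).symm.trans (sb E58967 D167473))).symm
theorem E62082 : n167475 = n28846 := ((((iv6 D60816)).symm.trans (sb E58967 D167475))).symm
theorem E62088 : n161387 = n133176 := (((D133176).symm.trans (sb E58972 F255204))).symm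
theorem F305446 : act 0 n62488 = n80374 := (sb E58974 F302414)
theorem F305447 : act 1 n62488 = n80374 := (sb E58974 (iv0 F123483))
theorem F305448 : act 4 n62488 = n38783 := (sb E58974 F302415)
theorem F305450 : act 5 n86363 = n70689 := (sb E58979 (iv5 D150187))
theorem F305451 : act 3 n86362 = n70612 := (sb E58981 F236139)
theorem F305452 : act 5 n86362 = n70610 := (sb E58981 (iv5 D150070))
theorem F305453 : act 2 n150071 = n166900 := (sb E58982 F283469)
theorem F305454 : act 3 n38407 = n83196 := (sb E58983 F272629)
theorem E62102 : n172246 = n83367 := (((D83367).symm.trans (sb E58983 F272630))).symm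
theorem F305455 : act 5 n46506 = n83196 := (sb E58984 F272638)
theorem E62103 : n172408 = n73043 := ((((iv5 F109565)).symm.trans (sb E58986 (iv5 F272634)))).symm
theorem E62105 : n172766 = n167168 := ((((iv3 F263333)).symm.trans (sb E58988 F278037))).symm
theorem F305456 : act 7 n80255 = n84907 := (sb E58988 (iv7 D178435))
theorem F305457 : act 1 n174011 = n84907 := (sb E58989 (iv0 D178432))
theorem F305458 : act 0 n174010 = n84907 := (sb E58990 (iv1 D178433))
theorem F305459 : act 0 n161907 = n84941 := (sb E58991 (iv1 D178495))
theorem F305460 : act 1 n161908 = n84941 := (sb E58992 (iv0 D178494))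
theorem F305461 : act 0 n161909 = n167234 := (sb E58993 (iv1 F278133))
theorem F305462 : act 1 n161909 = n167233 := (sb E58993 F278134)
theorem F305463 : act 5 n161909 = n84942 := (sb E58993 F278131)
theorem F305464 : act 7 n161909 = n84941 := (sb E58993 (iv7 D178497))
theorem F305465 : act 1 n173861 = n83393 := (sb E58994 (iv0 D174481))
theorem E62106 : n160710 = n158790 := ((F272510).symm.trans (sb E58994 (iv4 F300892)))
theorem F305466 : act 3 n119392 = n76619 := (sb E58997 (iv3 D160016))
theorem F305467 : act 4 n119392 = n152614 := (sb E58997 F252425)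
theorem E62108 : n155194 = n83574 := (((iv1 F244035)).symm.trans (sb E59000 (iv1 D174987)))
theorem E62109 : n172610 = n161158 := ((F304842).symm.trans (sb E59000 F273871))
theorem E62113 : n158172 = n34585 := ((D158172).symm.trans (sb E59004 (iv3 D75615)))
theorem E62115 : n158513 = n158174 := (((D158174).symm.trans (sb E59004 D158513))).symm
theorem E62116 : n158514 = n158175 := (((D158175).symm.trans (sb E59004 D158514))).symm
theorem E62117 : n100411 = n100047 := (((D100047).symm.trans (sb E59005 (iv3 F302104)))).symm
theorem F305468 : act 3 n36502 = n34586 := (sb E59008 (iv3 D75620))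
theorem F305469 : act 2 n44993 = n41713 := (sb E59012 F156383)
theorem F305470 : act 5 n44993 = n41473 := (sb E59012 (iv5 D88837))
theorem E62123 : n101865 = n96357 := (((D96357).symm.trans (sb E59012 (iv6 F156820)))).symm
theorem F305471 : act 0 n44677 = n41723 := (sb E59014 (iv1 F136217))
theorem F305472 : act 1 n44677 = n41475 := (sb E59014 (iv0 D88843))
theorem E62126 : n175511 = n57639 := ((((iv5 F90810)).symm.trans (sb E59014 F274782))).symm
theorem E62127 : n186525 = n95648 := (((D95648).symm.trans (sb E59014 D186525))).symm
theorem E62128 : n186526 = n57607 := ((D186526).symm.trans (sb E59015 F149695))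
theorem E62129 : n186527 = n45363 := ((D186527).symm.trans (sb E59015 (iv4 D97042)))
theorem E62130 : n57605 = n47349 := ((((iv5 F136212)).symm.trans (sb E59015 F149697))).symm
theorem E62131 : n186528 = n93865 := ((D186528).symm.trans (sb E59015 (iv6 F149700)))
theorem E62132 : n186531 = n35951 := ((((iv3 D78991)).symm.trans (sb E59016 D186531))).symm
theorem F305473 : act 4 n78991 = n41475 := (sb E59016 (iv4 D88845))
theorem E62133 : n186532 = n46971 := (((F120171).symm.trans (sb E59016 D186532))).symm
theorem E62134 : n164477 = n41484 := ((D164477).symm.trans (sb E59016 F136214))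
theorem E62136 : n173579 = n38597 := (((D38597).symm.trans (sb E59018 (iv6 F274552)))).symm
theorem E62137 : n173549 = n12955 := ((((iv3 D27036)).symm.trans (sb E59019 (iv3 F271983)))).symm
theorem E62138 : n56048 = n38207 := ((D56048).symm.trans (sb E59019 (iv6 D83022)))
theorem E62139 : n158695 = n81921 := ((D158695).symm.trans (sb E59020 F151579))
theorem F305474 : act 6 n75695 = n45910 := (sb E59020 (iv6 D98224))
theorem E62140 : n158668 = n158360 := (((iv6 F249823)).symm.trans (sb E59023 (iv6 F249510)))
theorem F305475 : act 3 n89335 = n45390 := (sb E59025 (iv3 D97104))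
theorem F305476 : act 5 n89335 = n46972 := (sb E59025 F149826)
theorem F305477 : act 3 n89336 = n57666 := (sb E59026 F198161)
theorem E62141 : n152302 = n83199 := ((((iv4 F270521)).symm.trans (sb E59028 (tr (iv4 F262775) E60947)))).symm
theorem E62142 : n175436 = n164556 := ((D175436).symm.trans (sb E59030 F273619))
theorem F305478 : act 5 n83774 = n83506 := (sb E59030 (iv5 D174790))
theorem E62143 : n174791 = n167470 := (((D167470).symm.trans (iv0 (sb E59031 (tr (iv1 F273880) E60846))))).symm
theorem E62144 : n174994 = n167470 := (E59031).trans E62143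
theorem F305479 : act 1 n167470 = n83860 := (sb E62144 F273881)
theorem F305480 : act 2 n167470 = n158522 := (sb E62144 F273877)
theorem F305481 : act 4 n167470 = n100951 := (sb E62144 F273878)
theorem F305482 : act 5 n167470 = n173558 := (sb E62144 F273879)
theorem F305483 : act 7 n167470 = n83577 := (sb E62144 (iv7 D174994))
theorem F305484 : act 5 n174792 = n175190 := (sb E59032 F274232)
theorem F305486 : act 4 n47040 = n83507 := (sb E59033 (iv4 D174793))
theorem F305487 : act 5 n83775 = n83507 := (sb E59034 (iv5 D174794))
theorem E62145 : n83824 = n16757 := (((F54818).symm.trans (sb E59036 (iv3 F128854)))).symm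
theorem E62146 : n75530 = n18384 := ((D75530).symm.trans (sb E59036 (iv6 D38617)))
theorem E62147 : n83856 = n35430 := (((D35430).symm.trans (sb E59037 F274553))).symm
theorem E62148 : n101663 = n83483 := (((D83483).symm.trans (sb E59038 (iv6 F272000)))).symm
theorem E62149 : n83803 = n33653 := ((((iv1 F90780)).symm.trans (sb E59040 (iv1 D175510)))).symm
theorem E62150 : n89325 = n33652 := (((F90778).symm.trans (sb E59040 F274768))).symm
theorem E62151 : n123648 = n99720 := ((D123648).symm.trans (sb E59040 (iv6 F274770)))
theorem E62152 : n89186 = n33654 := (((F90777).symm.trans (sb E59040 F274772))).symm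
theorem E62153 : n161417 = n101666 := (((iv1 F255282)).symm.trans (sb E59041 (iv1 F273898)))
theorem E62154 : n83883 = n35522 := (((F198061).symm.trans (sb E59041 (iv0 F274694)))).symm
theorem E62155 : n161581 = n83578 := ((D161581).symm.trans (sb E59041 (iv5 D174997)))
theorem F305489 : act 7 n77609 = n83782 := (sb E59041 F273891)
theorem F305490 : act 6 n38493 = n75536 := (sb E59042 (iv6 D158387))
theorem F305491 : act 6 n54545 = n83784 := (sb E59043 (iv6 D175456))
theorem F305492 : act 6 n16269 = n22716 := (sb E59044 (iv6 D47231))
theorem F305493 : act 3 n152586 = n82964 := (sb E59045 (iv3 D173367))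
theorem F305494 : act 0 n174799 = n83767 := (sb E59046 (iv1 D175428))
theorem F305495 : act 1 n174799 = n83772 := (sb E59046 F274519)
theorem F305497 : act 1 n158421 = n83508 := (sb E59047 (iv0 D174796))
theorem F305498 : act 0 n158418 = n83508 := (sb E59048 (iv1 D174797))
theorem F305500 : act 3 n152588 = n83767 := (sb E59049 F274500)
theorem E62156 : n152678 = n41726 := ((((iv1 F74288)).symm.trans (sb E59051 F263620))).symm
theorem E62157 : n167495 = n61220 := (E59075).trans E60982
theorem E62158 : n130493 = n80378 := ((D130493).symm.trans (sb E62157 (iv5 D167495)))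
theorem E62159 : n175435 = n167492 := (((D167492).symm.trans (sb E59077 (iv1 F274699)))).symm
theorem E62160 : n167493 = n158422 := ((D167493).symm.trans (sb E59077 F274698))
theorem E62161 : n167494 = n158540 := ((D167494).symm.trans (sb E59077 (iv2 F249720)))
theorem E62162 : n77806 = n47274 := ((F123501).symm.trans (sb E59077 (iv7 D101650)))
theorem E62163 : n130508 = n77728 := ((D130508).symm.trans (sb E59083 (iv5 D161851)))
theorem F305502 : act 0 n165633 = n170693 := (sb E59086 (iv1 F280422))
theorem F305503 : act 1 n165634 = n170693 := (sb E59087 F280425)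
theorem F305504 : act 0 n165635 = n170692 := (sb E59088 (iv1 F280426))
theorem F305505 : act 1 n165635 = n170691 := (sb E59088 F280424)
theorem F305506 : act 7 n165635 = n170693 := (sb E59088 F280423)
theorem F305508 : act 6 n121245 = n79557 := (sb E59090 (iv6 D165638))
theorem F305509 : act 2 n154082 = n84695 := (sb E59092 F277475)
theorem E62164 : n174425 = n128239 := (((F241855).symm.trans (sb E59099 (iv4 F277472)))).symm
theorem F305510 : act 1 n100078 = n95646 := (sb E59102 F196553)
theorem F305511 : act 2 n100078 = n56989 := (sb E59102 (iv2 D122692))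
theorem F305512 : act 3 n100078 = n71649 := (sb E59102 F196549)
theorem E62165 : n89332 = n70067 := ((F249744).symm.trans (sb E59102 F196550))
theorem F305513 : act 7 n100078 = n76659 := (sb E59102 F196552)
theorem F305514 : act 1 n77604 = n46725 := (sb E59103 (iv0 D100077))
theorem E62166 : n154295 = n89331 := (((iv4 F242399)).symm.trans (sb E59103 (iv4 F274775)))
theorem F305515 : act 4 n44646 = n46725 := (sb E59104 (iv4 D100079))
theorem E62167 : n95592 = n88924 := ((D95592).symm.trans (sb E59104 F154010))
theorem F305516 : act 3 n100495 = n83369 := (sb E59105 (iv3 D174411))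
theorem F305518 : act 1 n122835 = n76086 := (sb E59106 F236344)
theorem F305519 : act 2 n122835 = n154077 := (sb E59106 (iv2 F242149))
theorem F305520 : act 4 n122835 = n119775 := (sb E59106 F236342)
theorem F305521 : act 5 n122835 = n118096 := (sb E59106 (iv5 F236345))
theorem F305522 : act 6 n122835 = n179738 := (sb E59106 F279965)
theorem F305523 : act 0 n122832 = n154077 := (sb E59107 (iv1 F242152))
theorem F305524 : act 2 n122832 = n76086 := (sb E59107 F236281)
theorem F305525 : act 4 n122832 = n70652 := (sb E59107 F236282)
theorem F305526 : act 6 n122832 = n70650 := (sb E59107 (iv6 D150121))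
theorem F305528 : act 0 n101842 = n76837 := (sb E59108 (iv1 D160320))
theorem E62170 : n182958 = n57669 := (((F90856).symm.trans (sb E59109 D182958))).symm
theorem E62171 : n72303 = n40602 := ((D72303).symm.trans (sb E59109 F134104))
theorem E62172 : n98331 = n73493 := (((iv1 F156200)).symm.trans (sb E59110 F241369))
theorem E62173 : n98867 = n73498 := ((D98867).symm.trans (sb E59110 (iv0 F235051)))
theorem E62174 : n98868 = n70185 := ((D98868).symm.trans (sb E59110 F235050))
theorem F305529 : act 6 n46269 = n70184 := (sb E59110 (iv6 D149457))
theorem F305532 : act 5 n120539 = n125122 := (sb E59111 F236357)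
theorem F305533 : act 6 n120539 = n154077 := (sb E59111 F242153)
theorem F305535 : act 4 n120540 = n70627 := (sb E59112 F236202)
theorem F305536 : act 5 n120540 = n183011 := (sb E59112 F284628)
theorem F305538 : act 0 n120541 = n69966 := (sb E59113 (iv1 D149092))
theorem F305539 : act 1 n120541 = n85851 := (sb E59113 F234480)
theorem F305540 : act 2 n120541 = n183011 := (sb E59113 (iv2 F284629))
theorem F305541 : act 7 n120541 = n183010 := (sb E59113 F284624)
theorem F305542 : act 0 n120543 = n81845 := (sb E59114 F250641)
theorem F305543 : act 1 n120543 = n85829 := (sb E59114 F250642)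
theorem F305544 : act 5 n120544 = n160472 := (sb E59115 (iv5 F253483))
theorem E62178 : n157562 = n101333 := ((D157562).symm.trans (sb E59118 F156113))
theorem E62179 : n181961 = n154142 := ((((iv0 F242217)).symm.trans (sb E59118 F283253))).symm
theorem F305545 : act 3 n75005 = n89337 := (sb E59118 (iv3 F137022))
theorem E62180 : n182140 = n157563 := (((D157563).symm.trans (sb E59118 (iv4 F283521)))).symm
theorem E62181 : n182141 = n123700 := ((((iv6 F198166)).symm.trans (sb E59118 D182141))).symm
theorem F305546 : act 7 n75005 = n40379 := (sb E59118 (iv7 D86974))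
theorem E62182 : n123702 = n89209 := ((D123702).symm.trans (sb E59119 F286479))
theorem F305547 : act 6 n41684 = n27547 := (sb E59120 (iv6 D57668))
theorem E62185 : n123706 = n89210 := (((D89210).symm.trans (sb E59120 D123706))).symm
theorem E62186 : n153288 = n89304 := ((D153288).symm.trans (sb E59121 F286542))
theorem E62187 : n153289 = n101327 := ((D153289).symm.trans (sb E59121 F286543))
theorem E62188 : n182123 = n153290 := (((D153290).symm.trans (sb E59121 F286544))).symm
theorem F305548 : act 0 n72412 = n47142 := (sb E59122 (iv1 D101231))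
theorem E62189 : n157591 = n47331 := ((D157591).symm.trans (sb E59128 (iv1 F156338)))
theorem E62190 : n157592 = n47336 := ((D157592).symm.trans (sb E59128 F156332))
theorem F305549 : act 2 n75020 = n47111 := (sb E59128 F155814)
theorem E62191 : n157594 = n99700 := ((D157594).symm.trans (sb E59128 (iv5 F153506)))
theorem F305550 : act 6 n75020 = n46513 := (sb E59128 (iv6 D99501))
theorem E62192 : n181425 = n150420 := (((D150420).symm.trans (sb E59129 (iv5 F282539)))).symm
theorem E62193 : n156397 = n70874 := ((D156397).symm.trans (iv6 (sb E59129 (tr (iv6 D181312) E61798))))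
theorem E62194 : n124397 = n101223 := (((iv0 F304595)).symm.trans (sb E59130 F286538))
theorem F305551 : act 2 n75021 = n101326 := (sb E59130 F286536)
theorem E62195 : n182126 = n152901 := (((F240124).symm.trans (sb E59131 (iv1 F286533)))).symm
theorem E62196 : n157606 = n88007 := ((D157606).symm.trans (sb E59131 (iv7 D184555)))
theorem F305552 : act 1 n22696 = n34371 := (sb E59132 (iv0 D75028))
theorem E62198 : n157608 = n47181 := (((D47181).symm.trans (sb E59132 D157608))).symm
theorem F305553 : act 5 n75029 = n47143 := (sb E59133 F155948)
theorem F305554 : act 7 n75029 = n47142 := (sb E59133 (iv7 D101233))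
theorem E62200 : n149174 = n76675 := (((D76675).symm.trans (sb E59135 (iv0 F234547)))).symm
theorem F305555 : act 5 n35050 = n47082 := (sb E59135 (iv5 D101063))
theorem E62201 : n89149 = n73503 := ((((iv6 F110178)).symm.trans (sb E59135 F155731))).symm
theorem F305556 : act 3 n70697 = n44993 := (sb E59136 F147911)
theorem E62202 : n150208 = n44905 := ((D150208).symm.trans (sb E59136 (iv4 D96188)))
theorem F305557 : act 3 n70716 = n57614 := (sb E59137 (iv3 D123602))
theorem E62203 : n150233 = n81690 := ((D150233).symm.trans (sb E59137 F198020))
theorem F305558 : act 0 n41718 = n57641 := (sb E59138 (iv1 F120178))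
theorem F305559 : act 2 n41718 = n73048 := (sb E59138 F109573)
theorem E62204 : n89316 = n21213 := ((D89316).symm.trans (sb E59138 (iv4 D44595)))
theorem E62205 : n95458 = n89317 := (((D89317).symm.trans (sb E59138 D95458))).symm
theorem F305560 : act 7 n41718 = n44993 := (sb E59138 (iv7 F70755))
theorem E62206 : n151575 = n89417 := ((D151575).symm.trans (sb E59139 F289407))
theorem F305561 : act 1 n154188 = n89379 := (sb E59141 (iv0 F289419))
theorem E62207 : n175046 = n60310 := ((((iv4 F94852)).symm.trans (sb E59142 (iv4 F273958)))).symm
theorem F305562 : act 0 n28653 = n33780 := (sb E59143 F188407)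
theorem F305563 : act 1 n28653 = n33785 := (sb E59143 F188408)
theorem E62208 : n151353 = n60326 := (((D60326).symm.trans (sb E59143 D151353))).symm
theorem F305564 : act 6 n28653 = n33006 := (sb E59143 (iv6 D71330))
theorem F305565 : act 4 n16385 = n33766 := (sb E59147 F110102)
theorem F305566 : act 3 n128263 = n83418 := (sb E59166 F273415)
theorem F305567 : act 3 n153894 = n84628 := (sb E59167 (iv3 D177724))
theorem E62225 : n158613 = n29521 := ((((iv2 F47339)).symm.trans (sb E59169 (iv2 F249791)))).symm
theorem E62226 : n61195 = n34599 := (((iv3 F95674)).symm.trans (sb E59169 F113523))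
theorem E62229 : n34596 = n13795 := ((((iv6 D28978)).symm.trans (sb E59169 (iv6 D75663)))).symm
theorem F305568 : act 3 n46010 = n29266 := (sb E59171 (iv3 D61743))
theorem E62231 : n131589 = n98341 := (((D98341).symm.trans (sb E59171 D131589))).symm
theorem E62232 : n180878 = n62691 := ((D180878).symm.trans (sb E59172 (iv6 D133584)))
theorem E62233 : n172153 = n158442 := (((iv1 F303449)).symm.trans (sb E59173 (iv1 F249641)))
theorem F305569 : act 1 n127898 = n158441 := (sb E59173 F249640)
theorem F305570 : act 7 n127898 = n71816 := (sb E59173 (iv7 D152246))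
theorem F305571 : act 1 n40097 = n61399 := (sb E59174 (iv0 D130864))
theorem F305572 : act 2 n40097 = n74857 := (sb E59174 (iv2 F209454))
theorem E62234 : n86519 = n85095 := ((D86519).symm.trans (sb E59174 F209453))
theorem F305573 : act 7 n40097 = n74858 := (sb E59174 F209455)
theorem F305574 : act 3 n85165 = n86524 := (sb E59178 F282190)
theorem E62236 : n119154 = n26332 := (((F73775).symm.trans (sb E59180 D119154))).symm
theorem F305575 : act 4 n46679 = n26525 := (sb E59180 (iv4 D54831))
theorem E62238 : n99944 = n26531 := ((D99944).symm.trans (sb E59180 F86767))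
theorem E62239 : n161025 = n26530 := (((D26530).symm.trans (sb E59181 F254554))).symm
theorem E62240 : n161101 = n14082 := ((((iv0 F27036)).symm.trans (sb E59181 (iv0 F268848)))).symm
theorem E62243 : n149952 = n118642 := ((D149952).symm.trans (sb E59182 (iv1 F215854)))
theorem E62244 : n119187 = n80483 := ((((iv0 F297861)).symm.trans (sb E59182 F187538))).symm
theorem E62245 : n157479 = n41002 := ((((iv4 F297893)).symm.trans (sb E59182 (iv4 F248130)))).symm
theorem E62246 : n149955 = n119249 := ((D149955).symm.trans (sb E59182 (iv5 F187690)))
theorem E62247 : n78254 = n34339 := (((iv7 F119448)).symm.trans (sb E59182 (iv7 D74936)))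
theorem F305576 : act 2 n157409 = n86509 := (sb E59183 F260533)
theorem F305577 : act 3 n157409 = n89106 := (sb E59183 F260534)
theorem F305578 : act 6 n157409 = n79411 := (sb E59183 (iv6 D165282))
theorem F305579 : act 4 n130865 = n69977 := (sb E59184 (iv4 D149114))
theorem E62248 : n131153 = n79067 := (((iv6 F210071)).symm.trans (sb E59184 F302795))
theorem E62249 : n182946 = n72482 := (((D72482).symm.trans (sb E59187 (iv5 F284526)))).symm
theorem F305580 : act 7 n33456 = n40594 := (sb E59187 (iv7 D87343))
theorem F305581 : act 2 n70007 = n123044 := (sb E59189 (iv2 F197196))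
theorem F305582 : act 3 n70007 = n33653 := (sb E59189 (iv3 D73042))
theorem E62250 : n154175 = n32492 := ((((iv6 D70007)).symm.trans (sb E59189 D154175))).symm
theorem F305583 : act 7 n70007 = n123084 := (sb E59189 (iv7 F197274))
theorem F305584 : act 6 n100061 = n86008 := (sb E59191 (iv6 D179987))
theorem F305585 : act 1 n57600 = n73321 := (sb E59192 (iv0 D154635))
theorem E62251 : n123577 = n86009 := ((D123577).symm.trans (sb E59192 F242751))
theorem F305586 : act 6 n39774 = n79279 := (sb E59193 (iv6 D165006))
theorem F305587 : act 0 n148163 = n98054 := (sb E59196 F300225)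
theorem E62252 : n160127 = n70958 := (((iv0 F252726)).symm.trans (sb E59196 F237051))
theorem F305588 : act 2 n148163 = n80554 := (sb E59196 F300226)
theorem F305589 : act 4 n148163 = n122619 := (sb E59196 F236815)
theorem F305590 : act 7 n148163 = n98051 := (sb E59196 F300228)
theorem F305591 : act 2 n122685 = n152012 := (sb E59197 F247844)
theorem F305592 : act 3 n122685 = n62569 := (sb E59197 F214291)
theorem F305594 : act 6 n122685 = n62566 := (sb E59197 (iv6 D133317))
theorem F305595 : act 7 n122685 = n151798 := (sb E59197 (tr (iv7 F247850) E61128))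
theorem F305596 : act 6 n83600 = n60185 := (sb E59199 (iv6 D128074))
theorem E62254 : n151785 = n131183 := ((((iv3 F210128)).symm.trans (sb E59200 (iv3 F238702)))).symm
theorem F305597 : act 3 n61543 = n36297 := (sb E59202 (iv3 D79711))
theorem F305598 : act 6 n61543 = n79420 := (sb E59202 F122379)
theorem F305599 : act 0 n61071 = n36544 := (sb E59203 (iv1 D80221))
theorem E62260 : n167101 = n130060 := ((((iv3 F208505)).symm.trans (sb E59203 D167101))).symm
theorem F305600 : act 4 n80223 = n61389 := (sb E59204 (iv4 F207452))
theorem E62263 : n151788 = n131182 := (((D131182).symm.trans (sb E59210 F243528))).symm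
theorem E62264 : n131180 = n123019 := (((iv4 F210124)).symm.trans (sb E59210 F243530))
theorem F305602 : act 4 n83594 = n60320 := (sb E59219 F206415)
theorem F305603 : act 0 n81546 = n131741 := (sb E59221 (iv1 F211096))
theorem F305604 : act 2 n81546 = n131740 := (sb E59221 F211088)
theorem F305605 : act 4 n81546 = n60097 := (sb E59221 F205856)
theorem E62266 : n170015 = n62865 := ((D170015).symm.trans (sb E59221 F205857))
theorem F305606 : act 7 n81546 = n60096 := (sb E59221 (iv7 D127927))
theorem F305607 : act 0 n127838 = n96752 := (sb E59223 F259775)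
theorem F305608 : act 3 n127838 = n122615 := (sb E59223 F259774)
theorem E62267 : n157463 = n39294 := (((F60282).symm.trans (sb E59225 (iv3 F248091)))).symm
theorem F305609 : act 4 n37298 = n72399 := (sb E59225 F185284)
theorem E62268 : n72802 = n55636 := ((((iv5 F88017)).symm.trans (sb E59225 F112439))).symm
theorem E62269 : n81615 = n34329 := ((D81615).symm.trans (sb E59225 (iv6 D74916)))
theorem E62270 : n153229 = n10304 := ((((iv3 D21568)).symm.trans (sb E59226 D153229))).symm
theorem F305610 : act 4 n21568 = n33388 := (sb E59226 (iv4 D72351))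
theorem E62271 : n73295 = n45191 := (((D45191).symm.trans (sb E59226 F185297))).symm
theorem E62272 : n45192 = n33401 := ((D45192).symm.trans (sb E59226 F108798))
theorem F305611 : act 5 n32169 = n45188 := (sb E59227 F148955)
theorem F305613 : act 6 n83708 = n60339 := (sb E59228 (iv6 D128340))
theorem F305614 : act 3 n71332 = n85787 := (sb E59229 F229096)
theorem E62273 : n151358 = n67913 := ((D151358).symm.trans (sb E59229 (iv5 D144892)))
theorem E62274 : n162778 = n151359 := (((D151359).symm.trans (sb E59229 (iv6 F257046)))).symm
theorem F305615 : act 4 n83656 = n85787 := (sb E59230 (iv4 D179647))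
theorem E62275 : n175152 = n162779 := ((D175152).symm.trans (sb E59230 F279772))
theorem F305616 : act 6 n72813 = n44576 := (sb E59231 (iv6 D95434))
theorem E62276 : n154535 = n101898 := (((iv1 F242569)).symm.trans (sb E59232 F287350))
theorem F305617 : act 3 n128239 = n166908 := (sb E59232 F273219)
theorem F305618 : act 6 n128239 = n83351 := (sb E59232 (iv6 D174375))
theorem E62277 : n83707 = n83593 := ((E60224).symm.trans ((D178891).symm.trans (sb E59233 F273952)))
theorem F305619 : act 6 n85294 = n83592 := (sb E59233 (iv6 D175039))
theorem F305620 : act 4 n72338 = n83087 := (sb E59235 (iv4 F301003))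
theorem F305621 : act 2 n120703 = n73291 := (sb E59236 F241839)
theorem F305622 : act 6 n120703 = n72801 := (sb E59236 (iv6 D153891))
theorem F305623 : act 0 n128102 = n69166 := (sb E59237 (iv1 F231083))
theorem F305624 : act 6 n128102 = n69185 := (sb E59237 F231082)
theorem F305625 : act 7 n146995 = n69166 := (sb E59238 F231046)
theorem E62279 : n69163 = n68943 := ((((iv6 F105108)).symm.trans (sb E59240 D69163))).symm
theorem F305626 : act 7 n32060 = n54249 := (sb E59240 F190436)
theorem F305627 : act 2 n117488 = n69166 := (sb E59242 (iv2 F190457))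
theorem F305628 : act 4 n117488 = n54249 := (sb E59242 (iv4 D117763))
theorem F305629 : act 4 n58335 = n84063 := (sb E59243 (iv4 D176258))
theorem F305630 : act 3 n147148 = n154817 := (sb E59244 F275506)
theorem F305631 : act 4 n147148 = n84062 := (sb E59244 (iv4 D176253))
theorem F305632 : act 5 n148850 = n84062 := (sb E59245 (iv5 D176254))
theorem F305633 : act 6 n167794 = n84062 := (sb E59246 (iv6 D176255))
theorem E62280 : n178891 = n83593 := (E60224).trans E62277
theorem F305634 : act 0 n58351 = n40009 := (sb E59248 (iv1 D86406))
theorem F305635 : act 4 n152601 = n84183 := (sb E59249 (iv4 D176567))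
theorem F305636 : act 3 n128168 = n84184 := (sb E59250 (iv3 D176571))
theorem F305637 : act 4 n128168 = n154565 := (sb E59250 F275933)
theorem F305638 : act 1 n27017 = n32170 := (sb E59253 (iv0 D69169))
theorem E62282 : n32260 = n12942 := ((((iv3 D27017)).symm.trans (sb E59253 (iv3 F243057)))).symm
theorem E62283 : n147584 = n55141 := ((((iv6 F87227)).symm.trans (sb E59253 D147584))).symm
theorem E62284 : n181327 = n150422 := ((D181327).symm.trans (sb E59254 F236809))
theorem E62285 : n181328 = n150420 := ((D181328).symm.trans (sb E59254 (iv0 F236800)))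
theorem F305639 : act 2 n86580 = n70803 := (sb E59254 F205828)
theorem E62287 : n107909 = n46548 := ((((iv3 D99591)).symm.trans (sb E59258 F215359))).symm
theorem F305640 : act 4 n99591 = n70800 := (sb E59258 F215360)
theorem F305641 : act 6 n99591 = n131252 := (sb E59258 F215361)
theorem F305642 : act 7 n99591 = n62800 := (sb E59258 (iv7 D133765))
theorem F305643 : act 3 n57324 = n70801 := (sb E59260 (iv3 D150332))
theorem E62288 : n131245 = n123179 := (((D123179).symm.trans (sb E59260 F236601))).symm
theorem E62289 : n131244 = n123060 := (((iv3 F210303)).symm.trans (sb E59261 F259787))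
theorem F305644 : act 7 n61584 = n123505 := (sb E59261 F259788)
theorem E62290 : n147547 = n37192 := (((F71127).symm.trans (sb E59263 (iv3 F231337)))).symm
theorem E62291 : n96656 = n74883 := ((D96656).symm.trans (sb E59263 (iv6 F112397)))
theorem F305645 : act 7 n45138 = n32170 := (sb E59263 (iv7 D69172))
theorem F305646 : act 2 n17897 = n32170 := (sb E59264 F54446)
theorem E62292 : n61481 = n8445 := ((((iv3 D17897)).symm.trans (sb E59264 (iv3 F95982)))).symm
theorem E62293 : n37230 = n16610 := ((D37230).symm.trans (sb E59264 (iv6 D34310)))
theorem E62294 : n117580 = n76734 := ((((iv1 F115114)).symm.trans (sb E59265 (iv1 F189755)))).symm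
theorem E62295 : n76733 = n55281 := ((F115113).symm.trans (sb E59265 (iv0 D120131)))
theorem E62296 : n74844 = n17421 := ((((iv2 D35989)).symm.trans (sb E59265 (iv2 F189753)))).symm
theorem E62297 : n152884 = n73723 := ((((iv6 F110433)).symm.trans (sb E59265 F240079))).symm
theorem E62298 : n169957 = n75064 := ((D169957).symm.trans (sb E59267 F236609))
theorem E62299 : n75050 = n38975 := (((F129628).symm.trans (sb E59267 (iv0 F236610)))).symm
theorem F305647 : act 4 n81524 = n70803 := (sb E59267 F236607)
theorem E62300 : n169958 = n147912 := ((D169958).symm.trans (sb E59267 F236608))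
theorem E62301 : n169959 = n154696 := ((D169959).symm.trans (sb E59267 (iv7 F242862)))
theorem F305648 : act 0 n131260 = n149898 := (sb E59268 (iv1 F259797))
theorem F305649 : act 1 n148951 = n149898 := (sb E59269 F259791)
theorem E62302 : n154265 = n69828 := (((F234025).symm.trans (sb E59269 (iv3 F259792)))).symm
theorem F305650 : act 2 n150335 = n149898 := (sb E59271 F259795)
theorem F305652 : act 0 n70486 = n33076 := (sb E59274 (iv1 D71494))
theorem E62304 : n151715 = n80680 := (((F305401).symm.trans (sb E59274 D151715))).symm
theorem E62305 : n151716 = n149908 := (((D149908).symm.trans (sb E59274 D151716))).symm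
theorem E62306 : n164751 = n130329 := (E59275).trans E59320
theorem F305653 : act 3 n130329 = n119111 := (sb E62306 F259800)
theorem E62307 : n131315 = n44904 := ((((iv4 F70562)).symm.trans (sb E59282 F252078))).symm
theorem E62308 : n118534 = n83158 := (((D83158).symm.trans (sb E59282 (iv6 F252079)))).symm
theorem F305655 : act 4 n80266 = n62721 := (sb E59285 F208286)
theorem E62310 : n167201 = n61020 := ((D167201).symm.trans (sb E59285 (iv6 D129923)))
theorem E62311 : n167203 = n129364 := ((D167203).symm.trans (sb E59286 F236633))
theorem E62312 : n167204 = n134700 := ((D167204).symm.trans (sb E59286 (iv6 F236631)))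
theorem E62314 : n167206 = n131100 := ((D167206).symm.trans (sb E59287 F236635))
theorem F305656 : act 4 n80269 = n70815 := (sb E59288 F236636)
theorem E62315 : n161836 = n70703 := (((F107165).symm.trans (sb E59291 F259811))).symm
theorem F305657 : act 2 n71547 = n84889 := (sb E59299 (iv2 F130095))
theorem F305658 : act 0 n71499 = n84889 := (sb E59300 F232696)
theorem F305659 : act 3 n71499 = n73698 := (sb E59300 F232547)
theorem E62317 : n151722 = n119782 := ((D151722).symm.trans (sb E59300 (iv5 F188996)))
theorem F305660 : act 6 n71499 = n33087 := (sb E59300 (iv6 D71534))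
theorem F305661 : act 5 n73685 = n34389 := (sb E59301 (iv5 D75084))
theorem F305662 : act 4 n78257 = n77223 := (sb E59304 F254121)
theorem F305663 : act 0 n72343 = n86478 := (sb E59308 (iv1 F132637))
theorem F305664 : act 1 n72343 = n37220 := (sb E59308 (iv0 D81516))
theorem F305665 : act 3 n84932 = n72399 := (sb E59309 F240729)
theorem F305666 : act 5 n84932 = n72375 := (sb E59309 F240730)
theorem E62323 : n178479 = n157434 := ((D178479).symm.trans (sb E59309 (iv6 F247974)))
theorem F305667 : act 7 n84932 = n72374 := (sb E59309 (iv7 D153249))
theorem F305668 : act 5 n120685 = n147648 := (sb E59312 (iv5 F240601))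
theorem F305669 : act 6 n120685 = n69008 := (sb E59312 (iv6 D147206))
theorem E62328 : n147343 = n77116 := ((D147343).symm.trans (sb E59313 F125404))
theorem E62329 : n147344 = n71908 := ((D147344).symm.trans (sb E59313 F125405))
theorem E62330 : n110626 = n44751 := (((iv3 F171221)).symm.trans (sb E59313 F125402))
theorem F305670 : act 5 n69077 = n77107 := (sb E59313 (iv5 F125403))
theorem E62332 : n147346 = n82743 := ((D147346).symm.trans (sb E59313 F298833))
theorem E62333 : n147560 = n114447 := (((iv3 F231349)).symm.trans (sb E59314 (iv3 F239621)))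
theorem F305671 : act 5 n69158 = n77106 := (sb E59314 F239619)
theorem F305672 : act 0 n69086 = n146995 := (sb E59315 (iv1 F230402))
theorem F305673 : act 1 n69086 = n117488 := (sb E59315 F205796)
theorem E62334 : n147357 = n60068 := (((iv3 F231078)).symm.trans (sb E59315 F205795))
theorem F305674 : act 5 n69086 = n60067 := (sb E59315 (iv5 D127881))
theorem F305675 : act 7 n69086 = n128102 := (sb E59315 (iv7 F206180))
theorem F305676 : act 0 n69196 = n117488 := (sb E59316 F273966)
theorem F305677 : act 1 n69196 = n146995 := (sb E59316 F273967)
theorem F305678 : act 2 n69196 = n128102 := (sb E59316 F273962)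
theorem E62335 : n147642 = n69741 := (((iv3 F231413)).symm.trans (sb E59316 (tr F273963 E61846)))
theorem F305679 : act 5 n69196 = n83595 := (sb E59316 (iv5 D175047))
theorem E62336 : n120205 = n61186 := ((E60297).symm.trans (((iv1 F233897)).symm.trans (sb E59317 (iv1 F208852))))
theorem E62337 : n154143 = n61185 := ((F242220).symm.trans (sb E59317 F208853))
theorem F305680 : act 2 n73021 = n61187 := (sb E59317 F208850)
theorem E62338 : n133029 = n128154 := (((F206284).symm.trans (sb E59317 (iv5 F213684)))).symm
theorem E62339 : n124697 = n61171 := (((iv7 F199486)).symm.trans (sb E59317 (iv7 D130331)))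
theorem F305681 : act 4 n55133 = n61187 := (sb E59318 F208907)
theorem E62340 : n61184 = n33641 := ((((iv7 F190497)).symm.trans (sb E59318 (iv7 D130379)))).symm
theorem E62341 : n148865 = n61186 := (E60297).trans E62336
theorem F305682 : act 4 n130330 = n70804 := (sb E59319 (iv4 D150336))
theorem F305683 : act 6 n130330 = n148838 := (sb E59319 F236615)
theorem E62342 : n130385 = n130330 := ((D130385).symm.trans (iv7 (sb E59319 (tr (iv7 F242221) E62337))))
theorem E62343 : n130380 = n130329 := ((D130380).symm.trans (iv2 (sb E59320 (tr F242219 E62337))))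
theorem F305684 : act 4 n130329 = n70805 := (sb E59320 (iv4 D150337))
theorem E62345 : n74699 = n54581 := (((D54581).symm.trans (sb E59329 (iv6 D157117)))).symm
theorem E62346 : n153268 = n61183 := ((((iv1 F98057)).symm.trans (sb E59330 D153268))).symm
theorem E62347 : n75043 = n61182 := (((F98055).symm.trans (sb E59330 F130982))).symm
theorem E62348 : n124770 = n49976 := (((F98053).symm.trans (sb E59330 (iv5 F200431)))).symm
theorem F305685 : act 6 n62828 = n33418 := (sb E59330 (iv6 D72395))
theorem F305686 : act 1 n130193 = n72064 := (sb E59331 F239934)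
theorem F305687 : act 4 n130193 = n158317 := (sb E59331 F300409)
theorem F305688 : act 6 n130193 = n71979 := (sb E59331 (iv6 D152596))
theorem F305689 : act 0 n96300 = n62800 := (sb E59333 (iv1 D133764))
theorem F305690 : act 4 n96300 = n72347 := (sb E59333 (iv4 F215356))
theorem F305691 : act 6 n96300 = n157416 := (sb E59333 (iv6 F247918))
theorem E62351 : n70734 = n61174 := (((D61174).symm.trans (sb E59335 F236464))).symm
theorem E62352 : n70732 = n61176 := (((D61176).symm.trans (sb E59335 (iv6 D150261)))).symm
theorem F305692 : act 0 n54694 = n60113 := (sb E59341 (iv1 D127950))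
theorem F305693 : act 1 n54694 = n60123 := (sb E59341 F205904)
theorem F305694 : act 2 n54694 = n60121 := (sb E59341 F205908)
theorem E62353 : n118813 = n60127 := ((D118813).symm.trans (sb E59341 (iv3 F205907)))
theorem F305695 : act 1 n54696 = n117878 := (sb E59343 F244195)
theorem F305696 : act 4 n32859 = n26454 := (sb E59345 (iv4 D54699))
theorem E62355 : n118833 = n70935 := (((D70935).symm.trans (sb E59345 D118833))).symm
theorem E62356 : n154857 = n118655 := (((D118655).symm.trans (sb E59350 D154857))).symm
theorem F305697 : act 1 n55117 = n39445 := (sb E59354 (iv0 D85394))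
theorem E62363 : n179001 = n119781 := ((((iv4 F188995)).symm.trans (sb E59354 D179001))).symm
theorem E62365 : n170334 = n106004 := ((((iv1 F189984)).symm.trans (sb E59356 (iv1 F302777)))).symm
theorem E62366 : n170316 = n119777 := (((F188987).symm.trans (sb E59356 (iv0 F303028)))).symm
theorem E62367 : n119791 = n39274 := ((D119791).symm.trans (sb E59356 (iv5 D84885)))
theorem F305698 : act 5 n55123 = n71547 := (sb E59358 F238695)
theorem F305699 : act 5 n55119 = n54685 := (sb E59359 (iv5 D118782))
theorem E62368 : n154253 = n119553 := ((((iv6 F238284)).symm.trans (sb E59359 (iv6 F242367)))).symm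
theorem E62369 : n101597 = n83784 := ((D101597).symm.trans (sb E60645 (iv0 D175452)))
theorem F305700 : act 0 n55068 = n83784 := (sb E59361 (iv1 D175453))
theorem F305701 : act 4 n39592 = n33787 := (sb E59363 F110172)
theorem F305702 : act 6 n39592 = n33785 := (sb E59363 (iv6 D73484))
theorem F305703 : act 5 n58401 = n54684 := (sb E59367 (iv5 D118779))
theorem E62372 : n154831 = n124932 := (((D124932).symm.trans (sb E59367 (iv6 F243532)))).symm
theorem F305704 : act 5 n58402 = n71554 := (sb E59368 F238713)
theorem E62373 : n128283 = n83626 := ((D128283).symm.trans (sb E59371 (iv1 F239799)))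
theorem F305705 : act 1 n60308 = n83625 := (sb E59371 F239800)
theorem E62374 : n164555 = n128287 := (((D128287).symm.trans (sb E59371 (iv6 F259376)))).symm
theorem F305706 : act 7 n60308 = n71981 := (sb E59371 (iv7 D152603))
theorem F305709 : act 2 n84115 = n84043 := (sb E59373 (iv2 F301381))
theorem F305711 : act 2 n123133 = n57749 := (sb E59379 F198382)
theorem F305712 : act 7 n123133 = n57748 := (sb E59379 (iv7 D123956))
theorem F305713 : act 1 n128063 = n83423 := (sb E59380 (iv0 D174566))
theorem F305714 : act 0 n73242 = n83423 := (sb E59381 (iv1 D174567))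
theorem F305715 : act 2 n128229 = n83423 := (sb E59382 (iv2 D174568))
theorem F305716 : act 2 n80220 = n38523 := (sb E59383 (iv2 D83554))
theorem E62377 : n174935 = n167098 := (((D167098).symm.trans (sb E59383 D174935))).symm
theorem F305717 : act 7 n80220 = n38524 := (sb E59383 (iv7 F128647))
theorem E62378 : n131273 = n114622 := (((iv3 F210375)).symm.trans (sb E59384 F235681))
theorem F305718 : act 4 n61600 = n38523 := (sb E59384 (iv4 F302238))
theorem F305719 : act 2 n61071 = n38524 := (sb E59385 F128648)
theorem E62379 : n174941 = n130060 := ((((iv3 F208505)).symm.trans (sb E59385 (iv3 F273834)))).symm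
theorem E62380 : n174946 = n127100 := ((((iv5 F204345)).symm.trans (sb E59385 (iv5 F273837)))).symm
theorem F305720 : act 7 n61071 = n38523 := (sb E59385 (iv7 D83559))
theorem F305721 : act 0 n119336 = n154536 := (sb E59386 (iv1 F242568))
theorem F305722 : act 1 n119336 = n60284 := (sb E59386 (iv0 D128237))
theorem F305723 : act 2 n83628 = n60308 := (sb E59387 (iv2 D128285))
theorem E62388 : n151752 = n148999 := (((F234210).symm.trans (sb E59391 F238660))).symm
theorem E62390 : n151868 = n61766 := (((F106827).symm.trans (sb E59391 D151868))).symm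
theorem F305724 : act 4 n70481 = n33080 := (sb E59399 F108025)
theorem F305725 : act 7 n70481 = n33076 := (sb E59399 (iv7 D71496))
theorem E62393 : n95446 = n7543 := (((D7543).symm.trans (sb E59403 (iv1 F297888)))).symm
theorem E62394 : n86686 = n6597 := ((((iv0 F53962)).symm.trans (sb E59403 (iv0 F132932)))).symm
theorem E62395 : n125240 = n7536 := ((((iv4 F11773)).symm.trans (sb E59403 (iv4 F297889)))).symm
theorem E62397 : n183293 = n108369 := ((D183293).symm.trans (sb E59404 (iv1 F215534)))
theorem E62398 : n183294 = n157306 := ((D183294).symm.trans (sb E59404 F247544))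
theorem E62399 : n183295 = n155933 := ((D183295).symm.trans (sb E59404 (iv5 F244921)))
theorem E62400 : n183296 = n49858 := ((D183296).symm.trans (sb E59404 (iv7 D107947)))
theorem F305726 : act 0 n60120 = n60119 := (sb E59405 F188357)
theorem F305727 : act 4 n60120 = n54660 := (sb E59405 (iv4 D118720))
theorem E62401 : n155312 = n127965 := (((D127965).symm.trans (sb E59405 (iv6 F244249)))).symm
theorem F305728 : act 7 n60120 = n54694 := (sb E59405 F190232)
theorem F305729 : act 0 n127963 = n120099 := (sb E59406 (iv1 F251031))
theorem F305730 : act 1 n127963 = n127968 := (sb E59406 F251032)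
theorem F305731 : act 7 n127963 = n76254 := (sb E59406 (iv7 D159409))
theorem F305732 : act 2 n71807 = n71792 := (sb E59408 F186299)
theorem F305733 : act 5 n71807 = n54553 := (sb E59408 (iv5 D118467))
theorem E62402 : n152223 = n73910 := ((D152223).symm.trans (sb E59408 F186300))
theorem F305734 : act 4 n54544 = n71792 := (sb E59409 (iv4 D152219))
theorem E62403 : n127858 = n97944 := ((D127858).symm.trans (sb E59411 F268710))
theorem F305735 : act 6 n60051 = n81969 := (sb E59411 (iv6 D171013))
theorem E62407 : n149965 = n81775 := ((((iv1 F299061)).symm.trans (sb E59413 F235893))).symm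
theorem E62408 : n75042 = n38972 := (((F118776).symm.trans (sb E59413 (iv0 F130977)))).symm
theorem F305736 : act 3 n40034 = n73661 := (sb E59413 (iv3 F191048))
theorem F305737 : act 0 n72507 = n86487 := (sb E59415 (iv1 F155919))
theorem F305738 : act 1 n72507 = n86486 := (sb E59415 F155920)
theorem F305739 : act 4 n72507 = n47137 := (sb E59415 F155916)
theorem F305740 : act 6 n72507 = n86524 := (sb E59415 F155917)
theorem F305741 : act 4 n81833 = n73661 := (sb E59416 (iv4 D155174))
theorem E62410 : n84893 = n71500 := ((((iv3 F232529)).symm.trans (sb E59418 (iv3 D178419)))).symm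
theorem F305742 : act 0 n78272 = n55328 := (sb E59419 (iv1 F189216))
theorem F305743 : act 1 n78272 = n71994 := (sb E59419 F189217)
theorem F305744 : act 2 n78272 = n75116 := (sb E59419 F189213)
theorem F305745 : act 5 n78272 = n55167 := (sb E59419 (iv5 D119873))
theorem F305746 : act 6 n78272 = n74858 := (sb E59419 F189215)
theorem F305747 : act 7 n78272 = n73661 := (sb E59419 F189214)
theorem F305748 : act 1 n76609 = n70481 := (sb E59420 F119559)
theorem F305749 : act 2 n76609 = n70486 := (sb E59420 F234812)
theorem E62411 : n160010 = n70777 := ((D160010).symm.trans (sb E59420 F191394))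
theorem E62412 : n162935 = n160011 := (((D160011).symm.trans (sb E59420 D162935))).symm
theorem F305750 : act 7 n76609 = n70487 := (sb E59420 F234816)
theorem F305751 : act 1 n74935 = n98050 := (sb E59422 F299127)
theorem E62413 : n131078 = n80459 := (((iv3 F209806)).symm.trans (sb E59422 F299128))
theorem E62414 : n157480 = n81975 := ((D157480).symm.trans (sb E59422 F299129))
theorem E62415 : n129561 = n81591 := ((F207751).symm.trans (sb E59422 F257057))
theorem F305752 : act 0 n71766 = n98050 := (sb E59423 F300181)
theorem E62416 : n152175 = n100825 := ((D152175).symm.trans (sb E59423 F300183))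
theorem E62417 : n119186 = n100110 := (((iv4 F187537)).symm.trans (sb E59424 F300178))
theorem F305753 : act 7 n54846 = n98050 := (sb E59424 F300180)
theorem E62418 : n65064 = n23345 := (((D23345).symm.trans (sb E59425 (iv6 D138555)))).symm
theorem E62419 : n107853 = n100468 := ((((iv1 F272858)).symm.trans (sb E59426 D107853))).symm
theorem E62420 : n99366 = n61707 := (((iv0 F233130)).symm.trans (sb E59426 (iv0 F96305)))
theorem F305754 : act 4 n48202 = n24284 := (sb E59426 (iv4 D49811))
theorem E62421 : n107854 = n104167 := (((D104167).symm.trans (sb E59426 D107854))).symm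
theorem E62422 : n100466 = n34338 := (((iv7 F233125)).symm.trans (sb E59426 F78719))
theorem E62423 : n35291 = n29107 := ((((iv3 F46759)).symm.trans (sb E59427 (iv3 D77316)))).symm
theorem E62424 : n82012 = n55616 := (((D55616).symm.trans (sb E59427 (iv4 F126438)))).symm
theorem E62426 : n81626 = n33258 := ((((iv6 F52493)).symm.trans (sb E59427 F299153))).symm
theorem F305755 : act 4 n41530 = n70713 := (sb E59428 (iv4 D150225))
theorem F305756 : act 0 n155564 = n86515 := (sb E59429 F301890)
theorem E62428 : n131152 = n79066 := ((F244571).symm.trans (sb E59429 (iv6 D164583)))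
theorem F305757 : act 7 n155564 = n183395 := (sb E59429 F301892)
theorem F305758 : act 5 n67862 = n86515 := (sb E59430 (iv5 D181159))
theorem F305759 : act 1 n133680 = n183395 := (sb E59431 F285114)
theorem F305760 : act 4 n133680 = n98535 := (sb E59431 F282182)
theorem F305761 : act 7 n133680 = n86515 := (sb E59431 (iv7 D181160))
theorem F305762 : act 1 n86513 = n74703 := (sb E59432 (iv0 D157127))
theorem F305763 : act 4 n86936 = n62745 := (sb E59433 (iv4 D133681))
theorem E62429 : n86678 = n14101 := (((F47701).symm.trans (sb E59434 F281975))).symm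
theorem F305764 : act 0 n40198 = n62745 := (sb E59435 (iv1 F208246))
theorem E62431 : n61589 = n18982 := ((((iv3 D40198)).symm.trans (sb E59435 F208243))).symm
theorem E62432 : n86698 = n61014 := ((D86698).symm.trans (sb E59435 (iv5 D129899)))
theorem E62433 : n119163 = n86699 := (((D86699).symm.trans (sb E59435 (iv6 F208245)))).symm
theorem E62434 : n83793 = n49839 := ((D83793).symm.trans (sb E59437 (iv6 D107905)))
theorem F305765 : act 2 n107903 = n170696 := (sb E59438 F274726)
theorem F305766 : act 6 n107903 = n83792 := (sb E59438 (iv6 D175470))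
theorem E62435 : n73817 = n70472 := (((iv1 F232959)).symm.trans (sb E59439 (iv1 F190008)))
theorem E62436 : n84888 = n55336 := (((F232572).symm.trans (sb E59439 F189995))).symm
theorem E62437 : n160019 = n55123 := ((D160019).symm.trans (sb E59439 F189996))
theorem F305767 : act 2 n118087 = n75118 := (sb E59440 F239815)
theorem F305768 : act 4 n118087 = n71994 := (sb E59440 (iv4 D152617))
theorem F305769 : act 6 n118087 = n131167 := (sb E59440 F239816)
theorem F305770 : act 7 n118087 = n164531 := (sb E59440 (iv7 F259345))
theorem F305772 : act 0 n76608 = n70481 := (sb E59442 (iv1 F119558))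
theorem F305773 : act 2 n76608 = n70487 := (sb E59442 F234815)
theorem F305774 : act 3 n76608 = n69778 := (sb E59442 F233895)
theorem E62438 : n160007 = n149872 := ((D160007).symm.trans (sb E59442 (iv5 F235731)))
theorem F305775 : act 6 n76608 = n69775 := (sb E59442 F233896)
theorem F305776 : act 7 n76608 = n70486 := (sb E59442 (iv7 F234814))
theorem F305777 : act 4 n70352 = n70487 := (sb E59443 (iv4 D149910))
theorem E62439 : n179011 = n127960 := (((F205923).symm.trans (sb E59444 (iv0 F278929)))).symm
theorem F305779 : act 2 n133951 = n150632 := (sb E59445 F260385)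
theorem F305780 : act 4 n121445 = n62923 := (sb E59446 F215838)
theorem E62440 : n53968 = n52872 := (((iv3 F85142)).symm.trans (sb E59448 F106766))
theorem E62441 : n149671 = n68333 := ((((iv4 F104513)).symm.trans (sb E59448 (iv4 F235320)))).symm
theorem F305781 : act 7 n31798 = n52907 := (sb E59448 F106767)
theorem F305782 : act 2 n31811 = n52907 := (sb E59449 F85834)
theorem E62443 : n118050 = n68355 := ((((iv4 F104537)).symm.trans (sb E59449 (iv4 F185444)))).symm
theorem E62445 : n148809 = n69190 := (E60194).trans E61056
theorem F305783 : act 3 n133945 = n71917 := (sb E59450 (iv3 D152461))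
theorem F305784 : act 5 n133945 = n86322 := (sb E59450 F239648)
theorem E62446 : n117103 = n54795 := (((F107034).symm.trans (sb E59453 F210705))).symm
theorem F305785 : act 6 n70570 = n61691 := (sb E59453 (iv6 D131449))
theorem F305786 : act 2 n75555 = n77614 := (sb E59454 (iv2 D161591))
theorem F305787 : act 7 n75555 = n77615 := (sb E59454 (iv7 F255593))
theorem E62447 : n128181 = n119336 := (((F188773).symm.trans (sb E59455 (iv2 F206321)))).symm
theorem E62448 : n174426 = n57608 := ((D174426).symm.trans (sb E59455 F198002))
theorem F305788 : act 6 n83374 = n57606 := (sb E59455 (iv6 D123586))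
theorem F305789 : act 4 n124409 = n79909 := (sb E59458 F262005)
theorem F305790 : act 6 n124409 = n79907 := (sb E59458 (iv6 D166445))
theorem E62449 : n129892 = n38248 := (((F94736).symm.trans (sb E59461 (iv0 F244054)))).symm
theorem F305791 : act 4 n60178 = n54576 := (sb E59461 (iv4 D118509))
theorem E62450 : n155197 = n128057 := (((D128057).symm.trans (sb E59461 (iv6 F244043)))).symm
theorem E62451 : n129749 = n128053 := (((D128053).symm.trans (sb E59467 (iv3 F243258)))).symm
theorem F305792 : act 4 n60177 = n54580 := (sb E59467 (iv4 D118519))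
theorem F305793 : act 4 n118520 = n119595 := (sb E59468 (iv4 F300859))
theorem F305794 : act 1 n118477 = n161015 := (sb E59473 (iv0 F254535))
theorem F305795 : act 3 n118477 = n75532 := (sb E59473 F298170)
theorem F305796 : act 5 n118477 = n114439 := (sb E59473 F238210)
theorem F305797 : act 7 n118477 = n153323 := (sb E59473 (iv7 F240885))
theorem F305798 : act 4 n80408 = n54582 := (sb E59475 (iv4 D118522))
theorem F305799 : act 2 n69450 = n77638 := (sb E59476 (iv2 F116543))
theorem F305800 : act 4 n69450 = n45874 := (sb E59476 F107002)
theorem E62452 : n70303 = n32256 := ((((iv5 D69450)).symm.trans (sb E59476 F107003))).symm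
theorem F305801 : act 4 n80409 = n54583 := (sb E59477 (iv4 D118524))
theorem F305802 : act 2 n118525 = n150515 := (sb E59478 F300958)
theorem F305803 : act 4 n118525 = n82583 := (sb E59478 F300960)
theorem F305805 : act 0 n118526 = n153323 := (sb E59479 F240887)
theorem F305806 : act 3 n118526 = n75315 := (sb E59479 F301174)
theorem F305807 : act 4 n118526 = n80454 := (sb E59479 F239861)
theorem F305808 : act 5 n118526 = n120666 := (sb E59479 F239860)
theorem F305809 : act 6 n118526 = n75313 := (sb E59479 F301175)
theorem F305810 : act 7 n118526 = n161015 := (sb E59479 (iv7 F254534))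
theorem F305811 : act 1 n118527 = n153323 := (sb E59480 (iv0 F240886))
theorem F305812 : act 2 n118527 = n161015 := (sb E59480 (iv2 F254531))
theorem F305813 : act 3 n118527 = n127880 := (sb E59480 (iv3 F239864))
theorem F305814 : act 4 n118527 = n80453 := (sb E59480 F239863)
theorem F305815 : act 5 n118527 = n123816 := (sb E59480 (iv5 F239865))
theorem F305816 : act 5 n114192 = n54584 := (sb E59481 (iv5 D118529))
theorem E62453 : n151854 = n151769 := (((D151769).symm.trans (sb E59496 D151854))).symm
theorem E62454 : n151855 = n151771 := (((D151771).symm.trans (sb E59497 D151855))).symm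
theorem E62455 : n151772 = n72938 := ((D151772).symm.trans (sb E59497 (iv5 F190614)))
theorem E62460 : n151878 = n123233 := ((((iv1 F238694)).symm.trans (sb E59499 D151878))).symm
theorem E62461 : n151775 = n84894 := ((D151775).symm.trans (sb E59499 (iv5 F130105)))
theorem E62462 : n151879 = n151776 := (((D151776).symm.trans (sb E59499 D151879))).symm
theorem F305817 : act 5 n39276 = n33092 := (sb E59500 (iv5 D71546))
theorem E62467 : n151786 = n131177 := ((D151786).symm.trans (sb E59502 (iv0 F210114)))
theorem F305818 : act 6 n15934 = n33036 := (sb E59503 (iv6 D71398))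
theorem E62474 : n151907 = n81920 := ((((iv1 F126264)).symm.trans (sb E59505 D151907))).symm
theorem E62475 : n151909 = n88814 := (((D88814).symm.trans (sb E59505 D151909))).symm
theorem E62481 : n151918 = n151800 := (((D151800).symm.trans (sb E59507 D151918))).symm
theorem E62486 : n151934 = n118701 := (((D118701).symm.trans (sb E59508 D151934))).symm
theorem F305819 : act 6 n15981 = n33098 := (sb E59509 (iv6 D71559))
theorem E62543 : n117499 = n117403 := ((((iv5 F183875)).symm.trans (sb E59526 F215810))).symm
theorem F305820 : act 4 n121442 = n71746 := (sb E59528 F215830)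
theorem F305822 : act 6 n121442 = n135458 := (sb E59528 F217785)
theorem F305824 : act 5 n121443 = n129928 := (sb E59529 F209482)
theorem F305825 : act 6 n121443 = n61408 := (sb E59529 (iv6 D130895))
theorem F305826 : act 0 n121444 = n131201 := (sb E59530 F215835)
theorem E62544 : n181347 = n55737 := ((D181347).symm.trans (sb E59531 (iv2 D120877)))
theorem E62545 : n181349 = n176973 := ((D181349).symm.trans (sb E59531 (iv4 F276316)))
theorem F305828 : act 0 n35707 = n40143 := (sb E59532 (iv1 D86588))
theorem E62550 : n181343 = n155349 := ((D181343).symm.trans (sb E59533 F257300))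
theorem E62551 : n181344 = n178421 := ((D181344).symm.trans (sb E59533 F278012))
theorem E62552 : n181346 = n106037 := ((D181346).symm.trans (sb E59533 F257299))
theorem F305829 : act 7 n49015 = n40143 := (sb E59534 (iv7 D86590))
theorem E62555 : n106051 = n82992 := ((D106051).symm.trans (sb E59535 F135092))
theorem E62556 : n184767 = n106052 := (((D106052).symm.trans (sb E59535 D184767))).symm
theorem F305830 : act 6 n49017 = n41139 := (sb E59535 (iv6 D88107))
theorem E62558 : n106054 = n52953 := ((D106054).symm.trans (sb E59536 F178835))
theorem F305831 : act 6 n49018 = n52951 := (sb E59536 (iv6 D114729))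
theorem F305832 : act 6 n36091 = n23912 := (sb E59540 (iv6 F301885))
theorem E62559 : n159878 = n71906 := ((((iv5 F108414)).symm.trans (sb E59543 F252095))).symm
theorem F305833 : act 1 n70125 = n79286 := (sb E59544 (iv0 D165022))
theorem F305834 : act 7 n70125 = n79288 := (sb E59544 (iv7 F260239))
theorem F305835 : act 0 n70124 = n79286 := (sb E59545 (iv1 D165023))
theorem F305836 : act 2 n70124 = n79288 := (sb E59545 F260240)
theorem F305837 : act 3 n70124 = n96788 := (sb E59545 (iv3 F299906))
theorem E62562 : n149352 = n96783 := ((((iv0 F261857)).symm.trans (sb E59546 (iv0 F279847)))).symm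
theorem F305839 : act 3 n152428 = n159121 := (sb E59546 F279842)
theorem E62563 : n148458 = n71907 := (((F239613).symm.trans (sb E59546 F279845))).symm
theorem F305841 : act 0 n70115 = n79288 := (sb E59547 (iv1 F260245))
theorem E62564 : n70115 = n62774 := (((D62774).symm.trans (iv4 (sb E59547 (tr F260244 E59578))))).symm
theorem E62565 : n165025 = n62774 := (E59547).trans E62564
theorem E62566 : n79286 = n61625 := (((F97956).symm.trans (sb E62565 (iv7 D165025)))).symm
theorem E62568 : n108355 = n8460 := ((((iv3 D17929)).symm.trans (sb E59551 F248020))).symm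
theorem E62569 : n108353 = n37333 := (((D37333).symm.trans (sb E59551 F248021))).symm
theorem E62570 : n96755 = n74896 := ((D96755).symm.trans (sb E59552 (iv6 F248014)))
theorem E62571 : n59907 = n37341 := (((F114848).symm.trans (sb E59553 (iv1 D127568)))).symm
theorem F305842 : act 3 n76587 = n62911 := (sb E59553 F205027)
theorem E62573 : n117739 = n34998 := ((((iv4 D76587)).symm.trans (sb E59553 F205030))).symm
theorem E62574 : n154913 = n85690 := ((F243603).symm.trans (sb E59554 F260249))
theorem F305844 : act 1 n165029 = n86003 := (sb E59557 F280308)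
theorem F305845 : act 4 n165029 = n178888 := (sb E59557 F279834)
theorem F305846 : act 5 n165029 = n144931 := (sb E59557 F279831)
theorem F305847 : act 6 n165029 = n149918 := (sb E59557 F279832)
theorem F305848 : act 7 n165029 = n149072 := (sb E59557 F279833)
theorem F305850 : act 5 n150279 = n79288 := (sb E59559 (iv5 D165031))
theorem F305851 : act 6 n70491 = n79288 := (sb E59560 (iv6 D165032))
theorem F305852 : act 1 n70771 = n79289 := (sb E59561 (iv0 D165033))
theorem F305853 : act 0 n70776 = n79289 := (sb E59562 (iv1 D165034))
theorem E62576 : n159589 = n148461 := (((iv1 F283753)).symm.trans (sb E59563 F279855))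
theorem E62577 : n159966 = n148441 := ((D159966).symm.trans (sb E59563 F279856))
theorem E62578 : n159968 = n148459 := ((D159968).symm.trans (sb E59563 F279854))
theorem F305854 : act 7 n70126 = n79289 := (sb E59564 (iv7 D165036))
theorem E62579 : n129271 = n114697 := (((F303492).symm.trans (sb E59569 F215793))).symm
theorem E62580 : n131586 = n70571 := ((((iv1 F107037)).symm.trans (sb E59570 (iv1 F215562)))).symm
theorem F305855 : act 3 n52941 = n62876 := (sb E59570 F215560)
theorem E62581 : n114703 = n62873 := ((D114703).symm.trans (sb E59570 (iv6 D133856)))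
theorem E62582 : n70261 = n68523 := (((iv1 F106708)).symm.trans (sb E59571 F206521))
theorem E62583 : n131266 = n70260 := (((F106705).symm.trans (sb E59571 (iv0 F210352)))).symm
theorem F305856 : act 5 n52940 = n62876 := (sb E59571 F206520)
theorem E62584 : n114702 = n60373 := ((D114702).symm.trans (sb E59571 (iv6 D128399)))
theorem E62585 : n70264 = n68480 := ((D70264).symm.trans (sb E59573 F206550))
theorem E62586 : n150442 = n131655 := ((D150442).symm.trans (sb E59574 F215374))
theorem E62587 : n150443 = n62933 := ((D150443).symm.trans (sb E59574 (iv0 F215375)))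
theorem F305857 : act 2 n70896 = n131344 := (sb E59574 F215369)
theorem E62588 : n150444 = n62808 := ((D150444).symm.trans (sb E59574 (iv5 D133767)))
theorem E62589 : n150445 = n62871 := ((D150445).symm.trans (sb E59574 F215372))
theorem E62591 : n58577 = n29197 := ((((iv2 F55547)).symm.trans (sb E59578 (iv2 D125219)))).symm
theorem E62592 : n85578 = n62773 := (((D62773).symm.trans (sb E59578 F201336))).symm
theorem E62594 : n85062 = n13890 := (((D13890).symm.trans (sb E59582 (iv5 F236522)))).symm
theorem E62595 : n144831 = n62766 := (((D62766).symm.trans (iv4 (sb E59585 (tr F278881 E59586))))).symm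
theorem E62596 : n69801 = n69570 := (((F233047).symm.trans (sb E59587 (iv5 D148910)))).symm
theorem E62597 : n71853 = n63209 := ((D71853).symm.trans (sb E59590 (iv5 D134512)))
theorem E62598 : n72026 = n63281 := (((D63281).symm.trans (sb E59592 D72026))).symm
theorem E62599 : n72027 = n63282 := (((D63282).symm.trans (sb E59592 D72027))).symm
theorem F305863 : act 5 n29902 = n16063 := (sb E59592 (iv5 D33268))
theorem F305864 : act 5 n36622 = n28984 := (sb E59598 (iv5 D61222))
theorem F305865 : act 2 n118777 = n153247 := (sb E59600 (iv2 F240719))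
theorem F305866 : act 5 n118777 = n124812 := (sb E59600 (iv5 F236355))
theorem F305867 : act 7 n118777 = n154078 := (sb E59600 (iv7 F242157))
theorem F305868 : act 1 n73428 = n61542 := (sb E59604 (iv0 D131181))
theorem F305869 : act 3 n76570 = n85455 := (sb E59605 F200823)
theorem F305870 : act 7 n76570 = n71501 := (sb E59605 (iv7 F232450))
theorem F305871 : act 1 n85401 = n55536 := (sb E59606 F186843)
theorem F305872 : act 2 n85401 = n71554 := (sb E59606 F186840)
theorem F305873 : act 6 n85401 = n71547 := (sb E59606 F186841)
theorem F305874 : act 7 n85401 = n54684 := (sb E59606 (iv7 D118780))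
theorem E62604 : n154252 = n120220 := ((D154252).symm.trans (sb E59608 (iv0 F238288)))
theorem F305875 : act 0 n118711 = n71691 := (sb E59610 (iv1 F238326))
theorem F305876 : act 1 n118711 = n71690 := (sb E59610 F238327)
theorem F305877 : act 7 n118711 = n71427 := (sb E59610 F238325)
theorem F305878 : act 0 n118713 = n54703 := (sb E59611 (iv1 F186752))
theorem F305879 : act 1 n118713 = n54702 := (sb E59611 F186753)
theorem F305880 : act 3 n118713 = n71867 := (sb E59611 F186749)
theorem F305881 : act 7 n118713 = n54661 := (sb E59611 (iv7 D118726))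
theorem F305882 : act 4 n80258 = n61733 := (sb E59612 (iv4 D131564))
theorem F305883 : act 5 n118784 = n73470 := (sb E59614 F238313)
theorem E62605 : n148888 = n117748 := (((iv5 F233938)).symm.trans (sb E59616 F238300))
theorem E62606 : n157307 = n122667 := (((D122667).symm.trans (sb E59619 (iv0 F247546)))).symm
theorem E62607 : n122669 = n71689 := ((D122669).symm.trans (sb E59619 F238906))
theorem F305884 : act 0 n118785 = n71427 := (sb E59620 (iv1 D151513))
theorem F305885 : act 2 n118785 = n71691 := (sb E59620 F252483)
theorem F305886 : act 7 n118785 = n71690 := (sb E59620 F252484)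
theorem F305887 : act 1 n118786 = n71427 := (sb E59621 (iv0 D151512))
theorem F305888 : act 2 n118786 = n71690 := (sb E59621 F252481)
theorem F305889 : act 6 n118786 = n155693 := (sb E59621 F244717)
theorem F305890 : act 7 n118786 = n71691 := (sb E59621 F252482)
theorem F305891 : act 1 n118787 = n148031 := (sb E59622 (iv0 F231841))
theorem F305892 : act 3 n118787 = n54745 := (sb E59622 F186916)
theorem F305893 : act 7 n118787 = n54723 := (sb E59622 F186918)
theorem F305894 : act 7 n33144 = n54687 := (sb E59623 (iv7 D118788))
theorem E62608 : n178978 = n178971 := (((iv1 F278879)).symm.trans (sb E59625 (iv1 F278859)))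
theorem F305895 : act 1 n118724 = n54690 := (sb E59628 (iv0 D118795))
theorem F305896 : act 0 n118723 = n54690 := (sb E59629 (iv1 D118796))
theorem F305897 : act 1 n118797 = n150554 := (sb E59630 (iv0 F237069))
theorem F305898 : act 3 n118797 = n152983 := (sb E59630 (iv3 F240255))
theorem F305899 : act 7 n118797 = n54704 := (sb E59630 (iv7 D118854))
theorem F305900 : act 1 n60189 = n83560 := (sb E59646 F259681)
theorem F305901 : act 3 n60189 = n71981 := (sb E59646 F188146)
theorem F305902 : act 6 n60189 = n54950 := (sb E59646 (iv6 D119406))
theorem F305903 : act 5 n106004 = n61770 := (sb E59648 (iv5 D131648))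
theorem F305905 : act 5 n108319 = n79327 := (sb E59650 (iv5 D165100))
theorem F305906 : act 4 n60187 = n83600 := (sb E59651 (iv4 F192802))
theorem E62610 : n147297 = n147035 := ((((iv6 F230496)).symm.trans (sb E59653 (iv6 F230918)))).symm
theorem F305908 : act 7 n68947 = n32169 := (sb E59653 F190800)
theorem F305909 : act 4 n81613 = n62917 := (sb E59654 F215814)
theorem E62611 : n170162 = n147298 := ((D170162).symm.trans (sb E59654 (iv5 F230919)))
theorem F305910 : act 0 n133949 = n150632 := (sb E59655 (iv1 F260387))
theorem F305911 : act 1 n133950 = n150632 := (sb E59656 F260382)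
theorem F305912 : act 2 n60208 = n54979 := (sb E59659 (iv2 D119495))
theorem F305913 : act 0 n60165 = n54635 := (sb E59662 (iv1 D118654))
theorem F305914 : act 1 n60165 = n55190 := (sb E59662 F232331)
theorem E62612 : n150484 = n131452 := (((F278617).symm.trans (sb E59671 (iv1 F303048)))).symm
theorem F305915 : act 4 n132905 = n75480 := (sb E59681 F249405)
theorem F305916 : act 6 n132905 = n75460 := (sb E59681 (iv6 D158300))
theorem F305917 : act 4 n34541 = n62444 := (sb E59682 (iv4 D133096))
theorem F305918 : act 4 n133095 = n161596 := (sb E59683 (iv4 F255597))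
theorem F305919 : act 7 n120813 = n131232 := (sb E59686 (iv7 F210239))
theorem F305920 : act 0 n28898 = n56077 := (sb E59687 (iv1 F192719))
theorem F305921 : act 1 n28898 = n55704 := (sb E59687 (iv0 D120814))
theorem F305922 : act 0 n62225 = n55704 := (sb E59688 (iv1 D120815))
theorem F305923 : act 1 n62225 = n56077 := (sb E59688 F192713)
theorem F305924 : act 1 n120816 = n135464 := (sb E59689 (iv0 F217811))
theorem F305925 : act 7 n120816 = n131233 := (sb E59689 (iv7 F210241))
theorem F305926 : act 0 n61572 = n56075 := (sb E59690 (iv1 F192720))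
theorem F305927 : act 2 n61572 = n56077 := (sb E59690 F192716)
theorem F305928 : act 6 n61572 = n77470 := (sb E59690 F192718)
theorem F305929 : act 7 n61572 = n55704 := (sb E59690 (iv7 D120817))
theorem E62614 : n116951 = n77705 := (((D77705).symm.trans (sb E59696 F217780))).symm
theorem F305930 : act 6 n35470 = n63669 := (sb E59696 (iv6 D135456))
theorem E62615 : n129270 = n77712 := (((D77712).symm.trans (sb E59697 (iv6 F244585)))).symm
theorem E62616 : n129590 = n77713 := (((D77713).symm.trans (sb E59698 (iv1 F212615)))).symm
theorem E62617 : n77714 = n62159 := ((D77714).symm.trans (sb E59698 (iv0 D132492)))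
theorem E62618 : n129588 = n77716 := (((D77716).symm.trans (sb E59698 (iv7 F212610)))).symm
theorem F305931 : act 4 n35473 = n62752 := (sb E59699 (iv4 F209614))
theorem F305932 : act 6 n35375 = n62488 := (sb E59700 (iv6 D133179))
theorem E62619 : n77739 = n66486 := ((D77739).symm.trans (sb E59701 (iv6 D141808)))
theorem F305933 : act 2 n35478 = n62488 := (sb E59702 (iv2 F97382))
theorem F305934 : act 5 n35478 = n28988 := (sb E59702 (iv5 D61233))
theorem F305935 : act 7 n35478 = n62488 := (sb E59702 (iv7 F97383))
theorem E62620 : n117500 = n79080 := ((F184063).symm.trans (sb E59703 F235362))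
theorem F305936 : act 5 n54167 = n77638 := (sb E59703 F235360)
theorem E62621 : n148831 = n55286 := ((D148831).symm.trans (sb E59704 (iv6 D120143)))
theorem F305937 : act 6 n60791 = n77644 := (sb E59705 (iv6 D161665))
theorem F305938 : act 3 n134709 = n82442 := (sb E59706 F298571)
theorem F305939 : act 6 n134709 = n77645 := (sb E59706 (iv6 D161668))
theorem F305940 : act 1 n129750 = n77646 := (sb E59707 (iv0 D161669))
theorem F305941 : act 4 n82998 = n73972 := (sb E59710 F244536)
theorem E62622 : n173463 = n85290 := ((D173463).symm.trans (sb E59710 F244537))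
theorem E62623 : n174280 = n173197 := (((D173197).symm.trans (sb E59716 F273073))).symm
theorem E62624 : n173465 = n71786 := ((D173465).symm.trans (sb E59717 (iv0 F190907)))
theorem F305942 : act 4 n82999 = n55048 := (sb E59717 (iv4 D119647))
theorem E62625 : n173467 = n55068 := ((D173467).symm.trans (sb E59717 F188706))
theorem F305943 : act 6 n146910 = n73397 := (sb E59723 (iv6 D154783))
theorem F305944 : act 4 n78044 = n73978 := (sb E59725 (iv4 D155524))
theorem F305945 : act 4 n107885 = n55027 := (sb E59726 F188587)
theorem E62626 : n149816 = n74865 := (((F166685).symm.trans (sb E59726 (iv7 F235658)))).symm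
theorem E62627 : n149831 = n129269 := (((iv3 F235677)).symm.trans (sb E59727 F244541))
theorem F305946 : act 4 n78045 = n73979 := (sb E59727 (iv4 D155525))
theorem E62628 : n162532 = n134708 := ((D162532).symm.trans (sb E59727 F244542))
theorem F305947 : act 4 n155093 = n73967 := (sb E59732 (iv4 D155515))
theorem F305948 : act 2 n119752 = n73329 := (sb E59768 F242728)
theorem F305949 : act 7 n119752 = n73316 := (sb E59768 (iv7 D154624))
theorem F305950 : act 0 n119757 = n55537 := (sb E59773 (iv1 D120600))
theorem F305951 : act 1 n119757 = n71533 := (sb E59773 (iv0 F232540))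
theorem F305952 : act 3 n119757 = n117751 := (sb E59773 F233049)
theorem F305953 : act 6 n119757 = n117748 := (sb E59773 (iv6 F233056))
theorem F305954 : act 2 n71660 = n55108 := (sb E59774 F188907)
theorem E62629 : n151989 = n76407 := ((D151989).symm.trans (sb E59774 F188908))
theorem F305955 : act 6 n71660 = n55100 := (sb E59774 (iv6 D119743))
theorem F305956 : act 1 n33902 = n55101 := (sb E59775 (iv0 F106916))
theorem F305957 : act 2 n33902 = n55109 := (sb E59775 F106917)
theorem E62631 : n73816 = n32694 := ((D73816).symm.trans (sb E59775 (iv4 D70452)))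
theorem F305958 : act 7 n33902 = n55110 := (sb E59775 F106914)
theorem F305959 : act 0 n33901 = n55101 := (sb E59776 (iv1 D119744))
theorem F305960 : act 2 n33901 = n55110 := (sb E59776 (iv2 F188911))
theorem E62632 : n106003 = n73811 := (((D73811).symm.trans (sb E59776 (iv4 F189981)))).symm
theorem F305961 : act 7 n33901 = n55109 := (sb E59776 F188910)
theorem F305962 : act 5 n71507 = n55101 := (sb E59777 (iv5 D119745))
theorem F305963 : act 0 n33891 = n55110 := (sb E59778 (iv1 F188927))
theorem F305964 : act 1 n33891 = n55109 := (sb E59778 F188928)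
theorem F305965 : act 4 n33891 = n55104 := (sb E59778 F188925)
theorem F305966 : act 7 n33891 = n55101 := (sb E59778 (iv7 D119746))
theorem F305967 : act 1 n71421 = n55108 := (sb E59780 (iv0 D119759))
theorem F305968 : act 0 n71661 = n55108 := (sb E59781 (iv1 D119760))
theorem F305969 : act 5 n74952 = n55108 := (sb E59782 (iv5 D119761))
theorem F305970 : act 7 n61571 = n55108 := (sb E59783 (iv7 D119762))
theorem F305971 : act 0 n119763 = n72791 := (sb E59784 (iv1 D153874))
theorem F305972 : act 6 n119763 = n85418 := (sb E59784 (iv6 F241782))
theorem F305973 : act 7 n119763 = n72957 := (sb E59784 F241784)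
theorem F305974 : act 0 n119764 = n71500 := (sb E59786 (iv1 F232527))
theorem F305975 : act 1 n119764 = n55336 := (sb E59786 (iv0 D120253))
theorem E62634 : n119764 = n78335 := (((F190009).symm.trans (iv2 (sb E59786 (tr (iv2 F232956) E62435))))).symm
theorem F305976 : act 3 n119553 = n55110 := (sb E59787 (iv3 D119766))
theorem F305977 : act 4 n119553 = n73718 := (sb E59787 F188972)
theorem F305978 : act 6 n54415 = n55120 := (sb E59788 (iv6 D119792))
theorem F305979 : act 4 n119306 = n128140 := (sb E59805 (iv4 F206271))
theorem F305980 : act 0 n154636 = n123044 := (sb E59810 F243510)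
theorem F305981 : act 1 n154636 = n123084 := (sb E59810 F243511)
theorem F305982 : act 3 n154636 = n84661 := (sb E59810 F243507)
theorem F305983 : act 5 n154636 = n149684 := (sb E59810 F243508)
theorem F305984 : act 4 n56429 = n29265 := (sb E59811 (iv4 D61739))
theorem E62639 : n131583 = n36574 := (((F304006).symm.trans (sb E59811 D131583))).symm
theorem F305985 : act 4 n38297 = n29266 := (sb E59812 (iv4 D61744))
theorem E62642 : n131592 = n83198 := (((D83198).symm.trans (sb E59812 D131592))).symm
theorem F305986 : act 4 n47256 = n70700 := (sb E59814 (iv4 D150213))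
theorem F305987 : act 4 n56063 = n70612 := (sb E59815 (iv4 D150075))
theorem F305988 : act 4 n45819 = n70607 := (sb E59816 (iv4 D150069))
theorem E62643 : n161783 = n57451 := (((iv1 F255781)).symm.trans (sb E59818 (iv1 D123357)))
theorem E62644 : n161782 = n62811 := ((F255785).symm.trans (sb E59818 F303921))
theorem E62645 : n161787 = n131268 := (((iv2 F255783)).symm.trans (sb E59818 F303922))
theorem F305989 : act 5 n68069 = n77710 := (sb E59820 (iv5 D161805))
theorem F305990 : act 6 n61387 = n77710 := (sb E59821 (iv6 D161806))
theorem F305991 : act 4 n68068 = n77703 := (sb E59822 (iv4 D161772))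
theorem F305992 : act 7 n68068 = n77710 := (sb E59822 F255774)
theorem F305993 : act 0 n47158 = n79751 := (sb E59828 (iv1 F190016))
theorem F305994 : act 1 n47158 = n33658 := (sb E59828 (iv0 D73055))
theorem F305995 : act 7 n47158 = n72879 := (sb E59828 (iv7 F190904))
theorem F305996 : act 4 n73151 = n181474 := (sb E59830 D181474)
theorem E62661 : n181479 = n147776 := ((((iv4 F231516)).symm.trans (sb E59831 D181479))).symm
theorem E62662 : n146045 = n40168 := (((iv6 F229288)).symm.trans (sb E59831 F132868))
theorem E62664 : n183735 = n154467 := (((D154467).symm.trans (sb E59833 D183735))).symm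
theorem E62665 : n183736 = n154468 := (((D154468).symm.trans (sb E59833 D183736))).symm
theorem E62666 : n154464 = n83681 := (((iv2 F242508)).symm.trans (sb E59833 F134579))
theorem E62667 : n183737 = n154469 := (((D154469).symm.trans (sb E59833 D183737))).symm
theorem F305997 : act 6 n73170 = n40843 := (sb E59833 (iv6 D87667))
theorem E62668 : n183738 = n106035 := (((F162993).symm.trans (sb E59833 D183738))).symm
theorem E62669 : n138839 = n23901 := (((D23901).symm.trans (sb E59834 F243292))).symm
theorem E62670 : n146035 = n106019 := (((D106019).symm.trans (sb E59835 (iv1 F229273)))).symm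
theorem E62671 : n106020 = n31865 := ((D106020).symm.trans (sb E59835 (iv0 D68477)))
theorem E62672 : n146046 = n106021 := (((D106021).symm.trans (sb E59835 D146046))).symm
theorem F305998 : act 6 n49009 = n105955 := (sb E59835 F162742)
theorem E62673 : n146034 = n106022 := (((D106022).symm.trans (sb E59835 (iv7 F229264)))).symm
theorem E62675 : n129890 = n40048 := (((D40048).symm.trans (sb E59837 F244477))).symm
theorem E62676 : n127832 = n60862 := ((D127832).symm.trans (sb E59838 (iv6 D129541)))
theorem E62677 : n179465 = n132989 := (((iv0 F301865)).symm.trans (sb E59839 (iv0 F213636)))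
theorem E62678 : n181027 = n157441 := ((D181027).symm.trans (sb E59839 (iv5 F247995)))
theorem E62679 : n179467 = n129895 := (((iv7 F301863)).symm.trans (sb E59839 (iv7 F209672)))
theorem E62680 : n157367 = n39585 := ((((iv1 F60454)).symm.trans (sb E59840 F247687))).symm
theorem E62681 : n138830 = n39584 := (((F60451).symm.trans (sb E59840 F222309))).symm
theorem E62682 : n136616 = n40230 := (((D40230).symm.trans (sb E59840 (iv5 F219743)))).symm
theorem E62683 : n136614 = n39586 := ((((iv7 F60452)).symm.trans (sb E59840 F219737))).symm
theorem F305999 : act 1 n29200 = n40140 := (sb E59841 (iv0 F90869))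
theorem E62684 : n61629 = n18654 := (((iv4 F96193)).symm.trans (sb E59841 (iv4 D39337)))
theorem E62685 : n85061 = n61632 := (((D61632).symm.trans (sb E59841 D85061))).symm
theorem E62686 : n169972 = n61506 := (((iv3 F267419)).symm.trans (sb E59842 (iv3 D131104)))
theorem E62687 : n79063 = n61508 := (((iv4 F199820)).symm.trans (sb E59842 F209967))
theorem E62688 : n149904 = n133712 := (((iv6 F264481)).symm.trans (sb E59842 (iv6 F215206)))
theorem E62689 : n179548 = n127941 := (((iv1 F279588)).symm.trans (sb E59843 (iv1 F210477)))
theorem E62690 : n179547 = n74899 := ((F279585).symm.trans (sb E59843 F210481))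
theorem F306000 : act 6 n86584 = n107932 := (sb E59843 (iv6 F210476))
theorem E62691 : n179543 = n127942 := (((iv7 F279567)).symm.trans (sb E59843 F210475))
theorem F306001 : act 0 n86583 = n55737 := (sb E59845 (iv1 D120876))
theorem E62692 : n155216 = n105434 := ((((iv4 F161836)).symm.trans (sb E59845 (iv4 F244108)))).symm
theorem F306002 : act 0 n48988 = n70395 := (sb E59848 (iv1 D149814))
theorem E62696 : n62559 = n8013 := (((D8013).symm.trans (sb E59849 (iv6 D133295)))).symm
theorem F306003 : act 2 n17125 = n24399 := (sb E59850 F77168)
theorem F306004 : act 3 n17125 = n23883 := (sb E59850 F77169)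
theorem E62697 : n76630 = n32804 := (((D32804).symm.trans (sb E59851 (iv1 F114915)))).symm
theorem E62698 : n55989 = n32805 := (((D32805).symm.trans (sb E59851 (iv0 F88609)))).symm
theorem F306005 : act 4 n15705 = n23883 := (sb E59851 (iv4 D48957))
theorem E62701 : n62759 = n32807 := (((D32807).symm.trans (sb E59851 (iv7 F97908)))).symm
theorem E62703 : n71514 = n62843 := (((D62843).symm.trans (sb E59852 (iv4 F233037)))).symm
theorem E62705 : n150290 = n62844 := (((D62844).symm.trans (sb E59852 D150290))).symm
theorem E62706 : n71515 = n29280 := (((D29280).symm.trans (sb E59853 (iv4 F233032)))).symm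
theorem F306006 : act 1 n61833 = n69794 := (sb E59855 (iv0 F191416))
theorem E62709 : n74955 = n55315 := (((iv4 F209876)).symm.trans (sb E59855 (iv4 D120219)))
theorem E62710 : n96757 = n74898 := (((F209878).symm.trans (sb E59855 (iv6 F298536)))).symm
theorem F306007 : act 0 n133698 = n69794 := (sb E59856 (iv1 D148894))
theorem E62712 : n118143 = n74959 := (((F248029).symm.trans (sb E59856 F233954))).symm
theorem E62713 : n150638 = n139206 := (((F248030).symm.trans (sb E59856 (iv6 F261462)))).symm
theorem F306008 : act 0 n148895 = n118405 := (sb E59857 (iv1 F264574))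
theorem F306009 : act 1 n148895 = n150756 := (sb E59857 F264575)
theorem F306010 : act 6 n148895 = n80598 := (sb E59857 (iv6 D167912))
theorem F306011 : act 7 n148895 = n105943 := (sb E59857 F264572)
theorem E62714 : n131290 = n69797 := (((iv4 F210415)).symm.trans (sb E59858 F233958))
theorem F306012 : act 7 n61614 = n69794 := (sb E59858 (iv7 D148896))
theorem E62715 : n74436 = n15960 := (((D15960).symm.trans (sb E59859 (iv6 D156534)))).symm
theorem F306013 : act 4 n33082 = n16625 := (sb E59861 (iv4 D34332))
theorem E62716 : n74920 = n54083 := ((((iv5 F85356)).symm.trans (sb E59861 D74920))).symm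
theorem E62717 : n71516 = n49817 := ((D71516).symm.trans (sb E59861 (iv7 F78737)))
theorem E62718 : n121378 = n74956 := ((D121378).symm.trans (sb E59862 F248197))
theorem E62721 : n150627 = n149577 := (((D149577).symm.trans (sb E59863 (iv2 F237167)))).symm
theorem E62722 : n149522 = n37355 := (((iv3 F237679)).symm.trans (sb E59863 F300302))
theorem E62723 : n150636 = n149579 := (((D149579).symm.trans (sb E59863 D150636))).symm
theorem F306014 : act 5 n70243 = n32884 := (sb E59863 (iv5 D71008))
theorem F306015 : act 2 n121442 = n77669 := (sb E59864 (iv2 D161704))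
theorem F306016 : act 7 n121442 = n77670 := (sb E59864 (iv7 F255702))
theorem F306018 : act 5 n132724 = n77669 := (sb E59865 (iv5 D161705))
theorem F306019 : act 3 n134703 = n82538 := (sb E59866 F255704)
theorem F306020 : act 5 n134703 = n161735 := (sb E59866 F255741)
theorem F306021 : act 6 n134703 = n77669 := (sb E59866 (iv6 D161706))
theorem E62726 : n82539 = n82445 := (((F301926).symm.trans (sb E59867 F255706))).symm
theorem F306023 : act 7 n121443 = n77669 := (sb E59867 (iv7 D161707))
theorem F306024 : act 5 n132725 = n77670 := (sb E59868 (iv5 D161709))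
theorem E62727 : n161788 = n129582 := (((D129582).symm.trans (sb E59869 (iv5 F255786)))).symm
theorem F306025 : act 6 n60874 = n77670 := (sb E59869 (iv6 D161710))
theorem F306027 : act 0 n129922 = n77671 := (sb E59871 (iv1 D161712))
theorem E62728 : n127569 = n44937 := (((iv1 F252097)).symm.trans (sb E59874 (iv1 D96250)))
theorem E62729 : n76538 = n48744 := (((iv0 F234782)).symm.trans (sb E59874 F148038))
theorem E62730 : n127567 = n78897 := ((F205031).symm.trans (sb E59874 (iv2 F148042)))
theorem E62731 : n145803 = n55990 := ((D145803).symm.trans (sb E59874 F148041))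
theorem F306028 : act 5 n68356 = n45215 := (sb E59874 F148040)
theorem F306029 : act 7 n68356 = n76587 := (sb E59874 F148039)
theorem E62733 : n145807 = n77020 := ((D145807).symm.trans (sb E59875 F178513))
theorem E62734 : n35979 = n34198 := ((((iv4 F53820)).symm.trans (sb E59877 F162954))).symm
theorem E62739 : n179383 = n13884 := (((F23156).symm.trans (sb E59878 D179383))).symm
theorem E62742 : n128393 = n49825 := (E60887).trans E62008
theorem F306030 : act 1 n74860 = n40097 := (sb E59882 F299971)
theorem E62743 : n35984 = n34307 := (((F112362).symm.trans (sb E59882 F120277))).symm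
theorem E62744 : n157408 = n124670 := (((iv4 F247890)).symm.trans (sb E59882 (iv4 F199434)))
theorem F306031 : act 1 n61741 = n38551 := (sb E59883 F107432)
theorem F306032 : act 2 n61741 = n70570 := (sb E59883 (iv2 F107436))
theorem E62746 : n53980 = n52888 := ((F96337).symm.trans (sb E59883 F107434))
theorem F306033 : act 6 n147648 = n82640 := (sb E59884 (iv6 D172621))
theorem E62747 : n108302 = n21431 := ((((iv4 F33657)).symm.trans (sb E59885 (iv4 F266250)))).symm
theorem E62748 : n108301 = n38282 := (((D38282).symm.trans (sb E59885 F266252))).symm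
theorem F306034 : act 4 n77688 = n61544 := (sb E59889 F207494)
theorem E62749 : n129751 = n128164 := ((((iv6 F304008)).symm.trans (sb E59889 (iv6 F207979)))).symm
theorem E62750 : n161731 = n60769 := ((D161731).symm.trans (sb E59889 (iv7 D129294)))
theorem F306035 : act 0 n60940 = n35466 := (sb E59890 (iv1 D77689))
theorem F306036 : act 1 n60940 = n80284 := (sb E59890 F123375)
theorem E62751 : n155089 = n129740 := ((((iv3 F207933)).symm.trans (sb E59890 (iv3 F243907)))).symm
theorem F306037 : act 7 n60940 = n161727 := (sb E59890 F255739)
theorem F306038 : act 0 n77691 = n60769 := (sb E59892 (iv1 D129293))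
theorem F306039 : act 4 n77691 = n61382 := (sb E59892 (iv4 F207492))
theorem E62754 : n65076 = n32687 := ((D65076).symm.trans (iv1 (sb E59895 (tr F54386 E61743))))
theorem F306040 : act 3 n32687 = n61383 := (sb E59895 (iv3 F95875))
theorem E62755 : n74584 = n17417 := (((F51761).symm.trans (sb E59895 (iv4 F111992)))).symm
theorem E62756 : n74826 = n70432 := (((D70432).symm.trans (sb E59895 (iv5 F112293)))).symm
theorem E62757 : n31824 = n15569 := ((((iv6 D32687)).symm.trans (sb E59895 F54383))).symm
theorem F306041 : act 7 n32687 = n16595 := (sb E59895 (iv7 D34282))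
theorem E62758 : n70427 = n61386 := ((D70427).symm.trans (sb E59897 F96150))
theorem F306042 : act 2 n32686 = n61388 := (sb E59897 F96144)
theorem F306043 : act 5 n32686 = n31811 := (sb E59897 F96146)
theorem F306044 : act 6 n32686 = n61383 := (sb E59897 F96147)
theorem F306045 : act 5 n27813 = n55536 := (sb E59906 (iv5 D120598))
theorem F306046 : act 3 n40045 = n32780 := (sb E59909 F107151)
theorem F306047 : act 5 n40045 = n32778 := (sb E59909 (iv5 D70691))
theorem E62759 : n150195 = n86453 := (((D86453).symm.trans (sb E59909 D150195))).symm
theorem F306048 : act 4 n70692 = n80128 := (sb E59910 F262767)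
theorem F306049 : act 4 n35447 = n32780 := (sb E59911 (iv4 D70702))
theorem E62763 : n150219 = n77633 := (((D77633).symm.trans (sb E59911 D150219))).symm
theorem F306050 : act 4 n35446 = n32785 := (sb E59913 (iv4 D70718))
theorem E62766 : n145270 = n77630 := (((D77630).symm.trans (sb E59913 (iv6 F228260)))).symm
theorem E62767 : n145281 = n18960 := (((D18960).symm.trans (sb E59915 F240956))).symm
theorem E62768 : n182067 = n72023 := ((D182067).symm.trans (sb E59917 (iv1 F234153)))
theorem E62769 : n182068 = n72018 := ((D182068).symm.trans (sb E59917 F234154))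
theorem F306051 : act 2 n86956 = n80596 := (sb E59917 F234150)
theorem F306052 : act 7 n86956 = n69853 := (sb E59917 (iv7 D148983))
theorem E62770 : n34207 = n8172 := ((((iv1 F21506)).symm.trans (sb E59918 (iv1 D74612)))).symm
theorem E62774 : n105918 = n67217 := ((E61426).symm.trans ((D119317).symm.trans (sb E59919 (iv1 D143516))))
theorem E62775 : n67222 = n33784 := (((F130347).symm.trans (sb E59919 F226228))).symm
theorem F306053 : act 7 n79724 = n62775 := (sb E59920 (iv7 D133732))
theorem F306054 : act 2 n32531 = n62775 := (sb E59921 (iv2 F97957))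
theorem E62777 : n50022 = n27093 := (((F51605).symm.trans (sb E59921 F96187))).symm
theorem E62778 : n131312 = n15405 := ((((iv4 D32531)).symm.trans (sb E59921 (iv4 F210451)))).symm
theorem E62779 : n76256 = n70118 := (((D70118).symm.trans (sb E59921 (iv5 F114294)))).symm
theorem F306055 : act 2 n106007 = n85757 := (sb E59922 F279687)
theorem F306056 : act 6 n106007 = n85755 := (sb E59922 (iv6 D179592))
theorem F306057 : act 0 n79722 = n62775 := (sb E59923 (iv1 D133730))
theorem E62780 : n74894 = n18932 := (((D18932).symm.trans (sb E59924 (iv6 D157442)))).symm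
theorem E62781 : n62805 = n18733 := ((((iv1 F296499)).symm.trans (sb E59925 (iv1 F205899)))).symm
theorem E62782 : n131105 = n18971 := (((D18971).symm.trans (sb E59925 (iv0 F209974)))).symm
theorem E62785 : n138525 = n18998 := (((D18998).symm.trans (sb E59926 (iv1 F221710)))).symm
theorem E62786 : n107790 = n3969 := (((F13869).symm.trans (sb E59926 F219772))).symm
theorem E62787 : n64221 = n19000 := (((D19000).symm.trans (sb E59926 (iv5 D136632)))).symm
theorem F306058 : act 2 n40144 = n29200 := (sb E59927 F96178)
theorem E62789 : n86591 = n61570 := ((D86591).symm.trans (sb E59927 (iv3 F185220)))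
theorem E62790 : n61581 = n39336 := (((F130174).symm.trans (sb E59927 F185315))).symm
theorem E62791 : n107902 = n86592 := (((D86592).symm.trans (sb E59927 (iv5 F166740)))).symm
theorem E62792 : n65294 = n39320 := ((((iv4 F61046)).symm.trans (sb E59928 (iv4 F208249)))).symm
theorem E62793 : n131334 = n86595 := (((D86595).symm.trans (sb E59928 (iv5 F210495)))).symm
theorem E62794 : n86596 = n62781 := ((D86596).symm.trans (sb E59928 (iv6 F97965)))
theorem F306059 : act 7 n40145 = n29200 := (sb E59928 (iv7 D61633))
theorem F306060 : act 1 n39587 = n29200 := (sb E59929 (iv0 D61630))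
theorem E62795 : n119546 = n68068 := ((D119546).symm.trans (sb E59930 F228171))
theorem E62796 : n119547 = n68062 := ((D119547).symm.trans (sb E59930 (iv5 D145192)))
theorem E62797 : n151144 = n84439 := (((F304992).symm.trans (sb E59930 (iv6 F237817)))).symm
theorem F306061 : act 0 n105946 = n68479 := (sb E59931 F205920)
theorem F306062 : act 1 n105946 = n68473 := (sb E59931 (iv0 F163011))
theorem F306063 : act 3 n105946 = n144904 := (sb E59931 F230223)
theorem F306064 : act 6 n105946 = n49019 := (sb E59931 (iv6 D106058))
theorem F306065 : act 7 n105946 = n68478 := (sb E59931 (iv7 F163012))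
theorem F306066 : act 5 n105947 = n68478 := (sb E59932 (iv5 D146050))
theorem E62798 : n65298 = n39273 := (((D39273).symm.trans (sb E59933 (iv6 D139121)))).symm
theorem E62799 : n65308 = n26429 := (((D26429).symm.trans (sb E59934 (iv6 D139149)))).symm
theorem E62800 : n105961 = n65313 := ((D105961).symm.trans (sb E59935 (iv6 D139163)))
theorem E62801 : n65317 = n26425 := (((D26425).symm.trans (sb E59936 F222346))).symm
theorem E62802 : n118669 = n14524 := ((((iv5 D30643)).symm.trans (sb E59937 D118669))).symm
theorem F306067 : act 6 n30643 = n26424 := (sb E59937 (iv6 D54639))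
theorem E62803 : n65279 = n39334 := (((iv7 F101019)).symm.trans (sb E59937 F232401))
theorem E62804 : n119017 = n65297 := ((D119017).symm.trans (sb E59939 (iv7 D139120)))
theorem E62805 : n119317 = n67217 := (E61426).trans E62774
theorem F306068 : act 4 n54911 = n107884 := (sb E59941 (iv4 F226148))
theorem E62806 : n119322 = n67154 := ((D119322).symm.trans (sb E59941 (iv5 D143385)))
theorem F306069 : act 6 n54911 = n157379 := (sb E59941 (iv6 F247713))
theorem E62807 : n119327 = n67155 := ((D119327).symm.trans (sb E59942 F215264))
theorem E62808 : n119328 = n62776 := ((D119328).symm.trans (sb E59942 (iv6 D133734)))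
theorem E62809 : n143319 = n119332 := ((((iv5 F187909)).symm.trans (sb E59943 F226224))).symm
theorem E62810 : n74821 = n18823 := ((((iv1 F296888)).symm.trans (sb E59944 (iv1 F190687)))).symm
theorem E62812 : n150841 = n36311 := (((D36311).symm.trans (sb E59944 (iv5 F237410)))).symm
theorem E62814 : n131265 = n44961 := (((D44961).symm.trans (sb E59946 (iv0 F252080)))).symm
theorem F306070 : act 0 n133726 = n84381 := (sb E59947 F302841)
theorem F306071 : act 1 n133726 = n84380 := (sb E59947 F302842)
theorem E62816 : n131356 = n84383 := ((F215242).symm.trans (sb E59947 F302843))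
theorem F306072 : act 4 n133726 = n153916 := (sb E59947 (iv4 F241903))
theorem F306073 : act 7 n133726 = n84379 := (sb E59947 F302845)
theorem F306074 : act 4 n32530 = n62775 := (sb E59948 F215249)
theorem E62817 : n166053 = n128487 := (((F222357).symm.trans (sb E59949 (iv1 F261467)))).symm
theorem F306075 : act 1 n133731 = n166052 := (sb E59949 F261460)
theorem F306076 : act 7 n133731 = n166050 := (sb E59949 (iv7 F261451))
theorem F306077 : act 1 n179598 = n166049 := (sb E59950 F282420)
theorem F306078 : act 2 n179598 = n150640 := (sb E59950 F282422)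
theorem E62818 : n150628 = n139203 := ((((iv5 F279697)).symm.trans (sb E59950 (iv5 F282421)))).symm
theorem F306079 : act 3 n149328 = n70968 := (sb E59952 F237074)
theorem F306080 : act 6 n149328 = n70966 := (sb E59952 (iv6 D150555))
theorem F306081 : act 7 n149328 = n85757 := (sb E59952 F237075)
theorem E62820 : n86804 = n34155 := ((((iv5 F245850)).symm.trans (iv5 (sb E59953 (tr (iv5 D181308) E61799))))).symm
theorem E62821 : n174300 = n62391 := ((D174300).symm.trans (sb E59954 (iv1 F213517)))
theorem E62822 : n174301 = n131357 := ((D174301).symm.trans (sb E59954 (iv0 F213304)))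
theorem E62823 : n174303 = n130071 := ((D174303).symm.trans (sb E59954 F213303))
theorem F306082 : act 1 n29485 = n38382 := (sb E59955 (iv0 D83319))
theorem F306083 : act 0 n61077 = n38382 := (sb E59956 (iv1 D83320))
theorem E62834 : n174328 = n133155 := ((D174328).symm.trans (sb E59957 (iv0 F213907)))
theorem F306084 : act 2 n83321 = n130075 := (sb E59957 F213305)
theorem E62835 : n174330 = n130072 := ((D174330).symm.trans (sb E59957 F213306))
theorem F306085 : act 7 n61074 = n38382 := (sb E59958 (iv7 D83322))
theorem E62836 : n161727 = n80281 := ((D161727).symm.trans (sb E59959 (iv2 D167237)))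
theorem F306086 : act 3 n141812 = n173280 := (sb E59960 (iv3 F271663))
theorem F306087 : act 5 n141812 = n80281 := (sb E59960 (iv5 D167238))
theorem F306088 : act 3 n129272 = n173281 := (sb E59961 (iv3 F271664))
theorem F306089 : act 5 n129272 = n161670 := (sb E59961 F263399)
theorem F306090 : act 6 n129272 = n80281 := (sb E59961 (iv6 D167239))
theorem E62837 : n173282 = n129740 := ((((iv3 F207933)).symm.trans (sb E59962 (iv3 F271666)))).symm
theorem E62838 : n173283 = n135311 := ((((iv2 F217547)).symm.trans (sb E59963 (iv2 F271667)))).symm
theorem E62840 : n130068 = n86322 := ((((iv1 F132298)).symm.trans (sb E59966 (iv1 F208535)))).symm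
theorem E62841 : n130067 = n35181 := ((((iv0 D77019)).symm.trans (sb E59966 F208542))).symm
theorem F306091 : act 4 n77019 = n61388 := (sb E59966 F207431)
theorem E62842 : n86321 = n60738 := (((iv7 F132294)).symm.trans (sb E59966 (iv7 D129211)))
theorem E62843 : n161812 = n129748 := (((F207983).symm.trans (sb E59968 (tr (iv4 F260434) E60029)))).symm
theorem E62844 : n74808 = n70435 := ((((iv1 F106897)).symm.trans (sb E59969 (iv1 F209426)))).symm
theorem E62845 : n74807 = n70434 := (((F106896).symm.trans (sb E59969 F209427))).symm
theorem F306092 : act 3 n52908 = n61388 := (sb E59969 F209423)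
theorem E62847 : n61385 = n38571 := (((F83611).symm.trans (sb E59969 (iv7 D130849)))).symm
theorem E62849 : n130250 = n60306 := (((E60879).symm.trans ((D174952).symm.trans (sb E59971 (iv2 F208801))))).symm
theorem E62850 : n74576 = n72327 := (((E60880).symm.trans ((D174953).symm.trans (sb E59971 F207449)))).symm
theorem E62851 : n174955 = n60750 := (E60881).trans E60885
theorem E62852 : n174942 = n133146 := ((F273838).symm.trans (sb E59972 (iv0 F213878)))
theorem E62853 : n174957 = n60753 := ((D174957).symm.trans (sb E59972 F207458))
theorem F306093 : act 6 n28826 = n38524 := (sb E59973 (iv6 D83563))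
theorem F306098 : act 0 n89260 = n83525 := (sb E59975 (iv1 D174853))
theorem E62859 : n158768 = n61724 := (((E60978).symm.trans (((iv3 F249394)).symm.trans (sb E59975 F273716)))).symm
theorem E62860 : n154081 = n105986 := (((D105986).symm.trans (sb E59984 (iv6 F242162)))).symm
theorem F306104 : act 2 n72956 = n71542 := (sb E59985 F196810)
theorem F306105 : act 3 n72956 = n105987 := (sb E59985 F196811)
theorem F306106 : act 4 n72956 = n57106 := (sb E59985 F196812)
theorem F306107 : act 6 n72956 = n57104 := (sb E59985 (iv6 D122829))
theorem F306108 : act 0 n48998 = n76620 := (sb E59986 F232960)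
theorem E62861 : n105989 = n34390 := ((D105989).symm.trans (sb E59986 F232961))
theorem E62863 : n105990 = n33901 := ((D105990).symm.trans (sb E59986 (iv5 D73812)))
theorem E62864 : n107884 = n70395 := (((F306002).symm.trans (sb E59987 (iv1 F238829)))).symm
theorem E62865 : n178610 = n105965 := (((D105965).symm.trans (sb E59987 (iv5 F278390)))).symm
theorem E62866 : n107883 = n79752 := ((((iv7 F190022)).symm.trans (sb E59987 F238827))).symm
theorem E62867 : n71549 = n30649 := (((D30649).symm.trans (sb E62010 (iv0 D151781)))).symm
theorem E62868 : n120221 = n34345 := (((F54501).symm.trans (iv0 (sb E59989 (tr (iv1 D151782) E62867))))).symm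
theorem E62869 : n85063 = n64983 := ((((iv5 F210490)).symm.trans (iv5 (sb E59990 (tr (iv5 D151783) E62867))))).symm
theorem E62870 : n151783 = n64983 := (E59990).trans E62869
theorem E62871 : n138342 = n105965 := ((D138342).symm.trans (sb E62870 F238699))
theorem F306109 : act 4 n69811 = n61732 := (sb E59991 (iv4 D131559))
theorem E62873 : n139196 = n32838 := (((F106219).symm.trans (sb E59994 (iv0 F248127)))).symm
theorem E62874 : n117730 = n32416 := ((((iv5 D69800)).symm.trans (sb E59994 F248125))).symm
theorem E62876 : n167180 = n61716 := ((((iv3 F96315)).symm.trans (sb E59997 (iv3 F263352)))).symm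
theorem E62877 : n74829 = n70756 := ((D74829).symm.trans (sb E59997 (iv4 D150277)))
theorem E62879 : n70757 = n35018 := (((D35018).symm.trans (sb E59998 (iv4 D150278)))).symm
theorem E62881 : n145859 = n10307 := ((((iv3 D21576)).symm.trans (sb E60001 (iv3 F234799)))).symm
theorem E62882 : n65342 = n45217 := (((D45217).symm.trans (sb E60001 (iv6 D139201)))).symm
theorem E62883 : n81676 = n61771 := ((D81676).symm.trans (sb E60002 (iv6 D131652)))
theorem E62884 : n148956 = n85505 := ((D148956).symm.trans (sb E60003 F252466))
theorem E62885 : n148957 = n139188 := ((D148957).symm.trans (sb E60003 (iv6 F252468)))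
theorem E62886 : n148964 = n85504 := ((D148964).symm.trans (sb E60004 (iv5 F279100)))
theorem F306111 : act 7 n76627 = n121375 := (sb E60005 (iv7 F300222))
theorem E62887 : n154156 = n96700 := ((D154156).symm.trans (sb E60006 (iv1 F149054)))
theorem E62889 : n170213 = n128152 := ((((iv4 F206281)).symm.trans (sb E60006 D170213))).symm
theorem F306112 : act 5 n73033 = n40034 := (sb E60006 F298548)
theorem E62890 : n73240 = n45169 := (((F300243).symm.trans (sb E60007 (iv1 F191097)))).symm
theorem E62891 : n81635 = n73253 := ((F300244).symm.trans (sb E60007 F191096))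
theorem E62892 : n81633 = n73251 := ((F300245).symm.trans (sb E60007 F191051))
theorem F306113 : act 3 n78273 = n55167 := (sb E60007 (iv3 D119871))
theorem E62893 : n162839 = n153614 := ((D162839).symm.trans (sb E60007 (iv6 F241481)))
theorem F306114 : act 7 n78273 = n73033 := (sb E60007 (iv7 F190647))
theorem F306115 : act 6 n83190 = n38408 := (sb E60009 (iv6 D83368))
theorem E62898 : n101906 = n101465 := ((((iv5 F303521)).symm.trans (sb E60015 (iv5 F272641)))).symm
theorem E62899 : n82522 = n46990 := (((D46990).symm.trans (sb E60016 F270542))).symm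
theorem E62900 : n184280 = n78192 := ((((iv0 F299509)).symm.trans (sb E60017 (iv0 F286231)))).symm
theorem F306116 : act 3 n37887 = n54816 := (sb E60017 F154862)
theorem F306117 : act 6 n37887 = n46989 := (sb E60017 (iv6 D100773))
theorem F306118 : act 5 n119011 = n82511 := (sb E60020 (iv5 D172278))
theorem F306119 : act 5 n37883 = n54816 := (sb E60022 (iv5 D119119))
theorem F306120 : act 3 n119120 = n82523 := (sb E60023 F270538)
theorem F306121 : act 5 n119120 = n82515 := (sb E60023 F270539)
theorem E62902 : n161809 = n60760 := ((((iv0 D129269)).symm.trans (iv0 (sb E60024 (tr F259520 E62627))))).symm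
theorem E62903 : n164604 = n60760 := (E60024).trans E62902
theorem E62904 : n169788 = n60942 := ((((iv2 F95488)).symm.trans (sb E62903 (iv2 F267186)))).symm
theorem E62905 : n129264 = n82916 := (((iv3 F207474)).symm.trans (sb E62903 F259518))
theorem E62906 : n129272 = n83097 := ((D129272).symm.trans (sb E62903 F259519))
theorem F306122 : act 0 n128164 = n77712 := (sb E60025 (iv1 D161810))
theorem F306123 : act 2 n128053 = n77712 := (sb E60026 F255793)
theorem F306124 : act 6 n128053 = n77708 := (sb E60026 (iv6 D161797))
theorem F306125 : act 3 n119314 = n77712 := (sb E60027 F255795)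
theorem E62907 : n77709 = n54907 := ((((iv6 D119314)).symm.trans (sb E60027 (iv6 D161803)))).symm
theorem F306126 : act 1 n61387 = n32686 := (sb E60028 (iv0 D70426))
theorem E62908 : n130851 = n38916 := ((D130851).symm.trans (sb E60028 F129529))
theorem E62909 : n106016 = n77710 := (((F305990).symm.trans (sb E60028 (iv6 F303828)))).symm
theorem E62910 : n165179 = n129748 := (E60029).trans E62843
theorem F306127 : act 3 n129748 = n79363 := (sb E62910 (iv3 D165179))
theorem F306128 : act 5 n129748 = n149669 := (sb E62910 F260435)
theorem E62911 : n79427 = n37189 := (((D37189).symm.trans (sb E60033 (iv6 D165342)))).symm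
theorem E62912 : n79428 = n38697 := ((((iv6 F298283)).symm.trans (sb E60034 (iv6 D165345)))).symm
theorem E62913 : n169797 = n17483 := ((((iv1 D36162)).symm.trans (sb E60035 D169797))).symm
theorem E62914 : n169798 = n62752 := (((F304083).symm.trans (sb E60035 D169798))).symm
theorem E62916 : n61394 = n37187 := ((F304084).symm.trans (sb E60035 (iv6 D81431)))
theorem E62917 : n86706 = n69377 := (((E60140).symm.trans ((F122005).symm.trans (sb E60035 (iv7 F299092))))).symm
theorem F306129 : act 4 n70353 = n70486 := (sb E60065 (iv4 D149907))
theorem F306130 : act 4 n70354 = n84889 := (sb E60066 (iv4 D178417))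
theorem F306131 : act 4 n171055 = n162904 := (sb E60069 F276934)
theorem F306132 : act 6 n171055 = n160359 := (sb E60069 F276935)
theorem F306133 : act 3 n154442 = n84781 := (sb E60071 (iv3 D178108))
theorem F306134 : act 4 n69525 = n79558 := (sb E60072 F260665)
theorem E62929 : n153885 = n86612 := ((((iv1 F286202)).symm.trans (sb E60077 (iv1 F241818)))).symm
theorem E62930 : n124692 = n86617 := ((((iv0 F286203)).symm.trans (sb E60077 F215519))).symm
theorem E62931 : n154578 = n87384 := ((((iv3 F134155)).symm.trans (sb E60077 (iv3 F242642)))).symm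
theorem F306139 : act 4 n40614 = n33726 := (sb E60077 F109726)
theorem E62932 : n154597 = n87387 := (((D87387).symm.trans (sb E60077 (iv5 F242673)))).symm
theorem E62933 : n87388 = n33716 := ((D87388).symm.trans (sb E60077 (iv7 D73279)))
theorem E62934 : n169949 = n47171 := (E60078).trans E60654
theorem E62935 : n101320 = n33579 := ((D101320).symm.trans (sb E62934 (tr (iv1 F267376) E61146)))
theorem F306140 : act 1 n58314 = n40009 := (sb E60088 (iv0 D86405))
theorem E62943 : n154816 = n124735 := ((((iv3 F199604)).symm.trans (sb E60088 (iv3 F243514)))).symm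
theorem F306141 : act 4 n58306 = n41132 := (sb E60089 F132462)
theorem F306142 : act 7 n58306 = n40009 := (sb E60089 (iv7 D86408))
theorem E62946 : n153454 = n17918 := (((D17918).symm.trans (sb E60090 D153454))).symm
theorem E62947 : n118638 = n80460 := ((((iv0 F123690)).symm.trans (sb E60091 (iv0 F209894)))).symm
theorem F306143 : act 3 n37291 = n73299 := (sb E60091 (iv3 F185292))
theorem E62948 : n151159 = n81603 := (((D81603).symm.trans (sb E60091 (iv5 F237841)))).symm
theorem E62949 : n80476 = n33500 := (((iv7 F123701)).symm.trans (sb E60091 F109033))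
theorem F306144 : act 2 n36565 = n72374 := (sb E60092 (iv2 F108855))
theorem E62950 : n149033 = n17640 := ((((iv4 D36565)).symm.trans (sb E60092 (iv4 F234342)))).symm
theorem F306145 : act 5 n36565 = n33360 := (sb E60092 (iv5 D72299))
theorem E62951 : n80260 = n33363 := ((D80260).symm.trans (sb E60092 F108747))
theorem E62954 : n33380 = n19162 := (((D19162).symm.trans (sb E60093 F108769))).symm
theorem F306146 : act 6 n16115 = n19161 := (sb E60094 (iv6 D40564))
theorem E62957 : n73248 = n17920 := (((D17920).symm.trans (sb E60095 (iv5 D154550)))).symm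
theorem E62958 : n73252 = n17921 := (((D17921).symm.trans (sb E60095 F242611))).symm
theorem E62960 : n74878 = n17913 := (((D17913).symm.trans (sb E60096 (iv6 D157425)))).symm
theorem E62961 : n69076 = n17898 := ((((iv1 F58158)).symm.trans (sb E60097 (iv1 D147341)))).symm
theorem E62962 : n157640 = n17887 := ((((iv0 D37194)).symm.trans (sb E60097 F248408))).symm
theorem F306147 : act 3 n37194 = n69743 := (sb E60097 (iv3 F231019))
theorem E62963 : n157639 = n40695 := ((((iv7 F61813)).symm.trans (sb E60097 (iv7 F248397)))).symm
theorem F306148 : act 2 n179660 = n154817 := (sb E60100 F284715)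
theorem F306149 : act 1 n55522 = n81443 := (sb E60103 (iv0 D169830))
theorem E62966 : n154050 = n96245 := (((D96245).symm.trans (sb E60105 F279823))).symm
theorem E62967 : n183244 = n154049 := ((((iv6 F242075)).symm.trans (sb E60106 (iv6 F284895)))).symm
theorem F306151 : act 7 n72927 = n81443 := (sb E60106 (iv7 D169833))
theorem F306152 : act 3 n100890 = n62707 := (sb E60107 F214943)
theorem F306153 : act 6 n100890 = n62704 := (sb E60107 (iv6 D133603))
theorem E62968 : n149586 = n68790 := (((F214954).symm.trans (sb E60108 (iv1 F252825)))).symm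
theorem E62969 : n131175 = n81581 := (((iv0 F214955)).symm.trans (sb E60108 F252824))
theorem F306154 : act 2 n133605 = n76727 := (sb E60108 (iv2 D160173))
theorem F306155 : act 3 n133605 = n103691 := (sb E60108 F252822)
theorem F306156 : act 4 n133605 = n98770 := (sb E60108 (iv4 F296797))
theorem F306157 : act 1 n148186 = n81612 := (sb E60110 F235911)
theorem F306158 : act 2 n148186 = n76724 := (sb E60110 (iv2 F235913))
theorem F306159 : act 3 n148186 = n81569 := (sb E60110 (iv3 F235914))
theorem F306160 : act 4 n148186 = n158128 := (sb E60110 (iv4 F249067))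
theorem E62970 : n144810 = n76721 := (((iv5 F232007)).symm.trans (sb E60110 (iv5 F235915)))
theorem F306161 : act 7 n148186 = n76728 := (sb E60110 F235912)
theorem F306162 : act 4 n146725 = n98771 := (sb E60111 (iv4 F296803))
theorem F306163 : act 5 n146725 = n81569 := (sb E60111 F252813)
theorem F306164 : act 7 n146725 = n76727 := (sb E60111 F252814)
theorem F306165 : act 6 n133599 = n81569 := (sb E60112 (iv6 D170074))
theorem E62971 : n95877 = n69739 := ((((iv3 F106132)).symm.trans (sb E60113 F267193))).symm
theorem E62972 : n81427 = n29063 := (((F51413).symm.trans (sb E60113 (iv5 D169789)))).symm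
theorem E62973 : n122836 = n54169 := (((F112662).symm.trans (sb E60114 F267199))).symm
theorem E62974 : n81428 = n61539 := (((F112663).symm.trans (sb E60114 (iv5 D169791)))).symm
theorem F306166 : act 3 n145745 = n95832 := (sb E60115 F301246)
theorem F306167 : act 5 n145745 = n77712 := (sb E60115 (iv5 D161811))
theorem E62975 : n149669 = n68352 := (((F228870).symm.trans (sb E60115 F301248))).symm
theorem F306168 : act 5 n75134 = n44474 := (sb E60116 F134285)
theorem E62976 : n183240 = n149693 := ((((iv6 F235373)).symm.trans (sb E60116 D183240))).symm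
theorem E62990 : n119674 = n101596 := (((D101596).symm.trans (sb E60123 D119674))).symm
theorem F306169 : act 4 n47259 = n26614 := (sb E60123 (iv4 D55063))
theorem E62993 : n119649 = n101599 := (((D101599).symm.trans (sb E60123 (iv7 F188711)))).symm
theorem E62994 : n101602 = n83765 := ((D101602).symm.trans (sb E60124 (tr F239775 E61359)))
theorem E62995 : n178888 = n101603 := (((D101603).symm.trans (sb E60124 F278758))).symm
theorem F306170 : act 4 n47264 = n39410 := (sb E60124 (iv4 D85295))
theorem E62997 : n178893 = n101604 := (((D101604).symm.trans (sb E60124 D178893))).symm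
theorem E62998 : n119691 = n101605 := (((D101605).symm.trans (sb E60124 F200255))).symm
theorem E62999 : n128152 = n83598 := (((iv4 F206281)).symm.trans (sb E60125 (iv4 D175056)))
theorem F306171 : act 4 n73418 = n85903 := (sb E60126 (iv4 D179859))
theorem E63000 : n158994 = n148678 := (((E61822).symm.trans ((D154818).symm.trans (sb E60126 (iv5 F280117))))).symm
theorem E63001 : n154819 = n76571 := ((D154819).symm.trans (sb E60127 (iv1 F232317)))
theorem F306172 : act 1 n73421 = n34699 := (sb E60127 (iv0 D75924))
theorem E63005 : n154825 = n67154 := (((E62806).symm.trans ((D119322).symm.trans (sb E60128 D154825)))).symm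
theorem E63006 : n157379 = n33769 := ((F306069).symm.trans (sb E60128 (iv6 D73424)))
theorem E63009 : n154788 = n148034 := ((D154788).symm.trans (sb E60131 F238803))
theorem F306173 : act 3 n73399 = n146910 := (sb E60131 F238800)
theorem E63010 : n154790 = n117346 := ((D154790).symm.trans (sb E60131 F238801))
theorem E63011 : n154791 = n146532 := ((D154791).symm.trans (sb E60131 F238802))
theorem F306174 : act 5 n55203 = n33773 := (sb E60133 (iv5 D73433))
theorem E63016 : n154851 = n67865 := ((((iv7 F103919)).symm.trans (sb E60133 D154851))).symm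
theorem F306175 : act 6 n73434 = n61571 := (sb E60134 (iv6 D131231))
theorem F306176 : act 2 n69377 = n36161 := (sb E60140 (iv2 D79421))
theorem F306177 : act 4 n69377 = n165311 := (sb E60140 D165311)
theorem E63035 : n165313 = n72289 := ((((iv6 F108740)).symm.trans (sb E60140 D165313))).symm
theorem F306178 : act 7 n69377 = n36162 := (sb E60140 (iv7 F122005))
theorem E63036 : n165325 = n61212 := ((D165325).symm.trans (sb E60141 (iv6 D130474)))
theorem E63039 : n165318 = n117552 := ((((iv3 F184156)).symm.trans (sb E60142 (iv3 F260566)))).symm
theorem F306179 : act 5 n54229 = n36161 := (sb E60142 (iv5 D79424))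
theorem E63043 : n165332 = n133638 := ((D165332).symm.trans (sb E60143 (iv1 F215034)))
theorem E63044 : n165333 = n61554 := ((D165333).symm.trans (sb E60143 (iv0 F187135)))
theorem E63045 : n165335 = n72293 := ((D165335).symm.trans (sb E60143 F187134))
theorem F306180 : act 2 n74007 = n36162 := (sb E60144 F122006)
theorem E63046 : n165320 = n155564 := (((D155564).symm.trans (sb E60144 (iv3 F260568)))).symm
theorem F306181 : act 4 n74007 = n165326 := (sb E60144 (iv4 F260572))
theorem F306182 : act 7 n74007 = n36161 := (sb E60144 (iv7 D79426))
theorem E63047 : n165341 = n147509 := ((((iv3 F242934)).symm.trans (sb E60145 (iv3 F260582)))).symm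
theorem F306183 : act 5 n69378 = n36162 := (sb E60145 (iv5 D79429))
theorem F306184 : act 5 n31526 = n36164 := (sb E60149 F122008)
theorem E63083 : n133668 = n57735 := (((iv4 F215081)).symm.trans (sb E60155 (iv4 F301602)))
theorem F306185 : act 7 n62739 = n40198 := (sb E60155 F132608)
theorem F306186 : act 2 n62747 = n40198 := (sb E60156 (iv2 D86697))
theorem E63086 : n83940 = n29682 := (((F97881).symm.trans (sb E60156 F132958))).symm
theorem E63088 : n181651 = n61535 := (((F97882).symm.trans (sb E60156 D181651))).symm
theorem E63089 : n71652 = n40233 := (((F232550).symm.trans (sb E60157 F232817))).symm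
theorem E63090 : n157368 = n40238 := (((F232551).symm.trans (sb E60157 F247692))).symm
theorem F306187 : act 3 n84881 = n133670 := (sb E60157 F222305)
theorem E63091 : n178410 = n65296 := ((D178410).symm.trans (sb E60157 (iv7 D139116)))
theorem F306188 : act 0 n62744 = n40198 := (sb E60158 (iv1 D86696))
theorem E63092 : n133679 = n125114 := ((D133679).symm.trans (sb E60158 (iv4 F201013)))
theorem E63094 : n84438 = n84391 := ((F304986).symm.trans (sb E60159 F276489))
theorem F306189 : act 6 n131090 = n84389 := (sb E60159 (iv6 D177065))
theorem F306190 : act 4 n55026 = n74703 := (sb E60161 (iv4 D157129))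
theorem E63095 : n74789 = n26599 := ((((iv6 D55026)).symm.trans (sb E60161 F247263))).symm
theorem E63096 : n74787 = n34307 := ((D74787).symm.trans (sb E60162 (tr F110493 E62743)))
theorem E63097 : n74788 = n60364 := ((D74788).symm.trans (sb E60162 (iv0 F94886)))
theorem E63099 : n74790 = n70396 := ((D74790).symm.trans (sb E60162 F162723))
theorem E63100 : n69646 = n54318 := ((((iv6 F302784)).symm.trans (sb E60163 (iv6 D148607)))).symm
theorem E63101 : n157390 = n119838 := ((((iv1 F189136)).symm.trans (sb E60164 (iv1 F247863)))).symm
theorem E63102 : n69464 = n35073 := ((((iv0 D76737)).symm.trans (sb E60164 (iv0 D148195)))).symm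
theorem E63103 : n127314 = n54338 := ((((iv2 F131140)).symm.trans (sb E60164 (iv2 F232021)))).symm
theorem E63104 : n160187 = n69755 := ((D160187).symm.trans (sb E60164 F232018))
theorem E63105 : n127326 = n54343 := ((((iv7 F131142)).symm.trans (sb E60164 F232022))).symm
theorem F306191 : act 1 n86713 = n133680 := (sb E60165 F239157)
theorem F306192 : act 2 n86713 = n155564 := (sb E60165 F244572)
theorem F306193 : act 5 n55031 = n87545 := (sb E60166 (iv5 D183396))
theorem F306194 : act 0 n117968 = n155564 := (sb E60167 (iv1 F244574))
theorem F306195 : act 2 n117968 = n133680 := (sb E60167 F227707)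
theorem F306196 : act 5 n117968 = n67863 := (sb E60167 (iv5 D144809))
theorem F306197 : act 6 n117968 = n133669 := (sb E60167 F227710)
theorem F306198 : act 0 n32844 = n69410 := (sb E60169 F210074)
theorem E63107 : n157538 = n33437 := ((((iv4 F52724)).symm.trans (sb E60169 (iv4 F248261)))).symm
theorem E63108 : n55165 = n32606 := (((F52008).symm.trans (sb E60169 F112515))).symm
theorem E63109 : n70879 = n34354 := ((D70879).symm.trans (sb E60169 (iv6 D74983)))
theorem F306199 : act 1 n70380 = n69410 := (sb E60170 (iv0 D148161))
theorem E63110 : n157487 = n149797 := (((D149797).symm.trans (sb E60170 F248160))).symm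
theorem F306200 : act 2 n37266 = n69410 := (sb E60171 F231927)
theorem F306201 : act 4 n56943 = n69410 := (sb E60172 (iv4 D148162))
theorem E63111 : n73769 = n48753 := (((F106844).symm.trans (sb E60173 (iv5 D155265)))).symm
theorem E63112 : n149774 = n73772 := ((D149774).symm.trans (sb E60173 F244180))
theorem E63113 : n148174 = n76708 := (((F115058).symm.trans (sb E60174 F231990))).symm
theorem E63114 : n148170 = n76707 := (((F115053).symm.trans (sb E60174 F231991))).symm
theorem E63115 : n149589 = n55156 := ((D149589).symm.trans (sb E60174 (iv6 D119844)))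
theorem E63116 : n152618 = n122828 := ((D152618).symm.trans (sb E60175 F236818))
theorem F306202 : act 6 n71997 = n70878 := (sb E60175 (iv6 D150425))
theorem E63117 : n76710 = n68746 := ((D76710).symm.trans (sb E60176 F189208))
theorem E63118 : n149799 = n62749 := ((D149799).symm.trans (sb E60177 (iv5 D133685)))
theorem E63119 : n149800 = n120183 := ((D149800).symm.trans (sb E60177 F215125))
theorem F306204 : act 0 n131578 = n118489 := (sb E60180 F254529)
theorem F306205 : act 3 n131578 = n147648 := (sb E60180 (iv3 F303568))
theorem F306206 : act 5 n131578 = n123100 := (sb E60180 F254528)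
theorem F306207 : act 6 n131578 = n81651 := (sb E60180 F303940)
theorem F306208 : act 5 n54761 = n79425 := (sb E60181 (iv5 D165334))
theorem E63121 : n54166 = n54104 := (((F86791).symm.trans (sb E60182 (iv5 D117570)))).symm
theorem F306209 : act 7 n54848 = n69450 := (sb E60182 F186342)
theorem F306210 : act 1 n98222 = n69450 := (sb E60183 (iv0 F188571))
theorem E63122 : n76726 = n55014 := (((iv5 F151575)).symm.trans (sb E60183 (iv5 D119581)))
theorem F306211 : act 6 n98222 = n55018 := (sb E60183 F188569)
theorem E63123 : n68758 = n17023 := ((((iv1 D35069)).symm.trans (sb E60184 F187801))).symm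
theorem E63124 : n76729 = n54903 := ((D76729).symm.trans (sb E60184 (iv6 D119305)))
theorem F306212 : act 6 n55292 = n76728 := (sb E60185 (iv6 D160175))
theorem F306213 : act 0 n81430 = n148830 := (sb E60186 F233699)
theorem E63125 : n147129 = n37188 := (((F125266).symm.trans (sb E60186 (iv3 F243273)))).symm
theorem E63126 : n169796 = n54059 := ((D169796).symm.trans (sb E60186 (iv6 D117294)))
theorem F306214 : act 0 n130857 = n76727 := (sb E60187 (iv1 F252760))
theorem F306215 : act 6 n119300 = n76727 := (sb E60188 (iv6 D160174))
theorem E63128 : n122830 = n54143 := ((((iv2 F85464)).symm.trans (sb E60190 (iv2 F196813)))).symm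
theorem E63129 : n57479 = n54165 := ((((iv4 F85491)).symm.trans (sb E60190 F120317))).symm
theorem E63131 : n157694 = n60071 := (((iv3 F248500)).symm.trans (sb E60191 F296782))
theorem E63132 : n157695 = n46187 := ((D157695).symm.trans (sb E60191 (iv5 D98768)))
theorem E63133 : n61537 = n44485 := ((D61537).symm.trans (sb E60192 F129485))
theorem E63134 : n81429 = n61538 := (((D61538).symm.trans (sb E60192 (iv0 F129496)))).symm
theorem F306216 : act 3 n97231 = n69744 := (sb E60193 F233643)
theorem E63137 : n130856 = n83680 := (((F149989).symm.trans (sb E60193 F233644))).symm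
theorem F306217 : act 6 n97231 = n157682 := (sb E60193 (iv6 F248459))
theorem E63138 : n147639 = n133945 := ((D147639).symm.trans (sb E62445 (iv1 F233653)))
theorem E63139 : n147640 = n77021 := ((D147640).symm.trans (sb E62445 (tr F233654 E61851)))
theorem E63140 : n147635 = n128104 := (((iv2 F231406)).symm.trans (sb E62445 (tr F233651 E61847)))
theorem E63141 : n147638 = n69744 := (((iv4 F231411)).symm.trans (sb E62445 F233652))
theorem E63142 : n157687 = n32178 := ((((iv6 D69190)).symm.trans (sb E62445 (iv6 F248476)))).symm
theorem E63143 : n67252 = n32624 := (((iv3 F103165)).symm.trans (sb E60196 (iv3 D70295)))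
theorem E63144 : n119124 = n68354 := (((D68354).symm.trans (sb E60196 (iv5 F298581)))).symm
theorem F306218 : act 0 n114604 = n68353 := (sb E60197 (iv1 F228878))
theorem F306219 : act 6 n114604 = n157711 := (sb E60197 (iv6 F248527))
theorem F306220 : act 3 n128054 = n68353 := (sb E60198 (iv3 D145795))
theorem F306221 : act 6 n128054 = n158983 := (sb E60198 (iv6 F250317))
theorem F306222 : act 5 n128053 = n68353 := (sb E60199 (iv5 D145796))
theorem E63146 : n84124 = n83310 := ((((iv3 F128408)).symm.trans (sb E60201 (iv3 F274497)))).symm
theorem F306223 : act 7 n73489 = n119757 := (sb E60202 (iv7 F200368))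
theorem F306224 : act 2 n76578 = n39444 := (sb E60203 F130637)
theorem F306225 : act 5 n76578 = n39439 := (sb E60203 (iv5 D85373))
theorem E63150 : n178970 = n159947 := (((D159947).symm.trans (sb E60203 D178970))).symm
theorem F306226 : act 0 n85374 = n39451 := (sb E60204 (iv1 F130646))
theorem F306229 : act 1 n76581 = n39444 := (sb E60205 (iv0 D85390))
theorem E63154 : n178992 = n67912 := ((D178992).symm.trans (sb E60206 (iv0 F200349)))
theorem F306230 : act 3 n85393 = n55549 := (sb E60207 F192194)
theorem E63155 : n178998 = n71308 := ((D178998).symm.trans (sb E60207 F192195))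
theorem F306231 : act 0 n73818 = n39445 := (sb E60208 (iv1 D85395))
theorem E63156 : n179002 = n155351 := ((((iv3 F244312)).symm.trans (sb E60208 D179002))).symm
theorem E63157 : n155354 = n70454 := (((iv4 F244315)).symm.trans (sb E60208 (iv4 F200344)))
theorem F306232 : act 0 n85396 = n54695 := (sb E60209 F232693)
theorem F306236 : act 4 n120613 = n178993 := (sb E60210 F283066)
theorem F306238 : act 0 n158685 = n78200 := (sb E60217 (iv1 D162733))
theorem F306239 : act 1 n158685 = n173803 := (sb E60217 F272390)
theorem F306240 : act 0 n158677 = n173803 := (sb E60218 (iv1 F272391))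
theorem F306241 : act 1 n158677 = n78200 := (sb E60218 (iv0 D162732))
theorem F306242 : act 3 n101467 = n72830 := (sb E60219 F241890)
theorem E63159 : n181985 = n72864 := (((iv4 F283305)).symm.trans (sb E60219 F241891))
theorem F306243 : act 6 n101467 = n128187 := (sb E60219 F241892)
theorem F306244 : act 7 n101467 = n72825 := (sb E60219 (iv7 D153911))
theorem F306245 : act 1 n158600 = n79814 := (sb E60221 (iv0 D166229))
theorem F306246 : act 1 n86565 = n70713 := (sb E60222 (iv0 D150223))
theorem F306247 : act 4 n83706 = n72840 := (sb E60223 F206194)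
theorem E63160 : n175289 = n60206 := ((D175289).symm.trans (sb E60223 (iv6 D128115)))
theorem E63161 : n175041 = n166284 := ((D175041).symm.trans (sb E62280 F278762))
theorem F306248 : act 4 n83593 = n85294 := (sb E62280 (iv4 D178891))
theorem F306251 : act 3 n118679 = n79850 := (sb E60226 (iv3 D166285))
theorem F306252 : act 5 n118679 = n144859 := (sb E60226 F261831)
theorem F306253 : act 6 n118679 = n117924 := (sb E60226 F261832)
theorem F306254 : act 5 n67914 = n71331 := (sb E60227 (iv5 D151356))
theorem E63162 : n175306 = n151754 := ((D175306).symm.trans (sb E60228 F238662))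
theorem F306255 : act 6 n83715 = n71331 := (sb E60228 (iv6 D151357))
theorem F306256 : act 3 n118680 = n149188 := (sb E60229 (iv3 F279859))
theorem F306257 : act 5 n118680 = n144858 := (sb E60229 F279858)
theorem F306258 : act 6 n118680 = n149875 := (sb E60229 (iv6 F279863))
theorem E63163 : n86480 = n68743 := ((D86480).symm.trans (sb E60235 (iv5 D146680)))
theorem F306259 : act 5 n40065 = n73329 := (sb E60236 F242799)
theorem E63165 : n131226 = n85627 := ((((iv6 F296470)).symm.trans (sb E60236 (iv6 F242803)))).symm
theorem E63167 : n29151 = n18977 := ((((iv1 F296471)).symm.trans (sb E60238 (iv1 D61567)))).symm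
theorem E63168 : n85628 = n34321 := ((D85628).symm.trans (sb E60238 F185246))
theorem E63170 : n86490 = n72421 := ((D86490).symm.trans (sb E60239 (iv3 F214982)))
theorem E63171 : n86491 = n71977 := ((D86491).symm.trans (sb E60239 F214981))
theorem E63172 : n81566 = n62714 := (((iv6 F299949)).symm.trans (sb E60239 (iv6 D133618)))
theorem E63173 : n86493 = n71976 := ((D86493).symm.trans (sb E60240 (iv5 D152594)))
theorem F306260 : act 2 n40071 = n73033 := (sb E60241 (iv2 F190645))
theorem F306261 : act 3 n40071 = n55140 := (sb E60241 F189119)
theorem F306262 : act 6 n40071 = n55139 := (sb E60241 (iv6 D119833))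
theorem F306263 : act 2 n55528 = n86486 := (sb E60243 (iv2 D181087))
theorem F306264 : act 3 n119818 = n86486 := (sb E60244 (iv3 D181088))
theorem F306265 : act 5 n73003 = n86486 := (sb E60245 (iv5 D181089))
theorem F306266 : act 6 n55516 = n86486 := (sb E60246 (iv6 D181090))
theorem F306267 : act 2 n69262 = n86487 := (sb E60247 F282045)
theorem F306268 : act 7 n69262 = n86486 := (sb E60247 (iv7 D181091))
theorem F306269 : act 3 n154075 = n86487 := (sb E60248 (iv3 D181092))
theorem F306270 : act 5 n73004 = n86487 := (sb E60249 (iv5 D181093))
theorem E63174 : n182101 = n33545 := ((((iv0 F109207)).symm.trans (sb E60250 (iv0 F287339)))).symm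
theorem F306271 : act 6 n69102 = n86487 := (sb E60250 (iv6 D181094))
theorem F306272 : act 6 n119832 = n86497 := (sb E60253 F282050)
theorem E63176 : n167198 = n77692 := ((((iv4 F304249)).symm.trans (sb E60254 (iv4 F263372)))).symm
theorem F306273 : act 7 n61549 = n79418 := (sb E60254 (iv7 F260552))
theorem F306274 : act 1 n133629 = n73082 := (sb E60255 (iv0 D154251))
theorem F306275 : act 4 n133629 = n123223 := (sb E60255 F242361)
theorem F306276 : act 2 n70557 = n79418 := (sb E60258 F260553)
theorem F306277 : act 3 n119115 = n79418 := (sb E60259 (iv3 D165301))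
theorem E63178 : n165302 = n26722 := (E60260).trans E61646
theorem E63179 : n79418 = n55298 := (((D55298).symm.trans (sb E63178 (iv5 D165302)))).symm
theorem E63180 : n133638 = n34235 := (((F87514).symm.trans (iv6 (sb E60261 (tr (iv6 D165303) E63179))))).symm
theorem F306278 : act 5 n119834 = n79420 := (sb E60264 F260557)
theorem F306281 : act 6 n61107 = n77438 := (sb E60266 (iv6 D161302))
theorem F306282 : act 5 n130429 = n77439 := (sb E60267 (iv5 D161305))
theorem F306283 : act 6 n133142 = n77439 := (sb E60268 (iv6 D161306))
theorem F306284 : act 0 n133108 = n167027 := (sb E60269 (iv1 F263027))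
theorem F306285 : act 1 n133108 = n77440 := (sb E60269 (iv0 D161307))
theorem F306288 : act 3 n120230 = n83178 := (sb E60272 (iv3 D173947))
theorem F306291 : act 6 n61547 = n77692 := (sb E60274 (iv6 D161740))
theorem E63183 : n83181 = n83170 := ((((iv3 F128230)).symm.trans (sb E60275 F255748))).symm
theorem F306292 : act 5 n149891 = n73815 := (sb E60278 (iv5 D155350))
theorem F306295 : act 5 n151737 = n76619 := (sb E60283 (iv5 D160017))
theorem F306296 : act 4 n69559 = n76621 := (sb E60284 F252432)
theorem F306297 : act 6 n69559 = n76619 := (sb E60284 (iv6 D160018))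
theorem F306298 : act 4 n34269 = n32707 := (sb E60290 (iv4 F303013))
theorem F306299 : act 4 n34270 = n32708 := (sb E60291 (iv4 F303014))
theorem F306300 : act 0 n99477 = n57752 := (sb E60293 (iv1 D123969))
theorem F306301 : act 3 n71522 = n149001 := (sb E60294 F237373)
theorem E63185 : n151751 = n71096 := ((D151751).symm.trans (sb E60294 (iv5 D150802)))
theorem E63186 : n149915 = n76564 := ((((iv7 F233762)).symm.trans (sb E60294 F237374))).symm
theorem F306302 : act 2 n95881 = n150407 := (sb E60295 (iv2 F236764))
theorem F306303 : act 3 n95881 = n69777 := (sb E60295 (iv3 F230633))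
theorem F306304 : act 5 n95881 = n69775 := (sb E60295 (iv5 F230636))
theorem F306305 : act 6 n95881 = n48922 := (sb E60295 (iv6 D105826))
theorem F306306 : act 7 n95881 = n150406 := (sb E60295 (iv7 F236763))
theorem F306307 : act 1 n61186 = n73021 := (sb E62341 F233897)
theorem E63187 : n130387 = n69778 := ((D130387).symm.trans (sb E62341 F233893))
theorem E63188 : n130389 = n69776 := ((D130389).symm.trans (sb E62341 (iv6 D148865)))
theorem F306308 : act 0 n73045 = n41718 := (sb E60298 (iv1 F137010))
theorem F306309 : act 1 n73045 = n41713 := (sb E60298 (iv0 D89298))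
theorem F306310 : act 4 n44990 = n41713 := (sb E60299 (iv4 D89300))
theorem E63189 : n98196 = n38020 := (((D38020).symm.trans (sb E60302 F272628))).symm
theorem F306311 : act 6 n38295 = n38019 := (sb E60303 (iv6 D82712))
theorem E63194 : n98204 = n22603 := (((D22603).symm.trans (sb E60304 F272636))).symm
theorem E63195 : n100815 = n83091 := ((((iv1 F298286)).symm.trans (sb E60305 D100815))).symm
theorem E63196 : n100816 = n83115 := ((((iv0 F300788)).symm.trans (sb E60305 D100816))).symm
theorem F306312 : act 6 n45893 = n22602 := (sb E60305 (iv6 D47006))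
theorem E63198 : n100818 = n83112 := ((((iv7 F300792)).symm.trans (sb E60305 D100818))).symm
theorem E63199 : n82758 = n82727 := ((((iv5 F127494)).symm.trans (sb E60306 (iv5 D172861)))).symm
theorem F306313 : act 0 n80123 = n152591 := (sb E60307 (iv1 F255148))
theorem F306314 : act 1 n80123 = n77449 := (sb E60307 (iv0 D161330))
theorem E63200 : n174432 = n72335 := ((D174432).symm.trans (sb E60308 (iv5 D153216)))
theorem F306315 : act 6 n83375 = n72338 := (sb E60308 F240578)
theorem F306316 : act 4 n75485 = n61190 := (sb E60309 (iv4 D130402))
theorem F306317 : act 3 n73314 = n57283 := (sb E60310 F197279)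
theorem F306318 : act 6 n73314 = n57280 := (sb E60310 (iv6 D123086))
theorem F306319 : act 0 n122555 = n70007 := (sb E60311 (iv1 D149173))
theorem F306320 : act 2 n122555 = n154636 := (sb E60311 (iv2 F242755))
theorem F306321 : act 5 n122555 = n150207 := (sb E60311 (iv5 F242734))
theorem F306322 : act 1 n37483 = n57283 := (sb E60312 (iv0 D123090))
theorem F306323 : act 0 n101262 = n57283 := (sb E60313 (iv1 D123091))
theorem F306324 : act 2 n101260 = n57283 := (sb E60314 F196217)
theorem F306325 : act 4 n101260 = n166908 := (sb E60314 (iv4 F262769))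
theorem F306326 : act 6 n101260 = n56886 := (sb E60314 (iv6 D122554))
theorem F306327 : act 3 n123092 = n154620 := (sb E60315 F268353)
theorem F306328 : act 7 n101259 = n57283 := (sb E60316 (iv7 D123093))
theorem F306329 : act 6 n60205 = n54949 := (sb E60317 (iv6 D119405))
theorem F306330 : act 3 n60329 = n54958 := (sb E60319 F188157)
theorem F306331 : act 2 n60325 = n60165 := (sb E60320 F120366)
theorem F306332 : act 3 n60325 = n54954 := (sb E60320 F120367)
theorem E63201 : n128311 = n70185 := ((D128311).symm.trans (sb E60320 F120369))
theorem F306333 : act 6 n60325 = n35999 := (sb E60320 (iv6 D79104))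
theorem F306334 : act 0 n60205 = n54979 := (sb E60321 (iv1 D119494))
theorem F306335 : act 0 n119497 = n128117 := (sb E60322 F261779)
theorem F306336 : act 1 n119497 = n128116 := (sb E60322 F261780)
theorem F306337 : act 2 n119497 = n128119 := (sb E60322 F261777)
theorem F306338 : act 7 n119497 = n128050 := (sb E60322 F261778)
theorem F306339 : act 3 n60236 = n54982 := (sb E60323 F188289)
theorem F306340 : act 6 n60236 = n54979 := (sb E60323 (iv6 D119498))
theorem F306341 : act 3 n73461 = n54980 := (sb E60324 (iv3 D119500))
theorem F306342 : act 7 n60231 = n54982 := (sb E60325 (iv7 D119510))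
theorem F306343 : act 4 n72862 = n84007 := (sb E60326 (iv4 D176100))
theorem F306344 : act 6 n83191 = n61794 := (sb E60327 (iv6 D131704))
theorem E63202 : n47169 = n47140 := ((D47169).symm.trans (sb E60328 (tr (iv2 D124396) E60652)))
theorem E63203 : n57421 = n47175 := (((D47175).symm.trans (sb E60329 F189067))).symm
theorem E63204 : n55134 = n47176 := (((D47176).symm.trans (sb E60329 F189068))).symm
theorem E63205 : n55132 = n47178 := (((D47178).symm.trans (sb E60329 (iv6 D119817)))).symm
theorem E63207 : n154593 = n47165 := (((D47165).symm.trans (sb E60331 (iv1 F242663)))).symm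
theorem E63208 : n70465 = n47166 := (((D47166).symm.trans (sb E60331 (iv0 F215552)))).symm
theorem E63209 : n73155 = n47168 := (((D47168).symm.trans (sb E60331 F215551))).symm
theorem F306345 : act 6 n22697 = n16282 := (sb E60332 (iv6 D33689))
theorem E63210 : n73169 = n38608 := (((D38608).symm.trans (sb E60335 (iv6 D154466)))).symm
theorem E63211 : n87668 = n73167 := (((D73167).symm.trans (sb E60336 D87668))).symm
theorem E63212 : n87669 = n73168 := (((D73168).symm.trans (sb E60336 D87669))).symm
theorem E63213 : n87670 = n73171 := (((D73171).symm.trans (sb E60336 D87670))).symm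
theorem F306346 : act 6 n33691 = n19253 := (sb E60336 (iv6 D40844))
theorem E63214 : n87671 = n72768 := ((((iv7 F162981)).symm.trans (sb E60336 D87671))).symm
theorem E63218 : n87692 = n72762 := ((((iv3 F109246)).symm.trans (sb E60338 D87692))).symm
theorem E63220 : n87694 = n72779 := ((((iv5 F109259)).symm.trans (sb E60338 D87694))).symm
theorem E63221 : n87696 = n73158 := ((((iv1 F109645)).symm.trans (sb E60339 D87696))).symm
theorem E63222 : n87697 = n73157 := (((F109648).symm.trans (sb E60339 D87697))).symm
theorem F306347 : act 2 n33693 = n19357 := (sb E60339 F61947)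
theorem E63223 : n87698 = n73175 := (((D73175).symm.trans (sb E60339 D87698))).symm
theorem F306348 : act 6 n33693 = n19257 := (sb E60339 F61948)
theorem E63224 : n87699 = n72769 := ((((iv7 F162983)).symm.trans (sb E60339 D87699))).symm
theorem F306349 : act 6 n33571 = n47143 := (sb E60340 (iv6 F74396))
theorem E63225 : n57677 = n47245 := (((D47245).symm.trans (sb E60341 (iv6 D123733)))).symm
theorem F306350 : act 0 n98091 = n120431 := (sb E60342 F198229)
theorem F306351 : act 1 n98091 = n120451 := (sb E60342 (iv0 F198231))
theorem F306352 : act 6 n27550 = n45805 := (sb E60343 (iv6 D98092))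
theorem F306353 : act 0 n98097 = n73001 := (sb E60344 (iv1 F240115))
theorem E63226 : n182103 = n152896 := (((iv5 F283504)).symm.trans (sb E60344 F240119))
theorem F306354 : act 7 n98097 = n57685 := (sb E60344 (iv7 D123758))
theorem F306355 : act 6 n39711 = n57483 := (sb E60345 (iv6 D123406))
theorem F306356 : act 3 n33532 = n54447 := (sb E60346 (iv3 D118197))
theorem F306357 : act 0 n118199 = n124152 := (sb E60347 F242350)
theorem F306358 : act 3 n118199 = n72660 := (sb E60347 F241527)
theorem F306359 : act 3 n118200 = n72661 := (sb E60348 F241528)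
theorem F306360 : act 0 n38526 = n61071 := (sb E60356 (iv1 D130061))
theorem F306361 : act 4 n38526 = n61543 := (sb E60356 (iv4 F208509))
theorem F306362 : act 3 n130400 = n71857 := (sb E60357 (iv3 D152312))
theorem F306363 : act 4 n130400 = n153597 := (sb E60357 (iv4 F241420))
theorem F306364 : act 7 n130400 = n72064 := (sb E60357 F239447)
theorem F306365 : act 4 n130401 = n158406 := (sb E60358 F300413)
theorem F306368 : act 5 n133113 = n80175 := (sb E60363 (iv5 D167022))
theorem E63227 : n181644 = n133677 := (((D133677).symm.trans (sb E60365 F304360))).symm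
theorem E63228 : n181643 = n107903 := ((((iv0 F208188)).symm.trans (sb E60365 F304361))).symm
theorem E63229 : n132794 = n83897 := (((iv3 F213283)).symm.trans (sb E60365 F304362))
theorem F306370 : act 0 n133678 = n123932 := (sb E60367 (iv1 F304358))
theorem F306371 : act 1 n133678 = n123931 := (sb E60367 (iv0 F304357))
theorem F306372 : act 2 n133678 = n86692 := (sb E60367 (iv2 D181645))
theorem F306373 : act 3 n133678 = n89108 := (sb E60367 F282744)
theorem E63231 : n83828 = n72958 := ((((iv2 F303325)).symm.trans (sb E60368 (iv2 D175568)))).symm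
theorem E63232 : n84708 = n83025 := ((F305179).symm.trans (sb E60369 (iv3 D173572)))
theorem F306374 : act 6 n153896 = n84663 := (sb E60370 (iv6 D177811))
theorem F306375 : act 6 n154628 = n84664 := (sb E60371 (iv6 D177812))
theorem F306376 : act 6 n154651 = n99286 := (sb E60372 F277338)
theorem F306377 : act 6 n39104 = n73332 := (sb E60373 (iv6 F303328))
theorem F306378 : act 6 n153878 = n98879 := (sb E60374 F277340)
theorem E63233 : n72875 = n40757 := (((D40757).symm.trans (sb E60378 D72875))).symm
theorem F306379 : act 1 n33582 = n95439 := (sb E60379 D95439)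
theorem E63235 : n95440 = n72814 := (((D72814).symm.trans (sb E60379 D95440))).symm
theorem F306380 : act 6 n33582 = n21203 := (sb E60379 (iv6 D44578))
theorem F306381 : act 7 n33595 = n183074 := (sb E60380 D183074)
theorem F306382 : act 2 n33712 = n183074 := (sb E60381 (iv2 F284693))
theorem E63241 : n183075 = n73256 := (((D73256).symm.trans (sb E60381 D183075))).symm
theorem E63243 : n183078 = n58337 := ((((iv6 F199701)).symm.trans (sb E60381 D183078))).symm
theorem E63246 : n183081 = n73335 := (((D73335).symm.trans (sb E60382 D183081))).symm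
theorem F306383 : act 0 n33577 = n95439 := (sb E60383 (iv1 F147057))
theorem E63248 : n104119 = n72797 := (((D72797).symm.trans (sb E60383 (iv6 F159594)))).symm
theorem E63249 : n104116 = n73277 := ((D104116).symm.trans (sb E60384 (iv1 F241828)))
theorem E63250 : n104117 = n72979 := ((D104117).symm.trans (sb E60384 F241829))
theorem F306384 : act 4 n48184 = n72806 := (sb E60384 F241826)
theorem E63251 : n153310 = n104118 := (((D104118).symm.trans (sb E60384 (iv5 F241830)))).symm
theorem F306385 : act 0 n117379 = n70716 := (sb E60385 (iv1 F236390))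
theorem F306386 : act 1 n117379 = n70697 := (sb E60385 (iv0 D150206))
theorem F306387 : act 5 n117379 = n73321 := (sb E60385 F236389)
theorem F306388 : act 6 n46852 = n73333 := (sb E60386 (iv6 D154656))
theorem F306389 : act 0 n153880 = n98877 := (sb E60387 (iv1 F277328))
theorem F306390 : act 1 n153880 = n98876 := (sb E60387 F277329)
theorem F306391 : act 2 n153880 = n98879 := (sb E60387 F277324)
theorem F306392 : act 7 n153880 = n84662 := (sb E60387 (iv7 D177810))
theorem F306393 : act 1 n33605 = n40755 := (sb E60388 F133384)
theorem F306394 : act 2 n33605 = n40758 := (sb E60388 F133379)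
theorem E63252 : n181994 = n72880 := (((D72880).symm.trans (sb E60388 (iv5 F283318)))).symm
theorem F306395 : act 6 n33605 = n40619 := (sb E60388 F133381)
theorem F306396 : act 7 n33605 = n40331 := (sb E60388 (iv7 D86923))
theorem F306397 : act 0 n33607 = n40758 := (sb E60389 (iv1 F133382))
theorem F306398 : act 1 n33607 = n40331 := (sb E60389 (iv0 D86920))
theorem F306399 : act 2 n33607 = n40755 := (sb E60389 (iv2 F285167))
theorem E63253 : n181986 = n72885 := ((((iv5 F109367)).symm.trans (sb E60389 D181986))).symm
theorem E63254 : n183430 = n72883 := ((D183430).symm.trans (sb E60390 (iv1 F199560)))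
theorem E63255 : n183431 = n72882 := ((D183431).symm.trans (sb E60390 F199561))
theorem E63256 : n181989 = n58295 := (((iv7 F285181)).symm.trans (sb E60390 (iv7 D124726)))
theorem F306400 : act 6 n33637 = n40755 := (sb E60391 (iv6 D87560))
theorem F306401 : act 0 n27768 = n40331 := (sb E60392 (iv1 D86921))
theorem F306402 : act 1 n27768 = n40758 := (sb E60392 F133375)
theorem F306403 : act 7 n27768 = n40755 := (sb E60392 F285173)
theorem F306404 : act 2 n101468 = n72825 := (sb E60394 F241883)
theorem F306405 : act 4 n101468 = n72859 := (sb E60394 F241885)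
theorem F306406 : act 6 n101468 = n72823 := (sb E60394 (iv6 D153906))
theorem F306407 : act 0 n123446 = n98440 := (sb E60396 F277527)
theorem F306408 : act 5 n123446 = n84718 := (sb E60396 (iv5 D177970))
theorem F306409 : act 4 n33729 = n57483 := (sb E60401 (iv4 D123404))
theorem F306410 : act 7 n123405 = n69970 := (sb E60402 F233184)
theorem F306411 : act 5 n123408 = n118200 := (sb E60405 (iv5 F236118))
theorem F306413 : act 5 n123422 = n102553 := (sb E60413 F290022)
theorem F306414 : act 6 n123422 = n98423 := (sb E60413 (iv6 F290060))
theorem F306415 : act 4 n124014 = n76090 := (sb E60418 F250594)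
theorem E63265 : n182093 = n119238 := (((F191142).symm.trans (sb E60419 D182093))).symm
theorem E63267 : n182095 = n153682 := (((D153682).symm.trans (sb E60419 D182095))).symm
theorem E63272 : n182104 = n152895 := (((F240113).symm.trans (sb E60421 D182104))).symm
theorem E63274 : n182106 = n153684 := (((D153684).symm.trans (sb E60421 D182106))).symm
theorem F306416 : act 0 n72707 = n88060 := (sb E60422 (iv1 F286650))
theorem F306417 : act 2 n72707 = n88178 := (sb E60422 (iv2 F286498))
theorem E63275 : n147821 = n88173 := (((iv7 F231582)).symm.trans (sb E60422 (iv7 F286493)))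
theorem E63286 : n182122 = n152898 := (((D152898).symm.trans (sb E60425 D182122))).symm
theorem E63287 : n153290 = n152899 := (((D152899).symm.trans (sb E60426 (tr D182123 E62188)))).symm
theorem E63288 : n152900 = n88007 := ((D152900).symm.trans (sb E60426 F286517))
theorem E63289 : n182125 = n73075 := (((F190092).symm.trans (sb E60426 D182125))).symm
theorem F306418 : act 1 n86972 = n120428 := (sb E60427 F268150)
theorem E63290 : n182132 = n101333 := (((iv2 F283519)).symm.trans (sb E60427 (tr F268147 E62178)))
theorem E63291 : n182133 = n81810 := ((D182133).symm.trans (sb E60427 F268148))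
theorem E63292 : n182134 = n153675 := ((D182134).symm.trans (sb E60427 F268185))
theorem E63293 : n182127 = n154142 := ((F283518).symm.trans (sb E60427 F268149))
theorem F306419 : act 0 n78244 = n48186 := (sb E60431 F232798)
theorem F306420 : act 4 n78244 = n47042 := (sb E60431 (iv4 D100940))
theorem F306421 : act 1 n73184 = n88178 := (sb E60432 F286518)
theorem F306422 : act 2 n73184 = n88060 := (sb E60432 F156899)
theorem E63294 : n154495 = n47045 := (((iv3 F242540)).symm.trans (sb E60432 F155076))
theorem F306423 : act 6 n73184 = n47042 := (sb E60432 (iv6 D100942))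
theorem F306424 : act 1 n33674 = n47136 := (sb E60433 (iv0 D101212))
theorem F306425 : act 1 n100957 = n73102 := (sb E60434 F198085)
theorem F306426 : act 2 n100957 = n73105 := (sb E60434 F198077)
theorem F306427 : act 5 n100957 = n57649 := (sb E60434 F198078)
theorem F306428 : act 7 n100957 = n57648 := (sb E60434 (iv7 D123663))
theorem F306429 : act 0 n101215 = n73105 := (sb E60436 (iv1 F198079))
theorem F306430 : act 1 n101215 = n57648 := (sb E60436 (iv0 D123661))
theorem F306431 : act 2 n101215 = n73102 := (sb E60436 F198082)
theorem F306432 : act 4 n78242 = n48190 := (sb E60437 F159608)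
theorem E63296 : n156388 = n78242 := ((D156388).symm.trans (iv6 (sb E60437 (tr F159609 E61800))))
theorem F306433 : act 7 n78242 = n48186 := (sb E60437 (iv7 D104124))
theorem F306434 : act 0 n95892 = n70373 := (sb E60440 F205231)
theorem F306435 : act 1 n95892 = n70378 := (sb E60440 F205238)
theorem F306436 : act 2 n95892 = n70377 := (sb E60440 (iv2 F233806))
theorem F306437 : act 3 n95892 = n69855 := (sb E60440 F205229)
theorem F306438 : act 6 n95892 = n70521 := (sb E60440 F205230)
theorem F306439 : act 7 n95892 = n70376 := (sb E60440 F233811)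
theorem F306440 : act 0 n73019 = n88059 := (sb E60441 (iv1 F286648))
theorem F306441 : act 1 n73019 = n88054 := (sb E60441 (iv0 D184662))
theorem F306442 : act 0 n73000 = n88054 := (sb E60442 (iv1 D184663))
theorem F306443 : act 1 n73000 = n88059 := (sb E60442 F286657)
theorem F306444 : act 4 n149947 = n88060 := (sb E60444 F282350)
theorem F306445 : act 1 n154442 = n88060 := (sb E60445 (iv0 F286649))
theorem F306446 : act 7 n154442 = n88178 := (sb E60445 (iv7 F286499))
theorem E63299 : n184888 = n153857 := (((D153857).symm.trans (sb E60446 D184888))).symm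
theorem F306447 : act 5 n72776 = n88060 := (sb E60446 F135115)
theorem E63301 : n184890 = n153859 := (((D153859).symm.trans (sb E60446 D184890))).symm
theorem E63302 : n183807 = n33696 := (((F233825).symm.trans (sb E60446 (iv7 F285587)))).symm
theorem F306448 : act 0 n73189 = n88178 := (sb E60447 (iv1 F286667))
theorem F306449 : act 7 n73189 = n88060 := (sb E60447 (iv7 D184674))
theorem F306450 : act 3 n99447 = n57648 := (sb E60448 F198055)
theorem E63303 : n57642 = n47324 := ((((iv5 F153183)).symm.trans (sb E60448 (iv5 D123652)))).symm
theorem F306451 : act 0 n154293 = n87902 := (sb E60453 (iv1 D184299))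
theorem F306452 : act 6 n33675 = n47154 := (sb E60454 (iv6 D101267))
theorem F306453 : act 0 n154132 = n184296 := (sb E60456 (iv1 F286684))
theorem F306454 : act 7 n154132 = n88063 := (sb E60456 (iv7 D184683))
theorem F306456 : act 7 n154286 = n88073 := (sb E60457 F286688)
theorem F306457 : act 3 n56754 = n88178 := (sb E60459 F287380)
theorem E63304 : n122452 = n88176 := ((D122452).symm.trans (sb E60459 (iv5 D184968)))
theorem F306458 : act 4 n54738 = n88178 := (sb E60460 (iv4 D184973))
theorem F306459 : act 0 n123379 = n150029 := (sb E60461 F242794)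
theorem F306460 : act 1 n123379 = n179660 := (sb E60461 F279817)
theorem F306461 : act 3 n123379 = n85068 := (sb E60461 F242791)
theorem E63305 : n147543 = n69682 := (((F301922).symm.trans (sb E60461 F242793))).symm
theorem F306463 : act 0 n123382 = n148989 := (sb E60465 (iv1 F250578))
theorem F306464 : act 1 n123382 = n76085 := (sb E60465 (iv0 D159144))
theorem F306465 : act 2 n123382 = n179860 := (sb E60465 (iv2 F280122))
theorem F306466 : act 7 n123382 = n179857 := (sb E60465 (iv7 F280109))
theorem E63306 : n183074 = n69982 := ((F306381).symm.trans (sb E60469 F234377))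
theorem F306467 : act 2 n123385 = n69979 := (sb E60470 F234378)
theorem F306468 : act 7 n123385 = n69984 := (sb E60470 F234379)
theorem E63307 : n182999 = n177025 := (((D177025).symm.trans (sb E60471 (iv6 F284589)))).symm
theorem F306469 : act 2 n87361 = n57114 := (sb E60472 F196827)
theorem F306470 : act 3 n87361 = n118647 := (sb E60472 F196828)
theorem F306471 : act 6 n87361 = n57109 := (sb E60472 (iv6 D122841))
theorem F306473 : act 2 n122850 = n95389 := (sb E60477 (iv2 F293416))
theorem F306474 : act 7 n122850 = n182998 := (sb E60477 (iv7 F290072))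
theorem F306475 : act 0 n104240 = n57114 := (sb E60478 (iv1 D122851))
theorem F306476 : act 0 n122853 = n182998 := (sb E60479 (iv1 F284587))
theorem F306477 : act 1 n122853 = n95389 := (sb E60479 (iv0 F293414))
theorem F306478 : act 2 n122853 = n183000 := (sb E60479 (iv2 F284590))
theorem F306479 : act 5 n122853 = n70666 := (sb E60479 F236315)
theorem F306480 : act 2 n47565 = n57119 := (sb E60480 (iv2 D122865))
theorem F306481 : act 0 n122866 = n89563 := (sb E60481 (iv1 F290078))
theorem F306482 : act 1 n122866 = n89023 := (sb E60481 (iv0 F290079))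
theorem F306483 : act 5 n122866 = n99837 := (sb E60481 F290074)
theorem F306484 : act 2 n122867 = n102552 := (sb E60482 (iv2 F290080))
theorem F306485 : act 5 n47564 = n57119 := (sb E60483 (iv5 D122868))
theorem F306486 : act 2 n122869 = n102553 := (sb E60484 (iv2 F290081))
theorem F306487 : act 7 n102440 = n57119 := (sb E60485 (iv7 D122870))
theorem F306488 : act 6 n124140 = n69982 := (sb E60490 (iv6 D149130))
theorem F306489 : act 0 n124141 = n179660 := (sb E60491 (iv1 F280121))
theorem F306490 : act 1 n124141 = n150029 := (sb E60491 F236032)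
theorem F306491 : act 2 n124141 = n179856 := (sb E60491 F280099)
theorem F306492 : act 6 n124141 = n58286 := (sb E60491 (iv6 D124706))
theorem F306493 : act 0 n124142 = n76085 := (sb E60492 F234511)
theorem F306494 : act 1 n124142 = n148989 := (sb E60492 (iv0 F234512))
theorem F306495 : act 2 n124142 = n179857 := (sb E60492 (iv2 F280108))
theorem F306496 : act 7 n124142 = n179860 := (sb E60492 (iv7 F280123))
theorem F306497 : act 0 n124145 = n85860 := (sb E60493 (iv1 F279960))
theorem F306498 : act 1 n124145 = n85859 := (sb E60493 F279961)
theorem F306499 : act 4 n124145 = n85955 := (sb E60493 F279958)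
theorem F306500 : act 7 n124145 = n85854 := (sb E60493 (iv7 D179735))
theorem F306501 : act 1 n118090 = n57857 := (sb E60494 (iv0 D124150))
theorem F306502 : act 1 n124151 = n85854 := (sb E60495 (iv0 F278977))
theorem F306503 : act 2 n124151 = n85859 := (sb E60495 F278978)
theorem F306504 : act 4 n124151 = n85418 := (sb E60495 (iv4 D179041))
theorem F306505 : act 7 n124151 = n85860 := (sb E60495 F278975)
theorem F306506 : act 0 n124026 = n157409 := (sb E60496 F247893)
theorem F306507 : act 2 n124026 = n133672 := (sb E60496 (iv2 F215094))
theorem F306508 : act 4 n124026 = n133758 := (sb E60496 (iv4 F215321))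
theorem F306509 : act 6 n124026 = n61530 := (sb E60496 (iv6 D131159))
theorem F306510 : act 0 n122834 = n118074 := (sb E60499 F236340)
theorem F306511 : act 1 n122834 = n118099 := (sb E60499 F236341)
theorem F306512 : act 2 n122834 = n118097 := (sb E60499 F236339)
theorem F306513 : act 7 n122834 = n118096 := (sb E60499 F236346)
theorem E63308 : n179740 = n72438 := (((D72438).symm.trans (sb E60501 (iv5 F279967)))).symm
theorem F306514 : act 5 n122837 = n179742 := (sb E60503 (iv5 F279968))
theorem F306515 : act 5 n85856 = n57108 := (sb E60504 (iv5 D122839))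
theorem F306516 : act 0 n33532 = n40594 := (sb E60507 (iv1 D87341))
theorem F306517 : act 1 n33533 = n40594 := (sb E60508 (iv0 D87340))
theorem E63320 : n182944 = n72667 := (((D72667).symm.trans (sb E60509 (iv1 F285970)))).symm
theorem E63321 : n182943 = n72668 := (((D72668).symm.trans (sb E60509 F285972))).symm
theorem F306518 : act 2 n122866 = n73493 := (sb E60510 F243479)
theorem F306520 : act 7 n122866 = n73498 := (sb E60510 F243480)
theorem E63322 : n102642 = n73413 := ((D102642).symm.trans (sb E60511 (iv4 D154807)))
theorem F306521 : act 3 n72951 = n71547 := (sb E60512 F238691)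
theorem F306522 : act 7 n72951 = n71542 := (sb E60512 (iv7 D151773))
theorem F306523 : act 0 n89091 = n89335 := (sb E60513 (iv1 F289440))
theorem E63323 : n98954 = n83759 := (((D83759).symm.trans (sb E60514 F274915))).symm
theorem F306524 : act 1 n89084 = n89335 := (sb E60515 F289441)
theorem E63324 : n83020 = n57346 := (((D57346).symm.trans (sb E60516 (iv6 D173555)))).symm
theorem E63325 : n184191 = n98333 := (((D98333).symm.trans (sb E60519 (iv3 F286118)))).symm
theorem F306525 : act 6 n46007 = n44590 := (sb E60519 (iv6 D95449))
theorem F306526 : act 3 n174479 = n84908 := (sb E60520 (iv3 D178437))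
theorem F306527 : act 4 n100092 = n75325 := (sb E60521 (iv4 D158160))
theorem F306528 : act 0 n57345 = n46073 := (sb E60522 (iv1 F274910))
theorem F306529 : act 5 n57345 = n100078 := (sb E60522 F154542)
theorem E63327 : n123200 = n38615 := ((D123200).symm.trans (sb E60522 (iv6 D83830)))
theorem F306530 : act 1 n35423 = n46073 := (sb E60523 (iv0 D98545))
theorem E63328 : n175628 = n77605 := (((D77605).symm.trans (sb E60523 (iv6 F274952)))).symm
theorem F306531 : act 7 n57344 = n46073 := (sb E60524 (iv7 D98548))
theorem E63329 : n101824 = n101466 := (((D101466).symm.trans (sb E60525 F271130))).symm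
theorem F306532 : act 2 n98532 = n123199 := (sb E60526 F255562)
theorem F306533 : act 3 n98532 = n172013 := (sb E60526 (iv3 F270068))
theorem F306534 : act 6 n98532 = n77602 := (sb E60526 (iv6 D161569))
theorem F306535 : act 2 n57343 = n46073 := (sb E60527 F268261)
theorem E63330 : n123197 = n41589 := ((D123197).symm.trans (sb E60527 (iv6 D89052)))
theorem F306536 : act 3 n72845 = n46073 := (sb E60528 F151930)
theorem E63331 : n153932 = n46070 := ((D153932).symm.trans (sb E60528 (iv6 D98539)))
theorem F306537 : act 0 n98542 = n77459 := (sb E60529 F187448)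
theorem F306538 : act 3 n98542 = n54819 := (sb E60529 (iv3 D119127))
theorem F306539 : act 5 n98542 = n54915 := (sb E60529 F187446)
theorem F306540 : act 7 n98542 = n77662 := (sb E60529 F187447)
theorem F306541 : act 5 n154960 = n82683 := (sb E60531 (iv5 D172710))
theorem F306542 : act 2 n41720 = n44677 := (sb E60532 F109561)
theorem E63332 : n106282 = n89323 := (((D89323).symm.trans (sb E60532 (iv3 F163331)))).symm
theorem F306543 : act 4 n41720 = n44674 := (sb E60532 F109562)
theorem E63333 : n154170 = n89326 := (((D89326).symm.trans (sb E60532 D154170))).symm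
theorem E63334 : n89328 = n76675 := ((D89328).symm.trans (sb E60533 (iv3 F115020)))
theorem F306544 : act 4 n41721 = n21640 := (sb E60533 (iv4 D45365))
theorem E63335 : n97046 = n89330 := (((D89330).symm.trans (sb E60533 D97046))).symm
theorem F306545 : act 7 n41721 = n44677 := (sb E60533 F71520)
theorem F306546 : act 2 n41722 = n78991 := (sb E60534 (iv2 F120169))
theorem E63336 : n89333 = n44717 := ((D89333).symm.trans (sb E60534 F109607))
theorem E63337 : n89334 = n48004 := ((D89334).symm.trans (sb E60534 F109608))
theorem E63344 : n58575 = n28527 := (((D28527).symm.trans (sb E60540 (iv1 F92540)))).symm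
theorem E63352 : n127988 = n89254 := (((D89254).symm.trans (sb E60544 (iv3 F205978)))).symm
theorem E63353 : n127994 = n89255 := (((D89255).symm.trans (sb E60544 D127994))).symm
theorem F306547 : act 6 n41700 = n28581 := (sb E60544 (iv6 D60136))
theorem E63365 : n123701 = n89257 := (((D89257).symm.trans (sb E60547 (iv6 F198168)))).symm
theorem E63367 : n88116 = n33405 := ((((iv1 F52657)).symm.trans (sb E60554 (iv1 D184808)))).symm
theorem E63368 : n153860 = n101909 := ((D153860).symm.trans (sb E60557 (iv3 F285585)))
theorem E63370 : n183861 = n153862 := (((D153862).symm.trans (sb E60557 F286656))).symm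
theorem F306548 : act 4 n87549 = n117968 := (sb E60558 F199549)
theorem E63371 : n144833 = n61580 := ((((iv1 F97901)).symm.trans (sb E60559 (iv1 F227746)))).symm
theorem E63373 : n85742 = n61577 := ((((iv2 F162911)).symm.trans (sb E60559 (iv2 F200328)))).symm
theorem E63374 : n127327 = n39640 := (((iv4 F204558)).symm.trans (sb E60559 (iv4 D85813)))
theorem E63376 : n154892 = n54325 := ((((iv1 F110492)).symm.trans (sb E60560 (iv1 F277571)))).symm
theorem E63377 : n88112 = n54325 := ((D88112).symm.trans (sb E61464 (tr D154892 E63376)))
theorem E63378 : n88113 = n33780 := ((D88113).symm.trans (sb E61464 (iv3 D73463)))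
theorem E63380 : n88117 = n73151 := ((D88117).symm.trans (sb E61464 (tr (iv7 F234508) E60663)))
theorem F306549 : act 3 n106033 = n76738 := (sb E60562 F243575)
theorem E63382 : n27873 = n16573 := (((F54048).symm.trans (sb E60570 (iv1 F298451)))).symm
theorem E63383 : n39539 = n29717 := (((F54049).symm.trans (sb E60570 (iv0 F298450)))).symm
theorem F306550 : act 5 n23870 = n17125 := (sb E60570 (iv5 D35282))
theorem F306553 : act 7 n70489 = n33085 := (sb E60572 (iv7 D71524))
theorem E63386 : n85607 = n28470 := ((((iv6 F54239)).symm.trans (sb E60578 D85607))).symm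
theorem E63387 : n158912 = n13745 := ((((iv4 F22997)).symm.trans (sb E60581 (iv4 F250212)))).symm
theorem E63389 : n158182 = n13796 := (((D13796).symm.trans (sb E60582 F249137))).symm
theorem E63395 : n32907 = n7675 := ((((iv5 D16520)).symm.trans (sb E60583 F56344))).symm
theorem E63396 : n34119 = n17284 := ((D34119).symm.trans (sb E60583 (iv6 D35666)))
theorem E63397 : n24279 = n16830 := (((iv3 F38053)).symm.trans (sb E60584 (iv3 D34747)))
theorem E63398 : n54495 = n5310 := ((((iv5 D11427)).symm.trans (sb E60584 (iv5 F109874)))).symm
theorem E63399 : n70949 = n24281 := (((D24281).symm.trans (sb E60584 F109871))).symm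
theorem E63400 : n70722 = n50001 := (((D50001).symm.trans (sb E60585 (iv1 F192304)))).symm
theorem E63401 : n70613 = n50002 := (((D50002).symm.trans (sb E60585 F192303))).symm
theorem E63402 : n55585 = n50000 := ((((iv2 F79084)).symm.trans (sb E60585 (iv2 D120648)))).symm
theorem E63403 : n69941 = n11492 := ((((iv5 D24378)).symm.trans (sb E60585 F192301))).symm
theorem E63404 : n149026 = n50004 := (((D50004).symm.trans (sb E60585 (iv6 F234308)))).symm
theorem E63405 : n70627 = n24317 := ((((iv7 F38220)).symm.trans (sb E60585 F192302))).symm
theorem E63406 : n54497 = n7683 := ((((iv1 F11936)).symm.trans (sb E60586 (iv1 F86078)))).symm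
theorem E63407 : n15855 = n7686 := ((((iv0 F11943)).symm.trans (sb E60586 (iv0 D32925)))).symm
theorem E63408 : n71110 = n2194 := ((((iv4 D5350)).symm.trans (sb E60586 D71110))).symm
theorem E63409 : n70182 = n5102 := (((F8136).symm.trans (sb E60586 F106626))).symm
theorem E63410 : n54496 = n11494 := (((D11494).symm.trans (sb E60586 (iv7 F109877)))).symm
theorem E63411 : n70853 = n50006 := (((D50006).symm.trans (sb E60587 (iv1 F235048)))).symm
theorem E63412 : n70950 = n50007 := (((D50007).symm.trans (sb E60587 (iv0 F235047)))).symm
theorem E63413 : n70183 = n23829 := (((F38225).symm.trans (sb E60587 (iv5 D149456)))).symm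
theorem F306554 : act 5 n145811 = n96752 := (sb E60589 F239611)
theorem F306555 : act 4 n15634 = n32258 := (sb E60592 (iv4 D69455))
theorem E63416 : n131644 = n105987 := (((D105987).symm.trans (sb E60593 F248172))).symm
theorem E63419 : n50052 = n26321 := (((D26321).symm.trans (sb E60595 (iv6 D108398)))).symm
theorem E63420 : n133768 = n26322 := (((D26322).symm.trans (sb E60596 F248232))).symm
theorem E63421 : n74613 = n12493 := ((((iv1 F20819)).symm.trans (sb E60597 (iv1 D156917)))).symm
theorem E63423 : n79853 = n32312 := ((((iv1 F85668)).symm.trans (sb E60598 F122597))).symm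
theorem E63425 : n116737 = n32063 := (((iv4 F182151)).symm.trans (sb E60598 F105119))
theorem E63426 : n147043 = n32310 := (((F105741).symm.trans (sb E60598 (iv7 F230511)))).symm
theorem F306556 : act 0 n33721 = n55637 := (sb E60599 F88020)
theorem F306557 : act 1 n33721 = n55638 := (sb E60599 F88024)
theorem F306558 : act 5 n33721 = n17919 := (sb E60599 (iv5 D37299))
theorem E63428 : n81618 = n33435 := (((F52977).symm.trans (sb E60600 D81618))).symm
theorem F306559 : act 6 n33725 = n17919 := (sb E60600 (iv6 D37300))
theorem E63432 : n81576 = n72405 := ((D81576).symm.trans (sb E60601 F240805))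
theorem E63433 : n114719 = n68744 := ((D114719).symm.trans (sb E60602 (iv6 D146684)))
theorem F306560 : act 6 n33429 = n45190 := (sb E60603 (iv6 D96716))
theorem F306561 : act 0 n32141 = n68947 := (sb E60604 F105113)
theorem F306562 : act 5 n32141 = n17897 := (sb E60604 (iv5 D37229))
theorem F306563 : act 1 n32171 = n68947 := (sb E60605 F148952)
theorem E63436 : n69148 = n54799 := (((iv3 F105444)).symm.trans (sb E60605 F148949))
theorem F306564 : act 5 n32171 = n45138 := (sb E60605 (iv5 D96655))
theorem E63437 : n95913 = n69267 := (((F230017).symm.trans (sb E60606 F230515))).symm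
theorem E63438 : n157466 = n81563 := (((F185137).symm.trans (sb E60607 F248105))).symm
theorem F306565 : act 4 n96715 = n133946 := (sb E60607 F231368)
theorem F306566 : act 5 n84373 = n61735 := (sb E60608 F210819)
theorem F306567 : act 7 n84373 = n61734 := (sb E60608 (iv7 D131570))
theorem E63441 : n175231 = n47256 := (((F128409).symm.trans (sb E60609 (iv2 F274267)))).symm
theorem E63442 : n175237 = n38378 := ((((iv3 D83311)).symm.trans (sb E60609 (iv3 F274269)))).symm
theorem E63443 : n175243 = n57449 := (((F128410).symm.trans (sb E60609 (iv4 F274272)))).symm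
theorem E63444 : n174291 = n38578 := ((D174291).symm.trans (sb E60609 (iv6 D83690)))
theorem F306568 : act 6 n62466 = n83550 := (sb E60610 (iv6 D174922))
theorem F306569 : act 2 n82640 = n61794 := (sb E60611 (iv2 D131700))
theorem F306570 : act 7 n82640 = n61795 := (sb E60611 (iv7 F211061))
theorem F306571 : act 3 n75248 = n61794 := (sb E60612 (iv3 D131701))
theorem F306572 : act 4 n38019 = n61794 := (sb E60613 (iv4 D131702))
theorem F306573 : act 5 n82879 = n61794 := (sb E60614 (iv5 D131703))
theorem F306574 : act 2 n75317 = n61795 := (sb E60615 F211062)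
theorem F306575 : act 7 n75317 = n61794 := (sb E60615 (iv7 D131705))
theorem F306576 : act 3 n96740 = n61795 := (sb E60616 (iv3 D131706))
theorem F306577 : act 4 n38022 = n61795 := (sb E60617 (iv4 D131707))
theorem F306578 : act 5 n82880 = n61795 := (sb E60618 (iv5 D131708))
theorem F306579 : act 2 n131709 = n158137 := (sb E60619 F271028)
theorem F306580 : act 4 n131709 = n82718 := (sb E60619 F271029)
theorem F306581 : act 3 n82637 = n61734 := (sb E60622 F210792)
theorem F306582 : act 6 n29261 = n37971 := (sb E60623 (iv6 D82638))
theorem F306583 : act 6 n62451 = n46186 := (sb E60624 (iv6 D98764))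
theorem E63450 : n167552 = n133156 := ((F296785).symm.trans (sb E60625 (iv1 F213913)))
theorem F306584 : act 1 n98769 = n61218 := (sb E60625 (iv0 D130485))
theorem F306585 : act 2 n98769 = n133154 := (sb E60625 F213902)
theorem F306586 : act 5 n98769 = n132818 := (sb E60625 F213315)
theorem E63451 : n167626 = n133109 := ((F296788).symm.trans (sb E60625 (iv7 F213768)))
theorem F306587 : act 2 n98770 = n130069 := (sb E60626 (iv2 F208537))
theorem F306588 : act 6 n98770 = n60741 := (sb E60626 F207430)
theorem F306589 : act 3 n70534 = n61197 := (sb E60627 (iv3 D130426))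
theorem E63452 : n74963 = n32722 := (((F106989).symm.trans (sb E60627 F208925))).symm
theorem E63453 : n149964 = n133107 := ((D149964).symm.trans (sb E60627 (iv7 F213758)))
theorem E63454 : n167627 = n61218 := ((((iv2 F209026)).symm.trans (sb E60629 D167627))).symm
theorem E63455 : n133153 = n36665 := (((iv3 F213898)).symm.trans (sb E60629 (iv3 D80446)))
theorem E63457 : n133155 = n38680 := ((D133155).symm.trans (sb E60629 (iv5 F302296)))
theorem E63459 : n130066 = n33403 := (((iv3 F208532)).symm.trans (sb E60630 (iv3 D72359)))
theorem F306591 : act 5 n130476 = n83565 := (sb E60632 F255595)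
theorem F306592 : act 6 n130476 = n77614 := (sb E60632 (iv6 D161594))
theorem F306593 : act 5 n130184 = n77615 := (sb E60633 (iv5 D161597))
theorem F306594 : act 6 n62459 = n77615 := (sb E60634 (iv6 D161598))
theorem F306596 : act 1 n132897 = n77616 := (sb E60635 (iv0 D161599))
theorem F306599 : act 0 n70939 = n48971 := (sb E60637 (iv1 D105920))
theorem F306600 : act 1 n70939 = n70995 := (sb E60637 F191317)
theorem E63460 : n150519 = n148920 := ((D150519).symm.trans (sb E60637 (iv2 F233993)))
theorem F306601 : act 4 n70939 = n54698 := (sb E60637 F191318)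
theorem F306602 : act 2 n77843 = n83782 := (sb E60638 F249549)
theorem E63461 : n162040 = n83579 := ((D162040).symm.trans (sb E60638 F249551))
theorem F306603 : act 6 n77843 = n75535 := (sb E60638 (iv6 D158385))
theorem E63471 : n101657 = n22731 := (((iv3 F156566)).symm.trans (sb E60642 (tr (iv3 F255336) E62068)))
theorem E63472 : n162024 = n98500 := ((((iv4 F156569)).symm.trans (sb E60642 (iv4 F256035)))).symm
theorem F306604 : act 0 n77491 = n83782 := (sb E60643 (iv1 D175451))
theorem E63474 : n98530 = n57375 := (((F121528).symm.trans (sb E60643 F274670))).symm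
theorem E63475 : n174980 = n161418 := (((D161418).symm.trans (sb E60643 (iv5 F274700)))).symm
theorem F306605 : act 6 n158386 = n83494 := (sb E60644 F273579)
theorem F306606 : act 2 n71786 = n83784 := (sb E60646 F274244)
theorem F306607 : act 3 n71786 = n83676 := (sb E60646 (iv3 D175199))
theorem F306608 : act 4 n69849 = n83784 := (sb E60647 (iv4 D175454))
theorem E63479 : n154192 = n101523 := (((D101523).symm.trans (sb E60648 (iv6 F242309)))).symm
theorem F306609 : act 6 n173347 = n83786 := (sb E60649 (iv6 D175458))
theorem E63480 : n101221 = n27667 := ((D101221).symm.trans (sb E60652 (iv3 D58001)))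
theorem E63481 : n101222 = n33724 := ((D101222).symm.trans (sb E60652 (iv4 F304057)))
theorem E63482 : n101321 = n33726 := ((D101321).symm.trans (sb E60654 F110011))
theorem E63483 : n101310 = n33724 := (((iv2 F156093)).symm.trans (sb E60654 F190705))
theorem E63484 : n119306 = n101322 := (((D101322).symm.trans (sb E60654 F190706))).symm
theorem E63485 : n153295 = n101323 := (((D101323).symm.trans (sb E60654 F240853))).symm
theorem E63486 : n101324 = n81818 := ((D101324).symm.trans (sb E60654 F190707))
theorem E63487 : n101325 = n33647 := ((D101325).symm.trans (sb E60654 F190708))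
theorem E63488 : n101312 = n81809 := (((iv2 F156097)).symm.trans (sb E60655 (iv2 D170669)))
theorem E63489 : n123660 = n101334 := (((D101334).symm.trans (sb E60655 F268143))).symm
theorem E63492 : n101319 = n101226 := (((D101226).symm.trans (sb E60656 (iv3 F156100)))).symm
theorem E63493 : n101330 = n101228 := (((D101228).symm.trans (sb E60656 (iv5 F156109)))).symm
theorem E63494 : n101335 = n33645 := (((E61182).symm.trans ((D101229).symm.trans (sb E60656 D101335)))).symm
theorem E63495 : n101220 = n22694 := ((F155940).symm.trans (sb E60656 (iv7 D47174)))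
theorem F306610 : act 5 n81809 = n86972 := (sb E60657 F155941)
theorem F306611 : act 6 n81809 = n47140 := (sb E60657 (iv6 D101224))
theorem F306612 : act 0 n47182 = n72412 := (sb E60658 F109649)
theorem F306613 : act 1 n47182 = n75031 := (sb E60658 F112556)
theorem F306614 : act 2 n47182 = n75029 := (sb E60658 F162992)
theorem E63497 : n154453 = n101365 := ((((iv4 F156127)).symm.trans (sb E60658 D154453))).symm
theorem E63498 : n154450 = n101366 := (((D101366).symm.trans (sb E60658 (iv6 F242501)))).symm
theorem F306615 : act 0 n47179 = n75029 := (sb E60659 (iv1 F240847))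
theorem F306616 : act 2 n47179 = n75031 := (sb E60659 F240845)
theorem F306617 : act 5 n47179 = n72413 := (sb E60659 F240846)
theorem F306618 : act 7 n47179 = n72412 := (sb E60659 (iv7 D153293))
theorem E63499 : n95439 = n69982 := ((F306379).symm.trans (sb E60660 (iv0 D149125)))
theorem E63500 : n181474 = n69982 := ((F305996).symm.trans (sb E60663 (iv4 D149128)))
theorem F306619 : act 2 n149129 = n73258 := (sb E60664 F241792)
theorem F306620 : act 4 n149129 = n154497 := (sb E60664 (iv4 F242542))
theorem F306621 : act 7 n149129 = n72853 := (sb E60664 F241793)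
theorem F306622 : act 6 n57370 = n82039 := (sb E60669 (iv6 D171196))
theorem E63501 : n124746 = n87794 := (((D87794).symm.trans (sb E60676 (iv1 F240963)))).symm
theorem E63502 : n124736 = n87795 := (((D87795).symm.trans (sb E60676 (iv0 F240962)))).symm
theorem E63503 : n124783 = n87797 := (((D87797).symm.trans (sb E60676 (iv7 F240965)))).symm
theorem F306623 : act 2 n87342 = n72670 := (sb E60680 F240083)
theorem F306624 : act 0 n153418 = n87879 := (sb E60690 F286213)
theorem F306625 : act 1 n153418 = n98345 := (sb E60690 F286214)
theorem E63504 : n183099 = n72974 := ((((iv5 F240991)).symm.trans (sb E60693 (iv5 F285971)))).symm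
theorem F306626 : act 4 n153422 = n182137 := (sb E60694 (iv4 F286216))
theorem F306627 : act 5 n153422 = n181423 := (sb E60694 (iv5 F286207))
theorem F306628 : act 2 n153679 = n182945 := (sb E60695 F285965)
theorem F306629 : act 6 n153679 = n181977 := (sb E60695 F285966)
theorem F306630 : act 6 n86916 = n72670 := (sb E60696 (iv6 D153680))
theorem F306631 : act 5 n44663 = n72450 := (sb E60700 (iv5 D153343))
theorem E63507 : n153900 = n44579 := ((((iv2 F70110)).symm.trans (sb E60701 (iv2 F241866)))).symm
theorem E63508 : n154661 = n87747 := (((D87747).symm.trans (sb E60701 (iv4 F242810)))).symm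
theorem F306632 : act 6 n40889 = n33735 := (sb E60701 (iv6 D73336))
theorem F306633 : act 0 n72980 = n87901 := (sb E60702 (iv1 F159622))
theorem F306634 : act 2 n72980 = n87903 := (sb E60702 F159619)
theorem F306635 : act 5 n72980 = n48190 := (sb E60702 F159620)
theorem F306636 : act 7 n72980 = n48189 := (sb E60702 (iv7 D104138))
theorem F306637 : act 0 n58270 = n87903 := (sb E60703 (iv1 F159621))
theorem F306638 : act 1 n58270 = n48189 := (sb E60703 (iv0 D104135))
theorem E63510 : n184679 = n124695 := (((D124695).symm.trans (sb E60703 (iv4 F286678)))).symm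
theorem F306639 : act 7 n58270 = n87901 := (sb E60703 F285192)
theorem F306640 : act 1 n72982 = n101214 := (sb E60704 F286680)
theorem E63511 : n184680 = n154136 := (((D154136).symm.trans (sb E60704 F286676))).symm
theorem F306641 : act 0 n72983 = n48189 := (sb E60707 (iv1 D104136))
theorem F306642 : act 1 n72983 = n87903 := (sb E60707 F159615)
theorem F306643 : act 2 n72983 = n87901 := (sb E60707 F285190)
theorem F306644 : act 1 n71861 = n75323 := (sb E60708 (iv0 D158149))
theorem F306645 : act 0 n71857 = n75323 := (sb E60709 (iv1 D158150))
theorem E63512 : n70733 = n35687 := ((((iv0 F121186)).symm.trans (sb E60710 (iv0 F206296)))).symm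
theorem E63513 : n60246 = n57328 := (((D57328).symm.trans (sb E60710 (iv5 D128161)))).symm
theorem F306646 : act 5 n28629 = n48186 := (sb E60711 (iv5 D104123))
theorem E63514 : n65068 = n27898 := (((iv3 F100860)).symm.trans (iv3 (sb E60712 (tr (iv3 D68108) E61743))))
theorem E63516 : n145283 = n58671 := (((D58671).symm.trans (sb E60712 D145283))).symm
theorem E63517 : n99880 = n65062 := (((D65062).symm.trans (sb E60713 (iv1 F233127)))).symm
theorem E63518 : n99885 = n65063 := (((D65063).symm.trans (sb E60713 (iv0 F233128)))).symm
theorem E63519 : n65060 = n40131 := (((iv2 F100856)).symm.trans (sb E60713 F75763))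
theorem F306647 : act 6 n30558 = n23344 := (sb E60713 (iv6 D48205))
theorem E63521 : n86773 = n30556 := (((D30556).symm.trans (sb E60715 (iv0 F201418)))).symm
theorem E63522 : n124792 = n30550 := ((((iv4 F48969)).symm.trans (sb E60715 F201417))).symm
theorem E63523 : n58671 = n30559 := (((D30559).symm.trans (sb E60715 (tr (iv6 F228289) E63516)))).symm
theorem E63524 : n71062 = n16519 := ((((iv7 F26118)).symm.trans (sb E60715 F201416))).symm
theorem E63527 : n108321 = n80410 := ((D108321).symm.trans (sb E60717 (iv4 F123583)))
theorem F306648 : act 6 n50025 = n35272 := (sb E60717 (iv6 D77269))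
theorem E63529 : n157449 = n8459 := (((F16264).symm.trans (sb E60719 (iv0 F248049)))).symm
theorem E63530 : n59912 = n10175 := (((F16262).symm.trans (sb E60719 (iv5 D127587)))).symm
theorem E63531 : n35274 = n33493 := ((D35274).symm.trans (sb E60721 F79170))
theorem E63532 : n35275 = n29110 := ((D35275).symm.trans (sb E60721 F79171))
theorem F306649 : act 4 n17122 = n24399 := (sb E60721 (iv4 D50026))
theorem E63534 : n62558 = n35276 := (((D35276).symm.trans (sb E60721 F97549))).symm
theorem E63535 : n120507 = n49829 := (((F79114).symm.trans (sb E60722 D120507))).symm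
theorem E63536 : n72322 = n26791 := (((iv4 F108777)).symm.trans (sb E60722 (iv4 D55482)))
theorem E63538 : n108299 = n80575 := ((D108299).symm.trans (sb E60722 (iv6 F123880)))
theorem E63539 : n89245 = n73088 := ((D89245).symm.trans (sb E60724 (iv6 D154276)))
theorem E63543 : n98342 = n72663 := (((D72663).symm.trans (sb E60728 (iv3 F272669)))).symm
theorem E63544 : n150537 = n88123 := ((D150537).symm.trans (sb E60730 F263950))
theorem F306650 : act 1 n70969 = n80463 := (sb E60736 (iv0 D167663))
theorem F306651 : act 0 n153692 = n80463 := (sb E60737 (iv1 D167664))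
theorem F306652 : act 5 n153692 = n101297 := (sb E60737 (iv5 F263952))
theorem E63545 : n182123 = n152899 := (E62188).trans E63287
theorem E63546 : n147921 = n37199 := (((D37199).symm.trans (sb E60741 (iv5 F231715)))).symm
theorem E63548 : n86528 = n74875 := ((D86528).symm.trans (sb E60742 (iv3 F112387)))
theorem E63550 : n86529 = n33751 := ((D86529).symm.trans (sb E60742 F96101))
theorem E63551 : n29148 = n27865 := (((F297736).symm.trans (sb E60742 (iv6 D61558)))).symm
theorem F306653 : act 2 n40101 = n85304 := (sb E60743 F200457)
theorem F306654 : act 6 n40101 = n58343 := (sb E60743 (iv6 D124790))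
theorem E63552 : n153615 = n86533 := (((D86533).symm.trans (sb E60743 (iv7 F241485)))).symm
theorem F306655 : act 3 n40102 = n74858 := (sb E60744 (iv3 F210181))
theorem F306656 : act 2 n58371 = n86521 := (sb E60745 (iv2 D181174))
theorem E63553 : n104175 = n40902 := ((((iv4 F304664)).symm.trans (sb E60745 F282199))).symm
theorem F306657 : act 5 n58320 = n86521 := (sb E60746 (iv5 D181176))
theorem E63555 : n152915 = n104179 := ((D152915).symm.trans (sb E60747 F282202))
theorem F306658 : act 6 n72157 = n86521 := (sb E60747 (iv6 D181177))
theorem E63556 : n104180 = n40903 := ((((iv4 F304666)).symm.trans (sb E60748 F282205))).symm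
theorem F306659 : act 7 n58376 = n86521 := (sb E60748 (iv7 D181178))
theorem F306660 : act 6 n124789 = n86532 := (sb E60753 F282209)
theorem F306661 : act 5 n124738 = n86524 := (sb E60754 F282211)
theorem F306662 : act 0 n57662 = n88006 := (sb E60756 (iv1 D184550))
theorem F306663 : act 1 n57662 = n88011 := (sb E60756 F286488)
theorem F306664 : act 0 n57689 = n88011 := (sb E60757 (iv1 F155826))
theorem F306665 : act 1 n57689 = n88006 := (sb E60757 (iv0 F135125))
theorem F306666 : act 5 n123755 = n182189 := (sb E60761 F286547)
theorem F306667 : act 3 n99503 = n57679 := (sb E60762 F198211)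
theorem F306668 : act 0 n123740 = n87796 := (sb E60763 (iv1 D184059))
theorem E63568 : n33497 = n10305 := (((D10305).symm.trans (sb E60767 F109031))).symm
theorem E63571 : n33495 = n16819 := ((D33495).symm.trans (sb E60769 (iv1 F297700)))
theorem E63572 : n45175 = n33496 := (((D33496).symm.trans (sb E60769 (iv0 F297702)))).symm
theorem F306669 : act 6 n16178 = n10303 := (sb E60769 (iv6 D21567))
theorem E63573 : n39565 = n33499 := (((D33499).symm.trans (sb E60769 (iv7 F297592)))).symm
theorem E63574 : n81541 = n14050 := (((F50969).symm.trans (sb E60770 (iv5 F297867)))).symm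
theorem E63575 : n80585 = n33494 := (((D33494).symm.trans (sb E60770 (iv6 F123910)))).symm
theorem F306670 : act 0 n48969 = n72374 := (sb E60773 (iv1 D153248))
theorem E63579 : n80477 = n33176 := ((D80477).symm.trans (sb E60775 (iv3 D71771)))
theorem E63580 : n131080 = n17684 := ((((iv4 D36692)).symm.trans (sb E60775 (iv4 F209914)))).symm
theorem E63582 : n127934 = n45195 := ((((iv6 F297852)).symm.trans (sb E60775 F209809))).symm
theorem E63585 : n153511 = n80485 := (((D80485).symm.trans (sb E60776 D153511))).symm
theorem E63586 : n119002 = n95241 := (((iv1 F242947)).symm.trans (sb E60777 (iv1 F297479)))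
theorem E63587 : n162925 = n151157 := ((((iv0 F237837)).symm.trans (sb E60777 (iv0 F257253)))).symm
theorem E63588 : n180842 = n153567 := ((((iv3 F241386)).symm.trans (sb E60777 (iv3 F281539)))).symm
theorem E63589 : n176986 = n153707 := ((((iv4 F241577)).symm.trans (sb E60777 (iv4 F297876)))).symm
theorem F306671 : act 5 n72724 = n39984 := (sb E60777 (iv5 D86376))
theorem E63591 : n177402 = n131073 := ((((iv3 F209793)).symm.trans (sb E60778 D177402))).symm
theorem E63592 : n131076 = n38987 := (((iv4 F209802)).symm.trans (sb E60778 (iv4 D84520)))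
theorem F306672 : act 7 n61490 = n39984 := (sb E60778 F296533)
theorem F306673 : act 2 n69171 = n37220 := (sb E60779 (iv2 D81518))
theorem F306674 : act 5 n69171 = n98137 := (sb E60779 (iv5 F151340))
theorem F306675 : act 7 n69171 = n86478 := (sb E60779 (iv7 F132636))
theorem F306676 : act 3 n34309 = n37222 := (sb E60780 F125388)
theorem F306677 : act 6 n34309 = n37220 := (sb E60780 (iv6 D81520))
theorem E63597 : n85634 = n61588 := ((((iv7 F96138)).symm.trans (sb E60780 (iv7 F299862)))).symm
theorem F306678 : act 5 n17896 = n16178 := (sb E60784 (iv5 D33498))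
theorem E63603 : n72575 = n18735 := ((((iv7 F296455)).symm.trans (sb E60784 D72575))).symm
theorem F306679 : act 3 n40054 = n62739 := (sb E60785 (iv3 F97870))
theorem E63604 : n72553 = n18933 := ((((iv4 D40054)).symm.trans (sb E60785 F185235))).symm
theorem E63605 : n81595 = n29720 := (((iv5 F298556)).symm.trans (sb E60785 F185236))
theorem E63606 : n37232 = n29147 := ((F297104).symm.trans (sb E60785 (iv6 D61556)))
theorem E63607 : n38663 = n29157 := ((F60944).symm.trans (sb E60786 F96119))
theorem E63608 : n61564 = n18934 := ((((iv4 D40057)).symm.trans (sb E60786 F185242))).symm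
theorem E63609 : n81594 = n60102 := (((iv5 F298553)).symm.trans (sb E60786 F185259))
theorem E63610 : n80578 = n62716 := (((iv6 F123885)).symm.trans (sb E60786 (iv6 F97834)))
theorem E63611 : n96728 = n29749 := ((((iv1 D62861)).symm.trans (sb E60787 (iv1 F299863)))).symm
theorem E63612 : n96731 = n60104 := (((F98085).symm.trans (sb E60787 (iv0 F299865)))).symm
theorem F306680 : act 5 n62861 = n37222 := (sb E60787 (iv5 D81522))
theorem E63614 : n85635 = n33401 := (((F98086).symm.trans (sb E60787 (iv7 F299869)))).symm
theorem F306681 : act 5 n77634 = n73316 := (sb E60789 (iv5 D154623))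
theorem E63615 : n124574 = n73325 := ((D124574).symm.trans (sb E60791 (iv5 D154646)))
theorem E63616 : n86707 = n69135 := ((D86707).symm.trans (sb E60795 (iv5 D147508)))
theorem E63619 : n124576 = n68745 := (((F108788).symm.trans (sb E60797 D124576))).symm
theorem E63620 : n124577 = n68740 := ((((iv0 F104935)).symm.trans (sb E60797 D124577))).symm
theorem F306682 : act 5 n33738 = n27715 := (sb E60797 (iv5 D58152))
theorem E63622 : n124516 = n68744 := ((((iv7 F110045)).symm.trans (sb E60797 (iv7 F199173)))).symm
theorem E63623 : n130035 = n18885 := ((((iv3 F30131)).symm.trans (sb E60799 F209588))).symm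
theorem E63626 : n50021 = n21210 := ((((iv6 F296859)).symm.trans (sb E60800 (iv6 D108314)))).symm
theorem E63627 : n96660 = n74881 := ((D96660).symm.trans (sb E60801 (iv1 F247915)))
theorem E63628 : n96661 = n74862 := ((D96661).symm.trans (sb E60801 (iv0 D157415)))
theorem E63629 : n147518 = n96662 := (((D96662).symm.trans (sb E60801 F247913))).symm
theorem E63630 : n147920 = n96668 := (((D96668).symm.trans (sb E60802 (iv1 F231711)))).symm
theorem E63631 : n120028 = n96669 := (((D96669).symm.trans (sb E60802 (iv0 F231697)))).symm
theorem E63632 : n154718 = n96670 := (((D96670).symm.trans (sb E60802 (iv4 F242894)))).symm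
theorem E63633 : n147432 = n96666 := ((((iv6 F148970)).symm.trans (sb E60802 (iv6 F231214)))).symm
theorem E63636 : n169817 = n74876 := (((iv2 F267251)).symm.trans (sb E60804 F209768))
theorem E63637 : n169827 = n147916 := (((iv5 F267258)).symm.trans (sb E60804 (iv5 F231704)))
theorem E63638 : n61482 = n39510 := (((F125277).symm.trans (sb E60804 (iv6 D131062)))).symm
theorem E63640 : n169877 = n147919 := ((((iv4 F231710)).symm.trans (sb E60806 (iv4 F267304)))).symm
theorem F306683 : act 5 n69302 = n37200 := (sb E60806 F125286)
theorem E63642 : n37233 = n14089 := (((iv1 F116754)).symm.trans (sb E60807 F54035))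
theorem E63643 : n39511 = n13854 := ((D39511).symm.trans (sb E60807 (iv5 D29105)))
theorem F306684 : act 2 n147882 = n86530 := (sb E60808 F301859)
theorem F306685 : act 4 n147882 = n180012 := (sb E60808 (iv4 F280393))
theorem E63645 : n153488 = n76023 := (((iv5 F241212)).symm.trans (sb E60808 (iv5 D159118)))
theorem F306686 : act 7 n147882 = n81794 := (sb E60808 F250514)
theorem F306687 : act 0 n159115 = n85304 := (sb E60809 (iv1 D178903))
theorem F306688 : act 2 n178902 = n86532 := (sb E60810 F281834)
theorem F306689 : act 7 n178902 = n166028 := (sb E60810 F281836)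
theorem E63646 : n166029 = n73366 := ((D166029).symm.trans (sb E60811 (iv6 D154708)))
theorem F306690 : act 7 n79712 = n85304 := (sb E60811 F242885)
theorem E63649 : n100421 = n100392 := ((((iv3 F238655)).symm.trans (sb E60812 F265229))).symm
theorem E63650 : n184030 = n104178 := (((D104178).symm.trans (sb E60812 D184030))).symm
theorem E63651 : n184031 = n104179 := (((D104179).symm.trans (sb E60812 D184031))).symm
theorem E63652 : n184037 = n104181 := (((D104181).symm.trans (sb E60813 (iv3 F285988)))).symm
theorem E63653 : n184042 = n104183 := (((D104183).symm.trans (sb E60813 (iv5 F285993)))).symm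
theorem E63656 : n122647 = n100430 := (((iv3 F196510)).symm.trans (sb E60814 F265228))
theorem E63657 : n184051 = n153294 := (((D153294).symm.trans (sb E60814 D184051))).symm
theorem F306691 : act 6 n72416 = n40903 := (sb E60814 (iv6 D87793))
theorem E63659 : n183093 = n58317 := (((D58317).symm.trans (sb E60815 F287337))).symm
theorem E63660 : n182027 = n58312 := (((D58312).symm.trans (sb E60816 (iv4 F283414)))).symm
theorem E63663 : n123725 = n42760 := ((D123725).symm.trans (sb E60825 (iv1 D91374)))
theorem E63664 : n179018 = n159941 := ((((iv5 F252234)).symm.trans (sb E60826 (iv5 F278936)))).symm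
theorem E63665 : n128011 = n34116 := ((((iv5 D74379)).symm.trans (iv5 (sb E60827 (tr F282387 E61800))))).symm
theorem E63666 : n181316 = n34116 := (E60827).trans E63665
theorem E63667 : n86574 = n30557 := (((F53534).symm.trans (sb E63666 (iv7 D181316)))).symm
theorem E63669 : n175521 = n175415 := ((F274854).symm.trans (sb E60830 (iv2 F274478)))
theorem F306694 : act 3 n101144 = n57661 := (sb E60830 (iv3 D123688))
theorem E63670 : n173577 = n77611 := ((F272012).symm.trans (sb E60830 F198134))
theorem F306695 : act 1 n101332 = n73001 := (sb E60832 F240114)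
theorem F306696 : act 2 n101332 = n57685 := (sb E60832 F198152)
theorem F306697 : act 6 n101332 = n57661 := (sb E60832 (iv6 D123691))
theorem F306699 : act 0 n154811 = n94232 := (sb E60834 F290317)
theorem F306700 : act 1 n154811 = n88826 := (sb E60834 F290318)
theorem F306701 : act 3 n154811 = n89198 := (sb E60834 F289254)
theorem F306702 : act 4 n154811 = n89013 := (sb E60834 F289255)
theorem F306703 : act 6 n154811 = n88803 := (sb E60834 (iv6 D186446))
theorem F306704 : act 3 n41648 = n73504 := (sb E60835 F243668)
theorem F306705 : act 4 n46133 = n73504 := (sb E60836 (iv4 D154965))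
theorem E63672 : n167436 = n46720 := (((F73840).symm.trans (sb E60837 F263562))).symm
theorem E63673 : n98359 = n72649 := ((D98359).symm.trans (sb E60837 F302124))
theorem E63675 : n152676 = n83202 := ((((iv4 F128282)).symm.trans (sb E60839 (iv4 F263571)))).symm
theorem F306706 : act 3 n27260 = n46718 := (sb E60840 (iv3 D100052))
theorem E63676 : n98354 = n36610 := ((((iv7 F91365)).symm.trans (sb E60840 F274652))).symm
theorem F306707 : act 3 n100054 = n56732 := (sb E60841 F195863)
theorem E63677 : n167439 = n98356 := (((F274653).symm.trans (sb E60841 (iv7 F263573)))).symm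
theorem F306708 : act 3 n100055 = n56733 := (sb E60842 F195864)
theorem F306709 : act 4 n46016 = n36616 := (sb E60843 F123435)
theorem E63678 : n167440 = n98357 := (((D98357).symm.trans (sb E60843 D167440))).symm
theorem E63679 : n175434 = n167465 := (((D167465).symm.trans (sb E60844 (iv1 F274607)))).symm
theorem F306710 : act 2 n80365 = n75617 := (sb E60844 F273735)
theorem E63680 : n175664 = n167468 := (((D167468).symm.trans (sb E60844 (iv6 F275051)))).symm
theorem F306711 : act 7 n80365 = n75622 := (sb E60844 F273736)
theorem E63681 : n175657 = n36618 := (((D36618).symm.trans (sb E60845 F275047))).symm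
theorem E63682 : n173371 = n167469 := (((D167469).symm.trans (sb E60846 (iv1 F273882)))).symm
theorem F306712 : act 2 n80366 = n75618 := (sb E60846 F273730)
theorem E63683 : n167471 = n38624 := ((D167471).symm.trans (sb E60846 (iv5 D83865)))
theorem E63684 : n173583 = n167472 := (((D167472).symm.trans (sb E60846 F273731))).symm
theorem F306713 : act 3 n63683 = n75622 := (sb E60848 F249709)
theorem F306714 : act 1 n132287 = n176399 := (sb E60849 (iv0 F275687))
theorem F306715 : act 6 n132287 = n75622 := (sb E60849 (iv6 D158532))
theorem E63685 : n167468 = n129212 := ((D167468).symm.trans (sb E60850 F216728))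
theorem F306716 : act 4 n29911 = n36617 := (sb E60851 (iv4 D80369))
theorem E63690 : n167483 = n129213 := (((D129213).symm.trans (sb E60852 D167483))).symm
theorem F306717 : act 6 n60739 = n36617 := (sb E60852 (iv6 D80370))
theorem F306718 : act 3 n80152 = n75623 := (sb E60853 F249710)
theorem F306719 : act 2 n157427 = n86479 := (sb E60855 F282010)
theorem F306720 : act 3 n157427 = n124573 := (sb E60855 (iv3 F299982))
theorem F306721 : act 6 n157427 = n86478 := (sb E60855 (iv6 D181073))
theorem F306722 : act 0 n83149 = n38304 := (sb E60856 (iv1 D83218))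
theorem F306723 : act 1 n84895 = n72825 := (sb E60857 (iv0 D153908))
theorem F306724 : act 0 n101470 = n72825 := (sb E60858 (iv1 D153909))
theorem F306726 : act 4 n155369 = n124650 := (sb E60859 (iv4 F260943))
theorem F306728 : act 0 n155370 = n79564 := (sb E60862 (iv1 F260938))
theorem F306729 : act 1 n155370 = n79563 := (sb E60862 (iv0 D165654))
theorem F306730 : act 4 n155370 = n79912 := (sb E60862 F260936)
theorem F306732 : act 4 n119890 = n79571 := (sb E60869 F260950)
theorem F306733 : act 3 n165647 = n170693 := (sb E60873 F276968)
theorem F306734 : act 6 n165647 = n84567 := (sb E60873 (iv6 D177520))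
theorem F306735 : act 7 n165649 = n180218 := (sb E60874 (iv7 F280553))
theorem F306736 : act 6 n39025 = n79560 := (sb E60875 (iv6 D165650))
theorem F306738 : act 6 n163204 = n79561 := (sb E60877 (iv6 D165651))
theorem F306739 : act 2 n60306 = n83560 := (sb E60879 (iv2 D174952))
theorem F306740 : act 4 n72327 = n83560 := (sb E60880 (iv4 D174953))
theorem F306741 : act 6 n60750 = n83560 := (sb E62851 (iv6 D174955))
theorem F306742 : act 7 n60199 = n83560 := (sb E60882 F273828)
theorem E63695 : n180723 = n28820 := ((((iv1 F46458)).symm.trans (sb E60884 F281279))).symm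
theorem E63696 : n180768 = n13788 := (((F23383).symm.trans (sb E60884 D180768))).symm
theorem E63697 : n39959 = n29494 := ((((iv3 F47302)).symm.trans (sb E60884 (iv3 D86338)))).symm
theorem E63700 : n83954 = n29496 := (((D29496).symm.trans (sb E60884 (iv6 F300843)))).symm
theorem E63702 : n125150 = n61139 := (((F212139).symm.trans (sb E60885 (iv1 F240676)))).symm
theorem E63703 : n83711 = n61120 := ((((iv0 F212140)).symm.trans (sb E60885 F304149))).symm
theorem E63704 : n124763 = n61135 := (((F208774).symm.trans (sb E60885 F240673))).symm
theorem E63705 : n72364 = n34196 := ((((iv4 F95345)).symm.trans (sb E60885 F240674))).symm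
theorem E63706 : n72361 = n61072 := ((((iv7 F95593)).symm.trans (sb E60885 (iv7 D153238)))).symm
theorem E63707 : n60364 = n24297 := (((F78756).symm.trans (sb E62742 (iv3 D128393)))).symm
theorem E63708 : n85690 = n24295 := ((((iv6 D49825)).symm.trans (sb E62742 F206511))).symm
theorem F306743 : act 6 n71785 = n83676 := (sb E60888 (iv6 D175201))
theorem E63709 : n86026 = n60318 := ((D86026).symm.trans (sb E60895 (iv5 D128306)))
theorem E63710 : n70005 = n38609 := (((F59432).symm.trans (sb E61319 (iv0 D149164)))).symm
theorem F306744 : act 7 n9089 = n16282 := (sb E60902 (iv7 F304760))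
theorem F306745 : act 0 n124049 = n88233 := (sb E60910 F289708)
theorem F306746 : act 0 n124050 = n84765 := (sb E60911 F277486)
theorem F306747 : act 4 n124050 = n84700 := (sb E60911 (iv4 D177920))
theorem F306748 : act 1 n124051 = n84765 := (sb E60912 F277489)
theorem F306749 : act 4 n124051 = n84701 := (sb E60912 (iv4 D177922))
theorem F306750 : act 0 n124053 = n84805 := (sb E60914 (iv1 F277537))
theorem F306751 : act 1 n124053 = n84725 := (sb E60914 (iv0 D177994))
theorem F306752 : act 4 n124053 = n84770 := (sb E60914 F277536)
theorem F306753 : act 2 n153818 = n84763 := (sb E60915 F277614)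
theorem F306754 : act 2 n122557 = n72759 := (sb E60916 (iv2 D153805))
theorem F306755 : act 7 n122557 = n72760 := (sb E60916 (iv7 F241666))
theorem F306756 : act 3 n101021 = n72759 := (sb E60917 (iv3 D153806))
theorem F306757 : act 6 n124422 = n72759 := (sb E60919 (iv6 D153809))
theorem F306758 : act 2 n101013 = n72760 := (sb E60920 F241668)
theorem F306759 : act 7 n101013 = n72759 := (sb E60920 (iv7 D153810))
theorem F306760 : act 3 n128166 = n101468 := (sb E60921 F241670)
theorem F306761 : act 4 n128166 = n72760 := (sb E60921 (iv4 D153812))
theorem F306762 : act 6 n153813 = n87965 := (sb E60922 F268339)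
theorem F306763 : act 6 n37480 = n72760 := (sb E60923 (iv6 D153814))
theorem F306764 : act 5 n73636 = n80128 := (sb E60924 (iv5 D166911))
theorem F306765 : act 2 n98189 = n71749 := (sb E60926 F239187)
theorem F306766 : act 7 n98189 = n71748 := (sb E60926 (iv7 D152138))
theorem F306767 : act 3 n98847 = n71749 := (sb E60927 (iv3 D152139))
theorem F306768 : act 4 n76808 = n71749 := (sb E60928 (iv4 D152140))
theorem F306769 : act 5 n35371 = n71749 := (sb E60929 (iv5 D152141))
theorem F306770 : act 4 n152142 = n160268 := (sb E60930 F255172)
theorem F306771 : act 2 n100810 = n71748 := (sb E60931 (iv2 D152133))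
theorem F306772 : act 7 n100810 = n71749 := (sb E60931 (iv7 F239186))
theorem F306773 : act 4 n72444 = n71750 := (sb E60932 F238896)
theorem E63711 : n153330 = n71682 := ((D153330).symm.trans (sb E60932 F238897))
theorem F306774 : act 6 n33141 = n71558 := (sb E60937 (iv6 D151801))
theorem F306775 : act 5 n63592 = n71849 := (sb E60953 (iv5 D152296))
theorem E63712 : n135436 = n63282 := ((D135436).symm.trans (sb E60957 (tr F239426 E62599)))
theorem E63713 : n135439 = n73629 := ((D135439).symm.trans (sb E60957 (iv5 F239425)))
theorem E63715 : n179930 = n135444 := (((D135444).symm.trans (sb E60958 (iv5 F280217)))).symm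
theorem F306776 : act 1 n77378 = n80128 := (sb E60962 (iv0 D166909))
theorem F306777 : act 0 n152614 = n80128 := (sb E60963 (iv1 D166910))
theorem F306778 : act 2 n95791 = n89335 := (sb E60964 F289448)
theorem F306779 : act 4 n95791 = n88846 := (sb E60964 F289449)
theorem F306780 : act 6 n95791 = n102274 := (sb E60964 F289450)
theorem E63716 : n83835 = n71876 := ((((iv5 F296646)).symm.trans (sb E60967 (iv5 D175589)))).symm
theorem F306781 : act 6 n158359 = n75627 := (sb E60968 (iv6 D158551))
theorem F306782 : act 7 n158359 = n75683 := (sb E60968 F249734)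
theorem F306783 : act 2 n157987 = n152207 := (sb E60969 F249490)
theorem F306784 : act 4 n157987 = n82443 := (sb E60969 F249492)
theorem F306785 : act 6 n157987 = n75522 := (sb E60969 (iv6 D158349))
theorem F306786 : act 3 n157994 = n99916 := (sb E60970 F249494)
theorem F306787 : act 6 n157994 = n75523 := (sb E60970 (iv6 D158350))
theorem F306788 : act 6 n157995 = n98220 := (sb E60973 F249499)
theorem F306789 : act 3 n82966 = n47281 := (sb E60974 (iv3 D101673))
theorem E63717 : n175715 = n173375 := (((D173375).symm.trans (sb E60974 F286954))).symm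
theorem F306790 : act 6 n82962 = n47281 := (sb E60975 (iv6 D101676))
theorem E63718 : n174858 = n83762 := (((iv1 F273719)).symm.trans (sb E60976 (iv1 D175419)))
theorem E63719 : n161590 = n83855 := (((F262973).symm.trans (sb E60976 F274486))).symm
theorem E63720 : n73147 = n38210 := ((((iv6 F59073)).symm.trans (sb E60977 (iv6 D154425)))).symm
theorem F306791 : act 6 n61724 = n75458 := (sb E60978 (iv6 D158297))
theorem E63721 : n154151 = n128154 := (E60979).trans E62338
theorem F306792 : act 3 n128154 = n73021 := (sb E63721 (iv3 D154151))
theorem F306793 : act 4 n128154 = n82635 := (sb E63721 F302408)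
theorem F306794 : act 6 n128154 = n82634 := (sb E63721 F302409)
theorem E63723 : n77810 = n66480 := (((D66480).symm.trans (sb E60981 (iv5 D161997)))).symm
theorem E63724 : n130489 = n75627 := ((D130489).symm.trans (sb E60982 (iv1 F249123)))
theorem E63725 : n130490 = n75330 := ((D130490).symm.trans (sb E60982 (iv0 D158176)))
theorem E63726 : n130491 = n75624 := ((D130491).symm.trans (sb E60982 F274673))
theorem E63727 : n75625 = n62474 := ((((iv7 F98843)).symm.trans (sb E60982 F274675))).symm
theorem E63730 : n161422 = n116235 := (((D116235).symm.trans (sb E60984 F303278))).symm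
theorem F306795 : act 4 n29532 = n36590 := (sb E60986 (iv4 D80317))
theorem E63737 : n31991 = n7946 := ((F51188).symm.trans (sb E60998 (iv1 D17022)))
theorem E63738 : n26663 = n15433 := (((iv2 F53137)).symm.trans (sb E60998 (iv2 F27884)))
theorem E63739 : n35066 = n33900 := ((((iv3 F53248)).symm.trans (sb E60998 D35066))).symm
theorem E63740 : n33923 = n12484 := (((iv4 F53277)).symm.trans (sb E60998 F27883))
theorem F306796 : act 5 n16399 = n15532 := (sb E60998 (iv5 F27885))
theorem E63741 : n35067 = n7607 := ((((iv6 D16399)).symm.trans (sb E60998 D35067))).symm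
theorem E63742 : n33926 = n15430 := ((D33926).symm.trans (sb E60998 F27882))
theorem F306797 : act 2 n81691 = n70716 := (sb E60999 F286792)
theorem F306798 : act 3 n81691 = n41718 := (sb E60999 F137012)
theorem F306799 : act 5 n81691 = n41716 := (sb E60999 (iv5 D89311))
theorem F306800 : act 7 n81691 = n70697 := (sb E60999 F286793)
theorem F306801 : act 2 n55073 = n101598 := (sb E61000 F271929)
theorem E63743 : n119705 = n82999 := ((D119705).symm.trans (sb E61000 (iv5 D173466)))
theorem F306802 : act 3 n33416 = n71748 := (sb E61001 (iv3 D152134))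
theorem F306803 : act 4 n76809 = n71748 := (sb E61002 (iv4 D152135))
theorem F306804 : act 6 n33415 = n71748 := (sb E61003 (iv6 D152137))
theorem F306805 : act 1 n84388 = n61584 := (sb E61004 (iv0 D131246))
theorem F306806 : act 4 n84388 = n72390 := (sb E61004 F210316)
theorem F306807 : act 4 n119824 = n177063 := (sb E61005 F282009)
theorem F306808 : act 1 n131247 = n99591 := (sb E61006 F298869)
theorem F306809 : act 2 n131247 = n96300 := (sb E61006 F298870)
theorem E63745 : n146130 = n82747 := ((F243088).symm.trans (sb E61006 (iv5 D172841)))
theorem F306810 : act 4 n36564 = n72374 := (sb E61008 F210728)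
theorem E63746 : n80257 = n61700 := ((D80257).symm.trans (sb E61008 (iv6 D131463)))
theorem F306811 : act 0 n153270 = n81787 := (sb E61010 (iv1 F267518))
theorem F306812 : act 2 n153270 = n81786 := (sb E61010 (iv2 F267517))
theorem F306813 : act 7 n153270 = n81613 := (sb E61010 F267520)
theorem F306814 : act 1 n38031 = n73291 := (sb E61011 (iv0 F231363))
theorem E63748 : n82733 = n69001 := (((iv6 F127502)).symm.trans (sb E61011 (iv6 D147183)))
theorem F306815 : act 0 n114059 = n73291 := (sb E61012 (iv1 D154615))
theorem F306816 : act 3 n44718 = n73291 := (sb E61013 F242707)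
theorem E63749 : n95745 = n73289 := ((D95745).symm.trans (sb E61013 (iv6 D154613)))
theorem F306817 : act 7 n96717 = n73291 := (sb E61015 (iv7 D154616))
theorem E63750 : n149928 = n107873 := (((F209891).symm.trans (sb E61017 F244000))).symm
theorem E63751 : n119990 = n78446 := (((iv0 F243059)).symm.trans (sb E61018 (iv0 D163215)))
theorem E63752 : n17420 = n16602 := ((F43308).symm.trans (sb E61020 (iv1 D34295)))
theorem E63753 : n32262 = n17419 := (((F43309).symm.trans (sb E61020 F54415))).symm
theorem E63755 : n54053 = n12854 := ((((iv5 D26866)).symm.trans (sb E61020 (iv5 F85281)))).symm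
theorem E63756 : n74849 = n55639 := (((D55639).symm.trans (sb E61020 D74849))).symm
theorem E63757 : n55095 = n54050 := (((iv6 F87134)).symm.trans (sb E61021 (iv6 D117282)))
theorem E63758 : n169960 = n74879 := ((D169960).symm.trans (sb E61022 (iv0 F247727)))
theorem F306818 : act 3 n131251 = n79722 := (sb E61023 (iv3 D166048))
theorem F306819 : act 4 n131251 = n124592 := (sb E61023 F261445)
theorem F306820 : act 6 n131251 = n149898 := (sb E61023 F261446)
theorem F306821 : act 7 n131251 = n106006 := (sb E61023 F261447)
theorem E63759 : n151748 = n71095 := ((D151748).symm.trans (sb E61024 (iv5 D150798)))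
theorem E63760 : n167826 = n151749 := (((D151749).symm.trans (sb E61024 (iv6 F264305)))).symm
theorem F306822 : act 3 n45052 = n60096 := (sb E61025 (iv3 D127925))
theorem E63761 : n96495 = n60107 := ((D96495).symm.trans (sb E61025 F205854))
theorem F306823 : act 5 n103690 = n60096 := (sb E61026 (iv5 D127926))
theorem F306824 : act 6 n103690 = n145736 := (sb E61026 (iv6 F228842))
theorem E63762 : n179045 = n159408 := ((((iv1 F251021)).symm.trans (sb E61027 (iv1 F278986)))).symm
theorem E63763 : n179047 = n70966 := (((F241492).symm.trans (sb E61027 (iv0 F278987)))).symm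
theorem F306825 : act 2 n127970 = n127963 := (sb E61027 F252209)
theorem F306826 : act 0 n130850 = n123505 := (sb E61028 (iv1 F235676))
theorem F306827 : act 2 n130850 = n84388 := (sb E61028 F235673)
theorem F306828 : act 5 n130850 = n160712 := (sb E61028 (iv5 F253861))
theorem E63765 : n74815 = n54316 := ((((iv0 F85708)).symm.trans (sb E61029 (iv0 F243198)))).symm
theorem E63766 : n105800 = n46553 := ((((iv2 F74241)).symm.trans (sb E61029 (iv2 F162495)))).symm
theorem F306829 : act 3 n38889 = n62800 := (sb E61029 (iv3 F98005))
theorem E63767 : n84343 = n24302 := ((D84343).symm.trans (sb E61029 (iv6 D49840)))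
theorem E63769 : n147545 = n25706 := (((F71085).symm.trans (sb E61033 D147545))).symm
theorem E63770 : n131211 = n21543 := ((((iv2 D45116)).symm.trans (sb E61033 (iv2 F210189)))).symm
theorem F306830 : act 3 n45116 = n32170 := (sb E61033 F105442)
theorem E63771 : n147546 = n26542 := (((F71083).symm.trans (sb E61033 D147546))).symm
theorem E63772 : n32164 = n26507 := ((((iv5 F71087)).symm.trans (sb E61033 (iv5 D69147)))).symm
theorem E63773 : n96632 = n61657 := ((D96632).symm.trans (sb E61033 F105443))
theorem F306831 : act 0 n15185 = n32060 := (sb E61034 F86709)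
theorem E63776 : n125204 = n33393 := (((F54443).symm.trans (sb E61035 F201299))).symm
theorem F306832 : act 0 n45139 = n32169 := (sb E61036 (iv1 F105325))
theorem F306833 : act 2 n45139 = n32171 := (sb E61036 F105322)
theorem E63779 : n96659 = n32161 := ((D96659).symm.trans (sb E61036 F105323))
theorem F306834 : act 7 n45139 = n32141 := (sb E61036 (iv7 D69080))
theorem F306835 : act 3 n35988 = n29133 := (sb E61037 F85492)
theorem E63780 : n117579 = n79083 := (((D79083).symm.trans (sb E61037 D117579))).symm
theorem F306836 : act 5 n35988 = n26207 := (sb E61037 (iv5 D54168))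
theorem E63781 : n79085 = n29132 := ((D79085).symm.trans (sb E61037 F85493))
theorem E63783 : n148194 = n76735 := (((D76735).symm.trans (sb E61039 D148194))).symm
theorem E63784 : n73586 = n54124 := (((iv6 F110246)).symm.trans (sb E61040 (iv6 D117454)))
theorem F306837 : act 3 n155514 = n96654 := (sb E61041 F252828)
theorem F306838 : act 4 n155514 = n77687 := (sb E61041 F252829)
theorem F306839 : act 6 n155514 = n76732 := (sb E61041 (iv6 D160180))
theorem F306840 : act 6 n32100 = n55637 := (sb E61042 F188886)
theorem E63785 : n124593 = n74879 := ((D124593).symm.trans (sb E61043 F210332))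
theorem E63786 : n147117 = n124594 := (((D124594).symm.trans (sb E61043 F230661))).symm
theorem E63787 : n75601 = n28973 := (((F212003).symm.trans (sb E61045 (iv2 D158477)))).symm
theorem E63788 : n80711 = n62879 := (((D62879).symm.trans (sb E61045 F249679))).symm
theorem F306842 : act 5 n128356 = n76565 := (sb E61047 (iv5 D159937))
theorem E63789 : n75592 = n62883 := (((D62883).symm.trans (sb E61048 (iv3 D158452)))).symm
theorem E63790 : n80712 = n62884 := (((D62884).symm.trans (sb E61048 F249658))).symm
theorem E63791 : n133873 = n133107 := ((D133873).symm.trans (sb E61050 (tr (iv1 F235889) E63453)))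
theorem E63792 : n133874 = n60069 := ((D133874).symm.trans (sb E61050 F234247))
theorem E63793 : n152078 = n133871 := ((((iv3 F215610)).symm.trans (sb E61050 (iv3 F298369)))).symm
theorem E63794 : n133872 = n60064 := (((iv4 F215612)).symm.trans (sb E61050 (iv4 D127874)))
theorem E63795 : n133876 = n70737 := ((D133876).symm.trans (sb E61050 F234249))
theorem E63798 : n147554 = n114446 := ((((iv2 F178497)).symm.trans (sb E61051 (iv2 F231339)))).symm
theorem F306843 : act 3 n54789 = n32167 := (sb E61051 F105449)
theorem E63799 : n147528 = n26502 := ((((iv4 D54789)).symm.trans (sb E61051 (iv4 F231319)))).symm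
theorem E63800 : n119059 = n32165 := ((D119059).symm.trans (sb E61051 (iv6 D69153)))
theorem E63801 : n147565 = n35919 := ((D147565).symm.trans (sb E61052 (iv3 D78900)))
theorem E63802 : n147567 = n78065 := ((D147567).symm.trans (sb E61052 F120086))
theorem E63803 : n164239 = n147568 := (((D147568).symm.trans (sb E61052 D164239))).symm
theorem E63804 : n147569 = n36651 := ((D147569).symm.trans (sb E61053 (iv3 D80421)))
theorem F306844 : act 5 n69156 = n38242 := (sb E61053 F123614)
theorem E63805 : n167563 = n147571 := (((D147571).symm.trans (sb E61053 D167563))).symm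
theorem E63806 : n173206 = n147561 := (((D147561).symm.trans (sb E61055 F271499))).symm
theorem E63807 : n173220 = n147562 := (((D147562).symm.trans (sb E61055 F271526))).symm
theorem E63808 : n173218 = n110625 := ((((iv2 F171219)).symm.trans (sb E61055 (iv2 F271523)))).symm
theorem F306845 : act 5 n69154 = n82739 := (sb E61055 (iv5 D172819))
theorem F306846 : act 5 n69190 = n46186 := (sb E61056 (iv5 D98763))
theorem F306847 : act 0 n26867 = n16399 := (sb E61057 (iv1 D33924))
theorem E63811 : n68786 = n55640 := (((D55640).symm.trans (sb E61057 (iv6 F104985)))).symm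
theorem E63812 : n144824 = n103727 := (((F192423).symm.trans (sb E61058 F243032))).symm
theorem F306848 : act 5 n120705 = n147880 := (sb E61058 (iv5 F243046))
theorem F306849 : act 7 n120705 = n68777 := (sb E61058 (iv7 D146721))
theorem F306850 : act 5 n130512 = n80138 := (sb E61073 (iv5 D166947))
theorem E63813 : n129219 = n121493 := ((D129219).symm.trans (sb E61074 F262814))
theorem F306851 : act 5 n38779 = n60816 := (sb E61076 (iv5 D129409))
theorem E63814 : n141789 = n35504 := (((D35504).symm.trans (sb E61078 (iv5 F224808)))).symm
theorem E63815 : n82529 = n63263 := (((iv1 F186403)).symm.trans (sb E61079 (iv1 D134630)))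
theorem E63816 : n82526 = n63279 := ((D82526).symm.trans (sb E61081 (iv1 F216592)))
theorem E63817 : n82527 = n63278 := ((D82527).symm.trans (sb E61081 F216593))
theorem F306852 : act 7 n118490 = n63277 := (sb E61082 (iv7 D134674))
theorem F306853 : act 7 n29901 = n54569 := (sb E61083 (iv7 D118494))
theorem E63818 : n77703 = n77467 := ((D77703).symm.trans (sb E61094 (iv2 D161369)))
theorem E63819 : n77708 = n77468 := ((D77708).symm.trans (sb E61094 (iv7 F255181)))
theorem F306854 : act 1 n132495 = n77469 := (sb E61097 (iv0 D161379))
theorem F306855 : act 0 n60876 = n77469 := (sb E61098 (iv1 D161380))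
theorem F306856 : act 5 n132493 = n77470 := (sb E61099 F255189)
theorem F306857 : act 7 n132493 = n77469 := (sb E61099 (iv7 D161382))
theorem E63820 : n134555 = n83168 := ((D134555).symm.trans (sb E61100 (iv1 F188754)))
theorem F306858 : act 1 n63230 = n55056 := (sb E61100 (iv0 D119659))
theorem F306859 : act 0 n63247 = n55056 := (sb E61101 (iv1 D119660))
theorem F306860 : act 0 n119658 = n61126 := (sb E61102 (iv1 D130217))
theorem E63821 : n130990 = n78913 := (((F188745).symm.trans (sb E61102 F210249))).symm
theorem F306861 : act 3 n119658 = n131236 := (sb E61102 (iv3 F210248))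
theorem F306862 : act 5 n119658 = n130988 := (sb E61102 (iv5 F210250))
theorem F306863 : act 7 n28898 = n56075 := (sb E61104 (iv7 F193819))
theorem F306864 : act 2 n62225 = n56075 := (sb E61109 F193820)
theorem F306867 : act 6 n121459 = n132709 := (sb E61110 (iv6 F213067))
theorem F306869 : act 4 n29206 = n56075 := (sb E61111 (iv4 D121460))
theorem F306870 : act 0 n121461 = n132613 := (sb E61112 (iv1 F212847))
theorem F306871 : act 1 n121461 = n132612 := (sb E61112 F212854)
theorem F306872 : act 2 n121461 = n132615 := (sb E61112 (iv2 F212852))
theorem F306873 : act 7 n121461 = n60945 := (sb E61112 (iv7 D129765))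
theorem F306874 : act 6 n62285 = n56075 := (sb E61113 (iv6 D121462))
theorem F306875 : act 1 n121464 = n131233 := (sb E61114 F216719)
theorem F306876 : act 2 n121464 = n135464 := (sb E61114 (iv2 F217809))
theorem F306877 : act 5 n121464 = n63293 := (sb E61114 (iv5 D134710))
theorem F306878 : act 0 n121466 = n135464 := (sb E61115 (iv1 F217812))
theorem F306879 : act 2 n121466 = n131233 := (sb E61115 (iv2 F210240))
theorem F306880 : act 1 n83553 = n79423 := (sb E61117 (iv0 D165321))
theorem F306881 : act 0 n80172 = n79423 := (sb E61118 (iv1 D165322))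
theorem E63823 : n133306 = n37255 := ((((iv0 F296551)).symm.trans (sb E61122 (iv0 F239172)))).symm
theorem E63824 : n72908 = n45781 := (((D45781).symm.trans (sb E61122 F239170))).symm
theorem E63825 : n76699 = n37396 := (((D37396).symm.trans (sb E61123 F239177))).symm
theorem E63826 : n76700 = n37376 := (((D37376).symm.trans (sb E61124 F241195))).symm
theorem E63827 : n72561 = n37377 := (((D37377).symm.trans (sb E61124 F241196))).symm
theorem E63828 : n153470 = n81796 := ((((iv1 F299187)).symm.trans (sb E61125 F241081))).symm
theorem E63829 : n153468 = n81774 := ((((iv0 F299189)).symm.trans (sb E61125 (iv0 F241072)))).symm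
theorem F306883 : act 6 n39987 = n55079 := (sb E61125 (iv6 D119723))
theorem F306885 : act 3 n151798 = n71746 := (sb E61128 F247849)
theorem F306886 : act 5 n151798 = n76666 := (sb E61128 F238980)
theorem F306887 : act 3 n119730 = n86387 := (sb E61137 F260519)
theorem F306888 : act 6 n119722 = n86386 := (sb E61154 F260513)
theorem E63836 : n73144 = n38610 := (((D38610).symm.trans (sb E61159 F241717))).symm
theorem E63838 : n158368 = n38208 := (((D38208).symm.trans (sb E61160 F249539))).symm
theorem E63839 : n71791 = n38202 := ((((iv3 F59065)).symm.trans (sb E61160 (iv3 F193725)))).symm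
theorem E63840 : n73148 = n47344 := ((((iv7 F74554)).symm.trans (sb E61161 F241721))).symm
theorem F306889 : act 3 n22748 = n16282 := (sb E61162 (iv3 D33686))
theorem F306890 : act 0 n41141 = n49012 := (sb E61163 F110596)
theorem F306891 : act 4 n41141 = n33595 := (sb E61163 F108837)
theorem E63841 : n147107 = n88115 := (((D88115).symm.trans (sb E61163 (iv5 F230628)))).symm
theorem F306892 : act 1 n41142 = n49012 := (sb E61164 F110597)
theorem E63842 : n88118 = n49031 := ((D88118).symm.trans (sb E61164 F109717))
theorem F306893 : act 4 n41142 = n33712 := (sb E61164 (iv4 D73257))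
theorem E63843 : n147807 = n88120 := (((D88120).symm.trans (sb E61164 (iv5 F231569)))).symm
theorem E63844 : n88121 = n58607 := ((D88121).symm.trans (sb E61164 (iv6 F199690)))
theorem E63845 : n88108 = n54390 := ((D88108).symm.trans (sb E61165 (iv1 F184568)))
theorem E63846 : n119848 = n88109 := (((D88109).symm.trans (sb E61165 F189178))).symm
theorem F306894 : act 2 n41140 = n49017 := (sb E61165 (iv2 D106050))
theorem E63847 : n88111 = n73153 := ((D88111).symm.trans (sb E61165 (iv7 F162994)))
theorem E63848 : n154607 = n88122 := (((D88122).symm.trans (sb E61166 (iv1 F242700)))).symm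
theorem F306895 : act 2 n41143 = n73173 := (sb E61166 F241723)
theorem E63849 : n145735 = n58127 := (((F297826).symm.trans (sb E61166 (iv6 F241726)))).symm
theorem E63850 : n88125 = n73154 := ((D88125).symm.trans (sb E61166 F241724))
theorem F306896 : act 7 n33687 = n19354 := (sb E61167 (iv7 D41144))
theorem E63854 : n88135 = n54894 := ((((iv4 F86836)).symm.trans (sb E61168 D88135))).symm
theorem E63857 : n88148 = n72765 := ((((iv6 F109249)).symm.trans (sb E61169 D88148))).symm
theorem E63859 : n88156 = n56889 := (((F89935).symm.trans (sb E61170 D88156))).symm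
theorem E63864 : n88165 = n73196 := (((D73196).symm.trans (sb E61171 D88165))).symm
theorem E63865 : n154583 = n88180 := (((D88180).symm.trans (sb E61173 (iv1 F242652)))).symm
theorem E63866 : n154580 = n88181 := (((D88181).symm.trans (sb E61173 (iv0 F242646)))).symm
theorem E63867 : n88184 = n73159 := ((D88184).symm.trans (sb E61173 F241730))
theorem E63868 : n88185 = n73160 := (((D73160).symm.trans (sb E61174 D88185))).symm
theorem F306897 : act 7 n33688 = n19357 := (sb E61174 (iv7 D41158))
theorem E63869 : n86610 = n47165 := ((D86610).symm.trans (sb E61175 (tr (iv2 F242660) E63207)))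
theorem E63870 : n86611 = n34400 := ((D86611).symm.trans (sb E61175 (tr (iv3 D128421) E61503)))
theorem E63871 : n150335 = n86613 := (((D86613).symm.trans (sb E61175 (iv5 F236612)))).symm
theorem E63872 : n179676 = n86614 := (((D86614).symm.trans (sb E61175 (iv6 F279883)))).symm
theorem E63874 : n86616 = n86581 := ((D86616).symm.trans (sb E61176 (tr (iv3 F244221) E62020)))
theorem E63875 : n86619 = n60248 := ((D86619).symm.trans (sb E61176 (iv6 D128162)))
theorem F306898 : act 3 n40153 = n49015 := (sb E61177 F162834)
theorem F306899 : act 6 n40153 = n49012 := (sb E61177 (iv6 D106031))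
theorem F306900 : act 2 n22695 = n47141 := (sb E61178 F155942)
theorem F306901 : act 6 n101226 = n73018 := (sb E61179 (iv6 D154147))
theorem F306902 : act 4 n33647 = n47141 := (sb E61180 (iv4 D101227))
theorem F306903 : act 0 n101228 = n75026 := (sb E61181 F242229)
theorem F306904 : act 1 n101228 = n75021 := (sb E61181 F242230)
theorem F306905 : act 6 n33645 = n47141 := (sb E61182 (iv6 D101229))
theorem F306906 : act 5 n99574 = n157610 := (sb E61183 (iv5 F248359))
theorem F306907 : act 4 n101264 = n131182 := (sb E61184 (tr (iv4 F238706) E62263))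
theorem F306908 : act 6 n101264 = n73087 := (sb E61184 F198093)
theorem F306909 : act 7 n101264 = n57652 := (sb E61184 (iv7 D123669))
theorem F306910 : act 1 n101266 = n73074 := (sb E61185 F198115)
theorem F306911 : act 2 n101266 = n73077 := (sb E61185 F198111)
theorem F306912 : act 7 n101266 = n57657 := (sb E61185 (iv7 D123680))
theorem F306913 : act 3 n33663 = n47230 := (sb E61186 F184689)
theorem F306914 : act 0 n101272 = n72921 := (sb E61187 (iv1 F242053))
theorem F306915 : act 5 n101272 = n75027 := (sb E61187 F242052)
theorem F306916 : act 1 n101273 = n72921 := (sb E61188 F242056)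
theorem F306917 : act 2 n101275 = n72921 := (sb E61191 F198105)
theorem F306918 : act 3 n89180 = n73077 := (sb E61194 F242313)
theorem F306919 : act 3 n89181 = n57649 := (sb E61195 F198056)
theorem F306920 : act 4 n89181 = n77843 := (sb E61195 F198058)
theorem F306921 : act 4 n148978 = n158383 := (sb E61196 F282502)
theorem F306922 : act 6 n123637 = n94813 := (sb E61199 F287214)
theorem F306923 : act 1 n101492 = n57652 := (sb E61203 (iv0 D123666))
theorem F306924 : act 0 n101491 = n57652 := (sb E61204 (iv1 D123667))
theorem F306925 : act 1 n123673 = n94803 := (sb E61208 (iv0 F287220))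
theorem F306926 : act 0 n154044 = n183457 := (sb E61209 (iv1 F287229))
theorem F306927 : act 1 n154044 = n183452 := (sb E61209 (iv0 F287230))
theorem F306928 : act 7 n154044 = n88102 := (sb E61209 (iv7 D184754))
theorem F306934 : act 0 n154806 = n117878 := (sb E61212 (iv1 F244208))
theorem F306935 : act 2 n154937 = n117878 := (sb E61213 F252246)
theorem F306936 : act 4 n154937 = n76572 := (sb E61213 F252247)
theorem F306937 : act 6 n154937 = n76570 := (sb E61213 (iv6 D159944))
theorem E63876 : n155349 = n70455 := ((E62550).symm.trans ((D181343).symm.trans (sb E61214 (iv1 D149877))))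
theorem E63877 : n178421 = n155218 := ((E62551).symm.trans ((D181344).symm.trans (sb E61214 F244115)))
theorem F306938 : act 2 n149876 = n106037 := (sb E61215 F257307)
theorem F306939 : act 4 n149876 = n78344 := (sb E61215 (iv4 D162941))
theorem F306940 : act 6 n149876 = n105950 := (sb E61215 F257308)
theorem F306941 : act 0 n106037 = n73718 := (sb E61223 (iv1 D155217))
theorem F306942 : act 1 n106037 = n149878 := (sb E61223 F244114)
theorem F306944 : act 6 n121945 = n86587 := (sb E61225 (iv6 D181351))
theorem F306945 : act 7 n78339 = n86587 := (sb E61226 (iv7 D181352))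
theorem F306946 : act 3 n71371 = n36368 := (sb E61227 (iv3 D79839))
theorem F306947 : act 4 n71371 = n73461 := (sb E61227 (iv4 F122579))
theorem E63878 : n160196 = n151415 := (((D151415).symm.trans (sb E61227 (iv5 F252865)))).symm
theorem E63879 : n151416 = n60227 := ((D151416).symm.trans (sb E61227 F188459))
theorem F306948 : act 7 n71371 = n60165 := (sb E61227 (iv7 F188423))
theorem E63880 : n166275 = n151417 := (((D151417).symm.trans (sb E61228 F261802))).symm
theorem E63881 : n160214 = n151418 := (((D151418).symm.trans (sb E61228 (iv0 F252940)))).symm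
theorem F306950 : act 3 n71360 = n54338 := (sb E61229 (iv3 D117956))
theorem F306951 : act 1 n67553 = n103081 := (sb E61230 F159236)
theorem F306953 : act 2 n67552 = n44789 := (sb E61231 F147598)
theorem E63882 : n144201 = n87551 := ((D144201).symm.trans (sb E61231 F147599))
theorem F306954 : act 6 n67552 = n44787 := (sb E61231 (iv6 D95968))
theorem F306955 : act 1 n67551 = n48063 := (sb E61232 (iv0 D103812))
theorem F306956 : act 0 n67550 = n48063 := (sb E61233 F283732)
theorem E63883 : n144189 = n103081 := ((D144189).symm.trans (sb E61233 F159047))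
theorem E63884 : n144192 = n48005 := ((D144192).symm.trans (sb E61233 (iv5 D103649)))
theorem F306957 : act 4 n67756 = n48063 := (sb E61234 (iv4 D103815))
theorem F306958 : act 0 n95986 = n67558 := (sb E61235 (iv1 D144220))
theorem F306959 : act 2 n95986 = n144011 := (sb E61235 (iv2 F226916))
theorem F306960 : act 5 n95986 = n107306 := (sb E61235 F226915)
theorem F306961 : act 7 n95986 = n144012 := (sb E61235 F226914)
theorem F306962 : act 1 n95987 = n67558 := (sb E61236 (iv0 D144219))
theorem F306963 : act 2 n95987 = n144012 := (sb E61236 (iv2 F226911))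
theorem F306964 : act 5 n95987 = n107305 := (sb E61236 F226910)
theorem F306965 : act 7 n95987 = n144011 := (sb E61236 (iv7 F226912))
theorem F306966 : act 3 n67544 = n44793 := (sb E61237 F147600)
theorem E63885 : n144179 = n44788 := ((D144179).symm.trans (sb E61237 (iv6 D95972)))
theorem F306967 : act 2 n95985 = n144013 := (sb E61238 (iv2 F226686))
theorem F306968 : act 3 n95985 = n54013 := (sb E61238 F181612)
theorem F306969 : act 5 n95985 = n53659 := (sb E61238 (iv5 D116415))
theorem F306970 : act 7 n95985 = n66955 := (sb E61238 F181613)
theorem F306971 : act 0 n95989 = n144012 := (sb E61239 (iv1 F226683))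
theorem F306972 : act 1 n95989 = n144011 := (sb E61239 F226681)
theorem F306973 : act 2 n95989 = n67558 := (sb E61239 F225744)
theorem F306974 : act 3 n95989 = n117009 := (sb E61239 (iv3 F225746))
theorem F306975 : act 4 n95989 = n66955 := (sb E61239 (iv4 D142850))
theorem F306976 : act 5 n95989 = n107484 := (sb E61239 F225745)
theorem F306977 : act 5 n67549 = n44787 := (sb E61240 (iv5 D95967))
theorem F306978 : act 2 n67563 = n44799 := (sb E61241 F147633)
theorem F306979 : act 5 n67563 = n44798 := (sb E61241 (iv5 D95998))
theorem F306980 : act 1 n67561 = n44799 := (sb E61242 (iv0 D96000))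
theorem F306981 : act 0 n67560 = n44799 := (sb E61243 (iv1 D96001))
theorem F306982 : act 0 n96002 = n144223 := (sb E61244 (iv1 F226918))
theorem F306983 : act 1 n96002 = n144222 := (sb E61244 F226924)
theorem F306984 : act 2 n96002 = n96003 := (sb E61244 (tr (iv2 F226921) E61245))
theorem F306985 : act 6 n96002 = n67563 := (sb E61244 F182961)
theorem F306986 : act 7 n96002 = n53930 := (sb E61244 (iv7 D117022))
theorem F306987 : act 0 n96003 = n117020 := (sb E61245 (iv1 F226925))
theorem F306988 : act 1 n96003 = n117019 := (sb E61245 F226926)
theorem F306989 : act 4 n96003 = n67563 := (sb E61245 F226922)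
theorem F306990 : act 7 n96003 = n67559 := (sb E61245 (iv7 D144225))
theorem F306991 : act 2 n133075 = n82635 := (sb E61249 F249401)
theorem F306992 : act 6 n133075 = n75459 := (sb E61249 (iv6 D158299))
theorem E63886 : n160002 = n148902 := ((D160002).symm.trans (sb E61263 F233965))
theorem E63887 : n160003 = n148899 := ((D160003).symm.trans (sb E61263 (iv0 F233962)))
theorem F306993 : act 3 n76607 = n35710 := (sb E61263 F119563)
theorem F306994 : act 5 n17302 = n35010 := (sb E61264 (iv5 D76610))
theorem E63893 : n49031 = n34159 := ((D49031).symm.trans (sb E61267 F208518))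
theorem E63895 : n65078 = n23919 := ((D65078).symm.trans (iv4 (sb E61267 (tr (iv4 D68109) E61743))))
theorem E63899 : n55022 = n30619 := ((((iv4 F49088)).symm.trans (sb E61268 (iv4 F163098)))).symm
theorem E63901 : n145283 = n30559 := (E63516).trans E63523
theorem E63902 : n60377 = n54480 := (((F104258).symm.trans (sb E61269 F163102))).symm
theorem F306995 : act 0 n28675 = n16595 := (sb E61270 (iv1 D34280))
theorem E63903 : n65079 = n28675 := ((D65079).symm.trans (iv7 (sb E61270 (tr (iv7 F86025) E61743))))
theorem E63904 : n143518 = n48970 := (((F129509).symm.trans (sb E61281 (iv1 F247714)))).symm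
theorem E63905 : n74840 = n48951 := (((F129511).symm.trans (sb E61281 (iv0 D157376)))).symm
theorem E63906 : n131095 = n55137 := ((D131095).symm.trans (sb E61282 (iv4 D119827)))
theorem E63907 : n157513 = n29112 := ((((iv5 D61499)).symm.trans (sb E61282 (iv5 F248220)))).symm
theorem F306996 : act 4 n36562 = n61691 := (sb E61283 (iv4 D131448))
theorem F306997 : act 4 n36563 = n61692 := (sb E61284 (iv4 D131451))
theorem F306998 : act 3 n131452 = n167639 := (sb E61285 (iv3 F263920))
theorem F306999 : act 4 n131452 = n80255 := (sb E61285 F263334)
theorem E63909 : n148688 = n69864 := (((F155393).symm.trans (sb E61286 (iv3 F233445)))).symm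
theorem E63910 : n69530 = n33810 := (((iv4 F107361)).symm.trans (sb E61286 F110218))
theorem E63912 : n59984 = n33809 := ((F107357).symm.trans (sb E61286 (iv6 D73563)))
theorem E63913 : n68951 = n54270 := ((((iv4 F85611)).symm.trans (sb E61287 F229522))).symm
theorem E63914 : n154996 = n13575 := ((((iv6 D28481)).symm.trans (sb E61287 (iv6 F243721)))).symm
theorem F307000 : act 1 n95879 = n150407 := (sb E61288 (iv0 F236765))
theorem F307001 : act 3 n95879 = n53991 := (sb E61288 F183244)
theorem E63915 : n117857 = n32535 := (((F51608).symm.trans (sb E61289 (iv1 F184816)))).symm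
theorem E63916 : n68569 = n32304 := ((D68569).symm.trans (sb E61289 F180998))
theorem F307002 : act 4 n31898 = n53991 := (sb E61289 F181000)
theorem E63918 : n140157 = n15044 := ((((iv5 D31898)).symm.trans (sb E61289 D140157))).symm
theorem E63919 : n117855 = n68571 := (((D68571).symm.trans (sb E61289 (iv7 F184807)))).symm
theorem E63920 : n68610 = n68386 := ((((iv6 F131078)).symm.trans (sb E61290 F229528))).symm
theorem E63921 : n127662 = n45227 := (((D45227).symm.trans (sb E61291 (iv1 F235624)))).symm
theorem E63922 : n127532 = n45228 := (((D45228).symm.trans (sb E61291 (iv0 F234803)))).symm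
theorem F307003 : act 3 n21581 = n31821 := (sb E61291 F104565)
theorem E63923 : n145857 = n21233 := (((F33982).symm.trans (sb E61291 (iv4 F229019)))).symm
theorem E63924 : n31818 = n10309 := ((((iv6 D21581)).symm.trans (sb E61291 (iv6 D68393)))).symm
theorem E63925 : n76040 = n55091 := ((D76040).symm.trans (sb E61292 (iv4 F185190)))
theorem E63926 : n76041 = n55090 := ((D76041).symm.trans (sb E61292 F185188))
theorem E63927 : n70305 = n32280 := (((F77149).symm.trans (sb E61293 (iv4 F185192)))).symm
theorem E63928 : n69587 = n36373 := (((F57120).symm.trans (sb E61294 (iv1 F131052)))).symm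
theorem E63929 : n70132 = n54286 := ((F106517).symm.trans (sb E61294 (iv0 F130311)))
theorem E63930 : n145867 = n70052 := ((((iv3 F106443)).symm.trans (sb E61294 (iv3 F229029)))).symm
theorem F307004 : act 4 n32559 = n31821 := (sb E61294 F104566)
theorem E63931 : n145870 = n31890 := (((F51627).symm.trans (sb E61294 D145870))).symm
theorem E63932 : n31819 = n15417 := ((((iv6 D32559)).symm.trans (sb E61294 (iv6 D68396)))).symm
theorem E63933 : n70130 = n69585 := (((iv7 F106509)).symm.trans (sb E61294 F131118))
theorem E63934 : n26110 = n15457 := ((F41299).symm.trans (sb E61295 (iv0 F33978)))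
theorem F307005 : act 5 n14974 = n10308 := (sb E61295 (iv5 D21579))
theorem E63935 : n26108 = n15814 := (((iv7 F131107)).symm.trans (sb E61295 F33976))
theorem F307006 : act 3 n59975 = n45230 := (sb E61296 F149244)
theorem E63936 : n117143 = n70909 := (((iv6 F183230)).symm.trans (sb E61296 F149246))
theorem E63937 : n179491 = n61568 := ((((iv3 F96117)).symm.trans (sb E61297 F279441))).symm
theorem E63938 : n150414 = n13876 := ((((iv5 D29156)).symm.trans (sb E61297 (iv5 F236781)))).symm
theorem E63941 : n155208 = n62711 := (((F97900).symm.trans (sb E61298 (iv6 F244078)))).symm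
theorem E63943 : n131345 = n39639 := (((iv4 F210528)).symm.trans (sb E61299 (iv4 D85808)))
theorem F307007 : act 6 n62756 = n105960 := (sb E61299 (iv6 F302783))
theorem E63945 : n60897 = n18754 := ((((iv1 D39608)).symm.trans (sb E61300 (iv1 D129637)))).symm
theorem E63946 : n131347 = n39641 := (((F60530).symm.trans (sb E61300 F210536))).symm
theorem F307008 : act 4 n39608 = n61578 := (sb E61300 F207819)
theorem E63949 : n95889 = n45228 := (((iv2 F147555)).symm.trans (sb E61302 (tr (iv2 F233726) E63922)))
theorem E63950 : n127648 = n95890 := (((D95890).symm.trans (sb E61302 (iv3 F205211)))).symm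
theorem E63951 : n127653 = n95891 := (((D95891).symm.trans (sb E61302 (iv4 F205215)))).symm
theorem E63952 : n95893 = n28465 := ((D95893).symm.trans (sb E61302 (iv6 D59937)))
theorem E63954 : n95885 = n70771 := ((D95885).symm.trans (sb E61303 F236526))
theorem E63955 : n95887 = n70769 := ((D95887).symm.trans (sb E61303 (iv5 D150298)))
theorem E63956 : n127677 = n95888 := (((D95888).symm.trans (sb E61303 F236527))).symm
theorem F307009 : act 4 n86939 = n58351 := (sb E61304 F200455)
theorem E63957 : n182028 = n153317 := ((D182028).symm.trans (sb E61304 (iv5 F240872)))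
theorem E63958 : n182029 = n170678 := ((D182029).symm.trans (sb E61304 (iv6 F268180)))
theorem F307010 : act 4 n87402 = n58367 := (sb E61305 F200492)
theorem E63959 : n183101 = n153658 := ((D183101).symm.trans (sb E61305 F241544))
theorem E63960 : n183102 = n58361 := ((D183102).symm.trans (sb E61305 (iv7 D124826)))
theorem F307011 : act 4 n86938 = n58314 := (sb E61306 F199610)
theorem E63961 : n182026 = n153318 := ((D182026).symm.trans (sb E61306 F240874))
theorem E63962 : n183084 = n58339 := ((D183084).symm.trans (sb E61307 (iv6 D124781)))
theorem E63963 : n183088 = n153320 := ((D183088).symm.trans (sb E61308 F240877))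
theorem F307012 : act 6 n27779 = n40616 := (sb E61309 (iv6 D87397))
theorem F307013 : act 3 n33881 = n72879 := (sb E61312 (iv3 D154007))
theorem E63966 : n149422 = n97248 := ((((iv1 F150001)).symm.trans (sb E61313 (iv1 F235003)))).symm
theorem E63967 : n97247 = n59883 := ((F150006).symm.trans (sb E61313 (iv0 F191346)))
theorem E63968 : n149421 = n97250 := ((((iv2 F150004)).symm.trans (sb E61313 F234994))).symm
theorem E63969 : n150469 = n54027 := (((iv3 F236937)).symm.trans (sb E61313 (iv3 D117223)))
theorem E63970 : n170449 = n114018 := (((iv4 F267898)).symm.trans (sb E61313 (iv4 F190445)))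
theorem E63975 : n174307 = n60078 := ((D174307).symm.trans (sb E61316 (iv5 D127904)))
theorem F307017 : act 6 n83315 = n54551 := (sb E61316 (iv6 F303590))
theorem E63976 : n83678 = n68099 := ((F188260).symm.trans (sb E61317 F210363))
theorem F307018 : act 4 n119470 = n61598 := (sb E61317 F210364)
theorem E63977 : n83673 = n61597 := ((F188261).symm.trans (sb E61317 (iv6 D131270)))
theorem F307019 : act 1 n69793 = n61738 := (sb E61324 (iv0 D131575))
theorem F307020 : act 3 n37319 = n61741 := (sb E61325 F210828)
theorem E63978 : n117132 = n81652 := (((D81652).symm.trans (sb E61325 (iv5 F210829)))).symm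
theorem F307021 : act 6 n37319 = n61738 := (sb E61325 (iv6 D131579))
theorem F307022 : act 1 n149072 = n88104 := (sb E61326 (iv0 D184756))
theorem F307023 : act 5 n159186 = n88104 := (sb E61327 (iv5 D184758))
theorem F307024 : act 7 n86003 = n88104 := (sb E61328 (iv7 D184759))
theorem E63981 : n118565 = n114197 := (((iv4 F186477)).symm.trans (sb E61329 (iv4 F177989)))
theorem F307025 : act 6 n54627 = n33206 := (sb E61329 (iv6 D71850))
theorem F307026 : act 6 n54598 = n33264 := (sb E61330 (iv6 D72011))
theorem E63999 : n152657 = n29885 := (((F211574).symm.trans (sb E61333 D152657))).symm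
theorem F307027 : act 6 n135453 = n77704 := (sb E61352 (iv6 D161780))
theorem F307028 : act 3 n124989 = n60798 := (sb E61355 F207548)
theorem F307029 : act 6 n124989 = n60796 := (sb E61355 (iv6 D129380))
theorem F307030 : act 7 n124989 = n130843 := (sb E61355 (iv7 F209412))
theorem F307031 : act 5 n77627 = n61381 := (sb E61357 F209067)
theorem E64053 : n158419 = n77610 := ((D158419).symm.trans (sb E61358 (iv6 D161584)))
theorem F307032 : act 0 n83765 = n85290 := (sb E61359 (iv1 F239776))
theorem F307033 : act 5 n83765 = n152588 := (sb E61359 F239774)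
theorem E64054 : n175426 = n71817 := ((D175426).symm.trans (sb E61359 (iv6 D152248)))
theorem E64055 : n77613 = n38622 := (((iv1 F128805)).symm.trans (sb E61360 F262974))
theorem E64056 : n175412 = n167004 := ((D175412).symm.trans (sb E61360 F262979))
theorem F307034 : act 6 n83760 = n38598 := (sb E61360 (iv6 D83768))
theorem F307035 : act 3 n58263 = n85903 := (sb E61363 (iv3 D179858))
theorem F307036 : act 4 n60324 = n60165 := (sb E61364 F186625)
theorem F307037 : act 6 n60324 = n54633 := (sb E61364 (iv6 D118652))
theorem F307038 : act 7 n60324 = n73461 := (sb E61364 (iv7 F188422))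
theorem E64057 : n49828 = n32676 := (((iv1 F78764)).symm.trans (sb E61365 (iv1 D70397)))
theorem F307039 : act 3 n47257 = n67327 := (sb E61366 F226388)
theorem F307040 : act 0 n54335 = n67343 := (sb E61367 (iv1 F226406))
theorem F307041 : act 1 n54335 = n67326 := (sb E61367 (iv0 D143740))
theorem E64060 : n146120 = n26268 := (((F85745).symm.trans (sb E61367 (iv4 F229365)))).symm
theorem E64061 : n117952 = n116928 := (((iv5 F185009)).symm.trans (sb E61367 F226404))
theorem E64062 : n74158 = n32693 := (((F85746).symm.trans (sb E61367 F226405))).symm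
theorem F307042 : act 0 n54317 = n67326 := (sb E61368 F112275)
theorem F307043 : act 1 n54317 = n67343 := (sb E61368 F182251)
theorem E64065 : n117919 = n117167 := ((D117919).symm.trans (sb E61368 (iv5 F183298)))
theorem E64066 : n34277 = n26256 := ((((iv6 D54317)).symm.trans (sb E61368 (iv6 D74817)))).symm
theorem F307044 : act 2 n54333 = n67343 := (sb E61369 F182328)
theorem E64067 : n145947 = n117946 := (((D117946).symm.trans (sb E61369 (iv3 F229185)))).symm
theorem E64068 : n117947 = n68331 := ((D117947).symm.trans (sb E61369 F182330))
theorem F307045 : act 7 n54333 = n67326 := (sb E61369 F182329)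
theorem E64069 : n157334 = n151743 := (((D151743).symm.trans (sb E61370 D157334))).symm
theorem E64070 : n151744 = n49848 := ((D151744).symm.trans (sb E61370 F238762))
theorem E64071 : n157335 = n40130 := (((F108047).symm.trans (sb E61370 D157335))).symm
theorem E64072 : n157336 = n123017 := ((((iv4 F197123)).symm.trans (sb E61370 D157336))).symm
theorem E64073 : n151745 = n150694 := ((D151745).symm.trans (sb E61370 (iv5 F237245)))
theorem E64074 : n128395 = n68111 := (((iv7 F302288)).symm.trans (sb E61370 F112276))
theorem E64075 : n74490 = n26261 := ((((iv1 F110502)).symm.trans (sb E61372 (iv1 F111814)))).symm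
theorem E64076 : n30577 = n28672 := (((F77391).symm.trans (sb E61372 (iv0 D65124)))).symm
theorem E64079 : n68112 = n28674 := (((F77390).symm.trans (sb E61372 F209436))).symm
theorem F307048 : act 0 n31711 = n28675 := (sb E61373 F130779)
theorem F307049 : act 2 n31711 = n32687 := (sb E61373 F85740)
theorem E64080 : n83674 = n68102 := ((((iv3 F104240)).symm.trans (sb E61373 (iv3 F128739)))).symm
theorem E64081 : n65240 = n27015 := (((iv4 F100987)).symm.trans (sb E61373 F85741))
theorem E64082 : n117942 = n68081 := ((((iv5 F104199)).symm.trans (sb E61373 D117942))).symm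
theorem E64083 : n34278 = n26263 := (((iv6 F54374)).symm.trans (sb E61373 (iv6 D54331)))
theorem F307050 : act 1 n31710 = n32687 := (sb E61374 F131158)
theorem F307051 : act 2 n31710 = n28675 := (sb E61374 F94888)
theorem F307052 : act 0 n71358 = n74703 := (sb E61375 (iv1 D157128))
theorem F307053 : act 4 n55023 = n34304 := (sb E61376 F207959)
theorem E64086 : n156828 = n119585 := (((D119585).symm.trans (sb E61376 D156828))).symm
theorem E64087 : n65238 = n35977 := (((F131166).symm.trans (sb E61376 F207960))).symm
theorem E64088 : n119834 = n69848 := (((iv1 F189125)).symm.trans (sb E61377 F110409))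
theorem E64089 : n155204 = n119307 := ((((iv3 F187808)).symm.trans (sb E61377 D155204))).symm
theorem E64090 : n133597 = n33867 := ((D133597).symm.trans (sb E61377 (iv4 D73707)))
theorem E64091 : n155205 = n29644 := ((((iv5 D62701)).symm.trans (sb E61377 D155205))).symm
theorem E64092 : n119895 = n61504 := (((F162903).symm.trans (sb E61377 (iv7 F189274)))).symm
theorem E64093 : n116528 = n33822 := (((F87237).symm.trans (sb E61378 F182221))).symm
theorem E64096 : n153905 = n53802 := ((D153905).symm.trans (sb E61380 (iv5 D116773)))
theorem E64097 : n67338 = n33590 := (((F190720).symm.trans (sb E61380 F182292))).symm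
theorem E64098 : n133631 = n14762 := ((((iv1 F41117)).symm.trans (sb E61381 (iv1 F215006)))).symm
theorem E64099 : n118048 = n12331 := ((((iv0 D26015)).symm.trans (sb E61381 (iv0 F185435)))).symm
theorem F307054 : act 5 n26015 = n35990 := (sb E61381 (iv5 D79089))
theorem E64101 : n149750 = n53805 := (((D53805).symm.trans (sb E61381 F235527))).symm
theorem F307055 : act 7 n31307 = n35990 := (sb E61382 F120325)
theorem E64103 : n59768 = n26266 := ((((iv1 F85718)).symm.trans (sb E61383 (iv1 F204535)))).symm
theorem E64104 : n66666 = n32547 := (((F85715).symm.trans (sb E61383 F204534))).symm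
theorem E64105 : n133754 = n32690 := (((F85934).symm.trans (sb E61384 F215302))).symm
theorem E64106 : n68404 = n26318 := ((((iv7 D54421)).symm.trans (sb E61384 F189686))).symm
theorem E64107 : n146073 = n27711 := (((D27711).symm.trans (sb E61385 (iv5 F229306)))).symm
theorem E64109 : n146121 = n26267 := (((D26267).symm.trans (sb E61386 (iv5 F229370)))).symm
theorem E64111 : n117949 = n108006 := ((D117949).symm.trans (sb E61387 F166878))
theorem E64112 : n117950 = n108003 := ((D117950).symm.trans (sb E61387 (iv0 F166875)))
theorem E64113 : n146088 = n117951 := (((D117951).symm.trans (sb E61387 (iv4 F229332)))).symm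
theorem E64114 : n32545 = n31871 := ((F85743).symm.trans (sb E61387 (iv6 D68502)))
theorem E64115 : n26262 = n14975 := ((D26262).symm.trans (sb E61388 (iv1 D31823)))
theorem E64118 : n83550 = n79796 := ((D83550).symm.trans (sb E61389 (iv1 D166193)))
theorem E64119 : n84019 = n83551 := (((D83551).symm.trans (sb E61389 F302320))).symm
theorem E64120 : n84017 = n80172 := ((((iv2 F123119)).symm.trans (sb E61389 F303622))).symm
theorem E64121 : n84018 = n83553 := (((D83553).symm.trans (sb E61389 F303623))).symm
theorem F307056 : act 2 n60184 = n73461 := (sb E61391 F238066)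
theorem E64122 : n165311 = n79796 := (((iv2 F260561)).symm.trans (sb E61393 (tr (iv2 D174918) E64118)))
theorem E64123 : n165326 = n83551 := ((D165326).symm.trans (sb E61393 (iv7 F273821)))
theorem F307057 : act 1 n133136 = n83552 := (sb E61397 (iv0 D174928))
theorem F307058 : act 0 n61207 = n83552 := (sb E61398 (iv1 D174929))
theorem F307059 : act 5 n133134 = n83553 := (sb E61399 F273825)
theorem F307060 : act 7 n133134 = n83552 := (sb E61399 (iv7 D174931))
theorem F307061 : act 3 n143767 = n83553 := (sb E61400 F273820)
theorem F307062 : act 7 n143767 = n83549 := (sb E61400 (iv7 D174917))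
theorem F307063 : act 3 n29206 = n40145 := (sb E61414 (iv3 D86594))
theorem E64125 : n85030 = n56075 := (((F306869).symm.trans (sb E61414 F132840))).symm
theorem E64126 : n181371 = n61645 := ((((iv5 F96208)).symm.trans (sb E61414 D181371))).symm
theorem E64129 : n85081 = n29446 := ((((iv4 F47198)).symm.trans (sb E61415 F275255))).symm
theorem E64130 : n83032 = n61074 := ((((iv4 F185277)).symm.trans (sb E61416 (iv4 D173597)))).symm
theorem E64131 : n61077 = n18395 := ((((iv1 D38661)).symm.trans (sb E61417 (iv1 F97201)))).symm
theorem E64132 : n83034 = n29485 := ((F127954).symm.trans (sb E61417 (iv0 D62330)))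
theorem E64133 : n132813 = n83706 := ((((iv3 F187919)).symm.trans (sb E61417 D132813))).symm
theorem F307064 : act 4 n38661 = n29723 := (sb E61417 F185262)
theorem E64134 : n132814 = n83938 := (((D83938).symm.trans (sb E61417 D132814))).symm
theorem F307065 : act 7 n38661 = n61075 := (sb E61417 (iv7 F185275))
theorem E64136 : n129209 = n39944 := (((F94753).symm.trans (sb E61419 (iv1 F208543)))).symm
theorem E64137 : n129208 = n77020 := ((((iv0 F132282)).symm.trans (sb E61419 F208544))).symm
theorem F307066 : act 7 n60198 = n61073 := (sb E61419 (iv7 D130070))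
theorem F307067 : act 0 n76626 = n48988 := (sb E61420 (iv1 D105964))
theorem F307068 : act 4 n76626 = n54912 := (sb E61420 F191161)
theorem F307069 : act 3 n130863 = n69908 := (sb E61421 (iv3 D149048))
theorem E64138 : n179855 = n61398 := ((((iv6 D130863)).symm.trans (sb E61421 F280107))).symm
theorem F307070 : act 7 n130863 = n69977 := (sb E61421 F234381)
theorem E64139 : n95445 = n26529 := (((F46702).symm.trans (sb E61423 (iv1 F301072)))).symm
theorem F307071 : act 4 n57780 = n74858 := (sb E61424 (iv4 D157410))
theorem F307072 : act 0 n67217 = n54914 := (sb E62805 (iv1 F187843))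
theorem F307073 : act 1 n67217 = n54910 := (sb E62805 (iv0 D119317))
theorem F307074 : act 2 n67217 = n54911 := (sb E62805 (iv2 F187885))
theorem E64140 : n143508 = n58285 := (((iv3 F226219)).symm.trans (sb E62805 (iv3 F191108)))
theorem F307075 : act 7 n67217 = n54912 := (sb E62805 F187884)
theorem F307076 : act 6 n70394 = n86747 := (sb E61427 (iv6 D181722))
theorem E64141 : n70396 = n34305 := (((D34305).symm.trans (sb E61428 F120285))).symm
theorem E64142 : n164590 = n34306 := (((D34306).symm.trans (sb E61428 (iv5 F259496)))).symm
theorem F307077 : act 2 n73256 = n130863 := (sb E61429 (iv2 F209450))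
theorem E64146 : n156630 = n33712 := ((((iv3 D73256)).symm.trans (sb E61429 (iv3 F246347)))).symm
theorem F307078 : act 4 n73256 = n34302 := (sb E61429 F112356)
theorem E64148 : n124776 = n34301 := (((iv6 F200445)).symm.trans (sb E61429 (iv6 D74856)))
theorem F307079 : act 1 n166284 = n83706 := (sb E61431 F274139)
theorem F307080 : act 2 n166284 = n83656 := (sb E61431 (iv2 D175150))
theorem F307081 : act 3 n166284 = n83731 := (sb E61431 F274137)
theorem F307082 : act 7 n166284 = n83708 := (sb E61431 F274138)
theorem E64150 : n84070 = n56077 := (((F305920).symm.trans (sb E61432 F129058))).symm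
theorem E64151 : n85080 = n55704 := (((F305921).symm.trans (sb E61432 D85080))).symm
theorem E64152 : n60934 = n18655 := (((iv3 F95479)).symm.trans (sb E61432 (iv3 D39343)))
theorem E64153 : n85082 = n60945 := (((D60945).symm.trans (sb E61432 D85082))).symm
theorem E64154 : n85083 = n13770 := ((((iv6 D28898)).symm.trans (sb E61432 D85083))).symm
theorem E64155 : n118479 = n83160 := (((iv3 F186362)).symm.trans (sb E61435 (iv3 D173898)))
theorem E64156 : n83931 = n83314 := ((((iv3 F128416)).symm.trans (sb E61436 D83931))).symm
theorem E64157 : n83933 = n83321 := (((D83321).symm.trans (sb E61436 D83933))).symm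
theorem E64159 : n61065 = n18258 := (((iv3 F95584)).symm.trans (sb E61439 (iv3 D38212)))
theorem E64160 : n40180 = n13876 := (((F46585).symm.trans (sb E61439 (iv4 F61080)))).symm
theorem E64161 : n83035 = n61076 := (((D61076).symm.trans (sb E61439 D83035))).symm
theorem F307083 : act 0 n38662 = n61075 := (sb E61440 (iv1 F97202))
theorem E64162 : n132798 = n83044 := ((((iv3 F127978)).symm.trans (sb E61440 (iv3 F213289)))).symm
theorem F307084 : act 0 n119403 = n83708 := (sb E61441 (iv1 F272052))
theorem F307085 : act 1 n119403 = n83656 := (sb E61441 (iv0 F272051))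
theorem F307086 : act 0 n16244 = n19228 := (sb E61444 (iv1 D40756))
theorem F307087 : act 3 n118653 = n119417 := (sb E61450 F243559)
theorem F307088 : act 5 n118653 = n149321 := (sb E61450 F243557)
theorem F307089 : act 6 n118653 = n78336 := (sb E61450 (iv6 F243563))
theorem F307090 : act 0 n119912 = n149289 := (sb E61451 (iv1 F253018))
theorem F307091 : act 3 n119912 = n68601 := (sb E61451 F229615)
theorem F307092 : act 6 n119912 = n68598 := (sb E61451 (iv6 D146288))
theorem E64167 : n123180 = n69833 := ((D123180).symm.trans (sb E61452 (iv1 F234093)))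
theorem E64168 : n123181 = n69828 := ((D123181).symm.trans (sb E61452 (iv0 D148958)))
theorem E64169 : n123182 = n78339 := ((D123182).symm.trans (sb E61452 F234091))
theorem F307093 : act 5 n35705 = n33076 := (sb E61453 (iv5 D71495))
theorem E64172 : n74434 = n71521 := (((D71521).symm.trans (sb E61454 D74434))).symm
theorem E64173 : n74435 = n71522 := (((D71522).symm.trans (sb E61454 D74435))).symm
theorem F307094 : act 3 n33085 = n16531 := (sb E61454 F53609)
theorem E64175 : n71523 = n16530 := ((D71523).symm.trans (sb E61454 (iv5 D34142)))
theorem E64176 : n70489 = n30533 := (((iv7 F306553)).symm.trans (sb E61454 F53610))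
theorem E64177 : n85722 = n16530 := (E61455).trans E64175
theorem E64178 : n128344 = n34139 := (((D34139).symm.trans (sb E64177 F238763))).symm
theorem E64179 : n151754 = n34140 := (((D34140).symm.trans (sb E64177 (tr (iv0 F274346) E63162)))).symm
theorem E64180 : n179570 = n34141 := (((D34141).symm.trans (sb E64177 D179570))).symm
theorem E64181 : n85409 = n34134 := ((((iv4 F53588)).symm.trans (sb E64177 F131480))).symm
theorem E64182 : n150694 = n34143 := (((D34143).symm.trans (sb E64177 (iv6 F237246)))).symm
theorem E64183 : n118299 = n14486 := (((F26148).symm.trans (sb E64177 F200355))).symm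
theorem F307095 : act 5 n71536 = n58394 := (sb E61457 (iv5 D124912))
theorem F307096 : act 0 n73409 = n60324 := (sb E61459 (iv1 F185363))
theorem F307097 : act 1 n73409 = n60184 := (sb E61459 (iv0 F185360))
theorem F307098 : act 3 n73409 = n73151 := (sb E61459 F110487)
theorem E64184 : n154803 = n148447 := ((D154803).symm.trans (sb E61459 (iv5 F232195)))
theorem F307099 : act 4 n73413 = n155279 := (sb E61462 D155279)
theorem E64194 : n154895 = n150311 := ((D154895).symm.trans (sb E61465 F236552))
theorem E64195 : n154896 = n59939 := ((D154896).symm.trans (sb E61465 F205248))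
theorem F307100 : act 2 n73464 = n68336 := (sb E61465 F204891)
theorem E64196 : n154897 = n117733 := ((D154897).symm.trans (sb E61465 F204892))
theorem E64197 : n154898 = n59869 := ((D154898).symm.trans (sb E61465 (iv6 D127470)))
theorem F307101 : act 3 n73483 = n59968 := (sb E61466 (iv3 F205246))
theorem E64198 : n154922 = n117872 := ((D154922).symm.trans (sb E61466 (iv4 F205269)))
theorem F307102 : act 7 n73483 = n68336 := (sb E61466 (iv7 F205247))
theorem F307103 : act 3 n86009 = n57748 := (sb E61469 (iv3 D123952))
theorem F307104 : act 3 n74058 = n79712 := (sb E61474 F261415)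
theorem F307105 : act 3 n124981 = n85374 := (sb E61476 F278855)
theorem E64207 : n131239 = n85051 := ((D131239).symm.trans (iv3 (sb E61477 (tr (iv3 D179585) E63373))))
theorem F307106 : act 3 n85364 = n76038 := (sb E61478 (iv3 D159119))
theorem E64208 : n178962 = n158997 := ((D178962).symm.trans (sb E61478 F250520))
theorem E64209 : n178963 = n145827 := ((D178963).symm.trans (sb E61478 F250518))
theorem F307107 : act 5 n58451 = n76570 := (sb E61479 (iv5 D159943))
theorem F307108 : act 5 n85407 = n71550 := (sb E61481 (iv5 D151787))
theorem E64210 : n179043 = n151359 := ((D179043).symm.trans (sb E61482 (tr (iv0 F257048) E62274)))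
theorem E64211 : n179044 = n154112 := ((D179044).symm.trans (sb E61482 (iv3 F242181)))
theorem F307109 : act 6 n85419 = n60225 := (sb E61482 (iv6 D128135))
theorem F307110 : act 3 n85424 = n58617 := (sb E61483 (iv3 D125259))
theorem F307111 : act 6 n85685 = n73409 := (sb E61484 F232972)
theorem F307112 : act 5 n120599 = n58397 := (sb E61485 (iv5 D124919))
theorem F307113 : act 7 n120599 = n73421 := (sb E61485 F200646)
theorem E64213 : n138978 = n55025 := (((D55025).symm.trans (sb E61488 D138978))).symm
theorem E64214 : n74582 = n54901 := ((((iv7 F162715)).symm.trans (sb E61488 (iv7 F207957)))).symm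
theorem E64215 : n139782 = n32860 := (E61869).trans E61878
theorem E64216 : n150515 = n143733 := ((((iv3 F226389)).symm.trans (sb E61489 D150515))).symm
theorem E64217 : n143747 = n54852 := ((D143747).symm.trans (sb E61489 (iv4 F110793)))
theorem E64219 : n139780 = n54849 := (E61872).trans E61875
theorem F307115 : act 0 n33878 = n31307 := (sb E61490 (iv1 F103211))
theorem F307116 : act 1 n33878 = n31302 := (sb E61490 (iv0 D67324))
theorem E64220 : n143735 = n18648 := (((F53239).symm.trans (sb E61490 D143735))).symm
theorem E64221 : n143736 = n73729 := ((((iv4 F110451)).symm.trans (sb E61490 D143736))).symm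
theorem E64222 : n66984 = n55098 := ((((iv5 F87145)).symm.trans (sb E61490 F103207))).symm
theorem F307117 : act 0 n27018 = n31302 := (sb E61491 (iv1 D67325))
theorem F307118 : act 1 n27018 = n31307 := (sb E61491 F103208)
theorem E64227 : n143721 = n55048 := ((((iv2 F184960)).symm.trans (sb E61492 (iv2 F226385)))).symm
theorem F307119 : act 3 n26614 = n31302 := (sb E61492 F103199)
theorem E64229 : n55064 = n31300 := ((D55064).symm.trans (sb E61492 (iv5 D67315)))
theorem E64231 : n131193 = n26017 := ((((iv1 F41119)).symm.trans (sb E61493 (iv1 F210148)))).symm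
theorem E64232 : n70323 = n7033 := ((((iv0 D14760)).symm.trans (sb E61493 (iv0 F188783)))).symm
theorem E64233 : n79093 = n26016 := ((((iv7 F182244)).symm.trans (sb E61493 F188782))).symm
theorem F307120 : act 2 n35991 = n31307 := (sb E61494 F182238)
theorem E64234 : n116791 = n79094 := (((D79094).symm.trans (sb E61494 D116791))).symm
theorem F307121 : act 7 n35991 = n31302 := (sb E61494 F182239)
theorem E64235 : n67881 = n61479 := ((F108634).symm.trans (sb E61495 (iv1 D131055)))
theorem E64236 : n131243 = n67876 := ((((iv0 F105751)).symm.trans (sb E61495 F210301))).symm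
theorem F307122 : act 4 n69456 = n62815 := (sb E61495 F209758)
theorem E64237 : n174914 = n60208 := ((D174914).symm.trans (sb E61496 (iv1 F206057)))
theorem E64238 : n174915 = n60167 := ((D174915).symm.trans (sb E61496 (iv0 D128049)))
theorem F307123 : act 2 n83549 = n60205 := (sb E61496 (iv2 F206056))
theorem F307124 : act 4 n83549 = n72820 := (sb E61496 F206055)
theorem E64239 : n143767 = n60206 := (((iv7 F307062)).symm.trans (sb E61496 F206058))
theorem F307125 : act 4 n131339 = n178889 := (sb E61497 F279484)
theorem F307126 : act 7 n29725 = n39569 := (sb E61498 (iv7 F60443))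
theorem F307127 : act 2 n61645 = n39569 := (sb E61499 (iv2 D85645))
theorem E64241 : n86643 = n86595 := (((E62793).symm.trans (((iv3 F210494)).symm.trans (sb E61499 (iv3 F300087))))).symm
theorem E64244 : n75989 = n62933 := (((F167571).symm.trans (sb E61500 (iv1 D159084)))).symm
theorem E64245 : n149811 = n131655 := (((D131655).symm.trans (sb E61500 F250454))).symm
theorem E64246 : n179511 = n131344 := ((((iv7 F210522)).symm.trans (sb E61500 (iv7 F279488)))).symm
theorem F307128 : act 0 n61642 = n39569 := (sb E61501 (iv1 D85644))
theorem F307129 : act 6 n61642 = n54333 := (sb E61501 F199955)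
theorem F307130 : act 1 n34400 = n61776 := (sb E61503 F110506)
theorem E64248 : n75123 = n70815 := ((D75123).symm.trans (sb E61503 F110507))
theorem E64249 : n85823 = n75124 := (((D75124).symm.trans (sb E61503 (iv6 F199742)))).symm
theorem F307131 : act 0 n34392 = n61776 := (sb E61504 F96358)
theorem E64250 : n73720 = n16670 := ((((iv4 D34392)).symm.trans (sb E61504 (iv4 F110432)))).symm
theorem E64251 : n75095 = n36827 := ((D75095).symm.trans (sb E61504 F303011))
theorem E64252 : n75096 = n26317 := ((D75096).symm.trans (sb E61504 (iv6 D54416)))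
theorem E64253 : n107991 = n29753 := ((((iv1 F47840)).symm.trans (sb E61506 (iv1 F244402)))).symm
theorem E64254 : n73882 = n13916 := ((((iv0 D29282)).symm.trans (sb E61506 (iv0 D155436)))).symm
theorem E64255 : n79892 = n61196 := ((((iv4 F130949)).symm.trans (sb E61506 F244401))).symm
theorem E64256 : n157532 = n29752 := (((F110516).symm.trans (sb E61506 (iv7 F248251)))).symm
theorem F307132 : act 1 n61579 = n117767 := (sb E61508 (iv0 F184447))
theorem E64257 : n85059 = n61616 := ((((iv3 F185312)).symm.trans (sb E61508 F200230))).symm
theorem E64258 : n116445 = n31978 := (((iv5 F181647)).symm.trans (sb E61508 (iv5 D68737)))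
theorem E64259 : n56000 = n29158 := (((F96125).symm.trans (sb E61508 (iv6 F104927)))).symm
theorem E64260 : n132696 = n79375 := (((F304103).symm.trans (sb E61509 (iv3 F213028)))).symm
theorem F307133 : act 4 n68732 = n62757 := (sb E61509 F209759)
theorem E64262 : n133609 = n73712 := (((F110415).symm.trans (sb E61509 (iv6 F214969)))).symm
theorem E64263 : n143768 = n72840 := (((iv3 F226428)).symm.trans (sb E61510 F190715))
theorem E64264 : n143773 = n32310 := ((D143773).symm.trans (sb E61510 (iv5 D69590)))
theorem F307134 : act 7 n67344 = n117767 := (sb E61510 (iv7 F184446))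
theorem E64265 : n131331 = n86642 := ((D131331).symm.trans (sb E61511 (iv1 F198441)))
theorem E64266 : n131332 = n86641 := ((D131332).symm.trans (sb E61511 F198439))
theorem E64267 : n86592 = n57796 := ((E62791).symm.trans (((iv2 F166739)).symm.trans (sb E61511 (iv2 D124056))))
theorem E64268 : n131333 = n57817 := ((D131333).symm.trans (sb E61511 F198437))
theorem E64270 : n131346 = n39775 := ((((iv3 F60609)).symm.trans (sb E61512 D131346))).symm
theorem F307135 : act 4 n39602 = n29205 := (sb E61512 (iv4 D61644))
theorem E64271 : n66447 = n31859 := ((((iv5 F199766)).symm.trans (sb E61512 (iv5 F102344)))).symm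
theorem E64272 : n29207 = n18752 := ((((iv6 D39602)).symm.trans (sb E61512 F96207))).symm
theorem E64273 : n70575 = n29203 := (((D29203).symm.trans (sb E61513 (iv1 D150017)))).symm
theorem E64277 : n62806 = n39570 := (((D39570).symm.trans (sb E61515 F205893))).symm
theorem E64278 : n145278 = n39571 := (((D39571).symm.trans (sb E61515 (iv6 F228272)))).symm
theorem E64279 : n138355 = n39643 := (((D39643).symm.trans (sb E61516 (iv6 F221591)))).symm
theorem F307136 : act 5 n29726 = n39569 := (sb E61517 (iv5 D85646))
theorem E64282 : n70443 = n62789 := ((((iv1 F109905)).symm.trans (sb E61518 (iv1 F200376)))).symm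
theorem F307137 : act 6 n68107 = n39569 := (sb E61518 (iv6 D85647))
theorem E64284 : n107999 = n70869 := ((F166865).symm.trans (sb E61519 (iv5 D150418)))
theorem F307138 : act 0 n120649 = n62871 := (sb E61520 (iv1 F209882))
theorem E64285 : n60106 = n55596 := (((F192305).symm.trans (sb E61520 (iv3 D127939)))).symm
theorem F307139 : act 4 n120649 = n135465 := (sb E61520 (iv4 F217815))
theorem F307140 : act 6 n120649 = n131633 := (sb E61520 (iv6 F210864))
theorem F307141 : act 1 n128070 = n119747 := (sb E61522 F257266)
theorem F307142 : act 4 n128070 = n78336 := (sb E61522 (iv4 D162931))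
theorem F307143 : act 7 n128070 = n106004 := (sb E61522 F257265)
theorem E64286 : n128070 = n81680 := (((iv1 F307141)).symm.trans (sb E61523 F303041))
theorem E64287 : n181330 = n60224 := (((F190937).symm.trans (sb E61523 F282417))).symm
theorem E64288 : n149899 = n55115 := (((F188937).symm.trans (sb E61523 F257156))).symm
theorem F307144 : act 5 n119747 = n78293 := (sb E61523 (iv5 D162862))
theorem F307145 : act 2 n120878 = n78290 := (sb E61524 F252383)
theorem F307146 : act 4 n120878 = n123226 := (sb E61524 F252384)
theorem F307147 : act 7 n120878 = n76607 := (sb E61524 (iv7 D160005))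
theorem F307148 : act 4 n55140 = n32794 := (sb E61527 (iv4 D70745))
theorem E64290 : n120180 = n36160 := (((F304238).symm.trans (sb E61527 (iv5 F189810)))).symm
theorem E64292 : n133756 = n118131 := (((D118131).symm.trans (sb E61528 (iv3 F215308)))).symm
theorem F307149 : act 6 n54418 = n32794 := (sb E61528 (iv6 D70746))
theorem F307150 : act 1 n70753 = n61499 := (sb E61532 (iv0 F110420))
theorem E64294 : n150273 = n119845 := ((D150273).symm.trans (sb E61532 (iv3 F189158)))
theorem E64295 : n120181 = n71706 := (((iv5 F189817)).symm.trans (sb E61532 F110418))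
theorem E64296 : n131109 = n119830 := (((iv6 F209984)).symm.trans (sb E61532 (iv6 F189106)))
theorem E64298 : n70905 = n24319 := (((F56387).symm.trans (sb E61534 F236909))).symm
theorem F307151 : act 5 n35707 = n76607 := (sb E61536 (iv5 D160004))
theorem E64301 : n159975 = n139184 := ((((iv4 F222360)).symm.trans (sb E61537 (iv4 F252340)))).symm
theorem E64302 : n155945 = n149330 := (((iv5 F244955)).symm.trans (sb E61537 (iv5 F261453)))
theorem E64303 : n150639 = n139181 := ((((iv7 F222355)).symm.trans (sb E61537 (iv7 F261465)))).symm
theorem F307152 : act 3 n133819 = n80577 := (sb E61538 F264504)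
theorem F307153 : act 4 n133819 = n80608 := (sb E61538 F264505)
theorem E64304 : n133832 = n133819 := ((D133832).symm.trans (iv7 (sb E61538 (tr (iv7 D167871) E62060))))
theorem F307154 : act 0 n101278 = n166114 := (sb E61539 F261556)
theorem F307155 : act 7 n101278 = n154008 := (sb E61539 F242316)
theorem F307156 : act 0 n175424 = n86003 := (sb E61541 (iv1 D179978))
theorem F307157 : act 2 n175424 = n149072 := (sb E61541 F280302)
theorem F307158 : act 5 n175424 = n144932 := (sb E61541 F280300)
theorem F307159 : act 6 n175424 = n123735 := (sb E61541 F280304)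
theorem F307160 : act 0 n103702 = n68461 := (sb E61542 (iv1 F204848))
theorem F307161 : act 1 n103702 = n59858 := (sb E61542 (iv0 D127442))
theorem F307162 : act 2 n103702 = n68459 := (sb E61542 F204852)
theorem F307163 : act 3 n103702 = n70778 := (sb E61542 (iv3 F204851))
theorem F307164 : act 7 n103702 = n68460 := (sb E61542 F204850)
theorem E64305 : n182130 = n101334 := ((F286766).symm.trans (sb E61543 (tr (iv1 F268138) E63489)))
theorem E64306 : n184723 = n81809 := ((D184723).symm.trans (sb E61543 (iv0 D170668)))
theorem E64307 : n84413 = n48028 := ((((iv6 D103702)).symm.trans (sb E61546 (iv6 D177136)))).symm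
theorem F307165 : act 6 n146026 = n84414 := (sb E61547 (iv6 D177142))
theorem F307166 : act 6 n120581 = n84415 := (sb E61548 (iv6 D177148))
theorem F307167 : act 6 n38924 = n68459 := (sb E61549 (iv6 D146029))
theorem F307168 : act 6 n83553 = n38661 := (sb E61551 (iv6 D83939))
theorem E64313 : n131364 = n86459 := (((iv3 F210575)).symm.trans (sb E61552 (iv3 D181029)))
theorem E64314 : n181811 = n131391 := ((((iv4 F210600)).symm.trans (sb E61552 F282995))).symm
theorem F307169 : act 0 n62860 = n40152 := (sb E61553 (iv1 D86621))
theorem E64315 : n133849 = n101306 := ((D133849).symm.trans (sb E61553 F156088))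
theorem E64318 : n133850 = n101303 := ((D133850).symm.trans (sb E61553 (iv7 F287045)))
theorem F307170 : act 7 n127691 = n86959 := (sb E61554 (iv7 D182083))
theorem F307171 : act 0 n120097 = n86959 := (sb E61563 F282544)
theorem F307172 : act 1 n127979 = n86959 := (sb E61564 (iv0 D182081))
theorem E64319 : n148941 = n71228 := ((D148941).symm.trans (sb E61565 F243402))
theorem F307173 : act 6 n69823 = n70996 := (sb E61565 (iv6 D150625))
theorem E64320 : n148943 = n71080 := ((D148943).symm.trans (sb E61565 F237165))
theorem F307174 : act 6 n62761 = n70754 := (sb E61566 (iv6 D150274))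
theorem E64321 : n38918 = n29698 := (((F47736).symm.trans (sb E61567 (iv0 D84397)))).symm
theorem E64322 : n177079 = n29716 := ((((iv3 F47755)).symm.trans (sb E61567 D177079))).symm
theorem F307175 : act 6 n29193 = n40144 := (sb E61567 (iv6 F303834))
theorem E64323 : n34675 = n29741 := (((D29741).symm.trans (sb E61568 (iv4 D75839)))).symm
theorem E64326 : n69572 = n61765 := (((D61765).symm.trans (sb E61569 (iv4 D148477)))).symm
theorem E64327 : n81678 = n61766 := (((D61766).symm.trans (sb E61569 F303035))).symm
theorem E64328 : n133704 = n32385 := (((F51928).symm.trans (sb E61570 D133704))).symm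
theorem F307176 : act 4 n32799 = n29691 := (sb E61570 (iv4 D62763))
theorem E64329 : n133705 = n70758 := (((D70758).symm.trans (sb E61570 D133705))).symm
theorem E64330 : n70759 = n61613 := ((D70759).symm.trans (sb E61570 F97923))
theorem F307177 : act 1 n62866 = n40152 := (sb E61573 (iv0 D86620))
theorem E64334 : n133853 = n101291 := ((((iv3 F156075)).symm.trans (sb E61574 D133853))).symm
theorem E64335 : n101305 = n62793 := ((D101305).symm.trans (sb E61574 F185319))
theorem E64336 : n40050 = n34323 := ((F74455).symm.trans (sb E61574 F185320))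
theorem F307178 : act 4 n60110 = n40152 := (sb E61575 (iv4 D86622))
theorem E64341 : n40163 = n28558 := ((((iv6 D60110)).symm.trans (sb E61575 F132858))).symm
theorem E64343 : n34729 = n34319 := (((iv1 F297816)).symm.trans (sb E61576 (iv1 F94669)))
theorem E64344 : n40162 = n34327 := ((D40162).symm.trans (sb E61576 F94670))
theorem E64345 : n40164 = n28557 := ((D40164).symm.trans (sb E61576 (iv7 D60109)))
theorem F307179 : act 5 n62865 = n40153 := (sb E61577 F132859)
theorem F307180 : act 6 n62865 = n181465 := (sb E61577 D181465)
theorem F307181 : act 7 n62865 = n40152 := (sb E61577 (iv7 D86623))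
theorem E64346 : n181383 = n62692 := ((D181383).symm.trans (sb E61578 (iv3 D133585)))
theorem E64347 : n181384 = n136618 := ((D181384).symm.trans (sb E61578 (iv5 F219757)))
theorem F307182 : act 6 n86599 = n107967 := (sb E61578 (iv6 F214897))
theorem E64348 : n179549 = n97944 := (((iv7 F279592)).symm.trans (sb E61578 (tr F214896 E62403)))
theorem F307183 : act 1 n65343 = n40146 := (sb E61579 (iv0 D86597))
theorem E64351 : n96756 = n30650 := ((((iv5 D65343)).symm.trans (sb E61579 (iv5 F298531)))).symm
theorem E64353 : n181378 = n70869 := ((D181378).symm.trans (sb E61580 (tr F248023 E64284)))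
theorem E64354 : n181379 = n136655 := ((D181379).symm.trans (sb E61580 F248025))
theorem F307184 : act 5 n60107 = n39587 := (sb E61581 (iv5 D85671))
theorem F307185 : act 6 n60107 = n179550 := (sb E61581 D179550)
theorem F307186 : act 7 n60107 = n40146 := (sb E61581 F131398)
theorem F307187 : act 2 n127967 = n118815 := (sb E61583 F243649)
theorem F307188 : act 4 n127967 = n73499 := (sb E61583 (iv4 D154946))
theorem E64355 : n128304 = n10306 := (((D10306).symm.trans (sb E61584 (iv1 F234802)))).symm
theorem E64360 : n67894 = n26278 := ((((iv5 F41820)).symm.trans (sb E61588 F104555))).symm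
theorem E64361 : n61638 = n32738 := (((D32738).symm.trans (sb E61588 (iv6 F104556)))).symm
theorem E64369 : n34279 = n34145 := (((iv6 F305135)).symm.trans (sb E61594 F111725))
theorem E64372 : n34355 = n15811 := (((D15811).symm.trans (sb E61595 (iv6 D74986)))).symm
theorem E64374 : n65193 = n3395 := ((((iv1 F9262)).symm.trans (sb E61597 (iv1 D138863)))).symm
theorem F307189 : act 1 n32851 = n61741 := (sb E61599 F228038)
theorem E64378 : n106081 = n32613 := (((F52024).symm.trans (sb E61599 F167576))).symm
theorem E64379 : n70901 = n50051 := ((D70901).symm.trans (sb E61599 (iv6 D108395)))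
theorem E64381 : n106086 = n7945 := (((F24983).symm.trans (sb E61600 (iv4 F163061)))).symm
theorem E64382 : n32614 = n23916 := ((D32614).symm.trans (sb E61600 (iv6 D49029)))
theorem E64383 : n70891 = n24321 := (((F38266).symm.trans (sb E61601 (iv0 F130983)))).symm
theorem F307190 : act 6 n24409 = n15813 := (sb E61601 (iv6 D32852))
theorem E64384 : n128430 = n7944 := (((F24982).symm.trans (sb E61602 (iv4 F206561)))).symm
theorem E64385 : n32612 = n31866 := ((D32612).symm.trans (sb E61602 F94906))
theorem E64386 : n70897 = n29723 := ((D70897).symm.trans (sb E61603 (iv5 D62810)))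
theorem E64387 : n70898 = n50050 := ((D70898).symm.trans (sb E61603 F98018))
theorem E64388 : n26107 = n25673 := (((iv3 F41294)).symm.trans (sb E61604 (iv3 F41848)))
theorem E64389 : n26012 = n12488 := (((iv4 F41108)).symm.trans (sb E61604 (iv4 D26285)))
theorem E64390 : n16594 = n15570 := (((iv5 F27078)).symm.trans (sb E61604 F41846))
theorem E64392 : n31289 = n12491 := (((iv4 F49570)).symm.trans (sb E61605 (iv4 D26290)))
theorem E64393 : n54379 = n26060 := ((((iv6 F41206)).symm.trans (sb E61605 D54379))).symm
theorem E64394 : n14581 = n7958 := (((F26551).symm.trans (sb E61606 (iv1 D30787)))).symm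
theorem E64395 : n53428 = n7963 := (((F26552).symm.trans (sb E61606 F84286))).symm
theorem F307191 : act 4 n15047 = n26109 := (sb E61606 (iv4 F180997))
theorem E64397 : n65773 = n7157 := ((((iv5 D15047)).symm.trans (sb E61606 D65773))).symm
theorem E64398 : n31814 = n7161 := (((F26554).symm.trans (sb E61606 F180996))).symm
theorem F307192 : act 5 n14973 = n15796 := (sb E61607 F26908)
theorem F307193 : act 3 n73978 = n74703 := (sb E61610 F247232)
theorem E64400 : n107885 = n74785 := (((iv6 F166697)).symm.trans (sb E61610 F247233))
theorem E64401 : n85455 = n74589 := ((((iv1 F245870)).symm.trans (sb E61611 F200240))).symm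
theorem E64402 : n74594 = n55329 := (((iv0 F245871)).symm.trans (sb E61611 F200241))
theorem E64403 : n39405 = n16586 := (((F53862).symm.trans (sb E61611 (iv5 D85272)))).symm
theorem F307194 : act 6 n34230 = n54560 := (sb E61611 F200244)
theorem E64404 : n85462 = n30653 := (((F53863).symm.trans (sb E61611 F200245))).symm
theorem E64405 : n74788 = n24297 := (E63097).trans E63707
theorem F307195 : act 2 n34266 = n34304 := (sb E61612 F86574)
theorem E64406 : n107887 = n16587 := ((((iv5 D34266)).symm.trans (sb E61612 D107887))).symm
theorem E64407 : n74790 = n34305 := (E63099).trans E64141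
theorem E64408 : n85038 = n16560 := ((((iv3 F26218)).symm.trans (sb E61613 F186180))).symm
theorem E64409 : n54533 = n3486 := ((((iv5 D7691)).symm.trans (sb E61613 (iv5 F110387)))).symm
theorem E64410 : n149994 = n16564 := (((D16564).symm.trans (sb E61613 (iv6 F235969)))).symm
theorem E64412 : n54534 = n6937 := (((F12030).symm.trans (sb E61614 F107021))).symm
theorem E64414 : n39361 = n14593 := ((((iv1 F24250)).symm.trans (sb E61615 F199839))).symm
theorem E64415 : n118955 = n14078 := ((((iv0 F23520)).symm.trans (sb E61615 (iv0 F187059)))).symm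
theorem E64416 : n125256 = n3499 := ((((iv4 D7708)).symm.trans (sb E61615 (iv4 F201423)))).symm
theorem E64417 : n33325 = n11481 := ((((iv7 F18761)).symm.trans (sb E61615 (iv7 D72199)))).symm
theorem F307196 : act 6 n14528 = n26640 := (sb E61616 (iv6 D55129))
theorem F307197 : act 1 n24403 = n17125 := (sb E61617 F297130)
theorem E64418 : n76012 = n11504 := (((F38252).symm.trans (sb E61617 D76012))).symm
theorem E64419 : n76013 = n50036 := (((D50036).symm.trans (sb E61617 D76013))).symm
theorem E64423 : n148975 = n50054 := ((((iv7 F79227)).symm.trans (sb E61619 F236954))).symm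
theorem E64424 : n149788 = n24315 := ((((iv3 F38099)).symm.trans (sb E61621 D149788))).symm
theorem E64427 : n27872 = n14906 := ((((iv5 F24548)).symm.trans (sb E61622 (iv5 D58582)))).symm
theorem F307198 : act 4 n70540 = n70235 := (sb E61625 (iv4 D149559))
theorem E64435 : n141084 = n74102 := ((((iv5 F110837)).symm.trans (sb E61625 F235165))).symm
theorem E64436 : n149968 = n139277 := ((D149968).symm.trans (sb E61625 (iv6 F235168)))
theorem E64437 : n139261 = n16064 := ((((iv3 D33271)).symm.trans (sb E61626 (iv3 F222440)))).symm
theorem F307199 : act 4 n33271 = n70239 := (sb E61626 F106694)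
theorem E64439 : n72040 = n30655 := ((D72040).symm.trans (sb E61626 (iv6 D65364)))
theorem E64440 : n152944 = n49977 := (((iv5 F240177)).symm.trans (sb E61629 (iv5 D108214)))
theorem E64442 : n133781 = n58371 := ((D133781).symm.trans (sb E61630 F200498))
theorem E64443 : n158717 = n133782 := (((D133782).symm.trans (sb E61630 F304663))).symm
theorem E64444 : n58369 = n30623 := (((F211924).symm.trans (sb E61630 (iv5 D124838)))).symm
theorem E64445 : n153605 = n133783 := (((D133783).symm.trans (sb E61630 F241448))).symm
theorem E64446 : n150249 = n63647 := ((((iv4 F98981)).symm.trans (sb E61631 (iv4 F237875)))).symm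
theorem E64447 : n71248 = n30624 := (((F211927).symm.trans (sb E61631 (iv5 D151177)))).symm
theorem E64448 : n133785 = n71976 := ((D133785).symm.trans (sb E61631 F237872))
theorem E64449 : n124743 = n49974 := (((D49974).symm.trans (sb E61632 (iv1 F240621)))).symm
theorem E64450 : n124765 = n49975 := (((D49975).symm.trans (sb E61632 (iv0 F240620)))).symm
theorem E64451 : n118954 = n16568 := (((F38203).symm.trans (sb E61632 F240619))).symm
theorem E64454 : n129787 = n119585 := (((D119585).symm.trans (sb E61634 F208137))).symm
theorem E64456 : n66478 = n32676 := (E61635).trans E64057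
theorem E64457 : n141778 = n70395 := ((((iv3 F106874)).symm.trans (sb E64456 (iv3 F224803)))).symm
theorem E64458 : n138594 = n15563 := (((F51758).symm.trans (sb E64456 (iv4 F221763)))).symm
theorem E64459 : n70398 = n31036 := ((D70398).symm.trans (sb E64456 (iv5 D66478)))
theorem E64462 : n74554 = n34306 := (((D34306).symm.trans (sb E61636 F167327))).symm
theorem E64464 : n118949 = n30564 := ((((iv1 F53620)).symm.trans (sb E61637 (iv1 F187046)))).symm
theorem E64465 : n118948 = n25873 := ((((iv0 F40874)).symm.trans (sb E61637 F187045))).symm
theorem E64466 : n150725 = n11489 := (((F38205).symm.trans (sb E61637 (iv4 F237285)))).symm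
theorem F307200 : act 5 n24369 = n34304 := (sb E61637 F108628)
theorem E64467 : n33323 = n30745 := ((((iv7 F49203)).symm.trans (sb E61637 (iv7 D72194)))).symm
theorem E64469 : n119785 = n30648 := (((D30648).symm.trans (sb E61639 F237930))).symm
theorem E64470 : n85156 = n30647 := ((((iv2 F49102)).symm.trans (sb E61639 F237926))).symm
theorem E64471 : n71266 = n6935 := ((((iv5 D14526)).symm.trans (sb E61639 (iv5 D151216)))).symm
theorem E64474 : n54535 = n6933 := (((D6933).symm.trans (sb E61641 (iv1 F86165)))).symm
theorem E64475 : n15881 = n6934 := (((D6934).symm.trans (sb E61641 (iv0 D32982)))).symm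
theorem E64476 : n71267 = n1395 := ((((iv4 D3123)).symm.trans (sb E61641 D71267))).symm
theorem E64477 : n70322 = n1409 := (((F4846).symm.trans (sb E61641 F106775))).symm
theorem E64480 : n55294 = n54614 := ((D55294).symm.trans (sb E61643 (iv1 F130508)))
theorem E64481 : n85165 = n55295 := (((D55295).symm.trans (sb E61643 (iv0 F130507)))).symm
theorem E64482 : n55318 = n55296 := (((D55296).symm.trans (sb E61643 (iv2 F186110)))).symm
theorem E64483 : n85182 = n55288 := ((((iv4 F87498)).symm.trans (sb E61643 D85182))).symm
theorem E64484 : n18664 = n16561 := (((F42834).symm.trans (sb E61643 (iv5 D39380)))).symm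
theorem E64485 : n55297 = n54813 := ((D55297).symm.trans (sb E61643 (iv6 F86736)))
theorem E64487 : n70360 = n12775 := (((D12775).symm.trans (sb E61644 (iv6 D149781)))).symm
theorem E64488 : n71271 = n3487 := (((F11957).symm.trans (sb E61645 D71271))).symm
theorem E64489 : n71273 = n16565 := (((D16565).symm.trans (sb E61645 D71273))).symm
theorem E64490 : n50049 = n32731 := (((iv1 F79214)).symm.trans (sb E61646 (iv1 F85940)))
theorem E64491 : n55299 = n32730 := ((D55299).symm.trans (sb E61646 (iv7 F186135)))
theorem E64492 : n152953 = n30527 := (((D30527).symm.trans (sb E61647 D152953))).symm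
theorem E64493 : n152954 = n6918 := ((((iv4 D14484)).symm.trans (sb E61647 D152954))).symm
theorem E64495 : n33337 = n24672 := ((((iv6 F38667)).symm.trans (sb E61647 F187068))).symm
theorem E64496 : n39317 = n29098 := (((D29098).symm.trans (sb E61648 F199812))).symm
theorem E64499 : n69359 = n29097 := ((((iv6 F46746)).symm.trans (sb E61648 (iv6 F108631)))).symm
theorem E64501 : n39605 = n6551 := ((((iv0 F10612)).symm.trans (sb E61649 (iv0 D85731)))).symm
theorem E64504 : n118304 = n3489 := (((F8129).symm.trans (sb E61649 F201413))).symm
theorem E64505 : n26472 = n16569 := (((D16569).symm.trans (sb E61650 (iv6 D54743)))).symm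
theorem F307201 : act 4 n16366 = n16590 := (sb E61651 F53861)
theorem F307202 : act 6 n16366 = n16562 := (sb E61651 (iv6 D34229))
theorem E64507 : n131637 = n119783 := ((((iv3 F232616)).symm.trans (sb E61652 (iv3 F210880)))).symm
theorem E64509 : n131635 = n32311 := ((((iv6 F87198)).symm.trans (sb E61652 F210873))).symm
theorem E64512 : n139250 = n119800 := (((D119800).symm.trans (sb E61653 D139250))).symm
theorem E64515 : n50028 = n17128 := ((D50028).symm.trans (sb E61655 F56009))
theorem F307203 : act 6 n24400 = n36689 := (sb E61655 (iv6 F57568))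
theorem F307204 : act 7 n24400 = n17125 := (sb E61655 (iv7 D35283))
theorem F307205 : act 0 n24398 = n17125 := (sb E61656 (iv1 D35281))
theorem E64518 : n50024 = n45173 := ((D50024).symm.trans (sb E61656 F297134))
theorem E64519 : n50030 = n12834 := ((D50030).symm.trans (sb E61657 F43229))
theorem E64520 : n50031 = n12832 := ((D50031).symm.trans (sb E61657 (iv5 D26840)))
theorem E64521 : n50032 = n16853 := ((D50032).symm.trans (sb E61657 (iv6 F43231)))
theorem E64522 : n44908 = n11500 := (((D11500).symm.trans (sb E61658 (iv1 D96198)))).symm
theorem E64524 : n50033 = n45213 := ((D50033).symm.trans (sb E61659 (iv1 F71265)))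
theorem E64525 : n50034 = n17931 := ((D50034).symm.trans (sb E61659 F59740))
theorem E64526 : n76158 = n15697 := (((F38250).symm.trans (sb E61659 D76158))).symm
theorem E64527 : n50035 = n35153 := ((D50035).symm.trans (sb E61659 (iv7 F55872)))
theorem E64528 : n50042 = n15719 := ((D50042).symm.trans (sb E61660 F43241))
theorem E64529 : n50043 = n36378 := ((D50043).symm.trans (sb E61660 (iv0 F57133)))
theorem E64530 : n50044 = n16846 := ((D50044).symm.trans (sb E61660 F43238))
theorem E64531 : n24280 = n19012 := ((F38262).symm.trans (sb E61660 F43242))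
theorem E64532 : n50045 = n15698 := ((D50045).symm.trans (sb E61660 F43239))
theorem E64534 : n71115 = n24282 := (((D24282).symm.trans (sb E61661 D71115))).symm
theorem E64535 : n34352 = n32664 := (((iv1 F54510)).symm.trans (sb E61662 (iv1 F109847)))
theorem E64536 : n70744 = n50046 := (((D50046).symm.trans (sb E61662 D70744))).symm
theorem E64538 : n32689 = n7713 := ((((iv1 F26684)).symm.trans (sb E61666 (iv1 F199736)))).symm
theorem E64539 : n125212 = n29730 := ((((iv3 F47787)).symm.trans (sb E61666 (iv3 F201319)))).symm
theorem E64540 : n29731 = n27879 := ((D29731).symm.trans (sb E61666 F92551))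
theorem E64541 : n39552 = n13875 := (((F23595).symm.trans (sb E61667 D39552))).symm
theorem E64542 : n29722 = n8784 := ((D29722).symm.trans (sb E61667 (iv5 D18732)))
theorem E64548 : n28883 = n8790 := (((iv4 F46523)).symm.trans (sb E61669 F29975))
theorem F307206 : act 0 n26698 = n39078 := (sb E61671 (iv1 F106910))
theorem F307207 : act 1 n26698 = n32692 := (sb E61671 (iv0 D70447))
theorem E64553 : n55252 = n35745 := (((iv4 F87437)).symm.trans (sb E61671 F106909))
theorem E64555 : n149810 = n127941 := ((((iv6 F210482)).symm.trans (sb E61672 F257053))).symm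
theorem F307208 : act 4 n35664 = n50040 := (sb E61673 F209036)
theorem E64559 : n70445 = n60428 := (((F167549).symm.trans (sb E61674 (iv1 F235706)))).symm
theorem E64560 : n86822 = n70442 := (((iv0 F167551)).symm.trans (sb E61674 (iv0 D149854)))
theorem E64561 : n125055 = n78262 := ((F209038).symm.trans (sb E61674 F235705))
theorem F307209 : act 6 n70390 = n50040 := (sb E61675 (iv6 D108372))
theorem F307210 : act 3 n80456 = n50039 := (sb E61676 (iv3 D108364))
theorem F307211 : act 4 n35663 = n50039 := (sb E61677 F209033)
theorem E64565 : n156427 = n59972 := (((F130826).symm.trans (sb E61677 D156427))).symm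
theorem F307212 : act 3 n108366 = n84435 := (sb E61678 (iv3 F235710))
theorem E64566 : n125054 = n78264 := ((F209043).symm.trans (sb E61678 F235709))
theorem F307214 : act 3 n108367 = n75998 := (sb E61679 F205343)
theorem E64567 : n145253 = n75990 := (((iv7 F228231)).symm.trans (sb E61679 F205345))
theorem F307215 : act 2 n34016 = n32692 := (sb E61680 F85927)
theorem E64568 : n118136 = n74160 := (((D74160).symm.trans (sb E61680 (iv3 F185619)))).symm
theorem E64569 : n74161 = n39080 := ((D74161).symm.trans (sb E61680 F85928))
theorem F307216 : act 7 n34016 = n39078 := (sb E61680 (iv7 F85929))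
theorem F307217 : act 2 n34015 = n39078 := (sb E61681 F91894)
theorem E64571 : n74156 = n38941 := ((D74156).symm.trans (sb E61681 (iv3 F91896)))
theorem E64572 : n74157 = n27700 := ((D74157).symm.trans (sb E61681 (iv4 D58103)))
theorem F307218 : act 7 n34015 = n32692 := (sb E61681 (iv7 F91897))
theorem E64574 : n74047 = n35748 := ((((iv1 F88387)).symm.trans (sb E61682 (iv1 F208009)))).symm
theorem E64575 : n74043 = n26954 := ((((iv0 D55879)).symm.trans (sb E61682 (iv0 F208006)))).symm
theorem F307219 : act 4 n55879 = n55255 := (sb E61682 F189675)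
theorem E64576 : n121106 = n70975 := ((D121106).symm.trans (sb E61682 F189676))
theorem F307220 : act 3 n36539 = n61733 := (sb E61683 (iv3 D131563))
theorem F307221 : act 5 n75525 = n61733 := (sb E61684 (iv5 D131565))
theorem F307222 : act 3 n33246 = n61732 := (sb E61685 (iv3 D131558))
theorem F307223 : act 5 n98221 = n61732 := (sb E61686 (iv5 D131560))
theorem F307224 : act 6 n38550 = n61732 := (sb E61687 (iv6 D131561))
theorem E64580 : n139243 = n119393 := (((D119393).symm.trans (sb E61688 (iv4 F222430)))).symm
theorem E64582 : n129339 = n71700 := ((((iv2 F120244)).symm.trans (sb E61689 F247205))).symm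
theorem E64583 : n129325 = n75866 := ((((iv4 F113784)).symm.trans (sb E61689 F247206))).symm
theorem F307225 : act 1 n34341 = n35708 := (sb E61690 F110385)
theorem E64585 : n155178 = n74942 := (((D74942).symm.trans (sb E61690 D155178))).symm
theorem F307226 : act 4 n34341 = n33856 := (sb E61690 (iv4 D73689))
theorem E64586 : n149881 = n58468 := ((((iv5 F92352)).symm.trans (sb E61690 (iv5 F235741)))).symm
theorem E64587 : n74944 = n70383 := ((D74944).symm.trans (sb E61690 F131049))
theorem E64588 : n74962 = n32740 := ((((iv0 F130853)).symm.trans (sb E61692 (iv0 F247214)))).symm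
theorem E64589 : n119748 = n74954 := (((iv0 F232894)).symm.trans (sb E61693 F247189))
theorem E64590 : n131646 = n119782 := (((F232620).symm.trans (sb E61693 (iv2 F247187)))).symm
theorem E64591 : n155175 = n131639 := ((D155175).symm.trans (sb E61693 F247184))
theorem F307227 : act 0 n34340 = n35708 := (sb E61694 F110379)
theorem F307228 : act 4 n34340 = n33855 := (sb E61694 (iv4 D73686))
theorem E64592 : n149882 = n58467 := ((((iv5 F92350)).symm.trans (sb E61694 (iv5 F235745)))).symm
theorem E64593 : n150546 = n74940 := (((D74940).symm.trans (sb E61694 (iv6 F237055)))).symm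
theorem E64594 : n150023 = n74714 := (((iv1 F236009)).symm.trans (sb E61696 (iv1 F247202)))
theorem E64596 : n139274 = n118145 := ((((iv7 F185644)).symm.trans (sb E61696 F247197))).symm
theorem E64600 : n49966 = n17980 := (((F30355).symm.trans (sb E61699 F101061))).symm
theorem E64601 : n167644 = n149006 := (((iv3 F263923)).symm.trans (sb E61700 (iv3 F234284)))
theorem E64603 : n60352 = n38938 := ((((iv5 F299125)).symm.trans (sb E61700 F167485))).symm
theorem F307229 : act 6 n80458 = n50023 := (sb E61700 (iv6 D108318))
theorem E64604 : n160339 = n107945 := ((D160339).symm.trans (sb E61701 (iv3 F210946)))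
theorem E64606 : n74905 = n45205 := (((F297120).symm.trans (sb E61701 (iv6 F205678)))).symm
theorem F307230 : act 3 n80466 = n74802 := (sb E61703 F247565)
theorem E64607 : n167673 = n155944 := ((D167673).symm.trans (sb E61703 F247566))
theorem E64608 : n74902 = n17928 := (((F59775).symm.trans (sb E61704 F167526))).symm
theorem E64609 : n74901 = n45220 := (((F71286).symm.trans (sb E61704 F167527))).symm
theorem E64610 : n74885 = n16818 := (((F43228).symm.trans (sb E61704 F167525))).symm
theorem E64611 : n65006 = n32705 := ((((iv3 F51774)).symm.trans (sb E61705 (iv3 F100801)))).symm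
theorem E64613 : n107826 = n32696 := ((((iv1 F51771)).symm.trans (sb E61706 F247186))).symm
theorem E64615 : n142295 = n28480 := ((((iv6 F303016)).symm.trans (sb E61707 (iv6 F225243)))).symm
theorem E64618 : n58473 = n55870 := (((iv4 F92366)).symm.trans (sb E61709 F185613))
theorem F307231 : act 5 n40247 = n54418 := (sb E61709 (iv5 D118132))
theorem F307232 : act 0 n118129 = n74802 := (sb E61710 (iv1 F206632))
theorem F307233 : act 1 n118129 = n74797 := (sb E61710 F206633)
theorem E64620 : n145279 = n54417 := ((((iv5 D118129)).symm.trans (sb E61710 (iv5 F228275)))).symm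
theorem E64621 : n39480 = n35724 := (((F114129).symm.trans (sb E61711 (iv1 D85512)))).symm
theorem E64622 : n125057 = n35731 := (((F114130).symm.trans (sb E61711 F200900))).symm
theorem F307235 : act 4 n76152 = n74802 := (sb E61711 (iv4 F215862))
theorem E64624 : n155641 = n34783 := ((((iv5 D76152)).symm.trans (sb E61711 (iv5 F244675)))).symm
theorem E64625 : n159204 = n120023 := ((D159204).symm.trans (sb E61711 F215873))
theorem F307236 : act 0 n49876 = n55595 := (sb E61712 (iv1 F130796))
theorem E64626 : n150016 = n107998 := ((((iv3 F166862)).symm.trans (sb E61712 (iv3 F235994)))).symm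
theorem E64628 : n107851 = n70965 := (((F107510).symm.trans (sb E61716 F240191))).symm
theorem F307237 : act 4 n70494 = n74798 := (sb E61716 F221629)
theorem F307238 : act 4 n78385 = n74797 := (sb E61717 F215877)
theorem E64632 : n179189 = n163008 := (((D163008).symm.trans (sb E61717 D179189))).symm
theorem F307243 : act 7 n150419 = n74798 := (sb E61721 (iv7 D157311))
theorem E64636 : n39077 = n33978 := (((iv1 F91903)).symm.trans (sb E61723 (iv1 D74038)))
theorem E64637 : n119989 = n39076 := (((F91904).symm.trans (sb E61723 F189420))).symm
theorem E64640 : n148612 = n124503 := (((D124503).symm.trans (sb E61723 F233378))).symm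
theorem E64642 : n149647 = n59988 := ((D149647).symm.trans (sb E61725 F189694))
theorem E64643 : n149648 = n59993 := ((D149648).symm.trans (sb E61725 F189695))
theorem E64644 : n117176 = n32615 := ((((iv5 D70276)).symm.trans (sb E61725 F189692))).symm
theorem E64645 : n149414 = n85781 := (((iv7 F234956)).symm.trans (sb E61725 F189693))
theorem E64646 : n176968 = n159402 := (((iv1 F276309)).symm.trans (sb E61726 (iv1 F251008)))
theorem E64647 : n176967 = n107946 := ((F276313).symm.trans (sb E61726 (iv0 F250975)))
theorem E64648 : n167684 = n159401 := (((iv2 F300142)).symm.trans (sb E61726 F250998))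
theorem E64649 : n177697 = n85776 := ((D177697).symm.trans (sb E61726 F189680))
theorem E64652 : n85777 = n39079 := (((D39079).symm.trans (sb E61727 F215868))).symm
theorem E64653 : n163224 = n58553 := ((((iv1 F92497)).symm.trans (sb E61728 (iv1 F257500)))).symm
theorem E64654 : n163227 = n18758 := ((((iv0 D39617)).symm.trans (sb E61728 (iv0 F257501)))).symm
theorem E64655 : n177698 = n75142 := (((F112682).symm.trans (sb E61728 D177698))).symm
theorem F307244 : act 6 n39617 = n39078 := (sb E61728 (iv6 D84618))
theorem E64657 : n55218 = n33876 := (((F88398).symm.trans (sb E61729 (iv4 D119993)))).symm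
theorem E64659 : n55217 = n35746 := (((D35746).symm.trans (sb E61730 (iv4 D119991)))).symm
theorem E64662 : n121107 = n74150 := (((iv7 F193138)).symm.trans (sb E61731 (iv7 D155920)))
theorem E64663 : n74153 = n27692 := ((((iv7 F44638)).symm.trans (sb E61732 (iv7 D155924)))).symm
theorem E64664 : n163202 = n70972 := ((D163202).symm.trans (sb E61733 (iv1 F189709)))
theorem E64665 : n163203 = n70971 := ((D163203).symm.trans (sb E61733 F189710))
theorem F307245 : act 4 n78443 = n55260 := (sb E61733 F189707)
theorem E64666 : n163205 = n55257 := ((D163205).symm.trans (sb E61733 (iv7 D120096)))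
theorem F307246 : act 7 n34014 = n35744 := (sb E61734 F88389)
theorem E64668 : n157565 = n49854 := ((D157565).symm.trans (sb E61735 (iv6 D107936)))
theorem F307247 : act 6 n24312 = n40719 := (sb E61736 (iv6 D87495))
theorem E64672 : n65077 = n14907 := ((D65077).symm.trans (sb E61743 (iv0 D31709)))
theorem E64673 : n68110 = n14498 := ((((iv5 D30562)).symm.trans (sb E61743 D68110))).symm
theorem F307248 : act 6 n30562 = n40043 := (sb E61743 F305051)
theorem E64674 : n27880 = n14485 := ((((iv1 F24129)).symm.trans (sb E61744 (iv1 D58614)))).symm
theorem E64675 : n39601 = n13998 := ((((iv0 F23335)).symm.trans (sb E61744 F92583))).symm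
theorem E64680 : n107846 = n15816 := ((((iv2 F110553)).symm.trans (sb E61747 (iv2 F200148)))).symm
theorem E64681 : n145700 = n70852 := (((D70852).symm.trans (sb E61747 F228780))).symm
theorem E64682 : n70959 = n35056 := ((D70959).symm.trans (sb E61748 (iv5 D76693)))
theorem E64683 : n157481 = n70960 := (((D70960).symm.trans (sb E61748 F248135))).symm
theorem E64684 : n145701 = n70944 := ((((iv1 F107492)).symm.trans (sb E61749 (iv1 F228791)))).symm
theorem E64685 : n70943 = n66134 := ((F107497).symm.trans (sb E61749 (iv0 D141003)))
theorem E64687 : n146294 = n17937 := (((F52031).symm.trans (sb E61750 (iv3 F229625)))).symm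
theorem E64688 : n146297 = n70922 := (((D70922).symm.trans (sb E61750 (iv4 F229626)))).symm
theorem E64689 : n70908 = n31912 := (((iv6 F107456)).symm.trans (sb E61750 (iv6 D68605)))
theorem E64690 : n125232 = n15431 := ((((iv0 D32598)).symm.trans (sb E61751 F236725))).symm
theorem E64691 : n81722 = n70226 := ((((iv3 F106686)).symm.trans (sb E61753 (iv3 F236949)))).symm
theorem F307253 : act 4 n149565 = n72044 := (sb E61760 F236713)
theorem F307254 : act 7 n149565 = n70916 := (sb E61760 F236714)
theorem E64692 : n153273 = n74706 := ((D153273).symm.trans (sb E61762 (iv6 D157135)))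
theorem E64693 : n153012 = n109859 := ((F240319).symm.trans (sb E61763 F247292))
theorem E64695 : n143688 = n58458 := (((F187563).symm.trans (sb E61763 F247290))).symm
theorem E64696 : n74708 = n35076 := ((D74708).symm.trans (sb E61764 (iv5 D76749)))
theorem F307255 : act 6 n34232 = n54850 := (sb E61764 F115121)
theorem E64697 : n166552 = n148663 := ((((iv4 F233425)).symm.trans (sb E61768 (iv4 F262063)))).symm
theorem F307256 : act 0 n76795 = n70847 := (sb E61770 F235714)
theorem F307257 : act 1 n76795 = n70923 := (sb E61770 F235715)
theorem F307258 : act 0 n79770 = n70923 := (sb E61771 (iv1 F236733))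
theorem F307259 : act 1 n79770 = n70847 := (sb E61771 (iv0 D150395))
theorem E64698 : n133608 = n55138 := ((F214961).symm.trans (sb E61774 F185609))
theorem E64699 : n131275 = n73713 := ((D131275).symm.trans (sb E61778 F201369))
theorem E64701 : n146308 = n26135 := ((((iv1 D54028)).symm.trans (sb E61781 D146308))).symm
theorem E64702 : n146309 = n31914 := (((F85233).symm.trans (sb E61781 D146309))).symm
theorem E64703 : n146306 = n117224 := (((D117224).symm.trans (sb E61781 (iv3 F229631)))).symm
theorem F307261 : act 6 n54028 = n70847 := (sb E61781 (iv6 F107320))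
theorem E64705 : n186462 = n54669 := ((D186462).symm.trans (sb E61782 F186784))
theorem F307262 : act 6 n88812 = n54668 := (sb E61782 (iv6 D118737))
theorem E64706 : n186463 = n114920 := ((D186463).symm.trans (sb E61782 F259163))
theorem F307263 : act 6 n71664 = n88817 := (sb E61783 (iv6 D186477))
theorem E64707 : n122659 = n71425 := ((D122659).symm.trans (sb E61787 F238318))
theorem E64710 : n122662 = n71426 := (((D71426).symm.trans (sb E61789 D122662))).symm
theorem F307264 : act 6 n33049 = n27339 := (sb E61789 (iv6 D56980))
theorem E64712 : n68369 = n21679 := ((((iv1 D45432)).symm.trans (sb E61790 F214889))).symm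
theorem E64713 : n48915 = n44763 := ((((iv2 F74245)).symm.trans (sb E61790 F162446))).symm
theorem F307265 : act 3 n45432 = n69191 := (sb E61790 F162447)
theorem E64714 : n97232 = n48907 := ((D97232).symm.trans (sb E61790 (iv6 D105775)))
theorem E64715 : n68367 = n44764 := (((F74244).symm.trans (sb E61790 F228954))).symm
theorem E64717 : n97229 = n68058 := ((D97229).symm.trans (sb E61791 F243378))
theorem E64718 : n117147 = n31813 := (E61793).trans E61794
theorem E64719 : n148801 = n44764 := (((E64715).symm.trans ((D68367).symm.trans (sb E64718 F233641)))).symm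
theorem F307266 : act 7 n31813 = n68370 := (sb E64718 F183240)
theorem E64721 : n68370 = n44765 := ((D68370).symm.trans (sb E61794 (iv4 F70352)))
theorem F307267 : act 5 n31813 = n32832 := (sb E61794 (iv5 F51984))
theorem E64722 : n68608 = n68372 := (((D68372).symm.trans (sb E61794 (iv6 F104804)))).symm
theorem E64723 : n181310 = n156394 := (((D156394).symm.trans (sb E61798 D181310))).symm
theorem E64724 : n156395 = n41084 := ((D156395).symm.trans (sb E61798 F233117))
theorem E64726 : n156399 = n70838 := ((D156399).symm.trans (sb E61799 F303961))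
theorem E64727 : n156400 = n41083 := ((D156400).symm.trans (sb E61799 F233121))
theorem E64728 : n181309 = n156402 := (((D156402).symm.trans (sb E61799 D181309))).symm
theorem E64729 : n76567 = n65001 := (((F111600).symm.trans (sb E61800 F132815))).symm
theorem E64730 : n156387 = n40905 := ((D156387).symm.trans (sb E61800 F132816))
theorem F307268 : act 4 n48209 = n34117 := (sb E61801 (iv4 D74383))
theorem E64733 : n156405 = n104188 := ((((iv5 F159714)).symm.trans (sb E61801 D156405))).symm
theorem E64736 : n156408 = n78245 := (((D78245).symm.trans (sb E61802 D156408))).symm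
theorem F307269 : act 6 n35661 = n34117 := (sb E61802 (iv6 D74384))
theorem F307270 : act 1 n119436 = n61734 := (sb E61804 (iv0 D131567))
theorem F307271 : act 0 n38491 = n61734 := (sb E61805 (iv1 D131568))
theorem F307272 : act 4 n44902 = n61734 := (sb E61806 (iv4 D131569))
theorem F307273 : act 2 n131554 = n82974 := (sb E61807 F271867)
theorem F307274 : act 3 n131554 = n172612 := (sb E61807 F271868)
theorem F307275 : act 4 n131554 = n96181 := (sb E61807 F271869)
theorem E64740 : n139242 = n83525 := (((F306098).symm.trans (sb E61810 (iv1 F222422)))).symm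
theorem E64741 : n164522 = n139241 := ((F304844).symm.trans (sb E61810 F222421))
theorem F307276 : act 2 n89260 = n61688 := (sb E61810 (iv2 D131437))
theorem F307277 : act 3 n89260 = n61724 := (sb E61810 F210675)
theorem E64742 : n178478 = n133024 := ((F304846).symm.trans (sb E61810 (iv7 F213672)))
theorem F307278 : act 6 n131438 = n82980 := (sb E61811 F271875)
theorem F307279 : act 3 n71861 = n75597 := (sb E61813 (iv3 D158467))
theorem F307280 : act 4 n70916 = n75597 := (sb E61814 (iv4 D158468))
theorem F307281 : act 7 n72044 = n75597 := (sb E61815 (iv7 F249674))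
theorem E64743 : n73167 = n73079 := (((D73079).symm.trans (sb E61816 (tr (iv6 D183743) E63211)))).symm
theorem E64746 : n186513 = n55984 := ((((iv3 F88596)).symm.trans (sb E61817 D186513))).symm
theorem F307282 : act 4 n33056 = n41471 := (sb E61817 (iv4 D88832))
theorem E64748 : n186515 = n71444 := (((D71444).symm.trans (sb E61817 D186515))).symm
theorem E64749 : n186461 = n154951 := ((F289312).symm.trans (sb E61818 (iv2 F259183)))
theorem E64750 : n186508 = n154810 := ((D186508).symm.trans (sb E61819 (iv3 F259180)))
theorem E64751 : n186509 = n106321 := ((D186509).symm.trans (sb E61819 F259166))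
theorem F307283 : act 3 n148678 = n73421 := (sb E61822 F243516)
theorem F307284 : act 5 n148678 = n73418 := (sb E61822 (iv5 D154818))
theorem E64754 : n34348 = n15636 := (((D15636).symm.trans (sb E61823 (iv6 D74965)))).symm
theorem E64755 : n54000 = n12485 := ((((iv1 D26279)).symm.trans (sb E61824 F85184))).symm
theorem E64757 : n60390 = n12853 := (((F41829).symm.trans (sb E61824 (iv4 F94904)))).symm
theorem E64758 : n54370 = n13668 := ((D54370).symm.trans (sb E61824 (iv6 D28681)))
theorem F307285 : act 6 n24320 = n15635 := (sb E61825 (iv6 D32728))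
theorem F307286 : act 0 n117157 = n70262 := (sb E61826 (iv1 F185391))
theorem F307287 : act 1 n117157 = n54369 := (sb E61826 (iv0 D118025))
theorem F307288 : act 3 n117157 = n84394 := (sb E61826 F185390)
theorem E64759 : n159508 = n146731 := ((((iv4 F230067)).symm.trans (sb E61826 (iv4 F251212)))).symm
theorem E64760 : n85824 = n77559 := (((F152256).symm.trans (sb E61827 (iv6 F206547)))).symm
theorem F307289 : act 6 n118027 = n60381 := (sb E61828 (iv6 D128418))
theorem F307290 : act 6 n28676 = n54369 := (sb E61829 (iv6 D118028))
theorem E64761 : n53979 = n52887 := (((F107427).symm.trans (sb E61834 (iv5 D117130)))).symm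
theorem E64762 : n150450 = n131596 := ((D150450).symm.trans (sb E61834 (iv6 F210848)))
theorem E64763 : n144852 = n25697 := (((F51823).symm.trans (sb E61835 F228993))).symm
theorem E64764 : n131341 = n70572 := (((D70572).symm.trans (sb E61835 F228994))).symm
theorem E64765 : n68451 = n54785 := ((((iv0 F86677)).symm.trans (sb E61836 (iv0 F229192)))).symm
theorem E64766 : n114652 = n68433 := ((D114652).symm.trans (sb E61836 (iv6 D145948)))
theorem F307291 : act 6 n149620 = n85559 := (sb E61837 (iv6 D179321))
theorem F307292 : act 6 n68331 = n70262 := (sb E61838 (iv6 D149621))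
theorem E64767 : n14757 = n7293 := (((iv4 F24405)).symm.trans (sb E61839 (iv4 D15449)))
theorem F307293 : act 7 n29177 = n32686 := (sb E61840 F85737)
theorem E64773 : n53981 = n32649 := (((F51714).symm.trans (sb E61842 F183151))).symm
theorem E64774 : n67959 = n52909 := (((D52909).symm.trans (sb E61842 F183153))).symm
theorem F307294 : act 6 n75143 = n52907 := (sb E61843 (iv6 D114621))
theorem F307295 : act 0 n95876 = n68359 := (sb E61844 (iv1 D145810))
theorem F307296 : act 4 n95876 = n69196 := (sb E61844 (iv4 F228951))
theorem F307297 : act 7 n95876 = n69191 := (sb E61844 F228948)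
theorem E64775 : n148808 = n80081 := ((D148808).symm.trans (sb E61846 (iv5 D166837)))
theorem F307298 : act 0 n128104 = n68360 := (sb E61847 (iv1 F228942))
theorem F307299 : act 1 n128104 = n68357 := (sb E61847 (iv0 D145805))
theorem F307300 : act 4 n128104 = n75135 := (sb E61847 F228941)
theorem F307301 : act 6 n128104 = n146764 := (sb E61847 (iv6 F230124))
theorem F307302 : act 7 n128104 = n75133 := (sb E61847 F228943)
theorem F307303 : act 3 n39945 = n68360 := (sb E61848 (iv3 D145812))
theorem E64776 : n159122 = n86325 := (((D86325).symm.trans (sb E61848 (iv6 F250531)))).symm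
theorem F307304 : act 5 n39944 = n68360 := (sb E61849 (iv5 D145813))
theorem E64777 : n155667 = n38697 := ((((iv6 F298283)).symm.trans (sb E61849 (iv6 F244693)))).symm
theorem F307305 : act 1 n77021 = n75133 := (sb E61851 F228885)
theorem F307306 : act 2 n77021 = n68357 := (sb E61851 F228883)
theorem F307307 : act 4 n77021 = n68334 := (sb E61851 (iv4 D145749))
theorem F307308 : act 7 n77021 = n68360 := (sb E61851 F228884)
theorem E64782 : n70363 = n16631 := (((D16631).symm.trans (sb E61855 F162917))).symm
theorem E64783 : n32845 = n16632 := (((D16632).symm.trans (sb E61855 F162918))).symm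
theorem E64787 : n58611 = n16518 := ((((iv1 F26114)).symm.trans (sb E61856 (iv1 F92579)))).symm
theorem E64788 : n18753 = n13766 := ((((iv0 F23020)).symm.trans (sb E61856 (iv0 D39603)))).symm
theorem E64790 : n71057 = n16532 := (((D16532).symm.trans (sb E61856 (iv6 F199778)))).symm
theorem E64791 : n54482 = n6919 := (((F11929).symm.trans (sb E61856 (iv7 F199779)))).symm
theorem F307309 : act 6 n14487 = n15594 := (sb E61857 (iv6 D32710))
theorem E64793 : n178680 = n12597 := ((((iv3 F26988)).symm.trans (sb E61858 (iv3 F278495)))).symm
theorem F307310 : act 4 n24290 = n15594 := (sb E61862 (iv4 D32709))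
theorem F307311 : act 7 n24290 = n35708 := (sb E61862 (iv7 F56386))
theorem E64799 : n74040 = n35674 := (((iv4 F110785)).symm.trans (sb E61863 F110444))
theorem F307312 : act 5 n33981 = n35708 := (sb E61863 F110443)
theorem F307313 : act 1 n49820 = n32717 := (sb E61864 F106951)
theorem F307314 : act 4 n49820 = n55127 := (sb E61864 F106952)
theorem E64801 : n149929 = n39482 := ((((iv5 F92358)).symm.trans (sb E61864 D149929))).symm
theorem E64802 : n107875 = n69591 := ((D107875).symm.trans (sb E61864 (iv6 F106953)))
theorem F307315 : act 0 n49819 = n32717 := (sb E61865 (iv1 F106950))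
theorem F307316 : act 4 n49819 = n55126 := (sb E61865 F106949)
theorem E64804 : n149926 = n39481 := ((((iv5 F87387)).symm.trans (sb E61865 D149926))).symm
theorem E64806 : n55142 = n33980 := ((((iv1 F87367)).symm.trans (sb E61866 F106975))).symm
theorem E64807 : n55881 = n33979 := (((F87368).symm.trans (sb E61866 F106976))).symm
theorem F307317 : act 5 n55219 = n32717 := (sb E61866 (iv5 D70529))
theorem E64809 : n73726 = n26682 := ((((iv7 D55219)).symm.trans (sb E61866 F110440))).symm
theorem F307318 : act 7 n16628 = n32717 := (sb E61867 F56342)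
theorem F307319 : act 1 n32865 = n67331 := (sb E61868 (iv0 F103212))
theorem E64811 : n70856 = n65617 := (((iv2 F110565)).symm.trans (sb E61868 F102694))
theorem E64812 : n142614 = n70958 := (((D70958).symm.trans (sb E61868 (iv3 F225472)))).symm
theorem E64813 : n142619 = n15817 := ((((iv4 D32865)).symm.trans (sb E61868 D142619))).symm
theorem E64814 : n35056 = n31151 := ((E64682).symm.trans ((D70959).symm.trans (sb E61868 (iv5 D66849))))
theorem E64815 : n70960 = n53404 := ((D70960).symm.trans (sb E61868 F102695))
theorem F307320 : act 0 n32860 = n67331 := (sb E64215 (iv1 F222963))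
theorem E64817 : n70940 = n65618 := ((D70940).symm.trans (sb E64215 F222962))
theorem F307321 : act 2 n74929 = n67331 := (sb E61870 F182308)
theorem E64818 : n118064 = n67300 := ((((iv1 F182315)).symm.trans (sb E61871 (iv1 F230485)))).symm
theorem E64819 : n119727 = n67330 := (((D67330).symm.trans (sb E61871 F230486))).symm
theorem E64820 : n119682 = n67316 := ((((iv3 F103200)).symm.trans (sb E61871 F230482))).symm
theorem E64821 : n68940 = n67332 := (((D67332).symm.trans (sb E61871 (iv7 D147028)))).symm
theorem E64822 : n119194 = n67332 := ((D119194).symm.trans (sb E64219 F222959))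
theorem F307322 : act 7 n54849 = n67331 := (sb E64219 (iv7 F222960))
theorem F307323 : act 0 n147566 = n95876 := (sb E61873 F258864)
theorem F307324 : act 5 n147566 = n81671 := (sb E61873 F258862)
theorem E64823 : n70959 = n31151 := (E64682).trans E64814
theorem E64824 : n55630 = n30744 := ((((iv5 D65617)).symm.trans (iv5 (sb E61876 (tr (iv5 D150403) E64811))))).symm
theorem E64826 : n157419 = n149803 := (((F237058).symm.trans (sb E61877 (iv0 F247932)))).symm
theorem E64827 : n157481 = n53404 := (E64683).trans E64815
theorem E64828 : n157549 = n70939 := (((D70939).symm.trans (sb E61878 (iv3 F248271)))).symm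
theorem E64829 : n65618 = n35057 := ((E64817).symm.trans ((D70940).symm.trans (sb E61878 F112526)))
theorem E64830 : n70941 = n34358 := ((D70941).symm.trans (sb E61878 (iv6 D74992)))
theorem E64831 : n70940 = n35057 := (E64817).trans E64829
theorem F307327 : act 5 n55631 = n70851 := (sb E61879 (iv5 D150399))
theorem F307328 : act 6 n55303 = n70851 := (sb E61880 (iv6 D150400))
theorem E64833 : n149652 = n34359 := (((F200117).symm.trans (sb E61880 (iv7 F236746)))).symm
theorem F307329 : act 5 n117399 = n68949 := (sb E61881 F230506)
theorem F307330 : act 1 n15809 = n32258 := (sb E61882 (iv0 F87273))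
theorem F307331 : act 0 n15804 = n32258 := (sb E61883 F105714)
theorem E64837 : n17034 = n7212 := ((((iv1 D15214)).symm.trans (sb E61884 F51686))).symm
theorem E64838 : n26233 = n17041 := ((F41642).symm.trans (sb E61884 F51687))
theorem E64839 : n31287 = n15448 := ((F163071).symm.trans (sb E61884 (iv4 D32627)))
theorem E64840 : n26231 = n26177 := ((F105732).symm.trans (sb E61884 F51685))
theorem F307332 : act 7 n26534 = n32258 := (sb E61885 F105731)
theorem E64841 : n70359 = n33903 := ((D70359).symm.trans (sb E61886 F110611))
theorem E64844 : n33929 = n15533 := (((D15533).symm.trans (sb E61887 F110688))).symm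
theorem F307333 : act 6 n16403 = n15532 := (sb E61888 (iv6 D32661))
theorem E64847 : n119893 = n12483 := (((F27878).symm.trans (sb E61890 (iv4 F189264)))).symm
theorem E64848 : n35065 = n31985 := ((D35065).symm.trans (sb E61890 F87302))
theorem E64849 : n74978 = n70382 := (((D70382).symm.trans (sb E61891 (iv1 F112509)))).symm
theorem E64850 : n70384 = n29679 := ((D70384).symm.trans (sb E61891 (iv5 D62751)))
theorem E64851 : n70385 = n55301 := ((D70385).symm.trans (sb E61891 F97889))
theorem E64853 : n25879 = n7278 := (((iv4 F40885)).symm.trans (sb E61892 (iv4 D15418)))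
theorem E64855 : n30789 = n7281 := (((iv4 F49229)).symm.trans (sb E61893 (iv4 D15426)))
theorem E64856 : n32585 = n26225 := ((((iv6 F41625)).symm.trans (sb E61893 D32585))).symm
theorem F307334 : act 4 n15125 = n26232 := (sb E61894 F182130)
theorem E64859 : n31286 = n7187 := ((((iv7 D15125)).symm.trans (sb E61894 F182131))).symm
theorem E64860 : n32254 = n32058 := ((((iv6 F50676)).symm.trans (sb E61895 D32254))).symm
theorem F307335 : act 7 n15124 = n26232 := (sb E61895 (iv7 F105734))
theorem E64861 : n149358 = n75824 := ((((iv3 F130906)).symm.trans (sb E61896 (iv3 F234829)))).symm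
theorem E64863 : n32534 = n32325 := (((F85667).symm.trans (sb E61896 (iv6 D70129)))).symm
theorem F307336 : act 4 n32628 = n32259 := (sb E61899 F163074)
theorem E64867 : n143640 = n32006 := (((F51689).symm.trans (sb E61899 D143640))).symm
theorem E64868 : n117825 = n70306 := (((D70306).symm.trans (sb E61899 (iv7 F184513)))).symm
theorem E64870 : n69791 = n54241 := (((iv5 F302987)).symm.trans (sb E61901 (iv5 D117750)))
theorem E64871 : n70555 = n34346 := (((iv1 F232725)).symm.trans (sb E61902 (iv1 D74957)))
theorem E64872 : n133963 = n76594 := (((D76594).symm.trans (sb E61902 (iv0 F215851)))).symm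
theorem E64874 : n107864 = n76595 := (((D76595).symm.trans (sb E61902 F210470))).symm
theorem F307337 : act 0 n148898 = n76627 := (sb E61903 (iv1 D160025))
theorem F307338 : act 5 n148898 = n155689 := (sb E61903 (iv5 F252454))
theorem E64875 : n157486 = n150377 := ((((iv6 F236700)).symm.trans (sb E61903 F252456))).symm
theorem F307339 : act 1 n148901 = n76627 := (sb E61904 (iv0 D160024))
theorem F307340 : act 5 n148901 = n179150 := (sb E61904 (iv5 F279095))
theorem F307341 : act 0 n49818 = n69832 := (sb E61906 F305240)
theorem F307342 : act 1 n49818 = n69827 := (sb E61906 F305241)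
theorem F307343 : act 7 n49818 = n76592 := (sb E61906 F305242)
theorem E64878 : n149002 = n86499 := (((D86499).symm.trans (sb E61910 (iv3 F234270)))).symm
theorem E64879 : n86500 = n60065 := ((D86500).symm.trans (sb E61910 (iv5 D127879)))
theorem E64880 : n145276 = n58588 := ((((iv6 F297934)).symm.trans (sb E61910 (iv6 F228269)))).symm
theorem E64881 : n60064 = n35693 := (((D35693).symm.trans (sb E61911 (iv5 D127875)))).symm
theorem E64882 : n86562 = n60320 := ((((iv1 F191375)).symm.trans (sb E61912 D86562))).symm
theorem E64883 : n60187 = n37337 := (((iv0 F205226)).symm.trans (sb E61912 (iv0 F297925)))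
theorem E64884 : n86563 = n70520 := ((((iv4 F106970)).symm.trans (sb E61912 D86563))).symm
theorem F307344 : act 5 n32716 = n18957 := (sb E61912 (iv5 D40126))
theorem E64885 : n127310 = n33024 := ((((iv3 F305019)).symm.trans (sb E61917 (iv3 F204532)))).symm
theorem E64886 : n54339 = n28345 := ((D54339).symm.trans (sb E61917 (iv5 D59763)))
theorem F307345 : act 0 n55338 = n60374 := (sb E61918 (iv1 F185601))
theorem F307346 : act 1 n55338 = n60385 := (sb E61918 F185602)
theorem E64889 : n120260 = n58617 := ((D120260).symm.trans (sb E61918 (iv6 F199769)))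
theorem F307347 : act 2 n32700 = n34392 := (sb E61919 F87561)
theorem E64891 : n70468 = n26737 := (((iv4 F106928)).symm.trans (sb E61919 (iv4 D55330)))
theorem E64892 : n107993 = n32819 := ((((iv5 F51965)).symm.trans (sb E61919 (iv5 F166850)))).symm
theorem F307348 : act 7 n32700 = n34400 := (sb E61919 F87562)
theorem E64895 : n74976 = n29284 := ((((iv1 F47838)).symm.trans (sb E61921 F235879))).symm
theorem E64896 : n74985 = n14139 := ((((iv0 D29751)).symm.trans (sb E61921 F235880))).symm
theorem E64897 : n84852 = n62450 := ((((iv4 F130943)).symm.trans (sb E61921 F235878))).symm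
theorem E64898 : n143912 = n62871 := (((D62871).symm.trans (sb E61921 F235881))).symm
theorem F307349 : act 0 n28677 = n34392 := (sb E61922 (iv1 D75093))
theorem F307350 : act 1 n28677 = n34400 := (sb E61922 F112604)
theorem E64900 : n148971 = n70444 := ((D148971).symm.trans (sb E61923 (iv6 D149863)))
theorem F307351 : act 4 n33872 = n32430 := (sb E61924 (iv4 D69840))
theorem E64902 : n74966 = n33153 := (((F53218).symm.trans (sb E61924 (iv5 F112485)))).symm
theorem F307352 : act 7 n33872 = n70753 := (sb E61924 (iv7 F107222))
theorem F307353 : act 6 n32691 = n32430 := (sb E61926 (iv6 D69841))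
theorem F307354 : act 5 n28683 = n60378 := (sb E61930 (iv5 D128408))
theorem E64907 : n154099 = n89694 := (((D89694).symm.trans (sb E61937 (iv5 F242174)))).symm
theorem E64908 : n72460 = n45022 := ((D72460).symm.trans (sb E61938 (iv1 F292503)))
theorem E64909 : n72461 = n48243 := ((D72461).symm.trans (sb E61938 (iv0 F75841)))
theorem E64910 : n95638 = n60272 := ((((iv4 F94829)).symm.trans (sb E61938 D95638))).symm
theorem F307355 : act 5 n33450 = n21269 := (sb E61938 (iv5 D44664))
theorem E64911 : n89704 = n72463 := (((D72463).symm.trans (sb E61938 (iv7 F137668)))).symm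
theorem F307356 : act 0 n104128 = n72978 := (sb E61941 (iv1 F242187))
theorem F307357 : act 1 n104128 = n72973 := (sb E61941 (iv0 D154113))
theorem F307358 : act 0 n104129 = n70375 := (sb E61942 F192103)
theorem F307359 : act 1 n104129 = n72439 := (sb E61942 F192104)
theorem F307360 : act 2 n104129 = n55526 := (sb E61942 F192101)
theorem F307361 : act 4 n104129 = n55516 := (sb E61942 (iv4 D120555))
theorem F307362 : act 7 n104129 = n55521 := (sb E61942 F192102)
theorem F307363 : act 0 n104133 = n72973 := (sb E61943 (iv1 D154114))
theorem F307364 : act 1 n104133 = n72978 := (sb E61943 F242188)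
theorem F307365 : act 0 n104134 = n154584 := (sb E61944 (iv1 F242655))
theorem F307366 : act 1 n104134 = n72666 := (sb E61944 F231146)
theorem F307367 : act 2 n104134 = n69261 := (sb E61944 F231144)
theorem F307368 : act 4 n104134 = n69102 := (sb E61944 (iv4 D147410))
theorem F307369 : act 7 n104134 = n69278 := (sb E61944 F231145)
theorem F307370 : act 0 n104137 = n73104 := (sb E61945 (iv1 D154290))
theorem F307371 : act 5 n104137 = n162721 := (sb E61945 (iv5 F256956))
theorem F307372 : act 7 n104137 = n154126 := (sb E61945 F242392)
theorem F307373 : act 2 n41007 = n48187 := (sb E61948 (iv2 D104125))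
theorem F307374 : act 7 n41007 = n48188 := (sb E61948 (iv7 F159613))
theorem F307375 : act 7 n104126 = n87896 := (sb E61949 F286190)
theorem F307376 : act 2 n104128 = n87893 := (sb E61951 F286193)
theorem F307377 : act 7 n104128 = n87898 := (sb E61951 F286194)
theorem E64912 : n183108 = n182031 := (((F283426).symm.trans (sb E61952 (iv5 F286196)))).symm
theorem E64913 : n183106 = n55521 := (((F307362).symm.trans (sb E61952 F286197))).symm
theorem F307378 : act 2 n41008 = n48188 := (sb E61953 F159614)
theorem F307379 : act 7 n41008 = n48187 := (sb E61953 (iv7 D104130))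
theorem F307380 : act 1 n120571 = n71542 := (sb E61954 (iv0 D151770))
theorem F307381 : act 5 n100418 = n98900 := (sb E61959 F268864)
theorem F307382 : act 6 n100418 = n82018 := (sb E61959 (iv6 D171129))
theorem F307383 : act 5 n87404 = n55526 := (sb E61960 (iv5 D120572))
theorem F307384 : act 5 n120553 = n183103 := (sb E61961 F286226)
theorem F307385 : act 2 n99292 = n82019 := (sb E61962 F268866)
theorem F307386 : act 7 n99292 = n82018 := (sb E61962 (iv7 D171130))
theorem F307387 : act 7 n86487 = n55528 := (sb E61963 (iv7 F305360))
theorem F307388 : act 2 n104133 = n87898 := (sb E61964 F286221)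
theorem F307389 : act 7 n104133 = n87893 := (sb E61964 (iv7 D184273))
theorem F307390 : act 6 n147824 = n87896 := (sb E61970 (iv6 D184282))
theorem F307391 : act 7 n147825 = n185513 := (sb E61971 F287781)
theorem F307392 : act 5 n120564 = n185513 := (sb E61972 (iv5 F287780))
theorem F307393 : act 5 n58271 = n87901 := (sb E61973 F283308)
theorem F307394 : act 1 n123662 = n87902 := (sb E61974 (iv0 D184298))
theorem F307395 : act 4 n154289 = n87903 := (sb E61975 F286246)
theorem F307396 : act 7 n154289 = n87902 := (sb E61975 (iv7 D184302))
theorem F307397 : act 6 n104181 = n75046 := (sb E61976 (iv6 D157627))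
theorem F307398 : act 0 n104183 = n72849 := (sb E61977 (iv1 D153937))
theorem F307399 : act 6 n34375 = n48207 := (sb E61978 (iv6 D104184))
theorem F307400 : act 1 n58360 = n48208 := (sb E61979 (iv0 D104185))
theorem E64914 : n184565 = n124821 := (((D124821).symm.trans (sb E61979 (iv4 F286552)))).symm
theorem F307401 : act 0 n58340 = n48208 := (sb E61980 (iv1 D104186))
theorem E64915 : n184566 = n124784 := (((D124784).symm.trans (sb E61980 (iv4 F286548)))).symm
theorem F307402 : act 0 n149775 = n119784 := (sb E61981 (iv1 F236548))
theorem E64916 : n149775 = n33079 := ((((iv6 F52304)).symm.trans (iv6 (sb E61981 (tr (iv6 D150309) E62056))))).symm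
theorem F307404 : act 0 n149794 = n87401 := (sb E61983 (iv1 F284709))
theorem F307405 : act 1 n149794 = n87396 := (sb E61983 (iv0 D183087))
theorem F307406 : act 1 n120554 = n86407 := (sb E61984 (iv0 D180908))
theorem F307407 : act 0 n69251 = n86407 := (sb E61985 (iv1 D180909))
theorem E64917 : n75067 = n21544 := ((((iv1 F296546)).symm.trans (sb E61986 F190415))).symm
theorem F307408 : act 3 n40012 = n32247 := (sb E61986 (iv3 D69413))
theorem E64918 : n127576 = n21177 := (((F296112).symm.trans (sb E61986 F231357))).symm
theorem E64919 : n147340 = n37195 := ((((iv7 F296547)).symm.trans (sb E61986 (iv7 F248401)))).symm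
theorem F307409 : act 4 n120565 = n95331 := (sb E61987 F297910)
theorem F307410 : act 6 n120565 = n169837 := (sb E61987 F297911)
theorem F307411 : act 7 n120565 = n86407 := (sb E61987 (iv7 D180911))
theorem E64920 : n57574 = n32245 := ((((iv4 F51181)).symm.trans (sb E61988 (iv4 F90733)))).symm
theorem E64921 : n32681 = n32248 := (((D32248).symm.trans (sb E61988 F55738))).symm
theorem E64923 : n117731 = n48944 := (((iv3 F184387)).symm.trans (sb E61989 F106670))
theorem E64924 : n148110 = n57573 := (((iv4 F231921)).symm.trans (sb E61989 F106671))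
theorem E64925 : n149492 = n117691 := ((((iv6 F184311)).symm.trans (sb E61989 D149492))).symm
theorem E64926 : n148157 = n72865 := (((iv1 F231973)).symm.trans (sb E61990 F241950))
theorem E64927 : n148156 = n122827 := ((F231972).symm.trans (sb E61990 F241951))
theorem E64928 : n148165 = n95326 := ((D148165).symm.trans (sb E61990 F241947))
theorem E64929 : n148166 = n72845 := ((D148166).symm.trans (sb E61990 (iv5 D153931)))
theorem E64930 : n149490 = n148112 := ((((iv7 F231926)).symm.trans (sb E61990 F241949))).symm
theorem F307412 : act 5 n69392 = n37266 := (sb E61991 F106669)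
theorem E64931 : n149491 = n146982 := ((((iv6 F230377)).symm.trans (sb E61991 D149491))).symm
theorem E64932 : n117729 = n76363 := ((D117729).symm.trans (sb E61992 (iv1 F114474)))
theorem E64933 : n117728 = n34821 := (((iv4 F184384)).symm.trans (sb E61992 F106214))
theorem E64934 : n79072 = n74831 := ((((iv5 F112308)).symm.trans (sb E61992 (iv5 F120290)))).symm
theorem E64935 : n148906 = n26228 := ((((iv6 D54235)).symm.trans (sb E61992 D148906))).symm
theorem E64936 : n148107 = n57568 := ((D148107).symm.trans (sb E61993 F196436))
theorem E64937 : n148108 = n57268 := ((D148108).symm.trans (sb E61993 F196438))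
theorem E64938 : n148105 = n60114 := (((iv3 F231914)).symm.trans (sb E61993 F196434))
theorem E64939 : n148109 = n56941 := ((D148109).symm.trans (sb E61993 (iv5 D122616)))
theorem E64941 : n131150 = n57470 := ((((iv4 F90726)).symm.trans (sb E61994 (iv4 F210057)))).symm
theorem F307413 : act 5 n57570 = n32241 := (sb E61994 F96058)
theorem E64942 : n123526 = n29129 := ((D123526).symm.trans (sb E61994 (iv6 D61528)))
theorem E64943 : n140063 = n32579 := (((iv3 F223269)).symm.trans (sb E61996 (iv3 D70193)))
theorem E64944 : n148155 = n56942 := (((iv5 F231971)).symm.trans (sb E61996 (iv5 F115059)))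
theorem E64945 : n149469 = n117701 := ((((iv6 F184323)).symm.trans (sb E61996 D149469))).symm
theorem F307414 : act 5 n35983 = n32249 := (sb E61997 F105695)
theorem F307415 : act 6 n35983 = n74860 := (sb E61997 (iv6 F112363))
theorem E64951 : n148158 = n82975 := ((D148158).symm.trans (sb E61999 F241940))
theorem E64952 : n148159 = n72844 := ((D148159).symm.trans (sb E61999 (iv5 D153929)))
theorem F307416 : act 0 n29750 = n47167 := (sb E62001 (iv1 D101304))
theorem E64953 : n183453 = n75063 := (((D75063).symm.trans (sb E62004 F286001))).symm
theorem F307417 : act 3 n153180 = n118097 := (sb E62005 F284689)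
theorem F307418 : act 3 n86482 = n69171 := (sb E62006 (iv3 D147587))
theorem E64954 : n179482 = n131253 := (((iv6 F297745)).symm.trans (sb E62006 F231379))
theorem F307419 : act 3 n86747 = n130865 := (sb E62007 (iv3 F226231))
theorem F307420 : act 4 n86747 = n67217 := (sb E62007 (iv4 D143517))
theorem E64955 : n157354 = n70394 := ((((iv6 F307076)).symm.trans (sb E62007 (iv6 F247658)))).symm
theorem F307421 : act 7 n86747 = n76626 := (sb E62007 F226230)
theorem F307422 : act 0 n49825 = n40225 := (sb E62008 F190040)
theorem E64957 : n154913 = n24295 := (E62574).trans E63708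
theorem F307423 : act 0 n70110 = n76626 := (sb E62009 (iv1 D160023))
theorem E64958 : n149319 = n118844 := ((D149319).symm.trans (sb E62009 (iv5 F252451)))
theorem F307424 : act 5 n152704 = n83697 := (sb E62011 (iv5 D175278))
theorem F307425 : act 2 n75596 = n72044 := (sb E62012 (iv2 D152702))
theorem F307426 : act 0 n69821 = n61614 := (sb E62013 F209605)
theorem F307427 : act 2 n69821 = n61833 := (sb E62013 (iv2 F209877))
theorem E64959 : n148934 = n34326 := ((D148934).symm.trans (sb E62013 F112418))
theorem E64960 : n157448 = n148935 := (((D148935).symm.trans (sb E62013 D157448))).symm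
theorem E64961 : n148936 = n34324 := ((D148936).symm.trans (sb E62013 (iv6 D74900)))
theorem F307428 : act 7 n69821 = n133698 := (sb E62013 (iv7 F248031))
theorem F307429 : act 0 n62925 = n32425 := (sb E62014 (iv1 D69822))
theorem F307430 : act 3 n62760 = n36689 := (sb E62015 F106257)
theorem E64964 : n133697 = n32428 := (((iv4 F215154)).symm.trans (sb E62015 F106258))
theorem F307431 : act 7 n62760 = n32425 := (sb E62015 (iv7 D69824))
theorem E64966 : n30629 = n12941 := (((D12941).symm.trans (sb E62016 (iv0 D65268)))).symm
theorem E64970 : n75088 = n55119 := ((((iv0 F187228)).symm.trans (sb E62017 (iv0 D157646)))).symm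
theorem E64971 : n149894 = n70353 := ((D149894).symm.trans (sb E62018 (iv5 D149768)))
theorem E64972 : n149895 = n133710 := ((D149895).symm.trans (sb E62018 F235572))
theorem E64973 : n78295 = n70352 := ((D78295).symm.trans (sb E62019 (iv5 D149766)))
theorem E64974 : n133737 = n84890 := (((D84890).symm.trans (sb E62022 F215275))).symm
theorem E64976 : n55824 = n32791 := ((D55824).symm.trans (sb E62025 (iv5 D70738)))
theorem E64977 : n133742 = n36771 := ((((iv6 F57663)).symm.trans (sb E62025 (iv6 F215285)))).symm
theorem E64978 : n149900 = n70350 := ((D149900).symm.trans (sb E62026 (iv1 F206095)))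
theorem E64979 : n149901 = n70354 := ((D149901).symm.trans (sb E62026 (iv0 F206094)))
theorem E64980 : n149902 = n76609 := ((D149902).symm.trans (sb E62026 F232726))
theorem E64981 : n150264 = n149903 := (((D149903).symm.trans (sb E62026 D150264))).symm
theorem E64983 : n133743 = n32706 := ((D133743).symm.trans (sb E62027 F106941))
theorem F307432 : act 6 n62779 = n32704 := (sb E62027 (iv6 D70485))
theorem E64984 : n133711 = n121939 := (((iv7 F235577)).symm.trans (sb E62027 (iv7 F194658)))
theorem F307433 : act 0 n149000 = n181126 := (sb E62028 (iv1 F282109))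
theorem F307434 : act 1 n149000 = n181125 := (sb E62028 F282108)
theorem E64985 : n150257 = n78276 := (((iv2 F236455)).symm.trans (sb E62028 (iv2 D162845)))
theorem F307435 : act 3 n149000 = n78294 := (sb E62028 F257114)
theorem F307436 : act 4 n149000 = n128157 := (sb E62028 F257115)
theorem F307437 : act 7 n149000 = n149893 := (sb E62028 F257116)
theorem F307438 : act 5 n148999 = n78294 := (sb E62029 (iv5 D162863))
theorem F307439 : act 3 n119777 = n119502 := (sb E62030 F210996)
theorem F307440 : act 5 n119777 = n61771 := (sb E62030 (iv5 D131651))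
theorem F307441 : act 2 n86581 = n55120 := (sb E62031 F188942)
theorem E64986 : n181331 = n55103 := ((D181331).symm.trans (sb E62031 (iv4 D119749)))
theorem F307442 : act 6 n86581 = n73811 := (sb E62031 (iv6 F232966))
theorem F307443 : act 3 n55120 = n34392 := (sb E62032 (iv3 D75094))
theorem E64994 : n80680 = n76624 := (((D76624).symm.trans (sb E62033 (iv4 D168078)))).symm
theorem E64995 : n149776 = n73820 := ((((iv7 F232432)).symm.trans (sb E62033 F264931))).symm
theorem F307444 : act 2 n150197 = n168081 := (sb E62034 (iv2 F273872))
theorem F307445 : act 5 n80681 = n70487 := (sb E62035 (iv5 F303708))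
theorem E64996 : n49872 = n32848 := ((D49872).symm.trans (sb E62040 (iv1 F52018)))
theorem E64997 : n49871 = n32758 := (((iv3 F78861)).symm.trans (sb E62040 F155474))
theorem E64998 : n70367 = n49873 := (((D49873).symm.trans (sb E62040 D70367))).symm
theorem E64999 : n49874 = n32847 := ((D49874).symm.trans (sb E62040 (iv7 F109882)))
theorem E65000 : n108387 = n15323 := ((((iv3 D32431)).symm.trans (sb E62041 (iv3 F167561)))).symm
theorem F307450 : act 4 n32431 = n24410 := (sb E62041 F79206)
theorem E65001 : n79989 = n61605 := ((((iv5 F109887)).symm.trans (sb E62041 (iv5 F122768)))).symm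
theorem E65002 : n69847 = n49808 := ((D69847).symm.trans (sb E62041 F79207))
theorem F307451 : act 7 n32431 = n24407 := (sb E62041 (iv7 D50047))
theorem F307452 : act 3 n119747 = n55338 := (sb E62044 (iv3 D120259))
theorem E65003 : n77695 = n76205 := ((F124130).symm.trans (sb E62045 F166858))
theorem F307453 : act 5 n80689 = n55338 := (sb E62045 F166857)
theorem E65004 : n86728 = n55110 := ((D86728).symm.trans (sb E62046 (iv5 D119767)))
theorem E65005 : n153247 = n74946 := ((D153247).symm.trans (sb E62049 (iv6 D157484)))
theorem E65006 : n146533 = n52949 := (((F107336).symm.trans (sb E62050 F248164))).symm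
theorem E65007 : n150408 = n74947 := ((D150408).symm.trans (sb E62050 (iv6 D157488)))
theorem F307454 : act 6 n34343 = n40224 := (sb E62052 (iv6 D86746))
theorem E65012 : n119043 = n32441 := (((F86655).symm.trans (sb E62054 D119043))).symm
theorem F307455 : act 4 n54774 = n26495 := (sb E62054 (iv4 D54781))
theorem E65013 : n119044 = n31958 := (((F86656).symm.trans (sb E62054 D119044))).symm
theorem E65014 : n119029 = n61767 := ((D119029).symm.trans (sb E62054 (iv7 F96352)))
theorem E65017 : n150302 = n76631 := (((D76631).symm.trans (sb E62055 D150302))).symm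
theorem E65019 : n148919 = n139763 := ((((iv3 F222943)).symm.trans (iv3 (sb E62057 (tr (iv3 D150402) E64811))))).symm
theorem E65020 : n150402 = n139763 := (E62057).trans E65019
theorem F307456 : act 7 n139763 = n70939 := (sb E65020 F236752)
theorem E65022 : n133828 = n36768 := (((D36768).symm.trans (sb E62058 (iv6 F247853)))).symm
theorem E65023 : n167865 = n70241 := ((D167865).symm.trans (sb E62059 F247855))
theorem E65024 : n167866 = n70245 := ((D167866).symm.trans (sb E62059 F247856))
theorem E65025 : n167869 = n133820 := ((((iv1 F215481)).symm.trans (sb E62060 D167869))).symm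
theorem E65026 : n167864 = n133827 := (((D133827).symm.trans (sb E62060 (iv2 F264485)))).symm
theorem E65027 : n133829 = n36780 := ((D133829).symm.trans (sb E62060 F123877))
theorem E65028 : n133830 = n124555 := ((D133830).symm.trans (sb E62060 (iv5 F302677)))
theorem F307457 : act 6 n62847 = n36766 := (sb E62060 (iv6 D80569))
theorem F307458 : act 0 n133744 = n148928 := (sb E62061 F235777)
theorem E65029 : n166277 = n80582 := (((iv3 F261814)).symm.trans (sb E62061 F235776))
theorem E65030 : n160210 = n81742 := ((F252918).symm.trans (sb E62061 F302937))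
theorem E65032 : n161431 = n18388 := ((((iv1 D38629)).symm.trans (sb E62066 D161431))).symm
theorem E65033 : n83880 = n35385 := ((D83880).symm.trans (sb E62066 (iv3 D77500)))
theorem E65034 : n83881 = n57980 := ((D83881).symm.trans (sb E62066 F116358))
theorem E65035 : n161434 = n83882 := (((D83882).symm.trans (sb E62066 D161434))).symm
theorem E65037 : n101666 = n83875 := (((D83875).symm.trans (sb E62067 (tr (iv3 F255279) E62153)))).symm
theorem E65038 : n161955 = n83876 := (((D83876).symm.trans (sb E62067 (iv4 F255939)))).symm
theorem E65040 : n161979 = n83878 := (((D83878).symm.trans (sb E62067 D161979))).symm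
theorem E65041 : n77803 = n10752 := ((((iv1 D22731)).symm.trans (sb E62068 (iv1 F255341)))).symm
theorem E65042 : n77802 = n38627 := (((F59442).symm.trans (sb E62068 F255339))).symm
theorem E65043 : n124370 = n46061 := (((F156571).symm.trans (sb E62068 F255337))).symm
theorem E65044 : n73044 = n38609 := (E62069).trans E63710
theorem E65047 : n123585 = n22749 := (((F274788).symm.trans (sb E65044 (iv2 F198000)))).symm
theorem E65048 : n83800 = n32492 := ((D83800).symm.trans (sb E65044 (tr (iv3 F242293) E62250)))
theorem E65051 : n172330 = n63660 := (E62071).trans E62076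
theorem E65052 : n155102 = n135429 := (((D135429).symm.trans (sb E65051 (iv5 F270563)))).symm
theorem F307460 : act 5 n37890 = n82525 := (sb E62072 (iv5 D172317))
theorem F307461 : act 1 n63661 = n82525 := (sb E62075 (iv0 D172315))
theorem F307462 : act 0 n63660 = n82525 := (sb E62076 (iv1 D172316))
theorem F307463 : act 7 n63645 = n82525 := (sb E62077 (iv7 D172318))
theorem E65054 : n167350 = n130744 := ((D167350).symm.trans (sb E62078 F213962))
theorem F307464 : act 7 n80313 = n130512 := (sb E62078 F213963)
theorem F307465 : act 6 n61341 = n36590 := (sb E62079 (iv6 D80318))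
theorem E65059 : n167210 = n60797 := ((((iv2 F95558)).symm.trans (sb E62080 F303130))).symm
theorem E65060 : n129942 = n77626 := ((D129942).symm.trans (sb E62080 (iv6 D161625)))
theorem F307466 : act 5 n129406 = n84128 := (sb E62081 F263628)
theorem E65061 : n84132 = n60815 := (((D60815).symm.trans (sb E62082 F263634))).symm
theorem F307467 : act 4 n133176 = n84473 := (sb E62088 F255203)
theorem F307468 : act 6 n133176 = n77472 := (sb E62088 (iv6 D161387))
theorem F307470 : act 3 n83367 = n82508 := (sb E62102 F270508)
theorem E65066 : n174405 = n82501 := ((D174405).symm.trans (sb E62102 (iv7 D172246)))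
theorem E65067 : n149154 = n82554 := (((iv6 F305428)).symm.trans (sb E62103 (iv6 D172408)))
theorem F307471 : act 0 n167168 = n174403 := (sb E62105 (iv1 F273275))
theorem F307472 : act 1 n167168 = n174402 := (sb E62105 F273280)
theorem F307473 : act 7 n167168 = n82718 := (sb E62105 (iv7 D172766))
theorem F307474 : act 2 n158790 = n82739 := (sb E62106 F298834)
theorem F307475 : act 3 n158790 = n178472 := (sb E62106 F298835)
theorem F307476 : act 4 n158790 = n173861 := (sb E62106 (iv4 F272510))
theorem F307477 : act 5 n158790 = n110625 := (sb E62106 (tr F298836 E63808))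
theorem F307478 : act 6 n158790 = n77107 := (sb E62106 (iv6 D160710))
theorem F307479 : act 0 n83574 = n73700 := (sb E62108 (iv1 D155194))
theorem F307480 : act 1 n83574 = n84928 := (sb E62108 F244035)
theorem F307481 : act 4 n83574 = n150197 := (sb E62108 (iv4 F244037))
theorem E65068 : n174990 = n155155 := ((D174990).symm.trans (sb E62108 (iv5 F244038)))
theorem E65069 : n174991 = n152734 := ((D174991).symm.trans (sb E62108 (iv6 F244039)))
theorem F307482 : act 7 n83574 = n152586 := (sb E62108 F244036)
theorem F307483 : act 3 n161158 = n84928 := (sb E62109 (iv3 F304842))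
theorem F307484 : act 7 n161158 = n82635 := (sb E62109 (iv7 D172610))
theorem F307485 : act 3 n34585 = n75329 := (sb E62113 (iv3 D158172))
theorem F307486 : act 3 n158174 = n75617 := (sb E62115 F249700)
theorem F307487 : act 3 n158175 = n75618 := (sb E62116 F249701)
theorem E65070 : n175447 = n173586 := (((iv5 F274634)).symm.trans (sb E62116 (iv5 F272032)))
theorem E65071 : n175642 = n174862 := ((((iv7 F273746)).symm.trans (sb E62116 (iv7 F274965)))).symm
theorem F307488 : act 0 n100047 = n72647 := (sb E62117 (iv1 F303351))
theorem F307489 : act 1 n100047 = n46863 := (sb E62117 (iv0 D100411))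
theorem F307490 : act 2 n100047 = n56726 := (sb E62117 F302103)
theorem F307491 : act 4 n100047 = n72649 := (sb E62117 F302105)
theorem F307492 : act 0 n96357 = n102040 := (sb E62123 F156984)
theorem F307493 : act 1 n96357 = n102036 := (sb E62123 (iv0 F156981))
theorem F307494 : act 2 n96357 = n89301 := (sb E62123 F156819)
theorem F307496 : act 5 n96357 = n47337 := (sb E62123 (iv5 D101865))
theorem E65072 : n123647 = n101564 := ((D123647).symm.trans (sb E62126 F274780))
theorem F307497 : act 5 n95648 = n104015 := (sb E62127 F289424)
theorem F307498 : act 3 n57607 = n88844 := (sb E62128 (iv3 D186526))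
theorem E65073 : n101900 = n27527 := ((((iv5 D57607)).symm.trans (sb E62128 F289429))).symm
theorem F307499 : act 4 n45363 = n88844 := (sb E62129 (iv4 D186527))
theorem F307500 : act 1 n47349 = n27537 := (sb E62130 (iv0 F90748))
theorem F307501 : act 5 n93865 = n101911 := (sb E62131 F289436)
theorem F307502 : act 6 n93865 = n88844 := (sb E62131 (iv6 D186528))
theorem E65074 : n88868 = n78992 := (((D78992).symm.trans (sb E62132 F289445))).symm
theorem E65075 : n102277 = n100720 := (((D100720).symm.trans (sb E62133 F289447))).symm
theorem F307503 : act 6 n41484 = n78991 := (sb E62134 (iv6 D164477))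
theorem E65076 : n83853 = n83761 := (((D83761).symm.trans (sb E62136 F274548))).symm
theorem E65077 : n83763 = n83027 := ((D83763).symm.trans (sb E62136 (iv7 D173579)))
theorem E65078 : n83019 = n27037 := (((D27037).symm.trans (sb E62137 (iv6 D173549)))).symm
theorem E65080 : n114818 = n83021 := (((D83021).symm.trans (sb E62138 (iv5 F300662)))).symm
theorem F307504 : act 6 n38207 = n27036 := (sb E62138 (iv6 D56048))
theorem F307505 : act 3 n81921 = n75695 := (sb E62139 (iv3 D158695))
theorem F307506 : act 5 n158360 = n75683 := (sb E62140 (iv5 D158668))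
theorem F307507 : act 6 n158360 = n75684 := (sb E62140 F249823)
theorem E65082 : n174015 = n71851 := ((D174015).symm.trans (sb E62141 (iv3 D152302)))
theorem E65083 : n118219 = n47032 := (((F270521).symm.trans (sb E62141 F239410))).symm
theorem E65084 : n174018 = n72022 := ((D174018).symm.trans (sb E62141 F239411))
theorem F307508 : act 3 n164556 = n83774 := (sb E62142 (iv3 D175436))
theorem F307509 : act 3 n167470 = n164557 := (sb E62143 F273622)
theorem F307510 : act 6 n167470 = n83506 := (sb E62143 (iv6 D174791))
theorem E65089 : n38614 = n34561 := (((D34561).symm.trans (sb E62145 (iv6 D83824)))).symm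
theorem E65090 : n152352 = n38616 := (((D38616).symm.trans (sb E62146 (iv5 F298180)))).symm
theorem F307511 : act 6 n18384 = n34559 := (sb E62146 (iv6 D75530))
theorem E65092 : n175637 = n77612 := (((D77612).symm.trans (sb E62147 (iv5 F274959)))).symm
theorem E65093 : n174724 = n173372 := ((D174724).symm.trans (sb E62148 F271847))
theorem F307513 : act 2 n33653 = n47349 := (sb E62149 F274786)
theorem F307514 : act 5 n33653 = n41721 := (sb E62149 F128835)
theorem F307515 : act 6 n33653 = n38609 := (sb E62149 (iv6 D83803))
theorem F307516 : act 5 n33652 = n41720 := (sb E62150 (iv5 D89325))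
theorem E65095 : n175522 = n73041 := (((D73041).symm.trans (sb E62150 (iv6 F274861)))).symm
theorem F307517 : act 7 n33652 = n47349 := (sb E62150 F274787)
theorem F307518 : act 3 n99720 = n73081 := (sb E62151 F198052)
theorem F307519 : act 4 n99720 = n77609 := (sb E62151 F198053)
theorem F307520 : act 6 n99720 = n57640 := (sb E62151 (iv6 D123648))
theorem F307521 : act 1 n33654 = n47349 := (sb E62152 F156742)
theorem F307522 : act 6 n33654 = n41658 := (sb E62152 (iv6 D89186))
theorem E65096 : n161417 = n83875 := (E62153).trans E65037
theorem E65097 : n175687 = n77843 := ((D175687).symm.trans (sb E65096 (iv1 F255283)))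
theorem E65098 : n175688 = n77609 := ((D175688).symm.trans (sb E65096 F255282))
theorem E65099 : n175689 = n77491 := ((D175689).symm.trans (sb E65096 (iv2 D161417)))
theorem E65100 : n175690 = n123270 := ((D175690).symm.trans (sb E65096 F255280))
theorem E65102 : n175710 = n77831 := ((((iv4 F117649)).symm.trans (sb E62154 (iv4 F275134)))).symm
theorem E65103 : n175713 = n77845 := (((D77845).symm.trans (sb E62154 D175713))).symm
theorem F307524 : act 6 n35522 = n38629 := (sb E62154 (iv6 D83883))
theorem F307525 : act 5 n83578 = n77609 := (sb E62155 (iv5 D161581))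
theorem E65104 : n174998 = n173352 := ((D174998).symm.trans (sb E62155 (iv6 F271811)))
theorem E65105 : n89344 = n72597 := ((D89344).symm.trans (sb E62156 F239895))
theorem E65106 : n82506 = n72022 := (((iv4 F271100)).symm.trans (sb E62156 (iv4 D152678)))
theorem E65107 : n89338 = n47032 := ((F137025).symm.trans (sb E62156 (tr F239896 E65083)))
theorem F307526 : act 5 n80378 = n61220 := (sb E62158 (iv5 D130493))
theorem F307527 : act 2 n167492 = n101649 := (sb E62159 F274610)
theorem F307528 : act 4 n167492 = n99706 := (sb E62159 F274611)
theorem F307529 : act 5 n167492 = n158517 := (sb E62159 F274612)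
theorem E65108 : n175417 = n167492 := ((D175417).symm.trans (iv6 (sb E62159 (tr F274613 E65076))))
theorem F307530 : act 7 n167492 = n83773 := (sb E62159 (iv7 D175435))
theorem F307531 : act 0 n158422 = n80378 := (sb E62160 (iv1 D167493))
theorem F307532 : act 2 n158540 = n80378 := (sb E62161 (iv2 D167494))
theorem E65111 : n101635 = n35505 := (((iv3 F156551)).symm.trans (sb E62162 F117631))
theorem E65112 : n98495 = n85881 := (((iv4 F156574)).symm.trans (sb E62162 (iv4 F131730)))
theorem F307533 : act 7 n47274 = n80378 := (sb E62162 (iv7 F123501))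
theorem F307534 : act 5 n77728 = n61232 := (sb E62163 (iv5 D130508))
theorem F307535 : act 7 n77728 = n133176 := (sb E62163 (iv7 F213955))
theorem E65113 : n101898 = n83374 := ((E62276).symm.trans (((iv1 F242569)).symm.trans (sb E62164 (iv1 D174425))))
theorem E65114 : n154534 = n84949 := ((F242564).symm.trans (sb E62164 F273301))
theorem F307536 : act 0 n70067 = n41722 := (sb E62165 (iv1 D89332))
theorem F307537 : act 4 n70067 = n100078 := (sb E62165 (iv4 F249744))
theorem F307538 : act 0 n89331 = n95791 := (sb E62166 (iv1 F242402))
theorem F307539 : act 2 n89331 = n89091 := (sb E62166 (iv2 F242401))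
theorem F307540 : act 3 n89331 = n89084 := (sb E62166 F242400)
theorem F307541 : act 4 n89331 = n77604 := (sb E62166 F242399)
theorem F307542 : act 5 n89331 = n82482 := (sb E62166 F242398)
theorem F307543 : act 7 n89331 = n89084 := (sb E62166 F242403)
theorem F307544 : act 3 n88924 = n44647 := (sb E62167 F147266)
theorem F307545 : act 6 n88924 = n44646 := (sb E62167 (iv6 D95592))
theorem E65115 : n123707 = n87352 := ((D123707).symm.trans (sb E62170 F284552))
theorem E65116 : n153183 = n44554 := ((((iv1 F292362)).symm.trans (sb E62171 D153183))).symm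
theorem E65117 : n153184 = n87351 := (((D87351).symm.trans (sb E62171 D153184))).symm
theorem F307546 : act 2 n40602 = n33450 := (sb E62171 F108753)
theorem F307547 : act 6 n40602 = n33367 := (sb E62171 (iv6 D72303))
theorem E65118 : n153186 = n87353 := (((D87353).symm.trans (sb E62171 D153186))).symm
theorem F307548 : act 1 n73493 = n46269 := (sb E62172 F156200)
theorem E65119 : n154934 = n46006 := ((D154934).symm.trans (sb E62172 (iv3 D98331)))
theorem E65120 : n154935 = n46628 := ((D154935).symm.trans (sb E62172 F151739))
theorem F307549 : act 7 n73493 = n47605 := (sb E62172 F151740)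
theorem F307550 : act 0 n73498 = n46269 := (sb E62173 (iv1 D98867))
theorem E65121 : n154943 = n102440 := ((D154943).symm.trans (sb E62173 (iv3 F157400)))
theorem E65122 : n154944 = n47604 := ((D154944).symm.trans (sb E62173 (iv5 F152417)))
theorem F307552 : act 4 n70185 = n46269 := (sb E62174 (iv4 D98868))
theorem F307553 : act 1 n101333 = n75005 := (sb E62178 (iv0 D157562))
theorem F307554 : act 1 n154142 = n86906 := (sb E62179 (iv0 D181961))
theorem F307555 : act 7 n157563 = n86973 := (sb E62180 (iv7 D182140))
theorem F307556 : act 7 n123700 = n87002 := (sb E62181 F283522)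
theorem F307557 : act 3 n89209 = n114065 := (sb E62182 F198173)
theorem F307558 : act 6 n89209 = n57667 := (sb E62182 (iv6 D123702))
theorem F307559 : act 6 n89210 = n73115 := (sb E62185 F198179)
theorem F307560 : act 3 n89304 = n72411 := (sb E62186 (iv3 D153288))
theorem F307561 : act 4 n89304 = n80217 := (sb E62186 F240836)
theorem F307562 : act 7 n89304 = n75020 := (sb E62186 F240837)
theorem F307563 : act 2 n101327 = n75026 := (sb E62187 F240838)
theorem F307564 : act 5 n101327 = n72411 := (sb E62187 (iv5 D153289))
theorem F307565 : act 7 n101327 = n75021 := (sb E62187 F240839)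
theorem F307566 : act 3 n152899 = n101131 := (sb E63545 (iv3 F283514))
theorem F307567 : act 5 n152899 = n88100 := (sb E63545 F283513)
theorem F307568 : act 7 n152899 = n99882 := (sb E63545 (iv7 F283515))
theorem F307569 : act 1 n47331 = n75020 := (sb E62189 (iv0 D157591))
theorem F307570 : act 0 n47336 = n75020 := (sb E62190 (iv1 D157592))
theorem F307571 : act 3 n99700 = n75021 := (sb E62191 F248349)
theorem F307572 : act 5 n99700 = n75020 := (sb E62191 (iv5 D157594))
theorem F307573 : act 0 n150420 = n86618 := (sb E62192 (iv1 F282543))
theorem E65123 : n138551 = n69826 := (((F234054).symm.trans (sb E62193 F245876))).symm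
theorem F307574 : act 6 n70874 = n74381 := (sb E62193 (iv6 D156397))
theorem F307575 : act 0 n101223 = n75021 := (sb E62194 F304595)
theorem F307576 : act 1 n101223 = n75026 := (sb E62194 F304596)
theorem F307577 : act 3 n101223 = n58002 := (sb E62194 F198936)
theorem F307578 : act 0 n152901 = n99882 := (sb E62195 F285612)
theorem F307579 : act 7 n88007 = n75027 := (sb E62196 (iv7 D157606))
theorem E65124 : n153311 = n101362 := (((D101362).symm.trans (sb E62198 F248358))).symm
theorem F307580 : act 5 n76675 = n70007 := (sb E62200 (iv5 D149174))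
theorem F307581 : act 5 n73503 = n41648 := (sb E62201 (iv5 D89149))
theorem F307582 : act 4 n44905 = n70697 := (sb E62202 (iv4 D150208))
theorem F307583 : act 4 n81690 = n70716 := (sb E62203 (iv4 D150233))
theorem F307584 : act 4 n21213 = n41718 := (sb E62204 (iv4 D89316))
theorem F307585 : act 2 n89317 = n154188 := (sb E62205 (iv2 F242304))
theorem F307586 : act 3 n89317 = n170358 := (sb E62205 (iv3 F267846))
theorem F307587 : act 4 n89317 = n44596 := (sb E62205 F147107)
theorem F307588 : act 2 n89417 = n123649 := (sb E62206 F238467)
theorem F307589 : act 3 n89417 = n71453 := (sb E62206 F238468)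
theorem F307590 : act 4 n89417 = n164620 := (sb E62206 (iv4 F259564))
theorem F307591 : act 6 n89417 = n71452 := (sb E62206 (iv6 D151575))
theorem E65125 : n128292 = n83597 := ((D128292).symm.trans (sb E62207 (iv0 F273961)))
theorem F307592 : act 2 n60310 = n83600 := (sb E62207 F273956)
theorem F307593 : act 7 n60310 = n83594 := (sb E62207 (iv7 D175046))
theorem E65126 : n181292 = n128316 := (((D128316).symm.trans (sb E62208 (iv6 F282371)))).symm
theorem E65127 : n75660 = n14027 := ((((iv6 D29521)).symm.trans (sb E62225 (iv6 D158613)))).symm
theorem E65130 : n130414 = n35222 := (((F298133).symm.trans (sb E62226 (iv2 F208915)))).symm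
theorem F307594 : act 3 n34599 = n28978 := (sb E62226 F95674)
theorem E65132 : n130421 = n75670 := (((D75670).symm.trans (sb E62226 D130421))).symm
theorem E65133 : n28977 = n16770 := ((((iv6 D34599)).symm.trans (sb E62226 (iv6 D61195)))).symm
theorem E65134 : n130422 = n35227 := (((F298135).symm.trans (sb E62226 D130422))).symm
theorem E65138 : n75333 = n14028 := ((((iv7 F23400)).symm.trans (sb E62229 (iv7 F114001)))).symm
theorem F307595 : act 3 n98341 = n61746 := (sb E62231 F210839)
theorem F307596 : act 6 n62691 = n86392 := (sb E62232 (iv6 D180878))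
theorem F307597 : act 1 n158442 = n127898 := (sb E62233 F303449)
theorem F307598 : act 3 n158442 = n98230 := (sb E62233 F270326)
theorem F307599 : act 4 n158442 = n82446 := (sb E62233 (iv4 D172153))
theorem F307600 : act 3 n85095 = n40101 := (sb E62234 F132722)
theorem F307601 : act 5 n85095 = n40097 := (sb E62234 (iv5 D86519))
theorem E65145 : n54843 = n54445 := (((D54445).symm.trans (sb E62236 F187483))).symm
theorem E65146 : n54841 = n46881 := ((D54841).symm.trans (sb E62238 F232455))
theorem F307602 : act 2 n26531 = n48202 := (sb E62238 F153874)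
theorem F307603 : act 6 n26531 = n46679 := (sb E62238 (iv6 D99944))
theorem E65147 : n122355 = n54839 := (((D54839).symm.trans (sb E62239 F254552))).symm
theorem E65150 : n171114 = n29642 := (((D29642).symm.trans (sb E62240 (iv4 F268847)))).symm
theorem F307604 : act 1 n118642 = n70528 := (sb E62243 (iv0 D149952))
theorem F307605 : act 4 n118642 = n171026 := (sb E62243 F297895)
theorem F307606 : act 6 n118642 = n170128 := (sb E62243 (iv6 F267620))
theorem F307607 : act 1 n80483 = n54846 := (sb E62244 (iv0 D119187))
theorem F307608 : act 2 n80483 = n71766 := (sb E62244 (iv2 F215878))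
theorem F307609 : act 7 n80483 = n74935 := (sb E62244 F215855)
theorem E65152 : n87883 = n74933 := ((D87883).symm.trans (sb E62245 (iv7 D157479)))
theorem F307610 : act 5 n119249 = n70528 := (sb E62246 (iv5 D149955))
theorem E65153 : n155243 = n54893 := (((F187691).symm.trans (sb E62246 (iv7 F244147)))).symm
theorem F307611 : act 7 n34339 = n70528 := (sb E62247 F119448)
theorem E65154 : n69417 = n57567 := (((F120275).symm.trans (sb E62248 F210073))).symm
theorem F307612 : act 5 n79067 = n69394 := (sb E62248 F210070)
theorem F307613 : act 6 n79067 = n130865 := (sb E62248 F210071)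
theorem F307614 : act 7 n72482 = n87342 := (sb E62249 (iv7 D182946))
theorem E65155 : n57748 = n57603 := ((F307103).symm.trans (sb E62251 F197991))
theorem F307615 : act 6 n86009 = n57600 := (sb E62251 (iv6 D123577))
theorem F307616 : act 0 n70958 = n148163 := (sb E62252 F252726)
theorem E65156 : n150542 = n76691 := ((D150542).symm.trans (sb E62252 (iv5 D160127)))
theorem F307617 : act 0 n131183 = n101494 := (sb E62254 (iv1 F304750))
theorem F307618 : act 1 n131183 = n71550 := (sb E62254 (iv0 D151785))
theorem F307619 : act 4 n130060 = n83316 := (sb E62260 F263188)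
theorem F307620 : act 1 n131182 = n154829 := (sb E62263 F243535)
theorem F307621 : act 2 n131182 = n101494 := (sb E62263 (iv2 F304751))
theorem F307622 : act 6 n131182 = n149891 := (sb E62263 F238707)
theorem F307623 : act 7 n131182 = n71550 := (sb E62263 (iv7 D151788))
theorem F307624 : act 1 n123019 = n145288 := (sb E62264 (iv0 F228297))
theorem F307625 : act 4 n123019 = n61542 := (sb E62264 F210124)
theorem F307626 : act 6 n123019 = n61541 := (sb E62264 (iv6 D131180))
theorem E65157 : n106046 = n81547 := (((iv3 F162873)).symm.trans (sb E62266 F267455))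
theorem E65158 : n181465 = n81546 := ((F307180).symm.trans (sb E62266 (iv6 D170015)))
theorem E65159 : n153872 = n52922 := ((((iv5 F83629)).symm.trans (sb E62267 F248092))).symm
theorem E65160 : n84938 = n74914 := ((D84938).symm.trans (sb E62267 (iv6 D157463)))
theorem F307627 : act 2 n55636 = n33721 := (sb E62268 F110009)
theorem E65161 : n120704 = n33578 := ((D120704).symm.trans (sb E62268 (iv6 D72802)))
theorem F307628 : act 6 n34329 = n37298 := (sb E62269 (iv6 D81615))
theorem E65165 : n154551 = n21569 := (((D21569).symm.trans (sb E62270 (iv5 F242616)))).symm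
theorem E65166 : n72356 = n21570 := (((D21570).symm.trans (sb E62270 F240635))).symm
theorem E65167 : n146671 = n96718 := (((D96718).symm.trans (sb E62271 F229985))).symm
theorem F307629 : act 7 n45191 = n33721 := (sb E62271 (iv7 D73295))
theorem E65169 : n96720 = n62859 := ((((iv0 F98080)).symm.trans (sb E62272 D96720))).symm
theorem F307630 : act 5 n33401 = n96721 := (sb E62272 D96721)
theorem F307631 : act 6 n33401 = n21568 := (sb E62272 (iv6 D45192))
theorem F307632 : act 5 n67913 = n71332 := (sb E62273 (iv5 D151358))
theorem F307633 : act 2 n151359 = n149875 := (sb E62274 F278907)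
theorem F307635 : act 4 n151359 = n179042 := (sb E62274 (iv4 F278983))
theorem F307636 : act 5 n151359 = n167815 := (sb E62274 (iv5 F264264))
theorem F307637 : act 7 n151359 = n128345 := (sb E62274 F257047)
theorem F307638 : act 3 n162779 = n83659 := (sb E62275 F274144)
theorem F307639 : act 6 n162779 = n83656 := (sb E62275 (iv6 D175152))
theorem E65171 : n154535 = n83374 := (E62276).trans E65113
theorem E65172 : n174424 = n73241 := ((D174424).symm.trans (sb E65171 (iv1 D154535)))
theorem F307640 : act 1 n83374 = n128239 := (sb E65171 F242569)
theorem E65173 : n175040 = n38583 := ((D175040).symm.trans (sb E62277 (iv1 D83707)))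
theorem E65174 : n173508 = n173412 := ((((iv3 F271880)).symm.trans (sb E62277 (iv3 F272292)))).symm
theorem E65175 : n175292 = n175042 := (((D175042).symm.trans (sb E62277 D175292))).symm
theorem E65177 : n175149 = n175043 := (((D175043).symm.trans (sb E62277 (iv7 F274316)))).symm
theorem E65183 : n147064 = n97266 := (((F150021).symm.trans (sb E62279 F230542))).symm
theorem E65184 : n147579 = n147034 := (((D147034).symm.trans (sb E62279 D147579))).symm
theorem E65185 : n147036 = n117398 := ((D147036).symm.trans (sb E62279 F190442))
theorem E65186 : n147037 = n147025 := ((D147037).symm.trans (sb E62279 (iv7 F230479)))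
theorem E65187 : n34296 = n15561 := ((((iv1 F26492)).symm.trans (sb E62282 (iv1 F54420)))).symm
theorem E65188 : n15566 = n15215 := (((iv0 F26493)).symm.trans (sb E62282 (iv0 D32260)))
theorem E65189 : n34294 = n8173 := (((F21503).symm.trans (sb E62282 (iv2 F105993)))).symm
theorem E65190 : n69460 = n26646 := ((((iv6 F42705)).symm.trans (sb E62282 D69460))).symm
theorem E65191 : n153298 = n84356 := (((F129428).symm.trans (sb E62283 (iv1 F240864)))).symm
theorem E65192 : n124864 = n84500 := ((((iv0 F267395)).symm.trans (sb E62283 (iv0 F231372)))).symm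
theorem E65193 : n119836 = n73361 := ((D119836).symm.trans (sb E62283 F231371))
theorem E65194 : n157630 = n84499 := ((((iv7 F129627)).symm.trans (sb E62283 (iv7 F248388)))).symm
theorem F307641 : act 1 n150422 = n86580 := (sb E62284 (iv0 D181327))
theorem E65195 : n86618 = n86580 := ((F307573).symm.trans (sb E62285 (iv1 D181328)))
theorem F307642 : act 4 n150420 = n176963 := (sb E62285 (iv4 F282412))
theorem E65198 : n151743 = n99592 := (((D99592).symm.trans (sb E62287 (tr F247606 E64069)))).symm
theorem E65199 : n107902 = n57796 := (E62791).trans E64267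
theorem E65200 : n124055 = n123179 := ((D124055).symm.trans (iv0 (sb E62288 (tr F210305 E65199))))
theorem E65201 : n179473 = n123179 := (((iv1 F301207)).symm.trans (iv1 (sb E62288 (tr F210496 E62793))))
theorem E65202 : n86641 = n86566 := (((F197417).symm.trans (sb E62288 (tr F210938 E64266)))).symm
theorem F307643 : act 3 n123179 = n61583 := (sb E62288 (iv3 D131245))
theorem E65203 : n133673 = n73080 := (((F197418).symm.trans (sb E62288 (iv4 F215096)))).symm
theorem F307644 : act 5 n123179 = n74897 := (sb E62288 F210304)
theorem E65204 : n181514 = n123179 := ((F282609).symm.trans (iv7 (sb E62288 (tr F210531 E64265))))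
theorem F307645 : act 3 n123060 = n61584 := (sb E62289 F210303)
theorem F307646 : act 6 n123060 = n61582 := (sb E62289 (iv6 D131244))
theorem E65206 : n157423 = n81437 := (((D81437).symm.trans (sb E62290 (iv6 F247941)))).symm
theorem E65207 : n164577 = n107889 := (((F190804).symm.trans (sb E62291 F282013))).symm
theorem F307647 : act 2 n74883 = n45140 := (sb E62291 F148953)
theorem F307648 : act 6 n74883 = n45138 := (sb E62291 (iv6 D96656))
theorem E65208 : n131058 = n17885 := ((((iv1 F29061)).symm.trans (sb E62292 D131058))).symm
theorem E65211 : n29101 = n17899 := (((D17899).symm.trans (sb E62292 (iv6 D61481)))).symm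
theorem F307649 : act 6 n16610 = n17897 := (sb E62293 (iv6 D37230))
theorem E65215 : n58567 = n34311 := (((D34311).symm.trans (sb E62293 F116758))).symm
theorem E65216 : n160182 = n120140 := ((D160182).symm.trans (sb E62294 (iv6 F189773)))
theorem F307650 : act 0 n55281 = n35989 := (sb E62295 (iv1 F115113))
theorem F307651 : act 1 n55281 = n35071 := (sb E62295 (iv0 D76733))
theorem F307652 : act 2 n55281 = n35988 := (sb E62295 F120310)
theorem E65217 : n83679 = n71641 := ((((iv3 F108133)).symm.trans (sb E62295 (iv3 F128744)))).symm
theorem E65218 : n120129 = n38491 := (((iv4 F189749)).symm.trans (sb E62295 F115112))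
theorem F307653 : act 7 n55281 = n35987 := (sb E62295 (iv7 F120309))
theorem E65220 : n119580 = n35072 := ((((iv5 F55692)).symm.trans (sb E62296 F188568))).symm
theorem E65221 : n157388 = n33875 := ((((iv6 F53228)).symm.trans (sb E62296 D157388))).symm
theorem E65222 : n155225 = n133635 := (((iv1 F273690)).symm.trans (sb E62297 F240077))
theorem E65223 : n155230 = n120226 := (((iv0 F273656)).symm.trans (sb E62297 (iv0 F240078)))
theorem E65224 : n155237 = n72134 := ((D155237).symm.trans (sb E62297 (iv5 D152884)))
theorem E65225 : n178757 = n155224 := ((((iv7 F244131)).symm.trans (sb E62297 (iv7 F278636)))).symm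
theorem F307654 : act 1 n75064 = n81524 := (sb E62298 (iv0 D169957))
theorem E65226 : n157638 = n84471 := ((D157638).symm.trans (sb E62298 F267393))
theorem E65230 : n84487 = n34376 := (((iv4 F129614)).symm.trans (sb E62299 (iv4 D75050)))
theorem E65231 : n124756 = n84501 := (((D84501).symm.trans (sb E62299 F200548))).symm
theorem E65232 : n163216 = n69298 := ((((iv1 D147912)).symm.trans (sb E62300 (iv1 F267402)))).symm
theorem F307655 : act 5 n147912 = n81524 := (sb E62300 (iv5 D169958))
theorem E65233 : n163217 = n73360 := (((F231690).symm.trans (sb E62300 (iv7 F267400)))).symm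
theorem F307656 : act 7 n154696 = n81524 := (sb E62301 (iv7 D169959))
theorem E65234 : n148959 = n73085 := ((D148959).symm.trans (sb E62302 (iv4 D154265)))
theorem E65235 : n151715 = n76624 := (E62304).trans E64994
theorem E65236 : n71509 = n70777 := ((F114898).symm.trans (sb E65235 (tr (iv2 F252408) E62411)))
theorem E65237 : n155356 = n149872 := (((iv7 F244318)).symm.trans (sb E65235 (tr (iv7 F252399) E62438)))
theorem F307657 : act 0 n149908 = n154938 := (sb E62305 (iv1 F264311))
theorem F307658 : act 4 n149908 = n149769 := (sb E62305 F238590)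
theorem E65238 : n61626 = n38917 := (((F70561).symm.trans (sb E62307 F210457))).symm
theorem E65239 : n159874 = n96184 := (((D96184).symm.trans (sb E62307 (iv5 F252074)))).symm
theorem E65240 : n96185 = n61624 := ((D96185).symm.trans (sb E62307 (iv6 D131315)))
theorem E65241 : n173689 = n54590 := ((F272204).symm.trans (sb E62308 (iv1 F186440)))
theorem E65242 : n54587 = n39363 := (((F128218).symm.trans (sb E62308 (iv0 D118534)))).symm
theorem E65243 : n173895 = n120152 := ((D173895).symm.trans (sb E62308 (iv5 F189787)))
theorem E65244 : n173690 = n133682 := (((iv7 F272210)).symm.trans (sb E62308 (iv7 F215112)))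
theorem F307660 : act 6 n61020 = n80266 := (sb E62310 (iv6 D167201))
theorem F307662 : act 5 n129364 = n80267 := (sb E62311 (iv5 D167203))
theorem F307663 : act 3 n134700 = n173932 := (sb E62312 (iv3 F272569))
theorem F307668 : act 1 n131100 = n161748 := (sb E62314 F263379)
theorem E65245 : n162843 = n86453 := (((E62759).symm.trans (((iv3 F236379)).symm.trans (sb E62315 (iv3 F257112))))).symm
theorem E65246 : n77724 = n77633 := (((E62763).symm.trans (((iv4 F236409)).symm.trans (sb E62315 (iv4 D161836))))).symm
theorem F307669 : act 5 n119782 = n71499 := (sb E62317 (iv5 D151722))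
theorem F307670 : act 1 n157434 = n148963 := (sb E62323 (iv0 F278104))
theorem F307671 : act 2 n157434 = n86375 := (sb E62323 F278101)
theorem F307672 : act 4 n157434 = n84933 := (sb E62323 F278103)
theorem F307673 : act 6 n157434 = n84932 := (sb E62323 (iv6 D178479))
theorem F307674 : act 0 n77116 = n69158 := (sb E62328 (iv1 F231038))
theorem F307675 : act 1 n77116 = n69077 := (sb E62328 (iv0 D147343))
theorem F307676 : act 2 n77116 = n69155 := (sb E62328 F231033)
theorem F307677 : act 4 n77116 = n145748 := (sb E62328 F231031)
theorem F307678 : act 7 n77116 = n69156 := (sb E62328 (iv7 F231032))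
theorem F307679 : act 0 n71908 = n69077 := (sb E62329 (iv1 D147344))
theorem F307680 : act 1 n71908 = n69158 := (sb E62329 F231034)
theorem F307681 : act 2 n71908 = n69156 := (sb E62329 (iv2 F231036))
theorem F307682 : act 4 n71908 = n145811 := (sb E62329 F231037)
theorem F307683 : act 7 n71908 = n69155 := (sb E62329 F231035)
theorem E65247 : n112576 = n95830 := ((((iv2 F147516)).symm.trans (sb E62330 (iv2 F175150)))).symm
theorem F307684 : act 3 n44751 = n69077 := (sb E62330 F171221)
theorem E65248 : n109529 = n21316 := ((((iv4 D44751)).symm.trans (sb E62330 F171222))).symm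
theorem E65249 : n95835 = n51012 := ((D95835).symm.trans (sb E62330 (iv6 D110626)))
theorem F307685 : act 0 n82743 = n69156 := (sb E62332 (iv1 F231043))
theorem F307686 : act 1 n82743 = n69155 := (sb E62332 F231044)
theorem F307687 : act 2 n82743 = n69158 := (sb E62332 F231040)
theorem E65250 : n172824 = n69125 := ((D172824).symm.trans (sb E62332 F231042))
theorem F307688 : act 7 n82743 = n69077 := (sb E62332 (iv7 D147346))
theorem F307689 : act 3 n114447 = n69158 := (sb E62333 F231349)
theorem F307690 : act 3 n60068 = n69086 := (sb E62334 F231078)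
theorem E65251 : n127883 = n69084 := ((D127883).symm.trans (sb E62334 (iv6 D147357)))
theorem E65252 : n148807 = n69196 := (((iv3 F233650)).symm.trans (sb E62335 F231413))
theorem F307691 : act 7 n69741 = n69190 := (sb E62335 (iv7 D147642))
theorem E65253 : n130386 = n55310 := ((D130386).symm.trans (sb E62336 (iv3 D120205)))
theorem F307692 : act 0 n61185 = n73021 := (sb E62337 (iv1 F242220))
theorem E65254 : n130382 = n127657 := ((D130382).symm.trans (sb E62337 F242218))
theorem E65255 : n130384 = n127656 := ((D130384).symm.trans (sb E62337 (iv6 F242222)))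
theorem E65256 : n62440 = n60235 := ((((iv1 D128154)).symm.trans (sb E62338 (iv1 F213687)))).symm
theorem E65257 : n162771 = n62439 := (((iv0 F257008)).symm.trans (sb E62338 F213688))
theorem F307693 : act 2 n128154 = n62441 := (sb E62338 F213682)
theorem F307694 : act 7 n128154 = n62424 := (sb E62338 (iv7 D133029))
theorem E65258 : n130328 = n58275 := (((iv4 F208848)).symm.trans (sb E62339 (iv4 D124697)))
theorem F307695 : act 7 n61171 = n73021 := (sb E62339 F199486)
theorem F307696 : act 4 n33641 = n28975 := (sb E62340 F95669)
theorem E65261 : n130378 = n16264 := ((((iv5 D33641)).symm.trans (sb E62340 D130378))).symm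
theorem F307697 : act 6 n33641 = n28974 := (sb E62340 (iv6 D61184))
theorem F307698 : act 2 n130330 = n61186 := (sb E62342 F208909)
theorem F307699 : act 7 n130330 = n61185 := (sb E62342 (iv7 D130385))
theorem F307700 : act 2 n130329 = n61185 := (sb E62343 (iv2 D130380))
theorem F307701 : act 7 n130329 = n61186 := (sb E62343 (iv7 F208908))
theorem E65262 : n65220 = n39466 := (((F131025).symm.trans (sb E62345 (iv1 F222427)))).symm
theorem E65263 : n79019 = n65215 := ((F131029).symm.trans (sb E62345 F222424))
theorem F307702 : act 2 n54581 = n34230 := (sb E62345 (iv2 D74699))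
theorem F307703 : act 3 n54581 = n62828 := (sb E62345 F112105)
theorem E65264 : n58436 = n34264 := (((iv5 F199906)).symm.trans (sb E62345 F112106))
theorem E65265 : n84929 = n65353 := (((iv7 F130133)).symm.trans (sb E62345 F112107))
theorem E65266 : n82502 = n71756 := ((((iv4 F108230)).symm.trans (sb E62346 F302478))).symm
theorem E65267 : n124836 = n34193 := (((F208892).symm.trans (sb E62346 F240791))).symm
theorem E65268 : n130370 = n34377 := ((D130370).symm.trans (sb E62347 F112569))
theorem E65269 : n130371 = n82503 := ((D130371).symm.trans (sb E62347 F302482))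
theorem E65271 : n130372 = n34374 := ((D130372).symm.trans (sb E62347 (iv6 D75043)))
theorem E65272 : n153239 = n34245 := ((((iv1 F79057)).symm.trans (sb E62348 (iv1 F240683)))).symm
theorem E65273 : n58334 = n34244 := (((F79055).symm.trans (sb E62348 (iv0 D124770)))).symm
theorem E65274 : n72718 = n34246 := (((F79054).symm.trans (sb E62348 (iv7 F200433)))).symm
theorem E65275 : n130343 = n80707 := ((D130343).symm.trans (sb E62351 F304877))
theorem E65276 : n108379 = n79860 := (((iv0 F217509)).symm.trans (sb E62351 (iv0 F201174)))
theorem E65277 : n150227 = n130345 := (((D130345).symm.trans (sb E62351 (iv3 F274149)))).symm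
theorem E65278 : n130346 = n125161 := ((D130346).symm.trans (sb E62351 (iv5 F201172)))
theorem E65279 : n130347 = n32790 := ((D130347).symm.trans (sb E62351 (iv6 D70734)))
theorem E65280 : n130354 = n127886 := ((D130354).symm.trans (sb E62352 F205801))
theorem E65281 : n130355 = n70534 := ((D130355).symm.trans (sb E62352 (iv0 F234187)))
theorem E65284 : n130357 = n127878 := ((D130357).symm.trans (sb E62352 (iv7 F234236)))
theorem F307704 : act 3 n60127 = n54694 := (sb E62353 (iv3 D118813))
theorem E65285 : n159936 = n150513 := (((D150513).symm.trans (sb E62355 F252227))).symm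
theorem F307705 : act 4 n70935 = n54701 := (sb E62355 F186905)
theorem E65286 : n155320 = n150514 := (((D150514).symm.trans (sb E62355 (iv7 F244255)))).symm
theorem F307706 : act 1 n118655 = n149289 := (sb E62356 (iv0 F253017))
theorem F307707 : act 0 n119781 = n149875 := (sb E62363 (iv1 F278906))
theorem F307708 : act 1 n119781 = n128345 := (sb E62363 (iv0 F278904))
theorem F307709 : act 5 n119781 = n127968 := (sb E62363 F278903)
theorem E65287 : n81689 = n79327 := (((F162803).symm.trans (sb E62365 F267827))).symm
theorem E65288 : n81681 = n61770 := (((F305903).symm.trans (sb E62365 F267828))).symm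
theorem F307710 : act 2 n119777 = n81680 := (sb E62366 F267816)
theorem F307711 : act 5 n39274 = n55120 := (sb E62367 (iv5 D119791))
theorem F307712 : act 5 n119553 = n73082 := (sb E62368 (iv5 D154253))
theorem F307713 : act 0 n83784 = n47259 := (sb E62369 (iv1 D101597))
theorem F307714 : act 5 n124932 = n73428 := (sb E62372 (iv5 D154831))
theorem F307715 : act 1 n83626 = n60308 := (sb E62373 (iv0 D128283))
theorem E65291 : n175099 = n162621 := ((D175099).symm.trans (sb E62373 F256853))
theorem E65292 : n175100 = n172070 := ((D175100).symm.trans (sb E62373 F270192))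
theorem F307716 : act 0 n128287 = n119441 := (sb E62374 (iv1 F259378))
theorem F307717 : act 1 n128287 = n119440 := (sb E62374 F259379)
theorem F307718 : act 2 n128287 = n119443 := (sb E62374 F259375)
theorem F307719 : act 7 n128287 = n79032 := (sb E62374 (iv7 D164555))
theorem F307720 : act 2 n167098 = n83557 := (sb E62377 F273829)
theorem F307721 : act 7 n167098 = n83562 := (sb E62377 F273830)
theorem F307722 : act 0 n114622 = n68101 := (sb E62378 (iv1 F210377))
theorem F307723 : act 1 n114622 = n68100 := (sb E62378 F210378)
theorem F307724 : act 3 n114622 = n61600 := (sb E62378 F210375)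
theorem F307725 : act 5 n114622 = n155943 := (sb E62378 (iv5 F244947))
theorem F307726 : act 7 n114622 = n61598 := (sb E62378 (iv7 D131273))
theorem F307727 : act 7 n130060 = n83555 := (sb E62379 (iv7 D174941))
theorem F307728 : act 2 n127100 = n83562 := (sb E62380 F273836)
theorem F307729 : act 7 n127100 = n83557 := (sb E62380 (iv7 D174946))
theorem F307730 : act 6 n148999 = n71522 := (sb E62388 (iv6 D151752))
theorem E65293 : n131638 = n128133 := ((D131638).symm.trans (sb E62390 F238794))
theorem E65295 : n44587 = n16169 := (((D16169).symm.trans (sb E62393 (iv5 D95446)))).symm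
theorem E65298 : n40182 = n13874 := (((D13874).symm.trans (sb E62394 (iv5 D86686)))).symm
theorem E65299 : n181629 = n13875 := (((D13875).symm.trans (sb E62394 (iv6 F282708)))).symm
theorem E65300 : n58586 = n13858 := ((((iv1 F53958)).symm.trans (sb E62395 (iv1 D125240)))).symm
theorem F307731 : act 1 n108369 = n87494 := (sb E62397 (iv0 D183293))
theorem F307732 : act 0 n157306 = n87494 := (sb E62398 (iv1 D183294))
theorem F307733 : act 5 n155933 = n87494 := (sb E62399 (iv5 D183295))
theorem F307734 : act 6 n155933 = n127963 := (sb E62399 F284949)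
theorem F307735 : act 7 n49858 = n87494 := (sb E62400 (iv7 D183296))
theorem F307736 : act 4 n127965 = n73793 := (sb E62401 (iv4 D155312))
theorem F307737 : act 7 n127965 = n148464 := (sb E62401 F244250)
theorem E65304 : n155441 = n127905 := (((iv3 F244415)).symm.trans (sb E62402 F239292))
theorem E65305 : n155442 = n71811 := ((D155442).symm.trans (sb E62402 F239293))
theorem F307738 : act 7 n73910 = n71807 := (sb E62402 (iv7 D152223))
theorem F307739 : act 3 n97944 = n60051 := (sb E62403 (iv3 D127858))
theorem E65307 : n149008 = n77726 := ((((iv3 F301848)).symm.trans (sb E62407 F235891))).symm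
theorem E65308 : n170603 = n70536 := ((D170603).symm.trans (sb E62407 (iv5 D149965)))
theorem E65309 : n72555 = n37381 := ((((iv6 D81775)).symm.trans (sb E62407 F235892))).symm
theorem E65310 : n84488 = n34374 := ((D84488).symm.trans (sb E62408 (iv5 D75042)))
theorem F307740 : act 0 n71500 = n40218 := (sb E62410 F189896)
theorem F307741 : act 4 n71500 = n39276 := (sb E62410 (iv4 D84893))
theorem E65312 : n155218 = n151725 := (((D151725).symm.trans (sb E62410 (tr D178421 E63877)))).symm
theorem E65314 : n155346 = n80679 := (((F305386).symm.trans (sb E62411 F252411))).symm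
theorem F307742 : act 5 n70777 = n76609 := (sb E62411 (iv5 D160010))
theorem F307743 : act 2 n160011 = n149908 := (sb E62412 F257282)
theorem F307744 : act 0 n80459 = n61490 := (sb E62413 (iv1 D131078))
theorem F307745 : act 3 n80459 = n74935 := (sb E62413 F209806)
theorem E65316 : n171024 = n133587 := ((D171024).symm.trans (sb E62414 F248131))
theorem F307746 : act 4 n81975 = n74935 := (sb E62414 (iv4 D157480))
theorem E65317 : n170127 = n133595 := ((D170127).symm.trans (sb E62415 (iv0 F214915)))
theorem E65318 : n170129 = n60868 := ((D170129).symm.trans (sb E62415 (iv5 D129561)))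
theorem F307747 : act 6 n81591 = n74935 := (sb E62415 (iv6 F207751))
theorem E65319 : n132338 = n96727 := ((((iv7 F149144)).symm.trans (sb E62415 (iv7 F212294)))).symm
theorem E65320 : n133139 = n47008 := ((((iv3 D100825)).symm.trans (sb E62416 F239258))).symm
theorem F307748 : act 4 n100825 = n71766 := (sb E62416 (iv4 D152175))
theorem F307749 : act 4 n100110 = n54846 := (sb E62417 F187537)
theorem F307750 : act 6 n100110 = n54845 := (sb E62417 (iv6 D119186))
theorem F307751 : act 4 n23345 = n30558 := (sb E62418 (iv4 D65064))
theorem F307752 : act 0 n100468 = n54845 := (sb E62419 (iv1 F166607))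
theorem F307753 : act 4 n100468 = n114564 := (sb E62419 (iv4 F178648))
theorem F307754 : act 7 n100468 = n54842 := (sb E62419 F166608)
theorem F307755 : act 0 n61707 = n48202 := (sb E62420 F233130)
theorem E65325 : n131486 = n46463 := ((D131486).symm.trans (sb E62420 (iv3 D99366)))
theorem F307756 : act 0 n104167 = n157401 := (sb E62421 (iv1 F247886))
theorem F307757 : act 1 n104167 = n131401 := (sb E62421 (iv0 F210621))
theorem F307758 : act 2 n104167 = n54844 := (sb E62421 F166609)
theorem F307759 : act 7 n104167 = n74932 := (sb E62421 F166610)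
theorem F307760 : act 3 n34338 = n48209 := (sb E62422 F233123)
theorem F307761 : act 7 n34338 = n48202 := (sb E62422 F233125)
theorem E65326 : n61486 = n17127 := ((D61486).symm.trans (sb E62423 (iv4 D35291)))
theorem E65328 : n61487 = n37302 := ((D61487).symm.trans (sb E62423 F297138))
theorem E65329 : n171112 = n60051 := ((((iv1 F94578)).symm.trans (sb E62424 D171112))).symm
theorem E65331 : n120664 = n37571 := ((D120664).symm.trans (sb E62424 (iv3 D82012)))
theorem E65332 : n123151 = n120665 := (((D120665).symm.trans (sb E62424 (iv5 F304273)))).symm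
theorem E65333 : n76833 = n71998 := ((((iv6 F108482)).symm.trans (sb E62424 F301451))).symm
theorem E65334 : n150428 = n55300 := ((((iv1 F130754)).symm.trans (sb E62426 F236824))).symm
theorem E65341 : n117265 = n70246 := ((((iv5 F120271)).symm.trans (sb E62428 (iv5 F210062)))).symm
theorem F307762 : act 6 n79066 = n155564 := (sb E62428 (iv6 F244571))
theorem E65343 : n83943 = n26898 := (((F303900).symm.trans (sb E62429 F132919))).symm
theorem E65347 : n40199 = n29173 := ((D40199).symm.trans (sb E62431 (iv5 D61589)))
theorem E65348 : n72557 = n40200 := (((D40200).symm.trans (sb E62431 F185240))).symm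
theorem F307763 : act 5 n61014 = n40198 := (sb E62432 (iv5 D86698))
theorem E65353 : n155212 = n61534 := (((iv1 F302806)).symm.trans (sb E62433 (iv1 F187511)))
theorem E65354 : n181657 = n61533 := ((D181657).symm.trans (sb E62433 F187512))
theorem E65355 : n167893 = n54838 := (((iv7 F264530)).symm.trans (sb E62433 (iv7 D119163)))
theorem E65356 : n175471 = n33133 := (((F78812).symm.trans (sb E62434 D175471))).symm
theorem E65358 : n107893 = n46555 := (((iv2 F166713)).symm.trans (sb E62434 F128828))
theorem E65359 : n175473 = n107904 := (((D107904).symm.trans (sb E62434 D175473))).symm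
theorem F307764 : act 6 n49839 = n38606 := (sb E62434 (iv6 D83793))
theorem E65360 : n175474 = n107906 := (((D107906).symm.trans (sb E62434 D175474))).symm
theorem F307765 : act 1 n70472 = n76620 := (sb E62435 F232959)
theorem E65362 : n149892 = n33902 := ((D149892).symm.trans (sb E62435 (iv5 D73817)))
theorem F307766 : act 1 n55336 = n40218 := (sb E62436 F189895)
theorem F307767 : act 4 n55336 = n39275 := (sb E62436 (iv4 D84888))
theorem E65364 : n178416 = n120256 := (((D120256).symm.trans (sb E62436 D178416))).symm
theorem F307768 : act 4 n55123 = n76620 := (sb E62437 (iv4 D160019))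
theorem F307769 : act 5 n149872 = n76608 := (sb E62438 (iv5 D160007))
theorem F307770 : act 4 n127960 = n85401 := (sb E62439 (iv4 D179011))
theorem F307771 : act 3 n52872 = n31798 := (sb E62440 F85142)
theorem E65366 : n117101 = n25661 := ((((iv4 D52872)).symm.trans (sb E62440 (iv4 F183147)))).symm
theorem E65367 : n114544 = n26103 := ((D114544).symm.trans (sb E62440 (iv6 D53968)))
theorem E65368 : n142532 = n71899 := (((iv3 F225424)).symm.trans (sb E62441 F235319))
theorem E65369 : n145746 = n77645 := ((D145746).symm.trans (sb E62441 F298570))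
theorem F307772 : act 7 n68333 = n114604 := (sb E62441 F235321)
theorem F307773 : act 2 n68355 = n114604 := (sb E62443 F185443)
theorem E65370 : n143608 = n54376 := (((iv3 F226296)).symm.trans (sb E62443 (iv3 D118050)))
theorem E65371 : n145800 = n77644 := (((iv5 F228934)).symm.trans (sb E62443 F298567))
theorem E65372 : n148149 = n119070 := (((D119070).symm.trans (sb E62446 (iv3 F231964)))).symm
theorem E65373 : n147531 = n26506 := ((((iv4 D54795)).symm.trans (sb E62446 F231320))).symm
theorem E65374 : n119071 = n86010 := ((D119071).symm.trans (sb E62446 (iv6 F183149)))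
theorem E65375 : n123045 = n100727 := (((F187924).symm.trans (sb E62447 F206322))).symm
theorem F307774 : act 6 n119336 = n60260 := (sb E62447 (iv6 D128181))
theorem E65377 : n123588 = n89106 := ((D123588).symm.trans (sb E62448 (iv0 F273305)))
theorem F307775 : act 4 n57608 = n83374 := (sb E62448 (iv4 D174426))
theorem E65380 : n83095 = n61012 := ((D83095).symm.trans (sb E62449 (iv6 D129892)))
theorem F307776 : act 3 n128057 = n120158 := (sb E62450 (iv3 F244044))
theorem F307777 : act 4 n128057 = n73703 := (sb E62450 (iv4 D155197))
theorem F307778 : act 5 n128057 = n120151 := (sb E62450 (iv5 F244045))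
theorem F307779 : act 4 n128053 = n61595 := (sb E62451 F207973)
theorem E65381 : n149684 = n69449 := (((D69449).symm.trans (sb E62452 (iv4 F235346)))).symm
theorem E65382 : n181107 = n149007 := ((F282078).symm.trans (sb E62453 F238775))
theorem F307780 : act 5 n151769 = n153873 := (sb E62453 F241788)
theorem F307781 : act 1 n151771 = n119775 := (sb E62454 F238776)
theorem F307782 : act 2 n151771 = n154075 := (sb E62454 (iv2 F242134))
theorem F307783 : act 3 n151771 = n119819 := (sb E62454 (iv3 F238779))
theorem F307785 : act 5 n151771 = n120571 := (sb E62454 F238778)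
theorem F307786 : act 7 n151771 = n154076 := (sb E62454 (iv7 F242136))
theorem F307787 : act 5 n72938 = n71542 := (sb E62455 (iv5 D151772))
theorem F307788 : act 2 n123233 = n133629 := (sb E62460 (iv2 F238812))
theorem F307789 : act 3 n123233 = n119118 := (sb E62460 F238813)
theorem F307790 : act 5 n123233 = n76594 := (sb E62460 F238811)
theorem F307791 : act 6 n123233 = n71645 := (sb E62460 F238814)
theorem F307792 : act 7 n123233 = n120220 := (sb E62460 F238815)
theorem F307793 : act 5 n84894 = n71543 := (sb E62461 (iv5 D151775))
theorem F307794 : act 1 n151776 = n133629 := (sb E62462 F238818)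
theorem F307795 : act 5 n151776 = n119554 := (sb E62462 F238816)
theorem F307796 : act 0 n131177 = n71550 := (sb E62467 (iv1 D151786))
theorem F307797 : act 1 n131177 = n101494 := (sb E62467 (iv0 F304749))
theorem E65383 : n119552 = n99605 := ((((iv5 F153354)).symm.trans (sb E62474 (iv5 F238869)))).symm
theorem E65384 : n170884 = n71675 := ((D170884).symm.trans (sb E62474 F238866))
theorem E65385 : n117495 = n97228 := ((((iv1 F149984)).symm.trans (sb E62475 F238875))).symm
theorem F307799 : act 1 n151800 = n151966 := (sb E62481 (iv0 F238970))
theorem F307800 : act 2 n151800 = n73470 := (sb E62481 F238892)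
theorem F307801 : act 6 n151800 = n73407 := (sb E62481 F238893)
theorem F307802 : act 5 n118701 = n71687 := (sb E62486 F238902)
theorem F307803 : act 7 n117403 = n54167 := (sb E62543 F186336)
theorem F307804 : act 2 n55737 = n86587 := (sb E62544 (iv2 D181347))
theorem F307805 : act 4 n176973 = n86587 := (sb E62545 (iv4 D181349))
theorem E65387 : n181343 = n70455 := (E62550).trans E63876
theorem F307806 : act 1 n70455 = n86586 := (sb E65387 (iv0 D181343))
theorem E65388 : n178421 = n151725 := (E63877).trans E65312
theorem E65389 : n181344 = n151725 := (E62551).trans E65388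
theorem E65390 : n155614 = n86586 := ((F244646).symm.trans (sb E65389 (iv1 D181344)))
theorem F307807 : act 7 n106037 = n86586 := (sb E62552 (iv7 D181346))
theorem E65391 : n173441 = n54553 := ((D173441).symm.trans (sb E62555 (iv1 F162949)))
theorem E65392 : n173442 = n55147 := ((D173442).symm.trans (sb E62555 (iv0 F162948)))
theorem F307808 : act 4 n82992 = n49017 := (sb E62555 (iv4 D106051))
theorem E65393 : n173444 = n71790 := ((D173444).symm.trans (sb E62555 (iv7 F162959)))
theorem F307809 : act 2 n106052 = n88110 := (sb E62556 F287237)
theorem E65394 : n124573 = n114734 := (((D114734).symm.trans (sb E62558 (iv1 F299981)))).symm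
theorem E65395 : n121482 = n114735 := (((D114735).symm.trans (sb E62558 (iv0 F299977)))).symm
theorem F307810 : act 3 n52953 = n49018 := (sb E62558 (iv3 D106054))
theorem E65396 : n124571 = n114737 := (((D114737).symm.trans (sb E62558 (iv7 F299980)))).symm
theorem F307811 : act 3 n71906 = n145811 := (sb E62559 (iv3 F252094))
theorem F307819 : act 1 n96783 = n70126 := (sb E62562 (iv0 D149352))
theorem E65397 : n96783 = n76629 := (((D76629).symm.trans (iv5 (sb E62562 (tr F234807 E62879))))).symm
theorem E65398 : n149352 = n76629 := (E62562).trans E65397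
theorem E65399 : n160033 = n127529 := ((D160033).symm.trans (sb E65398 (iv6 F234823)))
theorem E65400 : n160034 = n70771 := ((D160034).symm.trans (sb E65398 (iv7 F234822)))
theorem E65401 : n158918 = n152429 := (((D152429).symm.trans (sb E62563 (iv1 F250233)))).symm
theorem E65402 : n152430 = n69565 := ((D152430).symm.trans (sb E62563 (iv0 D148458)))
theorem E65403 : n107879 = n79288 := (((iv1 F166679)).symm.trans (sb E62564 F305841))
theorem E65404 : n71651 = n40235 := (((iv0 F108141)).symm.trans (sb E62564 F191197))
theorem E65405 : n61622 = n32533 := ((F97955).symm.trans (sb E62564 F106496))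
theorem E65406 : n133727 = n79844 := ((D133727).symm.trans (sb E62564 (iv3 F122587)))
theorem E65407 : n149327 = n133728 := (((D133728).symm.trans (sb E62564 D149327))).symm
theorem F307821 : act 6 n62774 = n32530 := (sb E62564 (iv6 D70115))
theorem E65408 : n74835 = n70125 := (((iv1 F112317)).symm.trans (sb E62566 (iv1 F305833)))
theorem E65409 : n74837 = n70124 := (((iv0 F112321)).symm.trans (sb E62566 (iv0 F305835)))
theorem E65410 : n62771 = n36093 := (((iv2 F97945)).symm.trans (sb E62566 F121683))
theorem E65411 : n131316 = n85788 := ((D131316).symm.trans (sb E62566 F303812))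
theorem E65412 : n152428 = n131317 := (((D131317).symm.trans (sb E62566 (iv5 F301142)))).symm
theorem E65413 : n131318 = n36092 := ((D131318).symm.trans (sb E62566 (iv6 D79286)))
theorem E65414 : n128076 = n17930 := (((D17930).symm.trans (sb E62568 (iv5 F206109)))).symm
theorem E65415 : n81679 = n61772 := ((D81679).symm.trans (sb E62569 F206090))
theorem E65416 : n160021 = n36825 := (((F58271).symm.trans (sb E62569 (iv4 F252445)))).symm
theorem E65418 : n129557 = n81658 := ((F207742).symm.trans (sb E62570 F149223))
theorem E65419 : n157443 = n70829 := ((D157443).symm.trans (sb E62570 (iv4 F301192)))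
theorem E65420 : n181365 = n157444 := (((D157444).symm.trans (sb E62570 F298528))).symm
theorem F307822 : act 6 n74896 = n45216 := (sb E62570 (iv6 D96755))
theorem E65421 : n28458 = n17933 := ((((iv3 D37341)).symm.trans (sb E62571 F94388))).symm
theorem E65422 : n127566 = n32415 := (((F58276).symm.trans (sb E62571 (iv4 F205025)))).symm
theorem E65423 : n81697 = n28455 := ((D81697).symm.trans (sb E62571 (iv6 D59907)))
theorem E65424 : n54239 = n23890 := (((F55457).symm.trans (sb E62573 (iv1 D117739)))).symm
theorem E65425 : n86779 = n33130 := (((F55569).symm.trans (sb E64957 (iv0 F243603)))).symm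
theorem E65426 : n73481 = n49824 := (((D49824).symm.trans (sb E64957 F243602))).symm
theorem F307827 : act 0 n148461 = n152432 := (sb E62576 F283752)
theorem F307828 : act 1 n148461 = n76588 := (sb E62576 F283753)
theorem F307829 : act 3 n148461 = n76350 := (sb E62576 (iv3 D159589))
theorem E65427 : n166291 = n69573 := (((F232206).symm.trans (sb E62576 (iv4 F261851)))).symm
theorem F307830 : act 6 n148461 = n166280 := (sb E62576 (iv6 F261819))
theorem F307831 : act 0 n148441 = n76588 := (sb E62577 (iv1 D159966))
theorem F307832 : act 1 n148441 = n152432 := (sb E62577 F252311)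
theorem F307833 : act 3 n148441 = n76598 := (sb E62577 F283755)
theorem F307834 : act 2 n148459 = n152432 := (sb E62578 F252315)
theorem F307835 : act 7 n148459 = n76588 := (sb E62578 (iv7 D159968))
theorem E65428 : n129750 = n118027 := ((((iv2 F185400)).symm.trans (sb E62579 (iv2 F207975)))).symm
theorem F307836 : act 5 n114697 = n60760 := (sb E62579 (iv5 D129271))
theorem F307837 : act 6 n114697 = n60762 := (sb E62579 F207480)
theorem F307838 : act 7 n70571 = n61741 := (sb E62580 (iv7 D131586))
theorem E65429 : n178486 = n32460 := ((((iv1 F184655)).symm.trans (sb E62581 F278120))).symm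
theorem E65430 : n178491 = n61714 := (((F184652).symm.trans (sb E62581 (iv0 F278125)))).symm
theorem E65431 : n133855 = n54955 := ((D133855).symm.trans (sb E62581 F178812))
theorem F307839 : act 6 n62873 = n52941 := (sb E62581 (iv6 D114703))
theorem F307840 : act 0 n68523 = n32611 := (sb E62582 (iv1 D70261))
theorem F307841 : act 1 n68523 = n52940 := (sb E62582 F106708)
theorem E65432 : n146133 = n80083 := (((iv4 F229389)).symm.trans (sb E62582 (iv4 F122897)))
theorem F307842 : act 7 n68523 = n98772 := (sb E62582 (iv7 F296810))
theorem F307843 : act 5 n70260 = n61594 := (sb E62583 (iv5 D131266))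
theorem E65434 : n149617 = n125203 := ((D149617).symm.trans (sb E62583 F210350))
theorem F307844 : act 7 n70260 = n117157 := (sb E62583 F210351)
theorem E65435 : n106072 = n52942 := (((iv3 F163026)).symm.trans (sb E62584 F178810))
theorem F307845 : act 6 n60373 = n52940 := (sb E62584 (iv6 D114702))
theorem E65438 : n149624 = n125100 := ((((iv4 F200973)).symm.trans (sb E62585 (iv4 F235223)))).symm
theorem F307846 : act 6 n68480 = n32611 := (sb E62585 (iv6 D70264))
theorem F307847 : act 1 n131655 = n70896 := (sb E62586 (iv0 D150442))
theorem F307848 : act 0 n62933 = n70896 := (sb E62587 (iv1 D150443))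
theorem F307849 : act 5 n62808 = n70896 := (sb E62588 (iv5 D150444))
theorem F307850 : act 7 n62871 = n70896 := (sb E62589 (iv7 D150445))
theorem E65443 : n27871 = n24394 := (((F54345).symm.trans (sb E62591 (iv3 D58577)))).symm
theorem F307851 : act 6 n29197 = n32531 := (sb E62591 F301071)
theorem E65445 : n96191 = n61649 := ((((iv1 F97953)).symm.trans (sb E62592 (iv1 F147915)))).symm
theorem E65447 : n61652 = n39543 := ((F97950).symm.trans (sb E62592 (iv2 D85578)))
theorem E65450 : n39339 = n29199 := (((D29199).symm.trans (sb E62594 F130415))).symm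
theorem E65451 : n85068 = n61627 := (((F97934).symm.trans (sb E62595 (iv1 F227741)))).symm
theorem E65452 : n133708 = n67874 := ((D133708).symm.trans (sb E62595 (iv5 D144831)))
theorem E65453 : n148908 = n75840 := ((((iv1 F130910)).symm.trans (sb E62596 D148908))).symm
theorem E65455 : n148474 = n32417 := ((D148474).symm.trans (sb E62596 F106221))
theorem E65456 : n148911 = n148445 := (((F233045).symm.trans (sb E62596 D148911))).symm
theorem F307852 : act 5 n63209 = n33207 := (sb E62597 (iv5 D71853))
theorem E65460 : n134688 = n124987 := ((D134688).symm.trans (sb E62598 F239438))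
theorem E65464 : n134693 = n124988 := ((D134693).symm.trans (sb E62599 (iv5 F200763)))
theorem F307853 : act 0 n120220 = n73082 := (sb E62604 (iv1 D154252))
theorem F307854 : act 1 n120220 = n151776 := (sb E62604 F242363)
theorem F307855 : act 4 n120220 = n123224 := (sb E62604 (iv4 F242364))
theorem F307856 : act 1 n117748 = n95874 := (sb E62605 (iv0 F233940))
theorem F307857 : act 2 n117748 = n88814 := (sb E62605 F233936)
theorem F307858 : act 4 n117748 = n100891 := (sb E62605 F233937)
theorem F307859 : act 5 n117748 = n87997 := (sb E62605 F233938)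
theorem F307860 : act 7 n117748 = n159610 := (sb E62605 (iv7 F251430))
theorem E65473 : n151597 = n107950 := ((F238479).symm.trans (sb E62606 (iv0 F247547)))
theorem F307861 : act 2 n122667 = n152059 := (sb E62606 F247548)
theorem F307862 : act 4 n122667 = n74795 := (sb E62606 (iv4 D157307))
theorem F307863 : act 7 n122667 = n152060 := (sb E62606 F247545)
theorem E65474 : n152059 = n151595 := ((D152059).symm.trans (sb E62607 (iv1 F238473)))
theorem E65475 : n152060 = n151594 := ((D152060).symm.trans (sb E62607 F238478))
theorem F307864 : act 7 n71689 = n56982 := (sb E62607 (iv7 D122669))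
theorem F307865 : act 0 n178971 = n85428 := (sb E62608 (iv1 F278878))
theorem F307867 : act 3 n178971 = n152315 := (sb E62608 F278876)
theorem F307869 : act 7 n178971 = n85379 := (sb E62608 (iv7 D178978))
theorem F307870 : act 0 n147035 = n69292 := (sb E62610 F231666)
theorem F307871 : act 5 n147035 = n69058 := (sb E62610 (iv5 D147297))
theorem E65476 : n170639 = n149728 := (((F240642).symm.trans (sb E62611 (iv0 F268089)))).symm
theorem F307872 : act 5 n147298 = n81613 := (sb E62611 (iv5 D170162))
theorem F307873 : act 0 n131452 = n70916 := (sb E62612 (iv1 D150484))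
theorem E65477 : n167639 = n81716 := ((F306998).symm.trans (sb E62612 (iv3 F263475)))
theorem E65478 : n80310 = n80255 := (((F306999).symm.trans (sb E62612 F303049))).symm
theorem F307874 : act 2 n77705 = n68068 := (sb E62614 F182788)
theorem E65479 : n161784 = n157428 := ((D161784).symm.trans (sb E62614 F247959))
theorem E65480 : n161785 = n53898 := ((D161785).symm.trans (sb E62614 (iv5 D116951)))
theorem F307875 : act 6 n77705 = n118404 := (sb E62614 (iv6 F186046))
theorem F307876 : act 4 n77712 = n61387 := (sb E62615 (iv4 F207479))
theorem E65481 : n161813 = n132495 := ((D161813).symm.trans (sb E62616 (iv2 F212618)))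
theorem E65482 : n161816 = n60877 := ((D161816).symm.trans (sb E62616 F207766))
theorem E65483 : n161818 = n60876 := ((D161818).symm.trans (sb E62616 (iv7 D129590)))
theorem F307878 : act 0 n62159 = n35472 := (sb E62617 (iv1 D77714))
theorem F307879 : act 0 n77716 = n60876 := (sb E62618 (iv1 D129588))
theorem F307880 : act 1 n77716 = n132495 := (sb E62618 F212620)
theorem E65489 : n161848 = n141807 := (((D141807).symm.trans (sb E62619 (iv3 F255817)))).symm
theorem E65490 : n161865 = n141652 := ((((iv4 F224715)).symm.trans (sb E62619 (iv4 F255853)))).symm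
theorem F307882 : act 6 n66486 = n35477 := (sb E62619 (iv6 D77739))
theorem F307883 : act 0 n79080 = n54167 := (sb E62620 (iv1 F184063))
theorem E65492 : n164599 = n54162 := ((D164599).symm.trans (sb E62620 F184062))
theorem E65493 : n120141 = n69759 := ((D120141).symm.trans (sb E62621 F233702))
theorem F307884 : act 6 n55286 = n69758 := (sb E62621 (iv6 D148831))
theorem F307885 : act 7 n85290 = n82998 := (sb E62622 (iv7 D173463))
theorem F307886 : act 0 n173197 = n161515 := (sb E62623 F303089)
theorem F307887 : act 1 n173197 = n83302 := (sb E62623 (iv0 D174280))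
theorem F307888 : act 4 n173197 = n128110 := (sb E62623 F273072)
theorem F307889 : act 7 n173197 = n119689 := (sb E62623 (iv7 F273074))
theorem F307890 : act 0 n71786 = n82999 := (sb E62624 (iv1 D173465))
theorem F307891 : act 7 n55068 = n82999 := (sb E62625 (iv7 D173467))
theorem E65494 : n157417 = n98110 := ((D157417).symm.trans (sb E62626 F235657))
theorem F307892 : act 3 n129269 = n78045 := (sb E62627 F235677)
theorem F307893 : act 7 n129269 = n128053 := (sb E62627 F235678)
theorem F307894 : act 2 n134708 = n128057 := (sb E62628 F256731)
theorem F307895 : act 6 n134708 = n78045 := (sb E62628 (iv6 D162532))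
theorem E65495 : n159703 = n57817 := ((D159703).symm.trans (sb E62629 (tr F239005 E64268)))
theorem E65496 : n130145 = n72856 := (((F114559).symm.trans (sb E62629 F239004))).symm
theorem F307896 : act 4 n76407 = n71660 := (sb E62629 (iv4 D151989))
theorem E65497 : n159705 = n136653 := ((D159705).symm.trans (sb E62629 (iv5 F239006)))
theorem F307897 : act 4 n32694 = n33902 := (sb E62631 (iv4 D73816))
theorem F307898 : act 0 n73811 = n49001 := (sb E62632 (iv1 D106003))
theorem F307899 : act 2 n73811 = n54415 := (sb E62632 F189979)
theorem E65499 : n155345 = n60248 := ((D155345).symm.trans (sb E62632 F189980))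
theorem F307900 : act 7 n73811 = n60225 := (sb E62632 F189982)
theorem F307902 : act 0 n78335 = n71500 := (sb E62634 F305974)
theorem F307903 : act 1 n78335 = n55336 := (sb E62634 F305975)
theorem E65500 : n162930 = n55109 := ((D162930).symm.trans (sb E62634 (iv5 D119764)))
theorem F307904 : act 4 n36574 = n61741 := (sb E62639 F210831)
theorem F307905 : act 4 n83198 = n61746 := (sb E62642 F210840)
theorem F307906 : act 0 n57451 = n77705 := (sb E62643 (iv1 D161783))
theorem F307907 : act 1 n57451 = n77710 := (sb E62643 F255781)
theorem F307908 : act 0 n62811 = n77710 := (sb E62644 (iv1 F255785))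
theorem F307909 : act 1 n62811 = n77705 := (sb E62644 (iv0 D161782))
theorem F307910 : act 2 n131268 = n77710 := (sb E62645 F255783)
theorem E65501 : n161376 = n131268 := ((D161376).symm.trans (iv4 (sb E62645 (tr F255784 E63819))))
theorem F307911 : act 7 n131268 = n77705 := (sb E62645 (iv7 D161787))
theorem F307912 : act 2 n147776 = n88124 := (sb E62661 F282565)
theorem F307913 : act 6 n147776 = n86673 := (sb E62661 F282566)
theorem E65502 : n145737 = n86671 := (((D86671).symm.trans (sb E62662 F231486))).symm
theorem E65503 : n145732 = n86672 := (((D86672).symm.trans (sb E62662 (iv0 F229291)))).symm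
theorem F307914 : act 6 n40168 = n73173 := (sb E62662 F229288)
theorem E65504 : n145736 = n58131 := ((((iv7 F299091)).symm.trans (sb E62662 F229289))).symm
theorem F307915 : act 0 n154467 = n175211 := (sb E62664 (iv1 F285507))
theorem F307916 : act 1 n154468 = n175211 := (sb E62665 F285503)
theorem F307917 : act 2 n83681 = n73170 := (sb E62666 F242508)
theorem F307918 : act 2 n154469 = n175210 := (sb E62667 F285504)
theorem F307919 : act 0 n106035 = n175209 := (sb E62668 (iv1 F285508))
theorem F307920 : act 1 n106035 = n175208 := (sb E62668 F285509)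
theorem F307921 : act 2 n106035 = n175211 := (sb E62668 F285505)
theorem E65505 : n65186 = n15565 := ((((iv1 F37312)).symm.trans (sb E62669 (iv1 D138839)))).symm
theorem F307922 : act 0 n106019 = n68478 := (sb E62670 (iv1 F229272))
theorem F307923 : act 2 n106019 = n68479 := (sb E62670 F229268)
theorem F307924 : act 3 n106019 = n144838 := (sb E62670 F229269)
theorem F307925 : act 6 n106019 = n144860 := (sb E62670 F229271)
theorem F307926 : act 7 n106019 = n68473 := (sb E62670 (iv7 D146035))
theorem F307927 : act 0 n31865 = n49009 := (sb E62671 (iv1 D106020))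
theorem F307928 : act 1 n106021 = n159963 := (sb E62672 (iv0 F252308))
theorem F307929 : act 0 n106022 = n68473 := (sb E62673 (iv1 D146034))
theorem F307930 : act 1 n106022 = n68479 := (sb E62673 F229263)
theorem F307931 : act 2 n106022 = n68478 := (sb E62673 (iv2 F229267))
theorem E65506 : n86461 = n74893 := ((D86461).symm.trans (sb E62675 (iv5 F209589)))
theorem E65507 : n129523 = n85618 := ((((iv7 F299065)).symm.trans (sb E62675 (iv7 F209590)))).symm
theorem E65509 : n176408 = n61010 := (((F208670).symm.trans (sb E62676 F300590))).symm
theorem E65510 : n129535 = n60029 := (((iv3 F207675)).symm.trans (sb E62676 F205662))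
theorem F307932 : act 4 n60862 = n86458 := (sb E62676 F205663)
theorem F307933 : act 6 n60862 = n60028 := (sb E62676 (iv6 D127832))
theorem E65511 : n176410 = n61013 := (((F209642).symm.trans (sb E62676 F300591))).symm
theorem F307934 : act 0 n132989 = n86458 := (sb E62677 F301865)
theorem F307935 : act 3 n157441 = n86584 := (sb E62678 F281869)
theorem F307936 : act 5 n157441 = n86458 := (sb E62678 (iv5 D181027))
theorem F307937 : act 0 n129895 = n86460 := (sb E62679 F301860)
theorem F307938 : act 3 n129895 = n85668 := (sb E62679 F301862)
theorem F307939 : act 7 n129895 = n86458 := (sb E62679 F301863)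
theorem E65512 : n85665 = n74836 := ((D85665).symm.trans (sb E62680 F247686))
theorem E65513 : n138523 = n85666 := (((D85666).symm.trans (sb E62680 (iv5 F247688)))).symm
theorem E65514 : n65184 = n57683 := (((F90868).symm.trans (sb E62681 (iv3 D138830)))).symm
theorem E65515 : n139112 = n85660 := (((D85660).symm.trans (sb E62681 (iv4 F222298)))).symm
theorem E65516 : n85661 = n74375 := ((D85661).symm.trans (sb E62681 (iv5 F245741)))
theorem E65517 : n107775 = n85673 := ((((iv1 F131401)).symm.trans (sb E62682 (iv1 F219745)))).symm
theorem E65518 : n85672 = n65177 := ((F131399).symm.trans (sb E62682 (iv0 F221936)))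
theorem E65519 : n107798 = n60030 := ((((iv3 F94530)).symm.trans (sb E62682 F219741))).symm
theorem E65520 : n86764 = n64219 := ((D86764).symm.trans (sb E62682 F219742))
theorem E65521 : n85669 = n64216 := (((iv7 F131388)).symm.trans (sb E62682 (iv7 D136616)))
theorem E65522 : n130256 = n58527 := ((((iv3 F92453)).symm.trans (sb E62683 F219735))).symm
theorem E65523 : n129718 = n8757 := ((((iv3 D18654)).symm.trans (sb E62684 (iv3 F207908)))).symm
theorem F307940 : act 4 n18654 = n29200 := (sb E62684 F96193)
theorem E65524 : n62689 = n39338 := (((D39338).symm.trans (sb E62684 (iv5 F185316)))).symm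
theorem E65525 : n96758 = n86642 := (((E64265).symm.trans ((D131331).symm.trans (sb E62685 (iv1 F298539))))).symm
theorem E65526 : n131332 = n86566 := (E64266).trans E65202
theorem F307941 : act 3 n61506 = n85670 := (sb E62686 F267419)
theorem F307942 : act 4 n61508 = n85670 := (sb E62687 F199820)
theorem E65530 : n155206 = n131108 := (((D131108).symm.trans (sb E62687 (iv6 F244071)))).symm
theorem F307943 : act 6 n133712 = n85670 := (sb E62688 F264481)
theorem F307944 : act 1 n127941 = n86584 := (sb E62689 F279588)
theorem F307945 : act 7 n127941 = n86598 := (sb E62689 F279589)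
theorem F307946 : act 0 n74899 = n86584 := (sb E62690 (iv1 F279585))
theorem F307947 : act 2 n74899 = n86598 := (sb E62690 (iv2 F279586))
theorem F307948 : act 0 n127942 = n86598 := (sb E62691 F279568)
theorem F307949 : act 5 n127942 = n85668 := (sb E62691 (iv5 D179543))
theorem F307950 : act 7 n127942 = n86584 := (sb E62691 F279567)
theorem F307951 : act 0 n105434 = n149878 := (sb E62692 (iv1 F244109))
theorem F307952 : act 1 n105434 = n73718 := (sb E62692 (iv0 D155216))
theorem E65531 : n161884 = n96631 := (((F161835).symm.trans (sb E62692 (iv3 F255869)))).symm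
theorem E65536 : n29581 = n17126 := (((D17126).symm.trans (sb E62696 (iv1 D62559)))).symm
theorem E65538 : n160031 = n70769 := (((D70769).symm.trans (sb E62697 (iv3 F252488)))).symm
theorem F307953 : act 4 n32804 = n35019 := (sb E62697 F114913)
theorem E65539 : n160035 = n70772 := (((D70772).symm.trans (sb E62697 D160035))).symm
theorem E65540 : n121364 = n70774 := (((D70774).symm.trans (sb E62698 D121364))).symm
theorem F307954 : act 4 n32805 = n27003 := (sb E62698 (iv4 D55989))
theorem E65541 : n121365 = n70776 := (((D70776).symm.trans (sb E62698 D121365))).symm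
theorem F307955 : act 4 n32807 = n29686 := (sb E62701 (iv4 D62759))
theorem F307956 : act 1 n62843 = n33082 := (sb E62703 (iv0 D71514))
theorem E65546 : n133815 = n54425 := ((D133815).symm.trans (sb E62703 F233036))
theorem E65547 : n133816 = n69573 := ((D133816).symm.trans (sb E62703 F233038))
theorem E65548 : n151736 = n133817 := (((D133817).symm.trans (sb E62703 D151736))).symm
theorem E65550 : n133827 = n133818 := (((D133818).symm.trans (sb E62705 (tr (iv1 F264508) E65026)))).symm
theorem F307957 : act 0 n29280 = n33082 := (sb E62706 (iv1 D71515))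
theorem E65551 : n60784 = n34672 := (((iv3 F95363)).symm.trans (sb E62706 F233031))
theorem E65552 : n69560 = n61768 := (((D61768).symm.trans (sb E62706 F233033))).symm
theorem E65553 : n151737 = n61769 := (((D61769).symm.trans (sb E62706 D151737))).symm
theorem E65555 : n120175 = n26732 := ((((iv3 D55315)).symm.trans (sb E62709 (iv3 F189805)))).symm
theorem F307958 : act 4 n55315 = n61833 := (sb E62709 F209876)
theorem E65556 : n157497 = n120220 := (((D120220).symm.trans (sb E62709 D157497))).symm
theorem F307959 : act 5 n74898 = n86598 := (sb E62710 F298535)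
theorem F307960 : act 0 n74959 = n55996 := (sb E62712 F232772)
theorem E65557 : n54423 = n34350 := (((F112481).symm.trans (sb E62712 (iv3 D118143)))).symm
theorem E65558 : n157505 = n133629 := (((iv5 F248207)).symm.trans (sb E62712 F214998))
theorem F307961 : act 1 n139206 = n71009 := (sb E62713 (iv0 D150638))
theorem F307962 : act 5 n139206 = n166052 := (sb E62713 (iv5 F261461))
theorem F307963 : act 4 n69797 = n61614 := (sb E62714 F210415)
theorem E65562 : n156533 = n33088 := (((D33088).symm.trans (sb E62715 D156533))).symm
theorem E65563 : n65005 = n33089 := (((D33089).symm.trans (sb E62715 F111721))).symm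
theorem E65564 : n85069 = n61628 := (((iv0 F233146)).symm.trans (sb E62716 F112442))
theorem E65565 : n157470 = n117351 := ((((iv4 F183779)).symm.trans (sb E62716 D157470))).symm
theorem E65567 : n117354 = n107863 := ((D117354).symm.trans (sb E62716 (iv7 F166651)))
theorem F307964 : act 7 n49817 = n33082 := (sb E62717 (iv7 D71516))
theorem E65568 : n157498 = n118070 := ((D157498).symm.trans (sb E62718 F193622))
theorem E65569 : n157499 = n131088 := ((D157499).symm.trans (sb E62718 F232716))
theorem F307965 : act 7 n74956 = n55996 := (sb E62718 (iv7 D121378))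
theorem E65571 : n149577 = n149570 := (((F235185).symm.trans (iv0 (sb E62721 (tr (iv1 F264488) E65024))))).symm
theorem E65572 : n150627 = n149570 := (E62721).trans E65571
theorem F307966 : act 5 n149570 = n71003 := (sb E65572 (iv5 D150627))
theorem E65573 : n81721 = n70222 := ((F125637).symm.trans (sb E62722 (iv0 D149522)))
theorem F307967 : act 3 n37355 = n70243 := (sb E62722 F237679)
theorem E65574 : n150970 = n81735 := (((D81735).symm.trans (sb E62722 (iv6 F237678)))).symm
theorem F307968 : act 7 n149579 = n167867 := (sb E62723 (iv7 F264496))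
theorem E65575 : n172347 = n37891 := ((((iv1 F301540)).symm.trans (sb E62726 (iv1 F270579)))).symm
theorem E65577 : n172147 = n37893 := ((D172147).symm.trans (sb E62726 F127182))
theorem E65578 : n172355 = n158441 := ((((iv4 F270322)).symm.trans (sb E62726 (iv4 F270588)))).symm
theorem E65579 : n172360 = n172149 := (((D172149).symm.trans (sb E62726 (iv5 F270591)))).symm
theorem E65580 : n172365 = n172150 := (((D172150).symm.trans (sb E62726 D172365))).symm
theorem E65581 : n172151 = n37892 := ((D172151).symm.trans (sb E62726 (iv7 D82539)))
theorem F307970 : act 0 n129582 = n77711 := (sb E62727 (iv1 F255790))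
theorem F307971 : act 1 n129582 = n77706 := (sb E62727 (iv0 D161788))
theorem F307972 : act 1 n44937 = n68356 := (sb E62728 F252097)
theorem E65582 : n59914 = n21448 := ((((iv3 D44937)).symm.trans (sb E62728 F205032))).symm
theorem E65583 : n159873 = n96251 := (((D96251).symm.trans (sb E62728 (iv6 F252063)))).symm
theorem F307973 : act 0 n48744 = n68356 := (sb E62729 F234782)
theorem E65584 : n159877 = n23774 := ((((iv4 D48744)).symm.trans (sb E62729 (iv4 F252090)))).symm
theorem E65585 : n105418 = n34973 := ((D105418).symm.trans (sb E62729 (iv6 D76538)))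
theorem F307974 : act 2 n78897 = n68356 := (sb E62730 (iv2 F205031))
theorem F307975 : act 3 n78897 = n147566 := (sb E62730 F231356)
theorem E65587 : n117741 = n34824 := (((F88613).symm.trans (sb E62731 F228936))).symm
theorem F307976 : act 4 n55990 = n68356 := (sb E62731 (iv4 D145803))
theorem F307978 : act 5 n77020 = n68357 := (sb E62733 (iv5 D145807))
theorem F307979 : act 0 n34198 = n55023 := (sb E62734 (iv1 F162946))
theorem E65588 : n74583 = n68554 := ((D74583).symm.trans (sb E62734 (iv5 F104753)))
theorem E65590 : n175183 = n29178 := (((D29178).symm.trans (sb E62739 F279331))).symm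
theorem E65591 : n79070 = n74869 := ((((iv5 F112370)).symm.trans (sb E62743 D79070))).symm
theorem F307980 : act 4 n124670 = n74860 := (sb E62744 F247890)
theorem E65592 : n117133 = n34980 := (((F83581).symm.trans (sb E62746 D117133))).symm
theorem F307981 : act 5 n52888 = n61741 := (sb E62746 (iv5 F96337))
theorem E65593 : n114571 = n76134 := ((D114571).symm.trans (sb E62746 F155396))
theorem E65595 : n117599 = n44905 := (((D44905).symm.trans (sb E62747 (iv5 F184199)))).symm
theorem E65596 : n50014 = n44906 := (((D44906).symm.trans (sb E62747 (iv6 D108302)))).symm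
theorem E65597 : n83159 = n62748 := ((D83159).symm.trans (sb E62748 F167462))
theorem E65598 : n118535 = n83065 := ((((iv7 F128023)).symm.trans (sb E62748 (iv7 F186443)))).symm
theorem F307982 : act 1 n128164 = n129269 := (sb E62749 F208092)
theorem F307983 : act 4 n128164 = n61395 := (sb E62749 F207978)
theorem F307984 : act 7 n60769 = n77688 := (sb E62750 (iv7 D161731))
theorem F307985 : act 0 n129740 = n73617 := (sb E62751 (iv1 D155089))
theorem F307986 : act 1 n129740 = n82929 := (sb E62751 F243906)
theorem F307987 : act 4 n129740 = n128099 := (sb E62751 F243908)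
theorem E65599 : n67705 = n31710 := ((((iv1 F307050)).symm.trans (sb E62754 (iv1 F103738)))).symm
theorem F307988 : act 1 n32687 = n30562 := (sb E62754 (iv0 D65076))
theorem E65600 : n74444 = n31711 := ((((iv2 F307049)).symm.trans (sb E62754 F111734))).symm
theorem E65603 : n70432 = n31015 := ((D70432).symm.trans (sb E62754 F100866))
theorem E65605 : n74445 = n16595 := (((F306041).symm.trans (sb E62754 (iv7 F111737)))).symm
theorem E65607 : n156835 = n31894 := ((((iv5 F50201)).symm.trans (sb E62755 (iv5 F246790)))).symm
theorem F307989 : act 7 n17417 = n34198 := (sb E62755 (iv7 D74584))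
theorem E65608 : n74826 = n31015 := (E62756).trans E65603
theorem E65609 : n68091 = n63561 := ((((iv1 F98886)).symm.trans (sb E65608 (iv1 F112295)))).symm
theorem E65610 : n68090 = n53834 := ((((iv0 F95838)).symm.trans (sb E65608 (iv0 F112296)))).symm
theorem E65611 : n68081 = n53553 := ((((iv2 F84471)).symm.trans (sb E65608 F112291))).symm
theorem E65612 : n66442 = n60433 := (((iv3 F102341)).symm.trans (sb E65608 F112292))
theorem E65613 : n157344 = n28309 := (((F49435).symm.trans (sb E65608 (iv4 F247631)))).symm
theorem E65614 : n53901 = n14671 := ((((iv6 D31015)).symm.trans (sb E65608 F112294))).symm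
theorem E65615 : n65196 = n34281 := (((iv7 F100956)).symm.trans (sb E65608 (iv7 D74826)))
theorem F307990 : act 5 n15569 = n14976 := (sb E62757 F50118)
theorem F307991 : act 0 n61386 = n32686 := (sb E62758 (iv1 D70427))
theorem F307992 : act 5 n61386 = n98772 := (sb E62758 (iv5 F296809))
theorem E65617 : n181016 = n78276 := ((D181016).symm.trans (sb E62759 (tr (iv0 F236458) E64985)))
theorem F307993 : act 3 n86453 = n70703 := (sb E62759 F236379)
theorem E65618 : n181017 = n118113 := ((D181017).symm.trans (sb E62759 F236380))
theorem F307994 : act 4 n77633 = n70703 := (sb E62763 F236409)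
theorem F307995 : act 4 n77630 = n68100 := (sb E62766 (iv4 D145270))
theorem E65619 : n108311 = n38914 := ((((iv0 F297800)).symm.trans (sb E62767 F228285))).symm
theorem F307996 : act 1 n72023 = n86956 := (sb E62768 (iv0 D182067))
theorem F307997 : act 0 n72018 = n86956 := (sb E62769 (iv1 D182068))
theorem E65621 : n74606 = n12584 := ((((iv3 F26950)).symm.trans (sb E62770 (iv3 F112024)))).symm
theorem E65622 : n17418 = n16555 := ((D17418).symm.trans (sb E62770 (iv6 D34207)))
theorem E65626 : n138681 = n16326 := ((((iv3 D33784)).symm.trans (sb E62775 (iv3 F221844)))).symm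
theorem F307998 : act 4 n33784 = n49825 := (sb E62775 F210492)
theorem E65627 : n73480 = n31276 := ((D73480).symm.trans (sb E62775 (iv5 D67222)))
theorem E65628 : n71116 = n56226 := (((D56226).symm.trans (sb E62777 (iv5 F107637)))).symm
theorem E65629 : n143497 = n32532 := (((D32532).symm.trans (sb E62778 F226227))).symm
theorem E65630 : n149329 = n139205 := ((D149329).symm.trans (sb E62779 F222405))
theorem F307999 : act 2 n70118 = n133731 := (sb E62779 (iv2 F215254))
theorem E65631 : n159412 = n149331 := (((D149331).symm.trans (sb E62779 (iv4 F251035)))).symm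
theorem E65632 : n149332 = n34833 := ((D149332).symm.trans (sb E62779 (iv6 D76256)))
theorem E65633 : n108304 = n27592 := (((F44490).symm.trans (sb E62780 (iv1 F185317)))).symm
theorem F308000 : act 3 n18733 = n29725 := (sb E62781 F98008)
theorem E65635 : n39556 = n29721 := ((D39556).symm.trans (sb E62781 (iv5 D62805)))
theorem E65636 : n61506 = n40159 := (((D40159).symm.trans (sb E62782 (iv5 D131105)))).symm
theorem E65639 : n65058 = n40232 := (((D40232).symm.trans (sb E62785 F221708))).symm
theorem E65640 : n65056 = n40234 := (((D40234).symm.trans (sb E62785 (iv5 D138525)))).symm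
theorem E65641 : n129631 = n6302 := (((F30436).symm.trans (sb E62786 (iv1 F219777)))).symm
theorem E65643 : n49796 = n6497 := ((((iv2 F10563)).symm.trans (sb E62786 F166547))).symm
theorem E65644 : n49793 = n8903 := (((D8903).symm.trans (sb E62786 F166548))).symm
theorem E65646 : n74473 = n40241 := (((D40241).symm.trans (sb E62787 (iv1 F221969)))).symm
theorem E65647 : n136611 = n40242 := (((D40242).symm.trans (sb E62787 F219744))).symm
theorem E65648 : n40243 = n30253 := ((D40243).symm.trans (sb E62787 (iv4 D64221)))
theorem E65650 : n49789 = n39588 := ((((iv7 F60460)).symm.trans (sb E62787 F219711))).symm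
theorem F308001 : act 3 n61570 = n40144 := (sb E62789 (iv3 D86591))
theorem E65654 : n84884 = n30638 := ((F232467).symm.trans (sb E62790 F208253))
theorem F308002 : act 1 n39336 = n30643 := (sb E62790 F208254)
theorem E65655 : n85058 = n29640 := ((D85058).symm.trans (sb E62790 F96129))
theorem F308003 : act 7 n39336 = n61508 := (sb E62790 F96130)
theorem E65656 : n157444 = n124054 := (((D124054).symm.trans (sb E65199 (iv1 F248012)))).symm
theorem F308004 : act 2 n57796 = n61632 := (sb E65199 F166739)
theorem E65657 : n49838 = n39538 := ((((iv6 F298449)).symm.trans (sb E65199 (iv6 D107902)))).symm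
theorem F308005 : act 0 n39320 = n30643 := (sb E62792 (iv1 F101035))
theorem F308006 : act 2 n39320 = n61508 := (sb E62792 (iv2 F208255))
theorem E65658 : n74636 = n18650 := ((((iv3 D39320)).symm.trans (sb E62792 (iv3 F208250)))).symm
theorem E65659 : n85028 = n64984 := ((D85028).symm.trans (sb E62792 F208256))
theorem E65660 : n133740 = n85029 := (((D85029).symm.trans (sb E62792 (iv6 F215280)))).symm
theorem E65661 : n181365 = n124054 := (E65420).trans E65656
theorem E65662 : n181374 = n133778 := ((D181374).symm.trans (sb E62793 (iv6 F215404)))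
theorem F308007 : act 7 n86595 = n61632 := (sb E62793 (iv7 D131334))
theorem F308008 : act 6 n62781 = n40145 := (sb E62794 (iv6 D86596))
theorem F308009 : act 3 n68068 = n55001 := (sb E62795 (iv3 D119546))
theorem E65663 : n77467 = n55007 := ((E63818).symm.trans ((F305991).symm.trans (sb E62795 F188526)))
theorem E65664 : n145181 = n106014 := (((iv2 F228164)).symm.trans (sb E62796 F188528))
theorem F308010 : act 5 n68062 = n55001 := (sb E62796 (iv5 D119547))
theorem E65665 : n145193 = n106017 := ((D145193).symm.trans (sb E62796 F188529))
theorem E65666 : n176973 = n133750 := ((F276320).symm.trans (sb E62797 (iv0 F261551)))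
theorem E65667 : n149849 = n71230 := (((iv3 F276613)).symm.trans (sb E62797 F237816))
theorem F308011 : act 1 n39273 = n61508 := (sb E62798 F210267)
theorem F308012 : act 2 n39273 = n30643 := (sb E62798 F101033)
theorem E65668 : n139086 = n32744 := (((F60242).symm.trans (sb E62798 (iv3 F222275)))).symm
theorem E65669 : n54709 = n30640 := (((iv5 F86521)).symm.trans (sb E62798 F101034))
theorem E65671 : n138946 = n18691 := (((F232341).symm.trans (sb E62799 (iv0 F247479)))).symm
theorem E65672 : n139141 = n15907 := (((F42238).symm.trans (sb E62799 (iv2 F222326)))).symm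
theorem F308013 : act 3 n26429 = n30643 := (sb E62799 F101038)
theorem E65673 : n139148 = n54644 := ((((iv4 F86394)).symm.trans (sb E62799 D139148))).symm
theorem E65674 : n54647 = n30641 := ((D54647).symm.trans (sb E62799 (iv5 D65308)))
theorem F308014 : act 2 n65313 = n84881 := (sb E62800 F162755)
theorem F308015 : act 6 n65313 = n48986 := (sb E62800 (iv6 D105961))
theorem E65677 : n139178 = n12618 := ((((iv0 F42228)).symm.trans (sb E62801 D139178))).symm
theorem E65681 : n54640 = n30644 := ((D54640).symm.trans (sb E62801 (iv5 D65317)))
theorem E65684 : n85052 = n30635 := (((F49098).symm.trans (sb E62802 F232474))).symm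
theorem F308016 : act 0 n39334 = n61508 := (sb E62803 F210258)
theorem E65685 : n139069 = n54998 := (((F210892).symm.trans (sb E62803 D139069))).symm
theorem F308017 : act 7 n39334 = n30643 := (sb E62803 F101019)
theorem E65686 : n139117 = n54906 := ((D139117).symm.trans (sb E62804 F232328))
theorem E65687 : n139118 = n55000 := ((D139118).symm.trans (sb E62804 F232329))
theorem E65688 : n139085 = n72585 := (((iv3 F222274)).symm.trans (sb E62804 F187171))
theorem E65689 : n159000 = n139119 := (((D139119).symm.trans (sb E62804 (iv5 F250328)))).symm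
theorem F308018 : act 7 n65297 = n54768 := (sb E62804 (iv7 D119017))
theorem E65690 : n143383 = n73407 := ((D143383).symm.trans (sb E62806 F187889))
theorem F308019 : act 5 n67154 = n54911 := (sb E62806 (iv5 D119322))
theorem F308020 : act 5 n67155 = n54912 := (sb E62807 (iv5 D119327))
theorem E65691 : n143389 = n117375 := ((D143389).symm.trans (sb E62807 (iv6 F187901)))
theorem E65692 : n179856 = n133733 := (((D133733).symm.trans (sb E62808 (iv3 F280098)))).symm
theorem E65694 : n148445 = n131641 := ((((iv5 F210979)).symm.trans (sb E62808 (iv5 F233040)))).symm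
theorem F308021 : act 6 n62776 = n54912 := (sb E62808 (iv6 D119328))
theorem E65695 : n73415 = n67134 := ((F187910).symm.trans (sb E62809 (iv6 D143319)))
theorem E65697 : n118292 = n39798 := (((D39798).symm.trans (sb E62810 F185843))).symm
theorem E65700 : n157454 = n79728 := (((D79728).symm.trans (sb E62812 (iv0 F248060)))).symm
theorem F308022 : act 3 n44961 = n61594 := (sb E62814 (iv3 D131265))
theorem F308023 : act 2 n84383 = n133726 := (sb E62816 (iv2 F215242))
theorem F308024 : act 0 n128487 = n79725 := (sb E62817 (iv1 D166053))
theorem F308025 : act 2 n139203 = n71009 := (sb E62818 F237168)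
theorem F308026 : act 4 n139203 = n71005 := (sb E62818 F237169)
theorem F308027 : act 6 n139203 = n71003 := (sb E62818 (iv6 D150628))
theorem E65704 : n118318 = n16537 := ((((iv1 D34155)).symm.trans (sb E62820 F257041))).symm
theorem E65705 : n118310 = n30598 := (((F53644).symm.trans (sb E62820 (iv0 F200395)))).symm
theorem E65706 : n118316 = n30596 := (((F221954).symm.trans (sb E62820 F234084))).symm
theorem E65707 : n124757 = n74474 := (((D74474).symm.trans (sb E62820 F200394))).symm
theorem E65708 : n149435 = n74476 := (((D74476).symm.trans (sb E62820 F235027))).symm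
theorem E65709 : n118317 = n30597 := (((F221955).symm.trans (sb E62820 F234078))).symm
theorem F308028 : act 1 n62391 = n83314 := (sb E62821 (iv0 D174300))
theorem F308029 : act 0 n131357 = n83314 := (sb E62822 (iv1 D174301))
theorem F308030 : act 7 n130071 = n83314 := (sb E62823 (iv7 D174303))
theorem E65710 : n174328 = n38680 := (E62834).trans E63457
theorem E65711 : n83978 = n83321 := ((D83978).symm.trans (sb E65710 (iv1 D174328)))
theorem F308031 : act 7 n130072 = n83321 := (sb E62835 (iv7 D174330))
theorem F308032 : act 2 n80281 = n77688 := (sb E62836 (iv2 D161727))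
theorem F308033 : act 7 n80281 = n60940 := (sb E62836 (iv7 F306037))
theorem E65712 : n134554 = n82927 := (((iv2 F216535)).symm.trans (sb E62837 F271665))
theorem F308034 : act 7 n129740 = n82926 := (sb E62837 (iv7 D173282))
theorem F308035 : act 4 n135311 = n153965 := (sb E62838 F271670)
theorem F308036 : act 0 n86322 = n61073 := (sb E62840 (iv1 D130068))
theorem F308037 : act 1 n35181 = n61073 := (sb E62841 (iv0 D130067))
theorem E65713 : n77022 = n61217 := ((D77022).symm.trans (sb E62841 F208534))
theorem E65714 : n129203 = n83664 := (((iv3 F207425)).symm.trans (sb E62842 F132290))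
theorem F308038 : act 5 n60738 = n98770 := (sb E62842 (iv5 F296798))
theorem F308039 : act 7 n60738 = n77019 := (sb E62842 F132294)
theorem F308040 : act 7 n129748 = n77712 := (sb E62843 (iv7 D161812))
theorem E65719 : n145907 = n52931 := (((F106898).symm.trans (sb E62844 (iv5 F229082)))).symm
theorem E65721 : n130847 = n83666 := ((((iv7 F128725)).symm.trans (sb E62844 (iv7 F264362)))).symm
theorem E65725 : n157322 = n149841 := (((D149841).symm.trans (sb E62845 D157322))).symm
theorem F308041 : act 3 n38571 = n29058 := (sb E62847 F95879)
theorem E65728 : n83669 = n29057 := ((D83669).symm.trans (sb E62847 (iv6 D61385)))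
theorem E65729 : n132954 = n128281 := (((D128281).symm.trans (sb E62849 (iv3 F213580)))).symm
theorem F308042 : act 3 n72327 = n34198 := (sb E62850 F111984)
theorem E65733 : n156812 = n146190 := ((((iv5 F229482)).symm.trans (sb E62850 D156812))).symm
theorem F308043 : act 0 n133146 = n83562 := (sb E62852 (iv1 F273838))
theorem F308044 : act 1 n133146 = n83557 := (sb E62852 (iv0 D174942))
theorem F308045 : act 6 n60753 = n83562 := (sb E62853 (iv6 D174957))
theorem E65734 : n167030 = n62436 := ((((iv1 F97308)).symm.trans (sb E62859 (iv1 F263034)))).symm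
theorem E65735 : n75743 = n62435 := (((F97307).symm.trans (sb E62859 (iv0 D158768)))).symm
theorem E65736 : n161839 = n75059 := (((iv1 F255808)).symm.trans (sb E62860 F242163))
theorem F308046 : act 5 n105986 = n72957 := (sb E62860 (iv5 D154081))
theorem F308047 : act 0 n34390 = n48998 := (sb E62861 (iv1 D105989))
theorem F308048 : act 1 n34390 = n70472 := (sb E62861 (iv0 F190007))
theorem F308049 : act 5 n33901 = n48998 := (sb E62863 (iv5 D105990))
theorem F308050 : act 4 n70395 = n54911 := (sb E62864 (iv4 F306068))
theorem E65737 : n149815 = n148048 := ((D149815).symm.trans (sb E62864 (iv5 F231853)))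
theorem F308051 : act 7 n70395 = n49825 := (sb E62864 (iv7 D107884))
theorem F308052 : act 3 n105965 = n85407 := (sb E62865 F278389)
theorem F308053 : act 0 n79752 = n49825 := (sb E62866 (iv1 D107883))
theorem F308054 : act 3 n79752 = n131182 := (sb E62866 F238830)
theorem E65739 : n65337 = n33095 := ((D65337).symm.trans (sb E62867 F108065))
theorem E65740 : n70863 = n65338 := (((D65338).symm.trans (sb E62867 F108066))).symm
theorem F308055 : act 6 n30649 = n33093 := (sb E62867 (iv6 D71549))
theorem F308056 : act 6 n34345 = n55315 := (sb E62868 (iv6 D120221))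
theorem E65742 : n138340 = n39447 := ((D138340).symm.trans (sb E62869 F233132))
theorem E65743 : n178609 = n138341 := (((D138341).symm.trans (sb E62869 D178609))).symm
theorem E65744 : n118849 = n62688 := (((F210491).symm.trans (sb E62869 F233134))).symm
theorem F308057 : act 0 n105965 = n65080 := (sb E62871 (iv1 F221770))
theorem F308058 : act 1 n105965 = n65607 := (sb E62871 (iv0 F221553))
theorem E65745 : n86749 = n65612 := ((F162761).symm.trans (sb E62871 F221552))
theorem F308059 : act 6 n105965 = n64983 := (sb E62871 (iv6 D138342))
theorem E65746 : n166110 = n65613 := (((iv7 F261534)).symm.trans (sb E62871 (iv7 F221554)))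
theorem E65748 : n73808 = n32596 := (((F51994).symm.trans (sb E62873 F222391))).symm
theorem F308060 : act 0 n32416 = n54235 := (sb E62874 (iv1 D117730))
theorem E65749 : n54242 = n35099 := ((((iv0 F55773)).symm.trans (sb E62874 F184385))).symm
theorem F308061 : act 6 n32416 = n69570 := (sb E62874 F233156)
theorem E65750 : n54240 = n34890 := ((((iv7 F55193)).symm.trans (sb E62874 F233157))).symm
theorem E65751 : n152582 = n29259 := ((((iv4 D61716)).symm.trans (sb E62876 F263353))).symm
theorem F308062 : act 4 n70756 = n34285 := (sb E62877 (iv4 D74829))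
theorem E65753 : n157350 = n149353 := ((((iv5 F234825)).symm.trans (sb E62877 D157350))).symm
theorem E65754 : n157351 = n80607 := ((((iv6 F259392)).symm.trans (sb E62877 D157351))).symm
theorem F308063 : act 0 n35018 = n32799 := (sb E62879 (iv1 D70757))
theorem F308064 : act 1 n35018 = n32807 := (sb E62879 F107228)
theorem F308065 : act 2 n35018 = n32805 := (sb E62879 F233797)
theorem E65755 : n76628 = n70377 := ((D76628).symm.trans (sb E62879 (iv3 F233807)))
theorem F308066 : act 7 n35018 = n32804 := (sb E62879 F233798)
theorem E65756 : n144849 = n18487 := ((((iv5 F29677)).symm.trans (sb E62881 F234800))).symm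
theorem F308067 : act 1 n45217 = n74898 := (sb E62882 F112414)
theorem F308068 : act 2 n45217 = n74896 := (sb E62882 (iv2 F210941))
theorem E65758 : n108374 = n32828 := ((((iv4 F298514)).symm.trans (sb E62882 (iv4 F167555)))).symm
theorem E65759 : n96759 = n74897 := ((D96759).symm.trans (sb E62882 F210940))
theorem F308069 : act 2 n61771 = n37333 := (sb E62883 F125609)
theorem E65760 : n131649 = n96744 := ((D131649).symm.trans (sb E62883 (iv3 F149203)))
theorem E65761 : n131650 = n80679 := ((D131650).symm.trans (sb E62883 F125610))
theorem F308070 : act 6 n61771 = n37331 := (sb E62883 (iv6 D81676))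
theorem E65762 : n170317 = n128133 := (((E65293).symm.trans ((F210935).symm.trans (sb E62883 D170317)))).symm
theorem F308071 : act 5 n85505 = n69827 := (sb E62884 (iv5 D148956))
theorem E65763 : n138548 = n69829 := (((iv4 F222378)).symm.trans (sb E62885 F234090))
theorem F308072 : act 6 n139188 = n69827 := (sb E62885 (iv6 D148957))
theorem E65764 : n157485 = n150376 := ((F248151).symm.trans (sb E62885 (iv7 F236698)))
theorem F308073 : act 5 n85504 = n69832 := (sb E62886 (iv5 D148964))
theorem F308074 : act 1 n96700 = n73033 := (sb E62887 (iv0 D154156))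
theorem E65765 : n181279 = n98138 := ((F300249).symm.trans (sb E62887 (iv4 F304707)))
theorem F308075 : act 6 n96700 = n98137 := (sb E62887 (iv6 F304700))
theorem E65769 : n170213 = n83598 := (E62889).trans E62999
theorem F308076 : act 1 n83598 = n96750 := (sb E65769 F267731)
theorem E65771 : n167021 = n86497 := (((iv2 F273989)).symm.trans (sb E65769 F301214))
theorem E65772 : n175044 = n162838 := (((iv7 F274014)).symm.trans (sb E65769 (iv7 F303000)))
theorem F308077 : act 2 n45169 = n33710 := (sb E62890 F109705)
theorem E65773 : n153522 = n96685 := ((((iv3 F149006)).symm.trans (sb E62890 (iv3 F241285)))).symm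
theorem E65774 : n96699 = n60282 := ((D96699).symm.trans (sb E62890 F110030))
theorem E65775 : n61494 = n21562 := ((((iv5 D45169)).symm.trans (sb E62890 F162957))).symm
theorem E65776 : n96689 = n33707 := (((iv6 F149012)).symm.trans (sb E62890 (iv6 D73240)))
theorem F308078 : act 0 n73253 = n78273 := (sb E62891 (iv1 F300244))
theorem F308079 : act 1 n73253 = n40071 := (sb E62891 F298551)
theorem F308080 : act 2 n73253 = n96700 := (sb E62891 (iv2 F149051))
theorem E65779 : n61493 = n37305 := (((iv5 F185305)).symm.trans (sb E62891 F125543))
theorem F308081 : act 1 n73251 = n96700 := (sb E62892 F149053)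
theorem F308082 : act 2 n73251 = n78273 := (sb E62892 (iv2 F300245))
theorem E65781 : n170216 = n83597 := (((E65125).symm.trans (((iv4 F206414)).symm.trans (sb E62892 D170216)))).symm
theorem F308083 : act 5 n73251 = n40072 := (sb E62892 F298549)
theorem F308084 : act 7 n73251 = n40071 := (sb E62892 F298550)
theorem E65783 : n181209 = n72639 := ((((iv5 D153614)).symm.trans (sb E62893 (iv5 F282245)))).symm
theorem F308085 : act 6 n153614 = n78273 := (sb E62893 (iv6 D162839))
theorem F308086 : act 0 n101465 = n98542 := (sb E62898 (iv1 F272648))
theorem F308087 : act 4 n101465 = n47349 := (sb E62898 F156846)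
theorem F308088 : act 6 n101465 = n47347 := (sb E62898 (iv6 D101906))
theorem E65785 : n160636 = n100774 := (((D100774).symm.trans (sb E62899 (iv1 F302455)))).symm
theorem E65786 : n162701 = n81978 := ((((iv0 F155447)).symm.trans (sb E62899 (iv0 F302458)))).symm
theorem F308089 : act 4 n46990 = n37887 := (sb E62899 (iv4 D82522))
theorem E65788 : n162988 = n100776 := (((D100776).symm.trans (sb E62899 (iv5 F302461)))).symm
theorem E65789 : n172312 = n100777 := (((D100777).symm.trans (sb E62899 D172312))).symm
theorem E65790 : n162716 = n98195 := (((iv3 F256946)).symm.trans (sb E62900 F286236))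
theorem E65791 : n158694 = n87896 := (((iv4 F302422)).symm.trans (sb E62900 (iv4 D184280)))
theorem F308090 : act 1 n60760 = n77712 := (sb E62902 (iv0 D161809))
theorem F308091 : act 1 n60942 = n128053 := (sb E62904 F267191)
theorem E65793 : n129747 = n98284 := (((iv3 F207970)).symm.trans (sb E62904 F267187))
theorem F308092 : act 7 n60942 = n128164 := (sb E62904 F267188)
theorem F308093 : act 3 n82916 = n60760 := (sb E62905 F207474)
theorem E65794 : n173269 = n60758 := ((D173269).symm.trans (sb E62905 (iv6 D129264)))
theorem F308094 : act 1 n83097 = n129748 := (sb E62906 F207980)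
theorem E65795 : n173281 = n38250 := ((((iv3 D83097)).symm.trans (sb E62906 F306088))).symm
theorem E65796 : n161670 = n149620 := (((F235213).symm.trans (sb E62906 F306089))).symm
theorem E65797 : n173759 = n80281 := ((D173759).symm.trans (sb E62906 F306090))
theorem F308095 : act 7 n83097 = n60760 := (sb E62906 (iv7 D129272))
theorem E65801 : n119312 = n35471 := ((D119312).symm.trans (sb E62907 (iv3 D77709)))
theorem E65803 : n161802 = n119313 := (((D119313).symm.trans (sb E62907 D161802))).symm
theorem F308096 : act 3 n38916 = n61387 := (sb E62908 (iv3 D130851))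
theorem E65806 : n161804 = n49008 := ((D161804).symm.trans (sb E62909 (iv3 D106016)))
theorem F308097 : act 3 n37189 = n36162 := (sb E62911 (iv3 D79427))
theorem E65811 : n147509 = n81433 := (((D81433).symm.trans (sb E62911 (tr D165341 E63047)))).symm
theorem F308098 : act 4 n38697 = n36162 := (sb E62912 (iv4 D79428))
theorem E65814 : n154467 = n33773 := ((((iv3 F53018)).symm.trans (sb E62913 F300033))).symm
theorem E65815 : n119560 = n35374 := ((((iv4 F56076)).symm.trans (sb E62913 F300034))).symm
theorem E65816 : n119559 = n35473 := ((((iv4 F305931)).symm.trans (sb E62914 F300036))).symm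
theorem F308099 : act 6 n37187 = n36162 := (sb E62916 (iv6 F304084))
theorem F308100 : act 3 n69377 = n40206 := (sb E62917 (iv3 D86706))
theorem E65818 : n84467 = n72289 := ((((iv6 F108740)).symm.trans (sb E62917 (iv6 F299631)))).symm
theorem E65832 : n181410 = n73277 := (((iv2 F282526)).symm.trans (sb E62929 (iv2 F241820)))
theorem E65833 : n181424 = n72979 := ((D181424).symm.trans (sb E62929 F241819))
theorem E65834 : n181443 = n58269 := ((D181443).symm.trans (sb E62930 (iv6 D124692)))
theorem E65835 : n183054 = n73269 := ((D183054).symm.trans (sb E62931 (iv7 D154578)))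
theorem E65836 : n183065 = n153312 := ((D183065).symm.trans (sb E62932 (iv1 F242674)))
theorem F308104 : act 1 n87387 = n153180 := (sb E62932 F242675)
theorem E65837 : n183067 = n157613 := ((D183067).symm.trans (sb E62932 (iv4 F248365)))
theorem E65838 : n183068 = n73278 := ((D183068).symm.trans (sb E62932 (iv7 D154597)))
theorem F308105 : act 7 n33716 = n40614 := (sb E62933 (iv7 D87388))
theorem F308106 : act 1 n33579 = n47171 := (sb E62935 (iv0 D101320))
theorem F308107 : act 1 n124735 = n73418 := (sb E62943 (iv0 D154816))
theorem E65841 : n72576 = n37295 := (((D37295).symm.trans (sb E62946 F241033))).symm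
theorem F308108 : act 1 n80460 = n61490 := (sb E62947 F209908)
theorem E65842 : n158682 = n54628 := (((iv3 F249843)).symm.trans (sb E62947 (iv3 D118638)))
theorem E65844 : n81435 = n72756 := (((iv1 F298445)).symm.trans (sb E62948 (iv1 F237843)))
theorem E65845 : n84468 = n72287 := (((iv0 F299160)).symm.trans (sb E62948 F242942))
theorem F308109 : act 2 n81603 = n72724 := (sb E62948 F237839)
theorem F308110 : act 3 n81603 = n73362 := (sb E62948 F237840)
theorem F308111 : act 6 n81603 = n72138 := (sb E62948 F237842)
theorem E65846 : n167695 = n71237 := (((iv7 F263974)).symm.trans (sb E62948 (iv7 D151159)))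
theorem F308112 : act 0 n33500 = n36697 := (sb E62949 (iv1 F123700))
theorem F308113 : act 1 n33500 = n36692 := (sb E62949 (iv0 D80476))
theorem F308114 : act 7 n33500 = n37291 := (sb E62949 F123701)
theorem E65847 : n69902 = n36567 := (((D36567).symm.trans (sb E62950 (iv6 D149033)))).symm
theorem E65848 : n167181 = n54384 := ((((iv0 F85856)).symm.trans (sb E62951 D167181))).symm
theorem F308115 : act 6 n33363 = n36565 := (sb E62951 (iv6 D80260))
theorem F308116 : act 1 n19162 = n24401 := (sb E62954 F52815)
theorem F308117 : act 2 n19162 = n16178 := (sb E62954 F52621)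
theorem F308118 : act 4 n19162 = n16115 := (sb E62954 (iv4 D33380))
theorem E65851 : n61489 = n34731 := ((((iv7 F296478)).symm.trans (sb E62954 (iv7 F96004)))).symm
theorem E65855 : n147095 = n37273 := ((((iv1 F58234)).symm.trans (sb E62957 F230593))).symm
theorem F308119 : act 3 n17920 = n33721 := (sb E62957 F109710)
theorem E65857 : n154548 = n10168 := (((F29092).symm.trans (sb E62957 (iv4 F242606)))).symm
theorem E65858 : n37301 = n33709 := ((D37301).symm.trans (sb E62957 (iv6 D73248)))
theorem E65859 : n61495 = n37303 := (((D37303).symm.trans (sb E62958 (iv0 F131034)))).symm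
theorem F308120 : act 3 n17921 = n33725 := (sb E62958 F109713)
theorem F308121 : act 5 n17921 = n33710 := (sb E62958 (iv5 D73252))
theorem E65862 : n153276 = n37271 := ((((iv3 F58228)).symm.trans (sb E62960 (iv3 F240818)))).symm
theorem E65863 : n37277 = n34315 := ((D37277).symm.trans (sb E62960 (iv5 D74878)))
theorem F308122 : act 3 n17898 = n32141 := (sb E62961 F105316)
theorem E65865 : n59918 = n10173 := (((F29071).symm.trans (sb E62961 F105317))).symm
theorem E65866 : n37231 = n32139 := ((D37231).symm.trans (sb E62961 (iv6 D69076)))
theorem E65868 : n147418 = n37196 := (((D37196).symm.trans (sb E62962 F248407))).symm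
theorem F308123 : act 3 n40695 = n75134 := (sb E62963 F248395)
theorem E65870 : n95891 = n95329 := ((((iv1 F148028)).symm.trans (sb E62966 (tr F242076 E63951)))).symm
theorem F308124 : act 4 n96245 = n72927 := (sb E62966 (iv4 D154050))
theorem F308125 : act 0 n154049 = n169835 := (sb E62967 (iv1 F284897))
theorem F308126 : act 1 n154049 = n169834 := (sb E62967 F284898)
theorem F308127 : act 2 n154049 = n169837 := (sb E62967 F284893)
theorem F308128 : act 4 n154049 = n87474 := (sb E62967 F284894)
theorem F308129 : act 7 n154049 = n87470 := (sb E62967 (iv7 D183244))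
theorem F308130 : act 2 n68790 = n81430 := (sb E62968 F235193)
theorem E65871 : n149623 = n146142 := ((((iv4 F229392)).symm.trans (sb E62968 F235220))).symm
theorem F308131 : act 0 n81581 = n133605 := (sb E62969 F214955)
theorem F308132 : act 1 n81581 = n146725 := (sb E62969 F230059)
theorem F308133 : act 2 n81581 = n130857 := (sb E62969 F210103)
theorem E65872 : n170097 = n120615 := ((D170097).symm.trans (sb E62969 F210104))
theorem E65873 : n119582 = n35068 := ((((iv2 D76721)).symm.trans (sb E62970 F227711))).symm
theorem F308134 : act 3 n76721 = n146725 := (sb E62970 F230061)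
theorem F308135 : act 5 n76721 = n148186 := (sb E62970 F232007)
theorem E65874 : n160165 = n67863 := ((D160165).symm.trans (sb E62970 (iv6 D144810)))
theorem E65875 : n148802 = n100891 := ((D148802).symm.trans (sb E62971 (iv1 F155036)))
theorem E65876 : n61392 = n46557 := ((F106133).symm.trans (sb E62971 F147548))
theorem F308136 : act 7 n69739 = n97231 := (sb E62971 (iv7 F149990))
theorem F308137 : act 1 n29063 = n37187 := (sb E62972 (iv0 D81427))
theorem F308138 : act 1 n54169 = n117403 := (sb E62973 F196823)
theorem F308139 : act 2 n54169 = n79080 := (sb E62973 F196819)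
theorem E65878 : n117566 = n57107 := (((iv4 F184174)).symm.trans (sb E62973 (iv4 D122836)))
theorem F308140 : act 5 n54169 = n76734 := (sb E62973 F196820)
theorem F308141 : act 0 n61539 = n37187 := (sb E62974 (iv1 D81428))
theorem F308142 : act 3 n61539 = n76734 := (sb E62974 (iv3 F128750))
theorem F308143 : act 4 n61539 = n83097 := (sb E62974 (iv4 F128107))
theorem F308144 : act 0 n68352 = n114604 := (sb E62975 (iv1 F235314))
theorem E65880 : n145792 = n87464 := ((D145792).symm.trans (sb E62975 F235313))
theorem E65881 : n145793 = n129748 := ((D145793).symm.trans (sb E62975 (iv5 F306128)))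
theorem F308145 : act 3 n149693 = n87470 := (sb E62976 F284889)
theorem F308146 : act 0 n101596 = n55068 := (sb E62990 (iv1 F188785))
theorem F308147 : act 4 n101596 = n69996 := (sb E62990 (iv4 F188805))
theorem F308148 : act 6 n101596 = n73639 := (sb E62990 (iv6 F191344))
theorem F308149 : act 7 n101596 = n71786 := (sb E62990 F191145)
theorem F308150 : act 0 n101599 = n71786 := (sb E62993 (iv1 F190908))
theorem F308151 : act 2 n101599 = n55068 := (sb E62993 F188710)
theorem F308152 : act 4 n101599 = n55049 := (sb E62993 (iv4 D119649))
theorem F308153 : act 6 n101599 = n85290 := (sb E62993 (iv6 F200252))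
theorem F308154 : act 1 n83765 = n47264 := (sb E62994 (iv0 D101602))
theorem F308155 : act 1 n101603 = n85290 := (sb E62995 (iv0 D178888))
theorem F308156 : act 4 n101603 = n165029 := (sb E62995 (iv4 F305845))
theorem F308157 : act 5 n101603 = n152587 := (sb E62995 F278757)
theorem F308158 : act 0 n101604 = n164556 := (sb E62997 (iv1 F278764))
theorem F308159 : act 1 n101604 = n164559 := (sb E62997 F278763)
theorem F308160 : act 2 n101605 = n85290 := (sb E62998 F200253)
theorem F308161 : act 4 n101605 = n55070 := (sb E62998 F188823)
theorem F308162 : act 6 n101605 = n55068 := (sb E62998 (iv6 D119691))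
theorem E65882 : n96750 = n60310 := ((F308076).symm.trans (sb E62999 (iv0 F206282)))
theorem F308163 : act 4 n83598 = n73033 := (sb E62999 F206281)
theorem E65883 : n175058 = n60234 := ((D175058).symm.trans (sb E62999 (iv6 D128152)))
theorem F308164 : act 0 n148678 = n159892 := (sb E63000 F280119)
theorem F308165 : act 1 n148678 = n147405 := (sb E63000 (iv0 F280120))
theorem F308166 : act 1 n76571 = n73421 := (sb E63001 (iv0 D154819))
theorem E65884 : n148921 = n143386 := (((D143386).symm.trans (sb E63005 F243524))).symm
theorem F308167 : act 6 n33769 = n54911 := (sb E63006 (iv6 F306069))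
theorem F308168 : act 0 n148034 = n73434 := (sb E63009 (iv1 F243444))
theorem F308169 : act 1 n148034 = n73399 := (sb E63009 (iv0 D154788))
theorem F308170 : act 5 n117346 = n73399 := (sb E63010 (iv5 D154790))
theorem F308172 : act 1 n146532 = n73431 := (sb E63011 F243446)
theorem F308173 : act 2 n146532 = n73434 := (sb E63011 F243442)
theorem F308174 : act 4 n146532 = n123217 := (sb E63011 F243443)
theorem F308175 : act 7 n146532 = n73399 := (sb E63011 (iv7 D154791))
theorem F308176 : act 5 n67865 = n73434 := (sb E63016 F243554)
theorem F308177 : act 2 n72289 = n79425 := (sb E63035 F260565)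
theorem F308178 : act 4 n61212 = n79425 := (sb E63036 F260570)
theorem F308179 : act 6 n61212 = n79423 := (sb E63036 (iv6 D165325))
theorem F308180 : act 5 n117552 = n79422 := (sb E63039 (iv5 D165318))
theorem E65885 : n165332 = n34235 := (E63043).trans E63180
theorem E65886 : n79425 = n31319 := (((F53875).symm.trans (sb E65885 (iv0 D165332)))).symm
theorem E65887 : n61554 = n14765 := ((((iv0 D31319)).symm.trans (iv0 (sb E63044 (tr (iv1 D165333) E65886))))).symm
theorem E65888 : n72293 = n53822 := ((((iv7 F101330)).symm.trans (iv7 (sb E63045 (tr (iv7 D165335) E65886))))).symm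
theorem E65889 : n183395 = n79422 := ((F305757).symm.trans (sb E63046 (iv7 D165320)))
theorem F308181 : act 2 n57735 = n62743 := (sb E63083 F215080)
theorem F308182 : act 4 n57735 = n62739 := (sb E63083 F215081)
theorem E65890 : n62738 = n27566 := ((((iv6 D57735)).symm.trans (sb E63083 (iv6 D133668)))).symm
theorem E65892 : n86676 = n29154 := (((F47713).symm.trans (sb E63086 F132916))).symm
theorem F308183 : act 4 n29682 = n38662 := (sb E63086 (iv4 D83940))
theorem F308184 : act 2 n61535 = n86699 := (sb E63088 F282758)
theorem E65895 : n86777 = n33134 := ((D86777).symm.trans (sb E63089 F108143))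
theorem E65896 : n86778 = n33134 := ((D86778).symm.trans (sb E63089 F108144))
theorem E65897 : n131227 = n86795 := (((D86795).symm.trans (sb E63090 F247691))).symm
theorem E65898 : n160085 = n86796 := (((D86796).symm.trans (sb E63090 (iv6 F252645)))).symm
theorem F308185 : act 7 n65296 = n84881 := (sb E63091 (iv7 D178410))
theorem E65899 : n139084 = n58503 := ((((iv3 D125114)).symm.trans (sb E63092 (iv3 F222272)))).symm
theorem F308186 : act 4 n125114 = n62744 := (sb E63092 (iv4 D133679))
theorem E65900 : n177067 = n133750 := ((D177067).symm.trans (sb E63094 (tr (iv1 F276318) E65666)))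
theorem E65901 : n177068 = n38934 := ((D177068).symm.trans (sb E63094 (iv0 D84438)))
theorem E65902 : n177218 = n96303 := ((((iv2 F148154)).symm.trans (sb E63094 D177218))).symm
theorem F308187 : act 4 n84391 = n131090 := (sb E63094 (iv4 F304986))
theorem E65904 : n177069 = n148940 := ((D177069).symm.trans (sb E63094 (iv5 F304987)))
theorem E65906 : n177070 = n106015 := ((D177070).symm.trans (sb E63094 (iv7 F304989)))
theorem F308188 : act 4 n26599 = n34266 := (sb E63095 (iv4 D74789))
theorem E65909 : n132633 = n55025 := (((D55025).symm.trans (sb E63095 F212902))).symm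
theorem F308189 : act 1 n34307 = n34266 := (sb E63096 (iv0 D74787))
theorem E65911 : n157297 = n74860 := ((((iv3 F112362)).symm.trans (sb E63096 D157297))).symm
theorem E65913 : n74869 = n53574 := (((iv5 F112370)).symm.trans (sb E63096 F112228))
theorem F308190 : act 0 n24297 = n34266 := (sb E64405 (iv1 D74788))
theorem E65915 : n157299 = n49825 := ((((iv3 F78756)).symm.trans (sb E64405 D157299))).symm
theorem E65917 : n65206 = n32978 := ((((iv5 F52155)).symm.trans (sb E64405 F112233))).symm
theorem E65920 : n157296 = n74865 := (((D74865).symm.trans (sb E64407 (iv3 F247519)))).symm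
theorem E65921 : n54741 = n34267 := (((iv5 F86570)).symm.trans (sb E64407 F112235))
theorem F308191 : act 7 n34305 = n34266 := (sb E64407 (iv7 D74790))
theorem E65923 : n148605 = n40148 := ((((iv3 F305071)).symm.trans (sb E63100 (iv3 F233359)))).symm
theorem E65924 : n117922 = n32328 := ((D117922).symm.trans (sb E63100 (iv5 D69646)))
theorem E65925 : n131240 = n76738 := ((((iv1 F189135)).symm.trans (sb E63101 (iv1 F247862)))).symm
theorem F308192 : act 5 n119838 = n157550 := (sb E63101 (iv5 F248275))
theorem E65926 : n75097 = n55143 := ((((iv6 D119838)).symm.trans (sb E63101 F247861))).symm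
theorem E65927 : n73591 = n68768 := (((iv5 F110259)).symm.trans (sb E63102 F105759))
theorem E65928 : n117957 = n68801 := ((D117957).symm.trans (sb E63103 F204539))
theorem F308193 : act 5 n69755 = n76737 := (sb E63104 (iv5 D160187))
theorem E65929 : n117969 = n68802 := ((((iv7 F188583)).symm.trans (sb E63104 F252837))).symm
theorem F308194 : act 6 n54343 = n62755 := (sb E63105 (iv6 F204557))
theorem E65931 : n74982 = n72429 := (((D72429).symm.trans (sb E63107 (iv6 D157538)))).symm
theorem E65933 : n119866 = n57565 := (((F90720).symm.trans (sb E63108 (iv4 F189206)))).symm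
theorem E65934 : n70248 = n26657 := ((D70248).symm.trans (sb E63108 (iv6 D55165)))
theorem F308195 : act 6 n34354 = n32844 := (sb E63109 (iv6 D70879))
theorem F308196 : act 5 n149797 = n129898 := (sb E63110 F248157)
theorem E65936 : n146412 = n52950 := ((((iv1 F83676)).symm.trans (sb E63111 F233225))).symm
theorem E65938 : n155263 = n32405 := (((F76776).symm.trans (sb E63111 (iv4 F244176)))).symm
theorem E65939 : n105433 = n33890 := ((D105433).symm.trans (sb E63111 (iv6 D73769)))
theorem F308197 : act 6 n73772 = n70358 := (sb E63112 (iv6 D149774))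
theorem E65941 : n160145 = n117241 := ((D160145).symm.trans (sb E63113 F231989))
theorem F308198 : act 3 n76707 = n130857 := (sb E63114 F231981)
theorem E65942 : n160144 = n158953 := ((D160144).symm.trans (sb E63114 F250289))
theorem F308199 : act 6 n55156 = n70247 := (sb E63115 (iv6 D149589))
theorem F308200 : act 0 n122828 = n131488 := (sb E63116 F239819)
theorem F308201 : act 4 n122828 = n71997 := (sb E63116 (iv4 D152618))
theorem F308202 : act 7 n122828 = n133594 := (sb E63116 F239818)
theorem E65945 : n160146 = n117247 := (((F183470).symm.trans (sb E63117 (iv2 F252770)))).symm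
theorem E65946 : n160098 = n146685 := (((D146685).symm.trans (sb E63117 (iv4 F252679)))).symm
theorem F308203 : act 6 n68746 = n35064 := (sb E63117 (iv6 D76710))
theorem F308204 : act 5 n62749 = n70381 := (sb E63118 (iv5 D149799))
theorem F308205 : act 0 n120183 = n170128 := (sb E63119 (iv1 F267622))
theorem F308206 : act 7 n120183 = n70381 := (sb E63119 (iv7 D149800))
theorem F308207 : act 1 n54104 = n26207 := (sb E63121 (iv0 D54166))
theorem E65949 : n117569 = n117379 := ((((iv4 F183810)).symm.trans (sb E63121 D117569))).symm
theorem E65950 : n117571 = n117400 := ((((iv6 F183868)).symm.trans (sb E63121 D117571))).symm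
theorem F308208 : act 7 n54104 = n32256 := (sb E63121 F186338)
theorem F308209 : act 0 n55014 = n35070 := (sb E63122 F151573)
theorem F308210 : act 2 n55014 = n35069 := (sb E63122 F115103)
theorem E65951 : n120367 = n119579 := ((((iv4 F188565)).symm.trans (sb E63122 (iv4 F191733)))).symm
theorem F308211 : act 5 n55014 = n98222 := (sb E63122 F151575)
theorem E65953 : n146689 = n35050 := ((((iv4 F55666)).symm.trans (sb E63123 (iv4 F230021)))).symm
theorem E65954 : n33819 = n31988 := (((iv6 F53159)).symm.trans (sb E63123 (iv6 D68758)))
theorem E65957 : n122848 = n119304 := (((D119304).symm.trans (sb E63124 (iv4 F196847)))).symm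
theorem F308212 : act 6 n54903 = n35069 := (sb E63124 (iv6 D76729))
theorem E65960 : n81432 = n68981 := ((D81432).symm.trans (sb E63125 (iv6 D147129)))
theorem F308213 : act 6 n54059 = n81430 := (sb E63126 (iv6 D169796))
theorem F308214 : act 0 n54143 = n117403 := (sb E63128 (iv1 F196818))
theorem E65961 : n117498 = n57105 := (((iv4 F184056)).symm.trans (sb E63128 (iv4 D122830)))
theorem F308215 : act 7 n54143 = n79080 := (sb E63128 F196815)
theorem E65962 : n117563 = n27494 := ((D117563).symm.trans (sb E63129 (iv1 D57479)))
theorem E65963 : n117564 = n76551 := ((D117564).symm.trans (sb E63129 (iv0 F114791)))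
theorem E65964 : n117561 = n33602 := (((iv3 F184173)).symm.trans (sb E63129 (iv3 F94616)))
theorem E65965 : n117565 = n55406 := ((D117565).symm.trans (sb E63129 F94617))
theorem F308216 : act 3 n60071 = n75133 := (sb E63131 F248500)
theorem E65967 : n127889 = n75132 := ((D127889).symm.trans (sb E63131 (iv6 D157694)))
theorem F308217 : act 5 n46187 = n75133 := (sb E63132 (iv5 D157695))
theorem E65968 : n146765 = n98769 := (((D98769).symm.trans (sb E63132 F248503))).symm
theorem F308218 : act 0 n44485 = n61395 := (sb E63133 (iv1 F96066))
theorem F308219 : act 1 n44485 = n29133 := (sb E63133 (iv0 D61537))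
theorem F308220 : act 2 n44485 = n61393 := (sb E63133 F183627)
theorem E65969 : n119004 = n95240 := (((D95240).symm.trans (sb E63133 (iv6 F187142)))).symm
theorem F308221 : act 2 n61538 = n37187 := (sb E63134 (iv2 D81429))
theorem F308222 : act 3 n61538 = n79066 := (sb E63134 F125265)
theorem F308223 : act 4 n61538 = n86322 := (sb E63134 (iv4 F132296))
theorem E65970 : n151951 = n38576 := ((((iv1 D83680)).symm.trans (sb E63137 (iv1 F238947)))).symm
theorem E65971 : n151950 = n46540 := (((F128751).symm.trans (sb E63137 F238951))).symm
theorem F308224 : act 3 n83680 = n61395 := (sb E63137 F209442)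
theorem E65972 : n175207 = n131183 := ((D175207).symm.trans (sb E63137 (iv6 F210130)))
theorem F308225 : act 1 n133945 = n69190 := (sb E63138 (iv0 D147639))
theorem F308226 : act 0 n77021 = n69190 := (sb E63139 (iv1 D147640))
theorem F308227 : act 2 n128104 = n69190 := (sb E63140 F231406)
theorem E65973 : n146764 = n69188 := ((F307301).symm.trans (sb E63140 (iv6 D147635)))
theorem F308228 : act 4 n69744 = n69190 := (sb E63141 F231411)
theorem E65974 : n75130 = n69189 := (((iv6 F112646)).symm.trans (sb E63141 (iv6 D147638)))
theorem E65975 : n146763 = n69186 := (((D69186).symm.trans (sb E63142 (iv1 F248477)))).symm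
theorem E65977 : n75127 = n69081 := ((((iv7 F105327)).symm.trans (sb E63142 (iv7 D157687)))).symm
theorem E65980 : n143593 = n55619 := ((((iv2 F87983)).symm.trans (sb E63143 (iv2 F226275)))).symm
theorem F308229 : act 3 n32624 = n31808 := (sb E63143 F103165)
theorem E65981 : n31285 = n15447 := ((((iv4 D32624)).symm.trans (sb E63143 F103166))).symm
theorem E65982 : n143607 = n70296 := (((D70296).symm.trans (sb E63143 D143607))).symm
theorem E65983 : n70297 = n31284 := ((D70297).symm.trans (sb E63143 (iv6 D67252)))
theorem E65984 : n145797 = n54818 := ((D145797).symm.trans (sb E63144 (iv1 D119124)))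
theorem E65985 : n145798 = n77647 := ((D145798).symm.trans (sb E63144 F187431))
theorem E65986 : n145799 = n71738 := ((D145799).symm.trans (sb E63144 F304121))
theorem E65987 : n145790 = n135463 := (((iv6 F228919)).symm.trans (sb E63144 F304122))
theorem E65988 : n174287 = n173683 := ((D174287).symm.trans (sb E63146 (iv1 F272184)))
theorem E65989 : n174288 = n38777 := ((D174288).symm.trans (sb E63146 (iv0 D84124)))
theorem E65990 : n173682 = n173198 := ((((iv2 F271469)).symm.trans (sb E63146 F274301))).symm
theorem E65993 : n174290 = n173681 := ((D174290).symm.trans (sb E63146 (iv7 F274304)))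
theorem F308231 : act 2 n159947 = n85393 := (sb E63150 F278857)
theorem F308232 : act 0 n67912 = n85392 := (sb E63154 (iv1 D178992))
theorem F308233 : act 5 n71308 = n85393 := (sb E63155 (iv5 D178998))
theorem F308235 : act 4 n155351 = n149880 := (sb E63156 F278911)
theorem F308236 : act 2 n70454 = n85419 := (sb E63157 F244314)
theorem F308237 : act 4 n70454 = n73818 := (sb E63157 F244315)
theorem F308238 : act 7 n70454 = n85424 := (sb E63157 F244316)
theorem F308241 : act 4 n72864 = n101467 := (sb E63159 F283305)
theorem F308242 : act 6 n60206 = n83706 := (sb E63160 (iv6 D175289))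
theorem F308243 : act 0 n166284 = n83593 := (sb E63161 (iv1 D175041))
theorem E65994 : n175306 = n34140 := (E63162).trans E64179
theorem E65995 : n159941 = n30532 := (((F53607).symm.trans (sb E65994 (tr (iv0 F278940) E63664)))).symm
theorem E65996 : n83716 = n74428 := (((D74428).symm.trans (sb E65994 F274344))).symm
theorem E65997 : n83715 = n65117 := ((((iv5 F212188)).symm.trans (sb E65994 (iv5 D175306)))).symm
theorem E65998 : n145188 = n74431 := (((D74431).symm.trans (sb E65994 F274345))).symm
theorem E66001 : n181076 = n146678 := (((D146678).symm.trans (sb E63163 (iv3 F282014)))).symm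
theorem E66002 : n181079 = n146679 := (((D146679).symm.trans (sb E63163 D181079))).symm
theorem F308244 : act 5 n68743 = n40064 := (sb E63163 (iv5 D86480))
theorem E66003 : n96718 = n58171 := ((E65167).symm.trans (((iv7 F229984)).symm.trans (sb E63163 (iv7 F297773))))
theorem E66005 : n146671 = n58171 := (E65167).trans E66003
theorem E66006 : n179480 = n131370 := ((D179480).symm.trans (sb E63165 F234330))
theorem E66007 : n179481 = n131410 := ((D179481).symm.trans (sb E63165 F234331))
theorem E66009 : n179483 = n74887 := ((D179483).symm.trans (sb E63165 F210233))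
theorem E66010 : n131408 = n85652 := ((((iv7 F131366)).symm.trans (sb E63165 (iv7 F232879)))).symm
theorem E66014 : n61568 = n40181 := (((D40181).symm.trans (sb E63167 D61568))).symm
theorem E66015 : n81589 = n62859 := ((((iv1 F98081)).symm.trans (sb E63168 F131291))).symm
theorem E66016 : n81592 = n29272 := (((F54477).symm.trans (sb E63168 F131292))).symm
theorem F308245 : act 5 n34321 = n39559 := (sb E63168 (iv5 D85628))
theorem E66018 : n85653 = n33429 := (((F54476).symm.trans (sb E63168 (iv7 F131368)))).symm
theorem F308246 : act 3 n72421 = n40069 := (sb E63170 (iv3 D86490))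
theorem E66023 : n81627 = n33252 := ((((iv1 D71977)).symm.trans (sb E63171 F299945))).symm
theorem E66024 : n81630 = n70537 := (((F108464).symm.trans (sb E63171 F299946))).symm
theorem F308247 : act 5 n71977 = n40069 := (sb E63171 (iv5 D86491))
theorem E66027 : n81540 = n29660 := ((((iv0 D62714)).symm.trans (sb E63172 F125464))).symm
theorem E66028 : n133616 = n37256 := ((D133616).symm.trans (sb E63172 (iv4 D81566)))
theorem E66029 : n133617 = n98061 := ((D133617).symm.trans (sb E63172 F299948))
theorem F308248 : act 6 n62714 = n40069 := (sb E63172 F299949)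
theorem E66030 : n72556 = n37398 := (((iv7 F235897)).symm.trans (sb E63172 F125463))
theorem E66031 : n181108 = n118067 := (((F232727).symm.trans (sb E63173 (iv3 F282079)))).symm
theorem F308249 : act 5 n71976 = n40070 := (sb E63173 (iv5 D86493))
theorem F308250 : act 6 n71976 = n181111 := (sb E63173 D181111)
theorem E66033 : n184960 = n69259 := ((((iv7 F109400)).symm.trans (sb E63174 (iv7 F287378)))).symm
theorem E66034 : n173925 = n38291 := ((((iv3 F124252)).symm.trans (sb E63176 (iv3 F272563)))).symm
theorem F308252 : act 7 n77692 = n80267 := (sb E63176 (iv7 F263373))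
theorem E66035 : n70557 = n34349 := (((F87513).symm.trans (sb E63179 (iv2 F306276)))).symm
theorem E66036 : n120178 = n119115 := (((iv3 F189806)).symm.trans (sb E63179 (iv3 F306277)))
theorem E66037 : n80267 = n76979 := ((((iv4 F115719)).symm.trans (sb E63179 (iv4 F123350)))).symm
theorem E66038 : n69547 = n61549 := (((iv7 F105835)).symm.trans (sb E63179 (iv7 F306273)))
theorem E66039 : n95240 = n31320 := ((((iv1 F53874)).symm.trans (sb E63180 (tr (iv1 F215033) E65969)))).symm
theorem E66040 : n131205 = n30658 := (((F53872).symm.trans (sb E63180 F215029))).symm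
theorem E66041 : n85185 = n74692 := ((((iv3 F112093)).symm.trans (sb E63180 F215030))).symm
theorem E66042 : n134700 = n67378 := ((((iv4 F103246)).symm.trans (sb E63180 (iv4 F216700)))).symm
theorem E66043 : n62726 = n26020 := (((F53873).symm.trans (sb E63180 (iv7 D133638)))).symm
theorem E66047 : n173929 = n38292 := (((iv2 F272566)).symm.trans (sb E63183 F128249))
theorem E66048 : n173950 = n173930 := (((D173930).symm.trans (sb E63183 (iv4 F272606)))).symm
theorem E66049 : n173955 = n173931 := (((D173931).symm.trans (sb E63183 (iv5 F272609)))).symm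
theorem E66050 : n173959 = n173932 := (((D173932).symm.trans (sb E63183 D173959))).symm
theorem F308257 : act 5 n71096 = n71522 := (sb E63185 (iv5 D151751))
theorem E66051 : n76564 = n65004 := (((D65004).symm.trans (iv0 (sb E63186 (tr (iv1 D149915) E64176))))).symm
theorem E66052 : n149915 = n65004 := (E63186).trans E66051
theorem E66053 : n150226 = n138392 := (((D138392).symm.trans (sb E66052 (iv3 F274156)))).symm
theorem E66054 : n150760 = n30573 := (((F212037).symm.trans (sb E66052 (iv5 F237319)))).symm
theorem E66055 : n150513 = n138394 := (((D138394).symm.trans (sb E66052 F237321))).symm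
theorem F308258 : act 4 n69778 = n61186 := (sb E63187 (iv4 D130387))
theorem F308259 : act 6 n69776 = n61186 := (sb E63188 (iv6 D130389))
theorem E66056 : n82713 = n73037 := ((D82713).symm.trans (sb E63189 F300775))
theorem E66057 : n128195 = n75785 := ((((iv0 F155517)).symm.trans (sb E63189 F300776))).symm
theorem E66058 : n128193 = n75479 := ((((iv2 F113287)).symm.trans (sb E63189 F300777))).symm
theorem F308260 : act 3 n38020 = n45893 := (sb E63189 F151508)
theorem E66059 : n82715 = n45890 := ((D82715).symm.trans (sb E63189 (iv5 D98196)))
theorem E66060 : n128192 = n82716 := (((D82716).symm.trans (sb E63189 F300778))).symm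
theorem E66061 : n158688 = n47007 := (((D47007).symm.trans (sb E63194 (iv1 F249847)))).symm
theorem E66062 : n158691 = n47008 := (((D47008).symm.trans (sb E63194 (iv0 F249848)))).symm
theorem F308261 : act 4 n22603 = n45893 := (sb E63194 (iv4 D98204))
theorem E66063 : n173753 = n104126 := ((D173753).symm.trans (sb E63195 F232802))
theorem E66064 : n173814 = n171131 := (((iv4 F272401)).symm.trans (sb E63196 (iv4 F268869)))
theorem E66065 : n173805 = n47010 := ((D173805).symm.trans (sb E63198 F154925))
theorem F308262 : act 2 n82727 = n98542 := (sb E63199 F268299)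
theorem E66066 : n172856 = n38025 := ((((iv3 D82727)).symm.trans (sb E63199 (iv3 F271126)))).symm
theorem E66067 : n172780 = n38034 := ((D172780).symm.trans (sb E63199 (iv6 D82758)))
theorem F308263 : act 5 n72335 = n83375 := (sb E63200 (iv5 D174432))
theorem F308264 : act 5 n70185 = n60325 := (sb E63201 (iv5 D128311))
theorem E66068 : n101309 = n27667 := (((E63480).symm.trans ((D101221).symm.trans (sb E63202 D101309)))).symm
theorem E66069 : n101311 = n101223 := (((D101223).symm.trans (sb E63202 D101311))).symm
theorem F308265 : act 7 n47140 = n22695 := (sb E63202 (iv7 F74462))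
theorem E66070 : n101336 = n37456 := ((D101336).symm.trans (sb E63203 F299754))
theorem E66071 : n101337 = n88642 := ((D101337).symm.trans (sb E63203 F299755))
theorem E66072 : n101338 = n27672 := ((D101338).symm.trans (sb E63203 F299756))
theorem E66073 : n101339 = n27478 := ((D101339).symm.trans (sb E63203 F90599))
theorem E66074 : n123317 = n101340 := (((D101340).symm.trans (sb E63203 D123317))).symm
theorem E66075 : n101341 = n27476 := ((D101341).symm.trans (sb E63203 (iv6 D57421)))
theorem F308266 : act 1 n47176 = n33579 := (sb E63204 (iv0 F190710))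
theorem E66076 : n101342 = n26643 := ((D101342).symm.trans (sb E63204 F87209))
theorem E66077 : n119824 = n101343 := (((D101343).symm.trans (sb E63204 D119824))).symm
theorem E66078 : n101344 = n26641 := ((D101344).symm.trans (sb E63204 (iv6 D55134)))
theorem F308267 : act 0 n47178 = n27540 := (sb E63205 (iv1 F190055))
theorem E66079 : n101348 = n33675 := ((D101348).symm.trans (sb E63205 F190035))
theorem E66080 : n119816 = n101349 := (((D101349).symm.trans (sb E63205 D119816))).symm
theorem E66081 : n101350 = n33640 := ((D101350).symm.trans (sb E63205 (iv7 F190568)))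
theorem E66085 : n101295 = n73277 := ((D101295).symm.trans (sb E63207 (iv4 D154593)))
theorem E66086 : n101299 = n32700 := ((D101299).symm.trans (sb E63208 F106926))
theorem E66087 : n101300 = n72979 := ((D101300).symm.trans (sb E63208 (iv4 F190977)))
theorem E66088 : n101301 = n70803 := ((D101301).symm.trans (sb E63208 (iv5 F107270)))
theorem E66089 : n101302 = n32698 := ((D101302).symm.trans (sb E63208 (iv6 D70465)))
theorem E66090 : n154435 = n101292 := ((((iv3 F156077)).symm.trans (sb E63209 (iv3 F242476)))).symm
theorem F308268 : act 6 n47168 = n33687 := (sb E63209 (iv6 D73155))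
theorem E66091 : n153834 = n83795 := (((D83795).symm.trans (sb E63210 (iv1 F241687)))).symm
theorem E66092 : n153833 = n83796 := (((D83796).symm.trans (sb E63210 F241683))).symm
theorem F308269 : act 2 n38608 = n33691 := (sb E63210 (iv2 D73169))
theorem E66093 : n154465 = n83797 := (((D83797).symm.trans (sb E63210 D154465))).symm
theorem E66094 : n153835 = n83798 := (((D83798).symm.trans (sb E63210 (iv7 F241685)))).symm
theorem E66095 : n87668 = n73079 := (E63211).trans E64743
theorem E66096 : n154239 = n83798 := ((D154239).symm.trans (sb E66095 (iv1 F134587)))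
theorem E66097 : n183739 = n123503 := ((((iv2 F197917)).symm.trans (sb E66095 D183739))).symm
theorem E66101 : n183744 = n154242 := (((D154242).symm.trans (sb E66095 D183744))).symm
theorem E66102 : n154459 = n154242 := (((iv2 F242505)).symm.trans (sb E63212 (tr (iv2 F285511) E66101)))
theorem E66107 : n154454 = n123503 := ((F242504).symm.trans (sb E63212 (tr F285510 E66097)))
theorem E66108 : n183749 = n154471 := (((D154471).symm.trans (sb E63213 D183749))).symm
theorem E66109 : n183750 = n154472 := (((D154472).symm.trans (sb E63213 D183750))).symm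
theorem E66110 : n183751 = n154473 := (((D154473).symm.trans (sb E63213 D183751))).symm
theorem F308270 : act 6 n73171 = n40847 := (sb E63213 F134584)
theorem E66111 : n183752 = n153836 := ((((iv7 F241690)).symm.trans (sb E63213 D183752))).symm
theorem F308271 : act 6 n72768 = n99574 := (sb E63214 (iv6 F153318))
theorem E66126 : n183818 = n119284 := ((((iv4 F187747)).symm.trans (sb E63218 D183818))).symm
theorem E66131 : n183825 = n153866 := (((D153866).symm.trans (sb E63220 D183825))).symm
theorem F308272 : act 2 n73158 = n41155 := (sb E63221 F286494)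
theorem E66132 : n183830 = n124032 := ((((iv3 F241697)).symm.trans (sb E63221 D183830))).symm
theorem E66133 : n183831 = n154441 := (((D154441).symm.trans (sb E63221 D183831))).symm
theorem E66134 : n183833 = n154443 := (((D154443).symm.trans (sb E63221 D183833))).symm
theorem F308273 : act 7 n73158 = n41156 := (sb E63221 (iv7 F286497))
theorem F308274 : act 2 n73157 = n41156 := (sb E63222 (iv2 F286496))
theorem E66135 : n183835 = n154438 := (((D154438).symm.trans (sb E63222 D183835))).symm
theorem E66136 : n183836 = n154439 := (((D154439).symm.trans (sb E63222 D183836))).symm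
theorem F308275 : act 7 n73157 = n41155 := (sb E63222 F286495)
theorem F308276 : act 2 n73175 = n41157 := (sb E63223 F134600)
theorem E66140 : n183840 = n154482 := (((D154482).symm.trans (sb E63223 D183840))).symm
theorem E66141 : n183841 = n147770 := ((((iv5 F231511)).symm.trans (sb E63223 D183841))).symm
theorem F308277 : act 6 n73175 = n40858 := (sb E63223 F134601)
theorem E66142 : n183842 = n153840 := ((((iv7 F241703)).symm.trans (sb E63223 D183842))).symm
theorem F308278 : act 0 n72769 = n41156 := (sb E63224 (iv1 F134605))
theorem F308279 : act 1 n72769 = n41155 := (sb E63224 F134606)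
theorem E66143 : n183843 = n153841 := (((D153841).symm.trans (sb E63224 D183843))).symm
theorem E66144 : n123729 = n83808 := (((F156367).symm.trans (sb E63225 D123729))).symm
theorem E66145 : n123730 = n101564 := (((D101564).symm.trans (sb E63225 D123730))).symm
theorem E66146 : n123731 = n89129 := ((((iv2 F156427)).symm.trans (sb E63225 D123731))).symm
theorem F308280 : act 3 n47245 = n27550 := (sb E63225 (iv3 D57677))
theorem F308281 : act 4 n47245 = n83760 := (sb E63225 F128807)
theorem F308282 : act 2 n152896 = n184724 := (sb E63226 (iv2 F287191))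
theorem F308283 : act 5 n152896 = n98097 := (sb E63226 F283504)
theorem F308284 : act 0 n133677 = n86692 := (sb E63227 (iv1 D181644))
theorem F308285 : act 1 n107903 = n86692 := (sb E63228 (iv0 D181643))
theorem E66147 : n101567 = n49839 := ((((iv3 D107903)).symm.trans (sb E63228 F282742))).symm
theorem F308286 : act 3 n83897 = n62743 := (sb E63229 F213283)
theorem E66148 : n62325 = n38639 := ((((iv4 D83897)).symm.trans (sb E63229 F213284))).symm
theorem E66149 : n175760 = n136480 := ((D175760).symm.trans (sb E63229 F219593))
theorem E66150 : n123135 = n62324 := (((iv6 F303637)).symm.trans (sb E63229 (iv6 D132794)))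
theorem E66158 : n175569 = n154082 := (((D154082).symm.trans (sb E63231 D175569))).symm
theorem E66159 : n123202 = n41531 := (((F274513).symm.trans (sb E63232 (iv1 F301745)))).symm
theorem E66160 : n123201 = n46056 := (((F274514).symm.trans (sb E63232 (iv0 F301744)))).symm
theorem E66161 : n39125 = n38620 := (((F274542).symm.trans (sb E63232 (iv2 D84708)))).symm
theorem F308287 : act 3 n83025 = n153877 := (sb E63232 (iv3 F305179))
theorem E66163 : n173574 = n124067 := ((D173574).symm.trans (sb E63232 (iv6 F305162)))
theorem E66164 : n154003 = n87566 := (((D87566).symm.trans (sb E63233 D154003))).symm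
theorem E66165 : n154004 = n87567 := (((D87567).symm.trans (sb E63233 D154004))).symm
theorem E66168 : n184956 = n153899 := (((D153899).symm.trans (sb E63235 F287375))).symm
theorem E66169 : n154553 = n87544 := ((D154553).symm.trans (sb E63241 F287278))
theorem E66170 : n175564 = n154554 := (((D154554).symm.trans (sb E63241 F287279))).symm
theorem E66171 : n184038 = n124777 := (((D124777).symm.trans (sb E63243 (iv5 F285989)))).symm
theorem E66172 : n184955 = n153883 := ((((iv7 F241816)).symm.trans (sb E63246 F287372))).symm
theorem F308288 : act 0 n72797 = n86617 := (sb E63248 F286204)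
theorem F308289 : act 1 n72797 = n86612 := (sb E63248 F286205)
theorem F308290 : act 7 n72797 = n48184 := (sb E63248 (iv7 D104119))
theorem F308291 : act 1 n73277 = n48184 := (sb E63249 (iv0 D104116))
theorem F308292 : act 0 n72979 = n48184 := (sb E63250 (iv1 D104117))
theorem F308293 : act 0 n104118 = n154595 := (sb E63251 (iv1 F242666))
theorem F308294 : act 1 n104118 = n72433 := (sb E63251 (iv0 D153310))
theorem F308295 : act 7 n104118 = n153886 := (sb E63251 (iv7 F241831))
theorem F308296 : act 2 n72880 = n87569 := (sb E63252 F283316)
theorem E66173 : n182648 = n154011 := (((D154011).symm.trans (sb E63252 F295107))).symm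
theorem F308297 : act 7 n72880 = n86922 := (sb E63252 (iv7 D181994))
theorem F308298 : act 2 n72885 = n87559 := (sb E63253 F285168)
theorem F308299 : act 1 n72883 = n87559 := (sb E63254 (iv0 D183430))
theorem F308300 : act 0 n72882 = n87559 := (sb E63255 (iv1 D183431))
theorem F308301 : act 7 n58295 = n87559 := (sb E63256 F285181)
theorem E66174 : n184478 = n82606 := (((F187674).symm.trans (sb E63265 (iv0 F286400)))).symm
theorem F308302 : act 7 n153682 = n184953 := (sb E63267 (iv7 F287368))
theorem F308303 : act 3 n152895 = n101785 := (sb E63272 F286653)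
theorem F308304 : act 5 n152895 = n101332 := (sb E63272 (iv5 F286652))
theorem F308305 : act 7 n152895 = n184724 := (sb E63272 (iv7 F287192))
theorem F308306 : act 2 n153684 = n184976 := (sb E63274 (iv2 F287386))
theorem F308307 : act 0 n88173 = n73189 := (sb E63275 F231583)
theorem F308308 : act 1 n88173 = n73184 := (sb E63275 F231630)
theorem F308309 : act 2 n88173 = n154442 := (sb E63275 (iv2 F242489))
theorem F308310 : act 6 n88173 = n154054 := (sb E63275 (iv6 F242086))
theorem F308311 : act 7 n88173 = n72707 := (sb E63275 F231582)
theorem F308312 : act 1 n152898 = n185418 := (sb E63286 (iv0 F287650))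
theorem F308313 : act 2 n152899 = n75027 := (sb E63287 F240840)
theorem F308314 : act 6 n152899 = n72411 := (sb E63287 (iv6 D153290))
theorem F308315 : act 0 n88007 = n72151 := (sb E63288 (iv1 D152900))
theorem F308316 : act 1 n88007 = n154054 := (sb E63288 F242090)
theorem F308317 : act 1 n73075 = n101266 := (sb E63289 (iv0 F283516))
theorem F308318 : act 2 n101333 = n86972 := (sb E63290 F283519)
theorem F308319 : act 7 n101333 = n86971 := (sb E63290 (iv7 D182132))
theorem F308320 : act 3 n81810 = n86972 := (sb E63291 (iv3 D182133))
theorem F308321 : act 4 n153675 = n86972 := (sb E63292 (iv4 D182134))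
theorem F308322 : act 2 n154142 = n86971 := (sb E63293 (iv2 D182127))
theorem F308323 : act 7 n154142 = n86972 := (sb E63293 (iv7 F283518))
theorem F308324 : act 3 n47045 = n73184 := (sb E63294 F242540)
theorem E66175 : n100950 = n73182 := ((D100950).symm.trans (sb E63294 (iv5 D154495)))
theorem E66176 : n138385 = n70481 := (((F119422).symm.trans (sb E63296 F245828))).symm
theorem F308325 : act 6 n78242 = n74379 := (sb E63296 (iv6 D156388))
theorem F308326 : act 5 n153857 = n184671 := (sb E63299 F287310)
theorem F308327 : act 5 n153859 = n184673 := (sb E63301 F287311)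
theorem E66177 : n88241 = n73190 := (((D73190).symm.trans (sb E63302 F286669))).symm
theorem E66179 : n123651 = n22743 := ((((iv0 D47324)).symm.trans (sb E63303 D123651))).symm
theorem F308328 : act 3 n47324 = n27540 := (sb E63303 F90785)
theorem F308329 : act 4 n47324 = n83483 := (sb E63303 (iv4 F128587))
theorem F308330 : act 6 n47324 = n27537 := (sb E63303 (iv6 D57642))
theorem E66180 : n184964 = n86510 := ((D184964).symm.trans (sb E63304 F195904))
theorem E66181 : n184965 = n122562 := ((D184965).symm.trans (sb E63304 (iv0 F302306)))
theorem E66182 : n184966 = n124031 := ((D184966).symm.trans (sb E63304 (iv2 F302094)))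
theorem E66183 : n184967 = n177769 := ((D184967).symm.trans (sb E63304 (iv4 F277234)))
theorem F308331 : act 5 n88176 = n56754 := (sb E63304 (iv5 D122452))
theorem E66184 : n148987 = n148682 := (((D148682).symm.trans (sb E63305 F242795))).symm
theorem E66185 : n120570 = n95933 := ((((iv0 F233446)).symm.trans (sb E63305 (iv0 F242796)))).symm
theorem F308332 : act 3 n69682 = n69570 := (sb E63305 F238880)
theorem E66186 : n159188 = n32345 := (((F106039).symm.trans (sb E63305 (iv4 F250673)))).symm
theorem F308333 : act 2 n69982 = n33712 := (sb E63306 (iv2 F306382))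
theorem F308334 : act 7 n69982 = n33595 := (sb E63306 (iv7 F306381))
theorem F308335 : act 4 n177025 = n87361 := (sb E63307 (iv4 D182999))
theorem F308336 : act 3 n72438 = n85856 := (sb E63308 (iv3 D179740))
theorem F308337 : act 0 n72667 = n87342 := (sb E63320 (iv1 D182944))
theorem F308338 : act 1 n72668 = n87342 := (sb E63321 (iv0 D182943))
theorem E66187 : n155279 = n47605 := ((F307099).symm.trans (sb E63322 (iv4 D102642)))
theorem E66188 : n124066 = n46296 := (((iv1 F198468)).symm.trans (sb E63323 (iv1 D98954)))
theorem E66189 : n175627 = n124065 := (((F198464).symm.trans (sb E63323 F274949))).symm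
theorem E66190 : n175411 = n100479 := ((D175411).symm.trans (sb E63323 (iv5 F274555)))
theorem F308339 : act 4 n57346 = n38207 := (sb E63324 (iv4 D83020))
theorem E66192 : n173554 = n123203 := (((D123203).symm.trans (sb E63324 D173554))).symm
theorem F308340 : act 2 n98333 = n87856 := (sb E63325 F286117)
theorem F308341 : act 6 n98333 = n87852 := (sb E63325 (iv6 D184191))
theorem E66193 : n84707 = n83826 := (((D83826).symm.trans (sb E63327 F301746))).symm
theorem F308342 : act 2 n38615 = n57346 := (sb E63327 F197487)
theorem F308343 : act 3 n38615 = n72958 := (sb E63327 F197488)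
theorem F308344 : act 6 n38615 = n57345 := (sb E63327 (iv6 D123200))
theorem E66195 : n161572 = n88952 := ((D161572).symm.trans (sb E63328 (iv1 F274953)))
theorem E66196 : n161573 = n98956 := ((D161573).symm.trans (sb E63328 F274954))
theorem E66197 : n83850 = n57806 := ((((iv7 F116504)).symm.trans (sb E63328 (iv7 D175628)))).symm
theorem F308345 : act 0 n101466 = n172849 := (sb E63329 (iv1 F271108))
theorem F308346 : act 1 n101466 = n47321 := (sb E63329 (iv0 D101824))
theorem E66198 : n172851 = n161682 := ((((iv2 F255691)).symm.trans (sb E63329 (iv2 F271117)))).symm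
theorem F308347 : act 4 n101466 = n98532 := (sb E63329 F268290)
theorem F308348 : act 5 n101466 = n173291 := (sb E63329 (iv5 F271677))
theorem F308349 : act 7 n101466 = n98522 := (sb E63329 (iv7 F268291))
theorem E66199 : n89049 = n82986 := ((D89049).symm.trans (sb E63330 F197482))
theorem F308350 : act 6 n41589 = n57343 := (sb E63330 (iv6 D123197))
theorem F308351 : act 6 n46070 = n72845 := (sb E63331 (iv6 D153932))
theorem F308352 : act 0 n89323 = n52678 := (sb E63332 F163334)
theorem F308353 : act 1 n89323 = n52681 := (sb E63332 F163335)
theorem F308354 : act 2 n89323 = n57602 := (sb E63332 F163330)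
theorem F308355 : act 4 n89323 = n49117 := (sb E63332 (iv4 D106282))
theorem F308356 : act 5 n89323 = n57257 := (sb E63332 F163332)
theorem F308357 : act 6 n89323 = n114837 := (sb E63332 (iv6 F178906))
theorem F308358 : act 7 n89323 = n57607 := (sb E63332 F163333)
theorem F308359 : act 2 n89326 = n95648 := (sb E63333 F242290)
theorem F308360 : act 3 n89326 = n114837 := (sb E63333 F242291)
theorem F308361 : act 4 n89326 = n95644 := (sb E63333 F242292)
theorem F308362 : act 3 n76675 = n41721 := (sb E63334 (iv3 D89328))
theorem F308363 : act 2 n89330 = n93865 := (sb E63335 F149712)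
theorem F308364 : act 3 n89330 = n160104 := (sb E63335 (iv3 F252694))
theorem F308365 : act 4 n89330 = n45366 := (sb E63335 F149713)
theorem F308366 : act 3 n44717 = n41722 := (sb E63336 (iv3 D89333))
theorem E66200 : n95742 = n41767 := ((D95742).symm.trans (sb E63336 F137019))
theorem F308367 : act 5 n48004 = n41722 := (sb E63337 (iv5 D89334))
theorem E66210 : n60061 = n27868 := ((D60061).symm.trans (sb E63344 (iv5 D58575)))
theorem F308368 : act 2 n89254 = n152187 := (sb E63352 (iv2 F239269))
theorem F308369 : act 6 n89254 = n60134 := (sb E63352 (iv6 D127988))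
theorem F308370 : act 6 n89255 = n60139 := (sb E63353 F205985)
theorem F308371 : act 0 n89257 = n73113 := (sb E63365 (iv1 F198170))
theorem F308372 : act 1 n89257 = n73112 := (sb E63365 F198171)
theorem F308373 : act 2 n89257 = n73115 := (sb E63365 F198167)
theorem F308374 : act 7 n89257 = n57666 := (sb E63365 (iv7 D123701))
theorem F308375 : act 6 n33405 = n41141 := (sb E63367 (iv6 D88116))
theorem F308376 : act 3 n101909 = n72777 := (sb E63368 (iv3 D153860))
theorem F308377 : act 0 n153862 = n87706 := (sb E63370 (iv1 D183861))
theorem F308378 : act 1 n153862 = n88243 := (sb E63370 F285669)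
theorem F308379 : act 7 n153862 = n88240 := (sb E63370 (iv7 F286672))
theorem E66222 : n149884 = n61511 := (((F96127).symm.trans (sb E63371 F235749))).symm
theorem E66225 : n129636 = n39607 := (((iv4 F207817)).symm.trans (sb E63373 (iv4 D85742)))
theorem F308380 : act 4 n39640 = n62755 := (sb E63374 F204558)
theorem F308381 : act 2 n54325 = n41141 := (sb E63377 (iv2 D88112))
theorem E66232 : n184787 = n116913 := ((((iv5 F182675)).symm.trans (sb E63377 D184787))).symm
theorem F308382 : act 7 n54325 = n41142 := (sb E63377 (iv7 F135096))
theorem F308383 : act 3 n33780 = n41141 := (sb E63378 (iv3 D88113))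
theorem E66237 : n184793 = n73464 := (((D73464).symm.trans (sb E63378 D184793))).symm
theorem F308384 : act 2 n73151 = n41142 := (sb E63380 F135097)
theorem E66239 : n184806 = n147740 := ((((iv5 F231484)).symm.trans (sb E63380 (iv5 F287268)))).symm
theorem F308385 : act 7 n73151 = n41141 := (sb E63380 (iv7 D88117))
theorem E66243 : n31707 = n13290 := (((iv5 F50011)).symm.trans (sb E63382 (iv5 D27873)))
theorem E66245 : n85570 = n29194 := (((F47760).symm.trans (sb E63383 (iv3 F131216)))).symm
theorem E66246 : n50016 = n18726 := (((iv5 F79133)).symm.trans (sb E63383 (iv5 D39539)))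
theorem E66247 : n85573 = n14112 := ((((iv6 D29717)).symm.trans (sb E63383 D85573))).symm
theorem E66256 : n167692 = n59948 := (((D59948).symm.trans (sb E63386 F301907))).symm
theorem E66258 : n75827 = n28836 := ((((iv3 F46477)).symm.trans (sb E63387 (iv3 D158912)))).symm
theorem E66260 : n75640 = n28979 := (((D28979).symm.trans (sb E63389 F249133))).symm
theorem E66262 : n71064 = n3478 := ((((iv4 D7675)).symm.trans (sb E63395 (iv4 F107598)))).symm
theorem E66263 : n16521 = n15845 := ((D16521).symm.trans (sb E63395 (iv6 D32907)))
theorem F308386 : act 4 n17284 = n16628 := (sb E63396 F53542)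
theorem F308387 : act 6 n17284 = n16520 := (sb E63396 (iv6 D34119))
theorem E66266 : n49802 = n17757 := (((F300704).symm.trans (sb E63397 D49802))).symm
theorem E66267 : n49800 = n26832 := (((F43208).symm.trans (sb E63397 (iv2 F78705)))).symm
theorem F308388 : act 3 n16830 = n11427 := (sb E63397 F38053)
theorem E66269 : n28697 = n11426 := (((iv5 F46250)).symm.trans (sb E63397 (iv5 D24279)))
theorem E66270 : n49804 = n32891 := (((F52072).symm.trans (sb E63397 D49804))).symm
theorem F308389 : act 7 n16830 = n24406 := (sb E63397 (iv7 F38263))
theorem E66271 : n32927 = n6928 := ((((iv1 F11202)).symm.trans (sb E63398 (iv1 F86076)))).symm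
theorem E66272 : n26354 = n6931 := ((((iv0 F11204)).symm.trans (sb E63398 (iv0 D54495)))).symm
theorem E66273 : n118326 = n2172 := ((((iv4 D5310)).symm.trans (sb E63398 D118326))).symm
theorem E66274 : n76778 = n2827 := (((F7927).symm.trans (sb E63398 (iv6 F115214)))).symm
theorem E66275 : n49806 = n32862 := ((D49806).symm.trans (sb E63399 (iv1 D70949)))
theorem E66276 : n70280 = n49807 := (((D49807).symm.trans (sb E63399 F107498))).symm
theorem E66278 : n49870 = n34781 := (((iv1 F79089)).symm.trans (sb E63400 F155100))
theorem E66279 : n85959 = n49869 := ((((iv2 F212679)).symm.trans (sb E63400 F155196))).symm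
theorem E66280 : n150228 = n108269 := (((D108269).symm.trans (sb E63400 (iv3 F236421)))).symm
theorem E66281 : n150238 = n108270 := (((D108270).symm.trans (sb E63400 (iv4 F236438)))).symm
theorem E66282 : n74365 = n58543 := ((F167107).symm.trans (sb E63400 (iv5 F155265)))
theorem E66283 : n108271 = n54407 := ((D108271).symm.trans (sb E63400 F107181))
theorem E66284 : n49868 = n32786 := ((F212676).symm.trans (sb E63400 (iv7 D70722)))
theorem E66285 : n150071 = n108273 := (((D108273).symm.trans (sb E63401 (iv3 F236141)))).symm
theorem E66286 : n108274 = n89312 := ((D108274).symm.trans (sb E63401 (iv4 F286796)))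
theorem E66287 : n74366 = n58542 := (((iv5 F212682)).symm.trans (sb E63401 (iv5 F155280)))
theorem E66288 : n108276 = n32752 := ((D108276).symm.trans (sb E63401 (iv6 D70613)))
theorem E66289 : n120320 = n108266 := (((D108266).symm.trans (sb E63402 (iv4 F301817)))).symm
theorem E66290 : n40244 = n24377 := ((((iv5 D50000)).symm.trans (sb E63402 F87908))).symm
theorem E66291 : n108267 = n80549 := ((D108267).symm.trans (sb E63402 (iv6 F123833)))
theorem E66292 : n39755 = n24375 := (((D24375).symm.trans (sb E63403 F155102))).symm
theorem E66293 : n32475 = n24376 := (((D24376).symm.trans (sb E63403 (iv0 D69941)))).symm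
theorem E66294 : n149077 = n24355 := ((((iv4 F38171)).symm.trans (sb E63403 D149077))).symm
theorem E66295 : n149078 = n11167 := (((F18782).symm.trans (sb E63403 D149078))).symm
theorem E66297 : n108281 = n70041 := ((D108281).symm.trans (sb E63404 (iv1 F234309)))
theorem E66298 : n108282 = n70036 := ((D108282).symm.trans (sb E63404 F234310))
theorem E66299 : n149056 = n48875 := (((F79094).symm.trans (sb E63404 F234398))).symm
theorem E66300 : n108283 = n69897 := ((D108283).symm.trans (sb E63404 (iv7 D149026)))
theorem E66301 : n120540 = n49860 := ((((iv4 F78852)).symm.trans (sb E63405 (iv4 F305535)))).symm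
theorem E66302 : n118325 = n3484 := ((((iv4 D7683)).symm.trans (sb E63406 (iv4 F185910)))).symm
theorem E66303 : n27878 = n16538 := (((D16538).symm.trans (sb E63406 (iv5 F199694)))).symm
theorem E66304 : n32936 = n16539 := (((D16539).symm.trans (sb E63406 F86075))).symm
theorem E66305 : n32921 = n16545 := (((D16545).symm.trans (sb E63407 (iv3 F52111)))).symm
theorem E66306 : n32924 = n3485 := ((((iv4 D7686)).symm.trans (sb E63407 (iv4 F52114)))).symm
theorem E66307 : n26259 = n16546 := (((D16546).symm.trans (sb E63407 (iv5 F41700)))).symm
theorem E66308 : n16547 = n7433 := ((D16547).symm.trans (sb E63407 (iv6 D15855)))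
theorem E66309 : n118423 = n5349 := (((D5349).symm.trans (sb E63408 (iv1 F186102)))).symm
theorem E66310 : n32981 = n3223 := ((((iv0 F5076)).symm.trans (sb E63408 F162940))).symm
theorem E66313 : n149455 = n2093 := (((F3556).symm.trans (sb E63408 (iv6 F235041)))).symm
theorem E66315 : n80548 = n5840 := ((((iv1 F8991)).symm.trans (sb E63409 (iv1 F123831)))).symm
theorem E66316 : n32889 = n5843 := ((((iv0 F8996)).symm.trans (sb E63409 (iv0 F106625)))).symm
theorem E66319 : n118328 = n24381 := (((D24381).symm.trans (sb E63410 D118328))).symm
theorem E66320 : n127975 = n108288 := (((D108288).symm.trans (sb E63411 (iv3 F205951)))).symm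
theorem E66321 : n108290 = n54347 := ((D108290).symm.trans (sb E63411 F107328))
theorem F308390 : act 6 n50006 = n32834 := (sb E63411 (iv6 D70853))
theorem E66322 : n150514 = n108293 := (((D108293).symm.trans (sb E63412 (iv3 F236994)))).symm
theorem E66324 : n108295 = n54346 := ((D108295).symm.trans (sb E63412 (iv5 F110576)))
theorem E66325 : n127736 = n108296 := (((D108296).symm.trans (sb E63412 (iv6 F205339)))).symm
theorem E66326 : n68601 = n32333 := (((F167438).symm.trans (sb E63413 F115226))).symm
theorem F308391 : act 4 n105987 = n73772 := (sb E63416 F210982)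
theorem E66329 : n65335 = n55116 := (((F303997).symm.trans (sb E63416 F210981))).symm
theorem F308392 : act 0 n26321 = n26722 := (sb E63419 F79221)
theorem E66330 : n108396 = n17411 := (((F41972).symm.trans (sb E63419 D108396))).symm
theorem F308393 : act 4 n26321 = n24409 := (sb E63419 (iv4 D50052))
theorem E66332 : n54424 = n34347 := ((D54424).symm.trans (sb E63419 F79220))
theorem E66334 : n108390 = n54426 := (((D54426).symm.trans (sb E63420 F215377))).symm
theorem E66335 : n156897 = n5981 := (((F26330).symm.trans (sb E63421 (iv3 F246929)))).symm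
theorem E66337 : n34208 = n5977 := (((F20816).symm.trans (sb E63421 F112030))).symm
theorem E66339 : n54303 = n36372 := (((iv6 F85695)).symm.trans (sb E63423 (iv6 D79853)))
theorem F308394 : act 4 n32063 = n54252 := (sb E63425 F182151)
theorem E66341 : n69528 = n68946 := ((((iv7 F105110)).symm.trans (sb E63425 (iv7 F182152)))).symm
theorem E66342 : n68945 = n68935 := ((((iv6 F105105)).symm.trans (sb E63426 (iv6 D147043)))).symm
theorem E66347 : n170174 = n54595 := ((((iv3 F86280)).symm.trans (sb E63428 D170174))).symm
theorem E66356 : n159061 = n153274 := (((D153274).symm.trans (sb E63432 F250402))).symm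
theorem E66357 : n159060 = n153275 := (((D153275).symm.trans (sb E63432 F250396))).symm
theorem E66358 : n131462 = n54937 := (((iv4 F210727)).symm.trans (sb E63432 F125476))
theorem E66359 : n170088 = n85652 := (((E66010).symm.trans ((F232880).symm.trans (sb E63432 D170088)))).symm
theorem F308395 : act 6 n72405 = n37269 := (sb E63432 (iv6 D81576))
theorem E66361 : n144908 = n52947 := (((iv3 F233198)).symm.trans (sb E63433 F178823))
theorem E66362 : n146682 = n90259 := ((D146682).symm.trans (sb E63433 F178824))
theorem F308396 : act 6 n68744 = n52946 := (sb E63433 (iv6 D114719))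
theorem F308397 : act 3 n54799 = n32171 := (sb E63436 F105444)
theorem E66368 : n147533 = n26509 := (((F86712).symm.trans (sb E63436 (iv4 F231326)))).symm
theorem E66369 : n147315 = n119080 := (((D119080).symm.trans (sb E63436 (iv6 F230974)))).symm
theorem E66370 : n55522 = n44773 := ((F192073).symm.trans (sb E63437 (iv3 D95913)))
theorem F308398 : act 0 n81563 = n153270 := (sb E63438 (iv1 F248106))
theorem E66371 : n170061 = n157554 := ((D170061).symm.trans (sb E63438 F248289))
theorem E66372 : n170062 = n74918 := ((D170062).symm.trans (sb E63438 (iv6 D157466)))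
theorem E66373 : n101592 = n83686 := ((D101592).symm.trans (sb E63441 (iv6 D175231)))
theorem E66374 : n83687 = n83312 := (((D83312).symm.trans (sb E63442 (iv6 D175237)))).symm
theorem E66375 : n123352 = n83688 := ((D123352).symm.trans (sb E63443 (iv6 D175243)))
theorem F308399 : act 6 n38578 = n83311 := (sb E63444 (iv6 D174291))
theorem F308400 : act 1 n133156 = n98769 := (sb E63450 (iv0 F296785))
theorem F308401 : act 3 n133156 = n80414 := (sb E63450 (iv3 D167552))
theorem E66376 : n131097 = n81588 := ((F213910).symm.trans (sb E63450 F263797))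
theorem F308402 : act 5 n133156 = n83051 := (sb E63450 F298347)
theorem F308403 : act 3 n133109 = n127892 := (sb E63451 (iv3 F263892))
theorem F308404 : act 7 n133109 = n98769 := (sb E63451 (iv7 F296788))
theorem E66381 : n108388 = n70537 := (((D70537).symm.trans (sb E63452 (iv7 F167563)))).symm
theorem F308405 : act 0 n133107 = n127878 := (sb E63453 (iv1 F235888))
theorem F308406 : act 2 n133107 = n127886 := (sb E63453 F235885)
theorem F308407 : act 6 n133107 = n127892 := (sb E63453 F235887)
theorem F308408 : act 7 n133107 = n70534 := (sb E63453 (iv7 D149964))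
theorem E66382 : n130487 = n83980 := ((D130487).symm.trans (sb E63454 F303421))
theorem F308409 : act 3 n36665 = n62472 := (sb E63455 F213898)
theorem E66384 : n75250 = n62469 := ((F298144).symm.trans (sb E63455 (iv6 D133153)))
theorem F308410 : act 5 n38680 = n62472 := (sb E63457 (iv5 D133155))
theorem F308411 : act 3 n33403 = n61073 := (sb E63459 F208532)
theorem F308412 : act 2 n148920 = n70939 := (sb E63460 (iv2 D150519))
theorem F308413 : act 5 n83579 = n77843 := (sb E63461 (iv5 D162040))
theorem E66388 : n47279 = n47276 := (((D47276).symm.trans (sb E63471 F156566))).symm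
theorem F308414 : act 0 n98500 = n123269 := (sb E63472 (iv1 F256039))
theorem E66389 : n123268 = n46068 := (((F275137).symm.trans (sb E63472 F256037))).symm
theorem F308415 : act 3 n98500 = n123277 := (sb E63472 F256034)
theorem F308416 : act 7 n98500 = n123270 := (sb E63472 F256036)
theorem E66390 : n123271 = n100101 := ((D123271).symm.trans (sb E63474 F274701))
theorem F308417 : act 0 n161418 = n83571 := (sb E63475 (iv1 D174980))
theorem F308418 : act 1 n161418 = n83576 := (sb E63475 F273861)
theorem F308419 : act 3 n101523 = n73062 := (sb E63479 F242308)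
theorem F308420 : act 5 n101523 = n73050 := (sb E63479 (iv5 D154192))
theorem F308421 : act 3 n27667 = n47140 := (sb E63480 (iv3 D101221))
theorem F308422 : act 4 n33724 = n47140 := (sb E63481 (iv4 D101222))
theorem F308423 : act 0 n33726 = n47171 := (sb E63482 (iv1 D101321))
theorem F308424 : act 1 n33726 = n47176 := (sb E63482 F156101)
theorem F308425 : act 2 n33724 = n47171 := (sb E63483 F156093)
theorem F308426 : act 7 n33724 = n47176 := (sb E63483 F156094)
theorem F308427 : act 0 n101322 = n54904 := (sb E63484 (iv1 D119306))
theorem F308428 : act 1 n101322 = n55019 := (sb E63484 F187802)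
theorem F308429 : act 2 n101322 = n55017 := (sb E63484 F187805)
theorem F308430 : act 4 n101322 = n128140 := (sb E63484 F305979)
theorem F308431 : act 6 n101322 = n84931 := (sb E63484 (iv6 F187804))
theorem F308432 : act 7 n101322 = n54947 := (sb E63484 F187803)
theorem F308433 : act 0 n101323 = n72417 := (sb E63485 (iv1 D153295))
theorem F308434 : act 1 n101323 = n72421 := (sb E63485 F240851)
theorem F308435 : act 2 n101323 = n73298 := (sb E63485 F240854)
theorem F308436 : act 6 n101323 = n74881 := (sb E63485 F240855)
theorem F308437 : act 7 n101323 = n73024 := (sb E63485 F240852)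
theorem F308438 : act 4 n81818 = n47173 := (sb E63486 F156102)
theorem F308439 : act 6 n81818 = n47171 := (sb E63486 (iv6 D101324))
theorem F308440 : act 2 n33647 = n47176 := (sb E63487 F156103)
theorem F308441 : act 7 n33647 = n47171 := (sb E63487 (iv7 D101325))
theorem F308442 : act 2 n81809 = n47173 := (sb E63488 F156097)
theorem F308443 : act 0 n101334 = n57685 := (sb E63489 F198243)
theorem F308444 : act 2 n101334 = n73001 := (sb E63489 F198074)
theorem F308445 : act 4 n101334 = n58276 := (sb E63489 F198075)
theorem F308446 : act 6 n101334 = n57646 := (sb E63489 (iv6 D123660))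
theorem F308447 : act 7 n101226 = n47170 := (sb E63492 (iv7 D101319))
theorem F308448 : act 2 n101228 = n47177 := (sb E63493 F156108)
theorem F308449 : act 7 n101228 = n47172 := (sb E63493 (iv7 D101330))
theorem F308450 : act 2 n33645 = n47178 := (sb E63494 F156114)
theorem F308451 : act 2 n22694 = n47140 := (sb E63495 (iv2 D101220))
theorem F308452 : act 7 n22694 = n47141 := (sb E63495 (iv7 F155940))
theorem F308453 : act 2 n101365 = n157611 := (sb E63497 (iv2 F248360))
theorem F308454 : act 2 n101366 = n157612 := (sb E63498 (iv2 F248363))
theorem F308455 : act 0 n69982 = n33582 := (sb E63499 (iv1 F306379))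
theorem F308456 : act 1 n69982 = n33577 := (sb E63499 (iv0 F306383))
theorem F308457 : act 4 n69982 = n73151 := (sb E63500 (iv4 F305996))
theorem F308458 : act 2 n87794 = n58360 := (sb E63501 F199658)
theorem F308459 : act 7 n87794 = n58340 := (sb E63501 F199659)
theorem F308460 : act 2 n87795 = n58340 := (sb E63502 F199607)
theorem F308461 : act 7 n87795 = n58360 := (sb E63502 F199608)
theorem F308462 : act 0 n87797 = n58340 := (sb E63503 (iv1 D124783))
theorem F308463 : act 1 n87797 = n58360 := (sb E63503 F200453)
theorem F308464 : act 1 n72974 = n87402 := (sb E63504 (iv0 D183099))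
theorem F308465 : act 6 n44579 = n72814 := (sb E63507 (iv6 D153900))
theorem F308466 : act 6 n87747 = n73335 := (sb E63508 (iv6 D154661))
theorem F308467 : act 1 n124695 = n88063 := (sb E63510 (iv0 D184679))
theorem F308468 : act 7 n124695 = n184296 := (sb E63510 F286679)
theorem F308469 : act 0 n154136 = n88063 := (sb E63511 (iv1 D184680))
theorem F308470 : act 2 n154136 = n184296 := (sb E63511 (iv2 F286675))
theorem E66391 : n78277 = n32790 := ((D78277).symm.trans (sb E63512 (iv5 D70733)))
theorem E66393 : n45212 = n28651 := ((F297723).symm.trans (sb E63513 F190688))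
theorem F308471 : act 2 n57328 = n32716 := (sb E63513 F189931)
theorem E66394 : n128159 = n123185 := (((D123185).symm.trans (sb E63513 (iv4 F206289)))).symm
theorem F308472 : act 6 n57328 = n28629 := (sb E63513 (iv6 D60246))
theorem E66395 : n128077 = n78291 := ((((iv7 F121566)).symm.trans (sb E63513 (iv7 F206112)))).symm
theorem E66398 : n138540 = n18960 := ((((iv2 F296496)).symm.trans (sb E63514 (iv2 F221719)))).symm
theorem F308473 : act 3 n27898 = n30562 := (sb E63514 F100860)
theorem E66401 : n150971 = n65067 := (((D65067).symm.trans (sb E63901 (iv0 F248066)))).symm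
theorem E66402 : n65069 = n39798 := ((D65069).symm.trans (sb E63901 (tr F228290 E65697)))
theorem E66403 : n174855 = n138543 := (((D138543).symm.trans (sb E63517 (iv3 F273714)))).symm
theorem E66404 : n138544 = n46645 := ((D138544).symm.trans (sb E63517 (iv4 D99880)))
theorem E66405 : n138549 = n46646 := ((D138549).symm.trans (sb E63518 (iv4 D99885)))
theorem F308474 : act 0 n40131 = n74382 := (sb E63519 (iv1 F111607))
theorem F308475 : act 1 n40131 = n74381 := (sb E63519 F111606)
theorem F308476 : act 2 n40131 = n30558 := (sb E63519 F100856)
theorem F308477 : act 7 n40131 = n74379 := (sb E63519 (iv7 F111601))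
theorem E66407 : n178899 = n65057 := (((D65057).symm.trans (sb E63521 (iv4 F278777)))).symm
theorem E66408 : n181728 = n65059 := (((D65059).symm.trans (sb E63521 D181728))).symm
theorem E66409 : n123752 = n34115 := (((F245745).symm.trans (sb E63521 (iv7 F198238)))).symm
theorem E66410 : n65040 = n58362 := ((D65040).symm.trans (sb E63522 (iv1 F200460)))
theorem E66411 : n65041 = n58345 := ((D65041).symm.trans (sb E63522 (iv0 D124792)))
theorem E66412 : n150711 = n34107 := ((((iv7 F53521)).symm.trans (sb E63522 F237269))).symm
theorem E66413 : n125296 = n65066 := (((D65066).symm.trans (sb E63523 D125296))).symm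
theorem E66414 : n81737 = n65067 := (((D65067).symm.trans (sb E63523 (iv0 F131330)))).symm
theorem E66415 : n65061 = n40134 := (((iv2 F100857)).symm.trans (sb E63523 (iv2 F297808)))
theorem E66416 : n125297 = n65044 := ((((iv4 F100849)).symm.trans (sb E63523 D125297))).symm
theorem F308478 : act 5 n30559 = n27898 := (sb E63523 (iv5 D58671))
theorem E66417 : n34118 = n32905 := ((D34118).symm.trans (sb E63524 (iv6 D71062)))
theorem E66418 : n167545 = n54592 := ((D167545).symm.trans (sb E63527 F167494))
theorem E66419 : n167546 = n54594 := ((D167546).symm.trans (sb E63527 F167495))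
theorem F308479 : act 2 n80410 = n55286 := (sb E63527 F167492)
theorem F308480 : act 4 n80410 = n50025 := (sb E63527 (iv4 D108321))
theorem E66420 : n167548 = n55287 := ((D167548).symm.trans (sb E63527 F167493))
theorem E66421 : n128305 = n17927 := (((D17927).symm.trans (sb E63529 F248047))).symm
theorem E66422 : n117134 = n17932 := (((F29104).symm.trans (sb E63530 (iv0 F205042)))).symm
theorem F308481 : act 1 n33493 = n17122 := (sb E63531 (iv0 D35274))
theorem E66425 : n72558 = n36509 := ((D72558).symm.trans (sb E63531 F113985))
theorem E66426 : n72559 = n40493 := ((D72559).symm.trans (sb E63531 (iv5 F296529)))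
theorem E66427 : n72560 = n36773 := ((D72560).symm.trans (sb E63531 (iv6 F118867)))
theorem F308482 : act 0 n29110 = n17122 := (sb E63532 (iv1 D35275))
theorem E66428 : n61194 = n34597 := (((iv3 F95673)).symm.trans (sb E63532 F56000))
theorem E66429 : n61491 = n36664 := ((D61491).symm.trans (sb E63532 (iv5 F296521)))
theorem E66430 : n61492 = n36816 := ((D61492).symm.trans (sb E63532 (iv6 F296532)))
theorem F308483 : act 4 n35276 = n50023 := (sb E63534 F97546)
theorem E66433 : n55488 = n33140 := (((F78768).symm.trans (sb E63535 F191952))).symm
theorem E66434 : n167888 = n107891 := (((D107891).symm.trans (sb E63535 (iv6 F264520)))).symm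
theorem F308484 : act 4 n26791 = n50011 := (sb E63536 F108777)
theorem E66436 : n74903 = n16817 := ((((iv5 F296932)).symm.trans (sb E63536 (iv5 F112423)))).symm
theorem E66437 : n153197 = n55484 := (((D55484).symm.trans (sb E63536 D153197))).symm
theorem F308485 : act 6 n80575 = n50011 := (sb E63538 (iv6 D108299))
theorem E66438 : n154275 = n93438 := ((D154275).symm.trans (sb E63539 (iv5 F144132)))
theorem F308486 : act 6 n73088 = n41696 := (sb E63539 (iv6 D89245))
theorem E66439 : n153662 = n153299 := ((D153662).symm.trans (sb E63543 (iv1 F302981)))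
theorem E66440 : n153663 = n46011 := ((D153663).symm.trans (sb E63543 (iv0 D98342)))
theorem F308487 : act 1 n88123 = n106030 := (sb E63544 F237028)
theorem E66441 : n184830 = n154436 := (((iv2 F287287)).symm.trans (sb E63544 F242480))
theorem E66442 : n184831 = n70964 := ((D184831).symm.trans (sb E63544 F237027))
theorem E66443 : n184832 = n73287 := ((D184832).symm.trans (sb E63544 F237029))
theorem F308488 : act 5 n88123 = n70957 := (sb E63544 (iv5 D150537))
theorem E66444 : n184833 = n179994 := ((D184833).symm.trans (sb E63544 (iv6 F280371)))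
theorem E66445 : n184825 = n128412 := ((F287285).symm.trans (sb E63544 (iv7 F237030)))
theorem E66446 : n81459 = n73374 := ((D81459).symm.trans (sb E63546 (iv1 F231717)))
theorem E66447 : n81460 = n73373 := ((D81460).symm.trans (sb E63546 F231718))
theorem E66448 : n81447 = n73383 := (((iv6 F125281)).symm.trans (sb E63546 F231716))
theorem F308489 : act 7 n37199 = n69302 := (sb E63546 (iv7 D147921))
theorem F308490 : act 3 n74875 = n40100 := (sb E63548 (iv3 D86528))
theorem F308491 : act 4 n74875 = n58170 := (sb E63548 F132737)
theorem F308492 : act 7 n74875 = n45140 := (sb E63548 F299966)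
theorem F308493 : act 5 n33751 = n40100 := (sb E63550 (iv5 D86529))
theorem F308494 : act 7 n33751 = n45144 := (sb E63550 F299970)
theorem E66455 : n58568 = n14048 := ((D58568).symm.trans (sb E63551 F54008))
theorem F308495 : act 1 n86533 = n147882 := (sb E63552 (iv0 F241486))
theorem F308496 : act 3 n86533 = n152322 := (sb E63552 F241483)
theorem F308497 : act 2 n40902 = n48206 := (sb E63553 (iv2 D104175))
theorem F308498 : act 7 n40902 = n48207 := (sb E63553 (iv7 F159707))
theorem F308499 : act 0 n104179 = n72661 := (sb E63555 F240143)
theorem F308500 : act 1 n104179 = n154016 := (sb E63555 F242043)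
theorem F308501 : act 4 n104179 = n72157 := (sb E63555 (iv4 D152915))
theorem F308502 : act 7 n104179 = n75063 := (sb E63555 F240142)
theorem F308503 : act 2 n40903 = n48207 := (sb E63556 F159708)
theorem F308504 : act 7 n40903 = n48206 := (sb E63556 (iv7 D104180))
theorem E66457 : n72567 = n21572 := (((D21572).symm.trans (sb E63568 (iv0 F109072)))).symm
theorem F308505 : act 3 n10305 = n16178 := (sb E63568 (iv3 D33497))
theorem E66458 : n72570 = n21573 := (((D21573).symm.trans (sb E63568 D72570))).symm
theorem F308506 : act 1 n16819 = n16178 := (sb E63571 (iv0 D33495))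
theorem F308507 : act 4 n16819 = n24403 := (sb E63571 F52811)
theorem E66459 : n72565 = n34734 := (((D34734).symm.trans (sb E63571 D72565))).symm
theorem F308508 : act 7 n16819 = n24401 := (sb E63571 (iv7 F52812))
theorem E66460 : n72566 = n26756 := ((D72566).symm.trans (sb E63572 F297703))
theorem E66461 : n72568 = n21563 := ((D72568).symm.trans (sb E63572 (iv6 D45175)))
theorem F308509 : act 7 n33496 = n26791 := (sb E63572 F297705)
theorem F308510 : act 1 n33499 = n26791 := (sb E63573 F297588)
theorem E66462 : n37234 = n13853 := (((F23444).symm.trans (sb E63574 (iv0 D81541)))).symm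
theorem E66466 : n159112 = n72562 := (((D72562).symm.trans (sb E63575 (iv0 F299676)))).symm
theorem F308511 : act 3 n33176 = n36692 := (sb E63579 (iv3 D80477))
theorem E66476 : n167699 = n71773 := (((D71773).symm.trans (sb E63579 D167699))).symm
theorem E66477 : n133151 = n36667 := ((((iv3 F296519)).symm.trans (sb E63580 (iv3 F213893)))).symm
theorem F308512 : act 3 n45195 = n71774 := (sb E63582 F209810)
theorem E66479 : n133851 = n96729 := ((((iv7 F299604)).symm.trans (sb E63585 F241256))).symm
theorem F308513 : act 1 n95241 = n72724 := (sb E63586 F242947)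
theorem F308514 : act 3 n95241 = n54762 := (sb E63586 (iv3 D119002))
theorem F308515 : act 4 n151157 = n167688 := (sb E63587 F263977)
theorem F308516 : act 5 n151157 = n78325 := (sb E63587 (iv5 D162925))
theorem F308517 : act 5 n153567 = n86375 := (sb E63588 (iv5 D180842))
theorem F308518 : act 0 n153707 = n84354 := (sb E63589 (iv1 D176986))
theorem F308519 : act 1 n153707 = n84463 := (sb E63589 F276346)
theorem F308520 : act 2 n153707 = n84460 := (sb E63589 (iv2 F276348))
theorem E66480 : n84459 = n72754 := (((F241578).symm.trans (sb E63589 (iv7 F276349)))).symm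
theorem F308521 : act 0 n131073 = n148963 := (sb E63591 F297873)
theorem E66481 : n131461 = n121991 := (((iv4 F210726)).symm.trans (sb E63591 F297874))
theorem F308522 : act 7 n131073 = n86375 := (sb E63591 F297875)
theorem F308523 : act 4 n38987 = n61490 := (sb E63592 F209802)
theorem E66482 : n179491 = n40181 := (E63937).trans E66014
theorem F308524 : act 3 n61588 = n39564 := (sb E63597 (iv3 D85634))
theorem F308526 : act 5 n18735 = n33499 := (sb E63603 F109087)
theorem E66498 : n33484 = n21209 := ((((iv5 F296855)).symm.trans (sb E63604 (iv5 D72553)))).symm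
theorem E66499 : n61555 = n18983 := (((F30306).symm.trans (sb E63604 F185251))).symm
theorem E66501 : n170138 = n14113 := ((((iv4 D29720)).symm.trans (sb E63605 D170138))).symm
theorem F308527 : act 5 n29720 = n40054 := (sb E63605 F298556)
theorem F308528 : act 0 n29147 = n18718 := (sb E63606 F116749)
theorem F308529 : act 6 n29147 = n40054 := (sb E63606 (iv6 F297104))
theorem F308530 : act 3 n29157 = n40057 := (sb E63607 (iv3 F60944))
theorem E66506 : n29150 = n18979 := ((((iv5 F30304)).symm.trans (sb E63608 (iv5 D61564)))).symm
theorem E66507 : n131222 = n36769 := ((((iv6 F118812)).symm.trans (sb E63608 D131222))).symm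
theorem F308531 : act 5 n60102 = n40057 := (sb E63609 F298553)
theorem E66510 : n167892 = n76701 := ((((iv5 F115050)).symm.trans (sb E63610 D167892))).symm
theorem F308532 : act 6 n62716 = n40057 := (sb E63610 F123885)
theorem E66512 : n62862 = n45194 := ((D62862).symm.trans (sb E63611 (iv5 D96728)))
theorem F308533 : act 5 n60104 = n45195 := (sb E63612 (iv5 D96731))
theorem E66516 : n96721 = n39564 := ((F307630).symm.trans (sb E63614 (iv5 D85635)))
theorem F308534 : act 5 n73325 = n58151 := (sb E63615 (iv5 D124574))
theorem E66518 : n170067 = n133305 := (((F231278).symm.trans (sb E63616 (iv1 F299835)))).symm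
theorem E66519 : n170593 = n133310 := ((((iv0 F241176)).symm.trans (sb E63616 (iv0 F299832)))).symm
theorem E66520 : n170591 = n147336 := ((((iv2 F241106)).symm.trans (sb E63616 F299093))).symm
theorem F308535 : act 5 n69135 = n40206 := (sb E63616 (iv5 D86707))
theorem E66524 : n181594 = n146677 := ((((iv4 F229995)).symm.trans (sb E63619 F300000))).symm
theorem E66525 : n80584 = n62564 := (((F104940).symm.trans (sb E63619 F300001))).symm
theorem E66526 : n181595 = n146670 := ((((iv4 F229982)).symm.trans (sb E63620 F300004))).symm
theorem F308536 : act 5 n68744 = n58115 := (sb E63622 (iv5 D124516))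
theorem E66529 : n132872 = n8849 := (((F30130).symm.trans (sb E63623 F213448))).symm
theorem E66530 : n129889 = n38249 := ((((iv4 F59132)).symm.trans (sb E63623 (iv4 F208473)))).symm
theorem E66533 : n29659 = n18978 := (((F296857).symm.trans (sb E63626 F79159))).symm
theorem F308537 : act 1 n74881 = n45140 := (sb E63627 (iv0 D96660))
theorem F308538 : act 0 n74862 = n45140 := (sb E63628 (iv1 D96661))
theorem F308539 : act 0 n96662 = n157429 := (sb E63629 (iv1 F247960))
theorem F308540 : act 1 n96662 = n157418 := (sb E63629 (iv0 F247925))
theorem F308541 : act 2 n96662 = n157430 := (sb E63629 (iv2 F247964))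
theorem F308542 : act 6 n96662 = n69139 := (sb E63629 (iv6 D147518))
theorem F308543 : act 7 n96662 = n71241 := (sb E63629 F231304)
theorem F308544 : act 0 n96668 = n69302 := (sb E63630 (iv1 D147920))
theorem F308545 : act 3 n96668 = n157411 := (sb E63630 F247898)
theorem F308546 : act 1 n96669 = n69302 := (sb E63631 (iv0 F209852))
theorem F308547 : act 3 n96669 = n55233 := (sb E63631 (iv3 D120028))
theorem F308548 : act 6 n96669 = n85520 := (sb E63631 F189522)
theorem F308549 : act 7 n96670 = n73372 := (sb E63632 (iv7 D154718))
theorem F308550 : act 0 n96666 = n73382 := (sb E63633 (iv1 F231215))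
theorem F308551 : act 1 n96666 = n73381 := (sb E63633 F231216)
theorem F308552 : act 3 n96666 = n69139 := (sb E63633 F231212)
theorem E66537 : n69113 = n45141 := ((((iv5 D96666)).symm.trans (sb E63633 F231213))).symm
theorem F308553 : act 7 n96666 = n69112 := (sb E63633 (iv7 D147432))
theorem F308554 : act 0 n74876 = n81439 := (sb E63636 (iv1 F267253))
theorem E66539 : n157422 = n81438 := ((D157422).symm.trans (sb E63636 F267254))
theorem F308555 : act 2 n74876 = n81441 := (sb E63636 F267251)
theorem E66540 : n85563 = n34313 := ((((iv6 D74876)).symm.trans (sb E63636 F267252))).symm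
theorem F308556 : act 5 n147916 = n81441 := (sb E63637 F267258)
theorem F308557 : act 7 n147916 = n81440 := (sb E63637 (iv7 D169827))
theorem E66541 : n85561 = n29223 := ((D85561).symm.trans (sb E63638 F95985))
theorem E66542 : n85562 = n29239 := ((D85562).symm.trans (sb E63638 F95986))
theorem E66543 : n131061 = n77668 := (((F117108).symm.trans (sb E63638 D131061))).symm
theorem E66544 : n85564 = n29104 := ((D85564).symm.trans (sb E63638 (iv5 D61482)))
theorem E66545 : n61559 = n45118 := ((((iv7 F116726)).symm.trans (sb E63638 (iv7 F96103)))).symm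
theorem F308558 : act 7 n147919 = n81461 := (sb E63640 (iv7 D169877))
theorem F308559 : act 1 n14089 = n18718 := (sb E63642 F116754)
theorem E66549 : n85565 = n16612 := ((((iv4 F49995)).symm.trans (sb E63643 D85565))).symm
theorem F308560 : act 5 n13854 = n18718 := (sb E63643 (iv5 D39511))
theorem E66550 : n45122 = n14049 := (((F49985).symm.trans (sb E63643 (iv7 F116727)))).symm
theorem E66551 : n159076 = n133311 := (((iv2 F250436)).symm.trans (sb E63645 F241211))
theorem E66552 : n159117 = n131608 := ((D159117).symm.trans (sb E63645 F242899))
theorem F308561 : act 5 n76023 = n147882 := (sb E63645 F241212)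
theorem F308562 : act 6 n73366 = n79712 := (sb E63646 (iv6 D166029))
theorem F308563 : act 2 n100392 = n46867 := (sb E63649 (iv2 D100421))
theorem F308564 : act 7 n100392 = n46868 := (sb E63649 (iv7 F154482))
theorem F308565 : act 2 n104178 = n87787 := (sb E63650 F285975)
theorem F308566 : act 7 n104178 = n87792 := (sb E63650 F285976)
theorem F308567 : act 2 n104179 = n87788 := (sb E63651 F285977)
theorem E66553 : n183455 = n181992 := (((F283313).symm.trans (sb E63651 (iv5 F285978)))).symm
theorem F308568 : act 7 n104181 = n87785 := (sb E63652 (iv7 D184037))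
theorem F308569 : act 2 n104183 = n87792 := (sb E63653 F285992)
theorem F308570 : act 7 n104183 = n87787 := (sb E63653 (iv7 D184042))
theorem F308571 : act 1 n100430 = n56973 := (sb E63656 (iv0 D122647))
theorem F308572 : act 3 n100430 = n72416 := (sb E63656 F196510)
theorem F308573 : act 4 n100430 = n150083 := (sb E63656 (iv4 F236176))
theorem F308574 : act 7 n100430 = n75061 := (sb E63656 (iv7 F196511))
theorem F308575 : act 1 n153294 = n181422 := (sb E63657 (iv0 F286206))
theorem F308576 : act 5 n58317 = n87794 := (sb E63659 F284714)
theorem E66556 : n177820 = n123209 := ((((iv3 F197497)).symm.trans (sb E63660 F283413))).symm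
theorem F308577 : act 5 n58312 = n87795 := (sb E63660 F283415)
theorem F308578 : act 6 n58312 = n86938 := (sb E63660 (iv6 D182027))
theorem F308579 : act 1 n42760 = n57674 := (sb E63663 (iv0 D123725))
theorem E66557 : n179018 = n30532 := (E63664).trans E65995
theorem E66558 : n85408 = n64966 := ((((iv4 F100764)).symm.trans (sb E66557 (iv4 D179018)))).symm
theorem E66559 : n105934 = n65002 := (((D65002).symm.trans (sb E66557 (iv6 F278939)))).symm
theorem E66560 : n124793 = n74354 := ((((iv4 F111566)).symm.trans (sb E63665 (iv4 F237273)))).symm
theorem E66561 : n74380 = n60152 := ((D74380).symm.trans (sb E63665 (iv6 D128011)))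
theorem E66564 : n76566 = n34141 := ((((iv3 F53604)).symm.trans (sb E63667 F132813))).symm
theorem F308580 : act 5 n30557 = n40131 := (sb E63667 (iv5 D86574))
theorem F308581 : act 2 n175415 = n101144 := (sb E63669 (iv2 F274854))
theorem F308582 : act 5 n175415 = n99502 := (sb E63669 F274853)
theorem F308583 : act 6 n175415 = n99706 := (sb E63669 F274856)
theorem F308584 : act 4 n77611 = n101144 := (sb E63670 (iv4 F272012))
theorem E66570 : n161585 = n83534 := ((D161585).symm.trans (sb E63670 F272008))
theorem E66571 : n161586 = n101649 := ((D161586).symm.trans (sb E63670 F272013))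
theorem E66572 : n172556 = n100045 := ((((iv3 F153976)).symm.trans (sb E63672 F304432))).symm
theorem F308585 : act 3 n72649 = n46017 := (sb E63673 (iv3 D98359))
theorem F308586 : act 7 n72649 = n100047 := (sb E63673 F274657)
theorem E66573 : n80309 = n80275 := (((F303193).symm.trans (sb E63675 F263570))).symm
theorem F308587 : act 3 n36610 = n46016 := (sb E63676 (iv3 D98354))
theorem F308588 : act 3 n98356 = n80350 := (sb E63677 F263572)
theorem F308589 : act 3 n98357 = n80351 := (sb E63678 F263574)
theorem F308590 : act 4 n98357 = n80366 := (sb E63678 F263575)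
theorem E66574 : n98478 = n84719 := ((F151877).symm.trans (sb E63678 (iv5 F263576)))
theorem F308591 : act 0 n167465 = n158174 := (sb E63679 F274608)
theorem F308592 : act 2 n167465 = n158516 := (sb E63679 F274606)
theorem F308593 : act 5 n167465 = n83773 := (sb E63679 (iv5 D175434))
theorem F308594 : act 7 n167465 = n158517 := (sb E63679 (iv7 F274609))
theorem E66575 : n175664 = n129212 := (E63680).trans E63685
theorem F308596 : act 1 n129212 = n175837 := (sb E66575 (iv0 F275237))
theorem F308597 : act 2 n129212 = n158519 := (sb E66575 F275050)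
theorem F308598 : act 5 n129212 = n83866 := (sb E66575 (iv5 D175664))
theorem E66576 : n83863 = n80372 := (((D80372).symm.trans (sb E63681 (iv5 D175657)))).symm
theorem F308599 : act 0 n167469 = n83860 := (sb E63682 (iv1 F273883))
theorem F308600 : act 2 n167469 = n83577 := (sb E63682 F271836)
theorem F308601 : act 4 n167469 = n99446 := (sb E63682 F271837)
theorem F308602 : act 5 n167469 = n173557 := (sb E63682 (iv5 F271990))
theorem F308603 : act 6 n167469 = n82965 := (sb E63682 (iv6 D173371))
theorem F308604 : act 7 n167469 = n158522 := (sb E63682 (iv7 F272023))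
theorem F308605 : act 5 n38624 = n80366 := (sb E63683 (iv5 D167471))
theorem F308606 : act 0 n167472 = n158522 := (sb E63684 (iv1 F272027))
theorem F308607 : act 1 n167472 = n83577 := (sb E63684 F272021)
theorem F308608 : act 2 n167472 = n83860 := (sb E63684 (iv2 F273724))
theorem F308609 : act 4 n167472 = n100120 := (sb E63684 (iv4 F274980))
theorem F308610 : act 5 n167472 = n83028 := (sb E63684 (iv5 D173583))
theorem F308611 : act 6 n167472 = n158536 := (sb E63684 F272026)
theorem F308612 : act 6 n129212 = n80365 := (sb E63685 (iv6 D167468))
theorem F308613 : act 6 n129213 = n80372 := (sb E63690 F263644)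
theorem E66578 : n175172 = n60736 := ((((iv3 F95335)).symm.trans (sb E63695 F281277))).symm
theorem E66579 : n123961 = n28951 := ((((iv3 F46588)).symm.trans (sb E63696 F281375))).symm
theorem E66581 : n61356 = n37809 := ((F212973).symm.trans (sb E63697 (iv1 F117256)))
theorem E66582 : n61361 = n38467 := (((iv0 F212974)).symm.trans (sb E63697 (iv0 F298195)))
theorem E66583 : n62348 = n38658 := (((iv2 F97220)).symm.trans (sb E63697 (iv2 F298120)))
theorem E66584 : n62356 = n18893 := ((D62356).symm.trans (sb E63697 (iv4 D39959)))
theorem E66585 : n75340 = n14019 := ((((iv5 D29494)).symm.trans (sb E63697 (iv5 F298296)))).symm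
theorem E66586 : n62357 = n38673 := ((D62357).symm.trans (sb E63697 (iv6 F298298)))
theorem E66587 : n38214 = n28938 := (((F47303).symm.trans (sb E63697 (iv7 F298119)))).symm
theorem E66595 : n175878 = n28953 := (((F47305).symm.trans (sb E63700 (iv2 F275271)))).symm
theorem E66596 : n175926 = n62364 := (((D62364).symm.trans (sb E63700 (iv5 F275291)))).symm
theorem E66597 : n62365 = n38665 := ((D62365).symm.trans (sb E63700 (iv7 D83954)))
theorem E66600 : n130065 = n60197 := (((iv1 F212138)).symm.trans (sb E63702 F201077))
theorem E66601 : n60344 = n28967 := (((F95651).symm.trans (sb E63702 F201119))).symm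
theorem E66602 : n130220 = n83732 := (((iv3 F208742)).symm.trans (sb E63702 F201076))
theorem E66603 : n130261 = n58525 := (((iv4 F208807)).symm.trans (sb E63702 (iv4 D125150)))
theorem E66604 : n162777 = n130266 := (((D130266).symm.trans (sb E63702 (iv6 F257045)))).symm
theorem E66605 : n60339 = n28962 := ((((iv7 D61139)).symm.trans (sb E63702 F201117))).symm
theorem E66606 : n130194 = n38586 := (((iv3 F208703)).symm.trans (sb E63703 F128772))
theorem E66607 : n130202 = n58526 := ((D130202).symm.trans (sb E63703 (iv4 F303598)))
theorem E66609 : n130203 = n38583 := ((D130203).symm.trans (sb E63703 (iv6 D83711)))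
theorem E66610 : n74568 = n58330 := (((iv4 F208776)).symm.trans (sb E63704 (iv4 D124763)))
theorem F308614 : act 6 n61135 = n60306 := (sb E63704 F200404)
theorem E66611 : n74574 = n58316 := ((D74574).symm.trans (sb E63705 (iv1 F199852)))
theorem E66612 : n74575 = n58332 := ((D74575).symm.trans (sb E63705 (iv0 F199853)))
theorem E66613 : n71249 = n16551 := ((((iv5 D34196)).symm.trans (sb E63705 F108830))).symm
theorem F308615 : act 6 n34196 = n72327 := (sb E63705 F108831)
theorem E66614 : n33404 = n30627 := (((F53817).symm.trans (sb E63705 (iv7 D72364)))).symm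
theorem F308616 : act 6 n61072 = n33403 := (sb E63706 (iv6 D72361))
theorem E66618 : n165030 = n49823 := (((D49823).symm.trans (sb E63708 F260252))).symm
theorem F308617 : act 5 n60318 = n39799 := (sb E63709 (iv5 D86026))
theorem E66625 : n151507 = n72446 := (((iv3 F238369)).symm.trans (sb E63711 F240900))
theorem F308618 : act 6 n71682 = n72444 := (sb E63711 (iv6 D153330))
theorem E66626 : n134690 = n63663 := (((iv2 F216696)).symm.trans (sb E63712 (iv2 D135436)))
theorem E66627 : n134685 = n63664 := ((F216694).symm.trans (sb E63712 (iv7 F217753)))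
theorem F308619 : act 5 n73629 = n63663 := (sb E63713 (iv5 D135439))
theorem F308620 : act 0 n135444 = n124990 := (sb E63715 F280219)
theorem F308621 : act 1 n135444 = n124979 := (sb E63715 F280218)
theorem F308622 : act 2 n135444 = n124987 := (sb E63715 F280215)
theorem F308623 : act 4 n135444 = n85976 := (sb E63715 (iv4 D179930))
theorem F308624 : act 6 n135444 = n119855 := (sb E63715 F280222)
theorem F308625 : act 7 n135444 = n124988 := (sb E63715 F280216)
theorem E66628 : n175587 = n34862 := (((F108358).symm.trans (sb E63716 D175587))).symm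
theorem E66630 : n173560 = n52981 := (((F108354).symm.trans (sb E63716 (iv2 F274605)))).symm
theorem F308626 : act 3 n173375 = n83884 := (sb E63717 (iv3 D175715))
theorem E66634 : n175418 = n83527 := ((D175418).symm.trans (sb E63718 (iv1 D174858)))
theorem F308627 : act 1 n83762 = n83532 := (sb E63718 F273719)
theorem E66635 : n175421 = n173578 := ((D175421).symm.trans (sb E63718 F274554))
theorem E66636 : n175618 = n77624 := (((iv3 F274937)).symm.trans (sb E63719 F255591))
theorem E66637 : n118466 = n83003 := ((((iv3 F127932)).symm.trans (sb E63720 F186297))).symm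
theorem E66640 : n161983 = n141788 := ((((iv3 F224807)).symm.trans (sb E63723 (iv3 F255977)))).symm
theorem E66641 : n161994 = n141713 := ((((iv4 F224761)).symm.trans (sb E63723 (iv4 F255989)))).symm
theorem E66643 : n158177 = n133159 := (((iv1 F249117)).symm.trans (sb E63724 (iv1 F213917)))
theorem F308628 : act 1 n75627 = n61220 := (sb E63724 (iv0 D130489))
theorem F308629 : act 0 n75330 = n61220 := (sb E63725 (iv1 D130490))
theorem E66644 : n158179 = n133158 := (((iv1 F249131)).symm.trans (sb E63726 (iv1 F213918)))
theorem E66645 : n133157 = n34587 := ((((iv0 D75624)).symm.trans (sb E63726 F213914))).symm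
theorem F308630 : act 2 n75624 = n61220 := (sb E63726 (iv2 D130491))
theorem E66646 : n158538 = n133159 := ((D158538).symm.trans (sb E63726 (iv3 F213915)))
theorem E66648 : n158544 = n133160 := (((D133160).symm.trans (sb E63727 D158544))).symm
theorem F308631 : act 5 n62474 = n47274 := (sb E63727 (iv5 F113465))
theorem F308632 : act 6 n116235 = n77492 := (sb E63730 (iv6 D161422))
theorem F308633 : act 1 n7946 = n16399 := (sb E63737 (iv0 F51188))
theorem E66650 : n66979 = n3597 := ((((iv4 D7946)).symm.trans (sb E63737 (iv4 F104981)))).symm
theorem E66651 : n16341 = n15088 := (((iv6 F25853)).symm.trans (sb E63737 (iv6 D31991)))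
theorem F308634 : act 2 n15433 = n16399 := (sb E63738 F53137)
theorem E66652 : n55178 = n7284 := ((((iv4 D15433)).symm.trans (sb E63738 (iv4 F87298)))).symm
theorem E66653 : n32607 = n12737 := ((D32607).symm.trans (sb E63738 (iv6 D26663)))
theorem E66654 : n68707 = n25705 := (((iv1 F232427)).symm.trans (sb E63739 F55685))
theorem E66655 : n73806 = n48747 := ((D73806).symm.trans (sb E63739 (iv0 F76767)))
theorem F308635 : act 2 n33900 = n48753 := (sb E63739 F76777)
theorem E66656 : n73804 = n34959 := (((iv4 F110609)).symm.trans (sb E63739 F55682))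
theorem F308636 : act 5 n33900 = n32660 := (sb E63739 F55683)
theorem E66657 : n76715 = n16387 := ((((iv6 D33900)).symm.trans (sb E63739 D76715))).symm
theorem E66658 : n66661 = n5933 := ((((iv1 D12484)).symm.trans (sb E63740 F102578))).symm
theorem E66660 : n73867 = n26276 := (((D26276).symm.trans (sb E63740 (iv3 F110684)))).symm
theorem F308637 : act 4 n12484 = n16399 := (sb E63740 F53277)
theorem E66661 : n73870 = n6602 := (((F20791).symm.trans (sb E63740 D73870))).symm
theorem E66662 : n26277 = n16398 := ((D26277).symm.trans (sb E63740 (iv6 D33923)))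
theorem E66663 : n73871 = n7283 := (((F20790).symm.trans (sb E63740 D73871))).symm
theorem E66664 : n76703 = n16396 := (((D16396).symm.trans (sb E63741 (iv1 F208297)))).symm
theorem E66665 : n76706 = n16397 := (((D16397).symm.trans (sb E63741 (iv0 F208293)))).symm
theorem E66668 : n32597 = n31526 := ((D32597).symm.trans (sb E63742 F53280))
theorem F308638 : act 7 n15430 = n16399 := (sb E63742 (iv7 D33926))
theorem F308639 : act 5 n82999 = n55073 := (sb E63743 (iv5 D119705))
theorem F308640 : act 3 n82747 = n68523 := (sb E63745 F229387)
theorem F308641 : act 5 n82747 = n131247 := (sb E63745 (iv5 F243088))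
theorem E66669 : n172802 = n68521 := (((iv6 F271063)).symm.trans (sb E63745 (iv6 D146130)))
theorem E66670 : n167175 = n29254 := ((((iv1 D61700)).symm.trans (sb E63746 D167175))).symm
theorem E66672 : n167176 = n131384 := ((((iv5 F210595)).symm.trans (sb E63746 D167176))).symm
theorem F308642 : act 6 n61700 = n36564 := (sb E63746 (iv6 D80257))
theorem E66677 : n152377 = n147075 := ((((iv2 F243154)).symm.trans (sb E63748 (iv2 F298861)))).symm
theorem E66678 : n147180 = n38035 := ((D147180).symm.trans (sb E63748 F127501))
theorem E66679 : n147182 = n38028 := ((D147182).symm.trans (sb E63748 (iv5 D82733)))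
theorem F308643 : act 6 n69001 = n38031 := (sb E63748 F127502)
theorem E66680 : n172803 = n147076 := ((((iv7 F243146)).symm.trans (sb E63748 D172803))).symm
theorem E66681 : n154546 = n44719 := (((iv4 F242601)).symm.trans (sb E63749 F147441))
theorem F308644 : act 6 n73289 = n44718 := (sb E63749 (iv6 D95745))
theorem E66682 : n177361 = n85520 := (((F166664).symm.trans (sb E63750 (iv5 F276749)))).symm
theorem F308645 : act 0 n78446 = n73362 := (sb E63751 F243059)
theorem E66683 : n163218 = n85322 := ((D163218).symm.trans (sb E63751 F189422))
theorem F308646 : act 1 n16602 = n26866 := (sb E63752 (iv0 F43308))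
theorem E66684 : n35985 = n34293 := ((((iv3 F54413)).symm.trans (sb E63752 D35985))).symm
theorem E66685 : n34183 = n12471 := (((iv4 F53750)).symm.trans (sb E63752 F28396))
theorem F308647 : act 5 n17419 = n15216 := (sb E63753 F51189)
theorem F308648 : act 6 n17419 = n34307 := (sb E63753 (iv6 F54439))
theorem E66688 : n116523 = n6076 := ((((iv4 D12854)).symm.trans (sb E63755 F181849))).symm
theorem E66689 : n26627 = n26147 := (((iv6 F42659)).symm.trans (sb E63755 (iv6 D54053)))
theorem E66690 : n119739 = n117284 := (((iv5 F188893)).symm.trans (sb E63756 (iv5 F183542)))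
theorem E66691 : n103162 = n32102 := ((((iv1 F242989)).symm.trans (sb E63757 F158429))).symm
theorem E66692 : n119735 = n32072 := ((((iv0 F242990)).symm.trans (sb E63757 D119735))).symm
theorem E66693 : n119704 = n117280 := (((D117280).symm.trans (sb E63757 (iv4 F188845)))).symm
theorem E66694 : n119737 = n117281 := (((D117281).symm.trans (sb E63757 D119737))).symm
theorem F308649 : act 6 n54050 = n26865 := (sb E63757 F87134)
theorem F308650 : act 0 n74879 = n81525 := (sb E63758 (iv1 D169960))
theorem F308651 : act 5 n71095 = n71521 := (sb E63759 (iv5 D151748))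
theorem F308652 : act 0 n151749 = n127965 := (sb E63760 F264308)
theorem F308653 : act 1 n151749 = n108293 := (sb E63760 (tr F264309 E66322))
theorem E66697 : n159936 = n138394 := (E65285).trans E66055
theorem F308654 : act 3 n151749 = n80543 := (sb E63760 (iv3 D167826))
theorem F308655 : act 5 n151749 = n149289 := (sb E63760 F264304)
theorem F308656 : act 7 n151749 = n149903 := (sb E63760 (tr F264306 E64981))
theorem E66698 : n127942 = n81545 := ((D127942).symm.trans (sb E63761 F148604))
theorem F308657 : act 4 n60107 = n97944 := (sb E63761 (iv4 F150963))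
theorem E66699 : n179550 = n45052 := ((F307185).symm.trans (sb E63761 (iv6 D96495)))
theorem F308658 : act 5 n159408 = n85419 := (sb E63762 (iv5 D179045))
theorem F308659 : act 5 n70966 = n85424 := (sb E63763 (iv5 D179047))
theorem E66701 : n117165 = n26280 := (((F85706).symm.trans (sb E63765 F183292))).symm
theorem E66702 : n99598 = n49831 := ((D99598).symm.trans (sb E63766 F162496))
theorem F308660 : act 6 n24302 = n38889 := (sb E63767 (iv6 D84343))
theorem E66708 : n146604 = n52951 := ((((iv3 F83680)).symm.trans (sb E63769 F243143))).symm
theorem E66710 : n146589 = n12209 := ((((iv5 D25706)).symm.trans (sb E63769 (iv5 F243139)))).symm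
theorem E66712 : n69141 = n45117 := (((D45117).symm.trans (sb E63770 F210191))).symm
theorem E66713 : n131349 = n54865 := (((D54865).symm.trans (sb E63771 F231336))).symm
theorem F308661 : act 3 n26507 = n15185 := (sb E63772 F51131)
theorem E66715 : n69144 = n12656 := ((((iv4 D26507)).symm.trans (sb E63772 (iv4 F105441)))).symm
theorem E66716 : n54798 = n15182 := ((D54798).symm.trans (sb E63772 (iv6 D32164)))
theorem F308662 : act 6 n61657 = n45116 := (sb E63773 (iv6 D96632))
theorem E66717 : n173899 = n54563 := ((((iv3 F86239)).symm.trans (sb E63776 F272549))).symm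
theorem F308663 : act 6 n32161 = n45139 := (sb E63779 (iv6 D96659))
theorem E66720 : n164607 = n61536 := ((D164607).symm.trans (sb E63780 F184179))
theorem F308664 : act 6 n29132 = n35988 := (sb E63781 (iv6 D79085))
theorem E66727 : n160183 = n146910 := ((D160183).symm.trans (sb E63783 F232016))
theorem E66728 : n160184 = n133686 := ((D160184).symm.trans (sb E63783 F232017))
theorem F308665 : act 2 n76735 = n155514 := (sb E63783 (iv2 F244529))
theorem E66729 : n155045 = n146691 := (((iv5 F243817)).symm.trans (sb E63783 F232015))
theorem E66730 : n155513 = n155242 := ((((iv7 F244145)).symm.trans (sb E63783 F244584))).symm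
theorem E66733 : n154960 = n117452 := (((D117452).symm.trans (sb E63784 (iv4 F243666)))).symm
theorem F308666 : act 6 n54124 = n35070 := (sb E63784 F110246)
theorem F308667 : act 2 n74879 = n58170 := (sb E63785 (iv2 D124593))
theorem F308668 : act 0 n124594 = n68978 := (sb E63786 (iv1 D147117))
theorem F308669 : act 1 n124594 = n120586 := (sb E63786 F230660)
theorem F308670 : act 2 n124594 = n146746 := (sb E63786 F230662)
theorem F308671 : act 4 n124594 = n144841 := (sb E63786 F230665)
theorem E66736 : n124594 = n45193 := (((D45193).symm.trans (iv6 (sb E63786 (tr (iv6 F242617) E65165))))).symm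
theorem E66737 : n147117 = n45193 := (E63786).trans E66736
theorem E66738 : n146678 = n96726 := (((D96726).symm.trans (sb E66737 (iv7 F230664)))).symm
theorem E66740 : n61178 = n34581 := ((D61178).symm.trans (sb E63787 (iv3 D75601)))
theorem E66741 : n151747 = n61179 := (((D61179).symm.trans (sb E63787 (iv4 F238648)))).symm
theorem E66744 : n166312 = n133860 := (((D133860).symm.trans (sb E63788 (iv1 F304882)))).symm
theorem E66745 : n107828 = n36849 := (((iv0 F217513)).symm.trans (sb E63788 (iv0 D80711)))
theorem E66746 : n168153 = n133862 := (((D133862).symm.trans (sb E63788 D168153))).symm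
theorem E66747 : n107796 = n60347 := ((F211923).symm.trans (sb E63788 (iv5 F304908)))
theorem E66748 : n149368 = n133863 := (((D133863).symm.trans (sb E63788 (iv6 F304909)))).symm
theorem E66749 : n133868 = n34578 := ((D133868).symm.trans (sb E63789 (iv1 D75592)))
theorem E66750 : n132828 = n34584 := (((iv0 F213335)).symm.trans (sb E63789 F113446))
theorem E66751 : n133869 = n34582 := ((D133869).symm.trans (sb E63789 F233750))
theorem E66752 : n133870 = n127841 := ((D133870).symm.trans (sb E63789 F205680))
theorem E66754 : n76565 = n65003 := ((((iv3 F100799)).symm.trans (sb E63790 (iv3 F233100)))).symm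
theorem E66755 : n65105 = n60348 := (((iv5 F211925)).symm.trans (sb E63790 (iv5 F304910)))
theorem E66756 : n133872 = n35693 := (E63794).trans E64881
theorem F308672 : act 1 n133107 = n62886 := (sb E63791 (iv0 D133873))
theorem F308673 : act 0 n60069 = n62886 := (sb E63792 (iv1 D133874))
theorem F308674 : act 0 n133871 = n155075 := (sb E63793 (iv1 F243885))
theorem F308675 : act 1 n133871 = n71695 := (sb E63793 (iv0 D152078))
theorem F308676 : act 2 n133871 = n75609 := (sb E63793 (iv2 F239090))
theorem F308677 : act 4 n133871 = n149909 := (sb E63793 F239089)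
theorem F308678 : act 7 n133871 = n150265 := (sb E63793 (iv7 F300985))
theorem E66757 : n138391 = n70352 := (((E64973).symm.trans (((iv3 F119501)).symm.trans (sb E66756 (iv3 F221615))))).symm
theorem E66758 : n78299 = n62886 := ((D78299).symm.trans (sb E66756 F215612))
theorem E66759 : n78300 = n62884 := ((D78300).symm.trans (sb E66756 (iv6 D133872)))
theorem E66760 : n150267 = n130368 := ((D150267).symm.trans (sb E63795 F215616))
theorem F308679 : act 7 n70737 = n62886 := (sb E63795 (iv7 D133876))
theorem F308680 : act 6 n114446 = n69151 := (sb E63798 (iv6 D147554))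
theorem E66761 : n69142 = n54790 := (((D54790).symm.trans (sb E63799 (iv6 D147528)))).symm
theorem F308681 : act 6 n32165 = n54789 := (sb E63800 (iv6 D119059))
theorem F308682 : act 3 n35919 = n69155 := (sb E63801 (iv3 D147565))
theorem F308683 : act 5 n78065 = n69155 := (sb E63802 (iv5 D147567))
theorem F308684 : act 2 n147568 = n160724 := (sb E63803 F258872)
theorem F308685 : act 3 n147568 = n78901 := (sb E63803 F258873)
theorem F308686 : act 3 n36651 = n69156 := (sb E63804 (iv3 D147569))
theorem F308687 : act 2 n147571 = n152434 := (sb E63805 F263816)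
theorem F308688 : act 3 n147571 = n80422 := (sb E63805 F263817)
theorem F308689 : act 2 n147561 = n82890 := (sb E63806 F271496)
theorem F308690 : act 3 n147561 = n83171 := (sb E63806 F271497)
theorem F308691 : act 5 n147561 = n82886 := (sb E63806 (iv5 D173206))
theorem F308692 : act 6 n147561 = n152626 := (sb E63806 F271498)
theorem F308693 : act 3 n147562 = n82904 := (sb E63807 F271524)
theorem F308694 : act 5 n147562 = n82891 := (sb E63807 F271525)
theorem F308695 : act 7 n147562 = n82890 := (sb E63807 (iv7 D173220))
theorem F308696 : act 0 n110625 = n82890 := (sb E63808 (iv1 D173218))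
theorem E66762 : n84923 = n51013 := (((F171220).symm.trans (sb E63808 F278090))).symm
theorem E66767 : n70279 = n67877 := (((iv1 F131647)).symm.trans (sb E63811 F104986))
theorem E66768 : n117291 = n70283 := ((((iv0 F130252)).symm.trans (sb E63811 (iv0 F183556)))).symm
theorem E66769 : n119837 = n69649 := (((iv5 F189131)).symm.trans (sb E63811 (iv5 F105969)))
theorem E66770 : n119740 = n31996 := (((iv7 F188896)).symm.trans (sb E63811 (iv7 D68786)))
theorem F308697 : act 0 n103727 = n146709 := (sb E63812 (iv1 F243006))
theorem F308698 : act 2 n103727 = n146719 := (sb E63812 (iv2 F243026))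
theorem E66771 : n120577 = n48034 := ((((iv3 D103727)).symm.trans (sb E63812 F227730))).symm
theorem F308699 : act 5 n103727 = n124886 := (sb E63812 F227731)
theorem F308700 : act 6 n103727 = n67870 := (sb E63812 (iv6 D144824))
theorem F308701 : act 7 n103727 = n146718 := (sb E63812 (iv7 F243025))
theorem F308702 : act 0 n121493 = n60948 := (sb E63813 F207438)
theorem F308703 : act 1 n121493 = n60950 := (sb E63813 F207439)
theorem F308704 : act 5 n121493 = n60744 := (sb E63813 (iv5 D129219))
theorem F308706 : act 6 n35504 = n66480 := (sb E63814 (iv6 D141789))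
theorem F308707 : act 0 n63263 = n118492 := (sb E63815 (iv1 F186396))
theorem F308708 : act 1 n63263 = n118491 := (sb E63815 F186403)
theorem E66772 : n152471 = n134628 := ((((iv4 F216588)).symm.trans (sb E63815 (iv4 F239659)))).symm
theorem F308709 : act 7 n63263 = n37890 := (sb E63815 (iv7 D82529))
theorem F308710 : act 1 n63279 = n37890 := (sb E63816 (iv0 D82526))
theorem F308711 : act 0 n63278 = n37890 := (sb E63817 (iv1 D82527))
theorem E66783 : n77703 = n55007 := (E63818).trans E65663
theorem E66786 : n119561 = n35470 := ((D119561).symm.trans (sb E66783 (iv2 D77703)))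
theorem F308712 : act 4 n55007 = n68068 := (sb E66783 (iv4 F305991))
theorem E66787 : n161773 = n119562 := (((D119562).symm.trans (sb E66783 D161773))).symm
theorem F308713 : act 2 n77468 = n35471 := (sb E63819 F116586)
theorem E66788 : n161781 = n161375 := (((D161375).symm.trans (sb E63819 (iv3 F255780)))).symm
theorem E66789 : n161792 = n161377 := (((D161377).symm.trans (sb E63819 (iv5 F255789)))).symm
theorem E66790 : n161378 = n128053 := ((D161378).symm.trans (sb E63819 (iv6 F306124)))
theorem F308714 : act 7 n77468 = n35470 := (sb E63819 (iv7 D77708))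
theorem E66791 : n164278 = n130148 := (((iv4 F258917)).symm.trans (sb E63820 F216536))
theorem E66792 : n164275 = n130211 := ((D164275).symm.trans (sb E63821 (iv1 F216484)))
theorem E66793 : n164276 = n83732 := ((D164276).symm.trans (sb E63821 (tr F216487 E66602)))
theorem E66794 : n123596 = n61454 := (((iv3 F198012)).symm.trans (sb E63821 F209689))
theorem E66795 : n164277 = n61452 := ((D164277).symm.trans (sb E63821 (iv5 D130990)))
theorem E66796 : n114162 = n81564 := (((D81564).symm.trans (sb E63823 (iv5 F290261)))).symm
theorem E66797 : n81565 = n62562 := ((D81565).symm.trans (sb E63823 (iv6 D133306)))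
theorem E66798 : n133622 = n84479 := ((((iv1 F297917)).symm.trans (sb E63824 F214987))).symm
theorem E66799 : n119357 = n98055 := ((((iv3 F151194)).symm.trans (sb E63824 F190888))).symm
theorem E66800 : n154042 = n98062 := (((D98062).symm.trans (sb E63824 (iv4 F242066)))).symm
theorem F308717 : act 6 n45781 = n33611 := (sb E63824 (iv6 D72908))
theorem E66801 : n154043 = n80555 := ((((iv7 F123843)).symm.trans (sb E63824 D154043))).symm
theorem E66802 : n147306 = n81764 := ((((iv1 F125682)).symm.trans (sb E63825 (iv1 F230955)))).symm
theorem E66803 : n81763 = n35060 := ((F125681).symm.trans (sb E63825 (iv0 D76699)))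
theorem E66804 : n147304 = n81567 := ((((iv2 F125467)).symm.trans (sb E63825 (iv2 F241201)))).symm
theorem E66805 : n114079 = n81788 := ((((iv3 F125717)).symm.trans (sb E63825 F290254))).symm
theorem E66806 : n81790 = n35934 := ((D81790).symm.trans (sb E63825 (iv4 F290255)))
theorem E66807 : n160136 = n81791 := (((D81791).symm.trans (sb E63825 D160136))).symm
theorem E66808 : n160073 = n81761 := ((((iv3 F125678)).symm.trans (sb E63826 F252620))).symm
theorem E66809 : n106313 = n81765 := (((D81765).symm.trans (sb E63826 (iv4 F237529)))).symm
theorem E66810 : n147005 = n81766 := (((D81766).symm.trans (sb E63826 (iv6 F241193)))).symm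
theorem F308718 : act 1 n37377 = n33494 := (sb E63827 (iv0 D72561))
theorem E66811 : n153483 = n81762 := ((((iv3 F125679)).symm.trans (sb E63827 D153483))).symm
theorem E66813 : n153485 = n81768 := (((D81768).symm.trans (sb E63827 D153485))).symm
theorem E66814 : n81769 = n62563 := ((D81769).symm.trans (sb E63827 F241170))
theorem E66815 : n114222 = n81746 := (((F125724).symm.trans (sb E63828 (iv4 F290489)))).symm
theorem E66816 : n170640 = n114220 := ((D170640).symm.trans (sb E63828 (iv6 F290349)))
theorem E66817 : n81745 = n78942 := ((F125698).symm.trans (sb E63829 F290286))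
theorem E66818 : n170602 = n153923 := ((D170602).symm.trans (sb E63829 F241926))
theorem E66835 : n100728 = n83805 := (((D83805).symm.trans (sb E63836 (iv3 F303652)))).symm
theorem E66836 : n154414 = n82555 := ((((iv4 F272771)).symm.trans (sb E63836 D154414))).symm
theorem E66839 : n83024 = n75538 := ((D83024).symm.trans (sb E63838 F249537))
theorem E66840 : n83000 = n33185 := ((D83000).symm.trans (sb E63839 (iv1 D71791)))
theorem E66841 : n83001 = n33937 := ((D83001).symm.trans (sb E63839 F130781))
theorem F308719 : act 3 n47344 = n33688 := (sb E63840 F109632)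
theorem E66847 : n154429 = n101887 := ((((iv6 F156831)).symm.trans (sb E63840 D154429))).symm
theorem F308720 : act 0 n88115 = n105823 := (sb E63841 (iv1 F230631))
theorem E66848 : n184803 = n147393 := ((D184803).symm.trans (sb E63841 F231572))
theorem E66849 : n184804 = n69117 := ((D184804).symm.trans (sb E63841 F230627))
theorem E66850 : n184805 = n68973 := ((D184805).symm.trans (sb E63841 (iv6 D147107)))
theorem E66851 : n88118 = n34159 := (E63842).trans E63893
theorem F308721 : act 0 n34159 = n184811 := (sb E66851 D184811)
theorem E66854 : n74482 = n41142 := (((iv3 F111802)).symm.trans (sb E66851 (iv3 D88118)))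
theorem E66856 : n184815 = n74489 := (((D74489).symm.trans (sb E66851 D184815))).symm
theorem F308722 : act 1 n88120 = n105823 := (sb E63843 F231573)
theorem E66858 : n76142 = n74489 := (((E66856).symm.trans (((iv3 F287272)).symm.trans (sb E63843 F231570)))).symm
theorem E66859 : n184819 = n69253 := ((D184819).symm.trans (sb E63843 (iv4 D147807)))
theorem E66860 : n184820 = n145761 := ((D184820).symm.trans (sb E63843 F231567))
theorem F308723 : act 6 n58607 = n41142 := (sb E63844 (iv6 D88121))
theorem F308724 : act 1 n54390 = n41140 := (sb E63845 (iv0 D88108))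
theorem E66864 : n184769 = n71878 := ((((iv2 F108361)).symm.trans (sb E63845 D184769))).symm
theorem E66869 : n184774 = n73934 := (((F184628).symm.trans (sb E63845 D184774))).symm
theorem F308725 : act 1 n88109 = n105949 := (sb E63846 (iv0 F189177))
theorem E66870 : n184775 = n119499 := ((D184775).symm.trans (sb E63846 F189174))
theorem E66871 : n184776 = n55158 := ((D184776).symm.trans (sb E63846 (iv4 D119848)))
theorem E66872 : n184778 = n85254 := ((D184778).symm.trans (sb E63846 F189175))
theorem E66873 : n184782 = n154434 := (((D154434).symm.trans (sb E63847 (iv5 F287248)))).symm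
theorem F308726 : act 7 n73153 = n41140 := (sb E63847 (iv7 D88111))
theorem F308727 : act 0 n88122 = n106030 := (sb E63848 F242699)
theorem E66874 : n184826 = n128313 := ((D184826).symm.trans (sb E63848 (iv3 F242701)))
theorem E66875 : n184827 = n73288 := ((D184827).symm.trans (sb E63848 (iv4 D154607)))
theorem E66876 : n184829 = n127483 := ((D184829).symm.trans (sb E63848 F242697))
theorem E66877 : n124542 = n68327 := ((D124542).symm.trans (sb E63849 (iv0 D145735)))
theorem E66878 : n184838 = n147771 := ((((iv4 F231509)).symm.trans (sb E63850 (iv4 F287288)))).symm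
theorem F308728 : act 7 n73154 = n41143 := (sb E63850 (iv7 D88125))
theorem E66892 : n184853 = n119281 := (((D119281).symm.trans (sb E63854 D184853))).symm
theorem E66893 : n170726 = n119282 := (((D119282).symm.trans (sb E63854 (iv0 F285107)))).symm
theorem E66904 : n184897 = n153829 := (((D153829).symm.trans (sb E63857 D184897))).symm
theorem E66905 : n184898 = n153830 := (((D153830).symm.trans (sb E63857 D184898))).symm
theorem E66913 : n101895 = n100730 := ((((iv3 F302304)).symm.trans (sb E63859 (iv3 F287325)))).symm
theorem E66930 : n154531 = n102385 := ((D154531).symm.trans (sb E63864 (iv0 F157196)))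
theorem E66931 : n184945 = n154411 := ((((iv7 F242465)).symm.trans (sb E63864 D184945))).symm
theorem E66932 : n184978 = n154445 := ((D184978).symm.trans (sb E63865 F242649))
theorem F308729 : act 4 n88180 = n73272 := (sb E63865 (iv4 D154583))
theorem E66933 : n184982 = n154444 := ((D184982).symm.trans (sb E63865 F242650))
theorem E66934 : n184984 = n73271 := ((D184984).symm.trans (sb E63866 (iv4 D154580)))
theorem E66935 : n184991 = n154446 := (((D154446).symm.trans (sb E63867 (iv3 F287392)))).symm
theorem E66936 : n184996 = n147775 := ((((iv5 F231515)).symm.trans (sb E63867 (iv5 F287394)))).symm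
theorem E66937 : n184997 = n154447 := (((D154447).symm.trans (sb E63867 D184997))).symm
theorem F308730 : act 7 n73159 = n41157 := (sb E63867 (iv7 D88184))
theorem E66938 : n183889 = n154448 := (((D154448).symm.trans (sb E63868 (iv1 F285714)))).symm
theorem E66939 : n183888 = n154449 := (((D154449).symm.trans (sb E63868 F285713))).symm
theorem F308731 : act 5 n73160 = n101366 := (sb E63868 (iv5 F156129))
theorem E66940 : n154451 = n41199 := ((D154451).symm.trans (sb E63868 F135131))
theorem E66943 : n101293 = n40150 := ((D101293).symm.trans (sb E63869 (iv2 D86610)))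
theorem E66944 : n181409 = n101294 := (((D101294).symm.trans (sb E63869 D181409))).symm
theorem E66945 : n181411 = n101296 := (((D101296).symm.trans (sb E63869 D181411))).symm
theorem E66946 : n181412 = n101297 := (((D101297).symm.trans (sb E63869 D181412))).symm
theorem E66947 : n101298 = n40151 := ((D101298).symm.trans (sb E63869 (iv7 F132856)))
theorem E66951 : n75122 = n40150 := ((D75122).symm.trans (sb E63870 (iv3 D86611)))
theorem F308732 : act 0 n86613 = n150420 := (sb E63871 (iv1 F236801))
theorem E66956 : n181426 = n150422 := ((D181426).symm.trans (sb E63871 F236810))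
theorem E66957 : n149898 = n101296 := (((E66945).symm.trans (((iv2 F282528)).symm.trans (sb E63871 F305650)))).symm
theorem E66958 : n181427 = n154696 := ((D181427).symm.trans (sb E63871 F242865))
theorem E66959 : n181428 = n130844 := ((D181428).symm.trans (sb E63871 F236613))
theorem E66960 : n181429 = n70803 := ((D181429).symm.trans (sb E63871 (iv7 D150335)))
theorem F308733 : act 5 n86614 = n120097 := (sb E63872 F279882)
theorem E66961 : n181433 = n118122 := ((D181433).symm.trans (sb E63872 F279884))
theorem F308734 : act 3 n86581 = n40151 := (sb E63874 (iv3 D86616))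
theorem E66969 : n101294 = n55115 := (((E64288).symm.trans (((iv7 F235774)).symm.trans (sb E63874 (tr (iv7 F282525) E66944))))).symm
theorem F308735 : act 6 n60248 = n40151 := (sb E63875 (iv6 D86619))
theorem F308736 : act 4 n70455 = n73815 := (sb E63876 (iv4 D155349))
theorem F308737 : act 4 n151725 = n84894 := (sb E65388 F278011)
theorem F308738 : act 0 n151415 = n149459 := (sb E63878 (iv1 F252867))
theorem F308739 : act 1 n151415 = n117972 := (sb E63878 F252868)
theorem F308740 : act 2 n151415 = n149321 := (sb E63878 F252862)
theorem F308741 : act 3 n151415 = n79841 := (sb E63878 F252863)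
theorem F308742 : act 4 n151415 = n154933 := (sb E63878 F252864)
theorem F308743 : act 6 n151415 = n79753 := (sb E63878 F252866)
theorem F308744 : act 7 n151415 = n76752 := (sb E63878 (iv7 D160196))
theorem F308745 : act 0 n60227 = n73811 := (sb E63879 (iv1 F238593))
theorem F308746 : act 6 n60227 = n71371 := (sb E63879 (iv6 D151416))
theorem F308747 : act 3 n151417 = n79846 := (sb E63880 (iv3 D166275))
theorem F308748 : act 4 n151417 = n154904 := (sb E63880 F261801)
theorem F308749 : act 5 n151417 = n149903 := (sb E63880 (tr F261799 E64981))
theorem F308750 : act 6 n151417 = n133744 := (sb E63880 (iv6 F261806))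
theorem F308751 : act 7 n151417 = n149289 := (sb E63880 F261800)
theorem F308753 : act 3 n151418 = n149184 := (sb E63881 (iv3 F278144))
theorem F308754 : act 4 n151418 = n154905 := (sb E63881 F278146)
theorem F308755 : act 6 n151418 = n76760 := (sb E63881 (iv6 D160214))
theorem F308756 : act 4 n87551 = n67552 := (sb E63882 (iv4 D144201))
theorem F308757 : act 2 n103081 = n67550 := (sb E63883 (iv2 D144189))
theorem E66973 : n103771 = n67551 := ((F177438).symm.trans (sb E63883 (iv7 F226894)))
theorem F308758 : act 5 n48005 = n67550 := (sb E63884 (iv5 D144192))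
theorem F308759 : act 2 n44788 = n67549 := (sb E63885 F226881)
theorem F308760 : act 6 n44788 = n67544 := (sb E63885 (iv6 D144179))
theorem F308761 : act 0 n148902 = n78290 := (sb E63886 (iv1 F252386))
theorem F308762 : act 1 n148902 = n76607 := (sb E63886 (iv0 D160002))
theorem F308763 : act 4 n148902 = n123540 := (sb E63886 (iv4 F252391))
theorem F308764 : act 0 n148899 = n76607 := (sb E63887 (iv1 D160003))
theorem F308765 : act 1 n148899 = n78290 := (sb E63887 F252380)
theorem F308766 : act 4 n148899 = n154248 := (sb E63887 F255589)
theorem E66977 : n184811 = n23919 := ((F308721).symm.trans (sb E63893 (iv1 D49031)))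
theorem E66979 : n74446 = n49032 := (((D49032).symm.trans (sb E63895 (iv2 F111740)))).symm
theorem F308767 : act 4 n23919 = n30562 := (sb E63895 (iv4 D65078))
theorem E66981 : n130083 = n49034 := (((D49034).symm.trans (sb E63895 F208556))).symm
theorem F308768 : act 0 n30619 = n26599 := (sb E63899 (iv1 D55022))
theorem E66985 : n65232 = n26653 := (((iv3 F100983)).symm.trans (sb E63899 F131162))
theorem E66986 : n75932 = n65239 := (((D65239).symm.trans (sb E63899 F131163))).symm
theorem F308769 : act 5 n54480 = n28675 := (sb E63902 (iv5 D60377))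
theorem E66991 : n54480 = n30563 := (((iv5 F308769)).symm.trans (sb E63903 F100867))
theorem F308770 : act 7 n28675 = n30562 := (sb E63903 (iv7 D65079))
theorem F308771 : act 6 n48970 = n67217 := (sb E63904 (iv6 D143518))
theorem E66993 : n131324 = n69812 := ((((iv7 F106240)).symm.trans (sb E63904 F226234))).symm
theorem E66994 : n156741 = n26632 := (((F77218).symm.trans (sb E63905 (iv3 F246570)))).symm
theorem E66996 : n105877 = n34292 := ((D105877).symm.trans (sb E63905 (iv6 D74840)))
theorem F308772 : act 4 n55137 = n61499 := (sb E63906 (iv4 D131095))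
theorem E66998 : n133604 = n33928 := (((F87216).symm.trans (sb E63906 (iv7 F214946)))).symm
theorem E66999 : n74961 = n29646 := ((((iv1 F47631)).symm.trans (sb E63907 (iv1 D157513)))).symm
theorem E67001 : n120927 = n61498 := (((D61498).symm.trans (sb E63907 (iv4 F303785)))).symm
theorem E67002 : n143810 = n61500 := (((D61500).symm.trans (sb E63907 F248223))).symm
theorem E67005 : n148991 = n69683 := ((D148991).symm.trans (sb E63909 (iv4 D148688)))
theorem E67006 : n127747 = n73562 := (((iv6 F205361)).symm.trans (sb E63909 (iv6 F233448)))
theorem F308773 : act 4 n33810 = n70870 := (sb E63910 F107361)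
theorem E67008 : n139710 = n73564 := (((D73564).symm.trans (sb E63910 (iv5 F222884)))).symm
theorem E67009 : n117836 = n16337 := ((((iv6 D33810)).symm.trans (sb E63910 (iv6 F184547)))).symm
theorem E67010 : n70096 = n31665 := (((iv1 F106480)).symm.trans (sb E63912 F106513))
theorem E67011 : n105851 = n70093 := ((((iv0 F106476)).symm.trans (sb E63912 F162550))).symm
theorem E67012 : n70157 = n68500 := (((iv5 F106538)).symm.trans (sb E63912 F104703))
theorem F308774 : act 6 n33809 = n70870 := (sb E63912 (iv6 F107357))
theorem E67013 : n55083 = n28483 := (((iv7 F87112)).symm.trans (sb E63912 (iv7 D59984)))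
theorem F308775 : act 0 n54270 = n32063 := (sb E63913 (iv1 D68951))
theorem E67014 : n146836 = n117823 := ((((iv3 F184509)).symm.trans (sb E63913 F230198))).symm
theorem E67015 : n147048 = n117826 := (((D117826).symm.trans (sb E63913 D147048))).symm
theorem E67016 : n73537 = n26238 := ((((iv6 D54270)).symm.trans (sb E63913 (iv6 F110204)))).symm
theorem E67017 : n131276 = n23860 := ((((iv1 F37200)).symm.trans (sb E63914 (iv1 F243722)))).symm
theorem E67018 : n131282 = n6460 := ((((iv0 D13575)).symm.trans (sb E63914 F243723))).symm
theorem F308776 : act 4 n32535 = n54290 := (sb E63915 F184813)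
theorem E67020 : n141592 = n70131 := (((D70131).symm.trans (sb E63915 (iv5 F224664)))).symm
theorem E67021 : n69626 = n15407 := ((((iv6 D32535)).symm.trans (sb E63915 F184814))).symm
theorem F308777 : act 0 n32304 = n31898 := (sb E63916 (iv1 D68569))
theorem E67022 : n146221 = n69580 := ((((iv3 F105855)).symm.trans (sb E63916 D146221))).symm
theorem E67023 : n145750 = n69586 := (((D69586).symm.trans (sb E63916 (iv5 F228887)))).symm
theorem E67024 : n70102 = n15227 := ((((iv6 D32304)).symm.trans (sb E63916 (iv6 F106490)))).symm
theorem E67025 : n139858 = n31896 := (((D31896).symm.trans (sb E63918 F223331))).symm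
theorem E67026 : n139856 = n31897 := (((D31897).symm.trans (sb E63918 F223332))).symm
theorem F308778 : act 4 n68571 = n76038 := (sb E63919 F184808)
theorem E67027 : n127328 = n31914 := (((F104764).symm.trans (sb E63919 F204562))).symm
theorem E67028 : n117142 = n70907 := (((iv1 F183223)).symm.trans (sb E63920 (iv1 F107453)))
theorem E67029 : n105858 = n70906 := (((iv0 F162568)).symm.trans (sb E63920 F107460))
theorem E67030 : n146307 = n145827 := ((((iv3 F228972)).symm.trans (sb E63920 (iv3 F229633)))).symm
theorem E67031 : n96780 = n70376 := ((D96780).symm.trans (sb E63921 (iv5 F233812)))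
theorem E67032 : n96785 = n70377 := ((D96785).symm.trans (sb E63922 F204993))
theorem E67033 : n96786 = n59893 := ((D96786).symm.trans (sb E63922 (iv6 D127532)))
theorem E67034 : n147801 = n44619 := (((D44619).symm.trans (sb E63923 (iv0 F231546)))).symm
theorem E67036 : n59888 = n21432 := ((((iv1 F33663)).symm.trans (sb E63924 F234788))).symm
theorem F308779 : act 3 n10309 = n14974 := (sb E63924 (iv3 D31818))
theorem E67038 : n159120 = n68898 := (((F131626).symm.trans (sb E63925 D159120))).symm
theorem F308780 : act 4 n55091 = n34741 := (sb E63925 (iv4 D76040))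
theorem E67039 : n142634 = n85800 := ((((iv5 F131654)).symm.trans (sb E63925 (iv5 F225516)))).symm
theorem E67040 : n69541 = n26624 := ((((iv6 D55091)).symm.trans (sb E63925 F131064))).symm
theorem F308781 : act 7 n55091 = n54270 := (sb E63925 (iv7 F131065))
theorem E67041 : n79771 = n53893 := (((iv1 F122465)).symm.trans (sb E63926 (iv1 F131063)))
theorem E67042 : n79769 = n59982 := (((iv0 F122456)).symm.trans (sb E63926 (iv0 F131059)))
theorem E67043 : n119731 = n34745 := ((D119731).symm.trans (sb E63926 F113913))
theorem E67044 : n117999 = n76048 := (((iv5 F185186)).symm.trans (sb E63926 (iv5 F131058)))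
theorem F308782 : act 6 n55090 = n34741 := (sb E63926 (iv6 D76041))
theorem E67045 : n48934 = n33800 := (((F87126).symm.trans (sb E63926 F131061))).symm
theorem F308783 : act 0 n32280 = n32628 := (sb E63927 (iv1 D70305))
theorem E67046 : n147266 = n69523 := ((((iv3 F105811)).symm.trans (sb E63927 F230877))).symm
theorem E67047 : n149693 = n69529 := (((D69529).symm.trans (sb E63927 D149693))).symm
theorem E67048 : n119730 = n15221 := ((((iv6 D32280)).symm.trans (sb E63927 (iv6 F188878)))).symm
theorem F308784 : act 7 n32280 = n33810 := (sb E63927 F106758)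
theorem E67049 : n148502 = n79848 := ((((iv3 F122591)).symm.trans (sb E63928 (iv3 F233253)))).symm
theorem F308785 : act 4 n36373 = n32312 := (sb E63928 F105878)
theorem E67050 : n139860 = n79854 := (((D79854).symm.trans (sb E63928 (iv5 F223062)))).symm
theorem E67051 : n117891 = n17559 := ((((iv6 D36373)).symm.trans (sb E63928 (iv6 F184878)))).symm
theorem F308786 : act 7 n36373 = n32304 := (sb E63928 (iv7 D69587))
theorem F308787 : act 0 n54286 = n32559 := (sb E63929 (iv1 F106517))
theorem F308788 : act 1 n54286 = n68571 := (sb E63929 F106518)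
theorem E67052 : n149348 = n117853 := ((((iv3 F184803)).symm.trans (sb E63929 (iv3 F234779)))).symm
theorem E67053 : n117856 = n68358 := ((D117856).symm.trans (sb E63929 F106516))
theorem E67054 : n79774 = n26244 := ((((iv6 D54286)).symm.trans (sb E63929 (iv6 F122471)))).symm
theorem F308789 : act 7 n54286 = n32535 := (sb E63929 (iv7 D70132))
theorem E67056 : n149201 = n148510 := (((iv7 F234573)).symm.trans (sb E63930 (iv7 F233258)))
theorem E67057 : n141590 = n68545 := (((D68545).symm.trans (sb E63931 F229035))).symm
theorem E67059 : n148511 = n68533 := ((((iv7 F104725)).symm.trans (sb E63931 (iv7 F233259)))).symm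
theorem F308790 : act 4 n15417 = n14974 := (sb E63932 (iv4 D31819))
theorem F308791 : act 1 n69585 = n32535 := (sb E63933 (iv0 D70130))
theorem F308792 : act 2 n69585 = n68571 := (sb E63933 (iv2 F106508))
theorem E67062 : n140148 = n54029 := (((iv6 F223324)).symm.trans (sb E63933 F106506))
theorem F308793 : act 7 n69585 = n32559 := (sb E63933 F106509)
theorem F308794 : act 0 n15457 = n14974 := (sb E63934 (iv1 F41299))
theorem F308795 : act 1 n15457 = n14973 := (sb E63934 F41300)
theorem F308796 : act 2 n15457 = n14976 := (sb E63934 F41296)
theorem E67063 : n53791 = n7302 := ((((iv4 D15457)).symm.trans (sb E63934 (iv4 F84811)))).symm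
theorem E67064 : n32650 = n14892 := ((D32650).symm.trans (sb E63934 F41297))
theorem F308797 : act 7 n15457 = n12373 := (sb E63934 (iv7 D26110))
theorem F308798 : act 0 n15814 = n14976 := (sb E63935 (iv1 F41298))
theorem F308799 : act 1 n15814 = n12373 := (sb E63935 (iv0 D26108))
theorem F308800 : act 2 n15814 = n14973 := (sb E63935 F131106)
theorem E67065 : n53986 = n32853 := (((D32853).symm.trans (sb E63935 D53986))).symm
theorem F308801 : act 7 n15814 = n14974 := (sb E63935 F131107)
theorem E67066 : n68607 = n68385 := (((iv1 F107461)).symm.trans (sb E63936 (iv1 F183231)))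
theorem E67067 : n68606 = n59994 := (((iv0 F107463)).symm.trans (sb E63936 F183232))
theorem F308802 : act 2 n70909 = n68386 := (sb E63936 F183228)
theorem F308803 : act 6 n70909 = n59975 := (sb E63936 F183230)
theorem E67068 : n86683 = n29716 := ((D86683).symm.trans (sb E66482 (tr (iv4 F303831) E64322)))
theorem E67069 : n70866 = n29154 := (((D29154).symm.trans (sb E63938 (iv1 D150414)))).symm
theorem E67074 : n125260 = n55339 := (((F97830).symm.trans (sb E63941 F244081))).symm
theorem E67075 : n85119 = n29648 := ((((iv7 D62711)).symm.trans (sb E63941 F244079))).symm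
theorem F308804 : act 4 n39639 = n62756 := (sb E63943 F210528)
theorem F308805 : act 4 n18754 = n29725 := (sb E63945 F95442)
theorem E67078 : n116205 = n31581 := ((((iv5 F199739)).symm.trans (sb E63945 (iv5 F181094)))).symm
theorem F308806 : act 4 n39641 = n61645 := (sb E63946 F210535)
theorem E67080 : n133780 = n85817 := (((D85817).symm.trans (sb E63946 (iv6 F215407)))).symm
theorem E67081 : n96782 = n44768 := (((iv2 F149250)).symm.trans (sb E63949 F147555))
theorem E67082 : n96777 = n44767 := ((F149249).symm.trans (sb E63949 (iv7 D95889)))
theorem F308807 : act 0 n95890 = n159186 := (sb E63950 F250671)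
theorem F308808 : act 2 n95890 = n150305 := (sb E63950 (iv2 F236540))
theorem F308809 : act 5 n95890 = n69855 := (sb E63950 F205212)
theorem F308810 : act 6 n95890 = n59934 := (sb E63950 (iv6 D127648))
theorem E67083 : n127653 = n95329 := (E63951).trans E65870
theorem F308811 : act 6 n95329 = n59935 := (sb E67083 (iv6 D127653))
theorem F308812 : act 6 n28465 = n44768 := (sb E63952 (iv6 D95893))
theorem F308813 : act 3 n70771 = n44767 := (sb E63954 (iv3 D95885))
theorem E67084 : n150303 = n69802 := ((D150303).symm.trans (sb E63954 (iv4 F233447)))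
theorem F308814 : act 5 n70769 = n44767 := (sb E63955 (iv5 D95887))
theorem F308815 : act 0 n95888 = n68040 := (sb E63956 F243336)
theorem F308816 : act 3 n95888 = n150304 := (sb E63956 (iv3 F236538))
theorem E67085 : n146071 = n124533 := (((F199193).symm.trans (sb E63956 (iv5 F243181)))).symm
theorem F308817 : act 7 n95888 = n59942 := (sb E63956 (iv7 D127677))
theorem F308818 : act 2 n153317 = n87401 := (sb E63957 F283421)
theorem F308819 : act 5 n153317 = n86939 := (sb E63957 (iv5 D182028))
theorem F308820 : act 7 n153317 = n87396 := (sb E63957 F283422)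
theorem F308821 : act 2 n170678 = n87402 := (sb E63958 F283423)
theorem F308822 : act 6 n170678 = n86939 := (sb E63958 (iv6 D182029))
theorem F308823 : act 5 n153658 = n87402 := (sb E63959 (iv5 D183101))
theorem F308824 : act 7 n58361 = n87402 := (sb E63960 (iv7 D183102))
theorem F308825 : act 2 n153318 = n87396 := (sb E63961 F283409)
theorem F308826 : act 3 n153318 = n177819 := (sb E63961 F283410)
theorem F308827 : act 5 n153318 = n86938 := (sb E63961 (iv5 D182026))
theorem F308828 : act 7 n153318 = n87401 := (sb E63961 F283411)
theorem F308829 : act 6 n58339 = n87394 := (sb E63962 (iv6 D183084))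
theorem F308830 : act 0 n153320 = n87396 := (sb E63963 (iv1 D183088))
theorem F308831 : act 1 n153320 = n87401 := (sb E63963 F284711)
theorem F308832 : act 3 n153320 = n125122 := (sb E63963 (iv3 F284713))
theorem E67086 : n127505 = n45436 := ((((iv1 D97248)).symm.trans (sb E63966 (iv1 F235002)))).symm
theorem F308833 : act 2 n97248 = n127506 := (sb E63966 F235000)
theorem E67087 : n124526 = n117207 := (((iv5 F199189)).symm.trans (sb E63966 F235001))
theorem F308834 : act 6 n97248 = n160241 := (sb E63966 (iv6 F253056))
theorem F308835 : act 7 n97248 = n70163 := (sb E63966 (iv7 D149422))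
theorem F308836 : act 0 n59883 = n81715 := (sb E63967 (iv1 F150006))
theorem E67088 : n127506 = n81713 := ((((iv1 F150007)).symm.trans (sb E63968 (iv1 F234999)))).symm
theorem E67089 : n81712 = n70163 := ((F150008).symm.trans (sb E63968 (iv0 D149421)))
theorem F308837 : act 3 n97250 = n146286 := (sb E63968 F234995)
theorem F308838 : act 6 n97250 = n154008 := (sb E63968 (iv6 F242031))
theorem F308839 : act 3 n54027 = n81715 := (sb E63969 F236937)
theorem E67090 : n142660 = n68941 := ((((iv4 F131151)).symm.trans (sb E63969 F236938))).symm
theorem F308840 : act 5 n54027 = n70909 := (sb E63969 F236939)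
theorem F308841 : act 4 n114018 = n81715 := (sb E63970 F267898)
theorem E67091 : n146293 = n81714 := (((iv7 F229622)).symm.trans (sb E63970 (iv7 D170449)))
theorem F308842 : act 5 n60078 = n83315 := (sb E63975 (iv5 D174307))
theorem E67093 : n145265 = n119468 := ((D145265).symm.trans (sb E63976 (iv1 F188250)))
theorem E67094 : n145266 = n119467 := ((D145266).symm.trans (sb E63976 F188257))
theorem F308843 : act 2 n68099 = n119470 := (sb E63976 (iv2 F188260))
theorem E67095 : n138958 = n55147 := (((iv3 F222139)).symm.trans (sb E63976 (iv3 F130745)))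
theorem E67096 : n175205 = n145267 := (((D145267).symm.trans (sb E63976 (iv5 F274247)))).symm
theorem E67097 : n85216 = n31705 := ((((iv6 D68099)).symm.trans (sb E63976 (iv6 F199899)))).symm
theorem E67098 : n145268 = n38574 := ((D145268).symm.trans (sb E63976 (iv7 D83678)))
theorem E67100 : n119471 = n61676 := ((((iv0 F96263)).symm.trans (sb E63977 F188271))).symm
theorem E67101 : n174312 = n130059 := ((((iv3 F208503)).symm.trans (sb E63977 (iv3 F305085)))).symm
theorem E67102 : n175192 = n131269 := (((D131269).symm.trans (sb E63977 (iv5 F274234)))).symm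
theorem F308844 : act 6 n61597 = n119470 := (sb E63977 (iv6 F188261))
theorem E67103 : n61384 = n38572 := ((F96152).symm.trans (sb E63977 (iv7 D83673)))
theorem E67104 : n170254 = n159186 := ((D170254).symm.trans (sb E63978 (iv6 F250668)))
theorem F308845 : act 0 n114197 = n63275 := (sb E63981 (iv1 F186480))
theorem F308846 : act 1 n114197 = n63274 := (sb E63981 F186479)
theorem F308847 : act 2 n114197 = n54598 := (sb E63981 (iv2 D118565))
theorem F308848 : act 4 n114197 = n54627 := (sb E63981 F186477)
theorem F308849 : act 7 n114197 = n63262 := (sb E63981 F186478)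
theorem E67105 : n173915 = n63214 := (((D63214).symm.trans (sb E63999 (iv5 F272558)))).symm
theorem E67106 : n161583 = n83535 := ((D161583).symm.trans (sb E64053 F249602))
theorem F308850 : act 6 n77610 = n75559 := (sb E64053 (iv6 D158419))
theorem F308851 : act 6 n71817 = n83765 := (sb E64054 (iv6 D175426))
theorem F308852 : act 1 n38622 = n83760 := (sb E64055 F128805)
theorem E67107 : n83847 = n35435 := (((iv3 F128869)).symm.trans (sb E64055 F116511))
theorem F308853 : act 7 n38622 = n35430 := (sb E64055 (iv7 D77613))
theorem F308854 : act 3 n167004 = n152247 := (sb E64056 F274464)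
theorem F308855 : act 5 n167004 = n83760 := (sb E64056 (iv5 D175412))
theorem F308856 : act 1 n32676 = n34304 := (sb E64057 F78764)
theorem F308857 : act 2 n32676 = n34307 := (sb E64057 F78760)
theorem E67108 : n69388 = n31036 := (((E64459).symm.trans ((D70398).symm.trans (sb E64057 (iv5 F105668))))).symm
theorem F308858 : act 7 n32676 = n24297 := (sb E64057 (iv7 D49828))
theorem E67111 : n68514 = n54349 := ((((iv5 F85757)).symm.trans (sb E64060 (iv5 D146120)))).symm
theorem F308859 : act 3 n116928 = n58136 := (sb E64061 F185008)
theorem F308860 : act 4 n116928 = n180564 := (sb E64061 (iv4 F281039))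
theorem F308861 : act 5 n116928 = n54335 := (sb E64061 F185009)
theorem E67113 : n180563 = n53887 := ((((iv6 D116928)).symm.trans (sb E64061 (iv6 F281035)))).symm
theorem F308862 : act 7 n116928 = n54334 := (sb E64061 (iv7 D117952))
theorem F308863 : act 5 n32693 = n34015 := (sb E64062 (iv5 D74158))
theorem F308864 : act 2 n117167 = n54334 := (sb E64065 F184942)
theorem F308865 : act 4 n117167 = n84880 := (sb E64065 (iv4 F184944))
theorem F308866 : act 5 n117167 = n54317 := (sb E64065 (iv5 D117919))
theorem E67117 : n54356 = n53999 := ((((iv6 D117167)).symm.trans (sb E64065 F184943))).symm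
theorem E67118 : n31822 = n12519 := (((F41691).symm.trans (sb E64066 (iv7 F131523)))).symm
theorem F308868 : act 5 n117946 = n68433 := (sb E64067 (iv5 D145947))
theorem F308869 : act 6 n117946 = n131339 := (sb E64067 F229187)
theorem F308870 : act 7 n117946 = n143741 := (sb E64067 F229186)
theorem F308871 : act 5 n68331 = n54333 := (sb E64068 (iv5 D117947))
theorem E67119 : n157334 = n99592 := (E64069).trans E65198
theorem F308872 : act 0 n99592 = n107923 := (sb E67119 (iv1 F247602))
theorem E67120 : n107925 = n84341 := (((F153348).symm.trans (sb E67119 (iv2 F247601)))).symm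
theorem F308873 : act 3 n99592 = n131252 := (sb E67119 (iv3 F247604))
theorem F308874 : act 5 n99592 = n150777 := (sb E67119 (iv5 F247605))
theorem F308876 : act 0 n49848 = n71520 := (sb E64070 (iv1 D151744))
theorem E67121 : n107923 = n81476 := ((D107923).symm.trans (sb E64070 F302283))
theorem E67122 : n86568 = n84341 := ((D86568).symm.trans (sb E64071 (tr (iv1 F247610) E67120)))
theorem E67123 : n107910 = n86569 := (((D86569).symm.trans (sb E64071 F247609))).symm
theorem F308877 : act 7 n123017 = n145288 := (sb E64072 F247611)
theorem E67124 : n151745 = n34143 := (E64073).trans E64182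
theorem E67125 : n86570 = n74433 := ((((iv2 F111715)).symm.trans (sb E67124 F238642))).symm
theorem E67126 : n74440 = n71520 := ((D74440).symm.trans (sb E67124 (iv5 D151745)))
theorem F308878 : act 7 n68111 = n71520 := (sb E64074 F302288)
theorem F308879 : act 4 n26261 = n34307 := (sb E64075 F111810)
theorem E67128 : n156651 = n53882 := ((((iv5 F84962)).symm.trans (sb E64075 (iv5 F246361)))).symm
theorem F308880 : act 7 n26261 = n34159 := (sb E64075 (iv7 D74490))
theorem F308881 : act 2 n28672 = n34159 := (sb E64076 (iv2 F53649))
theorem E67129 : n65119 = n33785 := ((((iv3 F305188)).symm.trans (sb E64076 (iv3 F100896)))).symm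
theorem F308882 : act 4 n28672 = n24297 := (sb E64076 F48994)
theorem E67130 : n65126 = n59968 := ((((iv5 F130833)).symm.trans (sb E64076 D65126))).symm
theorem E67131 : n18750 = n14504 := ((F199729).symm.trans (sb E64076 (iv6 D30577)))
theorem F308883 : act 0 n28674 = n34159 := (sb E64079 F208515)
theorem F308884 : act 4 n28674 = n31710 := (sb E64079 (iv4 D68112))
theorem E67135 : n175194 = n131271 := (((F210373).symm.trans (sb E64080 D175194))).symm
theorem F308885 : act 2 n68102 = n114622 := (sb E64080 (iv2 F178732))
theorem E67136 : n175195 = n145097 := ((((iv5 F228049)).symm.trans (sb E64080 D175195))).symm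
theorem F308886 : act 6 n68102 = n38573 := (sb E64080 (iv6 D83674))
theorem F308887 : act 4 n27015 = n31711 := (sb E64081 F100987)
theorem E67138 : n138985 = n54007 := ((((iv5 F85190)).symm.trans (sb E64081 (iv5 F222152)))).symm
theorem F308888 : act 7 n27015 = n30619 := (sb E64081 (iv7 D65240))
theorem E67139 : n117942 = n53553 := (E64082).trans E65611
theorem E67140 : n145097 = n116201 := ((((iv3 F181087)).symm.trans (sb E67139 (tr (iv3 F274236) E67136)))).symm
theorem F308889 : act 6 n26263 = n31711 := (sb E64083 F54374)
theorem E67143 : n157146 = n73951 := (((F206541).symm.trans (sb E64086 (iv1 F247319)))).symm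
theorem F308890 : act 0 n35977 = n30619 := (sb E64087 (iv1 D65238))
theorem F308891 : act 4 n35977 = n49827 := (sb E64087 F207943)
theorem F308892 : act 0 n69848 = n62706 := (sb E64088 (iv1 F189124))
theorem F308893 : act 1 n69848 = n62701 := (sb E64088 F189125)
theorem E67145 : n148976 = n73251 := ((D148976).symm.trans (sb E64088 F191052))
theorem E67146 : n79420 = n74967 := ((((iv5 F112488)).symm.trans (sb E64088 F306278))).symm
theorem F308894 : act 7 n69848 = n55140 := (sb E64088 (iv7 D119834))
theorem F308895 : act 4 n119307 = n120158 := (sb E64089 F244066)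
theorem F308896 : act 4 n33867 = n62701 := (sb E64090 (iv4 D133597))
theorem E67148 : n131102 = n55182 := ((((iv7 F87310)).symm.trans (sb E64090 F214922))).symm
theorem E67150 : n79911 = n60790 := ((((iv4 F162923)).symm.trans (sb E64091 F244067))).symm
theorem F308897 : act 1 n61504 = n70753 := (sb E64092 F189276)
theorem E67152 : n65363 = n55642 := ((((iv1 F88031)).symm.trans (sb E64093 F183318))).symm
theorem E67153 : n65368 = n55641 := (((F88030).symm.trans (sb E64093 F182228))).symm
theorem E67154 : n73592 = n54058 := (((iv4 F110260)).symm.trans (sb E64093 F181839))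
theorem E67155 : n53699 = n16342 := ((((iv6 D33822)).symm.trans (sb E64093 (iv6 D116528)))).symm
theorem E67156 : n116771 = n72834 := ((D116771).symm.trans (sb E64096 F241880))
theorem F308898 : act 5 n53802 = n72820 := (sb E64096 (iv5 D153905))
theorem E67157 : n72839 = n31305 := ((((iv7 F182245)).symm.trans (sb E64096 F241882))).symm
theorem F308899 : act 3 n33590 = n31307 := (sb E64097 F103214)
theorem E67161 : n62720 = n26241 := ((((iv6 F41657)).symm.trans (sb E64098 (iv6 D133631)))).symm
theorem E67162 : n73525 = n26009 := ((((iv3 F41103)).symm.trans (sb E64099 (iv3 F186993)))).symm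
theorem E67167 : n116759 = n70342 := (((iv1 F183572)).symm.trans (sb E64101 (iv1 D149750)))
theorem E67168 : n116781 = n73532 := ((D116781).symm.trans (sb E64101 F235524))
theorem F308900 : act 5 n53805 = n74929 := (sb E64101 (iv5 F235526))
theorem E67169 : n117399 = n116783 := (((D116783).symm.trans (sb E64101 F235525))).symm
theorem E67171 : n127324 = n54342 := (((D54342).symm.trans (sb E64103 (iv3 F204553)))).symm
theorem E67172 : n54344 = n28346 := ((D54344).symm.trans (sb E64103 (iv5 D59768)))
theorem E67174 : n70158 = n54005 := (((iv4 F106541)).symm.trans (sb E64104 F181015))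
theorem E67175 : n31092 = n15412 := ((((iv6 D32547)).symm.trans (sb E64104 (iv6 D66666)))).symm
theorem E67176 : n70441 = n62792 := ((D70441).symm.trans (sb E64105 F215298))
theorem E67177 : n145878 = n54419 := (((D54419).symm.trans (sb E64106 (iv3 F229044)))).symm
theorem F308901 : act 5 n26318 = n34016 := (sb E64106 F104571)
theorem E67179 : n68491 = n58122 := ((((iv6 F91928)).symm.trans (sb E64107 (iv6 D146073)))).symm
theorem E67182 : n68519 = n54348 := (((D54348).symm.trans (sb E64109 F229369))).symm
theorem F308902 : act 1 n108006 = n54334 := (sb E64111 (iv0 D117949))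
theorem F308903 : act 0 n108003 = n54334 := (sb E64112 (iv1 D117950))
theorem F308904 : act 0 n117951 = n148653 := (sb E64113 (iv1 F233417))
theorem F308905 : act 1 n117951 = n148657 := (sb E64113 F233421)
theorem F308906 : act 5 n117951 = n179641 := (sb E64113 (iv5 F279750))
theorem E67187 : n68501 = n58254 := (((F185007).symm.trans (sb E64113 (iv6 D146088)))).symm
theorem E67188 : n70156 = n34745 := (((F77156).symm.trans (sb E64114 D70156))).symm
theorem E67189 : n15411 = n15001 := ((((iv5 D31871)).symm.trans (sb E64114 (iv5 D32545)))).symm
theorem F308907 : act 6 n31871 = n54334 := (sb E64114 (iv6 F85743))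
theorem E67190 : n58253 = n54004 := ((((iv7 F131511)).symm.trans (sb E64114 F92076))).symm
theorem F308908 : act 1 n14975 = n12473 := (sb E64115 (iv0 D26262))
theorem F308909 : act 7 n14975 = n15569 := (sb E64115 (iv7 F41709))
theorem E67192 : n166192 = n130073 := ((D166192).symm.trans (sb E64118 F305142))
theorem F308910 : act 1 n79796 = n38522 := (sb E64118 (iv0 D83550))
theorem E67195 : n121038 = n62466 := (((iv6 F193014)).symm.trans (sb E64118 (iv6 F306568)))
theorem E67196 : n174923 = n38697 := (((F299445).symm.trans (sb E64118 D174923))).symm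
theorem E67197 : n174924 = n101478 := ((D174924).symm.trans (sb E64119 F184753))
theorem E67198 : n176140 = n174926 := (((D174926).symm.trans (sb E64119 D176140))).symm
theorem F308911 : act 6 n83551 = n86322 := (sb E64119 F300823)
theorem F308912 : act 7 n83551 = n166194 := (sb E64119 (iv7 F302325))
theorem E67199 : n166194 = n79423 := (((F306881).symm.trans (sb E64120 (iv1 F302322)))).symm
theorem F308913 : act 1 n80172 = n38697 := (sb E64120 (iv0 D84017))
theorem E67200 : n176130 = n167007 := ((((iv3 F262994)).symm.trans (sb E64120 D176130))).symm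
theorem F308914 : act 0 n83553 = n38697 := (sb E64121 (iv1 D84018))
theorem F308915 : act 4 n79796 = n69377 := (sb E64122 (iv4 F306177))
theorem F308916 : act 4 n83551 = n74007 := (sb E64123 (iv4 F306181))
theorem E67206 : n173721 = n27045 := ((((iv1 D56075)).symm.trans (sb E64125 F272286))).symm
theorem E67208 : n121459 = n39321 := ((D121459).symm.trans (sb E64125 (iv3 D85030)))
theorem E67209 : n178562 = n121461 := (((D121461).symm.trans (sb E64125 D178562))).symm
theorem F308917 : act 3 n61645 = n86595 := (sb E64126 F282479)
theorem E67212 : n178625 = n14003 := ((((iv6 D29446)).symm.trans (sb E64129 D178625))).symm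
theorem F308918 : act 0 n61074 = n38662 := (sb E64130 (iv1 F127949))
theorem F308919 : act 2 n61074 = n38661 := (sb E64130 (iv2 F274309))
theorem E67213 : n173509 = n130071 := (((D130071).symm.trans (sb E64130 F274308))).symm
theorem E67214 : n173598 = n130072 := (((D130072).symm.trans (sb E64130 D173598))).symm
theorem F308920 : act 0 n18395 = n38382 := (sb E64131 F306083)
theorem F308921 : act 4 n18395 = n29157 := (sb E64131 F95597)
theorem E67216 : n130079 = n38664 := (((D38664).symm.trans (sb E64131 (iv5 F208548)))).symm
theorem F308922 : act 7 n18395 = n28942 := (sb E64131 (iv7 D61077))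
theorem F308923 : act 0 n29485 = n38661 := (sb E64132 (iv1 F127954))
theorem E67217 : n173605 = n62332 := (((D62332).symm.trans (sb E64132 D173605))).symm
theorem F308924 : act 7 n29485 = n38662 := (sb E64132 F127951)
theorem F308925 : act 7 n83706 = n119403 := (sb E64133 (iv7 F304927))
theorem F308926 : act 7 n83938 = n130075 := (sb E64134 F213299)
theorem F308927 : act 0 n39944 = n60738 := (sb E64136 (iv1 D129209))
theorem F308928 : act 1 n77020 = n60738 := (sb E64137 (iv0 D129208))
theorem F308929 : act 4 n77020 = n61393 := (sb E64137 (iv4 F209013))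
theorem E67218 : n160623 = n62471 := ((D160623).symm.trans (sb E64137 F207429))
theorem E67219 : n130861 = n85902 := ((D130861).symm.trans (sb E64138 (iv3 D179855)))
theorem E67220 : n57302 = n54837 := (((D54837).symm.trans (sb E64139 F147073))).symm
theorem F308930 : act 3 n58285 = n67217 := (sb E64140 F226219)
theorem E67221 : n124703 = n67215 := ((D124703).symm.trans (sb E64140 (iv5 D143508)))
theorem F308931 : act 1 n34305 = n32676 := (sb E64141 (iv0 D70396))
theorem E67222 : n149821 = n74867 := (((D74867).symm.trans (sb E64142 (iv1 F259497)))).symm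
theorem E67223 : n149820 = n74868 := (((D74868).symm.trans (sb E64142 F259498))).symm
theorem E67224 : n79070 = n53574 := (E65591).trans E65913
theorem E67225 : n74481 = n58337 := ((((iv6 F199701)).symm.trans (sb E64146 (iv6 D156630)))).symm
theorem F308932 : act 6 n34301 = n73256 := (sb E64148 F200445)
theorem E67226 : n72846 = n49822 := ((((iv7 F78748)).symm.trans (sb E64148 F200446))).symm
theorem E67228 : n119662 = n38737 := (((iv3 F188752)).symm.trans (sb E64150 (iv3 D84070)))
theorem E67229 : n176281 = n121466 := ((((iv5 F193822)).symm.trans (sb E64150 D176281))).symm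
theorem E67231 : n176300 = n120813 := ((((iv3 F192712)).symm.trans (sb E64151 (iv3 F275591)))).symm
theorem E67234 : n129719 = n39341 := (((D39341).symm.trans (sb E64152 D129719))).symm
theorem E67236 : n129704 = n39316 := ((((iv2 F130147)).symm.trans (sb E64152 (iv2 F207886)))).symm
theorem F308933 : act 3 n18655 = n28898 := (sb E64152 F95479)
theorem E67237 : n129721 = n39344 := (((D39344).symm.trans (sb E64152 D129721))).symm
theorem E67238 : n39345 = n28894 := ((D39345).symm.trans (sb E64152 (iv6 D60934)))
theorem E67239 : n176316 = n129762 := (((D129762).symm.trans (sb E64153 F275632))).symm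
theorem E67243 : n176211 = n28896 := (((D28896).symm.trans (sb E64154 (iv1 F303852)))).symm
theorem F308934 : act 3 n83160 = n62225 := (sb E64155 F186362)
theorem E67247 : n173901 = n129904 := ((D173901).symm.trans (sb E64155 (iv6 F208277)))
theorem E67248 : n173446 = n62391 := ((((iv1 F308028)).symm.trans (sb E64156 F274323))).symm
theorem E67249 : n173510 = n131357 := ((((iv0 F308029)).symm.trans (sb E64156 (iv0 F279293)))).symm
theorem E67252 : n175855 = n174327 := (((D174327).symm.trans (sb E64157 D175855))).symm
theorem F308935 : act 1 n83321 = n175856 := (sb E64157 D175856)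
theorem E67261 : n130005 = n8660 := ((((iv2 F61151)).symm.trans (sb E64159 (iv2 F208452)))).symm
theorem F308936 : act 3 n18258 = n28942 := (sb E64159 F95584)
theorem E67263 : n130040 = n38213 := (((D38213).symm.trans (sb E64159 D130040))).symm
theorem F308937 : act 3 n13876 = n18977 := (sb E64160 (iv3 D40180))
theorem E67264 : n86679 = n29156 := (((D29156).symm.trans (sb E64160 D86679))).symm
theorem E67265 : n173607 = n130076 := (((D130076).symm.trans (sb E64161 D173607))).symm
theorem E67266 : n173608 = n130077 := (((D130077).symm.trans (sb E64161 D173608))).symm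
theorem E67267 : n173609 = n130078 := (((D130078).symm.trans (sb E64161 D173609))).symm
theorem E67269 : n120127 = n38638 := ((((iv1 F127982)).symm.trans (sb E64162 F213291))).symm
theorem E67270 : n173636 = n130158 := ((D173636).symm.trans (sb E64162 F213290))
theorem F308939 : act 1 n69833 = n57325 := (sb E64167 (iv0 D123180))
theorem E67276 : n148966 = n73084 := ((D148966).symm.trans (sb E64167 F282072))
theorem F308940 : act 0 n69828 = n57325 := (sb E64168 (iv1 D123181))
theorem F308941 : act 3 n78339 = n57328 := (sb E64169 F197419)
theorem F308942 : act 5 n78339 = n57325 := (sb E64169 (iv5 D123182))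
theorem E67277 : n162859 = n86587 := (((F306945).symm.trans (sb E64169 (iv7 F257154)))).symm
theorem E67279 : n71095 = n34178 := (((iv5 F308651)).symm.trans (sb E64172 F208890))
theorem E67280 : n156527 = n151749 := (((D151749).symm.trans (sb E64172 D156527))).symm
theorem E67281 : n156528 = n149001 := (((F306301).symm.trans (sb E64173 D156528))).symm
theorem E67283 : n71096 = n34179 := (((iv5 F308257)).symm.trans (sb E64173 F212032))
theorem F308943 : act 5 n16530 = n33085 := (sb E64175 (iv5 D71523))
theorem F308944 : act 7 n30533 = n33085 := (sb E64176 F306553)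
theorem E67286 : n74423 = n60345 := ((D74423).symm.trans (sb E64178 F206468))
theorem E67287 : n65116 = n60343 := (((iv5 F208793)).symm.trans (sb E64178 (iv5 D128344)))
theorem E67288 : n74426 = n71143 := ((D74426).symm.trans (sb E64178 (iv6 F206469)))
theorem E67289 : n124938 = n74412 := ((((iv4 F111674)).symm.trans (sb E64180 F279640))).symm
theorem E67290 : n74410 = n39448 := ((D74410).symm.trans (sb E64181 (iv1 D85409)))
theorem E67293 : n179022 = n74413 := (((D74413).symm.trans (sb E64181 D179022))).symm
theorem E67294 : n179023 = n74414 := (((D74414).symm.trans (sb E64181 D179023))).symm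
theorem E67295 : n124939 = n30521 := (((F53589).symm.trans (sb E64181 (iv7 F200667)))).symm
theorem E67296 : n71052 = n67704 := ((((iv7 F103735)).symm.trans (sb E64182 (iv7 D150694)))).symm
theorem E67297 : n54481 = n30534 := (((D30534).symm.trans (sb E64183 (iv6 D118299)))).symm
theorem F308945 : act 2 n148447 = n73483 := (sb E64184 F243475)
theorem F308946 : act 5 n148447 = n73409 := (sb E64184 (iv5 D154803))
theorem F308947 : act 7 n148447 = n73464 := (sb E64184 F243476)
theorem F308948 : act 0 n150311 = n73483 := (sb E64194 (iv1 F243588))
theorem F308949 : act 1 n150311 = n73464 := (sb E64194 (iv0 D154895))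
theorem F308950 : act 5 n150311 = n160011 := (sb E64194 (iv5 F252415))
theorem F308951 : act 0 n59939 = n73464 := (sb E64195 (iv1 D154896))
theorem F308952 : act 1 n59939 = n73483 := (sb E64195 F243589)
theorem F308953 : act 4 n117733 = n73464 := (sb E64196 (iv4 D154897))
theorem F308954 : act 6 n59869 = n73464 := (sb E64197 (iv6 D154898))
theorem F308955 : act 4 n117872 = n73483 := (sb E64198 (iv4 D154922))
theorem F308956 : act 2 n85051 = n65296 := (sb E64207 F210268)
theorem F308957 : act 3 n85051 = n61577 := (sb E64207 (iv3 D131239))
theorem F308958 : act 7 n85051 = n65313 := (sb E64207 F210256)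
theorem F308959 : act 4 n158997 = n85364 := (sb E64208 (iv4 D178962))
theorem F308960 : act 6 n145827 = n85364 := (sb E64209 (iv6 D178963))
theorem F308961 : act 0 n151359 = n85419 := (sb E64210 (iv1 D179043))
theorem F308962 : act 1 n151359 = n85424 := (sb E64210 F278985)
theorem F308963 : act 3 n154112 = n85419 := (sb E64211 (iv3 D179044))
theorem E67299 : n139276 = n119590 := (((D119590).symm.trans (sb E64213 (iv1 F222455)))).symm
theorem F308964 : act 0 n54901 = n34198 := (sb E64214 (iv1 D74582))
theorem F308965 : act 4 n54901 = n34305 := (sb E64214 F207955)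
theorem F308966 : act 2 n143733 = n118525 := (sb E64216 (iv2 F305802))
theorem F308967 : act 4 n143733 = n98258 := (sb E64216 F236996)
theorem F308968 : act 6 n143733 = n101594 := (sb E64216 (iv6 F298807))
theorem F308969 : act 7 n143733 = n119193 := (sb E64216 F236997)
theorem E67301 : n139912 = n70540 := ((((iv1 F106996)).symm.trans (sb E64217 F226419))).symm
theorem F308970 : act 4 n54852 = n67331 := (sb E64217 (iv4 D143747))
theorem E67302 : n142943 = n39313 := ((((iv5 F60287)).symm.trans (sb E64220 F226391))).symm
theorem E67303 : n155052 = n146696 := (((iv5 F243829)).symm.trans (sb E64221 (iv5 F230031)))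
theorem E67304 : n74044 = n33877 := ((((iv6 D73729)).symm.trans (sb E64221 (iv6 F226395)))).symm
theorem E67305 : n74713 = n35075 := (((F87148).symm.trans (sb E64222 F114316))).symm
theorem E67306 : n31187 = n26628 := ((((iv6 D55098)).symm.trans (sb E64222 (iv6 D66984)))).symm
theorem E67307 : n119648 = n67313 := ((D119648).symm.trans (sb E64227 (iv5 D143721)))
theorem E67308 : n119679 = n67311 := (((D67311).symm.trans (sb E64229 D119679))).symm
theorem E67309 : n119680 = n67312 := (((D67312).symm.trans (sb E64229 D119680))).symm
theorem F308971 : act 5 n31300 = n26614 := (sb E64229 (iv5 D55064))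
theorem E67311 : n119650 = n53807 := ((((iv7 F182247)).symm.trans (sb E64229 (iv7 F188714)))).symm
theorem E67312 : n119354 = n53779 := ((((iv3 F84793)).symm.trans (sb E64231 F210144))).symm
theorem E67313 : n70562 = n34234 := ((((iv5 F53868)).symm.trans (sb E64231 F210145))).symm
theorem E67315 : n149716 = n14754 := ((((iv3 F24402)).symm.trans (sb E64232 (iv3 F235433)))).symm
theorem E67317 : n32632 = n3175 := ((((iv6 D7033)).symm.trans (sb E64232 (iv6 D70323)))).symm
theorem F308972 : act 5 n26016 = n35991 := (sb E64233 (iv5 D79093))
theorem E67319 : n54100 = n53810 := (((D53810).symm.trans (sb E64233 F120322))).symm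
theorem F308973 : act 1 n79094 = n61579 := (sb E64234 (iv0 F182335))
theorem F308974 : act 2 n79094 = n67344 := (sb E64234 F182333)
theorem F308975 : act 4 n79094 = n61642 := (sb E64234 F182334)
theorem F308976 : act 1 n61479 = n69456 := (sb E64235 (iv0 F108634))
theorem E67320 : n129703 = n39318 := (((iv3 F207884)).symm.trans (sb E64235 F199814))
theorem E67321 : n66875 = n31543 := (((iv5 F102726)).symm.trans (sb E64235 (iv5 D67881)))
theorem F308977 : act 7 n61479 = n68732 := (sb E64235 (iv7 F200211))
theorem F308978 : act 1 n67876 = n67344 := (sb E64236 F210302)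
theorem F308979 : act 3 n67876 = n62766 := (sb E64236 F210298)
theorem F308980 : act 4 n67876 = n61580 := (sb E64236 F210299)
theorem E67322 : n131111 = n119829 := (((F189102).symm.trans (sb E64236 F210300))).symm
theorem F308981 : act 7 n67876 = n61579 := (sb E64236 (iv7 D131243))
theorem F308982 : act 1 n60208 = n83549 := (sb E64237 (iv0 D174914))
theorem F308983 : act 0 n60167 = n83549 := (sb E64238 (iv1 D174915))
theorem F308984 : act 3 n60206 = n83553 := (sb E64239 F307061)
theorem F308985 : act 7 n60206 = n83549 := (sb E64239 F307062)
theorem E67324 : n179546 = n40158 := (((iv2 F279580)).symm.trans (sb E64241 (iv2 D86643)))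
theorem E67325 : n181373 = n123172 := ((D181373).symm.trans (sb E64241 (iv4 F197399)))
theorem E67327 : n181523 = n133778 := (((E65662).symm.trans ((D181374).symm.trans (sb E64241 D181523)))).symm
theorem E67328 : n159085 = n63675 := (((F208024).symm.trans (sb E64244 D159085))).symm
theorem F308986 : act 5 n62933 = n34728 := (sb E64244 (iv5 D75989))
theorem F308987 : act 7 n62933 = n120649 := (sb E64244 (iv7 F192306))
theorem F308988 : act 2 n131655 = n120649 := (sb E64245 F235653)
theorem F308989 : act 5 n131655 = n70390 := (sb E64245 (iv5 D149811))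
theorem F308990 : act 0 n131344 = n120649 := (sb E64246 F279489)
theorem E67331 : n77247 = n62787 := (((F109910).symm.trans (sb E64248 (iv0 F116011)))).symm
theorem F308991 : act 3 n70815 = n157677 := (sb E64248 (iv3 F248449))
theorem E67332 : n80269 = n76977 := (((iv4 F305656)).symm.trans (sb E64248 (iv4 F115705)))
theorem F308992 : act 5 n70815 = n34400 := (sb E64248 (iv5 D75123))
theorem E67334 : n62822 = n58612 := (((iv0 F112626)).symm.trans (sb E64249 F131679))
theorem E67335 : n157680 = n55258 := ((D157680).symm.trans (sb E64249 F199741))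
theorem E67336 : n131112 = n54414 := (((iv7 F209987)).symm.trans (sb E64249 F199743))
theorem E67339 : n34393 = n33874 := ((D34393).symm.trans (sb E64250 (iv6 D73720)))
theorem E67340 : n76978 = n35467 := (((F57761).symm.trans (sb E64251 (iv4 F115712)))).symm
theorem F308993 : act 5 n36827 = n34392 := (sb E64251 (iv5 D75095))
theorem F308994 : act 6 n26317 = n34392 := (sb E64252 (iv6 D75096))
theorem E67343 : n76199 = n62093 := ((((iv4 F96762)).symm.trans (sb E64253 F166846))).symm
theorem E67345 : n76196 = n28838 := ((((iv4 F46479)).symm.trans (sb E64254 (iv4 F114161)))).symm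
theorem E67346 : n155438 = n6612 := ((((iv6 D13916)).symm.trans (sb E64254 D155438))).symm
theorem E67347 : n76963 = n62453 := ((((iv1 F97339)).symm.trans (sb E64255 F122638))).symm
theorem E67348 : n76955 = n28978 := ((((iv0 D61196)).symm.trans (sb E64255 F122639))).symm
theorem E67349 : n166393 = n130423 := (((D130423).symm.trans (sb E64255 (iv3 F261972)))).symm
theorem E67350 : n130424 = n36395 := ((D130424).symm.trans (sb E64255 (iv5 D79892)))
theorem E67351 : n166396 = n130425 := (((D130425).symm.trans (sb E64255 (iv6 F261975)))).symm
theorem E67352 : n120905 = n62451 := (((F130950).symm.trans (sb E64255 (iv7 F304965)))).symm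
theorem E67353 : n148507 = n62876 := (((D62876).symm.trans (sb E64256 F248252))).symm
theorem E67354 : n131295 = n68678 := ((D131295).symm.trans (sb E64257 (iv5 F232583)))
theorem F308995 : act 6 n61616 = n39336 := (sb E64257 (iv6 D85059))
theorem F308996 : act 5 n31978 = n61579 := (sb E64258 F181647)
theorem E67355 : n68738 = n53669 := ((D68738).symm.trans (sb E64258 (iv6 D116445)))
theorem E67356 : n27016 = n14521 := (((F46825).symm.trans (sb E64259 (iv0 D56000)))).symm
theorem F308997 : act 3 n29158 = n39336 := (sb E64259 (iv3 F199795))
theorem E67359 : n62276 = n39355 := ((((iv2 F304102)).symm.trans (sb E64260 F213027))).symm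
theorem E67360 : n165212 = n62273 := ((D165212).symm.trans (sb E64260 (iv4 D132696)))
theorem E67361 : n131110 = n33871 := ((((iv1 D73712)).symm.trans (sb E64262 (iv1 F214970)))).symm
theorem F308998 : act 4 n73712 = n62711 := (sb E64262 F214968)
theorem E67362 : n62709 = n39362 := (((F200214).symm.trans (sb E64262 (iv7 D133609)))).symm
theorem F308999 : act 3 n72840 = n67344 := (sb E64263 F226428)
theorem F309000 : act 5 n32310 = n67344 := (sb E64264 (iv5 D143773))
theorem E67363 : n68935 = n67347 := (((iv6 F105105)).symm.trans (sb E64264 F226432))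
theorem F309001 : act 1 n86642 = n61632 := (sb E64265 (iv0 D131331))
theorem E67364 : n181518 = n124054 := (((iv2 F282611)).symm.trans (sb E64265 (tr (iv2 F248008) E65656)))
theorem E67365 : n181519 = n62797 := ((D181519).symm.trans (sb E64265 F210529))
theorem E67366 : n131157 = n123911 := ((((iv4 F198342)).symm.trans (sb E64265 (iv4 F210530)))).symm
theorem E67367 : n181286 = n61632 := ((D181286).symm.trans (sb E65526 (iv1 D131332)))
theorem E67368 : n181288 = n65341 := ((D181288).symm.trans (sb E65526 F210485))
theorem E67369 : n181289 = n124054 := ((D181289).symm.trans (sb E65526 (tr (iv7 F248010) E65656)))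
theorem E67371 : n124057 = n40144 := ((D124057).symm.trans (sb E64267 (iv5 D86592)))
theorem F309002 : act 4 n57817 = n61632 := (sb E64268 (iv4 D131333))
theorem E67373 : n124082 = n61635 := ((D124082).symm.trans (sb E64268 F210483))
theorem E67376 : n141689 = n68425 := ((((iv5 F155147)).symm.trans (sb E64270 (iv5 F224736)))).symm
theorem E67380 : n141691 = n66857 := ((((iv4 F107426)).symm.trans (sb E64271 (iv4 F224737)))).symm
theorem E67381 : n68471 = n31016 := ((D68471).symm.trans (sb E64271 (iv6 D66447)))
theorem F309003 : act 4 n18752 = n13893 := (sb E64272 (iv4 D29207))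
theorem E67382 : n150015 = n61636 := (((D61636).symm.trans (sb E64273 (iv3 F235992)))).symm
theorem E67386 : n75985 = n62799 := ((F121586).symm.trans (sb E64277 F185213))
theorem E67387 : n62797 = n45219 := ((((iv0 F71282)).symm.trans (sb E64277 F185214))).symm
theorem F309004 : act 3 n39570 = n29726 := (sb E64277 F98010)
theorem E67388 : n85648 = n33393 := ((D85648).symm.trans (sb E64277 F185216))
theorem E67389 : n85649 = n61593 := ((D85649).symm.trans (sb E64277 F98011))
theorem F309005 : act 3 n39571 = n68107 := (sb E64278 F228270)
theorem E67390 : n68104 = n27874 := (((F60446).symm.trans (sb E64278 (iv7 D145278)))).symm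
theorem F309006 : act 1 n39643 = n75124 := (sb E64279 F221593)
theorem F309007 : act 4 n39643 = n68107 := (sb E64279 F221590)
theorem E67392 : n64990 = n27881 := (((F60534).symm.trans (sb E64279 (iv7 D138355)))).symm
theorem E67394 : n149853 = n29705 := ((((iv3 D62789)).symm.trans (sb E64282 (iv3 F235703)))).symm
theorem F309008 : act 6 n62789 = n32690 := (sb E64282 (iv6 D70443))
theorem F309009 : act 0 n70869 = n49876 := (sb E64284 (iv1 D107999))
theorem F309010 : act 5 n70869 = n61836 := (sb E64284 (iv5 F166865))
theorem E67395 : n120650 = n33400 := ((D120650).symm.trans (sb E64285 F94663))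
theorem E67396 : n127940 = n120651 := (((D120651).symm.trans (sb E64285 D127940))).symm
theorem F309011 : act 1 n81680 = n119747 := (sb E64286 F307141)
theorem E67397 : n170333 = n78336 := ((D170333).symm.trans (sb E64286 F307142))
theorem E67398 : n170320 = n60184 := (((iv6 F267822)).symm.trans (sb E64286 (iv6 D128070)))
theorem F309012 : act 7 n81680 = n106004 := (sb E64286 F307143)
theorem F309013 : act 1 n60224 = n86581 := (sb E64287 (iv0 D181330))
theorem E67399 : n119780 = n70483 := ((D119780).symm.trans (sb E64288 (iv5 D149899)))
theorem F309014 : act 7 n55115 = n86581 := (sb E64288 F235774)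
theorem E67400 : n74969 = n62721 := ((((iv1 F304236)).symm.trans (sb E64290 (iv1 F189812)))).symm
theorem F309015 : act 1 n36160 = n55298 := (sb E64290 (iv0 D120180))
theorem E67401 : n76177 = n36517 := ((((iv4 F57363)).symm.trans (sb E64290 F189811))).symm
theorem F309016 : act 0 n118131 = n118407 := (sb E64292 (iv1 F215312))
theorem F309017 : act 1 n118131 = n118404 := (sb E64292 F215313)
theorem E67402 : n160627 = n130472 := ((F253734).symm.trans (sb E64292 F215309))
theorem E67403 : n118131 = n49809 := (((D49809).symm.trans (iv5 (sb E64292 (tr F215310 E64534))))).symm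
theorem E67404 : n133756 = n49809 := (E64292).trans E67403
theorem E67405 : n62792 = n28350 := (((F78712).symm.trans (sb E67404 (iv7 D133756)))).symm
theorem F309019 : act 3 n119845 = n70753 := (sb E64294 (iv3 D150273))
theorem F309020 : act 0 n71706 = n55298 := (sb E64295 (iv1 D120181))
theorem E67407 : n77441 = n76163 := (((iv4 F304248)).symm.trans (sb E64295 F189818))
theorem F309021 : act 5 n71706 = n70753 := (sb E64295 F189817)
theorem E67408 : n73711 = n61509 := (((iv0 F189109)).symm.trans (sb E64296 (iv0 D131109)))
theorem F309022 : act 4 n119830 = n62823 := (sb E64296 (iv4 F209985))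
theorem F309023 : act 6 n119830 = n70753 := (sb E64296 F209984)
theorem E67409 : n150455 = n49875 := (((D49875).symm.trans (sb E64298 (iv3 F236892)))).symm
theorem E67410 : n153549 = n65345 := (((F222365).symm.trans (sb E64301 (iv0 F252342)))).symm
theorem E67411 : n157039 = n118917 := (((iv3 F247134)).symm.trans (sb E64301 F252339))
theorem E67412 : n154915 = n67156 := (((F222361).symm.trans (sb E64301 F252341))).symm
theorem E67413 : n178722 = n65330 := ((((iv7 D139184)).symm.trans (sb E64301 (iv7 F278562)))).symm
theorem F309024 : act 3 n149330 = n74167 := (sb E64302 (iv3 D155945))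
theorem F309025 : act 5 n149330 = n133965 := (sb E64302 F244955)
theorem F309026 : act 7 n149330 = n128487 := (sb E64302 F244956)
theorem F309027 : act 0 n139181 = n71009 := (sb E64303 (iv1 D150639))
theorem F309028 : act 2 n133819 = n62848 := (sb E64304 F215487)
theorem F309029 : act 7 n133819 = n62847 := (sb E64304 (iv7 D133832))
theorem F309030 : act 1 n101334 = n88085 := (sb E64305 (iv0 F286766))
theorem F309031 : act 5 n101334 = n86971 := (sb E64305 (iv5 D182130))
theorem F309032 : act 0 n81809 = n88085 := (sb E64306 (iv1 D184723))
theorem E67414 : n177131 = n38927 := ((((iv1 F75495)).symm.trans (sb E64307 D177131))).symm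
theorem E67416 : n103698 = n38924 := ((D103698).symm.trans (sb E64307 (iv2 D84413)))
theorem E67417 : n177133 = n103699 := (((D103699).symm.trans (sb E64307 D177133))).symm
theorem E67418 : n177134 = n103700 := (((D103700).symm.trans (sb E64307 D177134))).symm
theorem E67419 : n177135 = n103701 := (((D103701).symm.trans (sb E64307 D177135))).symm
theorem E67420 : n103703 = n38925 := ((D103703).symm.trans (sb E64307 (iv7 F129565)))
theorem F309033 : act 0 n86459 = n129895 := (sb E64313 (iv1 F212275))
theorem F309034 : act 3 n86459 = n61671 := (sb E64313 F210575)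
theorem E67421 : n181030 = n132906 := ((D181030).symm.trans (sb E64313 (iv4 F213496)))
theorem E67422 : n181031 = n61675 := ((D181031).symm.trans (sb E64313 F210576))
theorem E67423 : n181032 = n61655 := ((D181032).symm.trans (sb E64313 (iv6 D131364)))
theorem E67424 : n181033 = n132989 := ((D181033).symm.trans (sb E64313 (iv7 F213635)))
theorem F309035 : act 0 n131391 = n86831 := (sb E64314 (iv1 D181811))
theorem F309036 : act 1 n131391 = n119220 := (sb E64314 (iv0 F282996))
theorem E67425 : n98944 = n61680 := (((F210599).symm.trans (sb E64314 (iv2 F282997)))).symm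
theorem E67426 : n172425 = n132910 := ((((iv3 F213510)).symm.trans (sb E64314 F282998))).symm
theorem E67427 : n133003 = n121440 := (((iv7 F213654)).symm.trans (sb E64314 (iv7 F283000)))
theorem F309037 : act 0 n101306 = n62860 := (sb E64315 (iv1 D133849))
theorem F309038 : act 1 n101306 = n62866 := (sb E64315 F215514)
theorem F309039 : act 2 n101306 = n62865 := (sb E64315 F215517)
theorem F309040 : act 3 n101306 = n131490 := (sb E64315 F215521)
theorem F309041 : act 4 n101306 = n133757 := (sb E64315 F215518)
theorem F309042 : act 6 n101306 = n131740 := (sb E64315 (iv6 F215520))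
theorem F309043 : act 0 n101303 = n62865 := (sb E64318 (iv1 F215529))
theorem F309044 : act 2 n101303 = n62866 := (sb E64318 F215524)
theorem F309045 : act 3 n101303 = n131639 := (sb E64318 F215525)
theorem F309046 : act 4 n101303 = n74890 := (sb E64318 F215526)
theorem F309047 : act 5 n101303 = n127863 := (sb E64318 F215527)
theorem F309048 : act 6 n101303 = n127938 := (sb E64318 F215528)
theorem F309049 : act 7 n101303 = n62860 := (sb E64318 (iv7 D133850))
theorem F309050 : act 0 n71228 = n69823 := (sb E64319 (iv1 D148941))
theorem F309051 : act 5 n71228 = n84439 := (sb E64319 F304991)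
theorem F309052 : act 3 n71080 = n80474 := (sb E64320 F234014)
theorem F309053 : act 7 n71080 = n69823 := (sb E64320 (iv7 D148943))
theorem E67428 : n50012 = n18485 := (((iv3 F79119)).symm.trans (sb E64321 F59955))
theorem F309054 : act 6 n29698 = n18484 := (sb E64321 (iv6 D38918))
theorem F309055 : act 1 n29741 = n54774 := (sb E64323 F232310)
theorem E67429 : n62151 = n16792 := (((iv3 F96883)).symm.trans (sb E64323 (iv3 D34675)))
theorem E67430 : n75840 = n62845 := (((D62845).symm.trans (sb E64323 D75840))).symm
theorem E67431 : n75841 = n62846 := (((D62846).symm.trans (sb E64323 D75841))).symm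
theorem F309056 : act 0 n61765 = n54774 := (sb E64326 (iv1 F232275))
theorem E67432 : n131636 = n32299 := ((D131636).symm.trans (sb E64326 (iv5 D69572)))
theorem F309057 : act 1 n61766 = n37333 := (sb E64327 (iv0 D81678))
theorem E67434 : n131288 = n69763 := (((D69763).symm.trans (sb E64328 F215182))).symm
theorem E67436 : n150280 = n131289 := ((D150280).symm.trans (sb E64329 F215184))
theorem F309058 : act 0 n61613 = n32805 := (sb E64330 (iv1 F107237))
theorem F309059 : act 1 n61613 = n32804 := (sb E64330 F107238)
theorem F309060 : act 2 n61613 = n32807 := (sb E64330 F107233)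
theorem F309061 : act 6 n61613 = n69797 := (sb E64330 F107235)
theorem F309062 : act 7 n61613 = n32799 := (sb E64330 (iv7 D70759))
theorem F309063 : act 0 n101291 = n131491 := (sb E64334 (iv1 F215550))
theorem F309064 : act 1 n101291 = n127857 := (sb E64334 (iv0 F215547))
theorem F309065 : act 2 n101291 = n131489 := (sb E64334 F215543)
theorem F309066 : act 4 n101291 = n152619 := (sb E64334 (iv4 F239820))
theorem F309067 : act 7 n101291 = n131490 := (sb E64334 F215542)
theorem F309068 : act 4 n62793 = n47167 := (sb E64335 (iv4 D101305))
theorem F309069 : act 1 n34323 = n55596 := (sb E64336 (iv0 F299069))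
theorem F309070 : act 2 n34323 = n18972 := (sb E64336 F60932)
theorem F309071 : act 5 n34323 = n18932 := (sb E64336 (iv5 D40050))
theorem F309072 : act 6 n34323 = n47167 := (sb E64336 (iv6 F74455))
theorem E67438 : n75991 = n60039 := ((((iv7 F94549)).symm.trans (sb E64336 (iv7 F299074)))).symm
theorem F309073 : act 4 n28558 = n18972 := (sb E64341 (iv4 D40163))
theorem F309074 : act 1 n34319 = n18972 := (sb E64343 F297816)
theorem E67442 : n75994 = n62930 := ((((iv6 F209857)).symm.trans (sb E64343 D75994))).symm
theorem F309075 : act 7 n34319 = n55596 := (sb E64343 (iv7 F87939))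
theorem F309076 : act 0 n34327 = n18972 := (sb E64344 (iv1 D40162))
theorem F309077 : act 2 n34327 = n55596 := (sb E64344 (iv2 F299071))
theorem E67444 : n86657 = n74910 := (((D74910).symm.trans (sb E64344 D86657))).symm
theorem F309078 : act 0 n28557 = n55596 := (sb E64345 (iv1 F299070))
theorem F309079 : act 5 n28557 = n18973 := (sb E64345 F61057)
theorem F309080 : act 7 n28557 = n18972 := (sb E64345 (iv7 D40164))
theorem F309081 : act 3 n62692 = n86599 := (sb E64346 (iv3 D181383))
theorem F309082 : act 5 n136618 = n86599 := (sb E64347 (iv5 D181384))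
theorem F309083 : act 7 n97944 = n86599 := (sb E64348 F279592)
theorem F309084 : act 1 n30650 = n45217 := (sb E64351 (iv0 D96756))
theorem E67446 : n150417 = n86598 := ((D150417).symm.trans (sb E64353 (iv3 D181378)))
theorem F309085 : act 4 n136655 = n86598 := (sb E64354 (iv4 D181379))
theorem E67447 : n60315 = n18486 := ((((iv5 F29670)).symm.trans (sb E64355 (iv5 D128304)))).symm
theorem E67448 : n60319 = n21575 := (((D21575).symm.trans (sb E64355 F206423))).symm
theorem E67453 : n54368 = n31561 := ((D54368).symm.trans (sb E64360 (iv6 D67894)))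
theorem F309086 : act 5 n32738 = n29203 := (sb E64361 (iv5 D61638))
theorem F309087 : act 7 n32738 = n49876 := (sb E64361 F96203)
theorem F309088 : act 6 n34145 = n71518 := (sb E64369 F305135)
theorem F309089 : act 0 n15811 = n24407 := (sb E64372 F54514)
theorem E67462 : n30601 = n7340 := (((F25799).symm.trans (sb E64374 (iv5 D65193)))).symm
theorem E67463 : n30604 = n5971 := ((((iv6 F26424)).symm.trans (sb E64374 F100953))).symm
theorem E67465 : n70269 = n49025 := ((D70269).symm.trans (sb E64378 (iv6 D106081)))
theorem E67466 : n150452 = n29258 := ((((iv1 F184623)).symm.trans (sb E64379 D150452))).symm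
theorem E67467 : n150453 = n69901 := ((((iv0 F184624)).symm.trans (sb E64379 D150453))).symm
theorem E67468 : n108394 = n38560 := ((D108394).symm.trans (sb E64379 F107443))
theorem F309090 : act 6 n50051 = n32851 := (sb E64379 (iv6 D70901))
theorem E67470 : n49028 = n17020 := (((D17020).symm.trans (sb E64381 (iv6 D106086)))).symm
theorem E67471 : n70255 = n32900 := ((((iv1 F52084)).symm.trans (sb E64382 (iv1 F187506)))).symm
theorem E67472 : n70259 = n49027 := (((D49027).symm.trans (sb E64382 (iv0 F187507)))).symm
theorem F309091 : act 6 n23916 = n15436 := (sb E64382 (iv6 D32614))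
theorem E67474 : n150433 = n49866 := ((((iv3 F78858)).symm.trans (sb E64383 D150433))).symm
theorem E67476 : n66848 = n17018 := (((D17018).symm.trans (sb E64384 F206562))).symm
theorem E67477 : n70234 = n15000 := ((((iv1 D31866)).symm.trans (sb E64385 (iv1 F214965)))).symm
theorem E67478 : n70238 = n31562 := (((F50172).symm.trans (sb E64385 (iv0 F214962)))).symm
theorem F309092 : act 6 n31866 = n15435 := (sb E64385 (iv6 D32612))
theorem F309093 : act 5 n29723 = n32850 := (sb E64386 (iv5 D70897))
theorem F309094 : act 0 n50050 = n70390 := (sb E64387 (iv1 F107422))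
theorem F309095 : act 1 n50050 = n34728 := (sb E64387 (iv0 F130792))
theorem F309096 : act 7 n50050 = n32850 := (sb E64387 (iv7 D70898))
theorem F309097 : act 3 n25673 = n12373 := (sb E64388 F41294)
theorem E67482 : n53978 = n12197 := ((((iv4 D25673)).symm.trans (sb E64388 (iv4 F85164)))).symm
theorem E67483 : n52889 = n12372 := ((D52889).symm.trans (sb E64388 (iv6 D26107)))
theorem E67485 : n53787 = n26284 := ((((iv3 F41842)).symm.trans (sb E64389 (iv3 F84806)))).symm
theorem F309098 : act 4 n12488 = n12373 := (sb E64389 F41108)
theorem E67486 : n53790 = n5937 := ((((iv5 D12488)).symm.trans (sb E64389 D53790))).symm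
theorem E67487 : n26286 = n12329 := ((D26286).symm.trans (sb E64389 (iv6 D26012)))
theorem F309099 : act 2 n15570 = n14975 := (sb E64390 F27077)
theorem F309100 : act 5 n15570 = n12373 := (sb E64390 F27078)
theorem E67492 : n67256 = n26288 := ((((iv3 F41856)).symm.trans (sb E64392 (iv3 F103169)))).symm
theorem F309101 : act 4 n12491 = n14976 := (sb E64392 F49570)
theorem E67493 : n67270 = n5941 := ((((iv5 D12491)).symm.trans (sb E64392 (iv5 F103174)))).symm
theorem E67494 : n53800 = n26291 := (((D26291).symm.trans (sb E64392 (iv6 F84832)))).symm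
theorem E67496 : n76797 = n14889 := (((F41209).symm.trans (sb E64393 (iv0 F234688)))).symm
theorem E67499 : n30781 = n17032 := ((((iv3 F27913)).symm.trans (sb E64394 (iv3 F49225)))).symm
theorem E67500 : n30788 = n3601 := ((((iv5 D7958)).symm.trans (sb E64394 D30788))).symm
theorem E67501 : n17035 = n6966 := ((D17035).symm.trans (sb E64394 (iv6 D14581)))
theorem E67502 : n115873 = n17039 := ((((iv3 F27933)).symm.trans (sb E64395 (iv3 F180384)))).symm
theorem E67504 : n30913 = n17042 := (((D17042).symm.trans (sb E64395 F84284))).symm
theorem E67510 : n119892 = n6707 := ((((iv1 F26547)).symm.trans (sb E64397 (iv1 F189262)))).symm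
theorem F309102 : act 4 n7161 = n14973 := (sb E64398 (iv4 D31814))
theorem E67515 : n68378 = n15051 := ((((iv6 F24682)).symm.trans (sb E64398 D68378))).symm
theorem E67516 : n157294 = n55285 := ((D157294).symm.trans (sb E64400 (iv0 F166698)))
theorem E67517 : n157281 = n118520 := (((iv2 F247511)).symm.trans (sb E64400 (iv2 F186427)))
theorem E67518 : n157295 = n55027 := ((D157295).symm.trans (sb E64400 F305945))
theorem E67519 : n85273 = n34265 := ((((iv5 D74785)).symm.trans (sb E64400 F200246))).symm
theorem F309103 : act 6 n74785 = n73978 := (sb E64400 F166697)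
theorem E67520 : n156837 = n76570 := (((iv3 F246798)).symm.trans (sb E64401 (iv3 F305869)))
theorem E67521 : n156843 = n152591 := ((D156843).symm.trans (sb E64401 F303989))
theorem E67522 : n39464 = n34201 := ((((iv5 D74589)).symm.trans (sb E64401 (iv5 D85455)))).symm
theorem E67523 : n156844 = n152318 := ((D156844).symm.trans (sb E64401 F239467))
theorem F309104 : act 0 n55329 = n34230 := (sb E64402 F245871)
theorem E67524 : n156851 = n26738 := (((F87558).symm.trans (sb E64402 (iv3 F246838)))).symm
theorem E67526 : n34202 = n27818 := ((((iv5 F87559)).symm.trans (sb E64402 (iv5 D74594)))).symm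
theorem E67528 : n58429 = n34262 := (((D34262).symm.trans (sb E64403 (iv1 F92286)))).symm
theorem E67529 : n34263 = n18676 := ((D34263).symm.trans (sb E64403 (iv0 D39405)))
theorem E67530 : n85271 = n34257 := ((((iv4 F53914)).symm.trans (sb E64403 D85271))).symm
theorem E67531 : n58435 = n24361 := ((((iv7 F38180)).symm.trans (sb E64403 (iv7 F199933)))).symm
theorem F309105 : act 6 n30653 = n54943 := (sb E64404 (iv6 F131020))
theorem E67532 : n72193 = n34146 := ((((iv1 F53618)).symm.trans (sb E64406 F166690))).symm
theorem E67534 : n73647 = n34224 := (((D34224).symm.trans (sb E64408 F130401))).symm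
theorem E67535 : n85094 = n34225 := (((D34225).symm.trans (sb E64408 F130506))).symm
theorem E67536 : n39375 = n34223 := ((((iv2 F53854)).symm.trans (sb E64408 F186120))).symm
theorem E67537 : n178576 = n34226 := (((D34226).symm.trans (sb E64408 D178576))).symm
theorem E67538 : n39324 = n7690 := ((((iv5 D16560)).symm.trans (sb E64408 (iv5 D85038)))).symm
theorem E67540 : n32984 = n7688 := (((D7688).symm.trans (sb E64409 (iv1 F86163)))).symm
theorem E67543 : n118047 = n2444 := (((F5475).symm.trans (sb E64409 (iv6 F185432)))).symm
theorem E67544 : n76744 = n34233 := (((D34233).symm.trans (sb E64410 F235971))).symm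
theorem E67547 : n118425 = n14531 := (((D14531).symm.trans (sb E64412 D118425))).symm
theorem E67548 : n30819 = n18661 := ((D30819).symm.trans (sb E64414 F60321))
theorem E67549 : n85122 = n6972 := ((((iv4 D14593)).symm.trans (sb E64414 D85122))).symm
theorem E67550 : n29647 = n18659 := (((iv5 F47633)).symm.trans (sb E64414 (iv5 D39361)))
theorem E67551 : n54749 = n14642 := ((((iv6 F24323)).symm.trans (sb E64414 (iv6 F199840)))).symm
theorem E67552 : n150716 = n6693 := ((((iv4 D14078)).symm.trans (sb E64415 (iv4 F237277)))).symm
theorem E67553 : n117715 = n29639 := ((((iv6 F47619)).symm.trans (sb E64415 F187057))).symm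
theorem E67554 : n58615 = n7070 := ((((iv1 F11322)).symm.trans (sb E64416 (iv1 D125256)))).symm
theorem E67556 : n71070 = n5345 := ((((iv7 F8125)).symm.trans (sb E64416 F201422))).symm
theorem E67557 : n24362 = n16093 := ((D24362).symm.trans (sb E64417 (iv6 D33325)))
theorem E67559 : n38919 = n24386 := ((((iv0 F55508)).symm.trans (sb E64418 F113892))).symm
theorem E67562 : n108357 = n37351 := ((D108357).symm.trans (sb E64419 F125636))
theorem E67563 : n108358 = n80577 := ((D108358).symm.trans (sb E64419 (iv0 F301031)))
theorem F309106 : act 2 n50036 = n80575 := (sb E64419 F299140)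
theorem E67564 : n108356 = n76941 := (((iv7 F167533)).symm.trans (sb E64419 (iv7 F115630)))
theorem E67569 : n181588 = n68332 := ((((iv5 F104510)).symm.trans (sb E64423 F301177))).symm
theorem E67571 : n170224 = n49865 := (((D49865).symm.trans (sb E64424 F267738))).symm
theorem E67572 : n96701 = n49853 := ((((iv2 F78846)).symm.trans (sb E64424 F235606))).symm
theorem E67574 : n30529 = n13292 := (((iv4 F48923)).symm.trans (sb E64427 F44999))
theorem E67575 : n85126 = n66164 := (((iv0 F200219)).symm.trans (sb E64435 (iv0 D141084)))
theorem E67576 : n157145 = n70579 := ((F247309).symm.trans (sb E64436 (iv0 F235910)))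
theorem F309109 : act 3 n139277 = n72638 := (sb E64436 F235908)
theorem F309111 : act 6 n139277 = n70540 := (sb E64436 (iv6 D149968))
theorem E67577 : n65361 = n33274 := (((D33274).symm.trans (sb E64437 (iv6 D139261)))).symm
theorem F309112 : act 6 n30655 = n33271 := (sb E64439 (iv6 D72040))
theorem F309113 : act 5 n49977 = n74862 := (sb E64440 F240177)
theorem E67578 : n72191 = n65619 := ((((iv7 F101357)).symm.trans (sb E64440 (iv7 D152944)))).symm
theorem E67579 : n156993 = n86521 := (((F306656).symm.trans (sb E64442 (iv2 F247092)))).symm
theorem F309114 : act 3 n58371 = n62826 := (sb E64442 (iv3 D133781))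
theorem E67580 : n65245 = n27787 := ((((iv5 D58371)).symm.trans (sb E64442 F215412))).symm
theorem E67581 : n135283 = n75713 := (((iv1 F217507)).symm.trans (sb E64443 (iv1 D158717)))
theorem E67582 : n129556 = n82498 := ((F215417).symm.trans (sb E64443 F249898))
theorem E67583 : n184034 = n135400 := ((((iv3 F217635)).symm.trans (sb E64443 (iv3 F285981)))).symm
theorem E67584 : n124764 = n34194 := ((((iv1 F53811)).symm.trans (sb E64444 (iv1 F200502)))).symm
theorem E67585 : n32975 = n14520 := ((((iv0 D30623)).symm.trans (sb E64444 (iv0 F200503)))).symm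
theorem E67586 : n124837 = n65246 := (((D65246).symm.trans (sb E64444 D124837))).symm
theorem E67587 : n124839 = n65248 := (((D65248).symm.trans (sb E64444 D124839))).symm
theorem F309115 : act 0 n133783 = n72633 := (sb E64445 (iv1 D153605))
theorem F309116 : act 3 n133783 = n124847 := (sb E64445 F241449)
theorem F309117 : act 4 n133783 = n167767 := (sb E64445 (iv4 F264138))
theorem F309118 : act 5 n133783 = n153924 := (sb E64445 F241928)
theorem F309119 : act 7 n133783 = n152595 := (sb E64445 F241450)
theorem E67588 : n135390 = n70726 := ((D135390).symm.trans (sb E64446 (iv6 D150249)))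
theorem E67589 : n124854 = n65250 := (((D65250).symm.trans (sb E64447 (iv3 F200532)))).symm
theorem E67592 : n181111 = n62827 := ((F308250).symm.trans (sb E64448 (iv6 D133785)))
theorem E67593 : n108202 = n58318 := ((D108202).symm.trans (sb E64449 F199654))
theorem E67594 : n179608 = n108203 := (((D108203).symm.trans (sb E64449 F279723))).symm
theorem E67595 : n108205 = n72215 := ((D108205).symm.trans (sb E64449 (iv6 F200290)))
theorem E67596 : n150028 = n108207 := (((D108207).symm.trans (sb E64450 (iv3 F236024)))).symm
theorem E67597 : n179607 = n108208 := (((D108208).symm.trans (sb E64450 (iv4 F279720)))).symm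
theorem E67598 : n147490 = n108210 := (((D108210).symm.trans (sb E64450 F231276))).symm
theorem E67599 : n54742 = n34247 := (((D34247).symm.trans (sb E64451 (iv6 D118954)))).symm
theorem E67600 : n73951 = n60954 := ((F206541).symm.trans (sb E64454 (iv1 D129787)))
theorem E67601 : n155772 = n132636 := (((iv0 F244784)).symm.trans (sb E64454 F212909))
theorem F309120 : act 4 n119585 = n61079 := (sb E64454 F208136)
theorem E67602 : n129216 = n79053 := (((F188579).symm.trans (sb E64454 F208135))).symm
theorem E67603 : n148048 = n66475 := ((E65737).symm.trans ((D149815).symm.trans (sb E64457 (iv5 D141778))))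
theorem E67604 : n144483 = n28674 := (((F109831).symm.trans (sb E64458 (iv1 F227319)))).symm
theorem E67605 : n74868 = n62241 := ((((iv1 F97036)).symm.trans (sb E64459 (tr D149820 E67223)))).symm
theorem E67606 : n74867 = n53815 := (((F96726).symm.trans (sb E64459 (tr D149821 E67222)))).symm
theorem E67607 : n149815 = n66475 := (E65737).trans E67603
theorem F309121 : act 5 n31036 = n32676 := (sb E64459 (iv5 D70398))
theorem E67609 : n76791 = n14681 := ((((iv6 D31036)).symm.trans (sb E64459 (iv6 F115257)))).symm
theorem E67611 : n156765 = n74859 := ((((iv3 F112360)).symm.trans (sb E64462 (iv3 F246596)))).symm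
theorem E67612 : n71099 = n34189 := (((iv4 F107629)).symm.trans (sb E64462 F111951))
theorem E67615 : n150700 = n14499 := ((((iv4 D30564)).symm.trans (sb E64464 (iv4 F237250)))).symm
theorem E67616 : n120192 = n65081 := (((D65081).symm.trans (sb E64464 (iv5 F189840)))).symm
theorem E67617 : n148060 = n50589 := ((((iv6 F79959)).symm.trans (sb E64464 F231872))).symm
theorem E67619 : n54756 = n12281 := ((((iv6 D25873)).symm.trans (sb E64465 F187044))).symm
theorem E67620 : n71068 = n14821 := ((((iv7 F24485)).symm.trans (sb E64466 (iv7 D150725)))).symm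
theorem F309122 : act 5 n30745 = n49827 := (sb E64467 F78759)
theorem E67621 : n34249 = n16092 := (((iv6 F53892)).symm.trans (sb E64467 (iv6 D33323)))
theorem E67623 : n85064 = n64982 := ((((iv5 F210487)).symm.trans (sb E64469 F233002))).symm
theorem E67624 : n39373 = n14525 := ((((iv5 D30647)).symm.trans (sb E64470 (iv5 D85156)))).symm
theorem E67626 : n86813 = n14356 := ((((iv4 F23969)).symm.trans (sb E64471 (iv4 F186103)))).symm
theorem E67627 : n149715 = n3174 := (((F11208).symm.trans (sb E64471 F235410))).symm
theorem E67630 : n39391 = n14517 := (((D14517).symm.trans (sb E64474 (iv3 F199863)))).symm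
theorem E67631 : n32996 = n14519 := (((D14519).symm.trans (sb E64474 F86162))).symm
theorem E67632 : n14522 = n7448 := ((D14522).symm.trans (sb E64475 (iv6 D15881)))
theorem E67633 : n71107 = n3121 := (((D3121).symm.trans (sb E64476 F186128))).symm
theorem E67634 : n54494 = n3122 := (((D3122).symm.trans (sb E64476 F186129))).symm
theorem E67638 : n117722 = n3172 := (((D3172).symm.trans (sb E64477 (iv1 F184362)))).symm
theorem E67639 : n33311 = n3173 := (((D3173).symm.trans (sb E64477 (iv0 F106774)))).symm
theorem F309123 : act 1 n54614 = n26721 := (sb E64480 (iv0 D55294))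
theorem E67641 : n120165 = n34225 := (((E67535).symm.trans (((iv2 F130433)).symm.trans (sb E64480 D120165)))).symm
theorem E67644 : n61475 = n58408 := ((((iv5 F92252)).symm.trans (sb E64480 (iv5 F220204)))).symm
theorem E67647 : n120171 = n86524 := ((D120171).symm.trans (sb E64481 F305574))
theorem E67648 : n175369 = n120172 := (((D120172).symm.trans (sb E64481 (iv4 F274419)))).symm
theorem E67649 : n72082 = n61476 := ((((iv5 F220200)).symm.trans (sb E64481 F130499))).symm
theorem E67650 : n120174 = n73602 := ((D120174).symm.trans (sb E64481 (iv6 F130502)))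
theorem E67652 : n39325 = n34210 := (((F87507).symm.trans (sb E64482 F87546))).symm
theorem E67653 : n120147 = n119139 := ((D120147).symm.trans (sb E64483 (iv1 F275801)))
theorem E67654 : n178738 = n120148 := (((D120148).symm.trans (sb E64483 F278580))).symm
theorem E67655 : n172281 = n26719 := ((((iv3 D55288)).symm.trans (sb E64483 (iv3 F270534)))).symm
theorem E67656 : n175395 = n120150 := (((D120150).symm.trans (sb E64483 (iv5 F274435)))).symm
theorem E67657 : n120151 = n119114 := ((D120151).symm.trans (sb E64483 (iv6 F187397)))
theorem E67658 : n34216 = n8759 := ((F246628).symm.trans (sb E64484 (iv1 D18664)))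
theorem E67659 : n39327 = n34211 := ((((iv0 F246633)).symm.trans (sb E64484 F60296))).symm
theorem E67660 : n39379 = n34096 := ((((iv4 F53509)).symm.trans (sb E64484 D39379))).symm
theorem E67661 : n39381 = n34228 := (((D34228).symm.trans (sb E64484 D39381))).symm
theorem F309124 : act 3 n54813 = n26722 := (sb E64485 F87512)
theorem F309125 : act 6 n54813 = n26721 := (sb E64485 (iv6 D55297))
theorem E67665 : n70883 = n26723 := (((D26723).symm.trans (sb E64487 (iv1 F107398)))).symm
theorem E67668 : n70561 = n26724 := (((D26724).symm.trans (sb E64487 F186204))).symm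
theorem E67671 : n151221 = n7693 := (((D7693).symm.trans (sb E64488 D151221))).symm
theorem E67672 : n118640 = n14764 := ((((iv1 F26235)).symm.trans (sb E64489 F186604))).symm
theorem E67673 : n118644 = n14763 := (((F26236).symm.trans (sb E64489 F189562))).symm
theorem F309126 : act 1 n32731 = n26722 := (sb E64490 F79214)
theorem F309127 : act 4 n32731 = n24408 := (sb E64490 (iv4 D50049))
theorem F309128 : act 7 n32730 = n26722 := (sb E64491 (iv7 D55299))
theorem E67675 : n179593 = n64111 := ((((iv4 F99793)).symm.trans (sb E64492 (iv4 F279689)))).symm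
theorem E67676 : n72220 = n50664 := ((((iv6 F80018)).symm.trans (sb E64492 F240202))).symm
theorem E67679 : n72221 = n11680 := ((((iv6 F19016)).symm.trans (sb E64493 F240211))).symm
theorem E67680 : n54752 = n12365 := (((F46772).symm.trans (sb E64495 (iv1 F86603)))).symm
theorem E67681 : n16097 = n14943 := (((F46773).symm.trans (sb E64495 (iv0 D33337)))).symm
theorem E67682 : n72222 = n50665 := (((D50665).symm.trans (sb E64495 D72222))).symm
theorem E67684 : n61477 = n18656 := ((D61477).symm.trans (sb E64496 F130149))
theorem E67685 : n85023 = n61444 := ((((iv4 F95944)).symm.trans (sb E64496 D85023))).symm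
theorem E67686 : n61478 = n18649 := ((D61478).symm.trans (sb E64496 (iv5 D39317)))
theorem E67687 : n85024 = n61474 := ((((iv6 F95979)).symm.trans (sb E64496 D85024))).symm
theorem E67690 : n60887 = n32234 := (((iv1 F95429)).symm.trans (sb E64499 (iv1 F105628)))
theorem E67691 : n60889 = n32229 := (((iv0 F95432)).symm.trans (sb E64499 (iv0 D69359)))
theorem E67692 : n67882 = n31158 := ((((iv5 F49509)).symm.trans (sb E64499 F105624))).symm
theorem E67695 : n85733 = n13759 := ((((iv3 F23013)).symm.trans (sb E64501 D85733))).symm
theorem E67699 : n54484 = n7700 := (((D7700).symm.trans (sb E64504 (iv6 D118304)))).symm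
theorem E67700 : n34125 = n12633 := (((iv1 F53805)).symm.trans (sb E64505 (iv1 D26472)))
theorem E67701 : n34127 = n16095 := ((F53804).symm.trans (sb E64505 F42334))
theorem E67702 : n34248 = n16367 := ((D34248).symm.trans (sb E64505 (iv5 F42336)))
theorem F309129 : act 4 n119783 = n61766 := (sb E64507 F210881)
theorem F309130 : act 6 n119783 = n61765 := (sb E64507 (iv6 D131637))
theorem F309131 : act 3 n32311 = n61765 := (sb E64509 (iv3 D131635))
theorem F309132 : act 0 n119800 = n65369 := (sb E64512 F222457)
theorem F309133 : act 0 n17128 = n29110 := (sb E64515 F79173)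
theorem F309134 : act 1 n17128 = n33493 := (sb E64515 F79174)
theorem F309135 : act 4 n17128 = n24400 := (sb E64515 (iv4 D50028))
theorem E67715 : n108319 = n37338 := (((F116787).symm.trans (sb E64518 D108319))).symm
theorem F309136 : act 2 n45173 = n24402 := (sb E64518 F79166)
theorem E67716 : n78298 = n28533 := (((iv5 F298496)).symm.trans (sb E64518 F79168))
theorem F309137 : act 6 n45173 = n24398 := (sb E64518 (iv6 D50024))
theorem F309138 : act 3 n12834 = n24401 := (sb E64519 (iv3 D50030))
theorem F309139 : act 4 n12834 = n24406 := (sb E64519 F79175)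
theorem F309140 : act 5 n12832 = n24401 := (sb E64520 (iv5 D50031))
theorem F309141 : act 4 n16853 = n24402 := (sb E64521 F79177)
theorem F309142 : act 6 n16853 = n24401 := (sb E64521 (iv6 D50032))
theorem E67726 : n96192 = n24387 := (((D24387).symm.trans (sb E64522 (iv3 F147916)))).symm
theorem E67728 : n24389 = n21433 := ((D24389).symm.trans (sb E64522 (iv5 D44908)))
theorem F309143 : act 1 n45213 = n24402 := (sb E64524 (iv0 D50033))
theorem E67732 : n108348 = n96748 := ((((iv3 F149206)).symm.trans (sb E64524 D108348))).symm
theorem E67734 : n108351 = n34726 := (((F71263).symm.trans (sb E64524 D108351))).symm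
theorem F309144 : act 0 n17931 = n24402 := (sb E64525 (iv1 D50034))
theorem E67738 : n76940 = n32792 := (((D32792).symm.trans (sb E64526 (iv7 F115628)))).symm
theorem F309145 : act 3 n35153 = n24410 := (sb E64527 F79178)
theorem F309146 : act 7 n35153 = n24402 := (sb E64527 (iv7 D50035))
theorem F309147 : act 1 n15719 = n24406 := (sb E64528 (iv0 D50042))
theorem E67740 : n60893 = n18755 := ((((iv5 F30060)).symm.trans (sb E64528 (iv5 F210963)))).symm
theorem F309148 : act 0 n36378 = n24406 := (sb E64529 (iv1 D50043))
theorem F309149 : act 2 n16846 = n24406 := (sb E64530 (iv2 D50044))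
theorem E67745 : n49787 = n28698 := (((F46261).symm.trans (sb E64530 F79197))).symm
theorem E67747 : n49788 = n27847 := ((((iv0 F44964)).symm.trans (sb E64531 F219705))).symm
theorem F309150 : act 3 n19012 = n11428 := (sb E64531 F38054)
theorem E67748 : n49766 = n27822 := (((F44966).symm.trans (sb E64531 (iv4 F78624)))).symm
theorem F309151 : act 5 n19012 = n24406 := (sb E64531 (iv5 F38262))
theorem E67749 : n49805 = n40247 := (((D40247).symm.trans (sb E64531 D49805))).symm
theorem F309152 : act 3 n15698 = n24407 := (sb E64532 F79202)
theorem E67752 : n108386 = n32794 := (((D32794).symm.trans (sb E64532 D108386))).symm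
theorem F309153 : act 6 n15698 = n24406 := (sb E64532 (iv6 D50045))
theorem E67755 : n62927 = n26026 := (((F100813).symm.trans (sb E64534 F107636))).symm
theorem E67756 : n62932 = n26022 := ((((iv0 F100814)).symm.trans (sb E64534 F208078))).symm
theorem F309154 : act 1 n32664 = n24407 := (sb E64535 F54510)
theorem F309155 : act 0 n50046 = n36827 := (sb E64536 F303010)
theorem F309156 : act 1 n50046 = n70815 := (sb E64536 F109850)
theorem E67759 : n80175 = n79990 := ((((iv4 F122772)).symm.trans (sb E64536 (iv4 F304356)))).symm
theorem E67760 : n70436 = n16593 := ((((iv3 F27075)).symm.trans (sb E64538 (iv3 F106901)))).symm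
theorem F309157 : act 6 n7713 = n15570 := (sb E64538 (iv6 D32689))
theorem E67761 : n85568 = n24302 := (((F54289).symm.trans (sb E64539 (iv1 F201324)))).symm
theorem E67762 : n85567 = n24307 := ((((iv0 F77106)).symm.trans (sb E64539 F201322))).symm
theorem E67763 : n62817 = n58574 := (((iv2 F98031)).symm.trans (sb E64539 (iv2 D125212)))
theorem E67764 : n85833 = n62819 := (((D62819).symm.trans (sb E64539 F201320))).symm
theorem E67765 : n15568 = n14512 := ((F199693).symm.trans (sb E64540 F47791))
theorem E67766 : n62821 = n18800 := (((F45004).symm.trans (sb E64540 D62821))).symm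
theorem F309158 : act 4 n27879 = n14121 := (sb E64540 (iv4 D29731))
theorem E67768 : n85611 = n29153 := (((D29153).symm.trans (sb E64541 D85611))).symm
theorem E67770 : n50019 = n18729 := (((D18729).symm.trans (sb E64542 F79140))).symm
theorem F309159 : act 3 n8784 = n14116 := (sb E64542 F47767)
theorem F309160 : act 5 n8784 = n14114 := (sb E64542 (iv5 D29722))
theorem F309161 : act 4 n8790 = n14116 := (sb E64548 F46523)
theorem F309162 : act 2 n35745 = n34014 := (sb E64553 F87436)
theorem E67776 : n120080 = n78444 := (((D78444).symm.trans (sb E64553 (iv3 F189669)))).symm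
theorem F309163 : act 4 n35745 = n26698 := (sb E64553 F87437)
theorem E67777 : n120083 = n18541 := (((F56420).symm.trans (sb E64553 D120083))).symm
theorem E67778 : n78445 = n26697 := ((D78445).symm.trans (sb E64553 (iv6 D55252)))
theorem E67780 : n159066 = n86584 := (((F307944).symm.trans (sb E64555 F250414))).symm
theorem E67781 : n96737 = n65343 := (((F210479).symm.trans (sb E64555 F235652))).symm
theorem F309164 : act 3 n127941 = n70390 := (sb E64555 (iv3 D149810))
theorem F309165 : act 4 n127941 = n150119 := (sb E64555 (iv4 F236277))
theorem E67782 : n149862 = n128479 := ((((iv3 F206627)).symm.trans (sb E64559 (iv3 F235718)))).symm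
theorem E67783 : n39487 = n35735 := ((F94944).symm.trans (sb E64559 F106906))
theorem F309166 : act 5 n60428 = n32691 := (sb E64559 (iv5 D70445))
theorem F309167 : act 7 n60428 = n118129 := (sb E64559 (iv7 F185606))
theorem E67786 : n125080 = n35737 := (((F106904).symm.trans (sb E64560 (iv4 F200946)))).symm
theorem E67787 : n149856 = n76794 := ((D149856).symm.trans (sb E64560 F133108))
theorem F309170 : act 7 n70442 = n40247 := (sb E64560 (iv7 D86822))
theorem E67788 : n58466 = n39067 := (((F119459).symm.trans (sb E64561 (iv1 D125055)))).symm
theorem E67789 : n85514 = n39069 := (((F119460).symm.trans (sb E64561 F200894))).symm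
theorem F309171 : act 4 n78262 = n108371 := (sb E64561 (iv4 F209038))
theorem E67790 : n162804 = n74070 := ((D162804).symm.trans (sb E64561 F209042))
theorem F309172 : act 4 n59972 = n108367 := (sb E64565 F245896)
theorem F309173 : act 4 n78264 = n108366 := (sb E64566 (iv4 F209043))
theorem E67793 : n149838 = n53834 := ((F235683).symm.trans (sb E64567 (tr (iv5 D145253) E65610)))
theorem E67794 : n155934 = n84346 := ((D155934).symm.trans (sb E64568 F185618))
theorem F309177 : act 7 n74160 = n84617 := (sb E64568 (iv7 F185620))
theorem E67795 : n55216 = n35713 := ((((iv1 F60082)).symm.trans (sb E64569 F209028))).symm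
theorem F309178 : act 4 n39080 = n34016 := (sb E64569 (iv4 D74161))
theorem E67798 : n155939 = n84622 := (((D84622).symm.trans (sb E64569 D155939))).symm
theorem E67800 : n128367 = n80472 := (((F299119).symm.trans (sb E64571 (iv2 F247583)))).symm
theorem F309180 : act 3 n38941 = n34015 := (sb E64571 (iv3 D74156))
theorem E67802 : n125195 = n84464 := (((D84464).symm.trans (sb E64571 (iv6 F201274)))).symm
theorem E67803 : n155929 = n58101 := ((((iv3 F91892)).symm.trans (sb E64572 D155929))).symm
theorem F309181 : act 4 n27700 = n34015 := (sb E64572 (iv4 D74157))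
theorem E67805 : n85318 = n58104 := (((D58104).symm.trans (sb E64572 (iv6 F229381)))).symm
theorem F309182 : act 0 n35748 = n34014 := (sb E64574 F208008)
theorem E67809 : n148611 = n78451 := (((D78451).symm.trans (sb E64574 (iv6 F233374)))).symm
theorem F309183 : act 1 n26954 = n34014 := (sb E64575 F208007)
theorem E67812 : n124971 = n55882 := (((D55882).symm.trans (sb E64575 (iv6 F200723)))).symm
theorem F309184 : act 2 n70975 = n78443 := (sb E64576 F193136)
theorem E67813 : n170695 = n150575 := ((((iv5 F237090)).symm.trans (sb E64576 (iv5 F268202)))).symm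
theorem F309185 : act 6 n70975 = n55879 := (sb E64576 (iv6 D121106))
theorem F309186 : act 3 n119393 = n108359 := (sb E64580 F222429)
theorem F309187 : act 6 n119393 = n65354 := (sb E64580 (iv6 D139243))
theorem E67815 : n152087 = n60785 := ((D152087).symm.trans (sb E64582 F207529))
theorem E67816 : n158946 = n157072 := ((D158946).symm.trans (sb E64583 F247169))
theorem E67817 : n158943 = n132325 := (((iv3 F250278)).symm.trans (sb E64583 (iv3 F212242)))
theorem E67818 : n60780 = n34681 := ((((iv6 D75866)).symm.trans (sb E64583 (iv6 D129325)))).symm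
theorem E67822 : n149804 = n132324 := ((((iv6 F212239)).symm.trans (sb E64585 F244001))).symm
theorem E67823 : n70467 = n27820 := ((((iv1 D58468)).symm.trans (sb E64586 (iv1 F235743)))).symm
theorem E67824 : n70456 = n39483 := (((F92351).symm.trans (sb E64586 (iv0 D149881)))).symm
theorem E67825 : n125062 = n78258 := ((D125062).symm.trans (sb E64586 F235742))
theorem E67826 : n70867 = n34353 := ((F107348).symm.trans (sb E64587 (iv0 F112474)))
theorem F309188 : act 5 n70383 = n133598 := (sb E64587 F214928)
theorem F309189 : act 6 n70383 = n34341 := (sb E64587 (iv6 D74944))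
theorem E67827 : n120184 = n70578 := (((F131046).symm.trans (sb E64587 (iv7 F189824)))).symm
theorem F309190 : act 4 n32740 = n49876 := (sb E64588 F112483)
theorem F309191 : act 0 n74954 = n73685 := (sb E64589 F232894)
theorem E67830 : n157494 = n84889 := (((iv3 F248190)).symm.trans (sb E64589 F188940))
theorem E67831 : n157495 = n55102 := ((D157495).symm.trans (sb E64589 (iv5 D119748)))
theorem F309192 : act 7 n74954 = n55121 := (sb E64589 F188941)
theorem E67832 : n133826 = n117654 := ((((iv6 F232622)).symm.trans (sb E64590 (iv6 F215485)))).symm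
theorem F309193 : act 4 n131639 = n73685 := (sb E64591 (iv4 D155175))
theorem E67834 : n125059 = n78260 := ((D125059).symm.trans (sb E64592 F235746))
theorem F309194 : act 4 n74940 = n73687 := (sb E64593 F237054)
theorem E67835 : n164587 = n71255 := (((F112472).symm.trans (sb E64593 (iv5 F259485)))).symm
theorem F309195 : act 1 n74714 = n73687 := (sb E64594 F236009)
theorem E67836 : n157144 = n73953 := (((iv3 F247304)).symm.trans (sb E64594 F236013))
theorem E67837 : n157146 = n60954 := (E67143).trans E67600
theorem F309196 : act 7 n74714 = n119198 := (sb E64594 F236010)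
theorem F309197 : act 1 n118145 = n65369 := (sb E64596 (iv0 D139274))
theorem E67844 : n53637 = n13272 := ((((iv1 F30409)).symm.trans (sb E64600 (iv1 F84628)))).symm
theorem E67845 : n53644 = n18700 := (((F30350).symm.trans (sb E64600 (iv0 F84643)))).symm
theorem F309198 : act 3 n149006 = n80458 := (sb E64601 F263923)
theorem E67847 : n158799 = n120146 := (((F234285).symm.trans (sb E64601 F299104))).symm
theorem E67848 : n128364 = n84452 := ((F234286).symm.trans (sb E64601 F299105))
theorem F309199 : act 7 n149006 = n80455 := (sb E64601 (iv7 D167644))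
theorem E67849 : n128366 = n84453 := (((D84453).symm.trans (sb E64603 (iv4 F206490)))).symm
theorem E67850 : n84455 = n28662 := ((D84455).symm.trans (sb E64603 (iv6 D60352)))
theorem F309200 : act 3 n107945 = n76854 := (sb E64604 (iv3 D160339))
theorem F309201 : act 4 n107945 = n76859 := (sb E64604 F253236)
theorem E67852 : n157306 = n80468 := (((iv7 F247542)).symm.trans (sb E64604 F253237))
theorem F309202 : act 5 n45205 = n34327 := (sb E64606 F112429)
theorem E67853 : n34723 = n34325 := ((F116710).symm.trans (sb E64606 (iv7 D74905)))
theorem E67854 : n177207 = n128374 := (((F244951).symm.trans (sb E64607 (iv2 F301896)))).symm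
theorem F309203 : act 6 n155944 = n80466 := (sb E64607 (iv6 D167673))
theorem E67855 : n132332 = n37323 := ((((iv3 F58265)).symm.trans (sb E64608 (iv3 F212254)))).symm
theorem E67857 : n61585 = n37327 := (((D37327).symm.trans (sb E64608 F112421))).symm
theorem E67858 : n85623 = n61583 := (((iv5 F131278)).symm.trans (sb E64609 F112420))
theorem F309204 : act 5 n16818 = n34319 := (sb E64610 (iv5 D74885))
theorem F309205 : act 6 n32705 = n30533 := (sb E64611 (iv6 D65006))
theorem E67865 : n131647 = n70453 := ((((iv3 F106919)).symm.trans (sb E64613 F210989))).symm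
theorem E67866 : n66697 = n15843 := (((F46005).symm.trans (sb E64615 (iv0 D142295)))).symm
theorem E67867 : n125076 = n121076 := ((((iv3 F193102)).symm.trans (sb E64618 (iv3 F200942)))).symm
theorem F309206 : act 4 n55870 = n40247 := (sb E64618 F92366)
theorem F309207 : act 6 n54417 = n68106 := (sb E64620 (iv6 D145279))
theorem E67873 : n85510 = n78384 := ((((iv3 F119588)).symm.trans (sb E64621 (iv3 F130708)))).symm
theorem E67874 : n73719 = n18709 := (((iv4 F110429)).symm.trans (sb E64621 F60391))
theorem E67875 : n85513 = n17313 := ((((iv5 D35724)).symm.trans (sb E64621 D85513))).symm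
theorem E67876 : n78386 = n18708 := ((D78386).symm.trans (sb E64621 (iv6 D39480)))
theorem E67877 : n73716 = n58469 := (((iv4 F110424)).symm.trans (sb E64622 F200897))
theorem E67878 : n85477 = n78401 := (((D78401).symm.trans (sb E64622 F200898))).symm
theorem E67879 : n74039 = n26944 := (((F54994).symm.trans (sb E64624 (iv1 D155641)))).symm
theorem E67880 : n180478 = n74073 := ((((iv1 F189517)).symm.trans (sb E64625 F280906))).symm
theorem F309208 : act 5 n120023 = n160482 := (sb E64625 (iv5 F253503))
theorem F309209 : act 6 n120023 = n76152 := (sb E64625 (iv6 D159204))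
theorem F309210 : act 0 n107998 = n175069 := (sb E64626 (iv1 F274041))
theorem F309211 : act 1 n107998 = n170274 := (sb E64626 (iv0 F267790))
theorem E67881 : n175071 = n131421 := ((((iv2 F210634)).symm.trans (sb E64626 (iv2 F274045)))).symm
theorem F309212 : act 4 n107998 = n119450 := (sb E64626 F235995)
theorem E67882 : n150548 = n74997 := (((iv4 F237061)).symm.trans (sb E64628 F166600))
theorem F309214 : act 1 n163008 = n153011 := (sb E64632 F279128)
theorem F309216 : act 0 n33978 = n18557 := (sb E64636 (iv1 D39077))
theorem F309217 : act 1 n33978 = n58105 := (sb E64636 F91903)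
theorem E67884 : n84615 = n74036 := ((((iv3 F110784)).symm.trans (sb E64636 D84615))).symm
theorem F309218 : act 4 n39076 = n55219 := (sb E64637 F189417)
theorem E67886 : n84614 = n74055 := ((D84614).symm.trans (sb E64637 F189418))
theorem F309219 : act 0 n124503 = n69650 := (sb E64640 (iv1 D148612))
theorem F309220 : act 1 n124503 = n69661 := (sb E64640 F233376)
theorem F309221 : act 7 n124503 = n179641 := (sb E64640 (iv7 F279751))
theorem F309222 : act 1 n59988 = n70276 := (sb E64642 (iv0 D149647))
theorem F309223 : act 0 n59993 = n70276 := (sb E64643 (iv1 D149648))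
theorem E67889 : n70274 = n68466 := ((D70274).symm.trans (sb E64644 (iv1 F183322)))
theorem E67890 : n70275 = n68516 := ((D70275).symm.trans (sb E64644 F183323))
theorem E67891 : n179639 = n84426 := (((iv3 F279745)).symm.trans (sb E64645 F234955))
theorem F309224 : act 7 n85781 = n70276 := (sb E64645 F234956)
theorem F309225 : act 1 n159402 = n84617 := (sb E64646 F276309)
theorem F309226 : act 0 n107946 = n84617 := (sb E64647 (iv1 F276313))
theorem F309227 : act 2 n159401 = n84617 := (sb E64648 F300142)
theorem F309228 : act 5 n159401 = n84347 := (sb E64648 F300143)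
theorem F309229 : act 6 n85776 = n84617 := (sb E64649 (iv6 D177697))
theorem E67893 : n85321 = n84619 := (((D84619).symm.trans (sb E64652 F230116))).symm
theorem E67894 : n84620 = n58414 := ((D84620).symm.trans (sb E64652 F230117))
theorem F309230 : act 4 n39079 = n39617 := (sb E64652 (iv4 D85777))
theorem E67896 : n85319 = n84621 := (((D84621).symm.trans (sb E64652 (iv7 F229378)))).symm
theorem E67897 : n125194 = n78448 := (((iv4 F201268)).symm.trans (sb E64653 (iv4 D163224)))
theorem E67898 : n180580 = n86018 := ((((iv5 F131953)).symm.trans (sb E64653 (iv5 F281072)))).symm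
theorem E67899 : n78449 = n39616 := ((((iv4 F60485)).symm.trans (sb E64654 (iv4 D163227)))).symm
theorem E67900 : n180570 = n39619 := (((D39619).symm.trans (sb E64654 (iv5 F281055)))).symm
theorem E67901 : n180560 = n34411 := ((((iv1 D75142)).symm.trans (sb E64655 (iv1 F281016)))).symm
theorem E67902 : n180559 = n53888 := (((F112681).symm.trans (sb E64655 F281015))).symm
theorem E67903 : n84623 = n69186 := (((E65975).symm.trans (((iv4 F230121)).symm.trans (sb E64655 F277149)))).symm
theorem F309231 : act 1 n33876 = n33981 := (sb E64657 F87362)
theorem E67905 : n119616 = n73724 := ((((iv3 F110434)).symm.trans (sb E64657 (iv3 F200713)))).symm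
theorem E67906 : n117899 = n73728 := (((D73728).symm.trans (sb E64657 F184899))).symm
theorem F309232 : act 0 n35746 = n33981 := (sb E64659 (iv1 F87366))
theorem E67908 : n78447 = n39423 := ((D78447).symm.trans (sb E64659 F112338))
theorem E67912 : n155919 = n58085 := ((D155919).symm.trans (sb E64662 F193137))
theorem F309233 : act 7 n74150 = n78442 := (sb E64662 F193138)
theorem F309234 : act 5 n27692 = n34014 := (sb E64663 (iv5 D74153))
theorem E67916 : n74122 = n55931 := ((((iv6 F88488)).symm.trans (sb E64663 F110869))).symm
theorem F309235 : act 1 n70972 = n78443 := (sb E64664 (iv0 D163202))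
theorem F309236 : act 0 n70971 = n78443 := (sb E64665 (iv1 D163203))
theorem F309237 : act 7 n55257 = n78443 := (sb E64666 (iv7 D163205))
theorem E67917 : n122617 = n107934 := (((D107934).symm.trans (sb E64668 F248317))).symm
theorem F309238 : act 6 n49854 = n75007 := (sb E64668 (iv6 D157565))
theorem F309239 : act 0 n14907 = n30562 := (sb E64672 (iv1 D65077))
theorem E67919 : n67837 = n31685 := ((((iv5 F49964)).symm.trans (sb E64672 (iv5 F103870)))).symm
theorem E67921 : n71056 = n30561 := (((D30561).symm.trans (sb E64673 (iv1 F107592)))).symm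
theorem E67924 : n30528 = n13293 := ((D30528).symm.trans (sb E64674 F45009))
theorem E67925 : n54509 = n14948 := ((((iv6 F24611)).symm.trans (sb E64674 (iv6 F199767)))).symm
theorem E67926 : n58541 = n29431 := (((D29431).symm.trans (sb E64675 (iv3 F92473)))).symm
theorem F309240 : act 5 n13998 = n18752 := (sb E64675 (iv5 D39601))
theorem E67927 : n85719 = n29430 := ((((iv6 F47171)).symm.trans (sb E64675 D85719))).symm
theorem E67929 : n141004 = n32861 := (((D32861).symm.trans (sb E64680 F224020))).symm
theorem E67930 : n68294 = n58619 := ((((iv1 F200013)).symm.trans (sb E64681 (iv1 D145700)))).symm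
theorem E67931 : n141005 = n127764 := ((((iv0 F205387)).symm.trans (sb E64681 F228779))).symm
theorem E67932 : n140936 = n128477 := (((F206623).symm.trans (sb E64681 (iv6 F228782)))).symm
theorem E67935 : n76691 = n66847 := ((((iv3 F102686)).symm.trans (sb E64823 (tr (iv3 F237052) E65156)))).symm
theorem F309241 : act 5 n31151 = n32865 := (sb E64823 (iv5 D70959))
theorem E67938 : n115810 = n74940 := ((D115810).symm.trans (sb E64827 (iv1 D157481)))
theorem E67940 : n74997 = n74448 := ((((iv7 F111744)).symm.trans (sb E64827 F248133))).symm
theorem E67941 : n140988 = n76269 := (((F131950).symm.trans (sb E64684 F228785))).symm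
theorem F309242 : act 0 n66134 = n32866 := (sb E64685 (iv1 F107497))
theorem E67942 : n141000 = n85954 := (((iv3 F224017)).symm.trans (sb E64685 F200016))
theorem E67943 : n150529 = n141002 := ((((iv4 F224019)).symm.trans (sb E64685 D150529))).symm
theorem E67944 : n71157 = n30918 := ((((iv6 D66134)).symm.trans (sb E64685 (iv6 F107659)))).symm
theorem E67945 : n164367 = n37359 := (((D37359).symm.trans (sb E64687 F290292))).symm
theorem E67946 : n150499 = n149307 := ((D150499).symm.trans (sb E64688 F234730))
theorem E67948 : n150468 = n68604 := (((iv6 F236933)).symm.trans (sb E64688 (iv6 D146297)))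
theorem E67950 : n150467 = n54029 := (((F85238).symm.trans (sb E64689 D150467))).symm
theorem F309244 : act 3 n31912 = n37345 := (sb E64689 F107455)
theorem F309245 : act 6 n31912 = n32856 := (sb E64689 F107456)
theorem E67951 : n58590 = n32595 := ((((iv3 F51651)).symm.trans (sb E64690 F201372))).symm
theorem E67952 : n149523 = n37350 := (((iv1 F235136)).symm.trans (sb E64691 (iv1 D81722)))
theorem F309246 : act 1 n70226 = n37355 := (sb E64691 F125640)
theorem E67953 : n149524 = n80571 := (((iv2 F235137)).symm.trans (sb E64691 (iv2 F300093)))
theorem E67954 : n170473 = n78938 := (((F290275).symm.trans (sb E64691 D170473))).symm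
theorem F309247 : act 5 n70226 = n39571 := (sb E64691 (iv5 F125642))
theorem E67956 : n157131 = n152595 := ((D157131).symm.trans (sb E64692 (iv1 F240817)))
theorem E67957 : n157133 = n72633 := ((D157133).symm.trans (sb E64692 F240813))
theorem E67958 : n130443 = n127998 := ((F237544).symm.trans (sb E64692 F240815))
theorem E67959 : n157134 = n72842 := ((D157134).symm.trans (sb E64692 F240816))
theorem F309248 : act 6 n74706 = n72401 := (sb E64692 (iv6 D153273))
theorem F309249 : act 0 n109859 = n119197 := (sb E64693 F240318)
theorem F309250 : act 1 n109859 = n119196 := (sb E64693 (iv0 F240319))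
theorem F309251 : act 7 n109859 = n117915 := (sb E64693 F240317)
theorem E67961 : n67299 = n39473 := (((F92332).symm.trans (sb E64695 F226363))).symm
theorem E67962 : n157136 = n76750 := ((((iv5 F115122)).symm.trans (sb E64695 (iv5 F247281)))).symm
theorem F309252 : act 5 n35076 = n34232 := (sb E64696 (iv5 D74708))
theorem F309253 : act 0 n148663 = n79935 := (sb E64697 (iv1 D166552))
theorem F309254 : act 1 n148663 = n180619 := (sb E64697 F281143)
theorem F309255 : act 4 n55138 = n68106 := (sb E64698 (iv4 F214961))
theorem F309256 : act 4 n73713 = n61602 := (sb E64699 (iv4 D131275))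
theorem F309257 : act 6 n73713 = n69848 := (sb E64699 F210381)
theorem E67963 : n68920 = n12395 := ((((iv5 D26135)).symm.trans (sb E64701 F229637))).symm
theorem E67964 : n68931 = n15052 := (((F50216).symm.trans (sb E64702 F229638))).symm
theorem E67965 : n149466 = n97235 := (((iv2 F235071)).symm.trans (sb E64703 F229630))
theorem F309258 : act 6 n117224 = n150387 := (sb E64703 (iv6 F236707))
theorem F309259 : act 4 n54669 = n88812 := (sb E64705 (iv4 D186462))
theorem F309260 : act 0 n114920 = n88831 := (sb E64706 (iv1 F289327))
theorem F309261 : act 1 n114920 = n88830 := (sb E64706 F289328)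
theorem F309262 : act 2 n114920 = n88833 := (sb E64706 F289324)
theorem F309263 : act 3 n114920 = n89210 := (sb E64706 F289325)
theorem F309264 : act 5 n114920 = n88813 := (sb E64706 F289326)
theorem F309265 : act 7 n114920 = n88812 := (sb E64706 (iv7 D186463))
theorem E67966 : n158378 = n118483 := ((((iv4 F186377)).symm.trans (sb E64707 (iv4 F298174)))).symm
theorem F309266 : act 6 n71425 = n56979 := (sb E64707 (iv6 D122659))
theorem E67967 : n151511 = n118748 := ((D151511).symm.trans (sb E64710 F196522))
theorem F309267 : act 2 n21679 = n31813 := (sb E64712 (iv2 D68369))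
theorem E67969 : n145817 = n45433 := (((D45433).symm.trans (sb E64712 D145817))).symm
theorem F309268 : act 0 n44763 = n31813 := (sb E64713 (iv1 F228961))
theorem E67970 : n105794 = n95873 := (((D95873).symm.trans (sb E64713 (iv3 F162492)))).symm
theorem E67971 : n105797 = n95874 := (((D95874).symm.trans (sb E64713 (iv4 F162494)))).symm
theorem E67972 : n95875 = n23852 := ((D95875).symm.trans (sb E64713 (iv6 D48915)))
theorem F309269 : act 6 n48907 = n45432 := (sb E64714 (iv6 D97232))
theorem F309270 : act 1 n44764 = n31813 := (sb E64715 (iv0 D68367))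
theorem F309271 : act 4 n44764 = n145814 := (sb E64715 D145814)
theorem E67973 : n105791 = n95878 := (((D95878).symm.trans (sb E64715 F228956))).symm
theorem F309272 : act 6 n68058 = n45431 := (sb E64717 (iv6 D97229))
theorem E67975 : n145814 = n69739 := ((F309271).symm.trans (sb E64719 F233640))
theorem E67976 : n95878 = n69738 := ((D95878).symm.trans (sb E64719 (iv6 D148801)))
theorem F309273 : act 4 n44765 = n31813 := (sb E64721 (iv4 D68370))
theorem E67979 : n145821 = n95879 := (((D95879).symm.trans (sb E64721 D145821))).symm
theorem F309274 : act 7 n44765 = n31813 := (sb E64721 (iv7 F307266))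
theorem E67980 : n146304 = n145825 := (((D145825).symm.trans (sb E64722 D146304))).symm
theorem E67981 : n146305 = n145826 := (((D145826).symm.trans (sb E64722 D146305))).symm
theorem F309275 : act 2 n156394 = n150079 := (sb E64723 (iv2 F303967))
theorem E67982 : n167000 = n131436 := (((F245839).symm.trans (sb E64723 F282382))).symm
theorem F309276 : act 4 n41084 = n74381 := (sb E64724 (iv4 D156395))
theorem E67984 : n150357 = n139200 := (((iv1 F236663)).symm.trans (sb E64726 (iv1 F245860)))
theorem F309277 : act 3 n70838 = n74382 := (sb E64726 (iv3 D156399))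
theorem F309278 : act 4 n41083 = n74382 := (sb E64727 (iv4 D156400))
theorem F309279 : act 3 n156402 = n149337 := (sb E64728 (iv3 F303966))
theorem F309280 : act 4 n156402 = n88007 := (sb E64728 F282380)
theorem F309281 : act 5 n156402 = n170551 := (sb E64728 (iv5 F302870))
theorem F309282 : act 0 n65001 = n71522 := (sb E64729 (iv1 F114822))
theorem F309283 : act 1 n65001 = n71521 := (sb E64729 F114823)
theorem E67985 : n138384 = n34993 := ((D138384).symm.trans (sb E64729 F114819))
theorem F309284 : act 7 n65001 = n34989 := (sb E64729 (iv7 D76567))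
theorem F309285 : act 4 n40905 = n74379 := (sb E64730 (iv4 D156387))
theorem F309286 : act 3 n104188 = n74932 := (sb E64733 F245880)
theorem E67986 : n152022 = n47134 := (((F305400).symm.trans (sb E64736 F247191))).symm
theorem F309287 : act 0 n83525 = n65354 := (sb E64740 (iv1 D139242))
theorem E67988 : n174854 = n131435 := ((D174854).symm.trans (sb E64740 F245874))
theorem F309288 : act 0 n139241 = n89260 := (sb E64741 (iv1 F304844))
theorem E67989 : n152606 = n131436 := ((((iv2 F245873)).symm.trans (sb E64741 F259319))).symm
theorem F309289 : act 4 n139241 = n150079 := (sb E64741 F259320)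
theorem F309290 : act 5 n139241 = n152253 := (sb E64741 F259321)
theorem F309291 : act 6 n139241 = n79011 := (sb E64741 (iv6 D164522))
theorem F309292 : act 6 n133024 = n84928 := (sb E64742 (iv6 D178478))
theorem F309293 : act 7 n133024 = n89260 := (sb E64742 (iv7 F304846))
theorem E67990 : n154240 = n33691 := ((D154240).symm.trans (sb E64743 (iv0 D73167)))
theorem E67995 : n121353 = n102269 := ((D121353).symm.trans (sb E64746 (iv7 F289399)))
theorem F309294 : act 4 n71444 = n88833 := (sb E64748 F289401)
theorem F309295 : act 0 n154951 = n88833 := (sb E64749 (iv1 F289314))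
theorem F309296 : act 1 n154951 = n88812 := (sb E64749 (iv0 D186461))
theorem F309297 : act 2 n154951 = n88830 := (sb E64749 (iv2 F289312))
theorem F309298 : act 5 n154951 = n102521 := (sb E64749 F289311)
theorem F309299 : act 7 n154951 = n88831 := (sb E64749 F289313)
theorem F309300 : act 3 n154810 = n88831 := (sb E64750 (iv3 D186508))
theorem F309301 : act 4 n106321 = n88831 := (sb E64751 (iv4 D186509))
theorem F309302 : act 0 n15636 = n16630 := (sb E64754 (iv1 D34348))
theorem F309303 : act 4 n15636 = n24320 := (sb E64754 F54503)
theorem E67997 : n26272 = n26115 := (((iv6 F41766)).symm.trans (sb E64755 (iv6 D54000)))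
theorem E67999 : n128428 = n26858 := ((((iv3 F43287)).symm.trans (sb E64757 (iv3 F206558)))).symm
theorem E68001 : n28680 = n26864 := (((D26864).symm.trans (sb E64757 (iv6 D60390)))).symm
theorem F309304 : act 6 n13668 = n26279 := (sb E64758 (iv6 D54370))
theorem F309305 : act 0 n146731 = n98771 := (sb E64759 (iv1 F296800))
theorem F309306 : act 1 n146731 = n98770 := (sb E64759 (iv0 F296794))
theorem F309307 : act 3 n146731 = n76307 := (sb E64759 (iv3 D159508))
theorem F309308 : act 5 n146731 = n80082 := (sb E64759 F251213)
theorem F309309 : act 7 n146731 = n98758 := (sb E64759 (iv7 F296793))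
theorem E68005 : n161535 = n39644 := ((D161535).symm.trans (sb E64760 (iv1 D85824)))
theorem E68006 : n161536 = n118344 := ((D161536).symm.trans (sb E64760 (iv0 F185965)))
theorem E68007 : n125203 = n121432 := ((((iv2 F193751)).symm.trans (sb E64760 (iv2 F201298)))).symm
theorem E68008 : n179677 = n161537 := (((D161537).symm.trans (sb E64760 D179677))).symm
theorem E68009 : n179678 = n35406 := ((((iv4 D77559)).symm.trans (sb E64760 D179678))).symm
theorem E68010 : n161538 = n71235 := ((D161538).symm.trans (sb E64760 (iv5 F131680)))
theorem E68014 : n117131 = n114570 := (((D114570).symm.trans (sb E64761 D117131))).symm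
theorem F309310 : act 2 n131596 = n150012 := (sb E64762 F236885)
theorem F309311 : act 4 n131596 = n80275 := (sb E64762 F236886)
theorem F309312 : act 6 n131596 = n70899 := (sb E64762 (iv6 D150450))
theorem E68015 : n67893 = n52932 := (((D52932).symm.trans (sb E64763 (iv6 D144852)))).symm
theorem F309313 : act 7 n70572 = n107998 := (sb E64764 F210507)
theorem E68016 : n145999 = n119051 := (((D119051).symm.trans (sb E64765 (iv3 F229226)))).symm
theorem E68017 : n146005 = n26499 := ((((iv4 D54785)).symm.trans (sb E64765 (iv4 F229229)))).symm
theorem E68018 : n119052 = n31850 := ((D119052).symm.trans (sb E64765 (iv6 D68451)))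
theorem E68019 : n145946 = n52920 := ((D145946).symm.trans (sb E64766 F178751))
theorem F309314 : act 6 n68433 = n52919 := (sb E64766 (iv6 D114652))
theorem F309315 : act 4 n7293 = n7128 := (sb E64767 F24405)
theorem E68020 : n31288 = n3348 := ((((iv5 D7293)).symm.trans (sb E64767 D31288))).symm
theorem E68021 : n15450 = n7031 := ((D15450).symm.trans (sb E64767 (iv6 D14757)))
theorem E68026 : n117127 = n25675 := (((F51712).symm.trans (sb E64773 (iv4 F183200)))).symm
theorem E68027 : n70335 = n31646 := ((D70335).symm.trans (sb E64773 F85166))
theorem E68028 : n114623 = n31644 := ((D114623).symm.trans (sb E64774 (iv1 F104061)))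
theorem E68029 : n114624 = n31643 := ((D114624).symm.trans (sb E64774 F104062))
theorem F309316 : act 3 n52909 = n75143 := (sb E64774 (iv3 F112685))
theorem E68030 : n144954 = n25686 := (((F83612).symm.trans (sb E64774 (iv4 F227923)))).symm
theorem E68031 : n128498 = n114625 := (((D114625).symm.trans (sb E64774 (iv5 F206663)))).symm
theorem E68032 : n114626 = n31626 := ((D114626).symm.trans (sb E64774 (iv7 D67959)))
theorem F309317 : act 5 n80081 = n69741 := (sb E64775 (iv5 D148808))
theorem E68033 : n148813 = n133154 := ((((iv6 F304573)).symm.trans (sb E64775 (iv6 F233665)))).symm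
theorem F309318 : act 3 n86325 = n76045 := (sb E64776 (iv3 D159122))
theorem E68034 : n85313 = n84024 := ((((iv5 F300824)).symm.trans (sb E64776 F250530))).symm
theorem E68035 : n180731 = n158984 := ((D180731).symm.trans (sb E64776 F250532))
theorem F309319 : act 2 n38697 = n150561 := (sb E64777 F244692)
theorem E68036 : n84021 = n74053 := ((D84021).symm.trans (sb E64777 (iv5 D155667)))
theorem E68037 : n150557 = n79796 := ((((iv7 F299445)).symm.trans (sb E64777 F244694))).symm
theorem F309320 : act 4 n16631 = n32664 := (sb E64782 F106848)
theorem F309321 : act 4 n16632 = n15811 := (sb E64783 F52011)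
theorem F309322 : act 6 n16632 = n15809 := (sb E64783 (iv6 D32845))
theorem E68044 : n39757 = n34113 := (((D34113).symm.trans (sb E64787 F92576))).symm
theorem F309323 : act 5 n16518 = n27879 := (sb E64787 (iv5 D58611))
theorem E68045 : n32944 = n14635 := ((((iv6 F47795)).symm.trans (sb E64787 F199707))).symm
theorem E68046 : n28882 = n8791 := ((D28882).symm.trans (sb E64788 F29987))
theorem F309324 : act 5 n13766 = n8790 := (sb E64788 (iv5 D18753))
theorem E68047 : n39606 = n28881 := ((((iv6 F46522)).symm.trans (sb E64788 D39606))).symm
theorem E68051 : n118294 = n31444 := ((((iv1 F49763)).symm.trans (sb E64790 (iv1 F185846)))).symm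
theorem E68052 : n118293 = n14575 := ((((iv0 F26156)).symm.trans (sb E64790 F185845))).symm
theorem E68053 : n32904 = n31442 := ((((iv7 F49743)).symm.trans (sb E64790 (iv7 D71057)))).symm
theorem E68054 : n26346 = n14488 := (((D14488).symm.trans (sb E64791 (iv6 D54482)))).symm
theorem E68056 : n85117 = n26396 := (((D26396).symm.trans (sb E64793 (iv5 D178680)))).symm
theorem E68058 : n155635 = n78268 := ((((iv3 F119465)).symm.trans (sb E64799 (iv3 F244671)))).symm
theorem F309325 : act 4 n35674 = n33981 := (sb E64799 F110785)
theorem E68060 : n120007 = n78270 := (((D78270).symm.trans (sb E64799 (iv6 F189457)))).symm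
theorem F309326 : act 7 n35674 = n33978 := (sb E64799 (iv7 D74040))
theorem E68061 : n85521 = n78412 := ((D85521).symm.trans (sb E64801 F235833))
theorem F309327 : act 6 n69591 = n49820 := (sb E64802 (iv6 D107875))
theorem E68062 : n85517 = n78411 := ((D85517).symm.trans (sb E64804 F235826))
theorem E68063 : n150548 = n74448 := (E67882).trans E67940
theorem F309330 : act 2 n33980 = n33876 := (sb E64806 F87228)
theorem F309331 : act 4 n33980 = n35748 := (sb E64806 F87229)
theorem F309332 : act 7 n33980 = n35746 := (sb E64806 (iv7 F87230))
theorem F309333 : act 2 n33979 = n35746 := (sb E64807 F88392)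
theorem E68066 : n121109 = n72133 := ((((iv3 F200716)).symm.trans (sb E64807 D121109))).symm
theorem F309334 : act 4 n33979 = n26954 := (sb E64807 (iv4 D55881))
theorem E68067 : n121110 = n58415 := (((F106121).symm.trans (sb E64807 D121110))).symm
theorem F309335 : act 7 n33979 = n33876 := (sb E64807 (iv7 F88394))
theorem F309336 : act 0 n26682 = n35746 := (sb E64809 (iv1 F110438))
theorem F309337 : act 1 n26682 = n33876 := (sb E64809 (iv0 D73726))
theorem F309338 : act 0 n65617 = n54849 := (sb E64811 F113926)
theorem F309339 : act 1 n65617 = n74929 := (sb E64811 F305346)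
theorem F309340 : act 2 n65617 = n32865 := (sb E64811 F110565)
theorem E68069 : n139781 = n32835 := ((D139781).symm.trans (sb E64811 (iv4 D70856)))
theorem F309341 : act 7 n65617 = n32860 := (sb E64811 F110566)
theorem E68071 : n150542 = n66847 := (E65156).trans E67935
theorem E68072 : n150543 = n115809 := ((D150543).symm.trans (sb E64812 F225473))
theorem E68073 : n115811 = n32867 := (((D32867).symm.trans (sb E64813 F225484))).symm
theorem E68074 : n60421 = n55632 := ((F94929).symm.trans (sb E64814 (iv1 F88006)))
theorem E68077 : n66850 = n55631 := ((D66850).symm.trans (sb E64814 (iv7 F200141)))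
theorem F309342 : act 6 n53404 = n32865 := (sb E64815 (iv6 D70960))
theorem E68079 : n150520 = n76662 := ((((iv3 F252508)).symm.trans (sb E64831 (iv3 F236999)))).symm
theorem F309343 : act 5 n35057 = n32860 := (sb E64831 (iv5 D70940))
theorem E68082 : n143696 = n131170 := (((iv3 F226366)).symm.trans (sb E64818 (iv3 F210088)))
theorem E68084 : n143699 = n61510 := ((D143699).symm.trans (sb E64818 F185479))
theorem E68085 : n54380 = n31296 := ((((iv6 D67300)).symm.trans (sb E64818 (iv6 D118064)))).symm
theorem E68086 : n149307 = n117720 := ((((iv4 F184350)).symm.trans (sb E64819 (iv4 F234729)))).symm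
theorem E68087 : n143746 = n55339 := ((D143746).symm.trans (sb E64819 F188870))
theorem E68088 : n117834 = n55081 := (((iv6 F184539)).symm.trans (sb E64819 (iv6 D119727)))
theorem E68089 : n143732 = n131186 := ((D143732).symm.trans (sb E64820 (iv0 F210135)))
theorem E68090 : n147027 = n143734 := (((D143734).symm.trans (sb E64820 (iv7 F230481)))).symm
theorem E68092 : n116794 = n32057 := (((iv6 F182349)).symm.trans (sb E64821 (iv6 D68940)))
theorem F309344 : act 5 n67332 = n54849 := (sb E64822 (iv5 D119194))
theorem E68095 : n65615 = n35058 := ((D65615).symm.trans (sb E64824 (iv1 F88004)))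
theorem E68096 : n65616 = n26863 := ((D65616).symm.trans (sb E64824 (iv0 D55630)))
theorem E68097 : n120691 = n65611 := ((((iv3 F101347)).symm.trans (sb E64824 D120691))).symm
theorem E68099 : n72244 = n14568 := ((((iv6 D30744)).symm.trans (sb E64824 (iv6 F108676)))).symm
theorem F309345 : act 3 n149803 = n127935 := (sb E64826 F247928)
theorem E68100 : n149821 = n53815 := (E67222).trans E67606
theorem F309346 : act 7 n149803 = n74940 := (sb E64826 F247930)
theorem E68101 : n150521 = n74989 := ((D150521).symm.trans (sb E64828 (iv6 D157549)))
theorem E68102 : n139764 = n76662 := ((((iv3 F252508)).symm.trans (sb E64829 (iv3 F222945)))).symm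
theorem E68103 : n76696 = n31527 := ((D76696).symm.trans (sb E64829 F101356))
theorem E68104 : n76697 = n66859 := ((D76697).symm.trans (sb E64829 (iv6 F102717)))
theorem F309347 : act 7 n35057 = n30744 := (sb E64829 (iv7 D65618))
theorem F309348 : act 6 n34358 = n32860 := (sb E64830 (iv6 D70941))
theorem E68107 : n155051 = n74996 := (((D74996).symm.trans (sb E64833 (iv5 F243828)))).symm
theorem F309349 : act 0 n7212 = n15124 := (sb E64837 F27920)
theorem F309350 : act 4 n7212 = n7958 := (sb E64837 (iv4 D17034))
theorem F309351 : act 0 n17041 = n15214 := (sb E64838 (iv1 F41642))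
theorem F309352 : act 2 n17041 = n15216 := (sb E64838 F41639)
theorem E68114 : n35100 = n15207 := ((D35100).symm.trans (sb E64838 F41640))
theorem F309353 : act 7 n17041 = n12439 := (sb E64838 (iv7 D26233))
theorem F309354 : act 4 n15448 = n15214 := (sb E64839 (iv4 F163071))
theorem F309355 : act 0 n26177 = n15216 := (sb E64840 (iv1 F41641))
theorem F309356 : act 1 n26177 = n12439 := (sb E64840 (iv0 D26231))
theorem E68117 : n54247 = n54102 := ((((iv6 F85393)).symm.trans (sb E64840 D54247))).symm
theorem F309357 : act 7 n26177 = n15214 := (sb E64840 (iv7 F105732))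

end Cfsg.Agent.Helper17.ONTC
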