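import Cfsg.Agent.Helper17.ONTC.Facts37

set_option autoImplicit false
set_option linter.all false

noncomputable section

namespace Cfsg.Agent.Helper17.ONTC

theorem F309358 : act 4 n33903 = n55121 := (sb E64841 (iv4 F305410))
theorem F309359 : act 6 n33903 = n32660 := (sb E64841 (iv6 D70359))
theorem F309360 : act 0 n15533 = n24318 := (sb E64844 F53283)
theorem F309361 : act 4 n15533 = n16403 := (sb E64844 (iv4 D33929))
theorem E68126 : n66402 = n26275 := (((D26275).symm.trans (sb E64847 F189265))).symm
theorem F309362 : act 6 n31985 = n17021 := (sb E64848 (iv6 D35065))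
theorem F309363 : act 3 n70382 = n60104 := (sb E64849 F209811)
theorem F309364 : act 5 n70382 = n71774 := (sb E64849 (iv5 F112510))
theorem F309365 : act 5 n29679 = n32669 := (sb E64850 (iv5 D70384))
theorem F309366 : act 0 n55301 = n69591 := (sb E64851 (iv1 F107359))
theorem F309367 : act 4 n55301 = n32672 := (sb E64851 F106867)
theorem F309368 : act 7 n55301 = n32669 := (sb E64851 (iv7 D70385))
theorem E68130 : n53420 = n15416 := ((((iv3 F24968)).symm.trans (sb E64853 (iv3 F84275)))).symm
theorem F309369 : act 4 n7278 = n12439 := (sb E64853 F40885)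
theorem E68131 : n53427 = n3342 := ((((iv5 D7278)).symm.trans (sb E64853 D53427))).symm
theorem E68132 : n15419 = n12284 := ((D15419).symm.trans (sb E64853 (iv6 D25879)))
theorem E68136 : n65750 = n15424 := ((((iv3 F24974)).symm.trans (sb E64855 (iv3 F101451)))).symm
theorem F309370 : act 4 n7281 = n15216 := (sb E64855 F49229)
theorem E68138 : n53494 = n15427 := (((D15427).symm.trans (sb E64855 (iv6 F84396)))).symm
theorem E68141 : n70209 = n54233 := ((((iv5 F85571)).symm.trans (sb E64856 D70209))).symm
theorem E68142 : n70210 = n12437 := ((((iv7 D26225)).symm.trans (sb E64856 D70210))).symm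
theorem E68144 : n67261 = n15122 := ((((iv6 F24730)).symm.trans (sb E64859 D67261))).symm
theorem E68145 : n68941 = n54313 := ((D68941).symm.trans (sb E64860 F105093))
theorem E68146 : n69443 = n68942 := (((D68942).symm.trans (sb E64860 D69443))).symm
theorem F309371 : act 5 n32058 = n54101 := (sb E64860 F85391)
theorem E68147 : n68945 = n67347 := (E66342).trans E67363
theorem E68148 : n70127 = n69616 := ((((iv6 F130904)).symm.trans (sb E64861 (iv6 D149358)))).symm
theorem E68149 : n70098 = n54224 := ((((iv1 F85955)).symm.trans (sb E64863 (iv1 F106483)))).symm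
theorem E68150 : n70097 = n54300 := (((F85696).symm.trans (sb E64863 F106482))).symm
theorem E68151 : n70128 = n69630 := ((((iv5 F105902)).symm.trans (sb E64863 D70128))).symm
theorem E68157 : n139706 = n68811 := (((D68811).symm.trans (sb E64867 F226313))).symm
theorem F309372 : act 0 n70306 = n54270 := (sb E64868 (iv1 D117825))
theorem F309373 : act 4 n70306 = n54288 := (sb E64868 F184514)
theorem E68158 : n67345 = n54103 := (((F106762).symm.trans (sb E64868 (iv6 F184516)))).symm
theorem F309374 : act 2 n54241 = n32416 := (sb E64870 F106198)
theorem E68159 : n117749 = n32411 := ((D117749).symm.trans (sb E64870 (iv4 D69791)))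
theorem F309375 : act 5 n54241 = n48952 := (sb E64870 F302987)
theorem F309376 : act 1 n34346 = n35001 := (sb E64871 F232725)
theorem F309377 : act 2 n34346 = n55315 := (sb E64871 (iv2 F162895))
theorem F309378 : act 4 n34346 = n69821 := (sb E64871 (iv4 F130955))
theorem E68160 : n123238 = n74958 := (((D74958).symm.trans (sb E64871 (iv5 F304252)))).symm
theorem F309379 : act 1 n76594 = n74956 := (sb E64872 F215852)
theorem F309380 : act 2 n76594 = n74959 := (sb E64872 F215849)
theorem E68161 : n135452 = n54814 := (((F232721).symm.trans (sb E64872 (iv3 F217767)))).symm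
theorem F309381 : act 4 n76594 = n62925 := (sb E64872 (iv4 D133963))
theorem F309382 : act 6 n76594 = n139184 := (sb E64872 (iv6 F222362))
theorem F309383 : act 0 n76595 = n74959 := (sb E64874 F215265)
theorem F309384 : act 2 n76595 = n74956 := (sb E64874 F210468)
theorem F309385 : act 4 n76595 = n49818 := (sb E64874 F166653)
theorem F309386 : act 6 n76595 = n49817 := (sb E64874 (iv6 D107864))
theorem E68162 : n150412 = n74952 := ((F303969).symm.trans (sb E64875 F248153))
theorem F309387 : act 2 n150377 = n139188 := (sb E64875 (iv2 F248155))
theorem E68163 : n150409 = n139189 := ((F303971).symm.trans (sb E64875 F248154))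
theorem E68164 : n181127 = n69876 := ((D181127).symm.trans (sb E64878 (iv5 D149002)))
theorem E68165 : n181128 = n127878 := (((D127878).symm.trans (sb E64879 D181128))).symm
theorem F309388 : act 5 n60065 = n40075 := (sb E64879 (iv5 D86500))
theorem E68166 : n170526 = n80542 := ((((iv6 F201147)).symm.trans (sb E64879 (iv6 F302838)))).symm
theorem E68168 : n149288 = n37357 := ((((iv5 F119009)).symm.trans (sb E64880 (iv5 F234661)))).symm
theorem E68170 : n181120 = n83594 := ((((iv4 F305602)).symm.trans (sb E64882 (iv4 F282099)))).symm
theorem F309389 : act 5 n60320 = n45213 := (sb E64882 F298498)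
theorem F309390 : act 0 n37337 = n32716 := (sb E64883 F205226)
theorem E68172 : n83600 = n81688 := (((D81688).symm.trans (sb E64883 F305906))).symm
theorem E68173 : n81684 = n28609 := (((iv6 F125616)).symm.trans (sb E64883 (iv6 D60187)))
theorem E68175 : n181282 = n149944 := (((D149944).symm.trans (sb E64884 D181282))).symm
theorem E68176 : n71373 = n59761 := ((D71373).symm.trans (sb E64885 (iv5 D127310)))
theorem F309391 : act 5 n28345 = n26265 := (sb E64886 (iv5 D54339))
theorem E68179 : n117961 = n59764 := (((D59764).symm.trans (sb E64886 D117961))).symm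
theorem F309392 : act 2 n58617 = n75124 := (sb E64889 F191469)
theorem F309393 : act 6 n58617 = n55338 := (sb E64889 (iv6 D120260))
theorem E68180 : n149888 = n55328 := ((((iv3 F87556)).symm.trans (sb E64891 (iv3 F235752)))).symm
theorem F309394 : act 4 n26737 = n32700 := (sb E64891 F106928)
theorem E68182 : n55331 = n32699 := ((D55331).symm.trans (sb E64891 (iv6 D70468)))
theorem E68183 : n76206 = n36568 := ((((iv4 F303553)).symm.trans (sb E64892 F166851))).symm
theorem E68185 : n76970 = n60793 := ((((iv4 F95368)).symm.trans (sb E64895 (iv4 F115694)))).symm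
theorem E68188 : n55774 = n29395 := ((((iv4 F47090)).symm.trans (sb E64896 F303793))).symm
theorem E68190 : n76192 = n61199 := ((((iv1 F97337)).symm.trans (sb E64897 F130063))).symm
theorem E68191 : n76184 = n29521 := ((((iv0 D62450)).symm.trans (sb E64897 F130064))).symm
theorem E68192 : n178297 = n133107 := (((D133107).symm.trans (sb E64897 (iv3 F277862)))).symm
theorem E68193 : n133108 = n39260 := ((D133108).symm.trans (sb E64897 (iv5 D84852)))
theorem E68194 : n178300 = n133109 := (((D133109).symm.trans (sb E64897 (iv6 F277869)))).symm
theorem E68195 : n78362 = n61197 := (((F130944).symm.trans (sb E64897 F130062))).symm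
theorem E68196 : n67409 = n61836 := (((F166866).symm.trans (sb E64898 (iv1 D143912)))).symm
theorem E68197 : n149858 = n149841 := ((D149858).symm.trans (sb E64900 (tr F247573 E65725)))
theorem E68198 : n150097 = n149860 := (((D149860).symm.trans (sb E64900 (iv2 F236211)))).symm
theorem F309395 : act 6 n70444 = n69839 := (sb E64900 (iv6 D148971))
theorem E68200 : n76948 = n35356 := ((((iv4 F301439)).symm.trans (sb E64902 (iv4 F115639)))).symm
theorem F309396 : act 6 n89694 = n72966 := (sb E64907 (iv6 D154099))
theorem F309397 : act 1 n45022 = n33450 := (sb E64908 (iv0 D72460))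
theorem F309398 : act 0 n48243 = n33450 := (sb E64909 (iv1 D72461))
theorem E68217 : n128202 = n89247 := ((D128202).symm.trans (sb E64910 F147322))
theorem F309399 : act 1 n60272 = n89250 := (sb E64910 F147323)
theorem F309400 : act 5 n72463 = n41898 := (sb E64911 (iv5 D89704))
theorem F309401 : act 2 n182031 = n87404 := (sb E64912 F284726)
theorem F309402 : act 7 n182031 = n87403 := (sb E64912 (iv7 D183108))
theorem E68218 : n120563 = n87403 := ((D120563).symm.trans (sb E64913 (iv5 D183106)))
theorem F309403 : act 1 n124821 = n88015 := (sb E64914 (iv0 D184565))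
theorem F309404 : act 2 n124821 = n184054 := (sb E64914 (iv2 F286551))
theorem F309405 : act 7 n124821 = n184056 := (sb E64914 F286553)
theorem F309406 : act 0 n124784 = n88015 := (sb E64915 (iv1 D184566))
theorem F309407 : act 2 n124784 = n184056 := (sb E64915 (iv2 F286549))
theorem F309408 : act 7 n124784 = n184054 := (sb E64915 (iv7 F286550))
theorem E68219 : n119784 = n71507 := (((D71507).symm.trans (sb E64916 F307402))).symm
theorem E68221 : n127518 = n10347 := (((F33895).symm.trans (sb E64917 (iv4 F204973)))).symm
theorem E68222 : n45119 = n34384 := ((D45119).symm.trans (sb E64917 (iv6 D75067)))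
theorem E68223 : n59910 = n10092 := ((((iv1 D21177)).symm.trans (sb E64918 (iv1 D127576)))).symm
theorem F309409 : act 3 n37195 = n69392 := (sb E64919 F248399)
theorem E68224 : n69403 = n27519 := ((D69403).symm.trans (sb E64920 (iv1 D57574)))
theorem E68225 : n114103 = n69404 := (((D69404).symm.trans (sb E64920 (iv0 F177703)))).symm
theorem E68226 : n65746 = n35083 := (((iv3 F101447)).symm.trans (sb E64920 (iv3 F90732)))
theorem E68227 : n69405 = n55424 := ((D69405).symm.trans (sb E64920 (iv5 F115038)))
theorem F309410 : act 1 n32248 = n44479 := (sb E64921 (iv0 F69996))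
theorem F309411 : act 2 n32248 = n57570 := (sb E64921 (iv2 F90727))
theorem E68229 : n69419 = n33593 := ((D69419).symm.trans (sb E64921 (iv4 F52887)))
theorem F309412 : act 7 n32248 = n35983 := (sb E64921 (iv7 F56697))
theorem F309413 : act 0 n48944 = n54241 := (sb E64923 (iv1 F184390))
theorem F309414 : act 3 n48944 = n69394 := (sb E64923 F184387)
theorem E68234 : n105867 = n69313 := ((D105867).symm.trans (sb E64923 F184388))
theorem F309415 : act 7 n48944 = n54235 := (sb E64923 (iv7 D117731))
theorem F309416 : act 2 n57573 = n69406 := (sb E64924 F231920)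
theorem F309417 : act 4 n57573 = n69394 := (sb E64924 F231921)
theorem F309418 : act 7 n57573 = n69391 := (sb E64924 (iv7 D148110))
theorem F309419 : act 4 n117691 = n123532 := (sb E64925 F235121)
theorem F309420 : act 0 n72865 = n69409 := (sb E64926 (iv1 D148157))
theorem F309421 : act 1 n72865 = n69414 := (sb E64926 F231973)
theorem F309422 : act 0 n122827 = n69414 := (sb E64927 (iv1 F231972))
theorem F309423 : act 1 n122827 = n69409 := (sb E64927 (iv0 D148156))
theorem F309424 : act 3 n95326 = n69414 := (sb E64928 (iv3 D148165))
theorem F309425 : act 5 n72845 = n69414 := (sb E64929 (iv5 D148166))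
theorem F309426 : act 0 n148112 = n72428 := (sb E64930 F235116)
theorem F309427 : act 1 n148112 = n123392 := (sb E64930 (iv0 F235117))
theorem F309428 : act 3 n148112 = n89102 := (sb E64930 F235114)
theorem F309429 : act 5 n148112 = n123198 := (sb E64930 F235115)
theorem F309430 : act 3 n146982 = n81444 := (sb E64931 F235118)
theorem F309431 : act 1 n76363 = n54235 := (sb E64932 (iv0 D117729))
theorem F309432 : act 7 n76363 = n54241 := (sb E64932 F233159)
theorem F309433 : act 4 n34821 = n54235 := (sb E64933 F184384)
theorem E68235 : n76239 = n54234 := ((D76239).symm.trans (sb E64933 (iv6 D117728)))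
theorem E68236 : n155342 = n40142 := ((F244294).symm.trans (sb E64934 (iv1 F120293)))
theorem F309434 : act 3 n74831 = n57570 := (sb E64934 F120288)
theorem E68238 : n114499 = n15062 := (((F50536).symm.trans (sb E64935 F290400))).symm
theorem F309435 : act 0 n57568 = n69406 := (sb E64936 F231917)
theorem F309436 : act 1 n57568 = n69391 := (sb E64936 (iv0 D148107))
theorem F309437 : act 0 n57268 = n69391 := (sb E64937 (iv1 D148108))
theorem F309438 : act 1 n57268 = n69406 := (sb E64937 F231918)
theorem E68239 : n158937 = n123065 := (((D123065).symm.trans (sb E64937 (iv6 F280349)))).symm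
theorem F309439 : act 3 n60114 = n69391 := (sb E64938 F231914)
theorem E68240 : n127952 = n69389 := ((D127952).symm.trans (sb E64938 (iv6 D148105)))
theorem F309440 : act 5 n56941 = n69391 := (sb E64939 (iv5 D148109))
theorem E68241 : n123378 = n61527 := ((D123378).symm.trans (sb E64941 (iv6 D131150)))
theorem F309441 : act 6 n29129 = n57570 := (sb E64942 (iv6 D123526))
theorem F309442 : act 3 n32579 = n69406 := (sb E64943 F223269)
theorem F309443 : act 5 n56942 = n69406 := (sb E64944 F231971)
theorem F309444 : act 2 n117701 = n123532 := (sb E64945 F235083)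
theorem F309445 : act 3 n117701 = n70195 := (sb E64945 F235084)
theorem F309446 : act 3 n82975 = n69409 := (sb E64951 (iv3 D148158))
theorem F309447 : act 5 n72844 = n69409 := (sb E64952 (iv5 D148159))
theorem E68242 : n184044 = n153661 := (((F241546).symm.trans (sb E64953 (iv1 F285995)))).symm
theorem E68243 : n184043 = n153420 := (((F242044).symm.trans (sb E64953 F285998))).symm
theorem E68244 : n184045 = n152913 := ((((iv2 F240139)).symm.trans (sb E64953 (iv2 F285996)))).symm
theorem E68245 : n179524 = n61677 := (((F232876).symm.trans (sb E64954 (iv1 F279520)))).symm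
theorem F309448 : act 1 n131253 = n86794 := (sb E64954 (iv0 F299975))
theorem F309449 : act 2 n131253 = n85627 := (sb E64954 (iv2 D179482))
theorem F309450 : act 4 n131253 = n119220 := (sb E64954 F297744)
theorem F309451 : act 6 n131253 = n86482 := (sb E64954 F297745)
theorem E68246 : n179525 = n74877 := (((F210325).symm.trans (sb E64954 (iv7 F279518)))).symm
theorem E68247 : n74842 = n49005 := ((((iv1 F106873)).symm.trans (sb E64955 (iv1 F247660)))).symm
theorem E68248 : n74841 = n48754 := (((F106872).symm.trans (sb E64955 (iv0 F247662)))).symm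
theorem F309452 : act 7 n70394 = n74831 := (sb E64955 (iv7 D157354))
theorem E68249 : n138599 = n118844 := ((F221769).symm.trans (iv2 (sb E64958 (tr (iv2 F261533) E65746))))
theorem F309453 : act 5 n118844 = n70110 := (sb E64958 (iv5 D149319))
theorem F309454 : act 3 n34326 = n69821 := (sb E64959 (iv3 D148934))
theorem F309455 : act 2 n148935 = n131783 := (sb E64960 F248043)
theorem F309456 : act 3 n148935 = n74908 := (sb E64960 F248044)
theorem F309458 : act 6 n34324 = n69821 := (sb E64961 (iv6 D148936))
theorem F309459 : act 4 n32428 = n62760 := (sb E64964 F215154)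
theorem F309460 : act 4 n12941 = n14975 := (sb E64966 F49093)
theorem F309461 : act 4 n55119 = n34390 := (sb E64970 (iv4 D75088))
theorem F309462 : act 2 n70353 = n70484 := (sb E64971 F235764)
theorem F309463 : act 5 n70353 = n70480 := (sb E64971 (iv5 D149894))
theorem F309464 : act 4 n133710 = n70482 := (sb E64972 F235766)
theorem F309465 : act 6 n133710 = n70480 := (sb E64972 (iv6 D149895))
theorem F309466 : act 3 n70352 = n35693 := (sb E64973 F119501)
theorem F309467 : act 5 n70352 = n35692 := (sb E64973 (iv5 D78295))
theorem F309468 : act 7 n70352 = n70484 := (sb E64973 F119502)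
theorem E68255 : n178418 = n62778 := ((D178418).symm.trans (sb E64974 (iv0 D133737)))
theorem E68257 : n81637 = n60066 := (((F94604).symm.trans (sb E64976 (iv0 F300296)))).symm
theorem F309469 : act 3 n32791 = n70484 := (sb E64976 (iv3 F106939))
theorem F309470 : act 5 n32791 = n26933 := (sb E64976 (iv5 D55824))
theorem E68259 : n121024 = n70739 := (((D70739).symm.trans (sb E64976 D121024))).symm
theorem F309471 : act 7 n32791 = n35693 := (sb E64976 F88299)
theorem E68260 : n127867 = n58576 := ((((iv0 F299416)).symm.trans (sb E64977 (iv0 F215286)))).symm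
theorem F309472 : act 3 n36771 = n62779 := (sb E64977 (iv3 D133742))
theorem F309473 : act 1 n70350 = n70484 := (sb E64978 (iv0 D149900))
theorem F309474 : act 0 n70354 = n70484 := (sb E64979 (iv1 D149901))
theorem F309475 : act 4 n76609 = n70484 := (sb E64980 (iv4 D149902))
theorem F309476 : act 1 n149903 = n70935 := (sb E64981 F237381)
theorem F309477 : act 2 n149903 = n149769 := (sb E64981 F236465)
theorem F309478 : act 4 n149903 = n160011 := (sb E64981 (iv4 F252414))
theorem E68262 : n160084 = n70491 := (((D70491).symm.trans (sb E64983 (iv0 F252639)))).symm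
theorem F309479 : act 4 n32706 = n62779 := (sb E64983 (iv4 D133743))
theorem F309480 : act 0 n121939 = n62767 := (sb E64984 (iv1 D133711))
theorem F309481 : act 1 n121939 = n62781 := (sb E64984 F215202)
theorem F309482 : act 2 n121939 = n62780 := (sb E64984 F235575)
theorem F309483 : act 7 n121939 = n62779 := (sb E64984 F235577)
theorem F309484 : act 2 n78276 = n149000 := (sb E64985 F236455)
theorem E68263 : n162846 = n70731 := ((D162846).symm.trans (sb E64985 (iv5 D150257)))
theorem F309485 : act 4 n55103 = n86581 := (sb E64986 (iv4 D181331))
theorem E68264 : n160020 = n128134 := ((D160020).symm.trans (sb E64994 (iv1 F305395)))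
theorem F309486 : act 3 n76624 = n78245 := (sb E64994 (iv3 F305399))
theorem E68265 : n160022 = n70486 := ((D160022).symm.trans (sb E64994 (iv5 F305401)))
theorem E68266 : n184669 = n71676 := (((F232430).symm.trans (sb E64995 (iv3 F286661)))).symm
theorem F309487 : act 1 n32848 = n24318 := (sb E64996 (iv0 D49872))
theorem F309488 : act 3 n32758 = n24318 := (sb E64997 F78861)
theorem E68271 : n107955 = n70625 := (((D70625).symm.trans (sb E64997 (iv4 F166823)))).symm
theorem E68272 : n107988 = n70626 := (((D70626).symm.trans (sb E64997 D107988))).symm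
theorem F309489 : act 6 n32758 = n24317 := (sb E64997 (iv6 D49871))
theorem F309490 : act 0 n49873 = n32819 := (sb E64998 F106850)
theorem F309491 : act 1 n49873 = n80689 := (sb E64998 F303555)
theorem E68274 : n77439 = n77248 := ((((iv4 F116014)).symm.trans (sb E64998 (iv4 F304247)))).symm
theorem E68275 : n131284 = n50009 := ((((iv6 F79106)).symm.trans (sb E64998 (iv6 F210409)))).symm
theorem F309492 : act 4 n32847 = n24321 := (sb E64999 F78865)
theorem F309493 : act 6 n32847 = n50008 := (sb E64999 (iv6 F79101))
theorem F309494 : act 7 n32847 = n24318 := (sb E64999 (iv7 D49874))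
theorem E68277 : n107838 = n32433 := (((D32433).symm.trans (sb E65000 F167562))).symm
theorem E68278 : n77438 = n36431 := (((iv4 F304246)).symm.trans (sb E65001 (iv4 D79989)))
theorem E68279 : n69575 = n29180 := ((((iv6 D61605)).symm.trans (sb E65001 F122769))).symm
theorem F309495 : act 7 n61605 = n50046 := (sb E65001 (iv7 F122770))
theorem F309496 : act 6 n49808 = n32431 := (sb E65002 (iv6 D69847))
theorem E68281 : n80266 = n34807 := ((((iv0 D76205)).symm.trans (sb E65003 F123356))).symm
theorem E68282 : n159288 = n39288 := ((D159288).symm.trans (sb E65003 F116574))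
theorem F309497 : act 4 n76205 = n80689 := (sb E65003 (iv4 F124130))
theorem E68283 : n161748 = n36705 := (((F114169).symm.trans (sb E65003 (iv5 F255754)))).symm
theorem E68284 : n159289 = n80284 := ((D159289).symm.trans (sb E65003 (iv6 F123373)))
theorem F309498 : act 5 n55110 = n40218 := (sb E65004 (iv5 D86728))
theorem E68288 : n157482 = n124856 := ((D157482).symm.trans (sb E65005 F242159))
theorem E68289 : n157483 = n118777 := ((D157483).symm.trans (sb E65005 (iv2 F305865)))
theorem E68290 : n120364 = n108278 := (((F167418).symm.trans (sb E65005 F305376))).symm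
theorem F309499 : act 6 n74946 = n72373 := (sb E65005 (iv6 D153247))
theorem E68291 : n114727 = n68686 := ((D114727).symm.trans (sb E65006 (iv6 D146533)))
theorem F309500 : act 1 n74947 = n150377 := (sb E65007 (iv0 F303968))
theorem F309501 : act 3 n74947 = n149797 := (sb E65007 F236768)
theorem F309502 : act 6 n74947 = n70862 := (sb E65007 (iv6 D150408))
theorem E68292 : n131640 = n69860 := (((D69860).symm.trans (sb E65012 (iv7 F210977)))).symm
theorem E68293 : n68677 = n62777 := ((D68677).symm.trans (sb E65013 F187299))
theorem E68294 : n131325 = n68679 := (((D68679).symm.trans (sb E65013 (iv7 F210465)))).symm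
theorem F309503 : act 7 n61767 = n54774 := (sb E65014 (iv7 D119029))
theorem E68295 : n167929 = n155357 := ((((iv7 F244324)).symm.trans (sb E65017 (iv7 F264628)))).symm
theorem F309504 : act 0 n139763 = n80597 := (sb E65019 (iv1 F233987))
theorem F309505 : act 1 n139763 = n69805 := (sb E65019 (iv0 D148919))
theorem E68296 : n143129 = n105919 := (((iv2 F225979)).symm.trans (sb E65019 (iv2 F233988)))
theorem F309506 : act 4 n139763 = n118716 := (sb E65019 F233986)
theorem F309507 : act 3 n36768 = n62847 := (sb E65022 (iv3 D133828))
theorem F309508 : act 1 n70241 = n80568 := (sb E65023 (iv0 D167865))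
theorem F309510 : act 4 n133820 = n155176 := (sb E65025 F264498)
theorem F309511 : act 5 n133820 = n106019 := (sb E65025 (iv5 F264501))
theorem E68302 : n167864 = n133818 := (E65026).trans E65550
theorem F309512 : act 4 n133818 = n80601 := (sb E68302 F264486)
theorem E68303 : n149584 = n80567 := (((iv6 F235192)).symm.trans (sb E68302 (iv6 D167864)))
theorem F309513 : act 4 n36780 = n62847 := (sb E65027 (iv4 D133829))
theorem F309514 : act 1 n124555 = n68062 := (sb E65028 F243403)
theorem F309515 : act 5 n124555 = n62847 := (sb E65028 (iv5 D133830))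
theorem F309516 : act 3 n80582 = n133744 := (sb E65029 F261814)
theorem E68304 : n167898 = n79846 := ((D167898).symm.trans (sb E65029 (iv6 D166277)))
theorem E68305 : n170529 = n79765 := ((D170529).symm.trans (sb E65030 (iv0 F252916)))
theorem E68307 : n170532 = n76759 := ((D170532).symm.trans (sb E65030 (iv6 D160210)))
theorem F309517 : act 7 n81742 = n133744 := (sb E65030 (iv7 F252918))
theorem E68308 : n177306 = n26588 := ((((iv3 F42587)).symm.trans (sb E65032 (iv3 F276682)))).symm
theorem F309518 : act 3 n35385 = n38629 := (sb E65033 (iv3 D83880))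
theorem E68313 : n175706 = n77501 := (((D77501).symm.trans (sb E65033 D175706))).symm
theorem E68314 : n47271 = n17206 := (((F91351).symm.trans (sb E65033 F274689))).symm
theorem E68315 : n124368 = n41529 := ((D124368).symm.trans (sb E65034 (iv1 F275098)))
theorem E68316 : n124369 = n46063 := ((D124369).symm.trans (sb E65034 F275095))
theorem E68317 : n175708 = n27662 := ((((iv3 D57980)).symm.trans (sb E65034 D175708))).symm
theorem F309519 : act 4 n57980 = n38629 := (sb E65034 (iv4 D83881))
theorem E68318 : n175709 = n124371 := (((D124371).symm.trans (sb E65034 D175709))).symm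
theorem E68319 : n77785 = n46060 := (((iv7 F117149)).symm.trans (sb E65034 F274691))
theorem E68320 : n77805 = n47273 := (((F274693).symm.trans (sb E65035 F255343))).symm
theorem E68321 : n175692 = n158540 := ((D175692).symm.trans (sb E65037 (iv6 F249724)))
theorem E68322 : n175695 = n124361 := ((D175695).symm.trans (sb E65038 F255938))
theorem E68323 : n179820 = n175697 := (((D175697).symm.trans (sb E65038 (iv6 F280037)))).symm
theorem F309520 : act 1 n83878 = n167492 := (sb E65040 F263665)
theorem E68326 : n161975 = n4916 := (((F17285).symm.trans (sb E65041 D161975))).symm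
theorem E68330 : n155149 = n54977 := ((((iv3 F86994)).symm.trans (sb E65042 F255874))).symm
theorem F309521 : act 2 n46061 = n57980 := (sb E65043 (iv2 D124370))
theorem E68336 : n57608 = n47346 := (((D47346).symm.trans (sb E65047 F198001))).symm
theorem E68337 : n175498 = n70003 := (((D70003).symm.trans (sb E65048 D175498))).symm
theorem E68339 : n175500 = n69913 := ((((iv2 F155216)).symm.trans (sb E65048 D175500))).symm
theorem F309522 : act 3 n32492 = n38609 := (sb E65048 (iv3 D83800))
theorem E68340 : n175501 = n15381 := ((((iv4 D32492)).symm.trans (sb E65048 D175501))).symm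
theorem E68341 : n175502 = n70006 := (((D70006).symm.trans (sb E65048 D175502))).symm
theorem E68342 : n69917 = n47351 := (((iv7 F155227)).symm.trans (sb E65048 (iv7 F274797)))
theorem F309523 : act 6 n135429 = n73621 := (sb E65052 (iv6 D155102))
theorem F309524 : act 6 n130744 = n80313 := (sb E65054 (iv6 D167350))
theorem E68343 : n129379 = n124986 := (((iv3 F207547)).symm.trans (sb E65059 F302761))
theorem E68344 : n129382 = n80270 := ((D129382).symm.trans (sb E65059 (iv6 D167210)))
theorem F309527 : act 6 n77626 = n61027 := (sb E65060 (iv6 D129942))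
theorem E68347 : n167045 = n61111 := (((F95622).symm.trans (sb E65061 (iv2 F303152)))).symm
theorem E68348 : n176448 = n129405 := ((((iv3 F207577)).symm.trans (sb E65061 (iv3 F275748)))).symm
theorem E68350 : n129408 = n38778 := ((D129408).symm.trans (sb E65061 (iv6 D84132)))
theorem E68352 : n172764 = n172243 := (((D172243).symm.trans (sb E65066 (iv1 F273281)))).symm
theorem E68353 : n172763 = n172244 := (((D172244).symm.trans (sb E65066 F273282))).symm
theorem F309528 : act 7 n82501 = n83367 := (sb E65066 (iv7 D174405))
theorem E68354 : n174431 = n47347 := (((F274790).symm.trans (sb E65067 (iv2 F273311)))).symm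
theorem E68355 : n172405 = n69999 := ((D172405).symm.trans (sb E65067 (iv3 D149154)))
theorem F309529 : act 6 n82554 = n73043 := (sb E65067 F305428)
theorem F309530 : act 3 n155155 = n83576 := (sb E65068 F273874)
theorem F309531 : act 5 n155155 = n83574 := (sb E65068 (iv5 D174990))
theorem F309532 : act 3 n152734 = n83577 := (sb E65069 F273875)
theorem F309533 : act 5 n152734 = n175577 := (sb E65069 (iv5 F274921))
theorem F309534 : act 6 n152734 = n83574 := (sb E65069 (iv6 D174991))
theorem F309535 : act 0 n173586 = n83786 := (sb E65070 (iv1 F274635))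
theorem F309536 : act 1 n173586 = n83781 := (sb E65070 (iv0 D175447))
theorem F309537 : act 2 n173586 = n158535 := (sb E65070 (iv2 F274664))
theorem F309538 : act 5 n173586 = n158175 := (sb E65070 F274634)
theorem F309539 : act 3 n174862 = n83860 := (sb E65071 F274964)
theorem F309540 : act 5 n174862 = n83858 := (sb E65071 (iv5 D175642))
theorem E68357 : n172436 = n161345 := (((iv4 F270659)).symm.trans (sb E65072 (iv4 F255171)))
theorem F309541 : act 6 n101564 = n57639 := (sb E65072 (iv6 D123647))
theorem F309542 : act 3 n27527 = n47349 := (sb E65073 F156843)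
theorem F309543 : act 3 n78992 = n41484 := (sb E65074 (iv3 D88868))
theorem E68358 : n164478 = n47464 := ((D164478).symm.trans (sb E65074 F136277))
theorem E68359 : n164479 = n47463 := ((D164479).symm.trans (sb E65074 F136278))
theorem F309544 : act 5 n100720 = n47466 := (sb E65075 (iv5 D102277))
theorem F309545 : act 1 n83761 = n38622 := (sb E65076 (iv0 D83853))
theorem E68361 : n175416 = n167003 := ((D175416).symm.trans (sb E65076 F262989))
theorem F309546 : act 0 n83027 = n77611 := (sb E65077 (iv1 F128806))
theorem F309547 : act 1 n83027 = n77610 := (sb E65077 F128809)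
theorem E68362 : n173571 = n38601 := (((iv3 F272005)).symm.trans (sb E65077 F128804))
theorem F309548 : act 7 n83027 = n38597 := (sb E65077 (iv7 D83763))
theorem F309549 : act 3 n27037 = n38207 := (sb E65078 (iv3 D83019))
theorem E68367 : n173548 = n56051 := (((D56051).symm.trans (sb E65078 D173548))).symm
theorem E68368 : n38619 = n38384 := ((((iv7 F299917)).symm.trans (sb E65078 (iv7 F274538)))).symm
theorem E68369 : n173559 = n114145 := ((D173559).symm.trans (sb E65080 F178893))
theorem F309550 : act 3 n71851 = n83199 := (sb E65082 (iv3 D174015))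
theorem E68371 : n100898 = n54452 := ((D100898).symm.trans (sb E65083 (iv3 D118219)))
theorem E68372 : n152677 = n83200 := ((D152677).symm.trans (sb E65084 F272671))
theorem F309551 : act 4 n72022 = n100902 := (sb E65084 F272672)
theorem F309552 : act 7 n72022 = n83199 := (sb E65084 (iv7 D174018))
theorem F309553 : act 3 n34561 = n18384 := (sb E65089 (iv3 D38614))
theorem E68377 : n83823 = n75537 := (((D75537).symm.trans (sb E65089 D83823))).symm
theorem E68378 : n83834 = n71877 := ((D83834).symm.trans (sb E65090 F239554))
theorem F309554 : act 6 n38616 = n71876 := (sb E65090 (iv6 D152352))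
theorem E68379 : n166998 = n161587 := (((D161587).symm.trans (sb E65092 (iv1 F274960)))).symm
theorem E68380 : n167001 = n161588 := (((D161588).symm.trans (sb E65092 F274961))).symm
theorem E68381 : n174204 = n98231 := ((((iv6 F151584)).symm.trans (sb E65092 F274963))).symm
theorem F309555 : act 7 n77612 = n83855 := (sb E65092 (iv7 D175637))
theorem F309556 : act 3 n173372 = n152205 := (sb E65093 F273565)
theorem F309557 : act 5 n173372 = n83483 := (sb E65093 (iv5 D174724))
theorem F309558 : act 6 n173372 = n83486 := (sb E65093 F273566)
theorem E68382 : n154171 = n89129 := ((D154171).symm.trans (sb E65095 (iv1 F274862)))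
theorem E68383 : n154172 = n101144 := ((D154172).symm.trans (sb E65095 F274863))
theorem F309559 : act 2 n73041 = n101564 := (sb E65095 F274860)
theorem E68384 : n154174 = n83808 := ((D154174).symm.trans (sb E65095 (iv7 D175522)))
theorem E68385 : n101654 = n35522 := ((((iv1 D77843)).symm.trans (sb E65097 (iv1 F275073)))).symm
theorem F309560 : act 1 n77843 = n83875 := (sb E65097 (iv0 D175687))
theorem F309561 : act 0 n77609 = n83875 := (sb E65098 (iv1 D175688))
theorem E68386 : n101653 = n83782 := (((F306604).symm.trans (sb E65099 (iv1 F275078)))).symm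
theorem E68387 : n101652 = n83483 := ((((iv0 F191367)).symm.trans (sb E65099 F275076))).symm
theorem F309562 : act 2 n77491 = n83875 := (sb E65099 (iv2 D175689))
theorem F309563 : act 4 n123270 = n83875 := (sb E65100 (iv4 D175690))
theorem E68389 : n101655 = n98500 := ((((iv7 F308416)).symm.trans (sb E65100 F275079))).symm
theorem E68390 : n162022 = n98532 := ((D162022).symm.trans (sb E65102 (iv1 F275136)))
theorem F309564 : act 2 n77831 = n98500 := (sb E65102 F275133)
theorem E68391 : n173370 = n162043 := (((D162043).symm.trans (sb E65103 F275143))).symm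
theorem E68392 : n173368 = n162044 := (((D162044).symm.trans (sb E65103 (iv0 F275144)))).symm
theorem F309565 : act 2 n77845 = n101665 := (sb E65103 F275141)
theorem F309566 : act 6 n173352 = n83578 := (sb E65104 (iv6 D174998))
theorem F309567 : act 3 n72597 = n41726 := (sb E65105 (iv3 D89344))
theorem F309568 : act 0 n72022 = n37877 := (sb E65106 (iv1 D82506))
theorem F309569 : act 1 n72022 = n83202 := (sb E65106 F128285)
theorem E68393 : n172265 = n83200 := (((E68372).symm.trans ((D152677).symm.trans (sb E65106 (iv2 F270516))))).symm
theorem E68395 : n100902 = n41726 := ((F309551).symm.trans (sb E65106 F271100))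
theorem E68396 : n172268 = n152679 := (((D152679).symm.trans (sb E65106 D172268))).symm
theorem E68397 : n172269 = n152680 := (((D152680).symm.trans (sb E65106 D172269))).symm
theorem E68399 : n100897 = n41725 := ((D100897).symm.trans (sb E65107 (iv2 D89338)))
theorem F309570 : act 6 n167492 = n83761 := (sb E65108 (iv6 D175417))
theorem F309571 : act 3 n35505 = n47274 := (sb E65111 F156551)
theorem E68400 : n179818 = n46301 := ((D179818).symm.trans (sb E65112 F274649))
theorem F309572 : act 4 n85881 = n47274 := (sb E65112 F156574)
theorem E68401 : n122429 = n100057 := (((iv5 F195867)).symm.trans (sb E65112 F153981))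
theorem E68402 : n175516 = n128238 := ((((iv7 F304219)).symm.trans (sb E65113 (iv7 F274845)))).symm
theorem F309573 : act 0 n84949 = n128239 := (sb E65114 (iv1 F242564))
theorem F309574 : act 2 n87352 = n60272 := (sb E65115 F198183)
theorem F309575 : act 6 n87352 = n57669 := (sb E65115 (iv6 D123707))
theorem F309576 : act 0 n44554 = n72463 := (sb E65116 (iv1 F240491))
theorem F309577 : act 1 n87351 = n72463 := (sb E65117 F240486)
theorem F309578 : act 2 n87353 = n72463 := (sb E65118 F240489)
theorem E68403 : n182968 = n72656 := ((D182968).symm.trans (sb E65118 F240490))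
theorem F309579 : act 3 n46006 = n73493 := (sb E65119 (iv3 D154934))
theorem F309580 : act 5 n46628 = n73493 := (sb E65120 (iv5 D154935))
theorem F309581 : act 3 n102440 = n73498 := (sb E65121 (iv3 D154943))
theorem F309582 : act 5 n47604 = n73498 := (sb E65122 (iv5 D154944))
theorem F309583 : act 6 n69826 = n65063 := (sb E65123 (iv6 D138551))
theorem F309584 : act 1 n101362 = n157611 := (sb E65124 (iv0 F248362))
theorem F309585 : act 4 n101362 = n72433 := (sb E65124 (iv4 D153311))
theorem F309586 : act 0 n83597 = n60310 := (sb E65125 (iv1 D128292))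
theorem F309587 : act 4 n83597 = n73251 := (sb E65125 F206414)
theorem F309588 : act 5 n128316 = n86567 := (sb E65126 (iv5 D181292))
theorem E68406 : n158191 = n29520 := (((D29520).symm.trans (sb E65127 (iv3 F249160)))).symm
theorem E68408 : n133098 = n77147 := (((D77147).symm.trans (sb E65130 (iv3 F213741)))).symm
theorem E68409 : n61193 = n34489 := ((((iv6 F297360)).symm.trans (sb E65130 (iv6 D130414)))).symm
theorem E68410 : n158630 = n61366 := (((iv6 F249799)).symm.trans (sb E65132 F208922))
theorem E68411 : n61048 = n7830 := ((((iv1 D16770)).symm.trans (sb E65133 F212592))).symm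
theorem E68412 : n61053 = n34491 := (((F54725).symm.trans (sb E65133 (iv0 F212593)))).symm
theorem F309590 : act 3 n16770 = n13795 := (sb E65133 (iv3 D28977))
theorem E68413 : n34598 = n13821 := ((D34598).symm.trans (sb E65133 F46604))
theorem E68414 : n34488 = n29522 := (((iv7 F113994)).symm.trans (sb E65133 (iv7 F47342)))
theorem F309591 : act 3 n35227 = n61199 := (sb E65134 F208923)
theorem E68415 : n133126 = n77163 := (((D77163).symm.trans (sb E65134 (iv6 F213816)))).symm
theorem E68430 : n158184 = n29523 := (((D29523).symm.trans (sb E65138 D158184))).symm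
theorem E68431 : n119176 = n69863 := ((((iv1 F232453)).symm.trans (sb E65145 D119176))).symm
theorem F309593 : act 3 n54445 = n26531 := (sb E65145 (iv3 D54843))
theorem E68434 : n119179 = n118189 := (((D118189).symm.trans (sb E65145 D119179))).symm
theorem E68435 : n119180 = n118190 := (((D118190).symm.trans (sb E65145 D119180))).symm
theorem F309594 : act 0 n46881 = n34338 := (sb E65146 (iv1 F86787))
theorem F309595 : act 1 n46881 = n26531 := (sb E65146 (iv0 D54841))
theorem E68436 : n119170 = n22518 := ((((iv3 D46881)).symm.trans (sb E65146 D119170))).symm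
theorem E68437 : n100469 = n60049 := ((D100469).symm.trans (sb E65146 (iv4 F94569)))
theorem E68438 : n119171 = n100470 := (((D100470).symm.trans (sb E65146 D119171))).symm
theorem E68439 : n119172 = n100471 := (((D100471).symm.trans (sb E65146 D119172))).symm
theorem F309596 : act 7 n46881 = n61707 := (sb E65146 (iv7 F96304))
theorem E68440 : n119164 = n56678 := ((D119164).symm.trans (sb E65147 (iv3 D122355)))
theorem E68441 : n119165 = n57763 := ((D119165).symm.trans (sb E65147 F299244))
theorem E68444 : n99476 = n62448 := ((((iv3 F97328)).symm.trans (sb E65150 F268846))).symm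
theorem E68445 : n157476 = n100111 := ((D157476).symm.trans (sb E65152 (iv1 F275043)))
theorem E68446 : n157477 = n99304 := ((D157477).symm.trans (sb E65152 F232797))
theorem F309597 : act 2 n74933 = n100110 := (sb E65152 F232754)
theorem F309598 : act 3 n74933 = n41010 := (sb E65152 F134895)
theorem E68447 : n184248 = n157478 := (((D157478).symm.trans (sb E65152 (iv5 F286178)))).symm
theorem F309599 : act 7 n74933 = n41002 := (sb E65152 (iv7 D87883))
theorem E68448 : n123530 = n119280 := (((D119280).symm.trans (sb E65153 (iv0 F276343)))).symm
theorem F309600 : act 1 n57567 = n32248 := (sb E65154 (iv0 D69417))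
theorem F309601 : act 3 n57567 = n61393 := (sb E65154 F209024)
theorem E68450 : n148171 = n123520 := (((D123520).symm.trans (sb E65154 D148171))).symm
theorem E68451 : n123581 = n62324 := ((D123581).symm.trans (sb E65155 (tr (iv1 F197323) E66150)))
theorem E68452 : n123582 = n27571 := ((D123582).symm.trans (sb E65155 (iv0 D57748)))
theorem E68453 : n123951 = n123046 := ((((iv2 F197201)).symm.trans (sb E65155 D123951))).symm
theorem F309602 : act 3 n57603 = n86009 := (sb E65155 (iv3 F307103))
theorem E68457 : n123584 = n123133 := ((D123584).symm.trans (sb E65155 (iv7 F305712)))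
theorem F309603 : act 5 n66847 = n70958 := (sb E68071 (iv5 D150542))
theorem E68458 : n170016 = n49853 := ((D170016).symm.trans (sb E65157 F162874))
theorem E68459 : n170017 = n49866 := ((D170017).symm.trans (sb E65157 (iv0 F162875)))
theorem E68460 : n96493 = n49865 := (((iv2 F148600)).symm.trans (sb E65157 F163001))
theorem F309604 : act 3 n81547 = n62865 := (sb E65157 F162873)
theorem E68461 : n152025 = n46525 := (((F125420).symm.trans (sb E65157 (iv4 F239036)))).symm
theorem E68462 : n170018 = n49015 := ((D170018).symm.trans (sb E65157 (iv5 D106046)))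
theorem E68463 : n170019 = n49864 := ((D170019).symm.trans (sb E65157 (iv7 F166803)))
theorem F309605 : act 6 n81546 = n62865 := (sb E65158 (iv6 F307180))
theorem E68464 : n114661 = n72790 := ((D114661).symm.trans (sb E65159 (iv6 D153872)))
theorem E68465 : n174977 = n118069 := (((F232784).symm.trans (sb E65160 F273858))).symm
theorem E68466 : n175107 = n149011 := (((F234293).symm.trans (sb E65160 F274079))).symm
theorem E68467 : n131085 = n45165 := (((iv2 F209925)).symm.trans (sb E65160 F130189))
theorem E68468 : n149028 = n39295 := (((iv4 F234312)).symm.trans (sb E65160 F130191))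
theorem E68469 : n178482 = n72791 := (((F112436).symm.trans (sb E65160 D178482))).symm
theorem F309606 : act 6 n74914 = n39294 := (sb E65160 (iv6 D84938))
theorem E68470 : n178483 = n149010 := ((((iv7 F234329)).symm.trans (sb E65160 D178483))).symm
theorem F309607 : act 6 n33578 = n55636 := (sb E65161 (iv6 D120704))
theorem F309608 : act 3 n21570 = n33401 := (sb E65166 (iv3 D72356))
theorem E68472 : n61588 = n45196 := (((D45196).symm.trans (sb E65166 (iv5 F108809)))).symm
theorem E68473 : n74870 = n45197 := (((D45197).symm.trans (sb E65166 (iv7 F112375)))).symm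
theorem F309609 : act 0 n58171 = n68740 := (sb E66005 (iv1 D146671))
theorem F309610 : act 1 n58171 = n68745 := (sb E66005 F229983)
theorem F309611 : act 2 n58171 = n68744 := (sb E66005 (iv2 F229987))
theorem F309612 : act 7 n58171 = n68743 := (sb E66005 F229984)
theorem F309613 : act 3 n62859 = n69591 := (sb E65169 (iv3 F149130))
theorem F309614 : act 0 n73241 = n84949 := (sb E65172 (iv1 F273300))
theorem F309615 : act 1 n73241 = n83374 := (sb E65172 (iv0 D174424))
theorem F309616 : act 1 n38583 = n83593 := (sb E65173 (iv0 D175040))
theorem F309617 : act 1 n173412 = n83010 := (sb E65174 (iv0 D173508))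
theorem F309618 : act 0 n175042 = n83744 := (sb E65175 F275557)
theorem F309619 : act 0 n175043 = n83656 := (sb E65177 (iv1 D175149))
theorem F309620 : act 1 n175043 = n83708 := (sb E65177 F274140)
theorem F309621 : act 2 n175043 = n83706 := (sb E65177 F274315)
theorem F309622 : act 2 n97266 = n69292 := (sb E65183 F241152)
theorem F309623 : act 5 n97266 = n147004 := (sb E65183 F230541)
theorem F309624 : act 6 n97266 = n68955 := (sb E65183 (iv6 D147064))
theorem E68474 : n170588 = n147034 := ((D170588).symm.trans (iv5 (sb E65184 (tr F241104 E66810))))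
theorem F309625 : act 7 n147034 = n69292 := (sb E65184 F241150)
theorem F309626 : act 5 n117398 = n68943 := (sb E65185 (iv5 D147036))
theorem F309627 : act 7 n147025 = n68943 := (sb E65186 (iv7 D147037))
theorem F309628 : act 7 n15561 = n16602 := (sb E65187 (iv7 D34296))
theorem F309629 : act 0 n15215 = n12942 := (sb E65188 F26493)
theorem F309630 : act 1 n15215 = n17024 := (sb E65188 (iv0 F27889))
theorem F309631 : act 7 n15215 = n17419 := (sb E65188 F28394)
theorem F309632 : act 1 n8173 = n16602 := (sb E65189 (iv0 D34294))
theorem E68475 : n75098 = n32695 := (((F53204).symm.trans (sb E65190 (iv1 F112616)))).symm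
theorem F309633 : act 5 n26646 = n33980 := (sb E65190 F105754)
theorem F309634 : act 0 n84356 = n154696 := (sb E65191 (iv1 F242863))
theorem F309635 : act 2 n84356 = n75064 := (sb E65191 F240861)
theorem F309636 : act 4 n84356 = n72421 := (sb E65191 (iv4 D153298))
theorem E68477 : n153230 = n81795 := (((F129426).symm.trans (sb E65191 F240862))).symm
theorem F309637 : act 1 n84500 = n154696 := (sb E65192 (iv0 F242864))
theorem E68478 : n177350 = n72417 := (((iv4 F276736)).symm.trans (sb E65192 (iv4 F200546)))
theorem E68479 : n177358 = n58377 := ((D177358).symm.trans (sb E65192 (iv5 D124864)))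
theorem F309638 : act 7 n84500 = n75064 := (sb E65192 F200550)
theorem F309639 : act 5 n73361 = n55141 := (sb E65193 (iv5 D119836))
theorem F309640 : act 7 n73361 = n78446 := (sb E65193 F189128)
theorem F309641 : act 1 n84499 = n75064 := (sb E65194 F248387)
theorem F309642 : act 2 n84499 = n154696 := (sb E65194 (iv2 F248390))
theorem F309643 : act 1 n86580 = n150420 := (sb E65195 (iv0 F307573))
theorem F309644 : act 5 n86580 = n40151 := (sb E65195 (iv5 D86618))
theorem F309645 : act 1 n99592 = n71520 := (sb E65198 (iv0 D151743))
theorem F309646 : act 0 n123179 = n57796 := (sb E65200 (iv1 D124055))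
theorem F309647 : act 1 n123179 = n86595 := (sb E65201 F301207)
theorem E68483 : n181287 = n40158 := ((D181287).symm.trans (sb E65202 (iv0 D86641)))
theorem E68484 : n181515 = n181285 := ((((iv3 F282368)).symm.trans (sb E65202 D181515))).symm
theorem E68485 : n123746 = n123664 := ((((iv4 F198087)).symm.trans (sb E65202 (iv4 F198596)))).symm
theorem E68488 : n154243 = n71658 := ((D154243).symm.trans (sb E65203 F232818))
theorem E68489 : n123061 = n62741 := (((iv3 F197235)).symm.trans (sb E65203 (iv3 D133673)))
theorem E68490 : n154246 = n123911 := ((D154246).symm.trans (sb E65203 (tr F215097 E67366)))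
theorem F309648 : act 7 n123179 = n86642 := (sb E65204 (iv7 F282609))
theorem F309649 : act 3 n81437 = n74883 := (sb E65206 F247940)
theorem F309650 : act 7 n81437 = n74876 := (sb E65206 (iv7 D157423))
theorem F309651 : act 4 n107889 = n106013 := (sb E65207 F259452)
theorem E68492 : n153798 = n37191 := (((D37191).symm.trans (sb E65208 F241652))).symm
theorem F309652 : act 0 n17899 = n29147 := (sb E65211 F54037)
theorem F309653 : act 1 n17899 = n14089 := (sb E65211 F54038)
theorem F309654 : act 3 n17899 = n16610 := (sb E65211 F46751)
theorem F309655 : act 3 n34311 = n27865 := (sb E65215 (iv3 D58567))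
theorem F309656 : act 2 n120140 = n79081 := (sb E65216 F252835)
theorem F309657 : act 6 n120140 = n76734 := (sb E65216 (iv6 D160182))
theorem E68500 : n151949 = n39082 := (((iv4 F238945)).symm.trans (sb E65217 F128743))
theorem F309658 : act 7 n71641 = n46556 := (sb E65217 (iv7 F128746))
theorem F309659 : act 4 n38491 = n55281 := (sb E65218 F189749)
theorem E68502 : n83489 = n55280 := ((D83489).symm.trans (sb E65218 (iv6 D120129)))
theorem F309660 : act 0 n35072 = n55014 := (sb E65220 (iv1 D119580))
theorem E68503 : n74692 = n73722 := (((D73722).symm.trans (sb E65221 (tr (iv0 F247723) E66041)))).symm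
theorem E68504 : n152881 = n73725 := (((D73725).symm.trans (sb E65221 F247721))).symm
theorem F309661 : act 1 n133635 = n73723 := (sb E65222 F273690)
theorem F309662 : act 2 n133635 = n73721 := (sb E65222 (iv2 D155225))
theorem E68505 : n85185 = n73722 := (E66041).trans E68503
theorem F309663 : act 0 n120226 = n73723 := (sb E65223 F273656)
theorem F309664 : act 4 n120226 = n83516 := (sb E65223 F273658)
theorem F309665 : act 7 n120226 = n73721 := (sb E65223 (iv7 D155230))
theorem F309666 : act 5 n72134 = n73723 := (sb E65224 (iv5 D155237))
theorem F309667 : act 3 n155224 = n154696 := (sb E65225 F278639)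
theorem F309668 : act 5 n155224 = n119615 := (sb E65225 (iv5 F278637))
theorem F309669 : act 3 n84471 = n75064 := (sb E65226 (iv3 D157638))
theorem E68506 : n177310 = n151938 := ((D177310).symm.trans (sb E65226 F248394))
theorem F309670 : act 3 n34376 = n38972 := (sb E65230 (iv3 D84487))
theorem F309671 : act 4 n34376 = n38975 := (sb E65230 F129614)
theorem F309672 : act 6 n34376 = n38975 := (sb E65230 F301852)
theorem E68510 : n177363 = n58321 := ((D177363).symm.trans (sb E65231 (iv6 D124756)))
theorem F309673 : act 0 n69298 = n78446 := (sb E65232 (iv1 D163216))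
theorem F309674 : act 2 n73360 = n78446 := (sb E65233 (iv2 D163217))
theorem F309675 : act 4 n73085 = n69828 := (sb E65234 (iv4 D148959))
theorem F309676 : act 2 n70777 = n76624 := (sb E65236 (iv2 F114898))
theorem F309677 : act 4 n70777 = n33079 := (sb E65236 (iv4 D71509))
theorem E68513 : n151728 = n80681 := (((F305388).symm.trans (sb E65236 D151728))).symm
theorem F309678 : act 4 n149872 = n73820 := (sb E65237 (iv4 D155356))
theorem F309679 : act 7 n149872 = n76624 := (sb E65237 F244318)
theorem F309680 : act 6 n38917 = n29198 := (sb E65238 (iv6 D61626))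
theorem F309681 : act 4 n96184 = n117506 := (sb E65239 F252073)
theorem F309682 : act 6 n96184 = n76535 := (sb E65239 (iv6 D159874))
theorem E68514 : n127854 = n85577 := (((iv1 F205729)).symm.trans (sb E65240 F147897))
theorem E68515 : n85576 = n29218 := ((((iv0 F96190)).symm.trans (sb E65240 F147899))).symm
theorem F309683 : act 4 n61624 = n83158 := (sb E65240 F147896)
theorem F309684 : act 6 n61624 = n44904 := (sb E65240 (iv6 D96185))
theorem F309685 : act 1 n54590 = n83158 := (sb E65241 (iv0 F272204))
theorem F309686 : act 7 n54590 = n83160 := (sb E65241 (iv7 F272207))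
theorem E68518 : n118538 = n85130 := (((D85130).symm.trans (sb E65242 D118538))).symm
theorem F309687 : act 2 n120152 = n83161 := (sb E65243 F272538)
theorem F309688 : act 5 n120152 = n83158 := (sb E65243 (iv5 D173895))
theorem F309689 : act 0 n133682 = n83160 := (sb E65244 (iv1 F272212))
theorem F309690 : act 3 n133682 = n84064 := (sb E65244 F272208)
theorem F309691 : act 7 n133682 = n83158 := (sb E65244 F272210)
theorem E68519 : n181015 = n149893 := ((D181015).symm.trans (sb E65245 (iv1 F257113)))
theorem E68520 : n161634 = n35475 := ((D161634).symm.trans (sb E65246 (iv1 D77724)))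
theorem E68521 : n161635 = n161394 := ((D161635).symm.trans (sb E65246 F255222))
theorem E68527 : n111815 = n44750 := ((((iv4 D95830)).symm.trans (sb E65247 F175151))).symm
theorem F309692 : act 6 n95830 = n51942 := (sb E65247 (iv6 D112576))
theorem E68528 : n50531 = n44752 := (((D44752).symm.trans (sb E65248 (iv6 D109529)))).symm
theorem F309693 : act 6 n51012 = n44751 := (sb E65249 (iv6 D95835))
theorem E68529 : n176487 = n147470 := ((((iv5 F231254)).symm.trans (sb E65250 (iv5 F275805)))).symm
theorem F309694 : act 6 n69125 = n82743 := (sb E65250 (iv6 D172824))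
theorem E68530 : n147356 = n128105 := ((D147356).symm.trans (sb E65251 (iv2 F206188)))
theorem E68531 : n146778 = n72866 := (((iv4 F230140)).symm.trans (sb E65251 F205799))
theorem F309695 : act 6 n69084 = n60068 := (sb E65251 (iv6 D127883))
theorem F309696 : act 3 n69196 = n69741 := (sb E65252 F233650)
theorem E68532 : n147354 = n69740 := (((iv6 F231060)).symm.trans (sb E65252 (iv6 D148807)))
theorem F309697 : act 3 n55310 = n61186 := (sb E65253 (iv3 D130386))
theorem F309698 : act 4 n127657 = n61185 := (sb E65254 (iv4 D130382))
theorem F309699 : act 6 n127656 = n61185 := (sb E65255 (iv6 D130384))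
theorem F309700 : act 0 n60235 = n29518 := (sb E65256 (iv1 D62440))
theorem E68533 : n133081 = n128052 := ((((iv2 F206063)).symm.trans (sb E65256 (iv2 F213727)))).symm
theorem E68534 : n128141 = n118562 := (((iv3 F206272)).symm.trans (sb E65256 (iv3 F209870)))
theorem E68535 : n133082 = n128155 := (((D128155).symm.trans (sb E65256 D133082))).symm
theorem E68537 : n128145 = n118560 := (((iv6 F206275)).symm.trans (sb E65256 F209871))
theorem E68538 : n133076 = n128156 := (((D128156).symm.trans (sb E65256 F213726))).symm
theorem F309701 : act 0 n62439 = n128154 := (sb E65257 F257008)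
theorem E68539 : n154292 = n133078 := (((D133078).symm.trans (sb E65257 F257007))).symm
theorem E68540 : n133079 = n78234 := ((D133079).symm.trans (sb E65257 (iv5 D162771)))
theorem F309702 : act 4 n58275 = n61171 := (sb E65258 F208848)
theorem F309703 : act 6 n58275 = n61170 := (sb E65258 (iv6 D130328))
theorem E68541 : n74746 = n33642 := (((D33642).symm.trans (sb E65261 F208905))).symm
theorem F309704 : act 0 n39466 = n30653 := (sb E65262 F222426)
theorem F309705 : act 2 n39466 = n74589 := (sb E65262 (iv2 F222089))
theorem E68542 : n138913 = n18704 := (((F60383).symm.trans (sb E65262 (iv3 F222105)))).symm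
theorem E68544 : n30614 = n18702 := ((((iv5 D39466)).symm.trans (sb E65262 (iv5 D65220)))).symm
theorem F309706 : act 0 n65215 = n54581 := (sb E65263 (iv1 F131029))
theorem F309707 : act 2 n65215 = n55329 := (sb E65263 (iv2 F131004))
theorem E68546 : n138893 = n71501 := (((iv3 F222054)).symm.trans (sb E65263 (iv3 F232448)))
theorem E68547 : n161332 = n138903 := (((D138903).symm.trans (sb E65263 F305249))).symm
theorem E68548 : n58462 = n30613 := ((((iv5 D65215)).symm.trans (sb E65263 (iv5 F131005)))).symm
theorem E68549 : n138904 = n35963 := ((D138904).symm.trans (sb E65263 (iv6 D79019)))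
theorem E68550 : n49963 = n27806 := (((iv1 F79024)).symm.trans (sb E65264 (iv1 D58436)))
theorem E68551 : n49962 = n39399 := ((F79020).symm.trans (sb E65264 F92294))
theorem E68552 : n124992 = n74765 := ((((iv4 F112206)).symm.trans (sb E65264 D124992))).symm
theorem F309708 : act 5 n34264 = n54581 := (sb E65264 F199906)
theorem E68553 : n124993 = n74782 := (((D74782).symm.trans (sb E65264 D124993))).symm
theorem E68554 : n49964 = n39406 := (((iv7 F79022)).symm.trans (sb E65264 F199931))
theorem F309709 : act 0 n65353 = n55329 := (sb E65265 (iv1 F130965))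
theorem F309710 : act 6 n65353 = n39290 := (sb E65265 (iv6 D84929))
theorem F309711 : act 7 n65353 = n54581 := (sb E65265 F130133)
theorem E68555 : n158718 = n132334 := (((F212281).symm.trans (sb E65266 (iv1 F249897)))).symm
theorem E68556 : n152153 = n37876 := ((D152153).symm.trans (sb E65266 (iv0 D82502)))
theorem E68557 : n172247 = n133782 := ((((iv2 F215414)).symm.trans (sb E65266 D172247))).symm
theorem E68559 : n130731 = n128270 := ((F211936).symm.trans (sb E65266 (iv5 F302479)))
theorem E68561 : n71239 = n30625 := (((F53812).symm.trans (sb E65267 F200496))).symm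
theorem E68562 : n150030 = n74563 := (((D74563).symm.trans (sb E65267 (iv3 F236034)))).symm
theorem E68563 : n128359 = n74564 := (((D74564).symm.trans (sb E65267 (iv4 F206482)))).symm
theorem E68564 : n74679 = n40098 := (((F304643).symm.trans (sb E65268 F219733))).symm
theorem F309712 : act 3 n34377 = n61182 := (sb E65268 (iv3 D130370))
theorem E68565 : n74558 = n58321 := (((F92182).symm.trans (sb E65268 F208900))).symm
theorem F309713 : act 2 n82503 = n63647 := (sb E65269 (iv2 F214142))
theorem E68566 : n172253 = n152165 := ((D172253).symm.trans (sb E65269 (iv3 F239236)))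
theorem F309714 : act 4 n82503 = n61182 := (sb E65269 (iv4 D130371))
theorem E68567 : n132312 = n128271 := ((((iv5 F302483)).symm.trans (sb E65269 F212133))).symm
theorem F309715 : act 6 n34374 = n61182 := (sb E65271 (iv6 D130372))
theorem E68569 : n124806 = n74739 := (((D74739).symm.trans (sb E65272 F240679))).symm
theorem E68570 : n72363 = n65262 := ((((iv5 F208780)).symm.trans (sb E65272 (iv5 D153239)))).symm
theorem E68571 : n152988 = n74742 := (((D74742).symm.trans (sb E65272 F240682))).symm
theorem E68572 : n74734 = n27780 := ((D74734).symm.trans (sb E65273 F92199))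
theorem E68573 : n124771 = n74735 := (((D74735).symm.trans (sb E65273 D124771))).symm
theorem E68574 : n65261 = n27778 := (((iv5 F208782)).symm.trans (sb E65273 (iv5 D58334)))
theorem E68575 : n124772 = n74737 := (((D74737).symm.trans (sb E65273 D124772))).symm
theorem E68576 : n153690 = n74720 := ((((iv4 F112139)).symm.trans (sb E65274 (iv4 F241559)))).symm
theorem E68577 : n74743 = n33547 := ((D74743).symm.trans (sb E65274 (iv6 D72718)))
theorem F309716 : act 1 n80707 = n61174 := (sb E65275 (iv0 D130343))
theorem E68578 : n156500 = n125180 := ((((iv5 F304880)).symm.trans (sb E65275 (iv5 F246053)))).symm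
theorem F309717 : act 0 n79860 = n61174 := (sb E65276 F217509)
theorem E68580 : n107976 = n70714 := ((F208867).symm.trans (sb E65277 (iv1 D150227)))
theorem F309718 : act 4 n130345 = n83751 := (sb E65277 F274150)
theorem E68581 : n156217 = n85194 := (((iv5 F245497)).symm.trans (sb E65277 F274151))
theorem F309719 : act 6 n130345 = n70731 := (sb E65277 F274152)
theorem F309720 : act 4 n125161 = n74570 := (sb E65278 (iv4 F208894))
theorem F309721 : act 5 n125161 = n61174 := (sb E65278 (iv5 D130346))
theorem F309722 : act 4 n32790 = n61176 := (sb E65279 F208868)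
theorem F309723 : act 6 n32790 = n61174 := (sb E65279 (iv6 D130347))
theorem F309724 : act 1 n127886 = n61176 := (sb E65280 (iv0 D130354))
theorem F309725 : act 0 n70534 = n61176 := (sb E65281 (iv1 D130355))
theorem E68583 : n167825 = n133867 := (((iv6 F264303)).symm.trans (sb E65284 (iv6 F215592)))
theorem F309726 : act 7 n127878 = n61176 := (sb E65284 (iv7 D130357))
theorem F309727 : act 1 n138394 = n148464 := (sb E66697 (iv0 F252226))
theorem F309728 : act 4 n138394 = n127668 := (sb E66697 F252224)
theorem F309729 : act 5 n138394 = n151418 := (sb E66697 F252225)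
theorem E68584 : n155320 = n108293 := (E65286).trans E66322
theorem F309730 : act 2 n108293 = n148464 := (sb E68584 F244254)
theorem F309731 : act 4 n108293 = n73798 := (sb E68584 (iv4 D155320))
theorem F309732 : act 1 n79327 = n57328 := (sb E65287 F299940)
theorem F309733 : act 7 n79327 = n37337 := (sb E65287 (iv7 D81689))
theorem F309734 : act 7 n61770 = n37333 := (sb E65288 (iv7 D81681))
theorem F309735 : act 3 n162621 = n83626 := (sb E65291 (iv3 D175099))
theorem F309736 : act 4 n172070 = n83626 := (sb E65292 (iv4 D175100))
theorem F309737 : act 0 n128133 = n61772 := (sb E65293 (iv1 F210937))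
theorem F309738 : act 1 n128133 = n61766 := (sb E65293 (iv0 D131638))
theorem F309739 : act 2 n128133 = n61770 := (sb E65293 (iv2 F210933))
theorem F309740 : act 3 n128133 = n149004 := (sb E65293 (iv3 F234275))
theorem F309741 : act 7 n128133 = n61771 := (sb E65293 (iv7 F210935))
theorem F309742 : act 0 n16169 = n21545 := (sb E65295 F116725)
theorem F309743 : act 1 n16169 = n27865 := (sb E65295 F90450)
theorem E68586 : n80579 = n33485 := (((D33485).symm.trans (sb E65295 (iv6 F299991)))).symm
theorem F309744 : act 0 n13874 = n27865 := (sb E65298 F297747)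
theorem F309745 : act 1 n13874 = n21545 := (sb E65298 F297748)
theorem F309746 : act 6 n13874 = n18977 := (sb E65298 (iv6 D40182))
theorem E68587 : n86684 = n29153 := (((D29153).symm.trans (sb E65299 (iv5 D181629)))).symm
theorem E68589 : n86646 = n29118 := (((D29118).symm.trans (sb E65300 F300217))).symm
theorem F309747 : act 3 n127905 = n73910 := (sb E65304 F244415)
theorem F309748 : act 5 n127905 = n73909 := (sb E65304 (iv5 D155441))
theorem F309749 : act 4 n71811 = n73910 := (sb E65305 (iv4 D155442))
theorem E68596 : n161843 = n69881 := ((D161843).symm.trans (sb E65307 (iv5 D149008)))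
theorem E68597 : n151937 = n81773 := ((((iv6 F302704)).symm.trans (sb E65307 (iv6 F238907)))).symm
theorem F309750 : act 5 n70536 = n81775 := (sb E65308 (iv5 D170603))
theorem F309751 : act 0 n37381 = n62716 := (sb E65309 (iv1 F109055))
theorem F309752 : act 2 n37381 = n62714 := (sb E65309 F235894)
theorem E68600 : n62715 = n38958 := (((F117049).symm.trans (sb E65309 F235895))).symm
theorem F309753 : act 5 n34374 = n38972 := (sb E65310 (iv5 D84488))
theorem E68603 : n155610 = n149876 := (((iv0 F244643)).symm.trans (sb E65312 F244113))
theorem E68604 : n75089 = n73718 := ((F238601).symm.trans (sb E65312 (iv2 D155218)))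
theorem E68605 : n164532 = n123529 := (((iv3 F259349)).symm.trans (sb E65312 F244111))
theorem F309754 : act 7 n151725 = n149878 := (sb E65312 F244112)
theorem F309755 : act 5 n80679 = n73811 := (sb E65314 (iv5 D155346))
theorem F309756 : act 0 n133587 = n100825 := (sb E65316 (iv1 F268739))
theorem F309757 : act 1 n133587 = n81975 := (sb E65316 (iv0 D171024))
theorem E68607 : n107967 = n100916 := ((F214904).symm.trans (sb E65316 F268738))
theorem F309758 : act 0 n133595 = n81591 := (sb E65317 (iv1 D170127))
theorem F309759 : act 1 n133595 = n149798 := (sb E65317 F267619)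
theorem F309760 : act 7 n133595 = n149797 := (sb E65317 F267616)
theorem F309761 : act 5 n60868 = n81591 := (sb E65318 (iv5 D170129))
theorem F309762 : act 0 n96727 = n120183 := (sb E65319 F212295)
theorem F309763 : act 5 n96727 = n62084 := (sb E65319 (iv5 D132338))
theorem E68608 : n100826 = n62464 := ((D100826).symm.trans (sb E65320 (iv4 D133139)))
theorem F309764 : act 3 n46463 = n61707 := (sb E65325 (iv3 D131486))
theorem E68610 : n61709 = n38300 := (((F195696).symm.trans (sb E65325 F210749))).symm
theorem F309765 : act 2 n17127 = n29110 := (sb E65326 F95993)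
theorem F309766 : act 4 n17127 = n29107 := (sb E65326 (iv4 D61486))
theorem F309767 : act 7 n17127 = n33493 := (sb E65326 F95994)
theorem F309768 : act 2 n37302 = n29111 := (sb E65328 F95995)
theorem F309769 : act 3 n37302 = n33258 := (sb E65328 F95996)
theorem F309770 : act 6 n37302 = n29107 := (sb E65328 (iv6 D61487))
theorem E68615 : n131072 = n45168 := ((((iv7 F117064)).symm.trans (sb E65328 D131072))).symm
theorem E68616 : n101133 = n97944 := ((((iv3 F307739)).symm.trans (sb E65329 F268845))).symm
theorem F309771 : act 3 n37571 = n55616 := (sb E65331 (iv3 D120664))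
theorem E68617 : n152621 = n35117 := (((F298795).symm.trans (sb E65331 (iv6 F239830)))).symm
theorem F309772 : act 3 n120665 = n57306 := (sb E65332 (iv3 D123151))
theorem E68621 : n160313 = n152622 := (((D152622).symm.trans (sb E65333 D160313))).symm
theorem E68622 : n160276 = n152623 := (((D152623).symm.trans (sb E65333 (iv7 F253135)))).symm
theorem E68623 : n153305 = n120182 := (((D120182).symm.trans (sb E65334 (iv4 F240868)))).symm
theorem F309773 : act 3 n70246 = n68790 := (sb E65341 F183499)
theorem E68624 : n149588 = n54044 := ((D149588).symm.trans (sb E65341 (iv6 D117265)))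
theorem E68628 : n124078 = n55108 := ((((iv3 F87174)).symm.trans (sb E65343 F198480))).symm
theorem E68634 : n75962 = n61587 := (((D61587).symm.trans (sb E65347 (iv1 F298559)))).symm
theorem F309774 : act 5 n29173 = n18982 := (sb E65347 (iv5 D40199))
theorem F309775 : act 1 n40200 = n62714 := (sb E65348 F109057)
theorem F309776 : act 2 n40200 = n62716 := (sb E65348 F109054)
theorem F309777 : act 1 n61534 = n86699 := (sb E65353 F302806)
theorem E68637 : n131171 = n73715 := ((D131171).symm.trans (sb E65353 (iv6 D155212)))
theorem F309778 : act 0 n61533 = n86699 := (sb E65354 (iv1 D181657))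
theorem E68638 : n123145 = n119161 := ((((iv4 F187494)).symm.trans (sb E65355 (iv4 F304464)))).symm
theorem F309779 : act 7 n54838 = n86699 := (sb E65355 F264530)
theorem E68639 : n99602 = n49847 := ((((iv1 F78828)).symm.trans (sb E65356 (iv1 F274733)))).symm
theorem E68640 : n99599 = n71420 := ((D99599).symm.trans (sb E65358 F166715))
theorem E68641 : n99600 = n71417 := ((D99600).symm.trans (sb E65358 F166716))
theorem F309780 : act 2 n46555 = n49839 := (sb E65358 F166713)
theorem E68642 : n152002 = n99601 := (((D99601).symm.trans (sb E65358 (iv5 F239025)))).symm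
theorem F309781 : act 6 n107904 = n88801 := (sb E65359 F274730)
theorem F309782 : act 6 n107906 = n99596 := (sb E65360 F274732)
theorem F309783 : act 5 n33902 = n70472 := (sb E65362 (iv5 D149892))
theorem F309784 : act 4 n120256 = n84890 := (sb E65364 F277996)
theorem E68644 : n53967 = n52873 := (((D52873).symm.trans (sb E65366 (iv6 D117101)))).symm
theorem F309785 : act 6 n26103 = n52872 := (sb E65367 (iv6 D114544))
theorem F309786 : act 3 n71899 = n68333 := (sb E65368 F225424)
theorem E68645 : n152407 = n66823 := ((D152407).symm.trans (sb E65368 (iv6 D142532)))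
theorem F309787 : act 2 n77645 = n68354 := (sb E65369 F228874)
theorem F309788 : act 5 n77645 = n68333 := (sb E65369 (iv5 D145746))
theorem E68646 : n134709 = n68557 := (((iv6 F305939)).symm.trans (sb E65369 F228875))
theorem F309789 : act 3 n54376 = n68355 := (sb E65370 F226296)
theorem F309790 : act 5 n77644 = n68355 := (sb E65371 F228934)
theorem F309791 : act 7 n77644 = n68354 := (sb E65371 (iv7 D145800))
theorem F309792 : act 6 n119070 = n179986 := (sb E65372 F280341)
theorem E68647 : n179990 = n54796 := (((D54796).symm.trans (sb E65373 (iv6 F280363)))).symm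
theorem F309793 : act 6 n86010 = n54795 := (sb E65374 (iv6 D119071))
theorem E68648 : n101897 = n100727 := ((D101897).symm.trans (iv2 (sb E65375 (tr F197200 E68336))))
theorem F309794 : act 6 n100727 = n57256 := (sb E65375 (iv6 D123045))
theorem E68649 : n101896 = n89106 := ((D101896).symm.trans (iv0 (sb E65377 (tr (iv1 D123588) E68336))))
theorem F309795 : act 4 n61012 = n40048 := (sb E65380 F128105)
theorem F309796 : act 6 n61012 = n38248 := (sb E65380 (iv6 D83095))
theorem E68654 : n84112 = n60857 := (((F209640).symm.trans (sb E65380 (iv7 F300593)))).symm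
theorem E68655 : n117604 = n81691 := (((iv0 F252077)).symm.trans (sb E65381 (iv0 F235348)))
theorem E68656 : n143635 = n70301 := (((iv3 F226308)).symm.trans (sb E65381 (iv3 D149684)))
theorem E68657 : n154636 = n148184 := (((D148184).symm.trans (sb E65381 (iv5 F305983)))).symm
theorem F309797 : act 0 n149007 = n151769 := (sb E65382 (iv1 F282078))
theorem F309798 : act 1 n149007 = n161842 := (sb E65382 F282077)
theorem F309799 : act 2 n149007 = n86492 := (sb E65382 (iv2 D181107))
theorem F309800 : act 4 n149007 = n161394 := (sb E65382 F282075)
theorem F309801 : act 3 n99605 = n55014 := (sb E65383 F188533)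
theorem F309802 : act 6 n99605 = n55002 := (sb E65383 (iv6 D119552))
theorem E68658 : n107962 = n81921 := ((F232711).symm.trans (sb E65384 F268485))
theorem F309803 : act 6 n71675 = n81920 := (sb E65384 (iv6 D170884))
theorem F309804 : act 2 n97228 = n69739 := (sb E65385 F184044)
theorem F309805 : act 3 n97228 = n54143 := (sb E65385 F184045)
theorem F309806 : act 5 n97228 = n71641 := (sb E65385 F184047)
theorem F309807 : act 6 n97228 = n54141 := (sb E65385 (iv6 D117495))
theorem E68659 : n157652 = n70455 := ((((iv1 F307806)).symm.trans (sb E65390 (iv1 F248428)))).symm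
theorem F309808 : act 1 n86586 = n151725 := (sb E65390 (iv0 F244646))
theorem E68660 : n157383 = n105434 := ((((iv2 F161834)).symm.trans (sb E65390 (iv2 F247791)))).symm
theorem E68661 : n181345 = n74027 := ((D181345).symm.trans (sb E65390 (iv5 D155614)))
theorem E68662 : n157651 = n106037 := ((((iv7 F307807)).symm.trans (sb E65390 (iv7 F248421)))).symm
theorem F309809 : act 1 n54553 = n82992 := (sb E65391 (iv0 D173441))
theorem F309810 : act 0 n55147 = n82992 := (sb E65392 (iv1 D173442))
theorem E68663 : n152212 = n83650 := ((D152212).symm.trans (sb E65393 F271900))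
theorem E68664 : n152214 = n101609 := ((D152214).symm.trans (sb E65393 F271901))
theorem F309811 : act 7 n71790 = n82992 := (sb E65393 (iv7 D173444))
theorem F309812 : act 2 n114734 = n58151 := (sb E65394 (iv2 D124573))
theorem F309813 : act 3 n114734 = n157427 := (sb E65394 (iv3 F306720))
theorem F309814 : act 4 n114734 = n77635 := (sb E65394 F299983)
theorem F309815 : act 6 n114734 = n77634 := (sb E65394 F299984)
theorem F309816 : act 3 n114735 = n58115 := (sb E65395 F193841)
theorem F309817 : act 4 n114735 = n56084 := (sb E65395 (iv4 D121482))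
theorem F309818 : act 6 n114735 = n85652 := (sb E65395 (iv6 F193843))
theorem F309819 : act 7 n114735 = n58151 := (sb E65395 F193842)
theorem E68665 : n83682 = n58151 := ((F178848).symm.trans (sb E65396 (iv0 D124571)))
theorem F309820 : act 3 n114737 = n105950 := (sb E65396 F299978)
theorem E68666 : n131311 = n70126 := (((iv0 F210450)).symm.trans (sb E65397 F307819))
theorem E68667 : n160030 = n45228 := (((iv3 F252487)).symm.trans (sb E65397 (iv3 D96783)))
theorem E68668 : n160032 = n148891 := ((D160032).symm.trans (sb E65397 (iv4 F261855)))
theorem F309821 : act 6 n127529 = n76629 := (sb E65399 (iv6 D160033))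
theorem E68669 : n133721 = n79289 := (((F305852).symm.trans (sb E65400 F252496))).symm
theorem F309822 : act 7 n70771 = n76629 := (sb E65400 (iv7 D160034))
theorem F309823 : act 0 n152429 = n148459 := (sb E65401 F250232)
theorem E68670 : n148908 = n62845 := (E65453).trans E67430
theorem F309826 : act 0 n69565 = n71907 := (sb E65402 (iv1 D152430))
theorem E68671 : n148453 = n147300 := (((iv3 F232201)).symm.trans (sb E65402 F259282))
theorem F309827 : act 1 n79288 = n62774 := (sb E65403 F166679)
theorem F309828 : act 0 n40235 = n62774 := (sb E65404 F108141)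
theorem E68672 : n138531 = n86606 := (((F303816).symm.trans (sb E65404 F232813))).symm
theorem F309829 : act 2 n32533 = n62774 := (sb E65405 (iv2 F97955))
theorem F309830 : act 4 n32533 = n29197 := (sb E65405 (iv4 D61622))
theorem F309831 : act 3 n79844 = n62774 := (sb E65406 (iv3 D133727))
theorem F309832 : act 1 n133728 = n70771 := (sb E65407 (iv0 F234759))
theorem F309833 : act 3 n133728 = n148860 := (sb E65407 F234757)
theorem F309834 : act 1 n70125 = n61625 := (sb E65408 F112317)
theorem E68674 : n157365 = n149072 := ((((iv3 F234448)).symm.trans (sb E65408 D157365))).symm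
theorem E68675 : n149351 = n34290 := ((D149351).symm.trans (sb E65408 (iv4 D74835)))
theorem F309835 : act 0 n70124 = n61625 := (sb E65409 F112321)
theorem E68677 : n149350 = n34291 := ((D149350).symm.trans (sb E65409 (iv4 D74837)))
theorem E68678 : n157371 = n121944 := (((F215735).symm.trans (sb E65409 D157371))).symm
theorem F309836 : act 2 n36093 = n61625 := (sb E65410 F97945)
theorem F309837 : act 4 n36093 = n29698 := (sb E65410 (iv4 D62771))
theorem F309838 : act 3 n85788 = n61625 := (sb E65411 (iv3 D131316))
theorem F309839 : act 3 n131317 = n159121 := (sb E65412 F305839)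
theorem F309840 : act 4 n131317 = n71907 := (sb E65412 F239613)
theorem F309841 : act 6 n131317 = n71906 := (sb E65412 (iv6 D152428))
theorem F309842 : act 6 n36092 = n61625 := (sb E65413 (iv6 D131318))
theorem E68680 : n60186 = n37334 := (((D37334).symm.trans (sb E65414 (iv6 D128076)))).symm
theorem F309843 : act 0 n61772 = n37333 := (sb E65415 (iv1 D81679))
theorem F309844 : act 4 n61772 = n119782 := (sb E65415 (iv4 F303038))
theorem F309845 : act 0 n36825 = n76624 := (sb E65416 (iv1 D160021))
theorem E68683 : n159077 = n131687 := ((F250442).symm.trans (sb E65418 F212272))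
theorem F309846 : act 3 n81658 = n74896 := (sb E65418 (iv3 F207742))
theorem E68684 : n98181 = n60867 := (((iv4 F151472)).symm.trans (sb E65418 (iv4 D129557)))
theorem E68685 : n170266 = n131403 := ((D170266).symm.trans (sb E65418 F212271))
theorem E68686 : n159079 = n132335 := (((iv7 F250445)).symm.trans (sb E65418 (iv7 F212284)))
theorem F309847 : act 4 n70829 = n74896 := (sb E65419 (iv4 D157443))
theorem E68687 : n138522 = n85755 := ((((iv5 F131490)).symm.trans (sb E65419 F248006))).symm
theorem F309848 : act 0 n124054 = n86595 := (sb E65661 (iv1 F282461))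
theorem E68688 : n37342 = n13568 := ((D37342).symm.trans (sb E65421 (iv6 D28458)))
theorem E68689 : n69798 = n59906 := ((D69798).symm.trans (sb E65422 (iv6 D127566)))
theorem E68690 : n170377 = n59869 := ((((iv1 F94327)).symm.trans (sb E65423 D170377))).symm
theorem F309849 : act 6 n28455 = n37341 := (sb E65423 (iv6 D81697))
theorem E68694 : n115869 = n32557 := (((F51623).symm.trans (sb E65424 (iv3 F180380)))).symm
theorem F309850 : act 4 n23890 = n26230 := (sb E65424 F85588)
theorem E68696 : n48965 = n26229 := ((D48965).symm.trans (sb E65424 (iv6 D54239)))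
theorem F309851 : act 4 n33130 = n40235 := (sb E65425 F133051)
theorem F309852 : act 6 n33130 = n40233 := (sb E65425 (iv6 D86779))
theorem E68698 : n65118 = n33787 := (((iv3 F100895)).symm.trans (sb E65426 F110171))
theorem E68699 : n107880 = n69571 := ((D107880).symm.trans (sb E65426 F232623))
theorem F309853 : act 6 n49824 = n33784 := (sb E65426 (iv6 D73481))
theorem E68700 : n148911 = n131641 := (E65456).trans E65694
theorem E68701 : n117882 = n79852 := (((iv6 F184856)).symm.trans (sb E65427 (iv6 D166291)))
theorem F309854 : act 1 n118027 = n77646 := (sb E65428 F305940)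
theorem F309855 : act 5 n118027 = n60942 := (sb E65428 (iv5 D129750))
theorem E68702 : n60952 = n60381 := (((F307289).symm.trans (sb E65428 F207976))).symm
theorem E68704 : n84939 = n69900 := (((D69900).symm.trans (sb E65429 (iv4 D178486)))).symm
theorem E68705 : n131501 = n84940 := (((iv4 F210762)).symm.trans (sb E65430 (iv4 D178491)))
theorem E68706 : n131434 = n119418 := (((D119418).symm.trans (sb E65431 (iv1 F232807)))).symm
theorem F309856 : act 4 n54955 = n62873 := (sb E65431 (iv4 D133855))
theorem E68708 : n131502 = n119421 := (((D119421).symm.trans (sb E65431 F215558))).symm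
theorem F309857 : act 2 n80083 = n146731 := (sb E65432 (iv2 F230066))
theorem F309858 : act 4 n80083 = n68523 := (sb E65432 F229389)
theorem E68709 : n166840 = n68522 := ((D166840).symm.trans (sb E65432 (iv6 D146133)))
theorem E68710 : n149617 = n121432 := (E65434).trans E68007
theorem F309859 : act 3 n121432 = n151384 := (sb E68710 (iv3 F238099))
theorem F309860 : act 6 n121432 = n70260 := (sb E68710 (iv6 D149617))
theorem E68711 : n114704 = n60413 := ((D114704).symm.trans (sb E65435 (iv1 F163028)))
theorem E68712 : n114705 = n60412 := ((D114705).symm.trans (sb E65435 F163029))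
theorem F309861 : act 3 n52942 = n60373 := (sb E65435 F163026)
theorem E68713 : n114706 = n49023 := ((D114706).symm.trans (sb E65435 (iv5 D106072)))
theorem E68714 : n114707 = n60406 := ((D114707).symm.trans (sb E65435 F163027))
theorem F309862 : act 3 n125100 = n76686 := (sb E65438 F235222)
theorem F309863 : act 6 n125100 = n70263 := (sb E65438 (iv6 D149624))
theorem F309864 : act 4 n24394 = n21210 := (sb E65443 (iv4 F59770))
theorem F309865 : act 6 n24394 = n27093 := (sb E65443 F298439)
theorem E68715 : n173451 = n120126 := ((((iv4 F189745)).symm.trans (sb E65445 (iv4 F271910)))).symm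
theorem F309866 : act 2 n39543 = n62773 := (sb E65447 (iv2 F97950))
theorem E68718 : n85579 = n32452 := ((D85579).symm.trans (sb E65447 (iv5 F96222)))
theorem E68719 : n60933 = n18657 := (((iv3 F95478)).symm.trans (sb E65450 F60307))
theorem F309867 : act 6 n29199 = n18654 := (sb E65450 (iv6 D39339))
theorem E68720 : n131322 = n123379 := ((D131322).symm.trans (sb E65451 (iv3 F306461)))
theorem E68721 : n131323 = n69570 := ((D131323).symm.trans (sb E65451 F233047))
theorem E68722 : n144830 = n131305 := ((D144830).symm.trans (sb E65452 F215194))
theorem F309868 : act 5 n67874 = n62766 := (sb E65452 (iv5 D133708))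
theorem E68723 : n152429 = n133821 := (((D133821).symm.trans (sb E68670 F261866))).symm
theorem E68724 : n166290 = n133822 := (((D133822).symm.trans (sb E68670 F261867))).symm
theorem E68725 : n150310 = n69803 := (((D69803).symm.trans (sb E65455 (iv0 F279839)))).symm
theorem F309870 : act 4 n32417 = n69570 := (sb E65455 (iv4 D148474))
theorem F309871 : act 3 n131641 = n148685 := (sb E68700 F233980)
theorem E68726 : n157360 = n69804 := (((iv4 F247678)).symm.trans (sb E68700 F233981))
theorem F309872 : act 6 n131641 = n159617 := (sb E68700 (iv6 F251447))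
theorem F309873 : act 5 n124987 = n63281 := (sb E65460 (iv5 D134688))
theorem F309874 : act 5 n124988 = n63282 := (sb E65464 (iv5 D134693))
theorem F309875 : act 0 n107950 = n122667 := (sb E65473 (iv1 F238479))
theorem F309876 : act 1 n107950 = n122666 := (sb E65473 F238480)
theorem F309877 : act 3 n107950 = n153328 := (sb E65473 (iv3 F240892))
theorem F309878 : act 7 n107950 = n71458 := (sb E65473 (iv7 D151597))
theorem F309879 : act 1 n151595 = n71689 := (sb E65474 (iv0 D152059))
theorem F309880 : act 2 n151595 = n122667 := (sb E65474 (iv2 F307861))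
theorem E68727 : n160284 = n151595 := (((iv4 F253158)).symm.trans (iv4 (sb E65474 (tr F247549 E67852))))
theorem F309881 : act 0 n151594 = n71689 := (sb E65475 (iv1 D152060))
theorem F309882 : act 4 n151594 = n108369 := (sb E65475 (iv4 F239075))
theorem F309883 : act 7 n151594 = n122667 := (sb E65475 (iv7 F307863))
theorem F309884 : act 3 n149728 = n81796 := (sb E65476 F268088)
theorem E68728 : n170451 = n161016 := ((D170451).symm.trans (sb E65477 F263919))
theorem F309885 : act 3 n81716 = n131452 := (sb E65477 (iv3 F306998))
theorem E68729 : n170454 = n80453 := ((D170454).symm.trans (sb E65477 (iv6 D167639)))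
theorem E68730 : n167170 = n36588 := ((D167170).symm.trans (sb E65478 (iv1 D80310)))
theorem E68731 : n167171 = n166946 := ((D167171).symm.trans (sb E65478 (iv0 F303282)))
theorem E68733 : n167168 = n152660 := (((iv3 F263333)).symm.trans (sb E65478 (iv3 F305385)))
theorem F309886 : act 3 n157428 = n77705 := (sb E65479 (iv3 D161784))
theorem F309887 : act 5 n53898 = n77705 := (sb E65480 (iv5 D161785))
theorem F309888 : act 2 n132495 = n77713 := (sb E65481 (iv2 D161813))
theorem F309889 : act 5 n60877 = n77713 := (sb E65482 (iv5 D161816))
theorem F309890 : act 7 n60876 = n77713 := (sb E65483 (iv7 D161818))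
theorem F309891 : act 6 n141807 = n77727 := (sb E65489 (iv6 D161848))
theorem F309892 : act 6 n141652 = n77738 := (sb E65490 (iv6 D161865))
theorem E68737 : n123393 = n117546 := ((((iv4 F184146)).symm.trans (sb E65492 F259517))).symm
theorem F309893 : act 6 n54162 = n79080 := (sb E65492 (iv6 D164599))
theorem F309894 : act 3 n69759 = n55286 := (sb E65493 (iv3 D120141))
theorem F309895 : act 4 n98110 = n74865 := (sb E65494 (iv4 D157417))
theorem E68738 : n123222 = n123171 := ((((iv1 F197402)).symm.trans (sb E65495 (iv1 F251633)))).symm
theorem E68739 : n123170 = n76407 := ((F197397).symm.trans (sb E65495 (iv0 D159703)))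
theorem E68740 : n130995 = n124678 := ((((iv2 F199447)).symm.trans (sb E65496 (iv2 F209694)))).symm
theorem E68741 : n153941 = n61099 := (((iv4 F241964)).symm.trans (sb E65496 (iv4 D130145)))
theorem E68742 : n153945 = n130980 := ((D153945).symm.trans (sb E65496 (iv7 F209685)))
theorem F309896 : act 2 n136653 = n123221 := (sb E65497 F251627)
theorem F309897 : act 3 n136653 = n153944 := (sb E65497 F251628)
theorem F309898 : act 5 n136653 = n76407 := (sb E65497 (iv5 D159705))
theorem F309899 : act 6 n136653 = n76410 := (sb E65497 F251629)
theorem F309900 : act 3 n60248 = n73811 := (sb E65499 (iv3 D155345))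
theorem F309901 : act 5 n55109 = n78335 := (sb E65500 (iv5 D162930))
theorem F309902 : act 4 n131268 = n77468 := (sb E65501 (iv4 D161376))
theorem E68743 : n181590 = n69781 := ((D181590).symm.trans (sb E65502 F228845))
theorem E68744 : n181591 = n127474 := ((D181591).symm.trans (sb E65503 F228834))
theorem E68745 : n181592 = n68996 := ((D181592).symm.trans (sb E65503 F228835))
theorem E68746 : n181593 = n68325 := ((D181593).symm.trans (sb E65503 (iv6 D145732)))
theorem E68747 : n146675 = n124550 := (((D124550).symm.trans (sb E65504 F229994))).symm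
theorem E68748 : n124551 = n103690 := ((D124551).symm.trans (sb E65504 (iv6 F306824)))
theorem E68752 : n32680 = n30599 := ((D32680).symm.trans (sb E65505 (iv6 D65186)))
theorem F309903 : act 5 n74893 = n40048 := (sb E65506 (iv5 D86461))
theorem F309904 : act 6 n74893 = n101291 := (sb E65506 (iv6 F156076))
theorem E68757 : n159087 = n127839 := ((((iv7 F205674)).symm.trans (sb E65506 (iv7 F301866)))).symm
theorem F309905 : act 0 n85618 = n132989 := (sb E65507 (iv1 F213637))
theorem F309906 : act 2 n85618 = n129895 := (sb E65507 (iv2 F209675))
theorem E68758 : n176527 = n129883 := (((D129883).symm.trans (sb E65509 (iv6 F278176)))).symm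
theorem E68759 : n128991 = n58333 := (((F94528).symm.trans (sb E65510 (iv1 F211914)))).symm
theorem E68760 : n129010 = n125159 := (((F201167).symm.trans (sb E65510 F211915))).symm
theorem F309907 : act 3 n60029 = n60862 := (sb E65510 F207675)
theorem E68762 : n127833 = n60860 := ((D127833).symm.trans (sb E65510 (iv5 D129535)))
theorem E68763 : n129894 = n125157 := ((((iv7 F201156)).symm.trans (sb E65510 (iv7 F209671)))).symm
theorem E68764 : n129897 = n128061 := ((D129897).symm.trans (sb E65511 (iv6 F300873)))
theorem F309908 : act 2 n74836 = n40233 := (sb E65512 F191211)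
theorem F309909 : act 4 n74836 = n39585 := (sb E65512 (iv4 D85665))
theorem E68765 : n179539 = n71421 := (((F112319).symm.trans (sb E65512 D179539))).symm
theorem F309910 : act 7 n74836 = n40238 := (sb E65512 F191212)
theorem E68766 : n129622 = n39610 := (((F191371).symm.trans (sb E65513 F245784))).symm
theorem E68767 : n156377 = n125185 := (((F201255).symm.trans (sb E65513 (iv0 F245786)))).symm
theorem E68768 : n156357 = n149071 := ((((iv3 F234446)).symm.trans (sb E65513 F245782))).symm
theorem E68769 : n179540 = n136423 := ((D179540).symm.trans (sb E65513 (iv4 F245783)))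
theorem E68770 : n156378 = n40239 := (((F191214).symm.trans (sb E65513 (iv7 F245798)))).symm
theorem E68771 : n123734 = n74477 := ((F198214).symm.trans (sb E65514 F111794))
theorem E68772 : n123689 = n65053 := (((iv2 F198139)).symm.trans (sb E65514 (iv2 F232844)))
theorem E68773 : n138831 = n27551 := ((((iv4 D57683)).symm.trans (sb E65514 D138831))).symm
theorem E68774 : n138833 = n123753 := (((D123753).symm.trans (sb E65514 D138833))).symm
theorem F309911 : act 0 n85660 = n65313 := (sb E65515 (iv1 F222307))
theorem F309912 : act 1 n85660 = n65296 := (sb E65515 (iv0 D139112))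
theorem E68775 : n123749 = n71661 := (((iv3 F198233)).symm.trans (sb E65515 (iv3 F232836)))
theorem E68776 : n179536 = n71661 := ((D179536).symm.trans (sb E65515 (iv5 F232837)))
theorem E68777 : n157373 = n149917 := ((((iv6 F235807)).symm.trans (sb E65515 (iv6 F247705)))).symm
theorem E68778 : n179537 = n156379 := (((D156379).symm.trans (sb E65516 D179537))).symm
theorem F309913 : act 5 n74375 = n39584 := (sb E65516 (iv5 D85661))
theorem E68779 : n156380 = n150579 := ((D156380).symm.trans (sb E65516 (iv6 F237098)))
theorem E68780 : n179553 = n108252 := ((D179553).symm.trans (sb E65517 (iv3 F167402)))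
theorem E68781 : n179554 = n65289 := ((D179554).symm.trans (sb E65517 F221975))
theorem F309914 : act 0 n65177 = n40230 := (sb E65518 (iv1 F131399))
theorem E68783 : n179552 = n138809 := (((D138809).symm.trans (sb E65518 D179552))).symm
theorem E68784 : n125162 = n74529 := (((iv1 F201176)).symm.trans (sb E65519 F219747))
theorem E68786 : n127834 = n125505 := ((D127834).symm.trans (sb E65519 (iv4 F219746)))
theorem E68787 : n136613 = n125158 := ((((iv7 F201161)).symm.trans (sb E65519 (iv7 F219703)))).symm
theorem E68790 : n181726 = n125506 := ((((iv3 F219718)).symm.trans (sb E65520 D181726))).symm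
theorem F309915 : act 4 n64219 = n40230 := (sb E65520 (iv4 D86764))
theorem E68791 : n181727 = n136620 := ((((iv5 F219760)).symm.trans (sb E65520 D181727))).symm
theorem E68792 : n136625 = n76246 := ((D136625).symm.trans (sb E65520 F133038))
theorem F309916 : act 5 n64216 = n39586 := (sb E65521 (iv5 D85669))
theorem E68794 : n179545 = n136615 := (((D136615).symm.trans (sb E65521 D179545))).symm
theorem F309917 : act 7 n64216 = n40230 := (sb E65521 F131388)
theorem E68795 : n61154 = n28658 := ((((iv1 F92458)).symm.trans (sb E65522 (iv1 F208808)))).symm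
theorem E68796 : n61137 = n28657 := (((F92456).symm.trans (sb E65522 (iv0 D130256)))).symm
theorem E68797 : n74621 = n18652 := ((((iv1 F29923)).symm.trans (sb E65523 (iv1 F246642)))).symm
theorem F309918 : act 0 n39338 = n64983 := (sb E65524 (iv1 F100782))
theorem E68799 : n133505 = n85065 := (((D85065).symm.trans (sb E65524 (iv4 F214692)))).symm
theorem E68800 : n133574 = n85066 := (((D85066).symm.trans (sb E65524 (iv6 F214875)))).symm
theorem E68801 : n181519 = n45219 := (E67365).trans E67387
theorem E68802 : n181520 = n45217 := ((D181520).symm.trans (sb E65525 (iv5 D96758)))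
theorem E68803 : n181521 = n177116 := ((D181521).symm.trans (sb E65525 (iv6 F276534)))
theorem F309919 : act 1 n131108 = n84890 := (sb E65530 (iv0 F244072))
theorem F309920 : act 0 n96631 = n84471 := (sb E65531 (iv1 F255871))
theorem F309921 : act 1 n96631 = n77747 := (sb E65531 (iv0 D161884))
theorem F309922 : act 2 n17126 = n33493 := (sb E65536 (iv2 F52809))
theorem E68809 : n62457 = n21942 := ((((iv3 F59764)).symm.trans (sb E65536 (iv3 F97347)))).symm
theorem F309923 : act 4 n17126 = n14051 := (sb E65536 (iv4 D29581))
theorem E68811 : n62561 = n35288 := (((D35288).symm.trans (sb E65536 D62561))).symm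
theorem F309924 : act 7 n17126 = n29110 := (sb E65536 F47470)
theorem E68812 : n151501 = n120429 := (((F191866).symm.trans (sb E65538 F252489))).symm
theorem F309925 : act 4 n70772 = n76631 := (sb E65539 F252498)
theorem E68813 : n131432 = n79034 := ((((iv4 F130919)).symm.trans (sb E65540 (iv4 F210666)))).symm
theorem F309926 : act 1 n70776 = n133728 := (sb E65541 (iv0 F215247))
theorem F309927 : act 2 n70776 = n76629 := (sb E65541 F193595)
theorem F309928 : act 3 n54425 = n62843 := (sb E65546 (iv3 D133815))
theorem E68814 : n117751 = n74839 := (((iv0 F232930)).symm.trans (sb E65547 F215472))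
theorem E68815 : n159688 = n148461 := ((((iv4 F232206)).symm.trans (sb E65547 (iv4 F251578)))).symm
theorem F309929 : act 5 n69573 = n62843 := (sb E65547 (iv5 D133816))
theorem E68816 : n155317 = n139216 := (((F247315).symm.trans (sb E65548 F259465))).symm
theorem F309930 : act 3 n133817 = n118145 := (sb E65548 F238621)
theorem F309931 : act 5 n133817 = n159001 := (sb E65548 (iv5 F250336))
theorem F309932 : act 7 n133817 = n155176 := (sb E65548 (iv7 F243997))
theorem F309933 : act 2 n133818 = n62847 := (sb E65550 (iv2 D133827))
theorem F309934 : act 7 n133818 = n62848 := (sb E65550 (iv7 F215486))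
theorem F309935 : act 3 n34672 = n29280 := (sb E65551 F95363)
theorem E68820 : n129338 = n75828 := (((D75828).symm.trans (sb E65551 D129338))).symm
theorem E68821 : n148441 = n131642 := (((D131642).symm.trans (sb E65552 (iv4 F232182)))).symm
theorem E68822 : n131643 = n32296 := ((D131643).symm.trans (sb E65552 (iv6 D69560)))
theorem F309936 : act 1 n61769 = n105987 := (sb E65553 (iv0 F303994))
theorem F309937 : act 2 n61769 = n119783 := (sb E65553 F238623)
theorem F309938 : act 3 n61769 = n71700 := (sb E65553 F238624)
theorem E68823 : n131645 = n76619 := ((D131645).symm.trans (sb E65553 F306295))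
theorem F309939 : act 7 n61769 = n119782 := (sb E65553 F238627)
theorem E68824 : n63290 = n55316 := (((D55316).symm.trans (sb E65555 (iv4 F209874)))).symm
theorem F309940 : act 6 n26732 = n55296 := (sb E65555 (iv6 D120175))
theorem F309941 : act 6 n120220 = n139061 := (sb E65556 F248201)
theorem F309942 : act 0 n34350 = n26321 := (sb E65557 (iv1 D54423))
theorem F309943 : act 1 n34350 = n32731 := (sb E65557 F85935)
theorem F309944 : act 2 n34350 = n32730 := (sb E65557 F186136)
theorem F309945 : act 5 n133629 = n74959 := (sb E65558 F248207)
theorem E68825 : n117817 = n62718 := ((((iv6 D133629)).symm.trans (sb E65558 F248208))).symm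
theorem E68829 : n138397 = n71538 := (((D71538).symm.trans (sb E65562 F246154))).symm
theorem F309946 : act 3 n33089 = n49817 := (sb E65563 F100800)
theorem F309947 : act 4 n33089 = n30533 := (sb E65563 (iv4 D65005))
theorem F309948 : act 0 n61628 = n54083 := (sb E65564 F233146)
theorem E68830 : n129717 = n39354 := (((iv3 F207906)).symm.trans (sb E65564 F130418))
theorem E68831 : n150315 = n131326 := (((D131326).symm.trans (sb E65564 (iv4 F236563)))).symm
theorem E68832 : n178616 = n67097 := ((((iv6 F209754)).symm.trans (sb E65564 (iv6 F278398)))).symm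
theorem F309949 : act 5 n117351 = n131298 := (sb E65565 F248119)
theorem F309950 : act 6 n107863 = n68688 := (sb E65567 F183784)
theorem F309951 : act 7 n107863 = n54083 := (sb E65567 (iv7 D117354))
theorem F309952 : act 3 n118070 = n74956 := (sb E65568 (iv3 D157498))
theorem F309953 : act 5 n131088 = n74956 := (sb E65569 (iv5 D157499))
theorem F309955 : act 2 n149570 = n70243 := (sb E65571 (iv2 D149577))
theorem F309956 : act 7 n149570 = n70244 := (sb E65571 (iv7 F235190))
theorem F309957 : act 0 n70222 = n37355 := (sb E65573 (iv1 F125637))
theorem E68834 : n170471 = n49136 := (((F106681).symm.trans (sb E65573 D170471))).symm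
theorem E68836 : n170512 = n71167 := ((D170512).symm.trans (sb E65574 (iv5 D150970)))
theorem E68837 : n82534 = n82446 := (((F301539).symm.trans (sb E65575 (iv1 D172347)))).symm
theorem F309959 : act 2 n37893 = n82445 := (sb E65577 (iv2 D172147))
theorem F309960 : act 2 n158441 = n82541 := (sb E65578 F270587)
theorem F309961 : act 7 n158441 = n82536 := (sb E65578 (iv7 D172355))
theorem F309962 : act 2 n172149 = n82542 := (sb E65579 F270590)
theorem F309963 : act 7 n172149 = n82537 := (sb E65579 (iv7 D172360))
theorem F309964 : act 2 n172150 = n82543 := (sb E65580 F270595)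
theorem F309965 : act 7 n37892 = n82445 := (sb E65581 (iv7 D172151))
theorem E68839 : n116945 = n44938 := (((D44938).symm.trans (sb E65582 (iv6 F243160)))).symm
theorem F309966 : act 1 n96251 = n116924 := (sb E65583 (iv0 F252066))
theorem E68840 : n148006 = n48739 := (((F148046).symm.trans (sb E65583 (iv4 F252064)))).symm
theorem F309967 : act 7 n96251 = n76534 := (sb E65583 (iv7 D159873))
theorem E68842 : n76537 = n48745 := (((D48745).symm.trans (sb E65584 (iv6 D159877)))).symm
theorem F309968 : act 6 n34973 = n48744 := (sb E65585 (iv6 D105418))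
theorem E68844 : n76242 = n69325 := ((D76242).symm.trans (sb E65587 F184403))
theorem E68845 : n156834 = n127734 := ((((iv4 F205335)).symm.trans (sb E65588 D156834))).symm
theorem F309969 : act 5 n68554 = n34198 := (sb E65588 (iv5 D74583))
theorem E68846 : n117179 = n34199 := (((iv6 F183328)).symm.trans (sb E65588 F111990))
theorem E68847 : n149844 = n13898 := (((F50437).symm.trans (sb E65590 (iv1 F274227)))).symm
theorem E68848 : n149843 = n13903 := (((F50438).symm.trans (sb E65590 (iv0 F274228)))).symm
theorem E68849 : n71255 = n60963 := ((((iv1 F95504)).symm.trans (sb E67224 (tr D164587 E67835)))).symm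
theorem E68852 : n54233 = n25943 := ((((iv6 D53574)).symm.trans (sb E67224 (tr F120279 E68141)))).symm
theorem E68853 : n147520 = n26482 := (((F55406).symm.trans (sb E65592 (iv1 F231329)))).symm
theorem E68854 : n159187 = n76548 := (((D76548).symm.trans (sb E65592 (iv6 F250672)))).symm
theorem F309970 : act 6 n76134 = n52888 := (sb E65593 (iv6 D114571))
theorem E68856 : n70697 = n54178 := ((F307582).symm.trans (sb E65595 F184198))
theorem E68857 : n96189 = n54176 := ((D96189).symm.trans (sb E65595 (iv6 D117599)))
theorem F309971 : act 0 n44906 = n61655 := (sb E65596 F96227)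
theorem F309972 : act 1 n44906 = n61649 := (sb E65596 (iv0 F96215))
theorem F309973 : act 2 n44906 = n61624 := (sb E65596 (iv2 F96188))
theorem F309974 : act 1 n62748 = n38282 := (sb E65597 (iv0 D83159))
theorem E68859 : n173896 = n133683 := (((D133683).symm.trans (sb E65597 D173896))).symm
theorem F309975 : act 7 n62748 = n39363 := (sb E65597 (iv7 F130175))
theorem F309976 : act 1 n83065 = n54590 := (sb E65598 F186442)
theorem F309977 : act 2 n83065 = n133682 := (sb E65598 F215110)
theorem E68860 : n173691 = n120153 := ((D173691).symm.trans (sb E65598 (iv5 F189788)))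
theorem E68861 : n144482 = n68111 := (((D68111).symm.trans (sb E65599 (iv3 F227313)))).symm
theorem F309978 : act 7 n31710 = n34145 := (sb E65599 F103737)
theorem F309979 : act 1 n31711 = n34145 := (sb E65600 (iv0 D74444))
theorem E68863 : n156556 = n68102 := ((((iv3 F104240)).symm.trans (sb E65600 D156556))).symm
theorem F309980 : act 5 n31015 = n32687 := (sb E65603 (iv5 D70432))
theorem F309981 : act 0 n16595 = n34145 := (sb E65605 (iv1 D74445))
theorem E68869 : n138982 = n54200 := ((((iv0 F130895)).symm.trans (sb E65607 F246796))).symm
theorem E68870 : n74824 = n63180 := (((F98883).symm.trans (sb E65609 (iv2 F208068)))).symm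
theorem E68871 : n145254 = n135243 := (((D135243).symm.trans (sb E65609 D145254))).symm
theorem E68873 : n74798 = n65681 := ((((iv5 F101407)).symm.trans (sb E65609 (iv5 F112253)))).symm
theorem E68874 : n85998 = n50655 := (((F98884).symm.trans (sb E65609 F208084))).symm
theorem E68875 : n74823 = n31332 := (((F98885).symm.trans (sb E65609 (iv7 F208070)))).symm
theorem E68876 : n145251 = n116828 := ((((iv3 F182419)).symm.trans (sb E65610 D145251))).symm
theorem F309982 : act 5 n53553 = n31711 := (sb E65611 F104199)
theorem E68879 : n31674 = n25934 := ((((iv6 D53553)).symm.trans (sb E65611 (iv6 D68081)))).symm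
theorem E68882 : n141669 = n74168 := ((((iv2 F110893)).symm.trans (sb E65612 (iv2 F224723)))).symm
theorem F309983 : act 3 n60433 = n31015 := (sb E65612 F102341)
theorem E68883 : n141673 = n120059 := ((((iv4 F189638)).symm.trans (sb E65612 (iv4 F224726)))).symm
theorem E68884 : n74171 = n31013 := (((iv6 F110911)).symm.trans (sb E65612 (iv6 D66442)))
theorem E68885 : n138870 = n28700 := ((((iv7 D60433)).symm.trans (sb E65612 (iv7 F222026)))).symm
theorem E68889 : n74825 = n49785 := ((((iv7 F78692)).symm.trans (sb E65613 (iv7 D157344)))).symm
theorem E68890 : n31672 = n7006 := ((((iv1 D14671)).symm.trans (sb E65614 (iv1 F84988)))).symm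
theorem E68891 : n31671 = n25936 := (((F41000).symm.trans (sb E65614 F84989))).symm
theorem E68892 : n31014 = n26060 := ((D31014).symm.trans (sb E65614 F84987))
theorem F309984 : act 7 n34281 = n31015 := (sb E65615 F100956)
theorem F309985 : act 0 n78276 = n86453 := (sb E65617 (iv1 D181016))
theorem F309986 : act 5 n118113 = n86453 := (sb E65618 (iv5 D181017))
theorem E68895 : n118311 = n84386 := ((((iv5 F129507)).symm.trans (sb E65619 (iv5 F185885)))).symm
theorem E68899 : n156894 = n26378 := (((D26378).symm.trans (sb E65621 (iv4 F246928)))).symm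
theorem E68900 : n34205 = n26379 := (((D26379).symm.trans (sb E65621 (iv6 D74606)))).symm
theorem F309987 : act 6 n16555 = n8172 := (sb E65622 (iv6 D17418))
theorem E68902 : n67220 = n33786 := (((D33786).symm.trans (sb E65626 (iv5 F221846)))).symm
theorem E68903 : n154916 = n67221 := (((D67221).symm.trans (sb E65627 D154916))).symm
theorem F309988 : act 5 n31276 = n33784 := (sb E65627 (iv5 D73480))
theorem E68904 : n154917 = n67223 := (((D67223).symm.trans (sb E65627 D154917))).symm
theorem E68905 : n116828 = n75997 := ((((iv1 F301075)).symm.trans (sb E65628 (tr F228227 E68876)))).symm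
theorem E68906 : n150840 = n84384 := ((((iv0 F300136)).symm.trans (sb E65628 D150840))).symm
theorem E68907 : n147926 = n121687 := (((D121687).symm.trans (sb E65628 (iv4 F231730)))).symm
theorem E68908 : n121688 = n32929 := ((D121688).symm.trans (sb E65628 (iv6 D71116)))
theorem E68909 : n127247 = n15407 := (((F51606).symm.trans (sb E65629 (iv3 F226217)))).symm
theorem E68910 : n70122 = n67211 := ((D70122).symm.trans (sb E65629 (iv4 D143497)))
theorem F309989 : act 0 n139205 = n166050 := (sb E65630 (iv1 F261455))
theorem F309990 : act 1 n139205 = n70118 := (sb E65630 (iv0 D149329))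
theorem F309991 : act 7 n139205 = n166052 := (sb E65630 F261466)
theorem F309992 : act 6 n149331 = n76255 := (sb E65631 (iv6 D159412))
theorem F309993 : act 6 n34833 = n70118 := (sb E65632 (iv6 D149332))
theorem E68911 : n61570 = n57797 := (((D57797).symm.trans (sb E65633 (iv5 F185221)))).symm
theorem F309994 : act 5 n29721 = n18733 := (sb E65635 (iv5 D39556))
theorem F309995 : act 7 n29721 = n39570 := (sb E65635 (iv7 F60444))
theorem E68912 : n86644 = n85670 := (((iv3 F132892)).symm.trans (sb E65636 F307941))
theorem E68913 : n127932 = n86647 := (((D86647).symm.trans (sb E65636 (iv6 F205871)))).symm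
theorem E68915 : n58607 = n34157 := (((iv1 F198144)).symm.trans (sb E65639 F232821))
theorem E68916 : n65181 = n60053 := ((((iv0 F199686)).symm.trans (sb E65639 (iv0 F232822)))).symm
theorem E68917 : n65183 = n57678 := ((((iv2 F191230)).symm.trans (sb E65639 (iv2 F232841)))).symm
theorem F309996 : act 5 n40232 = n30556 := (sb E65639 (iv5 D65058))
theorem E68919 : n138343 = n58548 := ((((iv0 F191304)).symm.trans (sb E65640 F221705))).symm
theorem F309997 : act 3 n40234 = n30556 := (sb E65640 (iv3 D65056))
theorem E68920 : n138524 = n86783 := (((D86783).symm.trans (sb E65640 D138524))).symm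
theorem E68921 : n138526 = n86784 := (((D86784).symm.trans (sb E65640 D138526))).symm
theorem F309998 : act 7 n40234 = n74375 := (sb E65640 F245742)
theorem E68924 : n60895 = n13285 := (((D13285).symm.trans (sb E65641 (iv5 D129631)))).symm
theorem E68930 : n24277 = n13678 := (((D13678).symm.trans (sb E65643 (iv5 D49796)))).symm
theorem E68932 : n24278 = n19011 := (((D19011).symm.trans (sb E65644 F219708))).symm
theorem E68933 : n107785 = n19013 := (((D19013).symm.trans (sb E65644 (iv4 F166544)))).symm
theorem E68935 : n24276 = n18743 := (((F30058).symm.trans (sb E65644 (iv7 D49793)))).symm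
theorem F309999 : act 0 n40241 = n64216 := (sb E65646 F221968)
theorem F310000 : act 3 n40241 = n34155 := (sb E65646 (iv3 D74473))
theorem E68937 : n139066 = n86805 := (((D86805).symm.trans (sb E65646 F222240))).symm
theorem E68938 : n156614 = n86807 := (((D86807).symm.trans (sb E65646 D156614))).symm
theorem F310001 : act 7 n40241 = n65177 := (sb E65646 F221957)
theorem F310002 : act 1 n40242 = n64216 := (sb E65647 (iv0 D136611))
theorem F310003 : act 2 n40242 = n65177 := (sb E65647 (iv2 F221971))
theorem E68939 : n138931 = n86809 := (((D86809).symm.trans (sb E65647 (iv3 F222121)))).symm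
theorem E68940 : n136514 = n86810 := (((D86810).symm.trans (sb E65647 F219697))).symm
theorem E68942 : n86815 = n64220 := (((D64220).symm.trans (sb E65648 D86815))).symm
theorem F310004 : act 4 n30253 = n19000 := (sb E65648 (iv4 D40243))
theorem E68943 : n86816 = n64222 := (((D64222).symm.trans (sb E65648 D86816))).symm
theorem E68944 : n64223 = n34835 := ((D64223).symm.trans (sb E65648 F61216))
theorem E68945 : n85674 = n64214 := (((F100024).symm.trans (sb E65648 (iv7 F131402)))).symm
theorem F310005 : act 0 n39588 = n65177 := (sb E65650 (iv1 F221937))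
theorem F310006 : act 2 n39588 = n64216 := (sb E65650 (iv2 F219712))
theorem E68946 : n107778 = n85675 := (((D85675).symm.trans (sb E65650 D107778))).symm
theorem F310007 : act 0 n30638 = n39320 := (sb E65654 (iv1 F232466))
theorem F310008 : act 1 n30638 = n39336 := (sb E65654 (iv0 F232467))
theorem F310009 : act 2 n30638 = n39334 := (sb E65654 F232400)
theorem E68948 : n70588 = n65285 := ((((iv3 F101023)).symm.trans (sb E65654 F130090))).symm
theorem F310010 : act 7 n30638 = n39273 := (sb E65654 (iv7 D84884))
theorem F310011 : act 2 n29640 = n39338 := (sb E65655 F130412)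
theorem E68949 : n178600 = n62660 := ((((iv4 F97754)).symm.trans (sb E65655 D178600))).symm
theorem F310012 : act 5 n29640 = n39336 := (sb E65655 (iv5 D85058))
theorem E68950 : n178601 = n62686 := ((((iv6 F97795)).symm.trans (sb E65655 D178601))).symm
theorem F310013 : act 3 n124054 = n131403 := (sb E65656 F248009)
theorem F310014 : act 4 n124054 = n151986 := (sb E65656 F248013)
theorem F310015 : act 5 n124054 = n74896 := (sb E65656 (iv5 D157444))
theorem F310016 : act 2 n39538 = n29202 := (sb E65657 (iv2 F78809))
theorem E68951 : n107901 = n57819 := ((((iv4 F301087)).symm.trans (sb E65657 D107901))).symm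
theorem E68955 : n65860 = n39322 := (((D39322).symm.trans (sb E65658 F167160))).symm
theorem E68957 : n178560 = n136366 := ((((iv4 F219481)).symm.trans (sb E65659 D178560))).symm
theorem F310017 : act 5 n64984 = n39320 := (sb E65659 (iv5 D85028))
theorem E68958 : n118880 = n109855 := ((((iv6 F169836)).symm.trans (sb E65659 (iv6 F233160)))).symm
theorem F310018 : act 7 n64984 = n39338 := (sb E65659 F130387)
theorem F310019 : act 2 n85029 = n131108 := (sb E65660 F215278)
theorem F310020 : act 4 n85029 = n62781 := (sb E65660 F215279)
theorem F310021 : act 6 n133778 = n86595 := (sb E65662 (iv6 D181374))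
theorem E68961 : n119563 = n63287 := ((D119563).symm.trans (sb E65663 (iv6 F305435)))
theorem F310023 : act 6 n106014 = n68059 := (sb E65664 (iv6 D145181))
theorem F310024 : act 3 n106017 = n68069 := (sb E65665 F228172)
theorem F310026 : act 0 n133750 = n84439 := (sb E65666 (iv1 F276320))
theorem F310027 : act 2 n133750 = n84348 := (sb E65666 (iv2 D176973))
theorem F310028 : act 3 n133750 = n84429 := (sb E65666 F276315)
theorem F310029 : act 4 n133750 = n86587 := (sb E65666 F307805)
theorem F310030 : act 7 n133750 = n84440 := (sb E65666 F276317)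
theorem E68962 : n70441 = n28350 := (E67176).trans E67405
theorem F310031 : act 3 n71230 = n84439 := (sb E65667 F276613)
theorem E68963 : n70587 = n65287 := ((D70587).symm.trans (sb E65668 F222276))
theorem E68964 : n118864 = n65293 := ((((iv4 F101030)).symm.trans (sb E65669 (iv4 F186933)))).symm
theorem F310032 : act 5 n30640 = n39273 := (sb E65669 F86521)
theorem E68965 : n65303 = n26458 := ((D65303).symm.trans (sb E65669 (iv6 D54709)))
theorem E68969 : n65229 = n27804 := ((((iv3 F44902)).symm.trans (sb E65671 (iv3 D138946)))).symm
theorem E68971 : n74773 = n39440 := (((D39440).symm.trans (sb E65671 (iv5 F246561)))).symm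
theorem E68973 : n65306 = n33010 := (((D33010).symm.trans (sb E65672 (iv5 D139141)))).symm
theorem E68974 : n138676 = n118679 := (((D118679).symm.trans (sb E65673 (iv1 F222333)))).symm
theorem E68975 : n138673 = n118680 := (((D118680).symm.trans (sb E65673 F222332))).symm
theorem E68976 : n65304 = n27813 := ((D65304).symm.trans (sb E65674 F232410))
theorem E68977 : n65213 = n39476 := ((F222052).symm.trans (sb E65674 F232411))
theorem E68978 : n118695 = n65307 := (((D65307).symm.trans (sb E65674 D118695))).symm
theorem F310033 : act 5 n30641 = n26429 := (sb E65674 (iv5 D54647))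
theorem E68979 : n65309 = n26432 := ((D65309).symm.trans (sb E65674 F86397))
theorem E68980 : n65277 = n39437 := (((iv7 F101015)).symm.trans (sb E65674 F232412))
theorem E68981 : n139750 = n26438 := (((D26438).symm.trans (sb E65677 (iv5 F222926)))).symm
theorem E68982 : n65315 = n32976 := ((D65315).symm.trans (sb E65681 F86387))
theorem E68983 : n65316 = n59815 := ((D65316).symm.trans (sb E65681 (iv0 F94207)))
theorem E68984 : n118671 = n65312 := ((((iv4 F101040)).symm.trans (sb E65681 D118671))).symm
theorem F310034 : act 5 n30644 = n26425 := (sb E65681 (iv5 D54640))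
theorem E68985 : n65318 = n26460 := ((D65318).symm.trans (sb E65681 F86386))
theorem E68987 : n178599 = n65278 := (((D65278).symm.trans (sb E65684 D178599))).symm
theorem F310035 : act 5 n30635 = n39334 := (sb E65684 (iv5 D85052))
theorem E68988 : n118875 = n65280 := (((D65280).symm.trans (sb E65684 F233003))).symm
theorem F310036 : act 2 n54998 = n65297 := (sb E65685 F222251)
theorem F310037 : act 1 n54906 = n65297 := (sb E65686 (iv0 D139117))
theorem F310038 : act 0 n55000 = n65297 := (sb E65687 (iv1 D139118))
theorem F310039 : act 3 n72585 = n65297 := (sb E65688 F222274)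
theorem E68989 : n133825 = n117521 := ((F222312).symm.trans (sb E65689 (iv1 F250333)))
theorem F310040 : act 1 n139119 = n75927 := (sb E65689 (iv0 D159000))
theorem F310041 : act 2 n139119 = n117651 := (sb E65689 (iv2 F250329))
theorem F310042 : act 3 n139119 = n147228 := (sb E65689 F250330)
theorem E68990 : n146641 = n65301 := (((F222311).symm.trans (sb E65689 (iv6 F250332)))).symm
theorem F310043 : act 7 n139119 = n117409 := (sb E65689 F250331)
theorem F310044 : act 3 n73407 = n67154 := (sb E65690 (iv3 D143383))
theorem F310045 : act 6 n117375 = n67155 := (sb E65691 (iv6 D143389))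
theorem F310046 : act 1 n133733 = n124735 := (sb E65692 F280097)
theorem F310047 : act 2 n133733 = n124141 := (sb E65692 (iv2 F306491))
theorem F310048 : act 6 n133733 = n119325 := (sb E65692 (iv6 F280100))
theorem F310049 : act 1 n131641 = n69573 := (sb E65694 F232192)
theorem E68991 : n33789 = n31244 := ((((iv1 D67134)).symm.trans (sb E65695 (iv1 F110114)))).symm
theorem E68992 : n143164 = n33788 := ((F226016).symm.trans (sb E65695 F110115))
theorem E68993 : n143315 = n33791 := (((iv2 F226097)).symm.trans (sb E65695 F110111))
theorem E68994 : n143316 = n119370 := ((D143316).symm.trans (sb E65695 (iv3 F188022)))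
theorem E68995 : n154812 = n143317 := (((D143317).symm.trans (sb E65695 (iv4 F243502)))).symm
theorem E68996 : n143318 = n33766 := ((D143318).symm.trans (sb E65695 F110112))
theorem F310050 : act 6 n67134 = n119332 := (sb E65695 (iv6 F187910))
theorem E68997 : n143310 = n33765 := ((F226096).symm.trans (sb E65695 (iv7 D73415)))
theorem E68998 : n86025 = n54479 := ((D86025).symm.trans (sb E65697 (iv6 D118292)))
theorem E69000 : n145251 = n75997 := (E68876).trans E68905
theorem E69001 : n166062 = n150775 := ((D166062).symm.trans (sb E65700 F248058))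
theorem E69002 : n75978 = n74904 := (((iv5 F300140)).symm.trans (sb E65700 (iv5 D157454)))
theorem E69003 : n166064 = n74908 := ((D166064).symm.trans (sb E65700 F248059))
theorem E69005 : n124840 = n34148 := ((((iv4 F53632)).symm.trans (sb E65704 (iv4 F200501)))).symm
theorem E69006 : n71122 = n34158 := (((D34158).symm.trans (sb E65704 F185898))).symm
theorem E69007 : n54492 = n14511 := (((F26169).symm.trans (sb E65704 (iv7 D118318)))).symm
theorem E69008 : n71082 = n34180 := ((((iv3 F53741)).symm.trans (sb E65705 F185881))).symm
theorem E69009 : n124841 = n65154 := ((((iv4 F100927)).symm.trans (sb E65705 F200513))).symm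
theorem E69010 : n65182 = n54488 := ((D65182).symm.trans (sb E65705 (iv6 D118310)))
theorem E69011 : n65173 = n58378 := ((D65173).symm.trans (sb E65706 (iv4 F200397)))
theorem E69012 : n167822 = n65175 := (((D65175).symm.trans (sb E65706 F264291))).symm
theorem E69013 : n156606 = n58382 := (((iv1 F246301)).symm.trans (sb E65707 (iv1 F200392)))
theorem E69014 : n74649 = n58322 := ((F221967).symm.trans (sb E65707 (iv0 D124757)))
theorem E69015 : n65178 = n58379 := ((F221959).symm.trans (sb E65707 F234083))
theorem E69016 : n167824 = n156617 := (((D156617).symm.trans (sb E65708 (iv1 F264301)))).symm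
theorem E69017 : n167811 = n156618 := (((D156618).symm.trans (sb E65708 (iv0 F264255)))).symm
theorem E69020 : n157458 = n65180 := (((D65180).symm.trans (sb E65709 F257018))).symm
theorem E69021 : n174327 = n173653 := ((D174327).symm.trans (sb E65711 (iv1 F272138)))
theorem E69022 : n175856 = n38680 := ((F308935).symm.trans (sb E65711 (iv0 D83978)))
theorem F310051 : act 2 n82927 = n129740 := (sb E65712 F216535)
theorem F310052 : act 3 n82927 = n135311 := (sb E65712 (iv3 F217548))
theorem E69029 : n173286 = n63228 := ((D173286).symm.trans (sb E65712 (iv6 D134554)))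
theorem E69031 : n130483 = n35183 := (((iv3 F209046)).symm.trans (sb E65713 F115760))
theorem E69032 : n119004 = n31320 := (E65969).trans E66039
theorem F310053 : act 6 n61217 = n35181 := (sb E65713 (iv6 D77022))
theorem F310054 : act 3 n83664 = n60738 := (sb E65714 F207425)
theorem E69035 : n114679 = n68415 := ((D114679).symm.trans (sb E65719 (iv6 D145907)))
theorem E69036 : n175177 = n155904 := ((D175177).symm.trans (sb E65721 (iv6 F244895)))
theorem F310055 : act 5 n149841 = n118287 := (sb E65725 F247572)
theorem F310056 : act 7 n149841 = n155900 := (sb E65725 (iv7 F264359))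
theorem F310057 : act 6 n29057 = n38571 := (sb E65728 (iv6 D83669))
theorem F310058 : act 2 n128281 = n130060 := (sb E65729 F213579)
theorem F310059 : act 6 n128281 = n62388 := (sb E65729 (iv6 D132954))
theorem E69040 : n147106 = n74579 := (((iv6 F230621)).symm.trans (sb E65733 F246769))
theorem E69042 : n80178 = n61722 := (((F216639).symm.trans (sb E65734 (iv2 D167030)))).symm
theorem E69043 : n161313 = n133065 := (((D133065).symm.trans (sb E65734 F263031))).symm
theorem E69044 : n158207 = n118628 := ((((iv4 F186601)).symm.trans (sb E65734 F263032))).symm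
theorem E69046 : n133060 = n34640 := ((D133060).symm.trans (sb E65735 (iv3 D75743)))
theorem E69047 : n133061 = n34643 := ((D133061).symm.trans (sb E65735 F113610))
theorem E69048 : n158771 = n133062 := (((D133062).symm.trans (sb E65735 D158771))).symm
theorem E69049 : n133063 = n80224 := ((D133063).symm.trans (sb E65735 (iv6 F300895)))
theorem E69050 : n181106 = n157631 := (((D157631).symm.trans (sb E65736 F282073))).symm
theorem F310060 : act 1 n75059 = n105986 := (sb E65736 F255808)
theorem F310061 : act 2 n75059 = n77726 := (sb E65736 F255807)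
theorem E69051 : n157632 = n77725 := ((D157632).symm.trans (sb E65736 (iv4 D161839)))
theorem F310062 : act 5 n66475 = n70395 := (sb E67607 (iv5 D149815))
theorem E69052 : n160249 = n31034 := ((((iv6 D66475)).symm.trans (sb E67607 (iv6 F253066)))).symm
theorem F310063 : act 3 n33095 = n30649 := (sb E65739 (iv3 D65337))
theorem E69054 : n74951 = n71554 := (((D71554).symm.trans (sb E65739 F209841))).symm
theorem F310064 : act 3 n65338 = n32839 := (sb E65740 F107340)
theorem E69055 : n150411 = n61571 := (((F209822).symm.trans (sb E65740 D150411))).symm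
theorem F310065 : act 6 n65338 = n32838 := (sb E65740 (iv6 D70863))
theorem E69057 : n108176 = n58395 := (((F92236).symm.trans (sb E65742 F246150))).symm
theorem E69058 : n157253 = n58401 := ((((iv2 F232628)).symm.trans (sb E65742 F247475))).symm
theorem F310066 : act 3 n39447 = n64983 := (sb E65742 (iv3 D138340))
theorem E69059 : n138359 = n85405 := (((D85405).symm.trans (sb E65742 (iv4 F221597)))).symm
theorem E69060 : n133578 = n58402 := ((((iv7 F232629)).symm.trans (sb E65742 F221549))).symm
theorem F310067 : act 0 n138341 = n86797 := (sb E65743 F278387)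
theorem E69061 : n133580 = n54703 := ((D133580).symm.trans (sb E65744 (iv6 D118849)))
theorem F310068 : act 2 n65612 = n105965 := (sb E65745 (iv2 F162761))
theorem E69064 : n181716 = n139765 := (((D139765).symm.trans (sb E65745 (iv3 F282875)))).symm
theorem F310069 : act 5 n65612 = n40225 := (sb E65745 (iv5 D86749))
theorem E69066 : n139770 = n79752 := ((D139770).symm.trans (sb E65746 (iv5 D166110)))
theorem F310070 : act 7 n65613 = n105965 := (sb E65746 F261534)
theorem E69068 : n155339 = n32410 := (((F51652).symm.trans (sb E65748 (iv4 F244292)))).symm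
theorem E69069 : n70227 = n67865 := ((D70227).symm.trans (sb E65748 F110613))
theorem F310071 : act 7 n32596 = n33900 := (sb E65748 (iv7 D73808))
theorem E69070 : n76788 = n32225 := ((D76788).symm.trans (sb E65749 F85590))
theorem F310072 : act 7 n35099 = n26230 := (sb E65749 (iv7 D54242))
theorem F310073 : act 1 n34890 = n26230 := (sb E65750 (iv0 D54240))
theorem E69071 : n117746 = n76365 := (((D76365).symm.trans (sb E65750 D117746))).symm
theorem E69072 : n161289 = n61686 := ((((iv2 F96273)).symm.trans (sb E65751 (iv2 F255117)))).symm
theorem E69073 : n71962 = n61715 := (((D61715).symm.trans (sb E65751 (iv3 D152582)))).symm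
theorem F310074 : act 1 n149353 = n131317 := (sb E65753 F247650)
theorem F310075 : act 4 n149353 = n159995 := (sb E65753 (iv4 F252364))
theorem F310076 : act 4 n80607 = n74830 := (sb E65754 F247651)
theorem F310077 : act 3 n70377 = n35018 := (sb E65755 (iv3 D76628))
theorem E69076 : n71671 = n55450 := (((F233808).symm.trans (sb E65755 F114911))).symm
theorem E69077 : n127463 = n10858 := (((F29675).symm.trans (sb E65756 F227778))).symm
theorem E69078 : n67889 = n38923 := (((D38923).symm.trans (sb E65756 (iv6 D144849)))).symm
theorem E69080 : n107823 = n70840 := (((D70840).symm.trans (sb E65758 (iv7 F210942)))).symm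
theorem F310078 : act 3 n74897 = n45220 := (sb E65759 F149226)
theorem F310079 : act 7 n74897 = n45217 := (sb E65759 (iv7 D96759))
theorem F310080 : act 0 n96744 = n148994 := (sb E65760 F234182)
theorem F310081 : act 1 n96744 = n149005 := (sb E65760 F234281)
theorem E69081 : n128279 = n45210 := (((F149202).symm.trans (sb E65760 F210993))).symm
theorem F310082 : act 3 n96744 = n61771 := (sb E65760 (iv3 D131649))
theorem E69082 : n135461 = n82511 := (((F149204).symm.trans (sb E65760 F217798))).symm
theorem F310083 : act 5 n96744 = n119502 := (sb E65760 (iv5 F210994))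
theorem F310084 : act 7 n96744 = n149004 := (sb E65760 (iv7 F234277))
theorem F310085 : act 4 n80679 = n61771 := (sb E65761 (iv4 D131650))
theorem F310086 : act 4 n128133 = n128134 := (sb E65762 (iv4 F305396))
theorem F310087 : act 3 n69829 = n65063 := (sb E65763 (iv3 D138548))
theorem F310088 : act 4 n69829 = n139188 := (sb E65763 F222378)
theorem F310089 : act 5 n69829 = n65177 := (sb E65763 F222379)
theorem F310090 : act 1 n150376 = n74947 := (sb E65764 (iv0 D157485))
theorem F310091 : act 5 n150376 = n152071 := (sb E65764 F248149)
theorem F310092 : act 7 n150376 = n139188 := (sb E65764 (iv7 F248151))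
theorem E69083 : n162860 = n83219 := (((F304741).symm.trans (sb E65765 (iv1 F282356)))).symm
theorem F310093 : act 4 n98138 = n96700 := (sb E65765 (iv4 F300249))
theorem F310094 : act 2 n86497 = n83598 := (sb E65771 F273989)
theorem E69090 : n181121 = n79990 := ((D181121).symm.trans (sb E65771 (tr (iv3 D167021) E67759)))
theorem F310095 : act 7 n162838 = n83598 := (sb E65772 F274014)
theorem F310096 : act 0 n96685 = n72957 := (sb E65773 F242770)
theorem F310097 : act 4 n96685 = n149084 := (sb E65773 F241286)
theorem E69091 : n114725 = n72583 := (((iv6 F178827)).symm.trans (sb E65773 (iv6 D153522)))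
theorem F310098 : act 4 n60282 = n45169 := (sb E65774 (iv4 D96699))
theorem F310099 : act 0 n21562 = n29111 := (sb E65775 (iv1 D61494))
theorem E69093 : n73239 = n45166 := ((D73239).symm.trans (sb E65776 (iv5 D96689)))
theorem F310100 : act 6 n33707 = n45169 := (sb E65776 F149012)
theorem F310101 : act 1 n37305 = n29111 := (sb E65779 (iv0 D61493))
theorem F310102 : act 3 n37305 = n34328 := (sb E65779 F185304)
theorem F310103 : act 5 n37305 = n73253 := (sb E65779 F185305)
theorem F310104 : act 2 n83597 = n162838 := (sb E65781 (iv2 F302999))
theorem F310106 : act 6 n72639 = n86533 := (sb E65783 (iv6 D181209))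
theorem E69095 : n158672 = n77026 := (((iv4 F249826)).symm.trans (sb E65785 (iv4 D160636)))
theorem E69096 : n157991 = n78162 := (((iv4 F248876)).symm.trans (sb E65786 (iv4 D162701)))
theorem F310107 : act 4 n100776 = n78377 := (sb E65788 (iv4 D162988))
theorem F310108 : act 4 n100777 = n82523 := (sb E65789 F270553)
theorem F310109 : act 3 n98195 = n78192 := (sb E65790 F256946)
theorem E69097 : n162720 = n78191 := ((F300772).symm.trans (sb E65790 (iv5 D162716)))
theorem E69098 : n173751 = n148849 := (((F300774).symm.trans (sb E65790 (iv7 F272335)))).symm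
theorem E69099 : n184278 = n75695 := ((D184278).symm.trans (sb E65791 (iv1 D158694)))
theorem E69100 : n184279 = n173810 := ((D184279).symm.trans (sb E65791 F302421))
theorem F310110 : act 4 n87896 = n78192 := (sb E65791 F302422)
theorem E69101 : n184281 = n173857 := ((D184281).symm.trans (sb E65791 F302423))
theorem F310112 : act 3 n98284 = n60942 := (sb E65793 F207970)
theorem F310113 : act 6 n98284 = n60941 := (sb E65793 (iv6 D129747))
theorem E69102 : n129255 = n83099 := (((iv2 F207466)).symm.trans (sb E65794 F271638))
theorem E69103 : n129263 = n83624 := ((D129263).symm.trans (sb E65794 F271639))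
theorem F310114 : act 6 n60758 = n82916 := (sb E65794 (iv6 D173269))
theorem E69104 : n83098 = n82926 := ((D83098).symm.trans (sb E65795 (iv6 D173281)))
theorem F310115 : act 0 n149620 = n77646 := (sb E65796 (iv1 D161670))
theorem F310116 : act 6 n80281 = n83097 := (sb E65797 (iv6 D173759))
theorem F310117 : act 3 n35471 = n54907 := (sb E65801 (iv3 D119312))
theorem F310118 : act 7 n35471 = n55007 := (sb E65801 F187827)
theorem F310119 : act 3 n119313 = n77711 := (sb E65803 F255794)
theorem F310120 : act 3 n49008 = n77710 := (sb E65806 (iv3 D161804))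
theorem E69105 : n169804 = n69287 := ((D169804).symm.trans (sb E65811 F231294))
theorem F310121 : act 3 n81433 = n69378 := (sb E65811 F242934)
theorem E69106 : n169802 = n69279 := (((iv6 F267221)).symm.trans (sb E65811 F231293))
theorem F310122 : act 7 n81433 = n69135 := (sb E65811 (iv7 D147509))
theorem E69107 : n175211 = n73431 := (((D73431).symm.trans (sb E65814 F307915))).symm
theorem E69108 : n73432 = n73170 := ((D73432).symm.trans (sb E65814 (iv0 D154467)))
theorem E69109 : n124176 = n73430 := ((((iv4 F110140)).symm.trans (sb E65814 F242511))).symm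
theorem F310123 : act 0 n35374 = n55007 := (sb E65815 (iv1 D119560))
theorem F310124 : act 1 n35473 = n55007 := (sb E65816 (iv0 D119559))
theorem E69110 : n84183 = n73624 := ((((iv3 F110326)).symm.trans (sb E65816 (iv3 F275394)))).symm
theorem E69112 : n177295 = n26020 := (((E66043).symm.trans (((iv0 F108741)).symm.trans (sb E65818 D177295)))).symm
theorem E69113 : n177296 = n31319 := (((E65886).symm.trans ((F308177).symm.trans (sb E65818 D177296)))).symm
theorem F310125 : act 3 n72289 = n38954 := (sb E65818 (iv3 D84467))
theorem F310126 : act 2 n73277 = n86612 := (sb E65832 F282526)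
theorem F310127 : act 7 n73277 = n86617 := (sb E65832 F282527)
theorem F310128 : act 2 n72979 = n86617 := (sb E65833 F282536)
theorem F310129 : act 7 n72979 = n86612 := (sb E65833 (iv7 D181424))
theorem E69117 : n184269 = n124691 := (((D124691).symm.trans (sb E65834 (iv5 F286201)))).symm
theorem F310130 : act 6 n58269 = n86617 := (sb E65834 (iv6 D181443))
theorem F310131 : act 7 n73269 = n87384 := (sb E65835 (iv7 D183054))
theorem F310132 : act 1 n153312 = n87387 := (sb E65836 (iv0 D183065))
theorem F310133 : act 4 n157613 = n87387 := (sb E65837 (iv4 D183067))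
theorem F310134 : act 6 n157613 = n87746 := (sb E65837 F284690)
theorem F310135 : act 7 n73278 = n87387 := (sb E65838 (iv7 D183068))
theorem F310136 : act 4 n37295 = n33500 := (sb E65841 F109088)
theorem F310137 : act 6 n37295 = n33499 := (sb E65841 (iv6 D72576))
theorem F310138 : act 3 n54628 = n80460 := (sb E65842 F249843)
theorem F310140 : act 1 n72756 = n81603 := (sb E65844 F298445)
theorem F310141 : act 2 n72756 = n95241 := (sb E65844 (iv2 F146799))
theorem E69120 : n153172 = n119280 := (((iv3 F243342)).symm.trans (sb E65844 (tr (iv3 F197956) E68448)))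
theorem E69121 : n169812 = n153797 := (((D153797).symm.trans (sb E65844 D169812))).symm
theorem E69122 : n169808 = n153799 := (((D153799).symm.trans (sb E65844 (iv6 F267226)))).symm
theorem F310142 : act 0 n72287 = n81603 := (sb E65845 F299160)
theorem E69123 : n177298 = n153170 := (((D153170).symm.trans (sb E65845 D177298))).symm
theorem F310143 : act 5 n72287 = n38954 := (sb E65845 (iv5 D84468))
theorem F310144 : act 7 n72287 = n95241 := (sb E65845 (iv7 F146800))
theorem F310145 : act 1 n71237 = n95241 := (sb E65846 (iv0 F297478))
theorem F310146 : act 7 n71237 = n81603 := (sb E65846 F263974)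
theorem E69125 : n80262 = n61684 := ((D80262).symm.trans (sb E65847 (iv1 F106325)))
theorem E69126 : n80263 = n32462 := ((D80263).symm.trans (sb E65847 (iv0 D69902)))
theorem F310147 : act 2 n36567 = n61700 := (sb E65847 (iv2 F106326))
theorem E69127 : n149031 = n17642 := (((F57440).symm.trans (sb E65847 D149031))).symm
theorem F310148 : act 4 n36567 = n33363 := (sb E65847 F106324)
theorem E69128 : n149032 = n80264 := (((D80264).symm.trans (sb E65847 D149032))).symm
theorem E69129 : n80265 = n61699 := ((D80265).symm.trans (sb E65847 (iv7 F106327)))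
theorem E69130 : n174792 = n29260 := (((F85858).symm.trans (sb E65848 (iv4 F273625)))).symm
theorem F310149 : act 0 n34731 = n33496 := (sb E65851 F96005)
theorem F310150 : act 2 n34731 = n33499 := (sb E65851 F96003)
theorem F310151 : act 4 n34731 = n29109 := (sb E65851 (iv4 D61489))
theorem E69139 : n81583 = n68968 := ((D81583).symm.trans (sb E65855 (iv6 D147095)))
theorem E69140 : n146069 = n10848 := ((((iv1 F17640)).symm.trans (sb E65857 F243294))).symm
theorem E69141 : n73247 = n21301 := (((D21301).symm.trans (sb E65857 (iv6 D154548)))).symm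
theorem F310152 : act 6 n33709 = n17920 := (sb E65858 (iv6 D37301))
theorem E69144 : n81625 = n72811 := ((((iv7 F109974)).symm.trans (sb E65858 D81625))).symm
theorem F310153 : act 3 n37303 = n29114 := (sb E65859 F96010)
theorem F310154 : act 7 n37303 = n29111 := (sb E65859 (iv7 D61495))
theorem E69146 : n157436 = n81578 := (((D81578).symm.trans (sb E65862 (iv1 F247981)))).symm
theorem E69147 : n157435 = n81579 := (((D81579).symm.trans (sb E65862 F247975))).symm
theorem F310155 : act 2 n37271 = n72405 := (sb E65862 (iv2 D153276))
theorem E69148 : n81580 = n74877 := ((D81580).symm.trans (sb E65862 F240819))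
theorem E69149 : n157437 = n75961 := (((F117113).symm.trans (sb E65862 (iv7 F247979)))).symm
theorem F310156 : act 5 n34315 = n17913 := (sb E65863 (iv5 D37277))
theorem E69151 : n81586 = n74879 := (((D74879).symm.trans (sb E65863 (iv6 F125487)))).symm
theorem E69154 : n28460 = n21317 := (((D21317).symm.trans (sb E65865 (iv6 D59918)))).symm
theorem F310157 : act 6 n32139 = n17898 := (sb E65866 (iv6 D37231))
theorem E69159 : n81445 = n69111 := ((D81445).symm.trans (sb E65868 (iv1 F231183)))
theorem E69160 : n81446 = n69110 := ((D81446).symm.trans (sb E65868 F231184))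
theorem E69161 : n127601 = n21319 := (((F58162).symm.trans (sb E65868 F231181))).symm
theorem E69162 : n81448 = n69108 := ((D81448).symm.trans (sb E65868 (iv7 D147418)))
theorem F310158 : act 4 n95329 = n44768 := (sb E65870 (iv4 D95891))
theorem F310159 : act 0 n146142 = n70263 := (sb E65871 (iv1 D149623))
theorem F310160 : act 1 n146142 = n114697 := (sb E65871 F235219)
theorem F310161 : act 2 n146142 = n169795 := (sb E65871 (iv2 F267213))
theorem F310162 : act 3 n146142 = n73116 := (sb E65871 F235221)
theorem F310163 : act 7 n146142 = n77646 := (sb E65871 F300957)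
theorem F310164 : act 3 n120615 = n81582 := (sb E65872 F267586)
theorem F310165 : act 6 n120615 = n81581 := (sb E65872 (iv6 D170097))
theorem E69163 : n144793 = n76725 := (((D76725).symm.trans (sb E65873 F227683))).symm
theorem F310166 : act 7 n35068 = n55014 := (sb E65873 (iv7 D119582))
theorem F310167 : act 6 n67863 = n76721 := (sb E65874 (iv6 D160165))
theorem F310168 : act 1 n100891 = n69739 := (sb E65875 (iv0 D148802))
theorem F310169 : act 2 n46557 = n71641 := (sb E65876 (iv2 F108132))
theorem F310170 : act 3 n46557 = n29063 := (sb E65876 F95883)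
theorem E69164 : n130853 = n57952 := (((F91684).symm.trans (sb E65876 (iv4 F209441)))).symm
theorem F310171 : act 5 n46557 = n69739 := (sb E65876 (iv5 F106133))
theorem E69165 : n99604 = n29062 := ((D99604).symm.trans (sb E65876 (iv6 D61392)))
theorem F310172 : act 4 n57107 = n54169 := (sb E65878 F184174)
theorem F310173 : act 7 n57107 = n54165 := (sb E65878 (iv7 D117566))
theorem F310174 : act 3 n87464 = n68352 := (sb E65880 (iv3 D145792))
theorem F310175 : act 5 n129748 = n68352 := (sb E65881 (iv5 D145793))
theorem F310176 : act 0 n60310 = n83598 := (sb E65882 (iv1 F308076))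
theorem F310177 : act 6 n60234 = n83598 := (sb E65883 (iv6 D175058))
theorem E69167 : n105921 = n67218 := (((F226149).symm.trans (sb E65884 F233994))).symm
theorem F310178 : act 3 n143386 = n151800 := (sb E65884 (iv3 F238721))
theorem F310179 : act 5 n143386 = n69805 := (sb E65884 (iv5 D148921))
theorem F310180 : act 7 n143386 = n150623 := (sb E65884 (iv7 F237162))
theorem E69168 : n72289 = n53821 := ((((iv2 F101329)).symm.trans (sb E65886 (iv2 F308177)))).symm
theorem E69169 : n165319 = n67369 := (((D67369).symm.trans (sb E65886 (iv3 F260567)))).symm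
theorem E69170 : n67370 = n61212 := ((D67370).symm.trans (sb E65886 (iv4 F308178)))
theorem E69171 : n65856 = n54761 := (((iv5 F101502)).symm.trans (sb E65886 (iv5 F306208)))
theorem E69172 : n67371 = n36161 := ((D67371).symm.trans (sb E65886 (iv6 D79425)))
theorem E69174 : n131202 = n31321 := (((D31321).symm.trans (sb E65887 (iv4 F210156)))).symm
theorem E69176 : n29137 = n26240 := ((((iv6 F41654)).symm.trans (sb E65887 (iv6 D61554)))).symm
theorem E69177 : n123520 = n116814 := (((D116814).symm.trans (sb E65888 (tr (iv3 F231983) E68450)))).symm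
theorem E69178 : n116815 = n62471 := ((D116815).symm.trans (sb E65888 (iv4 F209012)))
theorem E69179 : n59802 = n33358 := (((iv5 F94144)).symm.trans (sb E65888 (iv5 D72293)))
theorem E69180 : n116816 = n61393 := ((D116816).symm.trans (sb E65888 (iv6 F108743)))
theorem E69181 : n165314 = n133680 := ((D165314).symm.trans (sb E65889 (iv1 F305759)))
theorem E69182 : n165315 = n87545 := ((D165315).symm.trans (sb E65889 (iv0 D183395)))
theorem E69183 : n180829 = n165316 := (((D165316).symm.trans (sb E65889 (iv2 F285111)))).symm
theorem F310181 : act 7 n79422 = n155564 := (sb E65889 (iv7 F305757))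
theorem E69184 : n61530 = n57730 := (((D57730).symm.trans (sb E65890 (iv1 F97867)))).symm
theorem E69185 : n61529 = n57731 := (((D57731).symm.trans (sb E65890 F97868))).symm
theorem F310182 : act 2 n27566 = n29676 := (sb E65890 F97865)
theorem F310183 : act 4 n27566 = n29675 := (sb E65890 (iv4 D62738))
theorem E69187 : n133667 = n57734 := (((D57734).symm.trans (sb E65890 D133667))).symm
theorem E69191 : n181604 = n61571 := (((D61571).symm.trans (sb E65892 D181604))).symm
theorem F310184 : act 5 n29154 = n181605 := (sb E65892 D181605)
theorem F310185 : act 3 n33134 = n40233 := (sb E65895 (iv3 D86777))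
theorem E69197 : n123685 = n71658 := ((((iv4 F108149)).symm.trans (sb E65895 (iv4 F198125)))).symm
theorem F310186 : act 5 n33134 = n181731 := (sb E65895 D181731)
theorem E69198 : n181734 = n71660 := (((D71660).symm.trans (sb E65896 D181734))).symm
theorem E69199 : n181731 = n40233 := (((F310185).symm.trans (sb E65896 (iv3 F282900)))).symm
theorem E69202 : n181749 = n131410 := (((iv3 F282924)).symm.trans (sb E65897 (iv3 F232832)))
theorem E69203 : n181752 = n71648 := ((D181752).symm.trans (sb E65897 (iv6 F232833)))
theorem E69204 : n181753 = n157372 := ((D181753).symm.trans (sb E65898 (iv1 F252646)))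
theorem E69205 : n181754 = n120256 := ((D181754).symm.trans (sb E65898 F252647))
theorem E69206 : n170597 = n131369 := (((iv3 F305045)).symm.trans (sb E65898 F252643))
theorem E69207 : n181755 = n76664 := ((D181755).symm.trans (sb E65898 F252644))
theorem E69208 : n149919 = n76663 := (((iv7 F235809)).symm.trans (sb E65898 (iv7 D160085)))
theorem E69209 : n133773 = n39712 := ((((iv1 F92431)).symm.trans (sb E65899 F222273))).symm
theorem F310187 : act 1 n133750 = n84391 := (sb E65900 (iv0 D177067))
theorem F310188 : act 0 n38934 = n84391 := (sb E65901 (iv1 D177068))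
theorem F310189 : act 7 n96303 = n84439 := (sb E65902 (iv7 F276609))
theorem F310190 : act 5 n148940 = n84391 := (sb E65904 (iv5 D177069))
theorem F310191 : act 7 n106015 = n84391 := (sb E65906 (iv7 D177070))
theorem E69211 : n119590 = n62232 := ((D119590).symm.trans (sb E65909 (iv1 D132633)))
theorem E69212 : n129790 = n119591 := (((D119591).symm.trans (sb E65909 F212898))).symm
theorem E69213 : n119592 = n62334 := ((D119592).symm.trans (sb E65909 F212900))
theorem E69214 : n129786 = n119300 := ((((iv7 F187788)).symm.trans (sb E65909 F212899))).symm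
theorem E69215 : n157413 = n116231 := (((iv5 F247903)).symm.trans (sb E65911 F247521))
theorem E69216 : n71254 = n31313 := ((((iv0 F101302)).symm.trans (sb E65913 F112373))).symm
theorem F310192 : act 5 n53574 = n34307 := (sb E65913 F112370)
theorem F310193 : act 7 n53574 = n34306 := (sb E65913 (iv7 D74869))
theorem E69219 : n138880 = n71251 := ((((iv5 F107751)).symm.trans (sb E65915 F247524))).symm
theorem E69220 : n71253 = n30609 := (((iv4 F107755)).symm.trans (sb E65917 F100966))
theorem E69221 : n30608 = n15878 := ((((iv6 D32978)).symm.trans (sb E65917 (iv6 D65206)))).symm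
theorem E69223 : n118947 = n74786 := ((F187043).symm.trans (sb E65920 F247520))
theorem F310194 : act 7 n74865 = n74785 := (sb E65920 (iv7 D157296))
theorem E69224 : n118302 = n16589 := (((F53930).symm.trans (sb E65921 (iv4 F185867)))).symm
theorem F310195 : act 5 n34267 = n34305 := (sb E65921 F86570)
theorem E69225 : n49967 = n26471 := (((iv6 F79030)).symm.trans (sb E65921 (iv6 D54741)))
theorem E69227 : n81750 = n69645 := (((iv5 F300080)).symm.trans (sb E65923 (iv5 D148605)))
theorem F310196 : act 5 n32328 = n54318 := (sb E65924 (iv5 D117922))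
theorem E69228 : n70923 = n69647 := (((D69647).symm.trans (sb E65924 (iv6 F305302)))).symm
theorem E69229 : n160188 = n69756 := ((D160188).symm.trans (sb E65925 F210284))
theorem F310197 : act 6 n76738 = n61577 := (sb E65925 (iv6 D131240))
theorem E69230 : n120238 = n33873 := (((F87235).symm.trans (sb E65926 F191449))).symm
theorem E69231 : n146695 = n121750 := (((iv4 F230030)).symm.trans (sb E65927 (iv4 F194316)))
theorem F310198 : act 5 n68768 = n35073 := (sb E65927 F110259)
theorem F310199 : act 5 n68801 = n54338 := (sb E65928 (iv5 D117957))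
theorem F310200 : act 5 n68802 = n54343 := (sb E65929 (iv5 D117969))
theorem E69233 : n153302 = n119175 := ((D153302).symm.trans (sb E65931 F205737))
theorem E69234 : n157535 = n153303 := (((D153303).symm.trans (sb E65931 D157535))).symm
theorem F310201 : act 4 n72429 = n34354 := (sb E65931 (iv4 D74982))
theorem E69237 : n123515 = n55164 := ((D123515).symm.trans (sb E65933 (iv6 D119866)))
theorem F310202 : act 6 n26657 = n32606 := (sb E65934 (iv6 D70248))
theorem E69242 : n114728 = n68646 := ((D114728).symm.trans (sb E65936 (iv6 D146412)))
theorem E69243 : n73768 = n69788 := (((D69788).symm.trans (sb E65938 (iv6 D155263)))).symm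
theorem F310203 : act 6 n33890 = n48753 := (sb E65939 (iv6 D105433))
theorem F310204 : act 6 n117241 = n76708 := (sb E65941 (iv6 D160145))
theorem F310205 : act 2 n158953 = n123528 := (sb E65942 F252767)
theorem F310206 : act 6 n158953 = n76707 := (sb E65942 (iv6 D160144))
theorem F310207 : act 4 n117247 = n123508 := (sb E65945 F252772)
theorem F310208 : act 6 n117247 = n76709 := (sb E65945 (iv6 D160146))
theorem F310209 : act 2 n146685 = n123508 := (sb E65946 F252677)
theorem F310210 : act 3 n146685 = n76673 := (sb E65946 F252678)
theorem F310211 : act 6 n146685 = n76671 := (sb E65946 (iv6 D160098))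
theorem F310212 : act 7 n117379 = n69449 := (sb E65949 F186340)
theorem F310213 : act 5 n117400 = n68938 := (sb E65950 F186344)
theorem F310214 : act 7 n117400 = n158977 := (sb E65950 (iv7 F250309))
theorem F310215 : act 0 n119579 = n57109 := (sb E65951 (iv1 F191734))
theorem F310216 : act 1 n119579 = n55408 := (sb E65951 (iv0 D120367))
theorem F310217 : act 2 n119579 = n57112 := (sb E65951 (iv2 F191735))
theorem F310218 : act 5 n119579 = n57213 := (sb E65951 F191732)
theorem F310219 : act 7 n119579 = n57111 := (sb E65951 (iv7 F191736))
theorem E69244 : n73503 = n68756 := (((iv6 F110178)).symm.trans (sb E65953 (iv6 D146689)))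
theorem F310220 : act 6 n31988 = n17023 := (sb E65954 F53159)
theorem F310221 : act 3 n119304 = n72459 := (sb E65957 F196846)
theorem F310222 : act 6 n119304 = n57112 := (sb E65957 (iv6 D122848))
theorem E69249 : n169800 = n68970 := ((((iv1 F105190)).symm.trans (sb E65960 D169800))).symm
theorem E69251 : n147128 = n44645 := ((D147128).symm.trans (sb E65960 F125268))
theorem F310223 : act 6 n68981 = n37188 := (sb E65960 (iv6 D81432))
theorem E69252 : n169803 = n68792 := (((F242953).symm.trans (sb E65960 D169803))).symm
theorem F310224 : act 2 n57105 = n54165 := (sb E65961 F184055)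
theorem F310225 : act 4 n57105 = n54143 := (sb E65961 F184056)
theorem E69253 : n122831 = n54142 := ((D122831).symm.trans (sb E65961 (iv6 D117498)))
theorem F310226 : act 1 n27494 = n54165 := (sb E65962 (iv0 D117563))
theorem F310227 : act 0 n76551 = n54165 := (sb E65963 (iv1 D117564))
theorem E69254 : n159905 = n158980 := ((D159905).symm.trans (sb E65963 (iv6 F250670)))
theorem F310228 : act 3 n33602 = n54165 := (sb E65964 F184173)
theorem E69255 : n72867 = n54163 := ((D72867).symm.trans (sb E65964 (iv6 D117561)))
theorem F310229 : act 5 n55406 = n54165 := (sb E65965 (iv5 D117565))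
theorem E69256 : n157693 = n128103 := ((D157693).symm.trans (sb E65967 (iv2 F206182)))
theorem F310230 : act 6 n75132 = n60071 := (sb E65967 (iv6 D127889))
theorem E69257 : n132818 = n68809 := ((F306586).symm.trans (sb E65968 (iv5 D146765)))
theorem E69258 : n67373 = n61217 := ((D67373).symm.trans (sb E69032 (iv4 F209017)))
theorem E69259 : n65578 = n54762 := (((iv5 F101297)).symm.trans (sb E69032 (iv5 D119004)))
theorem F310231 : act 0 n38576 = n71641 := (sb E65970 (iv1 D151951))
theorem E69260 : n146624 = n52923 := ((((iv5 F83632)).symm.trans (sb E65970 (iv5 F238948)))).symm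
theorem F310232 : act 1 n46540 = n71641 := (sb E65971 (iv0 D151950))
theorem F310233 : act 2 n131183 = n99603 := (sb E65972 F274251)
theorem F310234 : act 4 n131183 = n84626 := (sb E65972 F274252)
theorem F310235 : act 6 n131183 = n83680 := (sb E65972 (iv6 D175207))
theorem E69261 : n147348 = n116927 := (((iv1 F231050)).symm.trans (sb E65973 (iv1 F230125)))
theorem E69262 : n126078 = n116925 := (((iv0 F202781)).symm.trans (sb E65973 F230126))
theorem E69263 : n147634 = n69736 := ((D147634).symm.trans (sb E65973 F230123))
theorem F310236 : act 6 n69188 = n128104 := (sb E65973 (iv6 F307301))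
theorem E69264 : n112632 = n68808 := (((iv7 F175277)).symm.trans (sb E65973 (iv7 D146764)))
theorem E69265 : n147636 = n69735 := ((D147636).symm.trans (sb E65974 (iv1 F112647)))
theorem E69266 : n110092 = n68782 := (((iv0 F170227)).symm.trans (sb E65974 F112648))
theorem E69267 : n157682 = n105774 := ((((iv3 F162442)).symm.trans (sb E65974 (iv3 F248457)))).symm
theorem E69268 : n147637 = n55242 := ((D147637).symm.trans (sb E65974 F112645))
theorem F310237 : act 6 n69189 = n69744 := (sb E65974 F112646)
theorem E69269 : n105785 = n34405 := (((iv7 F162476)).symm.trans (sb E65974 (iv7 D75130)))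
theorem E69270 : n147629 = n75142 := ((D147629).symm.trans (sb E65975 F230121))
theorem E69274 : n157686 = n51030 := (((F171342).symm.trans (sb E65977 D157686))).symm
theorem E69275 : n147349 = n34404 := ((D147349).symm.trans (sb E65977 (iv6 D75127)))
theorem E69276 : n67248 = n26856 := ((((iv4 D55619)).symm.trans (sb E65980 F226276))).symm
theorem E69277 : n120667 = n67247 := ((D120667).symm.trans (sb E65980 (iv6 D143593)))
theorem E69280 : n67255 = n7292 := ((((iv5 D15447)).symm.trans (sb E65981 D67255))).symm
theorem E69281 : n32625 = n14756 := ((D32625).symm.trans (sb E65981 (iv6 D31285)))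
theorem F310238 : act 3 n70296 = n68354 := (sb E65982 F226295)
theorem F310239 : act 6 n31284 = n32624 := (sb E65983 (iv6 D70297))
theorem F310240 : act 1 n54818 = n68354 := (sb E65984 (iv0 D145797))
theorem F310241 : act 0 n77647 = n68354 := (sb E65985 (iv1 D145798))
theorem F310242 : act 5 n77647 = n146142 := (sb E65985 (iv5 F229393))
theorem F310243 : act 4 n71738 = n68354 := (sb E65986 (iv4 D145799))
theorem E69286 : n132612 = n68351 := ((F217803).symm.trans (sb E65987 (iv5 D145790)))
theorem F310244 : act 6 n135463 = n68354 := (sb E65987 F228919)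
theorem F310245 : act 1 n173683 = n83310 := (sb E65988 (iv0 D174287))
theorem F310246 : act 0 n38777 = n83310 := (sb E65989 (iv1 D174288))
theorem F310247 : act 0 n173198 = n83061 := (sb E65990 (iv1 D173682))
theorem F310248 : act 1 n173198 = n84126 := (sb E65990 (iv0 F272180))
theorem F310249 : act 7 n173198 = n84125 := (sb E65990 (iv7 F274305))
theorem F310250 : act 3 n173681 = n101605 := (sb E65993 F273088)
theorem F310251 : act 7 n173681 = n83310 := (sb E65993 (iv7 D174290))
theorem E69287 : n175307 = n156512 := (((D156512).symm.trans (sb E65996 D175307))).symm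
theorem E69288 : n156254 = n125172 := ((F246088).symm.trans (sb E65996 F239969))
theorem E69289 : n156513 = n128336 := ((D156513).symm.trans (sb E65996 (iv2 F206453)))
theorem E69290 : n175308 = n156514 := (((D156514).symm.trans (sb E65996 D175308))).symm
theorem E69291 : n138675 = n38584 := (((iv5 F221838)).symm.trans (sb E65996 (iv5 D83716)))
theorem E69294 : n39592 = n30575 := ((((iv1 D65117)).symm.trans (sb E65997 F128775))).symm
theorem E69295 : n74538 = n71428 := ((F111924).symm.trans (sb E65997 (iv0 F199696)))
theorem E69296 : n117924 = n64994 := (((F212187).symm.trans (sb E65997 F201085))).symm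
theorem E69297 : n138677 = n71331 := ((D138677).symm.trans (sb E65997 F306255))
theorem E69298 : n117925 = n64999 := (((F212189).symm.trans (sb E65997 (iv7 F201087)))).symm
theorem E69299 : n156519 = n68061 := ((D156519).symm.trans (sb E65998 (iv1 D145188)))
theorem E69300 : n156521 = n144898 := ((D156521).symm.trans (sb E65998 (iv5 F243404)))
theorem E69301 : n181076 = n96726 := (E66001).trans E66738
theorem F310252 : act 5 n96726 = n86479 := (sb E69301 (iv5 D181076))
theorem F310253 : act 0 n146679 = n181589 := (sb E66002 (iv1 F282649))
theorem E69302 : n124596 = n45191 := ((D124596).symm.trans (sb E66003 (iv6 D96718)))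
theorem F310254 : act 1 n131370 = n85627 := (sb E66006 (iv0 D179480))
theorem F310255 : act 7 n131370 = n86794 := (sb E66006 F297741)
theorem F310256 : act 0 n131410 = n85627 := (sb E66007 (iv1 D179481))
theorem F310257 : act 2 n131410 = n86794 := (sb E66007 F297742)
theorem F310258 : act 4 n131410 = n175414 := (sb E66007 F297743)
theorem F310259 : act 5 n74887 = n85627 := (sb E66009 (iv5 D179483))
theorem E69303 : n179526 = n72405 := (((F112401).symm.trans (sb E66009 (iv7 F279523)))).symm
theorem F310260 : act 2 n40181 = n29720 := (sb E66014 F185227)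
theorem F310261 : act 7 n40181 = n60102 := (sb E66014 F185229)
theorem E69305 : n170123 = n69591 := (((F309613).symm.trans (sb E66015 (iv3 F267612)))).symm
theorem F310262 : act 5 n62859 = n37275 := (sb E66015 (iv5 D81589))
theorem F310263 : act 5 n29272 = n37276 := (sb E66016 (iv5 D81592))
theorem F310264 : act 5 n33429 = n39576 := (sb E66018 (iv5 D85653))
theorem F310265 : act 5 n33252 = n37302 := (sb E66023 (iv5 D81627))
theorem F310266 : act 4 n70537 = n162879 := (sb E66024 (iv4 F301183))
theorem F310267 : act 5 n70537 = n37303 := (sb E66024 (iv5 D81630))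
theorem E69312 : n62713 = n40187 := (((iv4 F97832)).symm.trans (sb E66027 F298459))
theorem F310268 : act 4 n37256 = n62714 := (sb E66028 (iv4 D133616))
theorem E69314 : n170054 = n164360 := (((iv4 F300273)).symm.trans (sb E66029 (iv4 F290287)))
theorem F310269 : act 5 n98061 = n62714 := (sb E66029 (iv5 D133617))
theorem F310270 : act 1 n37398 = n62716 := (sb E66030 F109053)
theorem F310271 : act 7 n37398 = n62714 := (sb E66030 F235897)
theorem F310272 : act 5 n118067 = n86492 := (sb E66031 (iv5 D181108))
theorem F310273 : act 4 n69259 = n88173 := (sb E66033 (iv4 D184960))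
theorem E69315 : n83177 = n83169 := ((D83177).symm.trans (sb E66034 (iv2 D173925)))
theorem F310274 : act 7 n38291 = n83170 := (sb E66034 (iv7 F272562))
theorem F310275 : act 0 n34349 = n33153 := (sb E66035 F107020)
theorem E69316 : n77693 = n74968 := (((D74968).symm.trans (sb E66035 (iv4 F304254)))).symm
theorem F310276 : act 3 n119115 = n55298 := (sb E66036 F189806)
theorem E69317 : n148336 = n55322 := (((F187404).symm.trans (sb E66036 (iv7 F232132)))).symm
theorem E69318 : n160553 = n83170 := (((iv3 F253631)).symm.trans (sb E66037 (iv3 F128230)))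
theorem E69319 : n129364 = n35167 := (((F115720).symm.trans (sb E66037 (iv5 F307662)))).symm
theorem E69320 : n77692 = n35166 := ((((iv7 D76979)).symm.trans (sb E66037 (iv7 F308252)))).symm
theorem E69321 : n32287 = n29136 := ((((iv6 D61549)).symm.trans (sb E66038 (iv6 D69547)))).symm
theorem F310277 : act 7 n61549 = n55298 := (sb E66038 F105835)
theorem E69322 : n67372 = n44486 := ((D67372).symm.trans (sb E66039 F146796))
theorem E69323 : n67374 = n44485 := ((D67374).symm.trans (sb E66039 (iv6 D95240)))
theorem E69324 : n135455 = n65370 := (((D65370).symm.trans (sb E66040 (iv4 F217775)))).symm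
theorem F310278 : act 2 n73722 = n120226 := (sb E68505 (iv2 F191424))
theorem E69326 : n155233 = n34228 := ((D155233).symm.trans (sb E68505 (tr (iv5 D85185) E67661)))
theorem E69327 : n155234 = n119115 := ((D155234).symm.trans (sb E68505 (iv6 F187403)))
theorem F310279 : act 7 n73722 = n133635 := (sb E68505 (iv7 F215017))
theorem E69328 : n67376 = n63292 := (((iv1 F103248)).symm.trans (sb E66042 (iv1 F216701)))
theorem E69329 : n67375 = n63287 := (((iv0 F103247)).symm.trans (sb E66042 (iv0 D134700)))
theorem E69330 : n173932 = n143870 := ((((iv3 F226488)).symm.trans (sb E66042 F307663))).symm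
theorem E69332 : n133635 = n53782 := ((((iv3 F84795)).symm.trans (sb E66043 (iv3 F215016)))).symm
theorem E69333 : n29664 = n15223 := (((F41123).symm.trans (sb E66043 (iv6 D62726)))).symm
theorem F310281 : act 2 n38292 = n83170 := (sb E66047 F272566)
theorem F310282 : act 2 n173930 = n83183 := (sb E66048 F272605)
theorem F310283 : act 7 n173930 = n83178 := (sb E66048 (iv7 D173950))
theorem F310284 : act 2 n173931 = n83184 := (sb E66049 F272608)
theorem F310285 : act 7 n173931 = n83179 := (sb E66049 (iv7 D173955))
theorem E69334 : n173959 = n143870 := (E66050).trans E69330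
theorem F310286 : act 2 n143870 = n83185 := (sb E69334 F272611)
theorem F310287 : act 1 n65004 = n34989 := (sb E66051 (iv0 D76564))
theorem F310288 : act 2 n65004 = n71521 := (sb E66051 F233764)
theorem E69335 : n138393 = n70859 := ((D138393).symm.trans (sb E66051 F233183))
theorem F310289 : act 7 n65004 = n71522 := (sb E66051 F233762)
theorem F310290 : act 4 n138392 = n83746 := (sb E66053 F274157)
theorem E69336 : n85189 = n65110 := (((F221617).symm.trans (sb E66053 F274158))).symm
theorem E69337 : n71097 = n14503 := ((((iv1 D30573)).symm.trans (sb E66054 (iv1 F237320)))).symm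
theorem E69338 : n160213 = n65113 := (((D65113).symm.trans (sb E66054 F252937))).symm
theorem F310291 : act 0 n138394 = n70935 := (sb E66055 (iv1 D150513))
theorem F310292 : act 7 n138394 = n149769 := (sb E66055 (iv7 F237380))
theorem E69339 : n158314 = n154165 := (((D154165).symm.trans (sb E66056 (iv1 F249433)))).symm
theorem F310293 : act 1 n73037 = n38020 := (sb E66056 (iv0 D82713))
theorem E69340 : n98198 = n60267 := (((F109553).symm.trans (sb E66056 (iv2 F155519)))).symm
theorem E69341 : n158819 = n154163 := ((((iv3 F242275)).symm.trans (sb E66056 (iv3 F250052)))).symm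
theorem E69342 : n161160 = n154166 := (((D154166).symm.trans (sb E66056 (iv4 F254836)))).symm
theorem E69344 : n158804 = n154167 := (((D154167).symm.trans (sb E66056 (iv6 F250008)))).symm
theorem E69345 : n158312 = n154168 := (((D154168).symm.trans (sb E66056 (iv7 F249427)))).symm
theorem E69346 : n154135 = n80227 := ((((iv4 F123248)).symm.trans (sb E66057 (iv4 F242207)))).symm
theorem E69347 : n158834 = n60268 := ((D158834).symm.trans (sb E66057 F206333))
theorem F310294 : act 5 n75479 = n98193 := (sb E66058 (iv5 F300767))
theorem F310295 : act 5 n45890 = n38020 := (sb E66059 (iv5 D82715))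
theorem E69350 : n172761 = n98197 := (((D98197).symm.trans (sb E66059 D172761))).symm
theorem F310296 : act 3 n82716 = n83112 := (sb E66060 (iv3 F236598))
theorem E69351 : n75693 = n75686 := ((((iv4 F155508)).symm.trans (sb E66061 (iv4 D158688)))).symm
theorem E69352 : n75694 = n62464 := (((E68608).symm.trans ((D100826).symm.trans (sb E66062 (iv4 D158691))))).symm
theorem F310297 : act 2 n104126 = n83114 := (sb E66063 F272340)
theorem F310298 : act 4 n104126 = n83091 := (sb E66063 (iv4 D173753))
theorem F310299 : act 0 n171131 = n157994 := (sb E66064 F303574)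
theorem F310300 : act 1 n171131 = n158669 := (sb E66064 F303575)
theorem F310301 : act 4 n171131 = n83115 := (sb E66064 F272401)
theorem F310302 : act 7 n171131 = n83114 := (sb E66064 (iv7 D173814))
theorem F310303 : act 4 n47010 = n83112 := (sb E66065 (iv4 D173805))
theorem E69353 : n82755 = n82728 := (((D82728).symm.trans (sb E66066 (iv6 D172856)))).symm
theorem F310304 : act 6 n38034 = n82727 := (sb E66067 (iv6 D172780))
theorem F310305 : act 7 n27667 = n47175 := (sb E66068 F156092)
theorem F310306 : act 2 n101223 = n47172 := (sb E66069 F156095)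
theorem F310307 : act 7 n101223 = n47177 := (sb E66069 F156096)
theorem F310308 : act 1 n37456 = n47175 := (sb E66070 (iv0 D101336))
theorem F310309 : act 0 n88642 = n47175 := (sb E66071 (iv1 D101337))
theorem F310310 : act 2 n27672 = n47175 := (sb E66072 (iv2 D101338))
theorem F310311 : act 4 n27478 = n47175 := (sb E66073 (iv4 D101339))
theorem F310312 : act 0 n101340 = n160277 := (sb E66074 F253138)
theorem F310313 : act 1 n101340 = n160275 := (sb E66074 (iv0 F253133))
theorem F310314 : act 2 n101340 = n58020 := (sb E66074 F302630)
theorem F310315 : act 7 n101340 = n58002 := (sb E66074 F302631)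
theorem F310316 : act 3 n27476 = n47178 := (sb E66075 F156116)
theorem F310317 : act 6 n27476 = n47175 := (sb E66075 (iv6 D101341))
theorem F310318 : act 3 n26643 = n47176 := (sb E66076 (iv3 D101342))
theorem F310319 : act 0 n101343 = n72421 := (sb E66077 F190818)
theorem F310320 : act 1 n101343 = n72417 := (sb E66077 F190820)
theorem F310321 : act 2 n101343 = n73024 := (sb E66077 F190821)
theorem F310322 : act 3 n101343 = n55137 := (sb E66077 F189087)
theorem F310323 : act 4 n101343 = n177063 := (sb E66077 F306807)
theorem F310324 : act 6 n101343 = n72390 := (sb E66077 (iv6 F190819))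
theorem F310325 : act 7 n101343 = n73298 := (sb E66077 (iv7 F190631))
theorem F310326 : act 4 n26641 = n47178 := (sb E66078 F156117)
theorem F310327 : act 6 n26641 = n47176 := (sb E66078 (iv6 D101344))
theorem F310328 : act 0 n33675 = n47178 := (sb E66079 (iv1 D101348))
theorem F310329 : act 2 n101349 = n73019 := (sb E66080 (iv2 F191102))
theorem F310330 : act 3 n101349 = n57420 := (sb E66080 F189065)
theorem F310331 : act 7 n101349 = n73000 := (sb E66080 (iv7 F190622))
theorem F310332 : act 7 n33640 = n47178 := (sb E66081 (iv7 D101350))
theorem F310333 : act 4 n73277 = n47165 := (sb E66085 (iv4 D101295))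
theorem F310334 : act 3 n32700 = n47166 := (sb E66086 (iv3 D101299))
theorem F310335 : act 4 n72979 = n47166 := (sb E66087 (iv4 D101300))
theorem F310336 : act 5 n70803 = n47166 := (sb E66088 (iv5 D101301))
theorem F310337 : act 6 n32698 = n47166 := (sb E66089 (iv6 D101302))
theorem F310338 : act 0 n101292 = n155129 := (sb E66090 (iv1 F243954))
theorem F310339 : act 2 n101292 = n162940 := (sb E66090 (iv2 F257301))
theorem F310340 : act 5 n101292 = n131490 := (sb E66090 F242477)
theorem F310341 : act 6 n101292 = n73153 := (sb E66090 (iv6 D154435))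
theorem F310342 : act 0 n83795 = n72768 := (sb E66091 (iv1 D153834))
theorem F310343 : act 1 n83796 = n72768 := (sb E66092 (iv0 D153833))
theorem F310344 : act 2 n83797 = n73171 := (sb E66093 F242509)
theorem F310345 : act 0 n83798 = n73168 := (sb E66094 (iv1 F241688))
theorem F310346 : act 2 n83798 = n72768 := (sb E66094 (iv2 D153835))
theorem F310347 : act 1 n83798 = n73079 := (sb E66096 (iv0 D154239))
theorem F310348 : act 2 n154242 = n73168 := (sb E66102 F242505)
theorem F310349 : act 7 n123503 = n73168 := (sb E66107 (iv7 F242504))
theorem F310350 : act 0 n154471 = n175492 := (sb E66108 (iv1 F285518))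
theorem F310351 : act 1 n154472 = n175492 := (sb E66109 F285512)
theorem F310352 : act 2 n154473 = n175491 := (sb E66110 F285513)
theorem F310353 : act 6 n154473 = n87684 := (sb E66110 F285514)
theorem F310354 : act 0 n153836 = n175490 := (sb E66111 (iv1 F285519))
theorem F310355 : act 1 n153836 = n175489 := (sb E66111 F285520)
theorem F310356 : act 2 n153836 = n175492 := (sb E66111 F285515)
theorem E69354 : n98462 = n82391 := ((((iv1 F187750)).symm.trans (sb E66126 F285593))).symm
theorem F310357 : act 1 n153866 = n88211 := (sb E66131 (iv0 F285597))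
theorem F310358 : act 7 n124032 = n88176 := (sb E66132 F286519)
theorem F310359 : act 2 n154441 = n88172 := (sb E66133 F286525)
theorem F310361 : act 2 n154443 = n88174 := (sb E66134 (iv2 F286526))
theorem F310362 : act 5 n154443 = n94813 := (sb E66134 F285614)
theorem F310363 : act 7 n154438 = n88171 := (sb E66135 (iv7 F286523))
theorem F310365 : act 7 n154439 = n88172 := (sb E66136 (iv7 F286524))
theorem F310367 : act 6 n154482 = n87715 := (sb E66140 F285620)
theorem F310368 : act 2 n147770 = n88183 := (sb E66141 F285621)
theorem F310369 : act 0 n153840 = n88181 := (sb E66142 (iv1 F285625))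
theorem F310370 : act 1 n153840 = n88180 := (sb E66142 F285626)
theorem F310371 : act 0 n153841 = n88285 := (sb E66143 (iv1 F285629))
theorem F310372 : act 1 n153841 = n88284 := (sb E66143 F285630)
theorem F310373 : act 7 n153841 = n87716 := (sb E66143 F285628)
theorem F310374 : act 0 n83808 = n175415 := (sb E66144 (iv1 F274482))
theorem E69355 : n175518 = n57749 := (((iv3 F274848)).symm.trans (sb E66144 F206391))
theorem F310375 : act 1 n101564 = n175415 := (sb E66145 F274480)
theorem F310376 : act 4 n89129 = n77610 := (sb E66146 F198210)
theorem F310377 : act 7 n89129 = n175415 := (sb E66146 (iv7 F274479))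
theorem E69356 : n88077 = n33133 := (((F78812).symm.trans (sb E66147 (iv1 F156471)))).symm
theorem E69357 : n47247 = n33126 := (((F78813).symm.trans (sb E66147 (iv0 D101567)))).symm
theorem E69358 : n132795 = n83043 := ((((iv1 F127981)).symm.trans (sb E66148 D132795))).symm
theorem E69360 : n132778 = n18390 := ((((iv2 D38639)).symm.trans (sb E66148 (iv2 F213253)))).symm
theorem F310378 : act 3 n38639 = n29485 := (sb E66148 F97191)
theorem E69361 : n132797 = n83898 := (((D83898).symm.trans (sb E66148 D132797))).symm
theorem E69362 : n83899 = n29483 := ((D83899).symm.trans (sb E66148 (iv6 D62325)))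
theorem F310379 : act 2 n136480 = n83902 := (sb E66149 F275178)
theorem F310380 : act 5 n136480 = n83897 := (sb E66149 (iv5 D175760))
theorem E69363 : n132791 = n57749 := ((D132791).symm.trans (sb E66150 (iv1 F197325)))
theorem E69364 : n132777 = n57298 := (((iv2 F213249)).symm.trans (sb E66150 (iv2 D123135)))
theorem F310381 : act 6 n62324 = n83897 := (sb E66150 F303637)
theorem E69365 : n61101 = n57750 := ((F97190).symm.trans (sb E66150 F197322))
theorem F310382 : act 3 n154082 = n83829 := (sb E66158 F274902)
theorem F310383 : act 0 n41531 = n57346 := (sb E66159 (iv1 D123202))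
theorem F310384 : act 1 n46056 = n57346 := (sb E66160 (iv0 D123201))
theorem E69367 : n172791 = n98152 := ((((iv4 F151379)).symm.trans (sb E66160 F271059))).symm
theorem E69368 : n83848 = n18573 := ((D83848).symm.trans (sb E66161 (iv3 D39125)))
theorem E69369 : n84709 = n83849 := (((D83849).symm.trans (sb E66161 D84709))).symm
theorem F310385 : act 7 n38620 = n57346 := (sb E66161 F301750)
theorem F310386 : act 4 n124067 = n83027 := (sb E66163 F272006)
theorem F310387 : act 6 n124067 = n83025 := (sb E66163 (iv6 D173574))
theorem F310388 : act 0 n87566 = n72880 := (sb E66164 (iv1 F242023))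
theorem F310389 : act 5 n87566 = n75063 := (sb E66164 F242022)
theorem F310390 : act 1 n87567 = n72880 := (sb E66165 F242024)
theorem F310391 : act 0 n153899 = n88172 := (sb E66168 (iv1 D184956))
theorem F310393 : act 6 n153899 = n88252 := (sb E66168 F287376)
theorem F310394 : act 1 n87544 = n73256 := (sb E66169 (iv0 D154553))
theorem E69370 : n181019 = n177046 := (((iv4 F281863)).symm.trans (sb E66169 F276462))
theorem F310395 : act 1 n154554 = n183391 := (sb E66170 F285110)
theorem F310396 : act 2 n154554 = n183394 := (sb E66170 (iv2 F285109))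
theorem F310397 : act 3 n154554 = n83826 := (sb E66170 (iv3 D175564))
theorem F310398 : act 6 n154554 = n98490 := (sb E66170 F274894)
theorem F310399 : act 7 n154554 = n88943 := (sb E66170 F274895)
theorem F310400 : act 0 n124777 = n87792 := (sb E66171 (iv1 F285994))
theorem F310401 : act 1 n124777 = n87787 := (sb E66171 (iv0 D184038))
theorem F310402 : act 0 n153883 = n88177 := (sb E66172 (iv1 F287371))
theorem F310403 : act 1 n153883 = n88172 := (sb E66172 (iv0 D184955))
theorem F310404 : act 0 n154011 = n182393 := (sb E66173 (iv1 F284182))
theorem F310405 : act 1 n154011 = n182392 := (sb E66173 F284183)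
theorem F310406 : act 2 n154011 = n182395 := (sb E66173 F284179)
theorem F310407 : act 7 n154011 = n87193 := (sb E66173 (iv7 D182648))
theorem E69371 : n172549 = n100041 := ((D172549).symm.trans (sb E66174 F286398))
theorem E69372 : n172551 = n100040 := ((D172551).symm.trans (sb E66174 F286399))
theorem E69373 : n172553 = n87976 := ((D172553).symm.trans (sb E66174 (iv6 D184478)))
theorem E69374 : n154491 = n83807 := ((D154491).symm.trans (sb E66175 (iv1 F274764)))
theorem E69375 : n154492 = n83802 := ((D154492).symm.trans (sb E66175 (iv0 F155079)))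
theorem E69376 : n154493 = n101908 := ((D154493).symm.trans (sb E66175 F156854))
theorem F310408 : act 5 n73182 = n47045 := (sb E66175 (iv5 D100950))
theorem F310409 : act 7 n73182 = n101909 := (sb E66175 (iv7 F156853))
theorem F310410 : act 6 n70481 = n65001 := (sb E66176 (iv6 D138385))
theorem E69377 : n154513 = n41179 := ((D154513).symm.trans (sb E66177 (iv1 D88241)))
theorem E69378 : n183862 = n154514 := (((D154514).symm.trans (sb E66177 F285673))).symm
theorem E69381 : n184728 = n154515 := (((D154515).symm.trans (sb E66177 (iv5 F287201)))).symm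
theorem E69382 : n183860 = n154516 := (((D154516).symm.trans (sb E66177 (iv7 F286671)))).symm
theorem E69383 : n155128 = n47321 := ((((iv4 F74545)).symm.trans (sb E66179 (iv4 F305105)))).symm
theorem F310411 : act 1 n86510 = n88176 := (sb E66180 (iv0 D184964))
theorem F310412 : act 0 n122562 = n88176 := (sb E66181 (iv1 D184965))
theorem F310413 : act 2 n124031 = n88176 := (sb E66182 (iv2 D184966))
theorem F310414 : act 4 n177769 = n88176 := (sb E66183 (iv4 D184967))
theorem F310415 : act 2 n148682 = n159892 := (sb E66184 (iv2 F252122))
theorem F310416 : act 3 n148682 = n147412 := (sb E66184 F234160)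
theorem F310417 : act 5 n148682 = n69858 := (sb E66184 (iv5 D148987))
theorem F310418 : act 6 n148682 = n147842 := (sb E66184 F234161)
theorem F310419 : act 7 n148682 = n147405 := (sb E66184 F234162)
theorem F310420 : act 2 n95933 = n147405 := (sb E66185 (iv2 F231133))
theorem E69384 : n55527 = n44778 := ((((iv3 D95933)).symm.trans (sb E66185 F192145))).symm
theorem F310421 : act 5 n95933 = n55525 := (sb E66185 (iv5 D120570))
theorem F310422 : act 6 n95933 = n147226 := (sb E66185 (iv6 F232256))
theorem F310423 : act 7 n95933 = n159892 := (sb E66185 (iv7 F252125))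
theorem E69385 : n76136 = n69684 := (((D69684).symm.trans (sb E66186 (iv0 D159188)))).symm
theorem F310424 : act 4 n47605 = n73413 := (sb E66187 (iv4 F307099))
theorem F310425 : act 1 n46296 = n83759 := (sb E66188 F198468)
theorem E69386 : n161692 = n98946 := ((((iv4 F152487)).symm.trans (sb E66188 (iv4 F255697)))).symm
theorem F310426 : act 4 n124065 = n172438 := (sb E66189 F274943)
theorem F310427 : act 5 n124065 = n99370 := (sb E66189 F274942)
theorem F310428 : act 6 n124065 = n98972 := (sb E66189 (iv6 F274948))
theorem F310429 : act 2 n100479 = n161574 := (sb E66190 F274461)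
theorem F310430 : act 3 n100479 = n98887 := (sb E66190 F274462)
theorem F310431 : act 5 n100479 = n83759 := (sb E66190 (iv5 D175411))
theorem F310432 : act 2 n123203 = n83829 := (sb E66192 (iv2 F274596))
theorem E69388 : n154554 = n149111 := (((iv3 F310397)).symm.trans (sb E66193 (iv3 F277501)))
theorem E69389 : n177939 = n82557 := (((F154538).symm.trans (sb E66193 D177939))).symm
theorem F310433 : act 0 n88952 = n124067 := (sb E66195 (iv1 F255568))
theorem F310434 : act 1 n88952 = n77605 := (sb E66195 (iv0 D161572))
theorem F310435 : act 3 n88952 = n173447 := (sb E66195 (iv3 F271907))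
theorem F310436 : act 7 n88952 = n124065 := (sb E66195 (iv7 F279321))
theorem F310437 : act 0 n98956 = n77605 := (sb E66196 (iv1 D161573))
theorem F310438 : act 1 n98956 = n124067 := (sb E66196 F255569)
theorem F310439 : act 2 n98956 = n124065 := (sb E66196 (iv2 F279323))
theorem F310440 : act 1 n57806 = n46296 := (sb E66197 F274559)
theorem F310441 : act 4 n57806 = n38622 := (sb E66197 F128870)
theorem E69398 : n124068 = n100478 := ((D124068).symm.trans (sb E66197 (iv5 F154534)))
theorem F310442 : act 6 n57806 = n38620 := (sb E66197 (iv6 D83850))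
theorem F310443 : act 0 n161682 = n101827 := (sb E66198 (iv1 F271118))
theorem F310444 : act 1 n161682 = n99717 := (sb E66198 F271119)
theorem F310445 : act 5 n161682 = n83397 := (sb E66198 (iv5 F271682))
theorem F310446 : act 7 n161682 = n82753 := (sb E66198 (iv7 D172851))
theorem F310447 : act 3 n82986 = n41589 := (sb E66199 (iv3 D89049))
theorem E69399 : n170730 = n38197 := (((F127910).symm.trans (sb E66199 F268256))).symm
theorem E69400 : n173422 = n46065 := ((D173422).symm.trans (sb E66199 F268257))
theorem E69401 : n97103 = n89449 := (((D89449).symm.trans (sb E66200 (iv2 F149823)))).symm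
theorem F310448 : act 6 n41767 = n44717 := (sb E66200 (iv6 D95742))
theorem F310449 : act 5 n27868 = n28527 := (sb E66210 (iv5 D60061))
theorem E69407 : n70457 = n62710 := ((((iv1 F97824)).symm.trans (sb E66222 (iv1 D149884)))).symm
theorem F310450 : act 4 n39607 = n61577 := (sb E66225 F207817)
theorem F310451 : act 2 n116913 = n88115 := (sb E66232 F287254)
theorem F310452 : act 7 n116913 = n88120 := (sb E66232 F287255)
theorem F310453 : act 3 n73464 = n88115 := (sb E66237 F287257)
theorem F310454 : act 2 n147740 = n88120 := (sb E66239 F287267)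
theorem F310455 : act 7 n147740 = n88115 := (sb E66239 (iv7 D184806))
theorem F310456 : act 1 n13290 = n24394 := (sb E66243 (iv0 F54367))
theorem F310457 : act 3 n13290 = n14906 := (sb E66243 (iv3 D31707))
theorem F310458 : act 5 n13290 = n16573 := (sb E66243 F50011)
theorem F310459 : act 5 n29194 = n39538 := (sb E66245 (iv5 D85570))
theorem F310460 : act 0 n18726 = n24394 := (sb E66246 (iv1 F79136))
theorem F310461 : act 5 n18726 = n29717 := (sb E66246 F79133)
theorem E69419 : n124061 = n29716 := (((D29716).symm.trans (sb E66247 F301088))).symm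
theorem F310462 : act 6 n59948 = n80474 := (sb E66256 (iv6 D167692))
theorem E69422 : n70634 = n60782 := (((D60782).symm.trans (sb E66258 (iv1 F155243)))).symm
theorem E69423 : n119122 = n60783 := (((D60783).symm.trans (sb E66258 F187427))).symm
theorem F310463 : act 4 n28836 = n34672 := (sb E66258 (iv4 D75827))
theorem E69425 : n34676 = n29421 := ((((iv7 F47144)).symm.trans (sb E66258 F113774))).symm
theorem E69431 : n158190 = n61085 := ((((iv1 F208573)).symm.trans (sb E66260 (iv1 F249164)))).symm
theorem E69432 : n158189 = n61090 := ((((iv0 F97166)).symm.trans (sb E66260 F249159))).symm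
theorem E69433 : n61202 = n34591 := ((D61202).symm.trans (sb E66260 (iv2 D75640)))
theorem E69434 : n150107 = n61203 := (((D61203).symm.trans (sb E66260 (iv4 F236242)))).symm
theorem E69437 : n150715 = n7673 := ((((iv3 F11912)).symm.trans (sb E66262 (iv3 F237276)))).symm
theorem E69439 : n32906 = n7676 := (((D7676).symm.trans (sb E66262 (iv6 D71064)))).symm
theorem E69440 : n31490 = n7428 := ((((iv1 D15845)).symm.trans (sb E66263 (iv1 F53673)))).symm
theorem E69441 : n34121 = n26348 := (((F42026).symm.trans (sb E66263 D34121))).symm
theorem E69442 : n34122 = n17285 := (((F41739).symm.trans (sb E66263 D34122))).symm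
theorem F310464 : act 6 n15845 = n7675 := (sb E66263 (iv6 D16521))
theorem E69443 : n34123 = n26345 := (((F42015).symm.trans (sb E66263 D34123))).symm
theorem E69448 : n64986 = n27852 := ((((iv5 F301187)).symm.trans (sb E66266 (iv5 F207813)))).symm
theorem F310465 : act 3 n26832 = n50000 := (sb E66267 (iv3 F79085))
theorem E69456 : n24265 = n18710 := (((iv4 F38032)).symm.trans (sb E66269 F46251))
theorem F310466 : act 5 n11426 = n16830 := (sb E66269 F46250)
theorem E69457 : n60426 = n6428 := (((F18670).symm.trans (sb E66269 D60426))).symm
theorem F310467 : act 7 n11426 = n19012 := (sb E66269 (iv7 F46254))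
theorem F310468 : act 3 n32891 = n24281 := (sb E66270 F78707)
theorem E69460 : n36326 = n28343 := (((iv5 F57057)).symm.trans (sb E66270 F78708))
theorem E69461 : n54505 = n14505 := (((D14505).symm.trans (sb E66271 (iv6 F86095)))).symm
theorem E69462 : n14513 = n12570 := ((D14513).symm.trans (sb E66272 (iv6 D26354)))
theorem E69463 : n71264 = n5308 := (((D5308).symm.trans (sb E66273 (iv1 F185928)))).symm
theorem E69464 : n54532 = n5309 := (((D5309).symm.trans (sb E66273 (iv0 F185918)))).symm
theorem E69465 : n85525 = n5306 := ((((iv3 F7919)).symm.trans (sb E66273 F185916))).symm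
theorem E69467 : n68075 = n3165 := (((F5486).symm.trans (sb E66274 F115217))).symm
theorem F310469 : act 0 n32862 = n50008 := (sb E66275 (iv1 F79104))
theorem F310470 : act 1 n32862 = n24281 := (sb E66275 (iv0 D49806))
theorem F310471 : act 2 n32862 = n50006 := (sb E66275 (iv2 F200113))
theorem E69471 : n107843 = n70935 := ((((iv3 F107483)).symm.trans (sb E66275 D107843))).symm
theorem F310472 : act 4 n32862 = n34358 := (sb E66275 F166589)
theorem E69472 : n107845 = n32617 := (((F52035).symm.trans (sb E66275 D107845))).symm
theorem F310473 : act 7 n32862 = n50007 := (sb E66275 F200111)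
theorem E69473 : n149649 = n107848 := (((D107848).symm.trans (sb E66276 (iv3 F235248)))).symm
theorem E69474 : n107850 = n32616 := ((D107850).symm.trans (sb E66276 (iv5 D70280)))
theorem F310474 : act 6 n49807 = n70965 := (sb E66276 (iv6 F107508))
theorem F310475 : act 0 n34781 = n50002 := (sb E66278 (iv1 F79090))
theorem F310476 : act 1 n34781 = n50001 := (sb E66278 F79089)
theorem F310477 : act 2 n34781 = n24317 := (sb E66278 (iv2 D49870))
theorem E69475 : n107953 = n55507 := ((((iv4 F303355)).symm.trans (sb E66278 (iv4 F166820)))).symm
theorem E69476 : n60427 = n49987 := (((iv5 F94941)).symm.trans (sb E66278 (iv5 F79077)))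
theorem F310478 : act 7 n34781 = n50000 := (sb E66278 (iv7 F79086))
theorem E69477 : n179894 = n107981 := (((D107981).symm.trans (sb E66279 (iv3 F280166)))).symm
theorem E69478 : n179899 = n107982 := (((D107982).symm.trans (sb E66279 D179899))).symm
theorem E69479 : n62173 = n39759 := (((iv5 F212672)).symm.trans (sb E66279 (iv5 D85959)))
theorem E69480 : n107984 = n70707 := ((D107984).symm.trans (sb E66279 F155197))
theorem F310479 : act 6 n108269 = n118102 := (sb E66280 F236423)
theorem E69481 : n149013 = n135393 := ((((iv1 F217633)).symm.trans (sb E66281 (iv1 F236440)))).symm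
theorem F310480 : act 6 n108270 = n118109 := (sb E66281 F236439)
theorem E69482 : n107977 = n70717 := (((iv7 F212689)).symm.trans (sb E66281 (iv7 D150238)))
theorem E69483 : n62174 = n27851 := ((((iv1 D58543)).symm.trans (sb E66282 (iv1 F111587)))).symm
theorem E69484 : n125173 = n108079 := ((D125173).symm.trans (sb E66282 F167106))
theorem F310481 : act 5 n58543 = n50001 := (sb E66282 (iv5 F167107))
theorem E69486 : n62172 = n39760 := (((F155266).symm.trans (sb E66282 (iv7 F212673)))).symm
theorem F310482 : act 6 n54407 = n50001 := (sb E66283 (iv6 D108271))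
theorem F310483 : act 0 n32786 = n50000 := (sb E66284 (iv1 F79088))
theorem F310484 : act 1 n32786 = n24317 := (sb E66284 (iv0 D49868))
theorem F310485 : act 2 n32786 = n50002 := (sb E66284 (iv2 F212675))
theorem F310486 : act 7 n32786 = n50001 := (sb E66284 (iv7 F212676))
theorem F310487 : act 2 n108273 = n166900 := (sb E66285 F305453)
theorem F310488 : act 4 n108273 = n118500 := (sb E66285 F236142)
theorem E69488 : n156343 = n125169 := (((iv5 F245685)).symm.trans (sb E66285 (iv5 F236144)))
theorem F310489 : act 6 n108273 = n70610 := (sb E66285 (iv6 D150071))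
theorem F310490 : act 4 n89312 = n50002 := (sb E66286 (iv4 D108274))
theorem F310491 : act 5 n58542 = n50002 := (sb E66287 F212682)
theorem E69490 : n144463 = n125171 := (((D125171).symm.trans (sb E66287 (iv6 F227284)))).symm
theorem F310492 : act 6 n32752 = n50002 := (sb E66288 (iv6 D108276))
theorem E69491 : n179738 = n107952 := ((((iv1 F167409)).symm.trans (sb E66289 F301816))).symm
theorem E69492 : n107951 = n57108 := ((F167410).symm.trans (sb E66289 (iv0 F191609)))
theorem E69493 : n152030 = n55372 := (((iv3 F239045)).symm.trans (sb E66289 (iv3 D120320)))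
theorem F310493 : act 5 n108266 = n183010 := (sb E66289 F301818)
theorem F310494 : act 6 n108266 = n167836 := (sb E66289 F301819)
theorem E69494 : n58534 = n49988 := ((((iv1 F167156)).symm.trans (sb E66290 (iv1 F155466)))).symm
theorem E69495 : n54397 = n49993 := ((((iv0 F167152)).symm.trans (sb E66290 (iv0 F155462)))).symm
theorem E69496 : n86819 = n49946 := ((((iv4 F78983)).symm.trans (sb E66290 D86819))).symm
theorem E69497 : n86820 = n23827 := (((F38218).symm.trans (sb E66290 D86820))).symm
theorem F310495 : act 2 n80549 = n50004 := (sb E66291 F167411)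
theorem E69498 : n105718 = n70010 := ((((iv5 F155468)).symm.trans (sb E66291 F167413))).symm
theorem F310496 : act 6 n80549 = n50000 := (sb E66291 (iv6 D108267))
theorem E69499 : n85940 = n49989 := (((D49989).symm.trans (sb E66292 (iv3 F131890)))).symm
theorem E69500 : n85944 = n49990 := (((D49990).symm.trans (sb E66292 D85944))).symm
theorem E69501 : n49991 = n18799 := ((D49991).symm.trans (sb E66292 (iv5 D39755)))
theorem E69502 : n85945 = n49992 := (((D49992).symm.trans (sb E66292 D85945))).symm
theorem E69503 : n69929 = n49994 := (((D49994).symm.trans (sb E66293 (iv3 F106366)))).symm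
theorem E69504 : n69943 = n49995 := (((D49995).symm.trans (sb E66293 D69943))).symm
theorem E69505 : n49996 = n15372 := ((D49996).symm.trans (sb E66293 (iv5 D32475)))
theorem E69506 : n49997 = n15661 := ((D49997).symm.trans (sb E66293 F51563))
theorem E69507 : n150031 = n49945 := (((D49945).symm.trans (sb E66294 (iv0 F236041)))).symm
theorem E69508 : n149228 = n23826 := (((D23826).symm.trans (sb E66295 (iv0 F234620)))).symm
theorem E69509 : n70056 = n23828 := (((D23828).symm.trans (sb E66295 F234455))).symm
theorem F310497 : act 1 n70041 = n50004 := (sb E66297 (iv0 D108281))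
theorem F310498 : act 0 n70036 = n50004 := (sb E66298 (iv1 D108282))
theorem E69511 : n105728 = n69914 := ((D105728).symm.trans (sb E66299 (iv1 D149056)))
theorem E69512 : n105729 = n69918 := ((D105729).symm.trans (sb E66299 F234396))
theorem E69513 : n105730 = n70009 := ((D105730).symm.trans (sb E66299 F234397))
theorem F310499 : act 3 n69897 = n50008 := (sb E66300 F167423)
theorem F310500 : act 7 n69897 = n50004 := (sb E66300 (iv7 D108283))
theorem E69514 : n183011 = n107954 := (((D107954).symm.trans (sb E66301 F305536))).symm
theorem E69515 : n71130 = n7684 := (((D7684).symm.trans (sb E66302 F185911))).symm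
theorem F310501 : act 1 n16538 = n18752 := (sb E66303 F45007)
theorem E69516 : n54504 = n34160 := (((D34160).symm.trans (sb E66304 (iv1 F86090)))).symm
theorem E69517 : n54503 = n34161 := (((D34161).symm.trans (sb E66304 F86096))).symm
theorem E69518 : n68346 = n34162 := (((D34162).symm.trans (sb E66304 (iv5 F104532)))).symm
theorem E69519 : n34163 = n15861 := ((D34163).symm.trans (sb E66304 (iv7 D32936)))
theorem E69520 : n71094 = n34172 := ((((iv4 F53732)).symm.trans (sb E66305 (iv4 F107627)))).symm
theorem E69521 : n54321 = n34181 := (((D34181).symm.trans (sb E66305 (iv5 F85721)))).symm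
theorem E69522 : n34182 = n15852 := ((D34182).symm.trans (sb E66305 (iv6 D32921)))
theorem E69523 : n71103 = n7685 := (((D7685).symm.trans (sb E66306 (iv3 F107630)))).symm
theorem E69525 : n15854 = n7687 := (((D7687).symm.trans (sb E66306 (iv6 D32924)))).symm
theorem F310502 : act 0 n16546 = n18752 := (sb E66307 (iv1 F199705))
theorem E69526 : n31506 = n14897 := ((((iv1 F24540)).symm.trans (sb E66308 (iv1 F53757)))).symm
theorem E69527 : n31510 = n12354 := ((((iv0 F20524)).symm.trans (sb E66308 F49831))).symm
theorem F310503 : act 6 n7433 = n7686 := (sb E66308 (iv6 D16547))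
theorem E69530 : n71303 = n11491 := (((D11491).symm.trans (sb E66309 F186100))).symm
theorem E69531 : n71260 = n7055 := ((((iv3 F11301)).symm.trans (sb E66310 (iv3 F107759)))).symm
theorem E69533 : n15880 = n7067 := ((((iv6 F11316)).symm.trans (sb E66310 (iv6 D32981)))).symm
theorem E69535 : n72162 = n5101 := (((D5101).symm.trans (sb E66313 F235042))).symm
theorem E69538 : n156617 = n12302 := (((D12302).symm.trans (sb E66315 (tr (iv3 F264298) E69016)))).symm
theorem E69540 : n117216 = n12303 := (((D12303).symm.trans (sb E66315 (iv5 F183386)))).symm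
theorem E69542 : n71013 = n12312 := (((D12312).symm.trans (sb E66316 (iv3 F107560)))).symm
theorem E69544 : n32542 = n12313 := (((D12313).symm.trans (sb E66316 F52069))).symm
theorem E69545 : n15837 = n12314 := (((D12314).symm.trans (sb E66316 (iv6 D32889)))).symm
theorem E69549 : n61830 = n14773 := ((((iv1 F94131)).symm.trans (sb E66319 F185932))).symm
theorem E69550 : n61835 = n14768 := (((F94128).symm.trans (sb E66319 F208080))).symm
theorem F310504 : act 2 n108288 = n153656 := (sb E66320 (iv2 F241534))
theorem F310505 : act 4 n108288 = n153420 := (sb E66320 (iv4 F240980))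
theorem F310506 : act 5 n108288 = n117974 := (sb E66320 (iv5 F205952))
theorem F310507 : act 6 n108288 = n60126 := (sb E66320 (iv6 D127975))
theorem E69551 : n76740 = n68783 := ((F131640).symm.trans (sb E66321 (iv4 F167439)))
theorem F310508 : act 5 n54347 = n50006 := (sb E66321 (iv5 D108290))
theorem E69552 : n146258 = n117975 := (((D117975).symm.trans (sb E66321 F229570))).symm
theorem F310509 : act 1 n108293 = n149769 := (sb E66322 F264312)
theorem F310510 : act 5 n108293 = n117972 := (sb E66322 F236995)
theorem E69553 : n76739 = n68733 := (((iv4 F131646)).symm.trans (sb E66324 F167434))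
theorem F310511 : act 5 n54346 = n50007 := (sb E66324 (iv5 D108295))
theorem E69554 : n117973 = n66410 := ((D117973).symm.trans (sb E66324 (iv6 F167433)))
theorem F310512 : act 0 n108296 = n70871 := (sb E66325 (iv1 F205341))
theorem F310513 : act 1 n108296 = n59972 := (sb E66325 (iv0 D127736))
theorem F310514 : act 2 n108296 = n70965 := (sb E66325 (iv2 F205340))
theorem F310516 : act 7 n108296 = n70858 := (sb E66325 F205342)
theorem E69555 : n119912 = n69658 := (((D69658).symm.trans (sb E66326 (iv3 F307091)))).symm
theorem F310517 : act 5 n32333 = n54319 := (sb E66326 F104801)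
theorem E69557 : n69660 = n31911 := ((D69660).symm.trans (sb E66326 (iv6 D68601)))
theorem F310518 : act 2 n55116 = n74954 := (sb E66329 (iv2 F209837))
theorem E69559 : n139187 = n119775 := ((((iv3 F188984)).symm.trans (sb E66329 (iv3 F222369)))).symm
theorem F310519 : act 6 n55116 = n30648 := (sb E66329 (iv6 D65335))
theorem E69561 : n74960 = n35965 := (((D35965).symm.trans (sb E66330 F167577))).symm
theorem F310520 : act 0 n34347 = n32730 := (sb E66332 (iv1 F85941))
theorem F310521 : act 2 n34347 = n32731 := (sb E66332 F85936)
theorem F310522 : act 6 n34347 = n32740 := (sb E66332 F85939)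
theorem F310523 : act 7 n34347 = n26321 := (sb E66332 (iv7 D54424))
theorem F310524 : act 4 n54426 = n50050 := (sb E66334 F167568)
theorem E69562 : n74609 = n12577 := ((((iv6 F26802)).symm.trans (sb E66335 F246930))).symm
theorem E69567 : n16556 = n12578 := (((D12578).symm.trans (sb E66337 (iv5 D34208)))).symm
theorem E69569 : n73534 = n32230 := (((iv1 F110202)).symm.trans (sb E66339 (iv1 F85957)))
theorem E69570 : n73531 = n32322 := (((iv0 F110196)).symm.trans (sb E66339 F85698))
theorem F310525 : act 2 n36372 = n32325 := (sb E66339 F85694)
theorem E69571 : n73590 = n68766 := (((iv5 F110256)).symm.trans (sb E66339 F104962))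
theorem F310526 : act 6 n36372 = n32312 := (sb E66339 F85695)
theorem E69572 : n32526 = n26251 := ((F57118).symm.trans (sb E66339 (iv7 D54303)))
theorem F310527 : act 0 n68946 = n32280 := (sb E66341 (iv1 D69528))
theorem F310528 : act 4 n68946 = n32310 := (sb E66341 F105827)
theorem E69578 : n116792 = n32059 := ((((iv6 D68946)).symm.trans (sb E66341 F182338))).symm
theorem E69579 : n68604 = n66868 := ((((iv1 F105820)).symm.trans (sb E68147 (iv1 F110682)))).symm
theorem E69580 : n68599 = n66863 := ((((iv0 F103218)).symm.trans (sb E68147 (iv0 F110680)))).symm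
theorem E69581 : n143775 = n32059 := ((D143775).symm.trans (sb E68147 F105109))
theorem E69582 : n143776 = n32058 := ((D143776).symm.trans (sb E68147 (iv7 D68945)))
theorem E69583 : n172277 = n63672 := ((((iv4 F209865)).symm.trans (sb E66347 (iv4 F270526)))).symm
theorem F310529 : act 2 n153274 = n81578 := (sb E66356 F250401)
theorem F310530 : act 4 n153274 = n119447 := (sb E66356 (iv4 F250400))
theorem F310531 : act 7 n153274 = n81579 := (sb E66356 F250399)
theorem F310532 : act 2 n153275 = n81579 := (sb E66357 (iv2 F250397))
theorem F310533 : act 3 n153275 = n150377 := (sb E66357 (iv3 F303970))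
theorem F310534 : act 4 n153275 = n119448 := (sb E66357 F250395)
theorem F310535 : act 7 n153275 = n81578 := (sb E66357 (iv7 F250398))
theorem E69584 : n133052 = n119374 := (((D119374).symm.trans (sb E66358 F213712))).symm
theorem F310536 : act 3 n54937 = n61700 := (sb E66358 (iv3 D131462))
theorem F310537 : act 4 n54937 = n72405 := (sb E66358 F210727)
theorem E69585 : n149034 = n119377 := (((D119377).symm.trans (sb E66358 (iv7 F234347)))).symm
theorem E69586 : n114735 = n114721 := (((iv6 F309818)).symm.trans (sb E66359 F267582))
theorem E69587 : n114686 = n67934 := (((iv1 F290306)).symm.trans (sb E66361 (iv1 D144908)))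
theorem F310538 : act 3 n52947 = n68744 := (sb E66361 F233198)
theorem E69588 : n145943 = n42180 := (((F83667).symm.trans (sb E66361 F233199))).symm
theorem E69589 : n114722 = n73325 := ((D114722).symm.trans (sb E66361 F233200))
theorem F310539 : act 0 n90259 = n68996 := (sb E66362 F241225)
theorem F310540 : act 4 n90259 = n68744 := (sb E66362 (iv4 D146682))
theorem F310541 : act 7 n90259 = n73343 := (sb E66362 F230010)
theorem E69590 : n145059 = n54804 := (((D54804).symm.trans (sb E66368 F243065))).symm
theorem E69591 : n157725 = n69327 := (((iv0 F248579)).symm.trans (sb E66369 F252070))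
theorem F310542 : act 3 n119080 = n69075 := (sb E66369 F230973)
theorem F310543 : act 7 n119080 = n69066 := (sb E66369 (iv7 D147315))
theorem E69592 : n120565 = n95911 := (((D95911).symm.trans (sb E66370 D120565))).symm
theorem E69593 : n95912 = n81443 := ((D95912).symm.trans (sb E66370 F306149))
theorem E69594 : n120554 = n95901 := ((((iv2 F147561)).symm.trans (sb E66370 (iv2 F192096)))).symm
theorem F310544 : act 3 n44773 = n69267 := (sb E66370 (iv3 F192073))
theorem E69595 : n120566 = n21322 := ((((iv4 D44773)).symm.trans (sb E66370 D120566))).symm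
theorem E69596 : n95914 = n26801 := ((D95914).symm.trans (sb E66370 (iv5 D55522)))
theorem E69597 : n120567 = n95915 := (((D95915).symm.trans (sb E66370 D120567))).symm
theorem E69598 : n95916 = n69251 := ((D95916).symm.trans (sb E66370 F192072))
theorem F310545 : act 5 n157554 = n81563 := (sb E66371 (iv5 D170061))
theorem E69599 : n157464 = n81789 := ((D157464).symm.trans (sb E66372 (iv4 F301928)))
theorem F310546 : act 6 n74918 = n81563 := (sb E66372 (iv6 D170062))
theorem E69600 : n175228 = n47259 := ((D175228).symm.trans (sb E66373 F156508))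
theorem F310547 : act 6 n83686 = n47256 := (sb E66373 (iv6 D101592))
theorem F310548 : act 3 n83312 = n38578 := (sb E66374 (iv3 D83687))
theorem E69605 : n175236 = n174294 := (((D174294).symm.trans (sb E66374 D175236))).symm
theorem E69606 : n175238 = n174295 := (((D174295).symm.trans (sb E66374 D175238))).symm
theorem E69607 : n175229 = n143741 := (((iv2 F274263)).symm.trans (sb E66375 F303917))
theorem E69608 : n175241 = n57451 := ((D175241).symm.trans (sb E66375 F197681))
theorem E69609 : n175242 = n60415 := ((D175242).symm.trans (sb E66375 F303918))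
theorem F310549 : act 6 n83688 = n57449 := (sb E66375 (iv6 D123352))
theorem E69610 : n175244 = n131342 := ((D175244).symm.trans (sb E66375 F303919))
theorem E69611 : n170120 = n61500 := ((D170120).symm.trans (sb E66376 (iv1 D131097)))
theorem E69612 : n170121 = n133599 := ((D170121).symm.trans (sb E66376 F214935))
theorem E69613 : n170122 = n133598 := ((D170122).symm.trans (sb E66376 (iv2 F214930)))
theorem F310550 : act 4 n81588 = n133156 := (sb E66376 (iv4 F213910))
theorem E69614 : n170124 = n120030 := ((D170124).symm.trans (sb E66376 (iv6 F209952)))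
theorem F310551 : act 7 n81588 = n71774 := (sb E66376 F209951)
theorem E69615 : n162879 = n133107 := ((F310266).symm.trans (sb E66381 (iv4 F213757)))
theorem E69616 : n173652 = n130075 := (((iv1 F272139)).symm.trans (sb E66382 F209049))
theorem E69617 : n173651 = n130072 := ((F272135).symm.trans (sb E66382 F209048))
theorem F310552 : act 5 n83980 = n61218 := (sb E66382 (iv5 D130487))
theorem E69618 : n133148 = n34604 := ((D133148).symm.trans (sb E66384 F112794))
theorem E69619 : n133149 = n34452 := ((D133149).symm.trans (sb E66384 (iv0 D75250)))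
theorem E69620 : n133150 = n34605 := ((D133150).symm.trans (sb E66384 F114016))
theorem E69621 : n157990 = n133152 := (((D133152).symm.trans (sb E66384 D157990))).symm
theorem F310553 : act 6 n62469 = n36665 := (sb E66384 (iv6 F298144))
theorem E69622 : n61210 = n34606 := ((F209001).symm.trans (sb E66384 F114017))
theorem E69623 : n175855 = n173653 := (E67252).trans E69021
theorem E69636 : n101665 = n101656 := (((D101656).symm.trans (sb E66388 D101665))).symm
theorem F310554 : act 6 n47276 = n22731 := (sb E66388 (iv6 D47279))
theorem F310555 : act 1 n46068 = n57375 := (sb E66389 (iv0 D123268))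
theorem F310556 : act 3 n100101 = n57377 := (sb E66390 F197555)
theorem F310557 : act 5 n100101 = n57375 := (sb E66390 (iv5 D123271))
theorem F310558 : act 7 n100101 = n162025 := (sb E66390 (iv7 F256041))
theorem F310559 : act 2 n32790 = n35693 := (sb E66391 F119471)
theorem F310560 : act 5 n32790 = n35687 := (sb E66391 (iv5 D78277))
theorem F310561 : act 0 n28651 = n57328 := (sb E66393 (iv1 F297723))
theorem F310562 : act 2 n28651 = n37337 := (sb E66393 F71260)
theorem E69639 : n96747 = n60304 := ((((iv3 F94848)).symm.trans (sb E66393 (iv3 F149205)))).symm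
theorem F310563 : act 0 n123185 = n83149 := (sb E66394 F304705)
theorem F310564 : act 1 n123185 = n60282 := (sb E66394 F206369)
theorem F310565 : act 2 n123185 = n70520 := (sb E66394 F206288)
theorem F310566 : act 3 n123185 = n83228 := (sb E66394 F304742)
theorem F310567 : act 6 n123185 = n60244 := (sb E66394 (iv6 D128159))
theorem F310568 : act 1 n78291 = n60320 := (sb E66395 F206111)
theorem F310569 : act 2 n78291 = n60318 := (sb E66395 F206114)
theorem E69641 : n162861 = n80553 := ((D162861).symm.trans (sb E66395 (iv6 F206113)))
theorem E69642 : n156525 = n40130 := ((((iv3 F61023)).symm.trans (sb E66398 (iv3 F246134)))).symm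
theorem E69643 : n157452 = n138568 := (((D138568).symm.trans (sb E66401 (iv5 F248062)))).symm
theorem E69644 : n138569 = n71167 := ((D138569).symm.trans (sb E66401 (iv6 D150971)))
theorem E69647 : n138541 = n81477 := ((((iv2 F126189)).symm.trans (sb E66402 (iv2 F221720)))).symm
theorem F310570 : act 3 n39798 = n30563 := (sb E66402 F100861)
theorem E69648 : n138481 = n86024 := (((D86024).symm.trans (sb E66402 (iv4 F221674)))).symm
theorem F310571 : act 7 n39798 = n30559 := (sb E66402 (iv7 D65069))
theorem F310572 : act 4 n138543 = n83525 := (sb E66403 (iv4 D174855))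
theorem F310573 : act 4 n46645 = n65062 := (sb E66404 (iv4 D138544))
theorem F310574 : act 4 n46646 = n65063 := (sb E66405 (iv4 D138549))
theorem E69650 : n138507 = n85303 := (((iv1 F221693)).symm.trans (sb E66407 (iv1 D178899)))
theorem E69651 : n138532 = n116948 := ((D138532).symm.trans (sb E66408 F282890))
theorem E69652 : n138533 = n127554 := ((D138533).symm.trans (sb E66408 (iv0 F282894)))
theorem E69653 : n146030 = n138534 := (((D138534).symm.trans (sb E66408 F282889))).symm
theorem F310575 : act 5 n34115 = n57683 := (sb E66409 (iv5 D123752))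
theorem F310576 : act 1 n58362 = n30550 := (sb E66410 (iv0 D65040))
theorem E69654 : n124748 = n74353 := (((iv2 F199662)).symm.trans (sb E66410 (iv2 F212200)))
theorem E69655 : n138465 = n124827 := (((D124827).symm.trans (sb E66410 D138465))).symm
theorem E69657 : n138467 = n124828 := (((D124828).symm.trans (sb E66410 D138467))).symm
theorem E69658 : n138468 = n124829 := (((D124829).symm.trans (sb E66410 D138468))).symm
theorem E69659 : n124739 = n74352 := (((iv7 F199617)).symm.trans (sb E66410 F212201))
theorem F310577 : act 0 n58345 = n30550 := (sb E66411 (iv1 D65041))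
theorem E69660 : n138469 = n124794 := (((D124794).symm.trans (sb E66411 D138469))).symm
theorem E69661 : n138470 = n124795 := (((D124795).symm.trans (sb E66411 D138470))).symm
theorem E69662 : n138471 = n124796 := (((D124796).symm.trans (sb E66411 D138471))).symm
theorem E69663 : n74356 = n71061 := ((D74356).symm.trans (sb E66412 (iv6 D150711)))
theorem E69664 : n138560 = n86023 := ((D138560).symm.trans (sb E66413 (iv2 F201512)))
theorem E69665 : n159072 = n138563 := (((D138563).symm.trans (sb E66413 (iv5 F250424)))).symm
theorem E69666 : n138565 = n86022 := ((D138565).symm.trans (sb E66413 F201514))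
theorem E69667 : n150640 = n138566 := (((D138566).symm.trans (sb E66414 (iv3 F302792)))).symm
theorem E69668 : n170514 = n138567 := (((D138567).symm.trans (sb E66414 D170514))).symm
theorem E69669 : n138568 = n37356 := ((D138568).symm.trans (sb E66414 (iv5 D81737)))
theorem F310578 : act 2 n40134 = n30559 := (sb E66415 F100857)
theorem E69670 : n138473 = n86578 := (((D86578).symm.trans (sb E66415 (iv4 F221670)))).symm
theorem F310579 : act 6 n40134 = n30557 := (sb E66415 (iv6 D65061))
theorem E69671 : n181199 = n138478 := (((D138478).symm.trans (sb E66416 F299962))).symm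
theorem E69672 : n170635 = n138479 := (((D138479).symm.trans (sb E66416 (iv0 F268081)))).symm
theorem F310580 : act 6 n32905 = n16519 := (sb E66417 (iv6 D34118))
theorem F310581 : act 1 n54592 = n80410 := (sb E66418 (iv0 D167545))
theorem F310582 : act 0 n54594 = n80410 := (sb E66419 (iv1 D167546))
theorem E69675 : n120144 = n80413 := ((D120144).symm.trans (sb E66420 F263785))
theorem E69676 : n120145 = n84091 := ((D120145).symm.trans (sb E66420 F298340))
theorem F310583 : act 7 n55287 = n80410 := (sb E66420 (iv7 D167548))
theorem E69677 : n144837 = n37324 := (((D37324).symm.trans (sb E66421 F227757))).symm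
theorem E69678 : n59905 = n37340 := (((D37340).symm.trans (sb E66422 F205045))).symm
theorem F310584 : act 3 n36509 = n33493 := (sb E66425 (iv3 D72558))
theorem F310585 : act 5 n40493 = n33493 := (sb E66426 (iv5 D72559))
theorem F310586 : act 4 n36773 = n33494 := (sb E66427 F109061)
theorem F310587 : act 6 n36773 = n33493 := (sb E66427 (iv6 D72560))
theorem E69687 : n153481 = n80560 := ((((iv7 F123853)).symm.trans (sb E66427 D153481))).symm
theorem E69689 : n130416 = n21944 := (((F59759).symm.trans (sb E66428 D130416))).symm
theorem F310588 : act 3 n34597 = n29110 := (sb E66428 F95673)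
theorem F310589 : act 5 n36664 = n29110 := (sb E66429 (iv5 D61491))
theorem F310590 : act 4 n36816 = n29111 := (sb E66430 F96009)
theorem F310591 : act 6 n36816 = n29110 := (sb E66430 (iv6 D61492))
theorem E69695 : n71677 = n26792 := ((D71677).symm.trans (sb E66433 (iv3 D55488)))
theorem F310592 : act 3 n107891 = n80575 := (sb E66434 (iv3 D167888))
theorem E69699 : n157451 = n34725 := (((D34725).symm.trans (sb E66436 D157451))).symm
theorem E69700 : n133304 = n37257 := (((F297649).symm.trans (sb E66437 (iv1 F241224)))).symm
theorem E69701 : n133309 = n37387 := (((F297650).symm.trans (sb E66437 F241223))).symm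
theorem F310593 : act 5 n93438 = n73088 := (sb E66438 (iv5 D154275))
theorem F310594 : act 1 n153299 = n72663 := (sb E66439 (iv0 D153662))
theorem E69702 : n170456 = n170259 := ((((iv4 F267772)).symm.trans (sb E66439 F267902))).symm
theorem F310595 : act 0 n46011 = n72663 := (sb E66440 (iv1 D153663))
theorem F310596 : act 2 n154436 = n88123 := (sb E66441 F287287)
theorem F310597 : act 7 n154436 = n88122 := (sb E66441 (iv7 D184830))
theorem F310598 : act 3 n70964 = n88123 := (sb E66442 (iv3 D184831))
theorem F310599 : act 4 n73287 = n88123 := (sb E66443 (iv4 D184832))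
theorem F310600 : act 6 n179994 = n88123 := (sb E66444 (iv6 D184833))
theorem F310601 : act 2 n128412 = n88122 := (sb E66445 (iv2 D184825))
theorem F310602 : act 7 n128412 = n88123 := (sb E66445 (iv7 F287285))
theorem F310603 : act 1 n73374 = n37199 := (sb E66446 (iv0 D81459))
theorem F310604 : act 2 n73374 = n96668 := (sb E66446 (iv2 F149157))
theorem E69704 : n166065 = n154720 := (((D154720).symm.trans (sb E66446 (iv4 F301144)))).symm
theorem F310605 : act 5 n73374 = n121941 := (sb E66446 F299424)
theorem F310606 : act 7 n73374 = n96669 := (sb E66446 F149156)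
theorem F310607 : act 0 n73373 = n37199 := (sb E66447 (iv1 D81460))
theorem F310608 : act 2 n73373 = n96669 := (sb E66447 F149152)
theorem E69707 : n166066 = n154719 := (((D154719).symm.trans (sb E66447 (iv4 F301147)))).symm
theorem F310609 : act 7 n73373 = n96668 := (sb E66447 (iv7 F149155))
theorem F310610 : act 2 n73383 = n96666 := (sb E66448 (iv2 F148969))
theorem E69711 : n154727 = n119200 := (((iv3 F243406)).symm.trans (sb E66448 (iv3 F187574)))
theorem E69712 : n169850 = n154737 := ((((iv4 F243409)).symm.trans (sb E66448 D169850))).symm
theorem F310611 : act 5 n73383 = n37196 := (sb E66448 (iv5 D81447))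
theorem F310612 : act 6 n73383 = n37199 := (sb E66448 F125281)
theorem F310613 : act 5 n14048 = n27865 := (sb E66455 (iv5 D58568))
theorem F310614 : act 5 n21572 = n33496 := (sb E66457 (iv5 D72567))
theorem F310615 : act 3 n21573 = n33499 := (sb E66458 F109077)
theorem E69718 : n153487 = n76015 := (((D76015).symm.trans (sb E66459 (iv0 F241209)))).symm
theorem F310616 : act 4 n34734 = n50036 := (sb E66459 F109070)
theorem F310617 : act 3 n26756 = n33496 := (sb E66460 (iv3 D72566))
theorem E69724 : n107929 = n55377 := (((D55377).symm.trans (sb E66460 (iv4 F166791)))).symm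
theorem F310618 : act 6 n21563 = n33496 := (sb E66461 (iv6 D72568))
theorem F310619 : act 5 n13853 = n17899 := (sb E66462 (iv5 D37234))
theorem F310620 : act 6 n72562 = n76023 := (sb E66466 F250494)
theorem F310621 : act 3 n71773 = n80478 := (sb E66476 F263978)
theorem F310622 : act 4 n36667 = n62469 := (sb E66477 (iv4 D133151))
theorem F310624 : act 5 n96729 = n73373 := (sb E66479 F215535)
theorem E69729 : n167685 = n153790 := (((D153790).symm.trans (sb E66480 (iv1 F300146)))).symm
theorem E69730 : n153791 = n38940 := ((D153791).symm.trans (sb E66480 (iv0 D84459)))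
theorem E69731 : n176985 = n151156 := ((((iv2 F237834)).symm.trans (sb E66480 F276350))).symm
theorem E69733 : n177278 = n153792 := (((D153792).symm.trans (sb E66480 D177278))).symm
theorem E69735 : n174467 = n149036 := ((F273344).symm.trans (sb E66481 (iv2 F234355)))
theorem F310625 : act 4 n121991 = n131073 := (sb E66481 F210726)
theorem F310626 : act 4 n21209 = n16169 := (sb E66498 (iv4 D33484))
theorem E69740 : n72554 = n36770 := ((((iv6 F297818)).symm.trans (sb E66498 D72554))).symm
theorem F310627 : act 4 n18983 = n29147 := (sb E66499 (iv4 D61555))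
theorem E69743 : n96760 = n29718 := (((D29718).symm.trans (sb E66501 F267636))).symm
theorem F310628 : act 4 n18979 = n13874 := (sb E66506 (iv4 D29150))
theorem F310629 : act 4 n36769 = n62716 := (sb E66507 F210220)
theorem E69752 : n170476 = n160135 := ((((iv4 F252740)).symm.trans (sb E66510 F300263))).symm
theorem F310630 : act 5 n45194 = n29749 := (sb E66512 (iv5 D62862))
theorem F310631 : act 5 n39564 = n33401 := (sb E66516 (iv5 F307630))
theorem F310632 : act 0 n133305 = n86714 := (sb E66518 F299834)
theorem F310633 : act 4 n133305 = n124559 := (sb E66518 (iv4 F267550))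
theorem F310634 : act 1 n133310 = n86714 := (sb E66519 F299833)
theorem F310635 : act 4 n133310 = n124558 := (sb E66519 (iv4 F268027))
theorem F310636 : act 5 n147336 = n86368 := (sb E66520 F297766)
theorem F310637 : act 7 n147336 = n86714 := (sb E66520 (iv7 F299097))
theorem F310638 : act 1 n146677 = n86673 := (sb E66524 (iv0 D181594))
theorem F310639 : act 1 n62564 = n37377 := (sb E66525 (iv0 F299184))
theorem E69757 : n133301 = n36772 := (((iv4 F214277)).symm.trans (sb E66525 (iv4 D80584)))
theorem F310640 : act 6 n62564 = n37303 := (sb E66525 F298502)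
theorem F310641 : act 0 n146670 = n86673 := (sb E66526 (iv1 D181595))
theorem E69761 : n134589 = n18891 := ((((iv4 F30144)).symm.trans (sb E66529 (iv4 F216571)))).symm
theorem E69762 : n134584 = n38233 := ((((iv0 F296992)).symm.trans (sb E66530 (iv0 F216563)))).symm
theorem F310642 : act 3 n38249 = n61012 := (sb E66530 (iv3 D129889))
theorem E69763 : n75721 = n62071 := (((iv5 F298116)).symm.trans (sb E66530 (iv5 F209585)))
theorem E69764 : n129512 = n38757 := ((((iv7 F298118)).symm.trans (sb E66530 (iv7 F209662)))).symm
theorem F310643 : act 4 n18978 = n14089 := (sb E66533 (iv4 D29659))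
theorem E69767 : n117703 = n96664 := (((D96664).symm.trans (sb E66537 (iv1 F243072)))).symm
theorem E69768 : n146717 = n96665 := (((D96665).symm.trans (sb E66537 (iv0 F243020)))).symm
theorem F310644 : act 3 n45141 = n32161 := (sb E66537 F105412)
theorem E69769 : n147422 = n21676 := (((F71136).symm.trans (sb E66537 (iv4 F231188)))).symm
theorem E69770 : n96667 = n32152 := ((D96667).symm.trans (sb E66537 (iv7 D69113)))
theorem F310645 : act 0 n81438 = n74876 := (sb E66539 (iv1 D157422))
theorem E69771 : n96635 = n33119 := (((F54461).symm.trans (sb E66540 (iv1 F148885)))).symm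
theorem E69772 : n96634 = n61660 := (((F96241).symm.trans (sb E66540 F148884))).symm
theorem F310646 : act 2 n34313 = n39510 := (sb E66540 (iv2 D85563))
theorem E69773 : n119225 = n61662 := ((((iv4 F96246)).symm.trans (sb E66540 (iv4 F187601)))).symm
theorem F310647 : act 1 n29223 = n39510 := (sb E66541 (iv0 D85561))
theorem F310648 : act 0 n29239 = n39510 := (sb E66542 (iv1 D85562))
theorem E69780 : n119223 = n61647 := (((iv1 F187597)).symm.trans (sb E66543 F209766))
theorem E69781 : n119222 = n61666 := ((F187602).symm.trans (sb E66543 F209767))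
theorem E69782 : n161703 = n131469 := (((iv5 F255701)).symm.trans (sb E66543 (iv5 F210734)))
theorem F310649 : act 5 n29104 = n39510 := (sb E66544 (iv5 D85564))
theorem E69788 : n96636 = n29575 := ((((iv7 F49983)).symm.trans (sb E66544 (iv7 F148888)))).symm
theorem F310650 : act 2 n45118 = n61657 := (sb E66545 F96232)
theorem E69794 : n96735 = n34311 := ((((iv5 F54450)).symm.trans (sb E66549 (iv5 F149178)))).symm
theorem F310651 : act 5 n14049 = n21545 := (sb E66550 (iv5 D45122))
theorem F310652 : act 0 n133311 = n81590 := (sb E66551 F250439)
theorem F310653 : act 1 n133311 = n80485 := (sb E66551 F299810)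
theorem F310654 : act 2 n133311 = n76023 := (sb E66551 F250436)
theorem F310655 : act 4 n133311 = n75982 := (sb E66551 (iv4 D159076))
theorem F310656 : act 5 n133311 = n86530 := (sb E66551 (iv5 F299972))
theorem F310657 : act 7 n133311 = n76018 := (sb E66551 F250438)
theorem F310658 : act 3 n131608 = n76023 := (sb E66552 (iv3 D159117))
theorem F310659 : act 2 n181992 = n87567 := (sb E66553 F285208)
theorem F310660 : act 7 n181992 = n87566 := (sb E66553 (iv7 D183455))
theorem E69797 : n98893 = n98886 := (((F197501).symm.trans (sb E66556 (iv2 F281962)))).symm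
theorem F310661 : act 5 n123209 = n100432 := (sb E66556 F277345)
theorem F310662 : act 6 n123209 = n84666 := (sb E66556 (iv6 D177820))
theorem E69800 : n179020 = n138309 := (((D138309).symm.trans (sb E66558 D179020))).symm
theorem E69801 : n138386 = n48974 := ((D138386).symm.trans (sb E66559 (iv1 D105934)))
theorem E69802 : n138387 = n70996 := ((D138387).symm.trans (sb E66559 (iv0 F191247)))
theorem E69803 : n138388 = n70482 := ((D138388).symm.trans (sb E66559 F189953))
theorem E69804 : n138389 = n71050 := ((D138389).symm.trans (sb E66559 F189954))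
theorem F310663 : act 0 n74354 = n58345 := (sb E66560 (iv1 D124793))
theorem F310664 : act 1 n74354 = n58362 := (sb E66560 F200461)
theorem E69805 : n156321 = n128010 := ((D156321).symm.trans (sb E66560 F237274))
theorem F310665 : act 3 n60152 = n65002 := (sb E66561 F111605)
theorem F310666 : act 6 n60152 = n34116 := (sb E66561 (iv6 D74380))
theorem F310667 : act 5 n34141 = n34989 := (sb E66564 (iv5 D76566))
theorem F310668 : act 5 n83534 = n77611 := (sb E66570 (iv5 D161585))
theorem F310669 : act 6 n101649 = n77611 := (sb E66571 (iv6 D161586))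
theorem F310670 : act 1 n100045 = n172368 := (sb E66572 (iv0 F270739))
theorem E69811 : n82607 = n75319 := (((F302450).symm.trans (sb E66572 (iv4 D172556)))).symm
theorem E69812 : n150483 = n131596 := ((((iv4 F309311)).symm.trans (sb E66573 (iv4 F305384)))).symm
theorem E69815 : n177972 = n46055 := ((D177972).symm.trans (sb E66574 (iv1 D98478)))
theorem E69816 : n177973 = n175565 := ((D177973).symm.trans (sb E66574 (iv0 F274898)))
theorem E69817 : n177975 = n175533 := ((D177975).symm.trans (sb E66574 F274899))
theorem F310671 : act 5 n84719 = n98357 := (sb E66574 (iv5 F151877))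
theorem F310672 : act 3 n80372 = n38624 := (sb E66576 (iv3 D83863))
theorem E69822 : n175658 = n129213 := ((((iv6 F308613)).symm.trans (sb E66576 D175658))).symm
theorem E69823 : n173581 = n167488 := (((D167488).symm.trans (sb E66576 (iv7 F273748)))).symm
theorem E69824 : n172426 = n29505 := (((F212099).symm.trans (sb E66578 F274200))).symm
theorem E69825 : n129198 = n128093 := (((iv2 F207422)).symm.trans (sb E66578 F274198))
theorem E69826 : n129202 = n83665 := ((D129202).symm.trans (sb E66578 F274199))
theorem F310673 : act 6 n60736 = n83664 := (sb E66578 (iv6 D175172))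
theorem E69828 : n83908 = n61100 := (((D61100).symm.trans (sb E66579 F303382))).symm
theorem E69829 : n61093 = n57751 := (((iv2 F95607)).symm.trans (sb E66579 F198383))
theorem E69833 : n61056 = n18393 := ((((iv1 F296724)).symm.trans (sb E66581 (iv1 F212972)))).symm
theorem F310674 : act 1 n37809 = n29494 := (sb E66581 (iv0 F212973))
theorem E69834 : n61063 = n38751 := ((((iv2 F296663)).symm.trans (sb E66581 F214746))).symm
theorem E69835 : n130774 = n79372 := ((((iv3 F121968)).symm.trans (sb E66581 (iv3 F209343)))).symm
theorem E69837 : n75649 = n29043 := (((iv5 F296985)).symm.trans (sb E66581 (iv5 D61356)))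
theorem E69839 : n61062 = n38754 := ((((iv7 F296986)).symm.trans (sb E66581 F214747))).symm
theorem F310675 : act 0 n38467 = n29494 := (sb E66582 F212974)
theorem E69840 : n130797 = n83451 := ((((iv3 F128554)).symm.trans (sb E66582 (iv3 F209359)))).symm
theorem E69842 : n75648 = n29044 := (((iv5 F113494)).symm.trans (sb E66582 (iv5 D61361)))
theorem F310676 : act 2 n38658 = n29494 := (sb E66583 F97220)
theorem E69844 : n34600 = n29492 := ((F61168).symm.trans (sb E66583 (iv5 D62348)))
theorem F310677 : act 4 n18893 = n29494 := (sb E66584 (iv4 D62356))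
theorem E69847 : n34603 = n29490 := (((D29490).symm.trans (sb E66585 (iv1 F112961)))).symm
theorem E69848 : n34490 = n29491 := (((D29491).symm.trans (sb E66585 (iv0 D75340)))).symm
theorem E69849 : n158198 = n29493 := (((D29493).symm.trans (sb E66585 D158198))).symm
theorem E69850 : n158199 = n29495 := (((D29495).symm.trans (sb E66585 D158199))).symm
theorem E69851 : n34601 = n13784 := (((F23382).symm.trans (sb E66585 F112960))).symm
theorem F310678 : act 3 n38673 = n29496 := (sb E66586 F97238)
theorem F310679 : act 6 n38673 = n29494 := (sb E66586 (iv6 D62357))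
theorem F310680 : act 4 n28938 = n38666 := (sb E66587 (iv4 F59484))
theorem F310681 : act 6 n28938 = n18258 := (sb E66587 (iv6 D38214))
theorem E69862 : n83952 = n61107 := (((D61107).symm.trans (sb E66595 (iv1 F275273)))).symm
theorem E69863 : n83951 = n61108 := (((D61108).symm.trans (sb E66595 F275274))).symm
theorem E69864 : n132902 = n83953 := ((D132902).symm.trans (sb E66596 (iv7 D175926)))
theorem F310682 : act 2 n38665 = n61110 := (sb E66597 F97245)
theorem F310683 : act 4 n38665 = n29665 := (sb E66597 F97246)
theorem F310684 : act 7 n38665 = n29496 := (sb E66597 (iv7 D62365))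
theorem F310685 : act 0 n60197 = n61120 := (sb E66600 (iv1 F212141))
theorem F310686 : act 1 n60197 = n61139 := (sb E66600 F212138)
theorem F310687 : act 2 n60197 = n61072 := (sb E66600 (iv2 D130065))
theorem E69865 : n65255 = n33189 := (((F94751).symm.trans (sb E66600 F208526))).symm
theorem E69866 : n128094 = n62060 := ((D128094).symm.trans (sb E66600 F208527))
theorem F310688 : act 7 n60197 = n61135 := (sb E66600 F208778)
theorem E69867 : n83727 = n61149 := ((((iv3 F95657)).symm.trans (sb E66601 F304152))).symm
theorem E69869 : n128348 = n61155 := (((D61155).symm.trans (sb E66601 D128348))).symm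
theorem F310689 : act 3 n83732 = n61139 := (sb E66602 F208742)
theorem E69870 : n175335 = n61128 := ((D175335).symm.trans (sb E66602 F208743))
theorem E69871 : n128338 = n61126 := (((iv7 F206462)).symm.trans (sb E66602 (iv7 D130220)))
theorem F310690 : act 4 n58525 = n61139 := (sb E66603 F208807)
theorem E69872 : n156501 = n125151 := (((D125151).symm.trans (sb E66603 (iv5 F246059)))).symm
theorem F310691 : act 1 n130266 = n128149 := (sb E66604 F257052)
theorem F310692 : act 3 n130266 = n175336 := (sb E66604 (iv3 F274385))
theorem F310693 : act 4 n130266 = n78248 := (sb E66604 (iv4 D162777))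
theorem F310694 : act 7 n130266 = n167838 := (sb E66604 (iv7 F264413))
theorem E69874 : n83708 = n61138 := (((D61138).symm.trans (sb E66605 (iv6 F305613)))).symm
theorem F310695 : act 3 n38586 = n61120 := (sb E66606 F208703)
theorem E69875 : n83726 = n61118 := ((D83726).symm.trans (sb E66606 (iv5 D130194)))
theorem F310696 : act 4 n58526 = n61120 := (sb E66607 (iv4 D130202))
theorem E69876 : n125155 = n64992 := ((D125155).symm.trans (sb E66607 (iv5 F212166)))
theorem F310697 : act 6 n38583 = n61120 := (sb E66609 (iv6 D130203))
theorem F310698 : act 2 n58330 = n34196 := (sb E66610 F111968)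
theorem F310699 : act 4 n58330 = n61135 := (sb E66610 F208776)
theorem F310700 : act 1 n58316 = n34196 := (sb E66611 (iv0 D74574))
theorem E69879 : n156806 = n60292 := (((F94837).symm.trans (sb E66611 D156806))).symm
theorem F310701 : act 5 n58316 = n49974 := (sb E66611 F212164)
theorem F310702 : act 0 n58332 = n34196 := (sb E66612 (iv1 D74575))
theorem E69881 : n156808 = n70585 := ((((iv3 F232356)).symm.trans (sb E66612 D156808))).symm
theorem E69882 : n63602 = n60291 := ((((iv4 F190882)).symm.trans (sb E66612 (iv4 F212135)))).symm
theorem F310703 : act 5 n58332 = n49975 := (sb E66612 F212151)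
theorem E69885 : n118433 = n34197 := (((D34197).symm.trans (sb E66613 (iv6 F186234)))).symm
theorem F310704 : act 6 n30627 = n16128 := (sb E66614 (iv6 D33404))
theorem F310705 : act 4 n49823 = n79288 := (sb E66618 (iv4 D165030))
theorem F310706 : act 2 n72446 = n71425 := (sb E66625 (iv2 D151507))
theorem F310707 : act 3 n72446 = n71682 := (sb E66625 F238369)
theorem E69888 : n153335 = n135384 := ((D153335).symm.trans (sb E66625 F238370))
theorem F310708 : act 2 n63663 = n63282 := (sb E66626 F216696)
theorem F310709 : act 7 n63663 = n63281 := (sb E66626 (iv7 D134690))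
theorem F310710 : act 2 n63664 = n63281 := (sb E66627 (iv2 D134685))
theorem F310711 : act 7 n63664 = n63282 := (sb E66627 (iv7 F216694))
theorem E69889 : n176038 = n57611 := ((((iv5 F90753)).symm.trans (sb E66628 F275335))).symm
theorem E69890 : n83924 = n44065 := ((((iv6 F69399)).symm.trans (sb E66628 F275238))).symm
theorem F310712 : act 6 n52981 = n83021 := (sb E66630 (iv6 D173560))
theorem F310713 : act 1 n83527 = n83762 := (sb E66634 (iv0 D175418))
theorem F310714 : act 3 n173578 = n83777 := (sb E66635 F274491)
theorem F310715 : act 7 n173578 = n83762 := (sb E66635 (iv7 D175421))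
theorem F310716 : act 3 n77624 = n83855 := (sb E66636 F274937)
theorem F310717 : act 0 n83003 = n55147 := (sb E66637 (iv1 F186295))
theorem F310718 : act 1 n83003 = n54553 := (sb E66637 (iv0 D118466))
theorem F310719 : act 2 n83003 = n71790 := (sb E66637 (iv2 F186294))
theorem F310720 : act 4 n83003 = n73153 := (sb E66637 F186293)
theorem E69892 : n141788 = n101646 := (((D101646).symm.trans (iv6 (sb E66640 (tr (iv6 D161983) E68320))))).symm
theorem F310721 : act 6 n141713 = n77809 := (sb E66641 (iv6 D161994))
theorem F310722 : act 0 n133159 = n75330 := (sb E66643 (iv1 D158177))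
theorem F310724 : act 5 n133159 = n83878 := (sb E66643 (iv5 F249118))
theorem F310725 : act 7 n133159 = n75624 := (sb E66643 F274677)
theorem F310728 : act 3 n133158 = n152581 := (sb E66644 F303263)
theorem F310729 : act 5 n133158 = n75331 := (sb E66644 F249122)
theorem F310731 : act 7 n133158 = n75330 := (sb E66644 (iv7 D158179))
theorem F310732 : act 1 n34587 = n62474 := (sb E66645 (iv0 D133157))
theorem F310733 : act 3 n133159 = n75624 := (sb E66646 (iv3 D158538))
theorem F310734 : act 0 n133160 = n172272 := (sb E66648 (iv1 F270518))
theorem E69894 : n31186 = n7593 := ((((iv6 F11829)).symm.trans (sb E66650 (iv6 D66979)))).symm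
theorem E69895 : n33817 = n26150 := ((((iv1 F41461)).symm.trans (sb E66651 D33817))).symm
theorem E69896 : n33818 = n7174 := ((((iv0 D15088)).symm.trans (sb E66651 D33818))).symm
theorem F310735 : act 6 n15088 = n7946 := (sb E66651 F25853)
theorem E69897 : n33821 = n26148 := (((F105981).symm.trans (sb E66651 D33821))).symm
theorem E69898 : n119889 = n15432 := (((D15432).symm.trans (sb E66652 (iv3 F189251)))).symm
theorem E69899 : n26662 = n15434 := (((D15434).symm.trans (sb E66652 (iv6 D55178)))).symm
theorem F310736 : act 6 n12737 = n15433 := (sb E66653 (iv6 D32607))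
theorem F310737 : act 1 n25705 = n33900 := (sb E66654 F232427)
theorem E69904 : n146595 = n12215 := (((F40621).symm.trans (sb E66654 (iv4 F229890)))).symm
theorem E69905 : n52952 = n31967 := ((D52952).symm.trans (sb E66654 (iv6 D68707)))
theorem F310738 : act 0 n48747 = n33900 := (sb E66655 (iv1 D73806))
theorem E69908 : n146620 = n105424 := (((D105424).symm.trans (sb E66655 (iv6 F233113)))).symm
theorem E69911 : n155333 = n23975 := (((F55343).symm.trans (sb E66656 (iv3 F244290)))).symm
theorem F310739 : act 4 n34959 = n33900 := (sb E66656 F110609)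
theorem E69913 : n76529 = n33899 := ((D76529).symm.trans (sb E66656 (iv6 D73804)))
theorem E69914 : n160155 = n33897 := (((D33897).symm.trans (sb E66657 D160155))).symm
theorem E69920 : n31091 = n12481 := ((((iv6 F20778)).symm.trans (sb E66658 (iv6 D66661)))).symm
theorem E69925 : n155413 = n54363 := (((D54363).symm.trans (sb E66660 (iv2 F244381)))).symm
theorem E69927 : n54364 = n33921 := ((D54364).symm.trans (sb E66660 (iv6 D73867)))
theorem E69930 : n140222 = n2954 := ((((iv6 D6602)).symm.trans (sb E66661 F223364))).symm
theorem E69931 : n54365 = n33919 := (((D33919).symm.trans (sb E66662 D54365))).symm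
theorem E69932 : n54366 = n33920 := (((D33920).symm.trans (sb E66662 D54366))).symm
theorem E69933 : n33922 = n13885 := ((D33922).symm.trans (sb E66662 F41819))
theorem F310740 : act 6 n16398 = n12484 := (sb E66662 (iv6 D26277))
theorem E69934 : n54367 = n26675 := (((F53104).symm.trans (sb E66662 D54367))).symm
theorem E69935 : n65678 = n15431 := (((D15431).symm.trans (sb E66663 F110686))).symm
theorem E69937 : n35061 = n33914 := (((D33914).symm.trans (sb E66664 (iv4 D76703)))).symm
theorem E69939 : n160139 = n33915 := (((D33915).symm.trans (sb E66664 D160139))).symm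
theorem E69941 : n35062 = n33917 := (((D33917).symm.trans (sb E66665 (iv4 D76706)))).symm
theorem E69949 : n70229 = n31986 := (((F50361).symm.trans (sb E66668 D70229))).symm
theorem F310741 : act 6 n31526 = n15430 := (sb E66668 (iv6 D32597))
theorem F310742 : act 6 n68521 = n82747 := (sb E66669 F271063)
theorem E69951 : n174032 = n61701 := (((D61701).symm.trans (sb E66670 (iv3 F272764)))).symm
theorem E69955 : n174057 = n61679 := (((F210594).symm.trans (sb E66672 F272867))).symm
theorem F310743 : act 3 n131384 = n119376 := (sb E66672 F263338)
theorem F310744 : act 6 n131384 = n119372 := (sb E66672 F263339)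
theorem F310745 : act 3 n147075 = n71889 := (sb E66677 F239572)
theorem F310746 : act 5 n147075 = n73607 := (sb E66677 F298862)
theorem F310747 : act 6 n147075 = n71887 := (sb E66677 (iv6 D152377))
theorem F310748 : act 3 n38035 = n69001 := (sb E66678 (iv3 D147180))
theorem E69956 : n146131 = n80085 := ((((iv4 F296815)).symm.trans (sb E66678 F243296))).symm
theorem E69957 : n147852 = n82731 := (((D82731).symm.trans (sb E66679 (iv1 F231624)))).symm
theorem F310749 : act 5 n38028 = n69001 := (sb E66679 (iv5 D147182))
theorem F310750 : act 3 n147076 = n82762 := (sb E66680 F271064)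
theorem F310751 : act 5 n147076 = n82734 := (sb E66680 F271065)
theorem F310752 : act 4 n44719 = n73289 := (sb E66681 F242601)
theorem F310753 : act 0 n85520 = n84501 := (sb E66682 (iv1 D177361))
theorem F310754 : act 6 n85322 = n78446 := (sb E66683 (iv6 D163218))
theorem F310755 : act 4 n34293 = n48951 := (sb E66684 (iv4 F77220))
theorem F310756 : act 7 n34293 = n32675 := (sb E66684 F56702)
theorem E69959 : n74543 = n26258 := (((D26258).symm.trans (sb E66685 (iv3 F111932)))).symm
theorem F310757 : act 4 n12471 = n16602 := (sb E66685 F53750)
theorem F310758 : act 6 n12471 = n16546 := (sb E66685 (iv6 D34183))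
theorem E69961 : n53698 = n12723 := ((((iv6 F21120)).symm.trans (sb E66688 (iv6 D116523)))).symm
theorem E69962 : n32538 = n15091 := ((((iv1 F41459)).symm.trans (sb E66689 F53033))).symm
theorem E69964 : n55096 = n54052 := (((D54052).symm.trans (sb E66689 D55096))).symm
theorem F310759 : act 6 n26147 = n12854 := (sb E66689 F42659)
theorem E69965 : n55097 = n15089 := (((F105983).symm.trans (sb E66689 D55097))).symm
theorem F310760 : act 3 n117284 = n169961 := (sb E66690 (iv3 F267409))
theorem F310761 : act 4 n117284 = n79935 := (sb E66690 F188892)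
theorem F310762 : act 5 n117284 = n55639 := (sb E66690 F188893)
theorem E69966 : n114739 = n68773 := ((((iv2 F242966)).symm.trans (sb E66691 F190348))).symm
theorem E69967 : n68970 = n47817 := (((iv3 F105154)).symm.trans (sb E66691 (iv3 D103162)))
theorem E69968 : n114743 = n68959 := ((((iv3 F105137)).symm.trans (sb E66692 (iv3 F190350)))).symm
theorem F310763 : act 3 n117280 = n55073 := (sb E66693 (iv3 D119704))
theorem F310764 : act 6 n117280 = n55627 := (sb E66693 F188846)
theorem F310765 : act 6 n117281 = n169961 := (sb E66694 (iv6 F267410))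
theorem E69969 : n79934 = n68776 := (((F183535).symm.trans (sb E66694 (iv7 F188888)))).symm
theorem E69970 : n170011 = n86598 := ((D170011).symm.trans (sb E66698 F307948))
theorem E69971 : n170012 = n65343 := ((D170012).symm.trans (sb E66698 F205890))
theorem F310766 : act 2 n81545 = n60107 := (sb E66698 (iv2 D127942))
theorem E69972 : n170013 = n85668 := ((D170013).symm.trans (sb E66698 F307949))
theorem E69973 : n170014 = n86584 := ((D170014).symm.trans (sb E66698 F307950))
theorem F310767 : act 6 n45052 = n60107 := (sb E66699 (iv6 F307185))
theorem E69974 : n54355 = n53997 := (((iv6 F85776)).symm.trans (sb E66701 (iv6 D117165)))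
theorem E69975 : n123514 = n107892 := ((((iv3 F166708)).symm.trans (sb E66702 (iv3 F197935)))).symm
theorem F310768 : act 4 n49831 = n46555 := (sb E66702 F153352)
theorem F310769 : act 6 n49831 = n46553 := (sb E66702 (iv6 D99598))
theorem F310770 : act 0 n52951 = n74831 := (sb E66708 F229901)
theorem E69976 : n68704 = n25707 := (((D25707).symm.trans (sb E66710 (iv6 D146589)))).symm
theorem E69977 : n96633 = n32162 := ((D96633).symm.trans (sb E66712 (iv6 D69141)))
theorem F310771 : act 4 n54865 = n61657 := (sb E66713 F210543)
theorem E69978 : n131470 = n119224 := (((D119224).symm.trans (sb E66713 (iv5 F210741)))).symm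
theorem E69982 : n32163 = n26508 := (((D26508).symm.trans (sb E66715 (iv6 D69144)))).symm
theorem F310772 : act 6 n15182 = n26507 := (sb E66716 (iv6 D54798))
theorem F310773 : act 4 n54563 = n83160 := (sb E66717 (iv4 D173899))
theorem F310774 : act 6 n61536 = n79083 := (sb E66720 (iv6 D164607))
theorem F310775 : act 1 n146910 = n76735 := (sb E66727 (iv0 D160183))
theorem F310776 : act 0 n133686 = n76735 := (sb E66728 (iv1 D160184))
theorem F310777 : act 5 n146691 = n76735 := (sb E66729 F243817)
theorem F310778 : act 1 n155242 = n73967 := (sb E66730 (iv0 D155513))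
theorem F310779 : act 3 n117452 = n123101 := (sb E66733 F243665)
theorem F310780 : act 5 n117452 = n82683 := (sb E66733 F306541)
theorem F310781 : act 6 n117452 = n76676 := (sb E66733 F243667)
theorem E69990 : n96723 = n68978 := ((D96723).symm.trans (sb E66736 F308668))
theorem E69991 : n120586 = n96724 := (((D96724).symm.trans (sb E66736 F308669))).symm
theorem E69992 : n146746 = n37274 := (((F71228).symm.trans (sb E66736 F308670))).symm
theorem F310782 : act 3 n45193 = n58171 := (sb E66736 F199286)
theorem E69993 : n144841 = n21661 := (((F71229).symm.trans (sb E66736 F308671))).symm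
theorem E69994 : n96725 = n58170 := ((D96725).symm.trans (sb E66736 (iv5 D124594)))
theorem E69995 : n147118 = n81585 := ((((iv1 F149141)).symm.trans (sb E66738 (iv1 F230673)))).symm
theorem E69996 : n81584 = n68800 := ((F149142).symm.trans (sb E66738 (iv0 F229998)))
theorem E69997 : n147116 = n81587 := (((F149137).symm.trans (sb E66738 F230666))).symm
theorem F310783 : act 3 n96726 = n68743 := (sb E66738 (iv3 D146678))
theorem E69998 : n130285 = n75594 := ((((iv1 F113453)).symm.trans (sb E66740 (iv1 F212473)))).symm
theorem E69999 : n129972 = n16766 := ((((iv0 D34581)).symm.trans (sb E66740 (iv0 F208884)))).symm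
theorem E70000 : n130361 = n75591 := ((((iv2 F233746)).symm.trans (sb E66740 D130361))).symm
theorem F310784 : act 3 n34581 = n28973 := (sb E66740 (iv3 D61178))
theorem E70002 : n129228 = n75603 := (((D75603).symm.trans (sb E66740 F208878))).symm
theorem E70003 : n130363 = n75604 := (((D75604).symm.trans (sb E66740 D130363))).symm
theorem F310785 : act 7 n34581 = n62883 := (sb E66740 (iv7 F211998))
theorem F310786 : act 0 n61179 = n79860 := (sb E66741 F304874)
theorem F310787 : act 1 n61179 = n80707 := (sb E66741 (iv0 F238652))
theorem F310788 : act 3 n61179 = n71521 := (sb E66741 (iv3 D151747))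
theorem E70004 : n130364 = n80543 := ((D130364).symm.trans (sb E66741 F304876))
theorem F310789 : act 2 n133860 = n79860 := (sb E66744 (iv2 D166312))
theorem E70005 : n138357 = n85764 := (((iv5 F221594)).symm.trans (sb E66744 F261898))
theorem F310790 : act 6 n133860 = n127921 := (sb E66744 F261899)
theorem F310791 : act 7 n133860 = n80707 := (sb E66744 F304884)
theorem F310792 : act 0 n36849 = n62879 := (sb E66745 F217513)
theorem F310793 : act 1 n36849 = n62884 := (sb E66745 F217514)
theorem E70006 : n138346 = n58546 := ((((iv5 F302474)).symm.trans (sb E66745 (iv5 F221569)))).symm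
theorem F310794 : act 1 n133862 = n127848 := (sb E66746 F304904)
theorem E70007 : n175160 = n134664 := ((((iv4 F216689)).symm.trans (sb E66746 F304905))).symm
theorem E70008 : n128352 = n108237 := (((F215584).symm.trans (sb E66746 F304906))).symm
theorem E70009 : n128353 = n65257 := ((D128353).symm.trans (sb E66747 F166551))
theorem F310795 : act 5 n60347 = n62879 := (sb E66747 (iv5 F211923))
theorem F310796 : act 0 n133863 = n80537 := (sb E66748 (iv1 F234854))
theorem F310797 : act 1 n133863 = n70138 := (sb E66748 (iv0 D149368))
theorem F310798 : act 5 n133863 = n79845 := (sb E66748 F234852)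
theorem F310799 : act 7 n133863 = n80542 := (sb E66748 F234855)
theorem F310800 : act 1 n34578 = n62883 := (sb E66749 (iv0 D133868))
theorem E70010 : n131663 = n75321 := ((((iv3 F112936)).symm.trans (sb E66749 (iv3 F215601)))).symm
theorem E70011 : n129645 = n75593 := (((D75593).symm.trans (sb E66749 F215596))).symm
theorem F310801 : act 0 n34584 = n62883 := (sb E66750 F213335)
theorem E70012 : n62340 = n16772 := (((F54858).symm.trans (sb E66750 F213333))).symm
theorem E70013 : n75613 = n62338 := (((iv5 F113462)).symm.trans (sb E66750 (iv5 D132828)))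
theorem F310802 : act 2 n34582 = n62883 := (sb E66751 (iv2 D133869))
theorem E70014 : n130339 = n75606 := (((D75606).symm.trans (sb E66751 F215602))).symm
theorem E70015 : n130772 = n75608 := (((D75608).symm.trans (sb E66751 F215603))).symm
theorem E70018 : n138390 = n70860 := (((F205681).symm.trans (sb E66752 (iv3 F221614)))).symm
theorem F310803 : act 4 n127841 = n62883 := (sb E66752 (iv4 D133870))
theorem F310804 : act 0 n65003 = n34989 := (sb E66754 (iv1 D76565))
theorem F310805 : act 2 n65003 = n71522 := (sb E66754 (iv2 F233763))
theorem E70020 : n128356 = n30572 := (((F211926).symm.trans (sb E66754 (iv5 F306842)))).symm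
theorem F310806 : act 7 n65003 = n71521 := (sb E66754 (iv7 F233759))
theorem E70021 : n128357 = n65258 := ((D128357).symm.trans (sb E66755 F100997))
theorem F310807 : act 5 n60348 = n62884 := (sb E66755 F211925)
theorem F310808 : act 6 n70352 = n65003 := (sb E66757 (iv6 D138391))
theorem F310809 : act 4 n62886 = n35693 := (sb E66758 (iv4 D78299))
theorem E70024 : n162882 = n133875 := (((D133875).symm.trans (sb E66758 D162882))).symm
theorem E70028 : n84447 = n60348 := ((((iv5 F310807)).symm.trans (sb E66759 F302840))).symm
theorem F310810 : act 6 n62884 = n35693 := (sb E66759 (iv6 D78300))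
theorem E70030 : n153599 = n133864 := (((F215593).symm.trans (sb E66760 (iv0 F261812)))).symm
theorem F310811 : act 4 n130368 = n70739 := (sb E66760 F236467)
theorem F310812 : act 6 n130368 = n70737 := (sb E66760 (iv6 D150267))
theorem E70031 : n167827 = n61181 := ((((iv7 D130368)).symm.trans (sb E66760 (iv7 F264313)))).symm
theorem E70034 : n147526 = n119056 := ((((iv2 F187316)).symm.trans (sb E66761 D147526))).symm
theorem F310813 : act 4 n54790 = n32165 := (sb E66761 F105438)
theorem E70036 : n147310 = n119063 := (((D119063).symm.trans (sb E66761 (iv7 F230967)))).symm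
theorem E70037 : n110495 = n39287 := ((F170912).symm.trans (sb E66762 (iv1 D84923)))
theorem E70038 : n119388 = n110616 := ((((iv0 F171201)).symm.trans (sb E66762 F188081))).symm
theorem E70039 : n119386 = n51943 := ((((iv2 F82029)).symm.trans (sb E66762 (iv2 F278081)))).symm
theorem E70040 : n178471 = n30353 := (((F80472).symm.trans (sb E66762 D178471))).symm
theorem E70041 : n178472 = n110627 := (((D110627).symm.trans (sb E66762 D178472))).symm
theorem E70043 : n119385 = n110628 := (((D110628).symm.trans (sb E66762 (iv7 F278084)))).symm
theorem F310814 : act 1 n67877 = n55640 := (sb E66767 F131647)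
theorem E70047 : n149650 = n144832 := ((((iv3 F227743)).symm.trans (sb E66767 D149650))).symm
theorem E70050 : n149655 = n54314 := ((D149655).symm.trans (sb E66768 F183552))
theorem E70051 : n149656 = n68923 := ((D149656).symm.trans (sb E66768 F183555))
theorem F310815 : act 5 n69649 = n55640 := (sb E66769 F189131)
theorem F310816 : act 4 n31996 = n55098 := (sb E66770 F188895)
theorem F310817 : act 7 n31996 = n55640 := (sb E66770 F188896)
theorem E70052 : n147133 = n103725 := (((D103725).symm.trans (sb E66771 F231173))).symm
theorem E70053 : n103728 = n72729 := ((D103728).symm.trans (sb E66771 F192149))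
theorem E70054 : n103729 = n55529 := ((D103729).symm.trans (sb E66771 (iv6 D120577)))
theorem F310818 : act 7 n134628 = n71920 := (sb E66772 (iv7 D152471))
theorem F310819 : act 2 n35470 = n55007 := (sb E66786 (iv2 D119561))
theorem F310821 : act 7 n119562 = n77711 := (sb E66787 F255776)
theorem F310822 : act 7 n161375 = n77704 := (sb E66788 (iv7 D161781))
theorem F310823 : act 2 n161377 = n77711 := (sb E66789 F255788)
theorem F310825 : act 6 n128053 = n77468 := (sb E66790 (iv6 D161378))
theorem F310827 : act 7 n130148 = n78913 := (sb E66791 (iv7 D164278))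
theorem F310828 : act 1 n130211 = n78913 := (sb E66792 (iv0 D164275))
theorem E70055 : n84076 = n78913 := ((F201078).symm.trans (sb E66793 (iv1 D164276)))
theorem F310829 : act 3 n61454 = n78913 := (sb E66794 F198012)
theorem E70056 : n185774 = n29087 := ((((iv5 D61454)).symm.trans (sb E66794 (iv5 F288101)))).symm
theorem E70057 : n130996 = n57611 := ((D130996).symm.trans (sb E66794 (iv6 D123596)))
theorem F310830 : act 5 n61452 = n78913 := (sb E66795 (iv5 D164277))
theorem E70058 : n130991 = n78916 := ((D130991).symm.trans (sb E66795 F258916))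
theorem E70059 : n167894 = n69062 := (((iv1 F300265)).symm.trans (sb E66796 F290257))
theorem F310831 : act 1 n81564 = n76701 := (sb E66796 F290258)
theorem F310832 : act 3 n81564 = n157554 := (sb E66796 F290260)
theorem E70060 : n170065 = n52697 := ((D170065).symm.trans (sb E66796 (iv4 D114162)))
theorem F310833 : act 2 n62562 = n37377 := (sb E66797 F125460)
theorem F310834 : act 6 n62562 = n37255 := (sb E66797 (iv6 D81565))
theorem E70061 : n170055 = n114163 := ((F267508).symm.trans (sb E66798 F290284))
theorem E70062 : n177328 = n147307 := (((iv6 F276708)).symm.trans (sb E66798 (iv6 F230956)))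
theorem F310836 : act 1 n98055 = n131168 := (sb E66799 (iv0 F210087))
theorem E70063 : n167842 = n146983 := (((iv7 F264428)).symm.trans (sb E66799 (iv7 F230378)))
theorem F310839 : act 6 n98062 = n72907 := (sb E66800 (iv6 D154042))
theorem E70064 : n167844 = n146980 := ((D167844).symm.trans (sb E66801 F242068))
theorem F310840 : act 2 n81764 = n76701 := (sb E66802 F230950)
theorem E70065 : n170583 = n131256 := ((D170583).symm.trans (sb E66802 F230952))
theorem F310841 : act 0 n35060 = n37396 := (sb E66803 (iv1 F125681))
theorem F310842 : act 1 n35060 = n37376 := (sb E66803 (iv0 D81763))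
theorem E70066 : n167878 = n76698 := ((((iv4 F115048)).symm.trans (sb E66803 (iv4 F303855)))).symm
theorem F310843 : act 0 n81567 = n76701 := (sb E66804 (iv1 F230953))
theorem E70067 : n170070 = n78940 := ((D170070).symm.trans (sb E66804 (iv4 F290263)))
theorem E70068 : n170621 = n131256 := ((D170621).symm.trans (sb E66805 F290249))
theorem E70069 : n170622 = n55629 := ((D170622).symm.trans (sb E66805 F290250))
theorem E70070 : n170619 = n157553 := (((iv2 F268073)).symm.trans (sb E66805 F290251))
theorem E70071 : n170623 = n52653 := ((D170623).symm.trans (sb E66805 (iv4 D114079)))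
theorem E70072 : n170624 = n153740 := ((D170624).symm.trans (sb E66805 F290252))
theorem F310844 : act 7 n81788 = n157554 := (sb E66805 F290253)
theorem F310845 : act 4 n35934 = n37396 := (sb E66806 (iv4 D81790))
theorem E70074 : n170629 = n78943 := (((D78943).symm.trans (sb E66806 D170629))).symm
theorem E70075 : n170632 = n152809 := ((D170632).symm.trans (sb E66807 F252744))
theorem E70076 : n170570 = n76658 := ((D170570).symm.trans (sb E66808 (iv1 D160073)))
theorem E70077 : n170584 = n52702 := ((D170584).symm.trans (sb E66809 (iv3 F290497)))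
theorem E70078 : n170586 = n68911 := ((D170586).symm.trans (sb E66810 (iv1 D147005)))
theorem E70079 : n170587 = n69055 := ((D170587).symm.trans (sb E66810 F230438))
theorem E70080 : n170589 = n147897 := ((D170589).symm.trans (sb E66810 (iv7 F241151)))
theorem E70081 : n170577 = n133308 := ((D170577).symm.trans (sb E66811 (iv7 F241180)))
theorem F310846 : act 1 n81768 = n147336 := (sb E66813 (iv0 F241103))
theorem F310847 : act 2 n81768 = n133305 := (sb E66813 (iv2 F241172))
theorem F310848 : act 7 n81768 = n133310 := (sb E66813 (iv7 F241169))
theorem F310849 : act 7 n62563 = n37377 := (sb E66814 (iv7 D81769))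
theorem E70082 : n170541 = n52722 := ((D170541).symm.trans (sb E66815 F178003))
theorem E70083 : n170542 = n52719 := ((D170542).symm.trans (sb E66815 (iv6 D114222)))
theorem F310850 : act 5 n114220 = n176994 := (sb E66816 (iv5 F276370))
theorem F310851 : act 6 n114220 = n81796 := (sb E66816 (iv6 D170640))
theorem E70084 : n164366 = n81748 := ((D164366).symm.trans (sb E66817 (iv1 F125661)))
theorem F310852 : act 4 n78942 = n81774 := (sb E66817 (iv4 F125698))
theorem F310853 : act 6 n153923 = n81774 := (sb E66818 (iv6 D170602))
theorem E70087 : n175513 = n46975 := ((D175513).symm.trans (sb E66835 (iv1 D100728)))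
theorem E70088 : n175515 = n70024 := ((D175515).symm.trans (sb E66835 F273251))
theorem E70089 : n172853 = n172410 := (((D172410).symm.trans (sb E66836 F271121))).symm
theorem F310854 : act 3 n75538 = n38208 := (sb E66839 (iv3 D83024))
theorem E70094 : n173570 = n158391 := ((((iv5 F249561)).symm.trans (sb E66839 D173570))).symm
theorem F310855 : act 1 n33185 = n38202 := (sb E66840 (iv0 D83000))
theorem F310856 : act 0 n33937 = n38202 := (sb E66841 (iv1 D83001))
theorem F310857 : act 3 n101887 = n73160 := (sb E66847 F242472)
theorem F310858 : act 0 n147393 = n88115 := (sb E66848 (iv1 D184803))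
theorem F310859 : act 1 n147393 = n88120 := (sb E66848 F287266)
theorem F310860 : act 4 n69117 = n88115 := (sb E66849 (iv4 D184804))
theorem F310861 : act 6 n68973 = n88115 := (sb E66850 (iv6 D184805))
theorem E70107 : n156622 = n73151 := ((((iv2 F308384)).symm.trans (sb E66854 (iv2 F246331)))).symm
theorem F310862 : act 3 n41142 = n34159 := (sb E66854 F111802)
theorem E70108 : n156633 = n88120 := (((D88120).symm.trans (sb E66854 D156633))).symm
theorem E70109 : n156648 = n48933 := ((D156648).symm.trans (sb E66858 (iv1 F130814)))
theorem F310863 : act 1 n74489 = n34780 := (sb E66858 (iv0 D76142))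
theorem E70110 : n159199 = n156650 := (((D156650).symm.trans (sb E66858 D159199))).symm
theorem F310864 : act 4 n69253 = n88120 := (sb E66859 (iv4 D184819))
theorem F310865 : act 6 n145761 = n88120 := (sb E66860 (iv6 D184820))
theorem F310866 : act 7 n71878 = n88109 := (sb E66864 (iv7 F287245))
theorem F310867 : act 2 n73934 = n88109 := (sb E66869 F287246)
theorem F310868 : act 3 n119499 = n88109 := (sb E66870 (iv3 D184775))
theorem F310869 : act 4 n55158 = n88109 := (sb E66871 (iv4 D184776))
theorem F310870 : act 6 n85254 = n88109 := (sb E66872 (iv6 D184778))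
theorem F310871 : act 7 n154434 = n88110 := (sb E66873 (iv7 D184782))
theorem F310872 : act 3 n128313 = n88122 := (sb E66874 (iv3 D184826))
theorem F310873 : act 4 n73288 = n88122 := (sb E66875 (iv4 D184827))
theorem F310874 : act 5 n127483 = n167884 := (sb E66876 F287286)
theorem F310875 : act 6 n127483 = n88122 := (sb E66876 (iv6 D184829))
theorem F310876 : act 0 n68327 = n58127 := (sb E66877 (iv1 D124542))
theorem F310877 : act 1 n68327 = n58131 := (sb E66877 F199208)
theorem F310878 : act 2 n68327 = n86672 := (sb E66877 (iv2 F299088))
theorem F310879 : act 7 n68327 = n86671 := (sb E66877 (iv7 F299086))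
theorem F310880 : act 7 n147771 = n88124 := (sb E66878 (iv7 D184838))
theorem F310881 : act 4 n119281 = n98466 := (sb E66892 F287295)
theorem E70111 : n172018 = n119281 := ((F270077).symm.trans (iv7 (sb E66892 (tr (iv7 F287296) E69354))))
theorem E70112 : n172023 = n119282 := (((iv2 F270078)).symm.trans (iv2 (sb E66893 (tr F268248 E69354))))
theorem E70113 : n181020 = n177047 := (((F276463).symm.trans (sb E66893 (iv3 F281864)))).symm
theorem F310882 : act 4 n119282 = n98461 := (sb E66893 F268249)
theorem F310883 : act 6 n119282 = n81846 := (sb E66893 (iv6 D170726))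
theorem F310884 : act 5 n153829 = n185247 := (sb E66904 F287545)
theorem F310885 : act 6 n153829 = n88216 := (sb E66904 F287460)
theorem E70114 : n185246 = n157581 := ((((iv5 F248344)).symm.trans (sb E66905 (iv5 F287544)))).symm
theorem F310886 : act 1 n100730 = n47346 := (sb E66913 (iv0 D101895))
theorem F310887 : act 0 n102385 = n73196 := (sb E66930 (iv1 D154531))
theorem F310888 : act 0 n154411 = n88211 := (sb E66931 (iv1 F287361))
theorem F310889 : act 2 n154445 = n88180 := (sb E66932 (iv2 D184978))
theorem F310890 : act 7 n154445 = n88181 := (sb E66932 (iv7 F287388))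
theorem F310891 : act 2 n154444 = n88181 := (sb E66933 F287389)
theorem F310892 : act 7 n154444 = n88180 := (sb E66933 (iv7 D184982))
theorem F310893 : act 4 n73271 = n88181 := (sb E66934 (iv4 D184984))
theorem F310894 : act 7 n154446 = n88182 := (sb E66935 (iv7 D184991))
theorem F310895 : act 7 n147775 = n88183 := (sb E66936 (iv7 D184996))
theorem F310896 : act 7 n154447 = n88283 := (sb E66937 F287396)
theorem F310897 : act 0 n154448 = n87716 := (sb E66938 (iv1 D183889))
theorem F310898 : act 1 n154449 = n87716 := (sb E66939 (iv0 D183888))
theorem F310899 : act 7 n41199 = n73160 := (sb E66940 (iv7 D154451))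
theorem F310900 : act 2 n40150 = n47165 := (sb E66943 (iv2 D101293))
theorem F310901 : act 7 n40150 = n47166 := (sb E66943 (iv7 F156080))
theorem F310902 : act 2 n101296 = n86613 := (sb E66945 F282528)
theorem F310903 : act 2 n101297 = n86614 := (sb E66946 F282530)
theorem F310904 : act 2 n40151 = n47166 := (sb E66947 F156081)
theorem F310905 : act 7 n40151 = n47165 := (sb E66947 (iv7 D101298))
theorem F310906 : act 3 n40150 = n34400 := (sb E66951 (iv3 D75122))
theorem E70119 : n157671 = n86612 := (((D86612).symm.trans (sb E66951 (iv4 F248445)))).symm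
theorem E70120 : n157677 = n86613 := (((D86613).symm.trans (sb E66951 D157677))).symm
theorem E70121 : n157678 = n86614 := (((D86614).symm.trans (sb E66951 D157678))).symm
theorem F310907 : act 0 n150422 = n86613 := (sb E66956 (iv1 D181426))
theorem F310908 : act 0 n101296 = n148951 := (sb E66957 (iv1 F305649))
theorem F310909 : act 1 n101296 = n131260 := (sb E66957 (iv0 F305648))
theorem F310910 : act 3 n101296 = n70483 := (sb E66957 (iv3 D149898))
theorem F310911 : act 4 n101296 = n84499 := (sb E66957 F235772)
theorem F310912 : act 6 n101296 = n131251 := (sb E66957 (iv6 F306820))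
theorem F310913 : act 7 n101296 = n86580 := (sb E66957 F235773)
theorem F310914 : act 4 n154696 = n86613 := (sb E66958 (iv4 D181427))
theorem F310915 : act 6 n130844 = n86613 := (sb E66959 (iv6 D181428))
theorem F310916 : act 7 n70803 = n86613 := (sb E66960 (iv7 D181429))
theorem F310917 : act 7 n118122 = n86614 := (sb E66961 (iv7 D181433))
theorem E70122 : n119779 = n47165 := ((D119779).symm.trans (sb E66969 (iv3 D101294)))
theorem E70123 : n144195 = n103231 := ((D144195).symm.trans (sb E66973 F159201))
theorem E70124 : n144197 = n48046 := ((D144197).symm.trans (sb E66973 (iv5 D103771)))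
theorem F310918 : act 7 n67551 = n103081 := (sb E66973 (iv7 F177438))
theorem F310919 : act 1 n23919 = n34159 := (sb E66977 (iv0 F308721))
theorem F310920 : act 4 n49032 = n34145 := (sb E66979 (iv4 D74446))
theorem E70127 : n129784 = n106088 := (((D106088).symm.trans (sb E66979 (iv5 F208130)))).symm
theorem E70128 : n106093 = n61080 := ((D106093).symm.trans (sb E66981 (iv1 D130083)))
theorem E70129 : n132826 = n70964 := ((((iv0 F109942)).symm.trans (sb E66981 F213328))).symm
theorem E70130 : n106094 = n62231 := ((D106094).symm.trans (sb E66981 F208554))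
theorem F310921 : act 3 n26653 = n30619 := (sb E66985 F100983)
theorem E70134 : n138961 = n54278 := ((((iv5 F130934)).symm.trans (sb E66985 D138961))).symm
theorem E70135 : n30617 = n18672 := (((F199865).symm.trans (sb E66985 (iv6 D65232)))).symm
theorem F310922 : act 1 n65239 = n34702 := (sb E66986 (iv0 D75932))
theorem F310923 : act 2 n65239 = n68554 := (sb E66986 (iv2 F113823))
theorem E70136 : n159007 = n138984 := (((D138984).symm.trans (sb E66986 D159007))).symm
theorem E70137 : n68551 = n30621 := (((F100986).symm.trans (sb E66986 F113822))).symm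
theorem F310924 : act 5 n30563 = n28675 := (sb E66991 F308769)
theorem F310925 : act 4 n69812 = n74831 := (sb E66993 F210464)
theorem F310926 : act 6 n69812 = n61627 := (sb E66993 (iv6 D131324))
theorem E70140 : n74542 = n55107 := (((D55107).symm.trans (sb E66994 (iv6 D156741)))).symm
theorem F310927 : act 6 n34292 = n48951 := (sb E66996 (iv6 D105877))
theorem F310928 : act 4 n33928 = n62706 := (sb E66998 (iv4 D133604))
theorem F310929 : act 5 n29646 = n34347 := (sb E66999 (iv5 D74961))
theorem E70144 : n131093 = n56250 := ((D131093).symm.trans (sb E67001 F303786))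
theorem E70145 : n84574 = n60791 := ((((iv7 F162927)).symm.trans (sb E67001 F303787))).symm
theorem E70146 : n118645 = n67358 := ((F189827).symm.trans (sb E67002 (iv1 D143810)))
theorem E70148 : n148686 = n120644 := ((D148686).symm.trans (sb E67005 F234167))
theorem F310930 : act 4 n69683 = n69864 := (sb E67005 (iv4 D148991))
theorem E70149 : n150122 = n148691 := (((D148691).symm.trans (sb E67005 (iv7 F236288)))).symm
theorem E70150 : n154997 = n67999 := ((D154997).symm.trans (sb E67006 F205366))
theorem E70151 : n154998 = n68450 := ((D154998).symm.trans (sb E67006 (iv0 F205369)))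
theorem E70152 : n154999 = n120645 := ((D154999).symm.trans (sb E67006 F205358))
theorem E70153 : n149412 = n127740 := (((iv5 F234953)).symm.trans (sb E67006 F205360))
theorem F310931 : act 6 n73562 = n69864 := (sb E67006 F205361)
theorem E70154 : n119728 = n59981 := (((iv7 F188873)).symm.trans (sb E67006 (iv7 D127747)))
theorem E70155 : n155001 = n142636 := ((D155001).symm.trans (sb E67008 (iv1 F225525)))
theorem E70156 : n155002 = n65574 := ((D155002).symm.trans (sb E67008 (iv0 D139710)))
theorem E70157 : n67295 = n33799 := ((((iv1 F53034)).symm.trans (sb E67009 (iv1 F184548)))).symm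
theorem E70158 : n69538 = n33798 := (((F53031).symm.trans (sb E67009 F184549))).symm
theorem E70160 : n54273 = n26621 := (((F42651).symm.trans (sb E67009 (iv7 D117836)))).symm
theorem F310932 : act 1 n31665 = n33809 := (sb E67010 F106480)
theorem E70161 : n149303 = n68040 := ((((iv3 F104163)).symm.trans (sb E67010 D149303))).symm
theorem E70162 : n68046 = n32525 := (((iv4 F104166)).symm.trans (sb E67010 (iv4 D70096)))
theorem E70163 : n149304 = n53994 := (((F85174).symm.trans (sb E67010 D149304))).symm
theorem E70165 : n149301 = n53993 := ((D149301).symm.trans (sb E67011 F162548))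
theorem E70166 : n149302 = n68069 := ((D149302).symm.trans (sb E67011 (iv6 F162552)))
theorem E70167 : n39268 = n31876 := (((F104701).symm.trans (sb E67012 F106537))).symm
theorem E70168 : n146084 = n36407 := ((D146084).symm.trans (sb E67012 F106539))
theorem F310933 : act 5 n68500 = n33809 := (sb E67012 F106538)
theorem F310934 : act 7 n28483 = n33809 := (sb E67013 F87112)
theorem F310935 : act 0 n117823 = n68838 := (sb E67014 (iv1 D146836))
theorem F310936 : act 1 n117823 = n68901 := (sb E67014 F230194)
theorem F310937 : act 2 n117823 = n68899 := (sb E67014 (iv2 F230197))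
theorem F310938 : act 5 n117823 = n69411 := (sb E67014 (iv5 F230196))
theorem E70172 : n154986 = n54268 := ((((iv6 D117823)).symm.trans (sb E67014 (iv6 F243706)))).symm
theorem F310939 : act 3 n117826 = n69411 := (sb E67015 F230524)
theorem F310940 : act 6 n117826 = n69408 := (sb E67015 F230525)
theorem E70174 : n118621 = n54269 := (((D54269).symm.trans (sb E67016 (iv5 F186588)))).symm
theorem E70177 : n61604 = n32301 := ((((iv4 F51212)).symm.trans (sb E67017 (iv4 D131276)))).symm
theorem E70181 : n61609 = n13574 := ((((iv4 F22738)).symm.trans (sb E67018 (iv4 D131282)))).symm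
theorem E70184 : n149361 = n139862 := ((D149361).symm.trans (sb E67020 (iv1 F224667)))
theorem E70185 : n149362 = n66412 := ((D149362).symm.trans (sb E67020 (iv0 D141592)))
theorem E70186 : n148566 = n32532 := ((((iv3 F51606)).symm.trans (sb E67021 (iv3 F233331)))).symm
theorem F310941 : act 4 n15407 = n32325 := (sb E67021 F105897)
theorem E70188 : n32321 = n17540 := ((((iv7 F41790)).symm.trans (sb E67021 (iv7 D69626)))).symm
theorem E70189 : n148499 = n76783 := ((D148499).symm.trans (sb E67022 (iv1 F235011)))
theorem E70190 : n149425 = n148500 := (((D148500).symm.trans (sb E67022 F235010))).symm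
theorem E70191 : n149424 = n148494 := ((((iv2 F233250)).symm.trans (sb E67022 (iv2 F253040)))).symm
theorem E70192 : n149298 = n32302 := ((((iv6 D69580)).symm.trans (sb E67022 (iv6 F234674)))).symm
theorem E70193 : n148508 = n68334 := (((iv6 F233257)).symm.trans (sb E67023 (iv6 D145750)))
theorem E70194 : n62923 = n32303 := (((D32303).symm.trans (sb E67024 F106489))).symm
theorem E70196 : n68562 = n65648 := ((D68562).symm.trans (sb E67025 (iv5 D139858)))
theorem E70197 : n68567 = n65647 := ((D68567).symm.trans (sb E67026 (iv5 D139856)))
theorem E70198 : n140147 = n54028 := ((((iv1 F85233)).symm.trans (sb E67027 (iv1 F223316)))).symm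
theorem E70199 : n59769 = n54027 := (((F85237).symm.trans (sb E67027 (iv0 D127328)))).symm
theorem F310942 : act 4 n31914 = n68386 := (sb E67027 F204561)
theorem E70200 : n116183 = n15052 := (((F50216).symm.trans (sb E67027 F204560))).symm
theorem F310943 : act 1 n70907 = n68386 := (sb E67028 F183223)
theorem E70201 : n67348 = n54101 := (((F110663).symm.trans (sb E67028 F183225))).symm
theorem E70202 : n150464 = n117214 := ((D150464).symm.trans (sb E67028 F183380))
theorem E70203 : n150465 = n62853 := ((D150465).symm.trans (sb E67028 (iv6 F183226)))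
theorem F310944 : act 0 n70906 = n68386 := (sb E67029 F162568)
theorem E70204 : n150460 = n66412 := ((D150460).symm.trans (sb E67029 (tr F237553 E70185)))
theorem F310945 : act 0 n145827 = n97234 := (sb E67030 (iv1 F229635))
theorem F310946 : act 1 n145827 = n97233 := (sb E67030 F229636)
theorem F310947 : act 2 n145827 = n97236 := (sb E67030 F229632)
theorem F310948 : act 5 n70376 = n45227 := (sb E67031 (iv5 D96780))
theorem F310949 : act 5 n70377 = n45228 := (sb E67032 (iv5 D96785))
theorem F310950 : act 6 n59893 = n45228 := (sb E67033 (iv6 D96786))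
theorem E70206 : n120574 = n95520 := ((((iv2 F147141)).symm.trans (sb E67034 F231543))).symm
theorem E70207 : n95522 = n69251 := ((D95522).symm.trans (sb E67034 F231544))
theorem E70208 : n95524 = n69249 := ((D95524).symm.trans (sb E67034 (iv6 D147801)))
theorem E70209 : n95515 = n21322 := ((F147139).symm.trans (sb E67034 (tr (iv7 F231545) E69595)))
theorem E70212 : n127513 = n10255 := (((F33661).symm.trans (sb E67036 (iv4 F204961)))).symm
theorem E70213 : n44907 = n28446 := ((D44907).symm.trans (sb E67036 (iv6 D59888)))
theorem E70214 : n146978 = n76046 := ((D146978).symm.trans (sb E67038 F250522))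
theorem E70215 : n148396 = n54930 := (((F105073).symm.trans (sb E67038 F250523))).symm
theorem F310951 : act 7 n68898 = n117823 := (sb E67038 F250524)
theorem E70216 : n179664 = n139712 := ((D179664).symm.trans (sb E67039 (iv1 F225519)))
theorem E70217 : n146188 = n66858 := (((iv0 F229469)).symm.trans (sb E67039 (iv0 D142634)))
theorem F310952 : act 7 n85800 = n117826 := (sb E67039 F225518)
theorem E70218 : n116755 = n55082 := ((((iv1 F87106)).symm.trans (sb E67040 F182190))).symm
theorem E70219 : n32283 = n16332 := (((F42654).symm.trans (sb E67040 (iv7 D69541)))).symm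
theorem F310953 : act 1 n53893 = n55090 := (sb E67041 F122465)
theorem E70220 : n166132 = n116939 := ((((iv3 F182709)).symm.trans (sb E67041 D166132))).symm
theorem E70221 : n66108 = n28343 := ((F105663).symm.trans (sb E67041 (tr (iv4 D79771) E69460)))
theorem E70222 : n149400 = n31879 := (((F84978).symm.trans (sb E67041 (iv5 F234914)))).symm
theorem F310954 : act 7 n53893 = n70093 := (sb E67041 F122463)
theorem F310955 : act 0 n59982 = n55090 := (sb E67042 F122456)
theorem F310956 : act 2 n59982 = n70093 := (sb E67042 F122454)
theorem E70225 : n69623 = n36325 := (((iv4 F181341)).symm.trans (sb E67042 (iv4 D79769)))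
theorem E70226 : n149401 = n31878 := (((F94461).symm.trans (sb E67042 (iv5 F234938)))).symm
theorem F310957 : act 3 n34745 = n55090 := (sb E67043 (iv3 D119731))
theorem E70228 : n76048 = n73535 := ((D76048).symm.trans (sb E67043 F188881))
theorem E70229 : n117999 = n73535 := (E67044).trans E70228
theorem E70230 : n154991 = n53999 := ((D154991).symm.trans (sb E70229 (tr (iv1 D117999) E67117)))
theorem E70231 : n154992 = n54004 := ((D154992).symm.trans (sb E70229 (tr F185184 E67190)))
theorem E70232 : n154982 = n56256 := (((iv4 F243694)).symm.trans (sb E70229 F185187))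
theorem E70233 : n149410 = n55090 := (((iv5 F234951)).symm.trans (sb E70229 F185186))
theorem F310958 : act 1 n33800 = n31665 := (sb E67045 F106512)
theorem F310959 : act 2 n33800 = n28483 := (sb E67045 F77153)
theorem F310960 : act 6 n33800 = n23859 := (sb E67045 (iv6 D48934))
theorem E70234 : n148358 = n69035 := ((D148358).symm.trans (sb E67046 (iv1 D147266)))
theorem E70235 : n148359 = n147302 := ((D148359).symm.trans (sb E67046 F230943))
theorem E70236 : n148349 = n146980 := (((iv2 F232137)).symm.trans (sb E67046 F230878))
theorem F310961 : act 7 n69523 = n72924 := (sb E67046 F230876)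
theorem E70237 : n148360 = n87470 := (((iv3 F232140)).symm.trans (sb E67047 F308145))
theorem E70238 : n148371 = n145794 := ((D148371).symm.trans (sb E67047 (iv4 F235376)))
theorem E70239 : n148367 = n75134 := (((iv6 F232145)).symm.trans (sb E67047 F235373))
theorem F310962 : act 7 n69529 = n73564 := (sb E67047 F235374)
theorem E70240 : n62725 = n7214 := ((((iv0 D15221)).symm.trans (sb E67048 F188880))).symm
theorem E70241 : n86387 = n32278 := (((D32278).symm.trans (sb E67048 F306887))).symm
theorem E70242 : n71747 = n32279 := (((D32279).symm.trans (sb E67048 F188877))).symm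
theorem E70243 : n55084 = n26239 := ((((iv7 F43204)).symm.trans (sb E67048 (iv7 D119730)))).symm
theorem F310963 : act 7 n79848 = n69580 := (sb E67049 (iv7 D148502))
theorem E70244 : n145809 = n141594 := (((iv1 F228945)).symm.trans (sb E67050 (iv1 F224673)))
theorem E70245 : n145775 = n65649 := (((iv0 F228908)).symm.trans (sb E67050 (iv0 D139860)))
theorem F310964 : act 7 n79854 = n69586 := (sb E67050 (iv7 F223063))
theorem E70247 : n54299 = n15402 := ((((iv7 F41793)).symm.trans (sb E67051 (iv7 D117891)))).symm
theorem F310965 : act 0 n117853 = n70190 := (sb E67052 (iv1 F234781))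
theorem F310966 : act 1 n117853 = n160203 := (sb E67052 F252906)
theorem F310967 : act 2 n117853 = n160202 := (sb E67052 F252897)
theorem F310968 : act 5 n117853 = n145804 := (sb E67052 F234780)
theorem E70248 : n166125 = n54284 := ((((iv6 D117853)).symm.trans (sb E67052 (iv6 F261584)))).symm
theorem F310969 : act 7 n117853 = n70123 := (sb E67052 (iv7 D149348))
theorem F310970 : act 2 n68358 = n69586 := (sb E67053 F184810)
theorem F310971 : act 5 n68358 = n54286 := (sb E67053 (iv5 D117856))
theorem E70249 : n62791 = n23857 := ((((iv0 F46227)).symm.trans (sb E67054 F122473))).symm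
theorem E70250 : n61826 = n54285 := (((D54285).symm.trans (sb E67054 F122470))).symm
theorem E70251 : n36328 = n15232 := (((F51258).symm.trans (sb E67054 (iv7 D79774)))).symm
theorem F310972 : act 0 n148510 = n117205 := (sb E67056 (iv1 F234574))
theorem F310973 : act 1 n148510 = n70028 := (sb E67056 (iv0 D149201))
theorem F310974 : act 2 n148510 = n117206 := (sb E67056 (iv2 F234570))
theorem F310975 : act 4 n148510 = n95501 := (sb E67056 F234572)
theorem F310976 : act 5 n148510 = n117185 := (sb E67056 F234569)
theorem F310977 : act 6 n148510 = n117206 := (sb E67056 F234568)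
theorem F310978 : act 7 n148510 = n70052 := (sb E67056 F234573)
theorem E70257 : n146175 = n66411 := ((D146175).symm.trans (sb E67057 (iv5 D141590)))
theorem F310979 : act 5 n68533 = n69585 := (sb E67059 (iv5 D148511))
theorem E70262 : n127331 = n31912 := ((((iv1 F85238)).symm.trans (sb E67062 (iv1 F223325)))).symm
theorem E70263 : n66424 = n26136 := (((F85236).symm.trans (sb E67062 F223323))).symm
theorem F310980 : act 6 n54029 = n69585 := (sb E67062 F223324)
theorem E70264 : n116729 = n15455 := ((((iv3 F24995)).symm.trans (sb E67063 (iv3 F182120)))).symm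
theorem E70265 : n31298 = n15458 := (((D15458).symm.trans (sb E67063 F84812))).symm
theorem E70266 : n70212 = n26058 := ((((iv1 F41202)).symm.trans (sb E67064 (iv1 F234920)))).symm
theorem F310981 : act 6 n14892 = n15457 := (sb E67064 (iv6 D32650))
theorem F310982 : act 2 n32853 = n31816 := (sb E67065 F131113)
theorem F310983 : act 5 n32853 = n31912 := (sb E67065 F85168)
theorem F310984 : act 1 n68385 = n70909 := (sb E67066 F107461)
theorem E70269 : n146302 = n68584 := (((F104792).symm.trans (sb E67066 D146302))).symm
theorem F310987 : act 0 n59994 = n70909 := (sb E67067 F107463)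
theorem E70270 : n127761 = n120106 := (((iv3 F205381)).symm.trans (sb E67067 (iv3 F230419)))
theorem E70271 : n146299 = n68583 := (((F104779).symm.trans (sb E67067 D146299))).symm
theorem E70272 : n81670 = n29172 := ((((iv1 F47757)).symm.trans (sb E67068 (iv1 F300301)))).symm
theorem F310990 : act 4 n29716 = n40181 := (sb E67068 (iv4 D86683))
theorem E70277 : n181605 = n32839 := ((F310184).symm.trans (sb E67069 (iv5 D70866)))
theorem F310991 : act 4 n55339 = n58617 := (sb E67074 (iv4 D125260))
theorem E70278 : n178681 = n54588 := ((((iv3 F86271)).symm.trans (sb E67075 (iv3 F278496)))).symm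
theorem E70279 : n142677 = n65573 := ((((iv4 F107374)).symm.trans (sb E67078 (iv4 F225565)))).symm
theorem E70280 : n67925 = n53554 := ((D67925).symm.trans (sb E67078 (iv6 D116205)))
theorem F310992 : act 4 n85817 = n62825 := (sb E67080 F215406)
theorem F310993 : act 2 n44768 = n45228 := (sb E67081 F149250)
theorem F310994 : act 7 n44768 = n45227 := (sb E67081 (iv7 D96782))
theorem F310995 : act 2 n44767 = n45227 := (sb E67082 (iv2 D96777))
theorem F310996 : act 7 n44767 = n45228 := (sb E67082 (iv7 F149249))
theorem E70281 : n148892 = n148475 := (((iv1 F233948)).symm.trans (sb E67084 F236537))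
theorem F310997 : act 4 n69802 = n70771 := (sb E67084 (iv4 D150303))
theorem F310998 : act 4 n124533 = n69231 := (sb E67085 F243180)
theorem F310999 : act 6 n124533 = n69229 := (sb E67085 F243182)
theorem F311000 : act 7 n124533 = n127676 := (sb E67085 F243183)
theorem F311001 : act 0 n45436 = n59883 := (sb E67086 (iv1 D127505))
theorem F311002 : act 5 n117207 = n97248 := (sb E67087 F199189)
theorem E70282 : n59867 = n58120 := ((F204933).symm.trans (sb E67087 (iv6 D124526)))
theorem E70283 : n170441 = n97248 := (((iv2 F267896)).symm.trans (sb E67088 (iv2 F308833)))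
theorem E70284 : n170442 = n149346 := ((D170442).symm.trans (sb E67088 (iv3 F252900)))
theorem E70285 : n103137 = n59884 := (((iv5 F158413)).symm.trans (sb E67088 F204945))
theorem E70286 : n170444 = n148500 := ((D170444).symm.trans (sb E67088 (tr (iv6 F235009) E70190)))
theorem E70287 : n170436 = n59883 := ((F267895).symm.trans (sb E67088 (iv7 D127506)))
theorem F311003 : act 0 n70163 = n97250 := (sb E67089 (iv1 F150008))
theorem F311004 : act 1 n70163 = n37345 := (sb E67089 (iv0 D81712))
theorem E70292 : n142660 = n54313 := (E67090).trans E68145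
theorem E70293 : n68918 = n66872 := (((iv5 F105091)).symm.trans (sb E70292 (iv5 D142660)))
theorem E70294 : n150468 = n66868 := (E67948).trans E69579
theorem E70296 : n170445 = n114017 := ((D170445).symm.trans (sb E67091 F229623))
theorem E70297 : n170446 = n114021 := ((D170446).symm.trans (sb E67091 F229624))
theorem F311005 : act 7 n81714 = n114018 := (sb E67091 F229622)
theorem F311006 : act 1 n119468 = n68099 := (sb E67093 (iv0 D145265))
theorem F311007 : act 0 n119467 = n68099 := (sb E67094 (iv1 D145266))
theorem F311008 : act 3 n55147 = n68099 := (sb E67095 F222139)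
theorem E70298 : n65231 = n39390 := (((F199901).symm.trans (sb E67095 (iv6 D138958)))).symm
theorem F311009 : act 3 n145267 = n119839 := (sb E67096 F274246)
theorem F311010 : act 7 n145267 = n83677 := (sb E67096 (iv7 D175205))
theorem E70299 : n83671 = n68096 := (((D68096).symm.trans (sb E67097 (iv1 F199927)))).symm
theorem E70300 : n83670 = n68097 := (((D68097).symm.trans (sb E67097 F199897))).symm
theorem E70301 : n178817 = n68098 := (((D68098).symm.trans (sb E67097 D178817))).symm
theorem E70302 : n54972 = n34274 := ((((iv7 F54368)).symm.trans (sb E67097 F199900))).symm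
theorem F311011 : act 4 n38574 = n68102 := (sb E67098 F228257)
theorem F311012 : act 7 n38574 = n68099 := (sb E67098 (iv7 D145268))
theorem E70303 : n131406 = n75559 := ((D131406).symm.trans (sb E67100 F200306))
theorem F311013 : act 0 n130059 = n84120 := (sb E67101 F305082)
theorem E70304 : n152241 = n134528 := ((((iv0 F216509)).symm.trans (sb E67101 F305083))).symm
theorem E70305 : n132953 = n124974 := (((iv2 F213578)).symm.trans (sb E67101 F305084))
theorem F311014 : act 6 n130059 = n83316 := (sb E67101 (iv6 D174312))
theorem E70306 : n130845 = n83672 := ((F210361).symm.trans (sb E67102 (iv7 D175192)))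
theorem F311015 : act 4 n38572 = n29057 := (sb E67103 (iv4 D61384))
theorem F311016 : act 7 n38572 = n61597 := (sb E67103 (iv7 F96152))
theorem F311017 : act 6 n159186 = n81652 := (sb E67104 (iv6 D170254))
theorem E70307 : n134520 = n83165 := ((D134520).symm.trans (sb E67105 (iv6 D173915)))
theorem F311018 : act 5 n83535 = n77610 := (sb E67106 (iv5 D161583))
theorem F311019 : act 3 n35435 = n38622 := (sb E67107 F128869)
theorem E70313 : n32239 = n14681 := ((((iv6 D31036)).symm.trans (sb E67108 (iv6 D69388)))).symm
theorem F311020 : act 7 n31036 = n32978 := (sb E67108 F105669)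
theorem E70314 : n146117 = n26273 := (((F85756).symm.trans (sb E67111 (iv3 F229357)))).symm
theorem E70315 : n117979 = n31877 := (((iv4 F185057)).symm.trans (sb E67111 F104712))
theorem E70317 : n163900 = n26056 := ((((iv1 D53887)).symm.trans (sb E67113 (iv1 F281036)))).symm
theorem E70318 : n163897 = n75143 := (((F112688).symm.trans (sb E67113 F281037))).symm
theorem E70319 : n124563 = n116926 := (((D116926).symm.trans (sb E67113 F281032))).symm
theorem E70320 : n116927 = n86230 := ((D116927).symm.trans (sb E67113 F281033))
theorem E70321 : n86229 = n75141 := ((((iv7 F131542)).symm.trans (sb E67113 (iv7 D180563)))).symm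
theorem E70323 : n117996 = n117164 := ((((iv3 F183289)).symm.trans (sb E67117 (iv3 F185171)))).symm
theorem E70324 : n117166 = n39270 := ((D117166).symm.trans (sb E67117 F85778))
theorem F311021 : act 1 n12519 = n14975 := (sb E67118 (iv0 D31822))
theorem E70325 : n176948 = n68111 := ((D176948).symm.trans (sb E67120 (iv1 F191389)))
theorem E70326 : n176951 = n49848 := ((D176951).symm.trans (sb E67120 (iv7 D107925)))
theorem F311022 : act 0 n81476 = n49848 := (sb E67121 (iv1 D107923))
theorem F311023 : act 1 n81476 = n99592 := (sb E67121 (iv0 F308872))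
theorem F311024 : act 2 n81476 = n68111 := (sb E67121 F237232)
theorem E70327 : n169881 = n150686 := ((D169881).symm.trans (sb E67121 (iv5 F237231)))
theorem E70328 : n176949 = n40130 := ((D176949).symm.trans (sb E67122 (iv0 D86568)))
theorem E70329 : n181294 = n99592 := ((((iv2 F153348)).symm.trans (sb E67122 D181294))).symm
theorem E70330 : n181295 = n176947 := ((((iv3 F276300)).symm.trans (sb E67122 D181295))).symm
theorem E70334 : n181299 = n49848 := (((E70326).symm.trans ((D176951).symm.trans (sb E67122 D181299)))).symm
theorem F311025 : act 1 n86569 = n68111 := (sb E67123 (iv0 F191388))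
theorem E70335 : n181300 = n61586 := ((D181300).symm.trans (sb E67123 F166747))
theorem E70336 : n181302 = n71087 := ((D181302).symm.trans (sb E67123 F166748))
theorem E70337 : n181303 = n49841 := ((D181303).symm.trans (sb E67123 (iv6 D107910)))
theorem F311026 : act 3 n74433 = n40134 := (sb E67125 F132809)
theorem E70341 : n150686 = n144480 := ((((iv7 F227306)).symm.trans (sb E67125 (tr (iv7 F302289) E70327)))).symm
theorem F311027 : act 3 n71520 = n34145 := (sb E67126 F111723)
theorem F311028 : act 5 n71520 = n34143 := (sb E67126 (iv5 D74440))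
theorem F311029 : act 7 n53882 = n74489 := (sb E67128 (iv7 D156651))
theorem E70348 : n138684 = n73483 := (((D73483).symm.trans (sb E67129 D138684))).symm
theorem F311030 : act 2 n59968 = n74489 := (sb E67130 (iv2 F111807))
theorem E70349 : n138707 = n127733 := (((D127733).symm.trans (sb E67130 D138707))).symm
theorem E70350 : n116912 = n30580 := (((iv6 F182671)).symm.trans (sb E67130 F100899))
theorem F311031 : act 0 n14504 = n27879 := (sb E67131 (iv1 F45006))
theorem F311032 : act 1 n14504 = n8790 := (sb E67131 (iv0 D18750))
theorem F311033 : act 6 n14504 = n28672 := (sb E67131 (iv6 F199729))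
theorem F311034 : act 4 n131271 = n172796 := (sb E67135 (iv4 F274235))
theorem E70351 : n175195 = n116201 := (E67136).trans E67140
theorem E70352 : n149738 = n53551 := ((((iv6 D116201)).symm.trans (sb E70351 F274237))).symm
theorem F311035 : act 7 n54007 = n65239 := (sb E67138 (iv7 D138985))
theorem F311036 : act 0 n116201 = n155942 := (sb E67140 (iv1 F244944))
theorem F311037 : act 1 n116201 = n155941 := (sb E67140 (iv0 F244943))
theorem F311038 : act 2 n116201 = n155943 := (sb E67140 (iv2 F244945))
theorem E70353 : n68008 = n53551 := ((((iv6 D116201)).symm.trans (sb E67140 (iv6 D145097)))).symm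
theorem E70354 : n144759 = n68028 := (((iv7 F227618)).symm.trans (sb E67140 F228050))
theorem E70359 : n139276 = n62232 := (E67299).trans E69211
theorem E70360 : n129789 = n74714 := ((D129789).symm.trans (sb E67837 (iv5 D157146)))
theorem F311039 : act 3 n73251 = n69848 := (sb E67145 (iv3 D148976))
theorem E70362 : n157525 = n40072 := (((F308083).symm.trans (sb E67145 (iv5 F248236)))).symm
theorem F311040 : act 1 n74967 = n61549 := (sb E67146 F304240)
theorem F311041 : act 2 n74967 = n71706 := (sb E67146 F304241)
theorem E70363 : n80177 = n76930 := ((((iv4 F115599)).symm.trans (sb E67146 (iv4 F123128)))).symm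
theorem E70364 : n157526 = n61543 := ((D157526).symm.trans (sb E67146 (iv6 F305598)))
theorem F311042 : act 7 n74967 = n36160 := (sb E67146 (iv7 D79420))
theorem F311043 : act 4 n55182 = n61504 := (sb E67148 (iv4 D131102))
theorem E70367 : n166452 = n129358 := (((D129358).symm.trans (sb E67150 (iv3 F262007)))).symm
theorem E70368 : n129359 = n36401 := ((D129359).symm.trans (sb E67150 (iv5 D79911)))
theorem E70369 : n166455 = n129360 := (((D129360).symm.trans (sb E67150 (iv6 F262010)))).symm
theorem E70373 : n117977 = n117175 := (((iv4 F185037)).symm.trans (sb E67152 F183317))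
theorem F311044 : act 5 n55642 = n30655 := (sb E67152 (iv5 D65363))
theorem E70374 : n139263 = n85485 := ((((iv6 F130693)).symm.trans (sb E67152 D139263))).symm
theorem E70375 : n139272 = n120706 := (((D120706).symm.trans (sb E67153 (iv3 F222453)))).symm
theorem E70376 : n117976 = n67920 := (((iv4 F185061)).symm.trans (sb E67153 (iv4 F104784)))
theorem F311045 : act 5 n55641 = n30656 := (sb E67153 (iv5 D65368))
theorem E70377 : n120708 = n65572 := ((D120708).symm.trans (sb E67153 (iv6 F101291)))
theorem F311046 : act 0 n54058 = n70283 := (sb E67154 (iv1 F130256))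
theorem E70378 : n155046 = n117289 := ((((iv3 F183549)).symm.trans (sb E67154 (iv3 F243818)))).symm
theorem F311047 : act 4 n54058 = n33822 := (sb E67154 F110260)
theorem E70379 : n155053 = n69648 := ((((iv5 F105964)).symm.trans (sb E67154 D155053))).symm
theorem F311048 : act 7 n54058 = n35074 := (sb E67154 F110261)
theorem E70380 : n26626 = n25987 := (((iv1 F42655)).symm.trans (sb E67155 (iv1 D53699)))
theorem E70381 : n31189 = n26625 := (((F42662).symm.trans (sb E67155 F84714))).symm
theorem E70383 : n153923 = n67335 := ((D153923).symm.trans (sb E67156 (iv1 F182295)))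
theorem E70384 : n153924 = n67334 := ((D153924).symm.trans (sb E67156 F182293))
theorem F311049 : act 2 n72834 = n53802 := (sb E67156 (iv2 D116771))
theorem E70385 : n119687 = n67336 := (((iv7 F190911)).symm.trans (sb E67156 F182290))
theorem E70386 : n153927 = n67337 := (((D67337).symm.trans (sb E67157 D153927))).symm
theorem F311050 : act 5 n31305 = n33590 := (sb E67157 (iv5 D72839))
theorem E70387 : n68933 = n67339 := (((D67339).symm.trans (sb E67157 (iv6 F190915)))).symm
theorem E70388 : n133628 = n54267 := ((((iv3 F85604)).symm.trans (sb E67161 (iv3 F214995)))).symm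
theorem E70389 : n54277 = n29663 := (((iv5 F85636)).symm.trans (sb E67161 (iv5 D62720)))
theorem E70390 : n53777 = n33796 := ((D53777).symm.trans (sb E67162 (iv1 D73525)))
theorem E70391 : n53778 = n39308 := ((D53778).symm.trans (sb E67162 F130268))
theorem E70392 : n119355 = n53762 := ((((iv2 F84776)).symm.trans (sb E67162 (iv2 F187987)))).symm
theorem E70394 : n118045 = n12327 := ((((iv6 D26009)).symm.trans (sb E67162 (iv6 F186990)))).symm
theorem F311051 : act 0 n70342 = n67332 := (sb E67167 F183571)
theorem F311052 : act 1 n70342 = n53805 := (sb E67167 F183572)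
theorem F311053 : act 2 n70342 = n67300 := (sb E67167 F183573)
theorem E70397 : n149749 = n54229 := (((iv4 F235522)).symm.trans (sb E67167 F182198))
theorem E70398 : n53798 = n32651 := ((((iv6 D70342)).symm.trans (sb E67167 (iv6 D116759)))).symm
theorem F311054 : act 7 n70342 = n67330 := (sb E67167 F183574)
theorem F311055 : act 0 n73532 = n53805 := (sb E67168 (iv1 D116781))
theorem F311056 : act 1 n73532 = n67332 := (sb E67168 F182300)
theorem F311057 : act 2 n73532 = n67330 := (sb E67168 F182316)
theorem E70399 : n154989 = n69378 := (((iv4 F243712)).symm.trans (sb E67168 F182301))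
theorem F311058 : act 7 n73532 = n67300 := (sb E67168 (iv7 F182303))
theorem F311059 : act 5 n116783 = n68949 := (sb E67169 F307329)
theorem E70400 : n117966 = n59766 := ((D117966).symm.trans (sb E67171 (iv5 D127324)))
theorem F311060 : act 5 n28346 = n26266 := (sb E67172 (iv5 D54344))
theorem E70403 : n117173 = n38927 := (((iv3 F183310)).symm.trans (sb E67174 F106540))
theorem F311061 : act 4 n54005 = n32547 := (sb E67174 F106541)
theorem E70404 : n32546 = n26116 := ((((iv6 D54005)).symm.trans (sb E67174 (iv6 D70158)))).symm
theorem F311062 : act 7 n54005 = n32615 := (sb E67174 F106542)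
theorem E70405 : n26271 = n14700 := (((iv1 F41727)).symm.trans (sb E67175 (iv1 D31092)))
theorem E70406 : n53621 = n26270 := (((F41769).symm.trans (sb E67175 F84583))).symm
theorem E70408 : n31870 = n7274 := ((((iv7 D15412)).symm.trans (sb E67175 F181013))).symm
theorem E70411 : n59759 = n32690 := (((iv3 F94120)).symm.trans (sb E68962 (iv3 D70441)))
theorem E70412 : n128147 = n59782 := (((D59782).symm.trans (sb E68962 (iv4 F206277)))).symm
theorem E70413 : n48930 = n29705 := (((iv6 F77146)).symm.trans (sb E68962 (tr D149853 E67394)))
theorem E70414 : n181769 = n118135 := (((D118135).symm.trans (sb E67177 (iv0 F282937)))).symm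
theorem F311063 : act 5 n54419 = n74160 := (sb E67177 (iv5 F229045))
theorem E70415 : n146070 = n124532 := (((D124532).symm.trans (sb E67179 D146070))).symm
theorem E70416 : n127462 = n47813 := (((F91926).symm.trans (sb E67179 (iv2 F243320)))).symm
theorem F311064 : act 3 n58122 = n31871 := (sb E67179 F104692)
theorem E70417 : n146072 = n124534 := (((D124534).symm.trans (sb E67179 D146072))).symm
theorem E70418 : n31869 = n27708 := ((((iv5 D58122)).symm.trans (sb E67179 (iv5 D68491)))).symm
theorem E70419 : n124535 = n117172 := ((D124535).symm.trans (sb E67179 (iv7 F183309)))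
theorem E70420 : n146112 = n103693 := ((((iv3 F159144)).symm.trans (sb E67182 (iv3 F229347)))).symm
theorem F311065 : act 5 n54348 = n74162 := (sb E67182 (iv5 F110874))
theorem E70423 : n117892 = n39267 := ((((iv1 F92080)).symm.trans (sb E67187 (iv1 F184884)))).symm
theorem E70424 : n146085 = n39266 := (((F92081).symm.trans (sb E67187 D146085))).symm
theorem F311066 : act 4 n58254 = n31871 := (sb E67187 (iv4 D68501))
theorem E70426 : n146087 = n27750 := (((F92079).symm.trans (sb E67187 D146087))).symm
theorem E70427 : n117174 = n27749 := ((((iv7 D58254)).symm.trans (sb E67187 (iv7 F183312)))).symm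
theorem E70428 : n76047 = n36408 := (((iv4 F113959)).symm.trans (sb E67188 F106535))
theorem F311067 : act 5 n34745 = n33800 := (sb E67188 F106534)
theorem E70430 : n32543 = n26117 := ((((iv1 F41318)).symm.trans (sb E67189 D32543))).symm
theorem E70431 : n32544 = n7137 := ((((iv0 D15001)).symm.trans (sb E67189 D32544))).symm
theorem F311068 : act 6 n15001 = n7285 := (sb E67189 F24966)
theorem F311069 : act 1 n130073 = n79796 := (sb E67192 (iv0 D166192))
theorem E70434 : n132898 = n59782 := ((F213473).symm.trans (sb E67195 (tr (iv0 F206278) E70412)))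
theorem E70435 : n133140 = n55839 := (((iv3 F213861)).symm.trans (sb E67195 (iv3 D121038)))
theorem F311070 : act 6 n62466 = n79796 := (sb E67195 F193014)
theorem E70437 : n150561 = n83551 := ((F309319).symm.trans (sb E67196 F273823))
theorem F311071 : act 3 n101478 = n83551 := (sb E67197 (iv3 D174924))
theorem E70438 : n174926 = n70970 := (((F113923).symm.trans (iv2 (sb E67198 (tr F275389 E68036))))).symm
theorem F311072 : act 2 n79423 = n79796 := (sb E67199 (iv2 D166194))
theorem E70439 : n165323 = n84009 := ((D165323).symm.trans (sb E67199 F302323))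
theorem F311073 : act 7 n79423 = n83551 := (sb E67199 (iv7 F308912))
theorem E70440 : n161514 = n83312 := (((F262995).symm.trans (sb E67200 F275384))).symm
theorem E70441 : n83079 = n55056 := ((((iv3 F87078)).symm.trans (sb E67206 (iv3 D173721)))).symm
theorem F311074 : act 3 n39321 = n56075 := (sb E67208 (iv3 D121459))
theorem E70442 : n132709 = n85032 := (((D85032).symm.trans (sb E67208 F306867))).symm
theorem F311075 : act 3 n121461 = n85031 := (sb E67209 F278289)
theorem E70443 : n176414 = n28829 := ((((iv0 F46470)).symm.trans (sb E67212 F282695))).symm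
theorem E70444 : n132963 = n83010 := (((iv1 F213600)).symm.trans (sb E67213 (iv1 D173509)))
theorem F311076 : act 4 n130071 = n84125 := (sb E67213 F274307)
theorem F311077 : act 2 n130072 = n83938 := (sb E67214 (iv2 F274326))
theorem E70445 : n132819 = n83947 := (((D83947).symm.trans (sb E67216 (iv1 F213307)))).symm
theorem E70446 : n83948 = n68809 := ((D83948).symm.trans (sb E67216 (tr F213313 E69257)))
theorem F311078 : act 7 n38664 = n61076 := (sb E67216 (iv7 D130079))
theorem F311079 : act 7 n62332 = n83941 := (sb E67217 F272055)
theorem E70447 : n180712 = n133152 := ((((iv3 F213896)).symm.trans (sb E67218 (iv3 F281245)))).symm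
theorem F311080 : act 6 n62471 = n77020 := (sb E67218 (iv6 D160623))
theorem F311081 : act 3 n85902 = n61398 := (sb E67219 (iv3 D130861))
theorem F311082 : act 4 n85902 = n133733 := (sb E67219 (iv4 F215260))
theorem E70448 : n131148 = n57473 := (((F305157).symm.trans (sb E67219 (iv7 F210051)))).symm
theorem E70449 : n119159 = n27436 := ((D119159).symm.trans (sb E67220 (iv3 D57302)))
theorem E70450 : n123144 = n119160 := (((D119160).symm.trans (sb E67220 D123144))).symm
theorem F311083 : act 7 n54837 = n27566 := (sb E67220 (iv7 F90460))
theorem E70451 : n143506 = n73458 := ((D143506).symm.trans (sb E67221 F199508))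
theorem F311084 : act 5 n67215 = n58285 := (sb E67221 (iv5 D124703))
theorem E70452 : n149803 = n65622 := (((F101360).symm.trans (sb E68100 (iv5 F235664)))).symm
theorem E70455 : n156621 = n124140 := ((((iv2 F198594)).symm.trans (sb E67225 (iv2 F246327)))).symm
theorem F311085 : act 3 n58337 = n34301 := (sb E67225 F111800)
theorem E70456 : n156629 = n124777 := (((D124777).symm.trans (sb E67225 D156629))).symm
theorem E70457 : n65185 = n33594 := (((F199702).symm.trans (sb E67225 F111801))).symm
theorem E70458 : n153933 = n107876 := (((D107876).symm.trans (sb E67226 D153933))).symm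
theorem E70461 : n83166 = n83081 := ((((iv1 F128058)).symm.trans (sb E67228 (iv1 F188755)))).symm
theorem E70462 : n83165 = n18422 := ((((iv0 D38737)).symm.trans (sb E67228 F188756))).symm
theorem E70463 : n83168 = n83080 := (((F275600).symm.trans (sb E67228 F188751))).symm
theorem F311086 : act 3 n38737 = n56077 := (sb E67228 F188752)
theorem E70464 : n84073 = n73624 := ((D84073).symm.trans (sb E67228 F188753))
theorem F311087 : act 3 n121466 = n84072 := (sb E67229 F275572)
theorem E70465 : n84075 = n83164 := (((F192711).symm.trans (sb E67231 (iv2 D176300)))).symm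
theorem E70466 : n124077 = n123218 := ((((iv4 F197513)).symm.trans (sb E67231 (iv4 F275592)))).symm
theorem E70467 : n108238 = n39753 := (((F60598).symm.trans (sb E67234 (iv4 F207919)))).symm
theorem F311088 : act 3 n39316 = n62748 := (sb E67236 F207887)
theorem E70468 : n85022 = n60929 := ((D85022).symm.trans (sb E67236 (iv6 D129704)))
theorem E70469 : n157071 = n85085 := (((D85085).symm.trans (sb E67237 (iv0 F247166)))).symm
theorem F311089 : act 3 n39344 = n60945 := (sb E67237 F207913)
theorem E70470 : n85087 = n60937 := ((D85087).symm.trans (sb E67237 F207914))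
theorem E70471 : n84952 = n60931 := (((D60931).symm.trans (sb E67238 (iv1 F155239)))).symm
theorem E70472 : n85089 = n60932 := (((D60932).symm.trans (sb E67238 D85089))).symm
theorem F311090 : act 6 n28894 = n18655 := (sb E67238 (iv6 D39345))
theorem E70474 : n85091 = n29467 := ((((iv7 F47246)).symm.trans (sb E67238 D85091))).symm
theorem F311091 : act 3 n129762 = n84081 := (sb E67239 (iv3 D176316))
theorem E70475 : n84043 = n60939 := (((D60939).symm.trans (sb E67243 (iv3 D176211)))).symm
theorem F311093 : act 6 n129904 = n83160 := (sb E67247 (iv6 D173901))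
theorem E70476 : n132926 = n82993 := (((iv3 F213548)).symm.trans (sb E67248 (iv3 D173446)))
theorem E70477 : n158318 = n132959 := ((((iv4 F213589)).symm.trans (sb E67248 F271906))).symm
theorem E70478 : n179366 = n61653 := ((((iv3 D131357)).symm.trans (sb E67249 F279294))).symm
theorem F311094 : act 0 n173653 = n83938 := (sb E69623 (iv1 F275261))
theorem E70481 : n130018 = n18392 := (((D18392).symm.trans (sb E67261 F208485))).symm
theorem F311095 : act 3 n38213 = n61076 := (sb E67263 F208481)
theorem E70483 : n130002 = n83039 := (((D83039).symm.trans (sb E67263 F208483))).symm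
theorem E70484 : n83040 = n61068 := ((D83040).symm.trans (sb E67263 F208482))
theorem F311096 : act 3 n29156 = n40181 := (sb E67264 F132922)
theorem F311097 : act 0 n130076 = n83941 := (sb E67265 (iv1 F272061))
theorem F311098 : act 1 n130077 = n83941 := (sb E67266 F272062)
theorem F311099 : act 7 n130078 = n83949 := (sb E67267 F272063)
theorem E70487 : n83893 = n55280 := ((D83893).symm.trans (sb E67269 (iv3 D120127)))
theorem F311100 : act 2 n130158 = n83046 := (sb E67270 F272112)
theorem F311101 : act 6 n130158 = n83044 := (sb E67270 (iv6 D173636))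
theorem F311102 : act 4 n73084 = n69833 := (sb E67276 (iv4 D148966))
theorem F311103 : act 3 n86587 = n78291 := (sb E67277 F257153)
theorem E70489 : n181350 = n78290 := ((D181350).symm.trans (sb E67277 (iv5 D162859)))
theorem E70491 : n150761 = n30574 := ((((iv1 F53740)).symm.trans (sb E67279 (iv1 F237326)))).symm
theorem F311104 : act 5 n34178 = n71521 := (sb E67279 F308651)
theorem E70493 : n150651 = n74532 := (((D74532).symm.trans (sb E67279 (iv6 F252877)))).symm
theorem F311105 : act 2 n151749 = n138394 := (sb E67280 F246138)
theorem F311106 : act 1 n149001 = n108269 := (sb E67281 F246143)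
theorem F311107 : act 2 n149001 = n130345 := (sb E67281 F246140)
theorem E70495 : n150800 = n74534 := ((F237368).symm.trans (sb E67281 F246141))
theorem F311108 : act 7 n149001 = n138392 := (sb E67281 F246142)
theorem F311109 : act 5 n34179 = n71522 := (sb E67283 F308257)
theorem E70497 : n150803 = n74537 := (((D74537).symm.trans (sb E67283 D150803))).symm
theorem F311110 : act 3 n60345 = n34139 := (sb E67286 (iv3 D74423))
theorem E70498 : n128349 = n74719 := ((D128349).symm.trans (sb E67286 F112138))
theorem E70499 : n156502 = n128350 := (((D128350).symm.trans (sb E67286 D156502))).symm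
theorem F311111 : act 5 n60343 = n34139 := (sb E67287 F208793)
theorem E70500 : n138674 = n128345 := (((D128345).symm.trans (sb E67287 D138674))).symm
theorem E70501 : n156508 = n150896 := ((((iv1 F237615)).symm.trans (sb E67288 D156508))).symm
theorem E70503 : n150909 = n65000 := ((D150909).symm.trans (sb E67288 F212191))
theorem E70504 : n156507 = n150910 := (((D150910).symm.trans (sb E67288 (iv4 F246076)))).symm
theorem E70505 : n156510 = n150911 := (((D150911).symm.trans (sb E67288 D156510))).symm
theorem F311112 : act 6 n71143 = n34139 := (sb E67288 (iv6 D74426))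
theorem E70506 : n156511 = n150912 := (((D150912).symm.trans (sb E67288 D156511))).symm
theorem E70507 : n85375 = n64965 := ((((iv1 F111678)).symm.trans (sb E67289 (iv1 F200663)))).symm
theorem E70508 : n64964 = n58403 := ((F111676).symm.trans (sb E67289 (iv0 D124938)))
theorem E70509 : n179160 = n156475 := (((D156475).symm.trans (sb E67289 (iv5 F279117)))).symm
theorem F311113 : act 0 n39448 = n64966 := (sb E67290 (iv1 F111673))
theorem F311114 : act 1 n39448 = n34134 := (sb E67290 (iv0 D74410))
theorem E70510 : n156467 = n64965 := (((E70507).symm.trans (((iv2 F130640)).symm.trans (sb E67290 D156467)))).symm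
theorem E70512 : n138618 = n85411 := (((D85411).symm.trans (sb E67290 (iv5 F246477)))).symm
theorem E70515 : n156477 = n125020 := ((D156477).symm.trans (sb E67293 F278949))
theorem E70518 : n150691 = n144481 := ((((iv7 F227312)).symm.trans (sb E67294 F278951))).symm
theorem E70519 : n118298 = n64968 := (((D64968).symm.trans (sb E67295 F200666))).symm
theorem E70522 : n65010 = n32902 := ((F103734).symm.trans (sb E67296 (iv6 D71052)))
theorem E70523 : n69808 = n65007 := (((D65007).symm.trans (sb E67297 (iv1 F191252)))).symm
theorem E70524 : n80598 = n65008 := (((D65008).symm.trans (sb E67297 (iv0 F189464)))).symm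
theorem E70525 : n65009 = n32706 := ((D65009).symm.trans (sb E67297 F86028))
theorem E70526 : n132635 = n65369 := ((D132635).symm.trans (sb E70359 (iv5 D139276)))
theorem E70527 : n132614 = n68811 := (((iv6 F212851)).symm.trans (sb E70359 (tr (iv6 F222878) E68157)))
theorem E70528 : n141575 = n54851 := ((((iv2 F185102)).symm.trans (sb E67301 (iv2 F224623)))).symm
theorem E70529 : n70235 = n65679 := ((F307198).symm.trans (sb E67301 (iv4 D139912)))
theorem E70530 : n139277 = n65683 := (((iv6 F309111)).symm.trans (sb E67301 F223129))
theorem E70531 : n66981 = n55074 := ((((iv6 F87088)).symm.trans (sb E67302 (iv6 D142943)))).symm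
theorem F311115 : act 4 n146696 = n180619 := (sb E67303 (iv4 F281140))
theorem F311116 : act 5 n146696 = n73729 := (sb E67303 F243829)
theorem E70532 : n180618 = n69735 := (((F230032).symm.trans (sb E67303 (iv6 F281136)))).symm
theorem F311117 : act 5 n33877 = n33979 := (sb E67304 (iv5 D74044))
theorem E70533 : n157143 = n55071 := ((((iv3 F185065)).symm.trans (sb E67305 (iv3 F247301)))).symm
theorem E70534 : n76745 = n66856 := ((D76745).symm.trans (sb E67305 (iv6 F112132)))
theorem E70535 : n16340 = n14732 := (((iv1 F42663)).symm.trans (sb E67306 (iv1 D31187)))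
theorem E70536 : n53701 = n16339 := (((F42667).symm.trans (sb E67306 F84721))).symm
theorem E70537 : n116785 = n73530 := (((iv1 F182322)).symm.trans (sb E67307 F188709))
theorem F311118 : act 3 n67313 = n72834 := (sb E67307 (iv3 F190910))
theorem F311119 : act 5 n67313 = n55048 := (sb E67307 (iv5 D119648))
theorem E70538 : n116786 = n55069 := (((iv7 F182320)).symm.trans (sb E67307 F188708))
theorem E70539 : n143710 = n73530 := ((D143710).symm.trans (sb E67308 (iv2 F188793)))
theorem E70540 : n143711 = n73467 := ((D143711).symm.trans (sb E67308 (iv3 F232645)))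
theorem E70541 : n143713 = n71995 := ((D143713).symm.trans (sb E67308 F188791))
theorem E70542 : n143714 = n131168 := ((D143714).symm.trans (sb E67308 (iv6 F210086)))
theorem E70543 : n143716 = n55082 := ((D143716).symm.trans (sb E67309 F188798))
theorem E70544 : n143718 = n72054 := ((D143718).symm.trans (sb E67309 (iv5 F188796)))
theorem E70545 : n143719 = n70299 := ((D143719).symm.trans (sb E67309 (iv6 F188797)))
theorem F311120 : act 5 n53807 = n55049 := (sb E67311 (iv5 D119650))
theorem E70546 : n117396 = n116789 := (((D116789).symm.trans (sb E67311 (iv6 F188717)))).symm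
theorem E70547 : n116666 = n54930 := (((iv1 F182024)).symm.trans (sb E67312 (iv1 F187981)))
theorem E70548 : n116665 = n54925 := ((F182028).symm.trans (sb E67312 (iv0 D119354)))
theorem E70549 : n116667 = n73524 := (((iv2 F182025)).symm.trans (sb E67312 (iv2 F187982)))
theorem E70550 : n74689 = n55323 := (((iv5 F112090)).symm.trans (sb E67312 F187980))
theorem E70551 : n131186 = n32277 := (((F84794).symm.trans (sb E67312 (iv6 F210134)))).symm
theorem F311121 : act 6 n34234 = n32730 := (sb E67313 (iv6 D70562))
theorem E70552 : n149341 = n31274 := ((((iv4 F49563)).symm.trans (sb E67315 F261804))).symm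
theorem E70553 : n70320 = n7029 := ((((iv6 D14754)).symm.trans (sb E67315 (iv6 D149716)))).symm
theorem E70555 : n54375 = n7032 := (((D7032).symm.trans (sb E67317 F85830))).symm
theorem E70557 : n116734 = n26175 := ((F182341).symm.trans (sb E67319 (iv0 D54100)))
theorem F311123 : act 4 n53810 = n70906 := (sb E67319 F110658)
theorem E70558 : n117397 = n116793 := (((D116793).symm.trans (sb E67319 D117397))).symm
theorem F311124 : act 3 n39318 = n61479 := (sb E67320 F207884)
theorem F311125 : act 5 n31543 = n61479 := (sb E67321 F102726)
theorem F311126 : act 3 n119829 = n133709 := (sb E67322 (iv3 F215199))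
theorem F311127 : act 4 n119829 = n61511 := (sb E67322 F209986)
theorem F311128 : act 2 n40158 = n86595 := (sb E67324 F279580)
theorem F311129 : act 4 n123172 = n86595 := (sb E67325 (iv4 D181373))
theorem F311130 : act 2 n133778 = n86645 := (sb E67327 F282613)
theorem E70563 : n145794 = n135464 := (((D135464).symm.trans (sb E67328 (tr F250456 E70238)))).symm
theorem E70564 : n160964 = n69896 := (((F155491).symm.trans (sb E67331 D160964))).symm
theorem E70565 : n80174 = n35264 := (((iv4 F304355)).symm.trans (sb E67331 (iv4 D77247)))
theorem E70566 : n59967 = n29704 := ((((iv6 D62787)).symm.trans (sb E67331 F116009))).symm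
theorem F311131 : act 7 n62787 = n49873 := (sb E67331 F116013)
theorem E70567 : n160554 = n83227 := ((D160554).symm.trans (sb E67332 F128302))
theorem F311132 : act 4 n76977 = n70815 := (sb E67332 F305656)
theorem E70569 : n160555 = n77691 := ((D160555).symm.trans (sb E67332 F123355))
theorem F311133 : act 0 n58612 = n75124 := (sb E67334 F112626)
theorem F311134 : act 4 n58612 = n29732 := (sb E67334 F98047)
theorem F311135 : act 5 n58612 = n66134 := (sb E67334 (iv5 F101765))
theorem F311136 : act 5 n55258 = n75124 := (sb E67335 (iv5 D157680))
theorem F311137 : act 4 n54414 = n61510 := (sb E67336 (iv4 D131112))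
theorem F311138 : act 7 n54414 = n75124 := (sb E67336 F209987)
theorem F311139 : act 6 n33874 = n16670 := (sb E67339 (iv6 D34393))
theorem E70572 : n160556 = n18638 := (((F56165).symm.trans (sb E67340 D160556))).symm
theorem E70573 : n77694 = n35258 := ((D77694).symm.trans (sb E67340 F115711))
theorem F311140 : act 7 n35467 = n76205 := (sb E67340 F115710)
theorem E70575 : n159269 = n132342 := ((((iv3 F212314)).symm.trans (sb E67343 (iv3 F250754)))).symm
theorem E70576 : n132360 = n34805 := (((iv5 F212346)).symm.trans (sb E67343 (iv5 D76199)))
theorem E70577 : n159271 = n60877 := (((F96763).symm.trans (sb E67343 D159271))).symm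
theorem E70578 : n159262 = n60785 := ((((iv3 F95364)).symm.trans (sb E67345 (iv3 F250750)))).symm
theorem E70579 : n60792 = n34804 := ((D60792).symm.trans (sb E67345 (iv5 D76196)))
theorem E70581 : n140223 = n6720 := (((F10964).symm.trans (sb E67346 (iv0 F244408)))).symm
theorem E70582 : n160515 = n133106 := ((((iv3 F213755)).symm.trans (sb E67347 (iv3 F253571)))).symm
theorem E70583 : n133116 = n35161 := (((iv5 F213789)).symm.trans (sb E67347 (iv5 D76963)))
theorem E70584 : n160517 = n61208 := (((F97336).symm.trans (sb E67347 D160517))).symm
theorem E70585 : n160504 = n34599 := ((((iv3 F307594)).symm.trans (sb E67348 (iv3 F253547)))).symm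
theorem E70586 : n61198 = n35158 := ((D61198).symm.trans (sb E67348 (iv5 D76955)))
theorem F311141 : act 5 n130423 = n79890 := (sb E67349 (iv5 D166393))
theorem F311142 : act 5 n36395 = n61196 := (sb E67350 (iv5 D130424))
theorem E70588 : n133111 = n55757 := ((((iv7 F302670)).symm.trans (sb E67350 (iv7 F213773)))).symm
theorem E70589 : n143808 = n61218 := (((F209050).symm.trans (sb E67351 F261976))).symm
theorem E70590 : n83947 = n79891 := ((E70445).symm.trans ((F213308).symm.trans (sb E67351 (iv5 D166396))))
theorem E70591 : n180192 = n46186 := (((F306583).symm.trans (sb E67352 F304964))).symm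
theorem E70592 : n69583 = n61815 := (((F103954).symm.trans (sb E67353 (iv1 D148507)))).symm
theorem F311143 : act 1 n68678 = n107863 := (sb E67354 F210423)
theorem F311144 : act 2 n68678 = n61628 := (sb E67354 F210419)
theorem E70593 : n146506 = n133718 := ((D146506).symm.trans (sb E67354 (iv4 F215225)))
theorem F311145 : act 5 n68678 = n61616 := (sb E67354 (iv5 D131295))
theorem E70594 : n146508 = n116444 := ((D146508).symm.trans (sb E67354 F210421))
theorem E70595 : n33915 = n31161 := (((F84675).symm.trans (sb E67355 F183861))).symm
theorem E70596 : n32050 = n25979 := ((((iv0 D53669)).symm.trans (sb E67355 F183862))).symm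
theorem E70597 : n141591 = n116208 := ((((iv4 F181100)).symm.trans (sb E67355 (iv4 F224660)))).symm
theorem F311146 : act 6 n53669 = n31978 := (sb E67355 (iv6 D68738))
theorem E70598 : n117389 = n31159 := ((((iv7 F84674)).symm.trans (sb E67355 (iv7 F200177)))).symm
theorem F311147 : act 6 n14521 = n12941 := (sb E67356 (iv6 D27016))
theorem F311148 : act 3 n39355 = n29700 := (sb E67359 F97093)
theorem E70600 : n132704 = n34684 := (((F130138).symm.trans (sb E67359 D132704))).symm
theorem E70601 : n132705 = n84930 := (((F130139).symm.trans (sb E67359 D132705))).symm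
theorem F311149 : act 4 n62273 = n79375 := (sb E67360 (iv4 D165212))
theorem E70602 : n132697 = n85136 := ((D132697).symm.trans (sb E67360 F304108))
theorem F311150 : act 4 n33871 = n62789 := (sb E67361 (iv4 F210384))
theorem F311151 : act 4 n39362 = n29648 := (sb E67362 F97823)
theorem E70604 : n66863 = n32335 := (((iv0 F103218)).symm.trans (sb E67363 (iv0 F105966)))
theorem E70605 : n147025 = n143771 := ((((iv3 F226430)).symm.trans (sb E67363 (iv3 F230477)))).symm
theorem F311152 : act 6 n67347 = n32310 := (sb E67363 F105105)
theorem F311153 : act 2 n124054 = n86642 := (sb E67364 F282611)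
theorem F311154 : act 3 n45219 = n86642 := (sb E68801 (iv3 D181519))
theorem F311155 : act 0 n123911 = n151988 := (sb E67366 F239002)
theorem F311156 : act 1 n123911 = n151500 := (sb E67366 (iv0 F238354))
theorem F311157 : act 2 n123911 = n151986 := (sb E67366 F238998)
theorem F311158 : act 5 n123911 = n136646 := (sb E67366 (iv5 F219793))
theorem F311159 : act 1 n61632 = n86566 := (sb E67367 (iv0 D181286))
theorem F311160 : act 5 n65341 = n86566 := (sb E67368 (iv5 D181288))
theorem F311161 : act 6 n65341 = n128133 := (sb E67368 F282370)
theorem F311162 : act 7 n124054 = n86566 := (sb E67369 (iv7 D181289))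
theorem F311163 : act 5 n40144 = n57796 := (sb E67371 (iv5 D124057))
theorem E70606 : n85832 = n61541 := (((F96202).symm.trans (sb E67373 (iv1 F304345)))).symm
theorem E70607 : n85831 = n71640 := ((((iv0 F108131)).symm.trans (sb E67373 (iv0 F304344)))).symm
theorem E70608 : n131336 = n58505 := ((D131336).symm.trans (sb E67373 (iv3 F304341)))
theorem F311164 : act 6 n61635 = n57817 := (sb E67373 (iv6 D124082))
theorem E70610 : n145930 = n66445 := ((D145930).symm.trans (sb E67376 (iv6 D141689)))
theorem E70611 : n142633 = n66446 := ((D142633).symm.trans (sb E67380 (iv6 D141691)))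
theorem E70612 : n68072 = n53557 := ((((iv1 F84485)).symm.trans (sb E67381 F182714))).symm
theorem E70613 : n31905 = n14672 := ((((iv0 D31016)).symm.trans (sb E67381 F182715))).symm
theorem F311165 : act 6 n31016 = n31859 := (sb E67381 (iv6 D68471))
theorem E70614 : n117217 = n53555 := ((((iv7 F84478)).symm.trans (sb E67381 (iv7 F199981)))).symm
theorem E70615 : n175070 = n131339 := (((D131339).symm.trans (sb E67382 (iv2 F274044)))).symm
theorem F311166 : act 5 n61636 = n70572 := (sb E67382 (iv5 D150015))
theorem E70616 : n131342 = n114682 := ((D131342).symm.trans (sb E67382 F235993))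
theorem F311167 : act 1 n62799 = n39570 := (sb E67386 (iv0 F121586))
theorem E70619 : n133760 = n84411 := ((((iv6 F129558)).symm.trans (sb E67387 D133760))).symm
theorem F311168 : act 4 n33393 = n39570 := (sb E67388 (iv4 D85648))
theorem F311169 : act 6 n61593 = n39570 := (sb E67389 (iv6 D85649))
theorem F311170 : act 3 n27874 = n31708 := (sb E67390 F104244)
theorem F311171 : act 4 n27881 = n31708 := (sb E67392 F100794)
theorem F311172 : act 4 n33400 = n55596 := (sb E67395 (iv4 D120650))
theorem F311173 : act 3 n120651 = n131633 := (sb E67396 F210867)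
theorem F311174 : act 4 n120651 = n72355 := (sb E67396 F205889)
theorem F311175 : act 5 n120651 = n155944 := (sb E67396 (iv5 F244952))
theorem F311176 : act 7 n120651 = n131778 := (sb E67396 (iv7 F211144))
theorem F311177 : act 4 n78336 = n81680 := (sb E67397 (iv4 D170333))
theorem E70627 : n128069 = n81677 := ((D128069).symm.trans (sb E67398 (iv5 D170320)))
theorem F311178 : act 6 n60184 = n81680 := (sb E67398 F267822)
theorem F311179 : act 5 n70483 = n55115 := (sb E67399 (iv5 D119780))
theorem F311180 : act 5 n62721 = n34350 := (sb E67400 F112494)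
theorem F311181 : act 7 n62721 = n34349 := (sb E67400 (iv7 D74969))
theorem E70628 : n159234 = n18248 := (((F57362).symm.trans (sb E67401 (iv3 F250726)))).symm
theorem E70629 : n80176 = n34797 := ((D80176).symm.trans (sb E67401 (iv5 D76177)))
theorem F311182 : act 3 n130472 = n119832 := (sb E67402 (iv3 F253733))
theorem E70631 : n130472 = n107852 := (((D107852).symm.trans (iv4 (sb E67402 (tr (iv4 F253734) E67403))))).symm
theorem E70633 : n118407 = n66317 := ((((iv1 F102229)).symm.trans (sb E67403 F309016))).symm
theorem E70634 : n118404 = n66316 := (((F102226).symm.trans (sb E67403 F309017))).symm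
theorem E70635 : n107841 = n54418 := (((iv3 F166571)).symm.trans (sb E67403 (iv3 D118131)))
theorem E70636 : n71230 = n59780 := (((D59780).symm.trans (sb E67405 F107714))).symm
theorem E70637 : n71234 = n59781 := (((D59781).symm.trans (sb E67405 F186049))).symm
theorem E70639 : n159220 = n83499 := (((iv3 F250714)).symm.trans (sb E67407 (iv3 F128602)))
theorem F311183 : act 4 n76163 = n71706 := (sb E67407 F304248)
theorem E70641 : n159221 = n80223 := ((D159221).symm.trans (sb E67407 (iv6 F123238)))
theorem F311184 : act 0 n61509 = n119830 := (sb E67408 F189109)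
theorem F311185 : act 1 n61509 = n33871 := (sb E67408 (iv0 D73711))
theorem F311186 : act 2 n61509 = n39362 := (sb E67408 F199823)
theorem F311187 : act 7 n61509 = n119829 := (sb E67408 F200207)
theorem E70642 : n107997 = n83632 := ((D107997).symm.trans (sb E67409 F236893))
theorem E70643 : n154941 = n139207 := (((D139207).symm.trans (sb E67410 (iv2 F243643)))).symm
theorem E70644 : n139208 = n72604 := ((D139208).symm.trans (sb E67410 F241345))
theorem E70645 : n139210 = n119330 := ((D139210).symm.trans (sb E67410 F241346))
theorem E70646 : n139211 = n72601 := ((D139211).symm.trans (sb E67410 (iv6 D153549)))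
theorem E70647 : n160116 = n139212 := (((D139212).symm.trans (sb E67410 (iv7 F252717)))).symm
theorem E70648 : n119362 = n74688 := ((F188007).symm.trans (sb E67411 (iv1 F247139)))
theorem E70649 : n74687 = n54729 := ((((iv0 D118917)).symm.trans (sb E67411 F247140))).symm
theorem F311188 : act 3 n118917 = n139184 := (sb E67411 F247134)
theorem F311189 : act 4 n118917 = n135454 := (sb E67411 F247135)
theorem E70650 : n85167 = n74672 := ((F186984).symm.trans (sb E67411 (iv7 D157039)))
theorem E70652 : n151966 = n117803 := ((((iv6 F184490)).symm.trans (sb E67412 (iv6 F243604)))).symm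
theorem E70653 : n139207 = n139182 := (((D139182).symm.trans (sb E67413 (tr F278563 E70643)))).symm
theorem E70654 : n139212 = n139183 := (((D139183).symm.trans (sb E67413 (tr F278564 E70647)))).symm
theorem E70655 : n84418 = n48029 := ((((iv1 F75489)).symm.trans (sb E67414 (iv1 F276550)))).symm
theorem F311190 : act 2 n38924 = n48028 := (sb E67416 (iv2 D103698))
theorem F311191 : act 7 n103699 = n84419 := (sb E67417 F276552)
theorem F311192 : act 2 n103700 = n84415 := (sb E67418 F276553)
theorem F311193 : act 7 n103700 = n84420 := (sb E67418 F276554)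
theorem F311194 : act 2 n103701 = n84416 := (sb E67419 F276555)
theorem F311195 : act 7 n103701 = n84421 := (sb E67419 F276556)
theorem F311196 : act 7 n38925 = n48028 := (sb E67420 (iv7 D103703))
theorem E70656 : n176285 = n133684 := ((((iv1 F215123)).symm.trans (sb E67421 F281871))).symm
theorem F311197 : act 4 n132906 = n86459 := (sb E67421 (iv4 D181030))
theorem F311198 : act 5 n61675 = n86459 := (sb E67422 (iv5 D181031))
theorem F311199 : act 6 n61655 = n86459 := (sb E67423 (iv6 D181032))
theorem F311200 : act 2 n132989 = n86460 := (sb E67424 F281873)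
theorem F311201 : act 7 n132989 = n86459 := (sb E67424 (iv7 D181033))
theorem E70657 : n181812 = n131374 := (((F210585).symm.trans (sb E67425 (iv1 F283004)))).symm
theorem F311202 : act 1 n61680 = n56064 := (sb E67425 (iv0 F152486))
theorem E70658 : n131415 = n46294 := (((iv3 F210632)).symm.trans (sb E67425 (iv3 D98944)))
theorem E70659 : n131419 = n82564 := ((D131419).symm.trans (sb E67425 F272697))
theorem E70660 : n82559 = n62390 := (((F213509).symm.trans (sb E67426 (iv2 D172425)))).symm
theorem F311203 : act 3 n121440 = n62407 := (sb E67427 (iv3 D133003))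
theorem F311204 : act 4 n121440 = n131337 := (sb E67427 F213653)
theorem F311205 : act 6 n121440 = n131390 := (sb E67427 (iv6 F213657))
theorem F311206 : act 7 n121440 = n131391 := (sb E67427 F213654)
theorem F311207 : act 3 n18485 = n29698 := (sb E67428 F79119)
theorem F311208 : act 7 n18485 = n24394 := (sb E67428 F79120)
theorem F311209 : act 3 n16792 = n29741 := (sb E67429 F96883)
theorem E70661 : n132472 = n34677 := (((D34677).symm.trans (sb E67429 D132472))).symm
theorem E70662 : n132473 = n34678 := (((D34678).symm.trans (sb E67429 D132473))).symm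
theorem F311210 : act 2 n62845 = n69573 := (sb E67430 (iv2 F130907))
theorem E70663 : n158919 = n133822 := (((D133822).symm.trans (sb E67430 D158919))).symm
theorem E70664 : n133823 = n118830 := ((D133823).symm.trans (sb E67431 (iv1 F243999)))
theorem E70665 : n158920 = n133824 := (((D133824).symm.trans (sb E67431 D158920))).symm
theorem F311211 : act 2 n32299 = n61768 := (sb E67432 F210876)
theorem F311212 : act 5 n32299 = n61765 := (sb E67432 (iv5 D131636))
theorem F311213 : act 3 n69763 = n61613 := (sb E67434 (iv3 D131288))
theorem F311214 : act 0 n131289 = n70779 := (sb E67436 (iv1 F236505))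
theorem F311215 : act 1 n131289 = n70778 := (sb E67436 F236506)
theorem F311216 : act 2 n131289 = n70781 := (sb E67436 F236501)
theorem F311217 : act 3 n131289 = n148839 := (sb E67436 F236502)
theorem F311218 : act 4 n131289 = n146548 := (sb E67436 F236503)
theorem F311219 : act 7 n131289 = n70758 := (sb E67436 (iv7 D150280))
theorem F311220 : act 5 n60039 = n39554 := (sb E67438 F131264)
theorem E70678 : n159100 = n133967 := (((D133967).symm.trans (sb E67442 D159100))).symm
theorem F311221 : act 2 n74910 = n120651 := (sb E67444 (iv2 F301869))
theorem E70690 : n75976 = n74899 := ((((iv2 F307947)).symm.trans (sb E67446 F236789))).symm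
theorem F311222 : act 3 n86598 = n70869 := (sb E67446 (iv3 D150417))
theorem E70691 : n148988 = n136655 := ((((iv4 F309085)).symm.trans (sb E67446 F236790))).symm
theorem E70692 : n128276 = n38920 := (((D38920).symm.trans (sb E67447 (iv3 F206399)))).symm
theorem E70693 : n128302 = n10334 := (((F29671).symm.trans (sb E67447 (iv4 F206421)))).symm
theorem E70694 : n38921 = n28650 := ((D38921).symm.trans (sb E67447 (iv6 D60315)))
theorem F311223 : act 5 n21575 = n28651 := (sb E67448 (iv5 D60319))
theorem F311224 : act 6 n31561 = n26278 := (sb E67453 (iv6 D54368))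
theorem E70701 : n118024 = n28692 := (((F49894).symm.trans (sb E67453 D118024))).symm
theorem F311225 : act 4 n7340 = n15215 := (sb E67462 F49043)
theorem E70707 : n30797 = n3403 := ((((iv1 F9285)).symm.trans (sb E67463 F53689))).symm
theorem E70708 : n30793 = n2520 := ((((iv0 D5971)).symm.trans (sb E67463 (iv0 F49231)))).symm
theorem F311226 : act 2 n49025 = n52942 := (sb E67465 F106712)
theorem E70713 : n106080 = n52921 := ((D106080).symm.trans (sb E67465 F106714))
theorem F311227 : act 6 n49025 = n32613 := (sb E67465 (iv6 D70269))
theorem E70715 : n80277 = n61711 := ((((iv4 F96309)).symm.trans (sb E67466 F278116))).symm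
theorem E70716 : n174416 = n149030 := ((((iv4 F234315)).symm.trans (sb E67467 (iv4 F273296)))).symm
theorem E70717 : n83569 = n61721 := (((iv1 F155093)).symm.trans (sb E67468 F232783))
theorem F311228 : act 4 n38560 = n50051 := (sb E67468 (iv4 D108394))
theorem E70718 : n106085 = n35060 := ((((iv3 F55675)).symm.trans (sb E67470 D106085))).symm
theorem F311229 : act 4 n17020 = n23916 := (sb E67470 (iv4 D49028))
theorem E70719 : n32284 = n14091 := (((F27877).symm.trans (sb E67470 F77383))).symm
theorem E70720 : n35063 = n28691 := ((D35063).symm.trans (sb E67470 F77382))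
theorem E70722 : n55174 = n32608 := (((iv4 F87283)).symm.trans (sb E67471 (iv4 D70255)))
theorem E70726 : n55175 = n32609 := (((iv4 F87289)).symm.trans (sb E67472 (iv4 D70259)))
theorem E70729 : n107933 = n81636 := (((iv2 F166797)).symm.trans (sb E67474 F236839))
theorem E70730 : n149021 = n107964 := ((((iv4 F166831)).symm.trans (sb E67474 F236840))).symm
theorem F311230 : act 0 n17018 = n31151 := (sb E67476 (iv1 D66848))
theorem F311231 : act 4 n17018 = n31866 := (sb E67476 (iv4 F102690))
theorem E70734 : n32598 = n30763 := ((((iv4 F49218)).symm.trans (sb E67477 (iv4 D70234)))).symm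
theorem E70738 : n66404 = n32599 := (((iv4 F102303)).symm.trans (sb E67478 (iv4 D70238)))
theorem E70746 : n116725 = n25665 := ((((iv3 F40572)).symm.trans (sb E67482 (iv3 F182116)))).symm
theorem E70748 : n26106 = n25674 := (((D25674).symm.trans (sb E67482 (iv6 D53978)))).symm
theorem F311232 : act 6 n12372 = n25673 := (sb E67483 (iv6 D52889))
theorem E70757 : n116721 = n32133 := ((((iv2 F54214)).symm.trans (sb E67485 (iv2 F182105)))).symm
theorem E70758 : n116728 = n12487 := ((((iv5 D26284)).symm.trans (sb E67485 D116728))).symm
theorem E70759 : n54371 = n26011 := ((D54371).symm.trans (sb E67485 (iv6 D53787)))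
theorem E70761 : n26037 = n12355 := ((((iv6 F20529)).symm.trans (sb E67486 F84809))).symm
theorem F311233 : act 6 n12329 = n12488 := (sb E67487 (iv6 D26286))
theorem E70771 : n116750 = n54377 := (((D54377).symm.trans (sb E67492 (iv6 F182187)))).symm
theorem E70772 : n143649 = n12492 := (((D12492).symm.trans (sb E67493 D143649))).symm
theorem E70773 : n54381 = n31295 := ((D54381).symm.trans (sb E67494 F84835))
theorem F311234 : act 4 n26291 = n26060 := (sb E67494 F84831)
theorem E70774 : n116763 = n33974 := ((((iv5 F53314)).symm.trans (sb E67494 (iv5 F182209)))).symm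
theorem E70775 : n54382 = n26014 := ((D54382).symm.trans (sb E67494 (iv7 D53800)))
theorem E70780 : n95866 = n31662 := (((D31662).symm.trans (sb E67496 (iv3 F290464)))).symm
theorem E70781 : n35102 = n31663 := (((D31663).symm.trans (sb E67496 (iv4 D76797)))).symm
theorem E70785 : n65728 = n35079 := ((((iv2 F55706)).symm.trans (sb E67499 (iv2 F101437)))).symm
theorem E70786 : n65749 = n7957 := ((((iv5 D17032)).symm.trans (sb E67499 D65749))).symm
theorem E70787 : n35084 = n14579 := ((D35084).symm.trans (sb E67499 (iv6 D30781)))
theorem E70788 : n14584 = n7959 := (((D7959).symm.trans (sb E67500 F49228))).symm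
theorem F311235 : act 6 n6966 = n7958 := (sb E67501 (iv6 D17035))
theorem E70790 : n66089 = n35096 := (((D35096).symm.trans (sb E67502 F180385))).symm
theorem E70791 : n66117 = n32877 := ((((iv5 F52053)).symm.trans (sb E67504 (iv5 F101753)))).symm
theorem E70792 : n35103 = n14633 := ((D35103).symm.trans (sb E67504 (iv7 D30913)))
theorem E70798 : n144751 = n3019 := ((((iv6 D6707)).symm.trans (sb E67510 F227595))).symm
theorem F311236 : act 4 n15051 = n31816 := (sb E67515 F104551)
theorem F311237 : act 0 n55285 = n74785 := (sb E67516 (iv1 D157294))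
theorem F311238 : act 2 n118520 = n74785 := (sb E67517 F247511)
theorem F311239 : act 4 n55027 = n74785 := (sb E67518 (iv4 D157295))
theorem E70804 : n153032 = n74784 := (((D74784).symm.trans (sb E67519 (iv0 F278229)))).symm
theorem F311240 : act 3 n76570 = n74589 := (sb E67520 F246798)
theorem E70806 : n74587 = n58451 := ((((iv5 F307107)).symm.trans (sb E67520 (iv5 D156837)))).symm
theorem F311241 : act 4 n152591 = n74589 := (sb E67521 (iv4 D156843))
theorem E70807 : n58426 = n30615 := ((((iv1 F53827)).symm.trans (sb E67522 (iv1 F199888)))).symm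
theorem E70808 : n54530 = n16554 := ((((iv0 D34201)).symm.trans (sb E67522 (iv0 F130966)))).symm
theorem E70809 : n85454 = n74588 := (((D74588).symm.trans (sb E67522 D85454))).symm
theorem E70810 : n85456 = n74590 := (((D74590).symm.trans (sb E67522 D85456))).symm
theorem F311242 : act 6 n152318 = n74589 := (sb E67523 (iv6 D156844))
theorem E70811 : n74592 = n13274 := (((F42955).symm.trans (sb E67524 (iv5 D156851)))).symm
theorem E70812 : n74593 = n58463 := (((D58463).symm.trans (sb E67526 D74593))).symm
theorem E70813 : n74595 = n58464 := (((D58464).symm.trans (sb E67526 D74595))).symm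
theorem E70814 : n74772 = n27806 := ((D74772).symm.trans (sb E67528 F92282))
theorem E70815 : n124980 = n74774 := (((D74774).symm.trans (sb E67528 D124980))).symm
theorem E70816 : n118966 = n74776 := (((D74776).symm.trans (sb E67528 F199878))).symm
theorem F311243 : act 0 n18676 = n16586 := (sb E67529 (iv1 D34263))
theorem E70818 : n74778 = n8764 := (((F29934).symm.trans (sb E67529 D74778))).symm
theorem E70819 : n74779 = n39407 := (((D39407).symm.trans (sb E67529 D74779))).symm
theorem E70826 : n124991 = n49957 := ((((iv7 F79010)).symm.trans (sb E67530 (iv7 F200769)))).symm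
theorem E70827 : n49965 = n33324 := ((D49965).symm.trans (sb E67531 F199909))
theorem E70828 : n152746 = n74447 := (((D74447).symm.trans (sb E67532 (iv3 F239947)))).symm
theorem E70830 : n146185 = n30734 := (((F53616).symm.trans (sb E67532 (iv6 F229460)))).symm
theorem E70834 : n74674 = n39418 := ((D74674).symm.trans (sb E67534 F110339))
theorem E70835 : n155162 = n74675 := (((D74675).symm.trans (sb E67534 (iv4 F243978)))).symm
theorem E70836 : n65858 = n39348 := (((iv5 F220193)).symm.trans (sb E67534 (iv5 F110345)))
theorem E70837 : n74677 = n33842 := ((D74677).symm.trans (sb E67534 (iv6 D73647)))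
theorem E70838 : n74678 = n54614 := ((D74678).symm.trans (sb E67534 F110341))
theorem E70839 : n127986 = n74680 := (((D74680).symm.trans (sb E67535 F303435))).symm
theorem E70840 : n65859 = n39347 := (((iv5 F209753)).symm.trans (sb E67535 (iv5 D85094)))
theorem E70841 : n74682 = n40096 := ((D74682).symm.trans (sb E67535 F303436))
theorem F311244 : act 1 n34223 = n54614 := (sb E67536 F130509)
theorem E70842 : n85166 = n74671 := (((D74671).symm.trans (sb E67536 D85166))).symm
theorem E70843 : n18663 = n16559 := ((((iv5 D34223)).symm.trans (sb E67536 (iv5 D39375)))).symm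
theorem E70844 : n178637 = n74683 := (((D74683).symm.trans (sb E67537 (iv1 F278437)))).symm
theorem E70845 : n150222 = n74684 := (((D74684).symm.trans (sb E67537 F278328))).symm
theorem E70846 : n18666 = n16557 := (((D16557).symm.trans (sb E67538 (iv1 F60295)))).symm
theorem E70847 : n18651 = n16558 := (((D16558).symm.trans (sb E67538 (iv0 D39324)))).symm
theorem E70848 : n85037 = n16512 := ((((iv4 F26105)).symm.trans (sb E67538 D85037))).symm
theorem E70849 : n85039 = n5847 := (((F11954).symm.trans (sb E67538 D85039))).symm
theorem E70850 : n54543 = n16553 := (((D16553).symm.trans (sb E67540 (iv6 F86185)))).symm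
theorem E70855 : n54731 = n5846 := (((D5846).symm.trans (sb E67543 (iv0 F185433)))).symm
theorem E70857 : n74711 = n72056 := ((D74711).symm.trans (sb E67544 F185066))
theorem F311245 : act 5 n34233 = n35075 := (sb E67544 (iv5 D76744))
theorem E70861 : n71768 = n26019 := ((((iv1 F41121)).symm.trans (sb E67547 F186216))).symm
theorem E70862 : n71773 = n26018 := (((F41120).symm.trans (sb E67547 F189563))).symm
theorem F311246 : act 3 n18661 = n14593 := (sb E67548 (iv3 D30819))
theorem E70863 : n64422 = n39366 := (((D39366).symm.trans (sb E67548 (iv4 F100338)))).symm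
theorem E70864 : n39367 = n30927 := ((D39367).symm.trans (sb E67548 (iv6 F49365)))
theorem F311247 : act 7 n18661 = n29098 := (sb E67548 F49241)
theorem E70867 : n71150 = n6993 := (((F11256).symm.trans (sb E67549 F200320))).symm
theorem F311248 : act 0 n18659 = n14521 := (sb E67550 F47635)
theorem F311249 : act 1 n18659 = n14518 := (sb E67550 F47636)
theorem F311250 : act 2 n18659 = n29119 := (sb E67550 F47632)
theorem F311251 : act 4 n18659 = n14085 := (sb E67550 (iv4 D29647))
theorem F311252 : act 5 n18659 = n14593 := (sb E67550 F47633)
theorem F311253 : act 7 n18659 = n29099 := (sb E67550 F47634)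
theorem E70868 : n33340 = n7117 := (((F47637).symm.trans (sb E67551 (iv1 F86601)))).symm
theorem E70869 : n26476 = n26087 := (((F47638).symm.trans (sb E67551 (iv0 D54749)))).symm
theorem E70870 : n118971 = n30928 := (((D30928).symm.trans (sb E67551 D118971))).symm
theorem E70872 : n145163 = n14076 := ((((iv6 F23507)).symm.trans (sb E67552 (iv6 F237279)))).symm
theorem E70873 : n62168 = n54228 := (((iv1 F96915)).symm.trans (sb E67553 (iv1 F184338)))
theorem E70874 : n62170 = n54223 := (((iv0 F96922)).symm.trans (sb E67553 (iv0 D117715)))
theorem E70875 : n69360 = n30925 := ((((iv7 F49363)).symm.trans (sb E67553 F200178))).symm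
theorem E70876 : n125257 = n14845 := ((((iv3 F24507)).symm.trans (sb E67554 D125257))).symm
theorem E70883 : n32909 = n11482 := (((D11482).symm.trans (sb E67556 (iv6 D71070)))).symm
theorem E70884 : n30542 = n7513 := ((((iv1 D16093)).symm.trans (sb E67557 (iv1 F53793)))).symm
theorem E70885 : n30545 = n26474 := (((F42354).symm.trans (sb E67557 F53795))).symm
theorem F311254 : act 2 n16093 = n16569 := (sb E67557 F38181)
theorem F311255 : act 6 n16093 = n11481 := (sb E67557 (iv6 D24362))
theorem F311256 : act 5 n24386 = n18485 := (sb E67559 (iv5 D38919))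
theorem F311257 : act 1 n37351 = n50036 := (sb E67562 (iv0 D108357))
theorem F311258 : act 0 n80577 = n50036 := (sb E67563 (iv1 D108358))
theorem F311259 : act 3 n76941 = n50054 := (sb E67564 F167532)
theorem F311260 : act 7 n76941 = n50036 := (sb E67564 F167533)
theorem F311261 : act 3 n68332 = n86671 := (sb E67569 (iv3 D181588))
theorem E70891 : n107970 = n100917 := ((D107970).symm.trans (sb E67571 (iv4 F267739)))
theorem F311262 : act 3 n49853 = n45173 := (sb E67572 (iv3 D96701))
theorem E70892 : n107931 = n81985 := (((iv4 F166796)).symm.trans (sb E67572 F149055))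
theorem F311263 : act 0 n13292 = n16546 := (sb E67574 F48925)
theorem F311264 : act 1 n13292 = n16538 := (sb E67574 F48926)
theorem F311265 : act 4 n13292 = n14906 := (sb E67574 F48923)
theorem F311266 : act 5 n13292 = n14485 := (sb E67574 (iv5 D30529))
theorem F311267 : act 0 n66164 = n74102 := (sb E67575 F200219)
theorem F311268 : act 1 n66164 = n72039 := (sb E67575 (iv0 F200220))
theorem E70894 : n141081 = n39370 := (((iv3 F224078)).symm.trans (sb E67575 F130463))
theorem E70895 : n150530 = n141083 := ((((iv4 F224080)).symm.trans (sb E67575 (iv4 F237016)))).symm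
theorem F311269 : act 5 n66164 = n39362 := (sb E67575 (iv5 D85126))
theorem F311270 : act 7 n66164 = n69671 := (sb E67575 F200215)
theorem E70896 : n139919 = n70579 := ((D139919).symm.trans (iv0 (sb E67576 (tr (iv1 F247309) E70530))))
theorem F311271 : act 1 n70579 = n74714 := (sb E67576 (iv0 D157145))
theorem F311272 : act 3 n33274 = n30655 := (sb E67577 (iv3 D65361))
theorem E70901 : n152942 = n139783 := (((D139783).symm.trans (sb E67578 D152942))).symm
theorem E70902 : n152943 = n139784 := (((D139784).symm.trans (sb E67578 D152943))).symm
theorem E70903 : n152938 = n139785 := (((D139785).symm.trans (sb E67578 (iv2 F240170)))).symm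
theorem E70904 : n152941 = n139786 := (((D139786).symm.trans (sb E67578 (iv4 F240175)))).symm
theorem F311273 : act 5 n65619 = n107889 := (sb E67578 (iv5 F166699))
theorem E70905 : n74747 = n33322 := (((iv6 F112169)).symm.trans (sb E67578 (iv6 D72191)))
theorem E70906 : n181175 = n139075 := ((D181175).symm.trans (sb E67579 F247093))
theorem E70907 : n74646 = n58320 := ((((iv5 F306657)).symm.trans (sb E67579 (iv5 D156993)))).symm
theorem E70908 : n74619 = n58323 := ((((iv1 F92190)).symm.trans (sb E67580 (iv1 F246636)))).symm
theorem F311274 : act 3 n27787 = n30623 := (sb E67580 (iv3 D65245))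
theorem E70910 : n74452 = n58370 := (((D58370).symm.trans (sb E67580 F111756))).symm
theorem E70911 : n138992 = n58372 := (((D58372).symm.trans (sb E67580 D138992))).symm
theorem F311275 : act 0 n75713 = n63647 := (sb E67581 F217506)
theorem F311276 : act 1 n75713 = n133782 := (sb E67581 F217507)
theorem E70912 : n134582 = n34621 := ((((iv3 D75713)).symm.trans (sb E67581 F217505))).symm
theorem E70913 : n158719 = n63600 := ((D158719).symm.trans (sb E67581 (iv5 D135283)))
theorem F311277 : act 0 n82498 = n133782 := (sb E67582 (iv1 F215417))
theorem F311278 : act 1 n82498 = n63647 := (sb E67582 (iv0 F212062))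
theorem E70914 : n172240 = n61006 := ((D172240).symm.trans (sb E67582 F207741))
theorem E70916 : n152164 = n99474 := ((F239234).symm.trans (sb E67583 (iv0 F285984)))
theorem F311279 : act 4 n135400 = n87785 := (sb E67583 (iv4 D184034))
theorem F311280 : act 5 n34194 = n58330 := (sb E67584 (iv5 D124764))
theorem E70917 : n74569 = n72730 := ((D74569).symm.trans (sb E67584 (iv6 F200411)))
theorem E70918 : n71246 = n30626 := (((D30626).symm.trans (sb E67585 (iv4 F107746)))).symm
theorem E70919 : n30628 = n15877 := ((D30628).symm.trans (sb E67585 (iv6 D32975)))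
theorem E70920 : n138993 = n125163 := ((D138993).symm.trans (sb E67586 (iv1 F201178)))
theorem E70921 : n138998 = n72155 := ((D138998).symm.trans (sb E67587 (iv0 F200508)))
theorem E70922 : n147308 = n138999 := (((D138999).symm.trans (sb E67587 F230958))).symm
theorem E70923 : n150247 = n63650 := ((D150247).symm.trans (sb E67588 F217625))
theorem F311281 : act 6 n70726 = n63647 := (sb E67588 (iv6 D135390))
theorem E70924 : n139001 = n71312 := ((D139001).symm.trans (sb E67589 (iv1 F236036)))
theorem E70925 : n150032 = n30636 := (((F221976).symm.trans (sb E67589 F236045))).symm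
theorem E70926 : n139002 = n58374 := ((D139002).symm.trans (sb E67589 (iv2 D124854)))
theorem E70927 : n149080 = n108240 := ((((iv4 F167380)).symm.trans (sb E67589 (iv4 F234462)))).symm
theorem F311282 : act 6 n62827 = n71976 := (sb E67592 (iv6 F308250))
theorem E70928 : n131051 = n124738 := ((((iv1 F199611)).symm.trans (sb E67593 (iv1 F246108)))).symm
theorem F311283 : act 3 n58318 = n49974 := (sb E67593 (iv3 D108202))
theorem F311284 : act 0 n108203 = n85765 := (sb E67594 (iv1 D179608))
theorem F311285 : act 6 n108203 = n152999 := (sb E67594 F279724)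
theorem F311286 : act 6 n72215 = n49974 := (sb E67595 (iv6 D108205))
theorem F311287 : act 0 n108207 = n124812 := (sb E67596 F236026)
theorem F311288 : act 1 n108207 = n124811 := (sb E67596 F236028)
theorem F311289 : act 2 n108207 = n124734 := (sb E67596 F236023)
theorem F311290 : act 1 n108208 = n85765 := (sb E67597 (iv0 D179607))
theorem F311291 : act 0 n108210 = n69134 := (sb E67598 F231277)
theorem F311292 : act 1 n108210 = n69129 := (sb E67598 (iv0 D147490))
theorem F311293 : act 5 n108210 = n144827 := (sb E67598 F231274)
theorem F311294 : act 7 n108210 = n153005 := (sb E67598 (iv7 F240305))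
theorem E70929 : n74744 = n33474 := ((D74744).symm.trans (sb E67599 (iv1 F190652)))
theorem E70930 : n74745 = n33549 := ((D74745).symm.trans (sb E67599 (iv0 F190637)))
theorem F311295 : act 1 n60954 = n119585 := (sb E67600 (iv0 F206541))
theorem E70932 : n129788 = n33948 := ((D129788).symm.trans (sb E67600 (iv3 D73951)))
theorem E70933 : n128415 = n28901 := ((((iv4 D60954)).symm.trans (sb E67600 F206539))).symm
theorem E70934 : n129764 = n69748 := (((iv6 F208117)).symm.trans (sb E67600 F188598))
theorem F311296 : act 0 n132636 = n119585 := (sb E67601 F244784)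
theorem F311297 : act 3 n132636 = n153611 := (sb E67601 F244781)
theorem E70935 : n128414 = n62233 := (((F212907).symm.trans (sb E67601 (iv4 F244786)))).symm
theorem F311298 : act 6 n132636 = n74101 := (sb E67601 (iv6 D155772))
theorem E70936 : n164579 = n60741 := ((D164579).symm.trans (sb E67602 (iv4 D129216)))
theorem E70937 : n69339 = n31034 := ((((iv6 D66475)).symm.trans (sb E67603 (iv6 D148048)))).symm
theorem E70938 : n129273 = n60373 := (((D60373).symm.trans (sb E67604 F227316))).symm
theorem F311299 : act 0 n62241 = n34306 := (sb E67605 (iv1 D74868))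
theorem E70939 : n157420 = n132647 := (((D132647).symm.trans (sb E67605 D157420))).symm
theorem E70941 : n107871 = n65621 := ((((iv5 F101359)).symm.trans (sb E67605 (iv5 F166660)))).symm
theorem E70942 : n125012 = n59001 := (((F97034).symm.trans (sb E67605 (iv6 F200813)))).symm
theorem F311300 : act 1 n53815 = n34306 := (sb E67606 (iv0 D74867))
theorem E70943 : n157418 = n116799 := ((((iv3 F182360)).symm.trans (sb E67606 D157418))).symm
theorem E70948 : n70209 = n25943 := (E68141).trans E68852
theorem E70949 : n31035 = n15207 := ((D31035).symm.trans (sb E67609 (tr (iv5 D76791) E68114)))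
theorem E70956 : n74553 = n34303 := (((F112361).symm.trans (sb E67611 (iv6 D156765)))).symm
theorem F311301 : act 4 n34189 = n34306 := (sb E67612 F107629)
theorem E70959 : n32922 = n16548 := ((((iv6 D34189)).symm.trans (sb E67612 (iv6 D71099)))).symm
theorem E70968 : n71054 = n16534 := ((((iv1 F26165)).symm.trans (sb E67615 (iv1 D150700)))).symm
theorem E70969 : n139214 = n138601 := ((((iv3 F221774)).symm.trans (sb E67616 (iv3 F247310)))).symm
theorem E70970 : n130085 = n108296 := (((iv4 F208557)).symm.trans (sb E67616 F189839))
theorem E70971 : n138602 = n55304 := ((D138602).symm.trans (sb E67616 (iv6 D120192)))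
theorem E70972 : n69362 = n30732 := ((((iv1 F79960)).symm.trans (sb E67617 (iv1 D148060)))).symm
theorem E70973 : n119005 = n30731 := (((F79961).symm.trans (sb E67617 F231869))).symm
theorem E70974 : n117177 = n65241 := ((((iv5 F100989)).symm.trans (sb E67617 (iv5 F231871)))).symm
theorem E70975 : n118985 = n24642 := ((((iv7 D50589)).symm.trans (sb E67617 F231870))).symm
theorem E70977 : n33345 = n5884 := (((F20358).symm.trans (sb E67619 F86609))).symm
theorem E70978 : n118987 = n25872 := (((D25872).symm.trans (sb E67619 D118987))).symm
theorem E70984 : n32908 = n16572 := ((((iv6 F26243)).symm.trans (sb E67620 (iv6 D71068)))).symm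
theorem F311302 : act 6 n16092 = n30745 := (sb E67621 F53892)
theorem F311303 : act 7 n16092 = n16569 := (sb E67621 (iv7 D34249))
theorem F311304 : act 0 n64982 = n39338 := (sb E67623 (iv1 D85064))
theorem E70987 : n138337 = n124811 := ((D138337).symm.trans (sb E67623 (iv3 F201198)))
theorem E70988 : n178611 = n138338 := (((D138338).symm.trans (sb E67623 D178611))).symm
theorem E70989 : n138339 = n118724 := ((D138339).symm.trans (sb E67623 F233000))
theorem E70990 : n85157 = n7028 := (((F24162).symm.trans (sb E67624 D85157))).symm
theorem E70992 : n181772 = n30255 := (((D30255).symm.trans (sb E67626 D181772))).symm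
theorem E70994 : n154949 = n7027 := (((D7027).symm.trans (sb E67627 (iv0 F243655)))).symm
theorem E70999 : n85222 = n30616 := (((D30616).symm.trans (sb E67630 D85222))).symm
theorem E71000 : n71295 = n30618 := (((D30618).symm.trans (sb E67630 (iv6 F199905)))).symm
theorem E71001 : n54542 = n30584 := ((((iv1 F53706)).symm.trans (sb E67631 (iv1 F86180)))).symm
theorem E71002 : n54541 = n30588 := ((((iv0 F49004)).symm.trans (sb E67631 F86186))).symm
theorem E71003 : n30622 = n15889 := ((D30622).symm.trans (sb E67631 (iv7 D32996)))
theorem F311305 : act 6 n7448 = n6934 := (sb E67632 (iv6 D14522))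
theorem E71006 : n118341 = n6929 := (((D6929).symm.trans (sb E67633 (iv6 F185955)))).symm
theorem E71007 : n118322 = n6930 := (((D6930).symm.trans (sb E67634 (iv3 F185906)))).symm
theorem E71009 : n26353 = n6932 := (((D6932).symm.trans (sb E67634 (iv6 D54494)))).symm
theorem E71015 : n85465 = n7020 := (((D7020).symm.trans (sb E67638 F235340))).symm
theorem E71018 : n72155 = n7023 := (((D7023).symm.trans (sb E67639 (iv3 F108591)))).symm
theorem E71020 : n16085 = n7025 := (((D7025).symm.trans (sb E67639 (iv6 D33311)))).symm
theorem E71021 : n131045 = n39347 := (((E70840).symm.trans (((iv5 F209753)).symm.trans (sb E67641 F220203)))).symm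
theorem E71022 : n74673 = n55295 := ((F112086).symm.trans (sb E67641 (iv7 F189800)))
theorem F311306 : act 1 n58408 = n29098 := (sb E67644 (iv0 D61475))
theorem E71024 : n131047 = n124956 := (((D124956).symm.trans (sb E67644 D131047))).symm
theorem E71025 : n124957 = n115807 := ((D124957).symm.trans (sb E67644 (iv6 F220205)))
theorem F311307 : act 3 n86524 = n55295 := (sb E67647 (iv3 D120171))
theorem F311308 : act 0 n120172 = n83751 := (sb E67648 (iv1 F274417))
theorem F311309 : act 1 n120172 = n83746 := (sb E67648 (iv0 D175369))
theorem E71027 : n157043 = n120172 := (((iv2 F247144)).symm.trans (iv2 (sb E67648 (tr (iv2 F274416) E70835))))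
theorem F311310 : act 5 n120172 = n175146 := (sb E67648 (iv5 F274421))
theorem F311311 : act 6 n120172 = n155075 := (sb E67648 (iv6 F274420))
theorem E71028 : n152749 = n131052 := (((D131052).symm.trans (sb E67649 (iv4 F239949)))).symm
theorem E71029 : n131054 = n33281 := ((D131054).symm.trans (sb E67649 (iv6 D72082)))
theorem F311312 : act 6 n73602 = n55295 := (sb E67650 (iv6 D120174))
theorem E71031 : n85043 = n74616 := (((D74616).symm.trans (sb E67652 D85043))).symm
theorem F311313 : act 1 n119139 = n55288 := (sb E67653 (iv0 D120147))
theorem F311314 : act 5 n120148 = n178550 := (sb E67654 F278577)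
theorem F311315 : act 6 n120148 = n178468 := (sb E67654 (iv6 F278582))
theorem E71032 : n82512 = n55290 := (((D55290).symm.trans (sb E67655 (iv6 D172281)))).symm
theorem F311316 : act 0 n120150 = n84903 := (sb E67656 (iv1 F274437))
theorem F311317 : act 1 n120150 = n85073 := (sb E67656 F274436)
theorem F311318 : act 4 n120150 = n83754 := (sb E67656 (iv4 D175395))
theorem F311319 : act 0 n119114 = n135450 := (sb E67657 (iv1 F217763))
theorem F311320 : act 5 n119114 = n128057 := (sb E67657 (iv5 F307778))
theorem F311321 : act 6 n119114 = n55288 := (sb E67657 (iv6 D120151))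
theorem F311322 : act 1 n8759 = n16561 := (sb E67658 (iv0 F246628))
theorem E71036 : n74635 = n18665 := (((D18665).symm.trans (sb E67658 (iv4 F112065)))).symm
theorem E71038 : n85048 = n74620 := (((D74620).symm.trans (sb E67659 (iv4 F130406)))).symm
theorem E71039 : n74622 = n72097 := ((D74622).symm.trans (sb E67659 (iv6 F108553)))
theorem E71040 : n85160 = n74316 := ((((iv1 F167134)).symm.trans (sb E67660 (iv1 F130494)))).symm
theorem E71041 : n85159 = n74311 := ((((iv0 F167138)).symm.trans (sb E67660 F130498))).symm
theorem E71043 : n85180 = n74328 := ((((iv5 F111528)).symm.trans (sb E67660 D85180))).symm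
theorem E71045 : n85183 = n74690 := (((D74690).symm.trans (sb E67661 D85183))).symm
theorem E71046 : n85184 = n74691 := (((D74691).symm.trans (sb E67661 D85184))).symm
theorem F311323 : act 4 n26723 = n32848 := (sb E67665 F107394)
theorem F311324 : act 4 n26724 = n32730 := (sb E67668 (iv4 D70561))
theorem E71049 : n131780 = n7036 := ((((iv1 F11963)).symm.trans (sb E67671 F237946))).symm
theorem E71052 : n54628 = n31317 := (((D31317).symm.trans (sb E67672 (iv5 D118640)))).symm
theorem E71055 : n54629 = n31312 := (((D31312).symm.trans (sb E67673 (iv5 D118644)))).symm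
theorem E71056 : n178612 = n136364 := (((D136364).symm.trans (sb E67675 (iv1 F279691)))).symm
theorem E71057 : n136365 = n85756 := ((D136365).symm.trans (sb E67675 (iv0 D179593)))
theorem E71058 : n153007 = n109759 := ((((iv6 F169755)).symm.trans (sb E67675 (iv6 F279693)))).symm
theorem E71059 : n118883 = n109685 := ((((iv1 F209608)).symm.trans (sb E67676 (iv1 F252590)))).symm
theorem E71060 : n118731 = n109854 := (((D109854).symm.trans (sb E67676 (iv0 F240209)))).symm
theorem E71061 : n153008 = n109856 := (((D109856).symm.trans (sb E67676 D153008))).symm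
theorem E71066 : n33347 = n6995 := (((F19018).symm.trans (sb E67679 F131931))).symm
theorem E71070 : n118968 = n26083 := ((((iv3 F41261)).symm.trans (sb E67680 (iv3 F187087)))).symm
theorem E71072 : n39456 = n26086 := (((D26086).symm.trans (sb E67680 (iv5 F92312)))).symm
theorem E71073 : n33336 = n31762 := ((((iv3 F50056)).symm.trans (sb E67681 (iv3 F52574)))).symm
theorem E71074 : n32958 = n7121 := (((F24606).symm.trans (sb E67681 (iv4 F52127)))).symm
theorem E71075 : n33339 = n31766 := ((((iv5 F50057)).symm.trans (sb E67681 D33339))).symm
theorem E71076 : n26038 = n7515 := (((iv6 F41160)).symm.trans (sb E67681 (iv6 D16097)))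
theorem E71077 : n109857 = n85518 := ((D109857).symm.trans (sb E67682 (iv1 F200205)))
theorem E71078 : n74082 = n67368 := ((((iv0 F103236)).symm.trans (sb E67682 F200206))).symm
theorem E71079 : n153011 = n109858 := (((D109858).symm.trans (sb E67682 D153011))).symm
theorem E71080 : n69667 = n30924 := (((F80021).symm.trans (sb E67682 F200193))).symm
theorem F311325 : act 2 n18656 = n29098 := (sb E67684 (iv2 D61477))
theorem E71081 : n130962 = n39349 := (((D39349).symm.trans (sb E67684 (iv4 F209572)))).symm
theorem E71082 : n131044 = n39350 := (((D39350).symm.trans (sb E67684 (iv6 F209751)))).symm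
theorem E71084 : n152759 = n74330 := ((((iv0 F167082)).symm.trans (sb E67685 (iv0 F239967)))).symm
theorem E71087 : n178557 = n130959 := ((((iv6 F209568)).symm.trans (sb E67685 D178557))).symm
theorem F311326 : act 3 n18649 = n29099 := (sb E67686 F95980)
theorem F311327 : act 5 n18649 = n29098 := (sb E67686 (iv5 D61478))
theorem E71088 : n131042 = n124970 := ((D131042).symm.trans (sb E67687 F200721))
theorem E71089 : n178558 = n131043 := (((D131043).symm.trans (sb E67687 D178558))).symm
theorem E71090 : n75878 = n66874 := ((((iv5 F102725)).symm.trans (sb E67687 F130379))).symm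
theorem E71091 : n152808 = n116079 := ((((iv7 F180850)).symm.trans (sb E67687 (iv7 F240017)))).symm
theorem F311328 : act 1 n32234 = n29097 := (sb E67690 F95429)
theorem E71096 : n69375 = n28879 := ((D69375).symm.trans (sb E67690 (iv4 D60887)))
theorem E71097 : n116222 = n15205 := ((((iv5 D32234)).symm.trans (sb E67690 (iv5 F181140)))).symm
theorem E71098 : n59794 = n33357 := ((((iv6 F52593)).symm.trans (sb E67690 F95427))).symm
theorem F311329 : act 0 n32229 = n29097 := (sb E67691 F95432)
theorem E71100 : n69361 = n28880 := ((D69361).symm.trans (sb E67691 (iv4 D60889)))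
theorem E71101 : n116221 = n15204 := ((((iv5 D32229)).symm.trans (sb E67691 (iv5 F181134)))).symm
theorem E71102 : n55171 = n53672 := ((((iv1 F84684)).symm.trans (sb E67692 F108633))).symm
theorem E71103 : n54096 = n14724 := ((((iv0 D31158)).symm.trans (sb E67692 F108635))).symm
theorem E71104 : n139859 = n66451 := ((((iv4 F102349)).symm.trans (sb E67692 (iv4 F223059)))).symm
theorem F311330 : act 6 n31158 = n31543 := (sb E67692 (iv6 D67882))
theorem E71105 : n68923 = n53670 := ((((iv7 F84677)).symm.trans (sb E67692 (iv7 F200180)))).symm
theorem E71110 : n179576 = n24242 := ((((iv0 F38005)).symm.trans (sb E67695 D179576))).symm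
theorem E71111 : n179577 = n24251 := (((F38026).symm.trans (sb E67695 D179577))).symm
theorem E71112 : n39615 = n28867 := (((D28867).symm.trans (sb E67695 F131483))).symm
theorem E71121 : n26347 = n16570 := (((D16570).symm.trans (sb E67699 (iv1 D54484)))).symm
theorem F311331 : act 1 n12633 = n16569 := (sb E67700 F53805)
theorem E71125 : n74397 = n26455 := ((((iv3 F42312)).symm.trans (sb E67700 D74397))).symm
theorem E71126 : n26473 = n16522 := ((D26473).symm.trans (sb E67700 (iv4 D34125)))
theorem E71127 : n53703 = n5995 := ((((iv5 D12633)).symm.trans (sb E67700 (iv5 F84729)))).symm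
theorem F311332 : act 0 n16095 = n16569 := (sb E67701 (iv1 F53804))
theorem E71129 : n74398 = n33283 := ((((iv3 F52509)).symm.trans (sb E67701 D74398))).symm
theorem E71130 : n33330 = n16523 := (((iv4 F52568)).symm.trans (sb E67701 (iv4 D34127)))
theorem F311333 : act 5 n16367 = n16569 := (sb E67702 (iv5 D34248))
theorem F311334 : act 3 n37338 = n61770 := (sb E67715 F210310)
theorem F311335 : act 5 n37338 = n79327 := (sb E67715 F305905)
theorem F311336 : act 0 n28533 = n35693 := (sb E67716 (iv1 D78298))
theorem F311337 : act 5 n28533 = n45173 := (sb E67716 F298496)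
theorem F311338 : act 5 n24387 = n44906 := (sb E67726 (iv5 D96192))
theorem F311339 : act 5 n21433 = n11500 := (sb E67728 (iv5 D24389))
theorem F311340 : act 0 n96748 = n149005 := (sb E67732 (iv1 F234282))
theorem F311341 : act 1 n96748 = n148994 := (sb E67732 (iv0 F234181))
theorem F311342 : act 2 n96748 = n149004 := (sb E67732 F234274)
theorem E71143 : n129555 = n82515 := (((F149207).symm.trans (sb E67732 (iv4 F207695)))).symm
theorem F311343 : act 5 n96748 = n128280 := (sb E67732 (iv5 F206406))
theorem E71144 : n129554 = n75984 := (((F149208).symm.trans (sb E67732 F207689))).symm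
theorem F311344 : act 5 n34726 = n62799 := (sb E67734 F185318)
theorem F311345 : act 1 n32792 = n35693 := (sb E67738 (iv0 F300064))
theorem F311346 : act 5 n32792 = n35153 := (sb E67738 (iv5 D76940))
theorem E71147 : n64987 = n8810 := ((((iv1 F29989)).symm.trans (sb E67740 (iv1 F100786)))).symm
theorem E71149 : n65675 = n39612 := (((D39612).symm.trans (sb E67740 (iv6 F220558)))).symm
theorem E71154 : n107767 = n60428 := (((D60428).symm.trans (sb E67745 D107767))).symm
theorem E71155 : n107771 = n39468 := ((((iv4 F60386)).symm.trans (sb E67747 D107771))).symm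
theorem E71159 : n58472 = n24267 := ((D58472).symm.trans (sb E67748 F78623))
theorem F311347 : act 6 n27822 = n107736 := (sb E67748 D107736)
theorem E71161 : n107839 = n74797 := (((F112252).symm.trans (sb E67749 D107839))).symm
theorem F311348 : act 3 n40247 = n24282 := (sb E67749 F78709)
theorem E71163 : n107736 = n55870 := ((((iv4 F309206)).symm.trans (sb E67749 (iv4 F166371)))).symm
theorem E71164 : n70442 = n28344 := (((iv7 F309170)).symm.trans (sb E67749 F78710))
theorem F311349 : act 3 n32794 = n50046 := (sb E67752 F167559)
theorem E71165 : n133964 = n53841 := (((D53841).symm.trans (sb E67755 (iv3 F215880)))).symm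
theorem E71167 : n53842 = n29770 := ((D53842).symm.trans (sb E67755 (iv5 D62927)))
theorem E71168 : n125269 = n51761 := ((((iv6 F81732)).symm.trans (sb E67755 (iv6 F201449)))).symm
theorem E71169 : n133967 = n53832 := (((D53832).symm.trans (sb E67756 (iv3 F215887)))).symm
theorem E71171 : n53833 = n29771 := ((D53833).symm.trans (sb E67756 (iv5 D62932)))
theorem F311350 : act 0 n79990 = n36517 := (sb E67759 (iv1 D80175))
theorem E71175 : n133113 = n36432 := (((F122773).symm.trans (sb E67759 (iv5 F306368)))).symm
theorem F311351 : act 6 n16593 = n32688 := (sb E67760 (iv6 D70436))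
theorem F311352 : act 0 n24302 = n39538 := (sb E67761 (iv1 D85568))
theorem F311353 : act 1 n24307 = n39538 := (sb E67762 (iv0 D85567))
theorem F311354 : act 0 n58574 = n49831 := (sb E67763 F98035)
theorem F311355 : act 1 n58574 = n49841 := (sb E67763 F98034)
theorem F311356 : act 2 n58574 = n29730 := (sb E67763 F98031)
theorem E71183 : n131178 = n39693 := (((F92535).symm.trans (sb E67763 (iv4 F210116)))).symm
theorem F311357 : act 5 n58574 = n29728 := (sb E67763 (iv5 D62817))
theorem E71184 : n133771 = n125214 := (((D125214).symm.trans (sb E67763 D133771))).symm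
theorem E71185 : n124088 = n61391 := (((F98042).symm.trans (sb E67764 F304346))).symm
theorem E71186 : n131176 = n124087 := (((iv0 F210109)).symm.trans (sb E67764 F304347))
theorem E71187 : n179702 = n133774 := (((D133774).symm.trans (sb E67764 D179702))).symm
theorem E71188 : n179703 = n133775 := (((D133775).symm.trans (sb E67764 D179703))).symm
theorem F311358 : act 0 n14512 = n8790 := (sb E67765 (iv1 F199692))
theorem F311359 : act 1 n14512 = n27879 := (sb E67765 (iv0 F199693))
theorem F311360 : act 6 n14512 = n7340 := (sb E67765 (iv6 D15568))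
theorem E71189 : n108246 = n26310 := (((F155112).symm.trans (sb E67766 F167394))).symm
theorem E71190 : n108234 = n27848 := (((F44967).symm.trans (sb E67766 F167395))).symm
theorem F311361 : act 6 n29153 = n179446 := (sb E67768 D179446)
theorem F311362 : act 2 n18729 = n24394 := (sb E67770 F79138)
theorem F311363 : act 5 n18729 = n24391 := (sb E67770 F79139)
theorem E71215 : n163209 = n71222 := ((D163209).symm.trans (sb E67776 F189670))
theorem E71216 : n163210 = n55251 := ((D163210).symm.trans (sb E67776 (iv6 D120080)))
theorem E71217 : n120065 = n35843 := ((((iv6 F56505)).symm.trans (sb E67777 F189673))).symm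
theorem F311364 : act 6 n26697 = n35745 := (sb E67778 (iv6 D78445))
theorem E71222 : n181338 = n101134 := ((D181338).symm.trans (sb E67780 F250413))
theorem F311365 : act 3 n65343 = n45205 := (sb E67781 (iv3 D96737))
theorem E71223 : n139202 = n76073 := ((D139202).symm.trans (sb E67781 F149185))
theorem F311366 : act 5 n128479 = n70444 := (sb E67782 (iv5 D149862))
theorem E71224 : n85535 = n78410 := ((((iv3 F119607)).symm.trans (sb E67783 (iv3 F130715)))).symm
theorem F311367 : act 4 n35735 = n60428 := (sb E67783 (iv4 F94944))
theorem E71225 : n78413 = n18711 := ((D78413).symm.trans (sb E67783 (iv6 D39487)))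
theorem E71226 : n85530 = n78420 := (((D78420).symm.trans (sb E67786 F200947))).symm
theorem E71227 : n76794 = n13522 := ((((iv6 D28344)).symm.trans (iv6 (sb E67787 (tr (iv6 D149856) E71164))))).symm
theorem E71228 : n125053 = n84583 := ((((iv3 F129751)).symm.trans (sb E67788 (iv3 F200893)))).symm
theorem E71229 : n84584 = n27819 := ((D84584).symm.trans (sb E67788 (iv6 D58466)))
theorem E71231 : n125034 = n84591 := (((D84591).symm.trans (sb E67789 (iv6 F200854)))).symm
theorem E71232 : n166815 = n120026 := ((((iv1 F189519)).symm.trans (sb E67790 F262523))).symm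
theorem E71233 : n155711 = n80223 := ((D155711).symm.trans (sb E67790 (tr F257083 E70641)))
theorem F311368 : act 6 n74070 = n78262 := (sb E67790 (iv6 D162804))
theorem E71234 : n75990 = n65682 := (((F101408).symm.trans (sb E67793 (iv5 F235683)))).symm
theorem F311369 : act 0 n84346 = n107946 := (sb E67794 (iv1 F251001))
theorem F311370 : act 1 n84346 = n159402 := (sb E67794 F251007)
theorem F311371 : act 2 n84346 = n74160 := (sb E67794 (iv2 D155934))
theorem F311372 : act 7 n84346 = n159401 := (sb E67794 (iv7 F251000))
theorem F311373 : act 2 n35713 = n33978 := (sb E67795 F87360)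
theorem E71235 : n119985 = n78352 := ((((iv3 F119570)).symm.trans (sb E67795 (iv3 F189413)))).symm
theorem F311374 : act 4 n35713 = n26682 := (sb E67795 F87361)
theorem E71237 : n78354 = n26681 := ((D78354).symm.trans (sb E67795 (iv6 D55216)))
theorem E71238 : n177707 = n117900 := ((D177707).symm.trans (sb E67798 F244935))
theorem E71239 : n177708 = n117908 := ((D177708).symm.trans (sb E67798 F244937))
theorem F311375 : act 4 n84622 = n74162 := (sb E67798 F244933)
theorem E71240 : n177706 = n146125 := (((iv7 F277166)).symm.trans (sb E67798 F244934))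
theorem F311376 : act 3 n80472 = n159401 := (sb E67800 (iv3 F250999))
theorem F311377 : act 3 n84464 = n58551 := (sb E67802 (iv3 D125195))
theorem E71241 : n177186 = n85779 := (((iv7 F276580)).symm.trans (sb E67802 F201275))
theorem E71242 : n178943 = n124497 := (((D124497).symm.trans (sb E67803 (iv6 F278811)))).symm
theorem E71243 : n124969 = n124500 := (((D124500).symm.trans (sb E67805 (iv1 F200707)))).symm
theorem E71244 : n124501 = n39422 := ((D124501).symm.trans (sb E67805 (iv0 D85318)))
theorem F311378 : act 4 n58104 = n58551 := (sb E67805 F229380)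
theorem E71245 : n178944 = n27912 := (((F91899).symm.trans (sb E67805 D178944))).symm
theorem E71246 : n124502 = n85780 := ((D124502).symm.trans (sb E67805 F229382))
theorem E71247 : n179320 = n163230 := (((D163230).symm.trans (sb E67809 (iv1 F279210)))).symm
theorem E71248 : n179323 = n163231 := (((D163231).symm.trans (sb E67809 (iv0 F279218)))).symm
theorem F311379 : act 4 n78451 = n69649 := (sb E67809 (iv4 D148611))
theorem E71249 : n163229 = n146724 := (((iv7 F257503)).symm.trans (sb E67809 F233375))
theorem E71250 : n121111 = n85774 := ((D121111).symm.trans (sb E67812 F229404))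
theorem E71251 : n121112 = n58550 := ((D121112).symm.trans (sb E67812 F229405))
theorem E71253 : n121113 = n85325 := ((D121113).symm.trans (sb E67812 F200724))
theorem E71254 : n150575 = n61408 := ((((iv0 F102307)).symm.trans (iv0 (sb E67813 (tr F268203 E70577))))).symm
theorem E71255 : n170695 = n61408 := (E67813).trans E71254
theorem E71256 : n163204 = n60874 := ((((iv2 F105943)).symm.trans (sb E71255 F268200))).symm
theorem E71258 : n121443 = n81829 := (((iv6 F305825)).symm.trans (sb E71255 (iv6 D170695)))
theorem E71260 : n178468 = n129340 := (((D129340).symm.trans (sb E67815 (iv1 F278075)))).symm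
theorem E71261 : n129341 = n110627 := ((D129341).symm.trans (sb E67815 (tr F278096 E70041)))
theorem F311380 : act 2 n60785 = n75866 := (sb E67815 F239100)
theorem F311381 : act 4 n60785 = n71700 := (sb E67815 (iv4 D152087))
theorem E71262 : n155160 = n129343 := (((D129343).symm.trans (sb E67815 (iv7 F243971)))).symm
theorem F311383 : act 1 n157072 = n75866 := (sb E67816 (iv0 D158946))
theorem F311384 : act 2 n157072 = n129340 := (sb E67816 (tr F278078 E71260))
theorem F311385 : act 4 n157072 = n155118 := (sb E67816 F250282)
theorem E71263 : n157072 = n126330 := ((((iv5 F203136)).symm.trans (iv5 (sb E67816 (tr F250281 E70043))))).symm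
theorem F311386 : act 1 n132325 = n77048 := (sb E67817 F298814)
theorem F311387 : act 3 n132325 = n75866 := (sb E67817 F250278)
theorem E71265 : n75864 = n62080 := ((((iv6 D132325)).symm.trans (sb E67817 (iv6 D158943)))).symm
theorem E71266 : n62150 = n54817 := ((((iv1 F155376)).symm.trans (sb E67818 (iv1 F96879)))).symm
theorem E71267 : n75843 = n62149 := ((F113740).symm.trans (sb E67818 F96874))
theorem F311388 : act 2 n34681 = n28836 := (sb E67818 F95361)
theorem E71268 : n75865 = n28835 := ((D75865).symm.trans (sb E67818 (iv5 D60780)))
theorem E71269 : n75823 = n62147 := (((iv7 F113766)).symm.trans (sb E67818 (iv7 F96868)))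
theorem F311389 : act 3 n132324 = n70383 := (sb E67822 (iv3 D149804))
theorem E71270 : n150020 = n129546 := (((F212236).symm.trans (sb E67822 (iv7 F236002)))).symm
theorem F311390 : act 4 n27820 = n39067 := (sb E67823 F106927)
theorem E71273 : n149879 = n85506 := ((((iv3 F130707)).symm.trans (sb E67824 (iv3 F235739)))).symm
theorem F311391 : act 4 n39483 = n39069 := (sb E67824 F106922)
theorem E71274 : n149883 = n58459 := ((((iv6 F92335)).symm.trans (sb E67824 D149883))).symm
theorem F311392 : act 4 n78258 = n58468 := (sb E67825 (iv4 D125062))
theorem E71275 : n162793 = n74076 := ((D162793).symm.trans (sb E67825 F200915))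
theorem F311393 : act 0 n34353 = n70383 := (sb E67826 (iv1 F107348))
theorem F311394 : act 1 n34353 = n70382 := (sb E67826 F107349)
theorem F311395 : act 4 n34353 = n32842 := (sb E67826 F107345)
theorem F311396 : act 7 n34353 = n32839 := (sb E67826 (iv7 D70867))
theorem F311397 : act 0 n70578 = n55301 := (sb E67827 (iv1 D120184))
theorem E71276 : n143811 = n70578 := ((D143811).symm.trans (iv5 (sb E67827 (tr (iv5 F189825) E70146))))
theorem F311398 : act 3 n84889 = n74954 := (sb E67830 F248190)
theorem F311399 : act 5 n55102 = n74954 := (sb E67831 (iv5 D157495))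
theorem E71277 : n143344 = n39451 := (((F232891).symm.trans (sb E67831 F248194))).symm
theorem F311400 : act 4 n117654 = n62849 := (sb E67832 F215484)
theorem F311401 : act 7 n117654 = n62846 := (sb E67832 (iv7 D133826))
theorem F311402 : act 4 n78260 = n58467 := (sb E67834 (iv4 D125059))
theorem F311403 : act 3 n73953 = n74714 := (sb E67836 F247304)
theorem E71286 : n116374 = n27807 := ((((iv3 F44910)).symm.trans (sb E67844 (iv3 F181412)))).symm
theorem E71288 : n27810 = n25966 := ((D27810).symm.trans (sb E67844 (iv5 D53637)))
theorem E71290 : n116383 = n39445 := ((((iv3 F304129)).symm.trans (sb E67845 (iv3 F181433)))).symm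
theorem E71292 : n39461 = n25970 := (((iv5 F60379)).symm.trans (sb E67845 (iv5 D53644)))
theorem F311404 : act 3 n120146 = n75760 := (sb E67847 (iv3 D158799))
theorem F311405 : act 5 n120146 = n173233 := (sb E67847 (iv5 F271555))
theorem F311406 : act 7 n120146 = n77048 := (sb E67847 F298817)
theorem F311407 : act 5 n84452 = n149006 := (sb E67848 (iv5 F234286))
theorem E71294 : n177257 = n60350 := ((D177257).symm.trans (sb E67848 (iv6 D128364)))
theorem E71295 : n177262 = n60351 := ((D177262).symm.trans (sb E67849 (iv6 D128366)))
theorem F311408 : act 6 n28662 = n38938 := (sb E67850 (iv6 D84455))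
theorem E71299 : n167674 = n87494 := ((D167674).symm.trans (sb E67852 F307732))
theorem E71300 : n167675 = n107928 := ((D167675).symm.trans (sb E67852 F247543))
theorem E71301 : n167676 = n74795 := ((D167676).symm.trans (sb E67852 (iv2 D157306)))
theorem F311409 : act 7 n80468 = n107945 := (sb E67852 F247542)
theorem F311410 : act 0 n34325 = n45220 := (sb E67853 (iv1 F71287))
theorem F311411 : act 1 n34325 = n17928 := (sb E67853 F59777)
theorem F311412 : act 2 n34325 = n16818 := (sb E67853 F54960)
theorem F311413 : act 4 n34325 = n16817 := (sb E67853 (iv4 D34723))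
theorem F311414 : act 7 n34325 = n45205 := (sb E67853 (iv7 F116710))
theorem F311415 : act 6 n128374 = n84434 := (sb E67854 (iv6 D177207))
theorem E71302 : n133050 = n81662 := (((D81662).symm.trans (sb E67855 (iv1 F213710)))).symm
theorem E71303 : n62082 = n45877 := ((((iv4 F72454)).symm.trans (sb E67855 (iv4 D132332)))).symm
theorem E71304 : n131249 = n81664 := (((D81664).symm.trans (sb E67855 (iv5 F212255)))).symm
theorem F311416 : act 1 n37327 = n29721 := (sb E67857 F185217)
theorem E71306 : n131250 = n81667 := ((((iv6 F125592)).symm.trans (sb E67857 D131250))).symm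
theorem F311417 : act 7 n37327 = n62799 := (sb E67857 (iv7 F98002))
theorem F311418 : act 1 n61583 = n40159 := (sb E67858 F298545)
theorem F311419 : act 5 n61583 = n45220 := (sb E67858 F131278)
theorem F311420 : act 7 n61583 = n45219 := (sb E67858 F131277)
theorem F311421 : act 4 n70453 = n61770 := (sb E67865 (iv4 D131647))
theorem E71315 : n116370 = n17730 := (((F41756).symm.trans (sb E67866 (iv2 F181404)))).symm
theorem E71316 : n142181 = n32898 := ((((iv3 F52081)).symm.trans (sb E67866 (iv3 F225183)))).symm
theorem E71318 : n116213 = n32900 := (((D32900).symm.trans (sb E67866 (iv5 F181118)))).symm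
theorem E71319 : n31108 = n7427 := ((((iv6 D15843)).symm.trans (sb E67866 (iv6 D66697)))).symm
theorem E71321 : n121076 = n49772 := (((D49772).symm.trans (iv6 (sb E67867 (tr (iv6 D125076) E71159))))).symm
theorem E71325 : n179183 = n163002 := ((((iv2 F257361)).symm.trans (sb E67873 (iv2 F279123)))).symm
theorem E71326 : n179159 = n163005 := (((D163005).symm.trans (sb E67873 (iv4 F279112)))).symm
theorem E71328 : n163006 = n39479 := ((D163006).symm.trans (sb E67873 (iv6 D85510)))
theorem E71329 : n155219 = n39478 := ((((iv3 F60390)).symm.trans (sb E67874 (iv3 F244116)))).symm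
theorem F311426 : act 4 n18709 = n35724 := (sb E67874 F110429)
theorem F311427 : act 5 n18709 = n33874 := (sb E67874 (iv5 D73719))
theorem E71332 : n148577 = n17561 := ((((iv6 F28550)).symm.trans (sb E67875 (iv6 F233338)))).symm
theorem F311428 : act 6 n18708 = n35724 := (sb E67876 (iv6 D78386))
theorem E71337 : n155211 = n125049 := ((((iv3 F200885)).symm.trans (sb E67877 (iv3 F244094)))).symm
theorem F311429 : act 4 n58469 = n35731 := (sb E67877 F110424)
theorem E71338 : n155213 = n39473 := (((F92355).symm.trans (sb E67877 D155213))).symm
theorem E71340 : n163053 = n125031 := ((D163053).symm.trans (sb E67878 F200855))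
theorem E71341 : n179131 = n163048 := ((((iv3 F257395)).symm.trans (sb E67878 (iv3 F279077)))).symm
theorem E71343 : n163055 = n39470 := ((D163055).symm.trans (sb E67878 (iv7 D85477)))
theorem E71344 : n155634 = n55856 := (((D55856).symm.trans (sb E67879 (iv3 F244670)))).symm
theorem F311430 : act 5 n26944 = n33978 := (sb E67879 (iv5 D74039))
theorem E71346 : n74096 = n39889 := ((((iv6 F60695)).symm.trans (sb E67879 (iv6 F110834)))).symm
theorem E71347 : n165618 = n155718 := ((((iv5 F244730)).symm.trans (sb E67880 (iv5 F305014)))).symm
theorem E71348 : n120048 = n86190 := (((iv6 F189603)).symm.trans (sb E67880 (iv6 D180478)))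
theorem F311431 : act 0 n131421 = n150014 := (sb E67881 (iv1 F274047))
theorem F311432 : act 1 n131421 = n150013 := (sb E67881 F274048)
theorem F311433 : act 4 n131421 = n83609 := (sb E67881 F274046)
theorem F311434 : act 7 n131421 = n83605 := (sb E67881 (iv7 D175071))
theorem E71349 : n132825 = n70965 := (((iv4 F213323)).symm.trans (sb E68063 F237061))
theorem E71350 : n177688 = n155632 := (((D155632).symm.trans (sb E67884 D177688))).symm
theorem E71351 : n177689 = n155633 := (((D155633).symm.trans (sb E67884 D177689))).symm
theorem E71352 : n177690 = n155631 := ((((iv2 F244669)).symm.trans (sb E67884 D177690))).symm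
theorem E71353 : n177691 = n155599 := ((((iv4 F244626)).symm.trans (sb E67884 D177691))).symm
theorem E71361 : n177684 = n155662 := ((((iv3 F244683)).symm.trans (sb E67886 (iv3 F277124)))).symm
theorem E71362 : n167939 = n155671 := ((((iv5 F244701)).symm.trans (sb E67886 (iv5 F264649)))).symm
theorem F311435 : act 6 n74055 = n39076 := (sb E67886 (iv6 D84614))
theorem F311436 : act 1 n68466 = n32615 := (sb E67889 (iv0 D70274))
theorem F311437 : act 4 n68466 = n35075 := (sb E67889 F185077)
theorem F311438 : act 0 n68516 = n32615 := (sb E67890 (iv1 D70275))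
theorem E71367 : n149644 = n146018 := ((((iv3 F251070)).symm.trans (sb E67890 D149644))).symm
theorem F311439 : act 4 n68516 = n35076 := (sb E67890 F184941)
theorem E71369 : n149646 = n53555 := (((E70614).symm.trans ((F183391).symm.trans (sb E67890 D149646)))).symm
theorem F311440 : act 3 n84426 = n85781 := (sb E67891 F279745)
theorem E71371 : n178942 = n177700 := (((D177700).symm.trans (sb E67893 (iv3 F278810)))).symm
theorem E71372 : n177701 = n39426 := ((D177701).symm.trans (sb E67893 F130602))
theorem F311441 : act 0 n58414 = n39079 := (sb E67894 (iv1 D84620))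
theorem E71375 : n177703 = n124965 := ((((iv3 F200699)).symm.trans (sb E67894 D177703))).symm
theorem E71376 : n177704 = n27800 := (((F92268).symm.trans (sb E67894 D177704))).symm
theorem E71377 : n124968 = n78758 := ((D124968).symm.trans (sb E67894 (iv5 F129791)))
theorem F311442 : act 4 n84621 = n58552 := (sb E67896 F229377)
theorem F311443 : act 4 n78448 = n58553 := (sb E67897 F201268)
theorem E71381 : n163893 = n85785 := (((F131952).symm.trans (sb E67898 F281071))).symm
theorem E71382 : n159049 = n86247 := (((iv4 F250390)).symm.trans (sb E67898 (iv4 D180580)))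
theorem F311444 : act 0 n39616 = n35747 := (sb E67899 (iv1 D78449))
theorem E71384 : n163226 = n85770 := ((((iv3 F131499)).symm.trans (sb E67899 D163226))).symm
theorem E71385 : n85773 = n78724 := ((D85773).symm.trans (sb E67899 (iv5 F119863)))
theorem E71387 : n86238 = n85784 := (((D85784).symm.trans (sb E67900 (iv4 D180570)))).symm
theorem E71388 : n86269 = n75140 := ((((iv4 F112677)).symm.trans (sb E67901 F281018))).symm
theorem E71390 : n116923 = n86268 := (((iv4 F182693)).symm.trans (sb E67902 F281011))
theorem E71391 : n163875 = n31013 := (((E68884).symm.trans (((iv5 F110910)).symm.trans (sb E67902 (iv5 F281014))))).symm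
theorem E71392 : n79879 = n68808 := (((E69264).symm.trans (((iv1 F175279)).symm.trans (sb E67903 F129794)))).symm
theorem E71393 : n86228 = n32178 := ((((iv0 D69186)).symm.trans (sb E67903 F132180))).symm
theorem E71394 : n147348 = n86230 := (E69261).trans E70320
theorem E71395 : n177679 = n147628 := (((D147628).symm.trans (sb E67903 (iv3 F277114)))).symm
theorem E71396 : n110060 = n39081 := ((F170185).symm.trans (sb E67903 (iv5 D84623)))
theorem E71397 : n177709 = n147630 := (((D147630).symm.trans (sb E67903 (iv6 F277167)))).symm
theorem E71398 : n116925 = n39269 := ((E69262).symm.trans (((iv7 F202780)).symm.trans (sb E67903 F129793)))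
theorem E71400 : n155238 = n55038 := ((D155238).symm.trans (sb E67905 (iv1 D119616)))
theorem E71401 : n155239 = n72088 := ((D155239).symm.trans (sb E67905 F188659))
theorem F311445 : act 2 n73724 = n72134 := (sb E67905 F200719)
theorem E71402 : n155247 = n54307 := ((D155247).symm.trans (sb E67906 (iv1 D117899)))
theorem E71403 : n155248 = n54312 := ((D155248).symm.trans (sb E67906 F184896))
theorem F311446 : act 2 n73728 = n69649 := (sb E67906 F184900)
theorem E71407 : n163219 = n58417 := ((((iv1 F92274)).symm.trans (sb E67908 D163219))).symm
theorem F311447 : act 4 n39423 = n35747 := (sb E67908 F119635)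
theorem E71409 : n163221 = n75129 := (((F112640).symm.trans (sb E67908 D163221))).symm
theorem F311448 : act 6 n39423 = n35746 := (sb E67908 (iv6 D78447))
theorem E71410 : n163222 = n58416 := (((F106001).symm.trans (sb E67908 D163222))).symm
theorem F311449 : act 5 n58085 = n74150 := (sb E67912 (iv5 D155919))
theorem E71413 : n155814 = n121243 := ((((iv6 F193314)).symm.trans (sb E67912 F244904))).symm
theorem E71415 : n121244 = n34005 := ((D121244).symm.trans (sb E67916 (iv5 D74122)))
theorem F311450 : act 2 n107934 = n120391 := (sb E67917 F196439)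
theorem F311451 : act 6 n107934 = n56941 := (sb E67917 (iv6 D122617))
theorem F311452 : act 0 n31685 = n53834 := (sb E67919 F103869)
theorem F311453 : act 1 n31685 = n63561 := (sb E67919 (iv0 F103871))
theorem E71416 : n68089 = n31507 := (((iv4 F104213)).symm.trans (sb E67919 F103867))
theorem F311454 : act 7 n31685 = n53553 := (sb E67919 F103868)
theorem E71418 : n125183 = n65074 := (((D65074).symm.trans (sb E67921 (iv3 F237524)))).symm
theorem E71419 : n108007 = n65075 := (((D65075).symm.trans (sb E67921 (iv5 F166881)))).symm
theorem E71420 : n127753 = n31424 := (((F49756).symm.trans (sb E67921 (iv6 F237428)))).symm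
theorem F311455 : act 3 n13293 = n14485 := (sb E67924 (iv3 D30528))
theorem E71424 : n64988 = n27882 := (((D27882).symm.trans (sb E67924 D64988))).symm
theorem E71425 : n31776 = n27883 := (((D27883).symm.trans (sb E67924 (iv6 F50069)))).symm
theorem E71426 : n32946 = n12297 := (((F48927).symm.trans (sb E67925 (iv1 F86117)))).symm
theorem E71427 : n26362 = n14637 := (((F48928).symm.trans (sb E67925 (iv0 D54509)))).symm
theorem E71428 : n118357 = n31777 := (((D31777).symm.trans (sb E67925 D118357))).symm
theorem E71430 : n125167 = n62135 := ((((iv4 F96856)).symm.trans (sb E67926 D125167))).symm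
theorem F311456 : act 5 n29431 = n27850 := (sb E67926 (iv5 D58541))
theorem E71431 : n125168 = n62171 := ((((iv6 F96924)).symm.trans (sb E67926 D125168))).symm
theorem E71432 : n61471 = n53897 := (((iv1 F95972)).symm.trans (sb E67927 F199763))
theorem E71433 : n61473 = n53892 := (((iv0 F95977)).symm.trans (sb E67927 F199764))
theorem F311457 : act 0 n32861 = n66134 := (sb E67929 (iv1 D141004))
theorem E71439 : n145159 = n70946 := (((D70946).symm.trans (sb E67929 F228140))).symm
theorem E71441 : n145698 = n125261 := (((D125261).symm.trans (sb E67930 (iv4 F228778)))).symm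
theorem E71442 : n145680 = n59996 := ((((iv6 D127764)).symm.trans (sb E67931 (iv6 F228742)))).symm
theorem E71444 : n70213 = n66112 := ((F206620).symm.trans (sb E67932 F223967))
theorem E71445 : n145158 = n86821 := (((F206621).symm.trans (sb E67932 F228136))).symm
theorem E71446 : n142612 = n120675 := ((D142612).symm.trans (sb E67935 F237535))
theorem E71447 : n142613 = n117486 := ((D142613).symm.trans (sb E67935 (iv0 F243764)))
theorem E71448 : n120673 = n116592 := ((((iv2 F181949)).symm.trans (sb E67935 F237530))).symm
theorem E71450 : n155011 = n31150 := ((((iv6 D66847)).symm.trans (sb E67935 (iv6 F243761)))).symm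
theorem E71451 : n142615 = n120674 := ((D142615).symm.trans (sb E67935 (iv7 F237527)))
theorem F311460 : act 0 n74940 = n65081 := (sb E67938 (iv1 F180201))
theorem F311461 : act 1 n74940 = n53404 := (sb E67938 (iv0 D115810))
theorem E71452 : n139918 = n73687 := (((F309194).symm.trans (sb E67938 (iv4 F223136)))).symm
theorem E71453 : n156567 = n130886 := (((iv3 F246205)).symm.trans (sb E67940 (iv3 F237550)))
theorem E71454 : n156568 = n34359 := ((D156568).symm.trans (sb E67940 (iv6 D74997)))
theorem E71457 : n141703 = n68466 := ((((iv5 F114313)).symm.trans (sb E67941 (iv5 F224754)))).symm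
theorem F311462 : act 3 n85954 = n66134 := (sb E67942 F224017)
theorem E71459 : n150941 = n66132 := (((iv6 F237643)).symm.trans (sb E67942 (iv6 D141000)))
theorem F311463 : act 7 n141002 = n155886 := (sb E67943 (iv7 F244876))
theorem E71461 : n150944 = n66125 := ((((iv1 F101760)).symm.trans (sb E67944 D150944))).symm
theorem E71462 : n150945 = n66124 := (((F101759).symm.trans (sb E67944 D150945))).symm
theorem F311464 : act 0 n37359 = n78942 := (sb E67945 (iv1 D164367))
theorem E71464 : n150499 = n117720 := (E67946).trans E68086
theorem E71465 : n70922 = n62568 := (((F184354).symm.trans (sb E71464 (iv0 D150499)))).symm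
theorem E71466 : n142661 = n31155 := ((((iv5 D66868)).symm.trans (sb E70294 F236934))).symm
theorem E71467 : n142652 = n62568 := ((D142652).symm.trans (sb E70294 (tr F236933 E71465)))
theorem E71469 : n117395 = n26136 := (((F85236).symm.trans (sb E67950 (iv5 F236929)))).symm
theorem E71470 : n81556 = n70224 := (((D70224).symm.trans (sb E67951 (iv1 F125436)))).symm
theorem F311465 : act 1 n32595 = n36767 := (sb E67951 F301089)
theorem F311466 : act 5 n32595 = n27874 := (sb E67951 (iv5 D58590))
theorem F311467 : act 0 n37350 = n70222 := (sb E67952 (iv1 D149523))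
theorem F311468 : act 1 n37350 = n70226 := (sb E67952 F235136)
theorem E71472 : n114831 = n81723 := (((D81723).symm.trans (sb E67952 F290295))).symm
theorem F311469 : act 2 n80571 = n70226 := (sb E67953 F235137)
theorem E71473 : n167876 = n106314 := ((D167876).symm.trans (sb E67953 F235138))
theorem F311470 : act 7 n80571 = n70222 := (sb E67953 (iv7 D149524))
theorem F311471 : act 0 n78938 = n81765 := (sb E67954 F267919)
theorem E71474 : n153606 = n139270 := ((F241455).symm.trans (sb E67956 (iv1 F247268)))
theorem F311472 : act 1 n152595 = n74706 := (sb E67956 (iv0 D157131))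
theorem E71475 : n149966 = n139269 := (((iv1 F241451)).symm.trans (sb E67957 (iv1 F247273)))
theorem E71476 : n139268 = n133783 := ((((iv0 F309115)).symm.trans (sb E67957 F247271))).symm
theorem F311473 : act 2 n72633 = n74706 := (sb E67957 (iv2 D157133))
theorem F311474 : act 3 n127998 = n61205 := (sb E67958 (iv3 D130443))
theorem F311475 : act 4 n127998 = n74706 := (sb E67958 (iv4 F237544))
theorem F311476 : act 7 n127998 = n133130 := (sb E67958 (iv7 F213830))
theorem F311477 : act 5 n72842 = n74706 := (sb E67959 (iv5 D157134))
theorem F311478 : act 4 n39473 = n143697 := (sb E67961 D143697)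
theorem E71485 : n147012 = n116437 := (((iv1 F230458)).symm.trans (sb E67962 F247280))
theorem E71486 : n120700 = n119880 := (((iv0 F192409)).symm.trans (sb E67962 (iv0 F247282)))
theorem E71487 : n85481 = n66446 := (((iv7 F185083)).symm.trans (sb E67962 (tr F247279 E70611)))
theorem E71489 : n147015 = n26130 := ((((iv3 F41398)).symm.trans (sb E67963 D147015))).symm
theorem E71490 : n32049 = n25976 := ((((iv4 F41055)).symm.trans (sb E67963 (iv4 D68920)))).symm
theorem E71493 : n32054 = n31157 := ((((iv4 F49508)).symm.trans (sb E67964 (iv4 D68931)))).symm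
theorem F311479 : act 0 n97235 = n70191 := (sb E67965 (iv1 D149466))
theorem F311480 : act 1 n97235 = n146229 := (sb E67965 (iv0 F243379))
theorem F311481 : act 2 n97235 = n117224 := (sb E67965 F235071)
theorem F311482 : act 7 n97235 = n146286 := (sb E67965 F235069)
theorem F311483 : act 2 n118483 = n114461 := (sb E67966 F298173)
theorem F311484 : act 6 n118483 = n75532 := (sb E67966 (iv6 D158378))
theorem F311485 : act 2 n118748 = n71687 := (sb E67967 F238380)
theorem F311486 : act 6 n118748 = n71426 := (sb E67967 (iv6 D151511))
theorem F311487 : act 2 n45433 = n68372 := (sb E67969 F228967)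
theorem F311488 : act 6 n95873 = n48913 := (sb E67970 (iv6 D105794))
theorem F311489 : act 6 n95874 = n48914 := (sb E67971 (iv6 D105797))
theorem F311490 : act 6 n23852 = n44763 := (sb E67972 (iv6 D95875))
theorem E71495 : n105791 = n69738 := (E67973).trans E67976
theorem E71496 : n68059 = n48908 := (((F106130).symm.trans (sb E71495 F243250))).symm
theorem E71497 : n53890 = n48921 := (((F106131).symm.trans (sb E71495 F243251))).symm
theorem E71498 : n68058 = n48917 := (((F106128).symm.trans (sb E71495 F243377))).symm
theorem E71499 : n167928 = n146038 := ((((iv5 F229279)).symm.trans (sb E71495 (iv5 F264623)))).symm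
theorem E71500 : n48916 = n48912 := ((F106129).symm.trans (sb E71495 (iv7 D105791)))
theorem F311491 : act 4 n69739 = n44764 := (sb E67975 (iv4 F309271))
theorem F311492 : act 6 n69738 = n44764 := (sb E67976 (iv6 D95878))
theorem F311493 : act 4 n95879 = n68372 := (sb E67979 F228970)
theorem F311494 : act 0 n145825 = n97236 := (sb E67980 (iv1 F229634))
theorem F311495 : act 1 n145826 = n97236 := (sb E67981 F229629)
theorem F311496 : act 3 n131436 = n80168 := (sb E67982 (iv3 D167000))
theorem F311497 : act 7 n131436 = n83525 := (sb E67982 F262970)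
theorem F311498 : act 0 n139200 = n70839 := (sb E67984 (iv1 F236662))
theorem F311499 : act 1 n139200 = n70838 := (sb E67984 F236663)
theorem F311500 : act 7 n139200 = n70829 := (sb E67984 (iv7 D150357))
theorem F311501 : act 4 n34993 = n65001 := (sb E67985 (iv4 D138384))
theorem E71501 : n100918 = n71673 := ((F155090).symm.trans (sb E67986 F239035))
theorem F311502 : act 2 n131435 = n83525 := (sb E67988 (iv2 D174854))
theorem F311503 : act 3 n131435 = n83606 := (sb E67988 F273713)
theorem F311504 : act 6 n131436 = n71982 := (sb E67989 (iv6 D152606))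
theorem F311505 : act 0 n33691 = n73079 := (sb E67990 (iv1 D154240))
theorem F311506 : act 0 n102269 = n149662 := (sb E67995 (iv1 F235289))
theorem F311507 : act 1 n102269 = n149661 := (sb E67995 F235293)
theorem F311508 : act 2 n102269 = n149663 := (sb E67995 (iv2 F235290))
theorem F311509 : act 3 n102269 = n71444 := (sb E67995 F193575)
theorem F311510 : act 7 n102269 = n55984 := (sb E67995 (iv7 D121353))
theorem E71506 : n54353 = n15004 := ((((iv1 F41316)).symm.trans (sb E67997 D54353))).symm
theorem F311511 : act 6 n26115 = n12485 := (sb E67997 F41766)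
theorem E71508 : n54357 = n15002 := (((F131514).symm.trans (sb E67997 D54357))).symm
theorem E71509 : n60389 = n55622 := (((D55622).symm.trans (sb E67999 (iv6 D128428)))).symm
theorem E71510 : n55633 = n55170 := ((D55633).symm.trans (sb E68001 (iv1 F87269)))
theorem E71511 : n55634 = n55173 := ((D55634).symm.trans (sb E68001 (iv0 F87281)))
theorem F311512 : act 4 n26864 = n13668 := (sb E68001 (iv4 D28680))
theorem E71512 : n54274 = n13870 := (((F43304).symm.trans (sb E68001 (iv5 F85618)))).symm
theorem E71513 : n55635 = n49036 := ((D55635).symm.trans (sb E68001 (iv7 F77400)))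
theorem F311513 : act 1 n39644 = n77559 := (sb E68005 (iv0 D161535))
theorem E71514 : n77658 = n75953 := ((((iv4 F113850)).symm.trans (sb E68005 (iv4 F255550)))).symm
theorem F311515 : act 4 n118344 = n77659 := (sb E68006 F255539)
theorem F311516 : act 0 n121432 = n58558 := (sb E68007 (iv1 D125203))
theorem E71515 : n159018 = n56051 := ((((iv4 D121432)).symm.trans (sb E68007 (iv4 F250353)))).symm
theorem F311518 : act 5 n121432 = n118408 := (sb E68007 (iv5 F201297))
theorem F311519 : act 0 n161537 = n148867 := (sb E68008 F279886)
theorem E71517 : n120614 = n77557 := (((D77557).symm.trans (sb E68009 F279889))).symm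
theorem E71518 : n151309 = n77558 := (((D77558).symm.trans (sb E68009 F279890))).symm
theorem E71519 : n146734 = n56127 := ((((iv7 F301951)).symm.trans (sb E68009 F279888))).symm
theorem E71520 : n162087 = n151153 := ((((iv4 F237823)).symm.trans (sb E68010 (iv4 F302588)))).symm
theorem F311523 : act 5 n114570 = n149203 := (sb E68014 (iv5 F234580))
theorem F311524 : act 7 n114570 = n149202 := (sb E68014 F234578)
theorem E71522 : n114680 = n31604 := ((D114680).symm.trans (sb E68015 F184661))
theorem E71523 : n114681 = n68434 := ((D114681).symm.trans (sb E68015 F184662))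
theorem F311525 : act 2 n52932 = n68433 := (sb E68015 F184743)
theorem F311526 : act 3 n52932 = n31561 := (sb E68015 (iv3 D67893))
theorem E71524 : n144851 = n25698 := (((F83650).symm.trans (sb E68015 D144851))).symm
theorem E71525 : n114683 = n60415 := ((D114683).symm.trans (sb E68015 F103956))
theorem F311527 : act 6 n119051 = n68448 := (sb E68016 (iv6 D145999))
theorem E71526 : n68449 = n54786 := (((D54786).symm.trans (sb E68017 (iv6 D146005)))).symm
theorem F311528 : act 6 n31850 = n54785 := (sb E68018 (iv6 D119052))
theorem E71527 : n114653 = n68440 := ((D114653).symm.trans (sb E68019 F233141))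
theorem F311529 : act 4 n52920 = n68433 := (sb E68019 (iv4 D145946))
theorem E71528 : n144927 = n76457 := ((((iv7 F290302)).symm.trans (sb E68019 F229183))).symm
theorem E71530 : n14829 = n7092 := ((((iv6 F11344)).symm.trans (sb E68020 F49569))).symm
theorem F311530 : act 6 n7031 = n7293 := (sb E68021 (iv6 D15450))
theorem E71541 : n67994 = n52894 := (((D52894).symm.trans (sb E68026 F183201))).symm
theorem E71542 : n119203 = n67958 := ((((iv1 F104058)).symm.trans (sb E68027 (iv1 F290477)))).symm
theorem F311531 : act 2 n31646 = n52909 := (sb E68027 F106810)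
theorem F311532 : act 6 n31646 = n32649 := (sb E68027 (iv6 D70335))
theorem F311533 : act 1 n31644 = n52909 := (sb E68028 (iv0 D114623))
theorem F311534 : act 0 n31643 = n52909 := (sb E68029 (iv1 D114624))
theorem E71546 : n67991 = n52911 := (((D52911).symm.trans (sb E68030 F227927))).symm
theorem E71547 : n67956 = n52913 := (((D52913).symm.trans (sb E68030 (iv7 D144954)))).symm
theorem F311535 : act 0 n114625 = n68006 := (sb E68031 (iv1 F206664))
theorem F311536 : act 1 n114625 = n68005 := (sb E68031 F206665)
theorem F311537 : act 3 n114625 = n60438 := (sb E68031 F206662)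
theorem F311538 : act 6 n114625 = n155943 := (sb E68031 (iv6 F244948))
theorem F311539 : act 7 n114625 = n60435 := (sb E68031 (iv7 D128498))
theorem F311540 : act 7 n31626 = n52909 := (sb E68032 (iv7 D114626))
theorem E71548 : n130076 = n69746 := ((F213900).symm.trans (sb E68033 (iv5 D148813)))
theorem E71549 : n178924 = n176155 := (((D176155).symm.trans (sb E68034 D178924))).symm
theorem E71550 : n178925 = n176156 := (((D176156).symm.trans (sb E68034 D178925))).symm
theorem E71551 : n178926 = n160596 := ((((iv2 F300996)).symm.trans (sb E68034 D178926))).symm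
theorem E71552 : n176148 = n39420 := (((iv3 F275395)).symm.trans (sb E68034 (iv3 D85313)))
theorem E71553 : n178927 = n176154 := ((((iv4 F275400)).symm.trans (sb E68034 D178927))).symm
theorem E71554 : n155666 = n38699 := ((((iv6 D84024)).symm.trans (sb E68034 (iv6 F244690)))).symm
theorem E71555 : n176158 = n85758 := ((D176158).symm.trans (sb E68034 (iv7 F131494)))
theorem F311541 : act 0 n158984 = n160595 := (sb E68035 (iv1 F281314))
theorem F311542 : act 1 n158984 = n160594 := (sb E68035 F281315)
theorem F311544 : act 4 n158984 = n167567 := (sb E68035 F281311)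
theorem F311545 : act 6 n158984 = n160632 := (sb E68035 F281312)
theorem F311546 : act 7 n158984 = n86325 := (sb E68035 (iv7 D180731))
theorem F311547 : act 5 n74053 = n38697 := (sb E68036 (iv5 D84021))
theorem E71559 : n166195 = n70967 := ((((iv7 F113925)).symm.trans (sb E68036 (iv7 F302326)))).symm
theorem E71560 : n155664 = n79423 := ((((iv2 F311072)).symm.trans (sb E68037 (iv2 F244685)))).symm
theorem F311548 : act 0 n34113 = n58543 := (sb E68044 (iv1 F92478))
theorem F311549 : act 1 n34113 = n58542 := (sb E68044 F92477)
theorem E71567 : n74367 = n18801 := ((D74367).symm.trans (sb E68044 F60599))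
theorem E71568 : n85950 = n74368 := (((D74368).symm.trans (sb E68044 D85950))).symm
theorem F311550 : act 5 n34113 = n18800 := (sb E68044 (iv5 D39757))
theorem E71569 : n71155 = n30917 := (((F53530).symm.trans (sb E68044 (iv6 F200004)))).symm
theorem E71570 : n54512 = n6991 := ((((iv1 D14635)).symm.trans (sb E68045 (iv1 F86119)))).symm
theorem E71571 : n25914 = n15864 := ((F40957).symm.trans (sb E68045 (iv0 D32944)))
theorem F311551 : act 3 n8791 = n13766 := (sb E68046 (iv3 D28882))
theorem E71573 : n60852 = n18757 := (((D18757).symm.trans (sb E68046 (iv4 F95408)))).symm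
theorem E71574 : n60892 = n18758 := (((D18758).symm.trans (sb E68046 (iv6 F95440)))).symm
theorem E71575 : n60890 = n31669 := ((D60890).symm.trans (sb E68047 (iv1 F199780)))
theorem E71576 : n60891 = n31664 := ((D60891).symm.trans (sb E68047 (iv0 F199781)))
theorem E71577 : n71162 = n30916 := ((((iv7 F49360)).symm.trans (sb E68047 (iv7 F199989)))).symm
theorem E71578 : n108406 = n67708 := ((((iv5 F103746)).symm.trans (sb E68051 (iv5 F185847)))).symm
theorem E71579 : n145168 = n30756 := (((F49761).symm.trans (sb E68051 F228159))).symm
theorem E71580 : n85761 = n30762 := ((((iv3 F49217)).symm.trans (sb E68052 (iv3 F237504)))).symm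
theorem F311552 : act 5 n31442 = n31710 := (sb E68053 F52093)
theorem E71583 : n30539 = n15844 := (((iv6 F49746)).symm.trans (sb E68053 (iv6 D32904)))
theorem E71584 : n30536 = n12567 := ((D30536).symm.trans (sb E68054 (iv1 D26346)))
theorem E71585 : n30537 = n15847 := ((D30537).symm.trans (sb E68054 F42018))
theorem F311553 : act 2 n14488 = n15845 := (sb E68054 (iv2 F42021))
theorem F311554 : act 5 n14488 = n15595 := (sb E68054 F42020)
theorem F311555 : act 4 n26396 = n39363 := (sb E68056 F130458)
theorem F311556 : act 7 n78268 = n74036 := (sb E68058 (iv7 D155635))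
theorem E71588 : n162830 = n74053 := ((D162830).symm.trans (sb E68060 (iv1 F189458)))
theorem E71589 : n162831 = n74052 := ((D162831).symm.trans (sb E68060 F189459))
theorem F311557 : act 2 n78270 = n74055 := (sb E68060 F189455)
theorem F311558 : act 4 n78270 = n55228 := (sb E68060 F189456)
theorem E71590 : n162833 = n55225 := ((D162833).symm.trans (sb E68060 (iv7 D120007)))
theorem F311559 : act 4 n78412 = n39482 := (sb E68061 (iv4 D85521))
theorem E71592 : n163081 = n120029 := ((D163081).symm.trans (sb E68061 (iv6 F189523)))
theorem F311560 : act 4 n78411 = n39481 := (sb E68062 (iv4 D85517))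
theorem E71594 : n179194 = n163079 := (((D163079).symm.trans (sb E68062 D179194))).symm
theorem F311561 : act 7 n72133 = n73724 := (sb E68066 F193141)
theorem F311562 : act 4 n58415 = n55882 := (sb E68067 F193143)
theorem F311563 : act 4 n32835 = n65617 := (sb E68069 (iv4 D139781))
theorem E71596 : n70858 = n65623 := ((D70858).symm.trans (sb E68069 F222961))
theorem F311564 : act 4 n115809 = n153666 := (sb E68072 (iv4 F241550))
theorem F311565 : act 6 n115809 = n70958 := (sb E68072 (iv6 D150543))
theorem E71597 : n144486 = n59972 := ((((iv1 F130817)).symm.trans (sb E68073 (iv1 F227328)))).symm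
theorem E71598 : n143915 = n70871 := ((((iv0 F114112)).symm.trans (sb E68073 (iv0 F226552)))).symm
theorem F311566 : act 4 n32867 = n53404 := (sb E68073 (iv4 D115811))
theorem F311567 : act 1 n55632 = n31151 := (sb E68074 (iv0 F94929))
theorem E71605 : n120697 = n65575 := ((D120697).symm.trans (sb E68077 F102698))
theorem F311568 : act 7 n55631 = n31151 := (sb E68077 (iv7 D66850))
theorem F311569 : act 5 n76662 = n70939 := (sb E68079 (iv5 D150520))
theorem F311570 : act 3 n131170 = n67300 := (sb E68082 F226366)
theorem F311571 : act 5 n61510 = n67300 := (sb E68084 (iv5 D143699))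
theorem E71610 : n32654 = n14759 := ((((iv1 D31296)).symm.trans (sb E68085 (iv1 F85844)))).symm
theorem F311572 : act 1 n31296 = n26291 := (sb E68085 (iv0 D54380))
theorem F311573 : act 5 n31296 = n39473 := (sb E68085 (iv5 F85847))
theorem E71611 : n53797 = n32652 := (((iv7 F183578)).symm.trans (sb E68085 F85846))
theorem F311574 : act 5 n55339 = n67330 := (sb E68087 (iv5 D143746))
theorem F311575 : act 6 n55081 = n67330 := (sb E68088 F184539)
theorem E71614 : n143732 = n32277 := (E68089).trans E70551
theorem E71615 : n69501 = n67316 := (((iv1 F105800)).symm.trans (sb E71614 (iv1 D143732)))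
theorem F311577 : act 1 n143734 = n133634 := (sb E68090 (iv0 F234684))
theorem F311578 : act 6 n143734 = n68938 := (sb E68090 (iv6 D147027))
theorem F311579 : act 4 n32057 = n68385 := (sb E68092 F182348)
theorem E71617 : n142643 = n54102 := (((E68117).symm.trans (((iv5 F85593)).symm.trans (sb E68092 (iv5 F225531))))).symm
theorem F311580 : act 6 n32057 = n67332 := (sb E68092 F182349)
theorem F311581 : act 7 n32057 = n53810 := (sb E68092 (iv7 D116794))
theorem F311582 : act 1 n35058 = n30744 := (sb E68095 (iv0 D65615))
theorem E71620 : n139775 = n76689 := ((((iv3 F115044)).symm.trans (sb E68095 D139775))).symm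
theorem F311583 : act 4 n35058 = n31560 := (sb E68095 (iv4 F101351))
theorem F311584 : act 0 n26863 = n30744 := (sb E68096 (iv1 D65616))
theorem F311585 : act 4 n26863 = n31561 := (sb E68096 (iv4 F101353))
theorem E71622 : n139761 = n76664 := ((D139761).symm.trans (sb E68097 F252651))
theorem E71623 : n139762 = n76635 := ((D139762).symm.trans (sb E68097 F252652))
theorem E71624 : n76661 = n67070 := (((F103085).symm.trans (sb E68097 F252511))).symm
theorem E71625 : n149573 = n139760 := ((((iv4 F222942)).symm.trans (sb E68097 (iv4 F237536)))).symm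
theorem E71630 : n55094 = n12322 := (((F24228).symm.trans (sb E68099 F108675))).symm
theorem E71631 : n68921 = n12319 := (((F24229).symm.trans (sb E68099 (iv0 F108678)))).symm
theorem F311586 : act 6 n74989 = n70939 := (sb E68101 (iv6 D150521))
theorem E71633 : n143128 = n35044 := ((((iv1 D76662)).symm.trans (sb E68102 (iv1 F225978)))).symm
theorem E71634 : n160040 = n143127 := ((F252522).symm.trans (sb E68102 F225982))
theorem E71635 : n160039 = n143130 := (((iv2 F252648)).symm.trans (sb E68102 (iv2 F225981)))
theorem E71636 : n160083 = n142628 := ((D160083).symm.trans (sb E68102 (iv6 F225504)))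
theorem F311587 : act 7 n76662 = n65611 := (sb E68102 (iv7 D139764))
theorem F311588 : act 4 n31527 = n35057 := (sb E68103 (iv4 D76696))
theorem E71640 : n146766 = n65573 := ((((iv1 F102719)).symm.trans (sb E68104 F230130))).symm
theorem F311589 : act 6 n66859 = n35057 := (sb E68104 (iv6 D76697))
theorem E71642 : n178407 = n157552 := (((D157552).symm.trans (sb E68107 (iv4 F277982)))).symm
theorem E71647 : n70341 = n26223 := ((((iv1 F41621)).symm.trans (sb E68114 (iv1 F234717)))).symm
theorem F311590 : act 4 n15207 = n17042 := (sb E68114 F55775)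
theorem F311591 : act 6 n15207 = n17041 := (sb E68114 (iv6 D35100))
theorem E71655 : n68599 = n32335 := (E69580).trans E70604
theorem F311592 : act 5 n54102 = n32057 := (sb E68117 F85593)
theorem E71657 : n54360 = n31001 := ((D54360).symm.trans (sb E68126 (iv1 D66402)))
theorem E71658 : n65680 = n54361 := (((D54361).symm.trans (sb E68126 F102293))).symm
theorem E71659 : n141572 = n54359 := ((((iv3 F85790)).symm.trans (sb E68126 D141572))).symm
theorem F311593 : act 4 n26275 = n31985 := (sb E68126 (iv4 F102296))
theorem E71660 : n141573 = n29732 := ((((iv5 F47804)).symm.trans (sb E68126 D141573))).symm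
theorem E71661 : n54362 = n33964 := ((D54362).symm.trans (sb E68126 F102294))
theorem E71670 : n115851 = n32554 := ((((iv2 F51619)).symm.trans (sb E68130 (iv2 F180335)))).symm
theorem E71671 : n115872 = n7277 := ((((iv5 D15416)).symm.trans (sb E68130 D115872))).symm
theorem E71672 : n32558 = n25877 := ((D32558).symm.trans (sb E68130 (iv6 D53420)))
theorem E71674 : n25882 = n7086 := ((((iv6 F11583)).symm.trans (sb E68131 F84281))).symm
theorem F311594 : act 6 n12284 = n7278 := (sb E68132 (iv6 D15419))
theorem E71685 : n116047 = n32580 := (((D32580).symm.trans (sb E68136 (iv6 F180801)))).symm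
theorem E71688 : n32586 = n30911 := ((D32586).symm.trans (sb E68138 (iv1 F84398)))
theorem E71689 : n32587 = n30910 := ((D32587).symm.trans (sb E68138 F84399))
theorem F311595 : act 4 n15427 = n26225 := (sb E68138 F84395)
theorem E71690 : n116065 = n32588 := (((D32588).symm.trans (sb E68138 (iv5 F180816)))).symm
theorem E71691 : n32589 = n25910 := ((D32589).symm.trans (sb E68138 (iv7 D53494)))
theorem E71698 : n149505 = n14676 := (((F49065).symm.trans (sb E70948 D149505))).symm
theorem E71699 : n26224 = n14676 := ((D26224).symm.trans (sb E68142 (tr (iv5 F235125) E71698)))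
theorem F311596 : act 0 n15122 = n31308 := (sb E68144 F163078)
theorem F311597 : act 1 n54313 = n32058 := (sb E68145 (iv0 D68941))
theorem E71703 : n147029 = n117907 := ((((iv3 F184919)).symm.trans (sb E68145 D147029))).symm
theorem E71705 : n116439 = n68942 := ((F182345).symm.trans (iv1 (sb E68146 (tr (iv0 F183858) E70558))))
theorem E71706 : n148164 = n147031 := (((D147031).symm.trans (sb E68146 (iv3 F237483)))).symm
theorem E71707 : n147032 = n68919 := ((D147032).symm.trans (sb E68146 (iv5 F105918)))
theorem E71708 : n147033 = n61409 := ((D147033).symm.trans (sb E68146 (iv6 F105717)))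
theorem E71712 : n149343 = n148537 := ((((iv4 F233295)).symm.trans (sb E68148 (iv4 F234774)))).symm
theorem E71714 : n79772 = n32318 := ((((iv7 D69616)).symm.trans (sb E68148 (iv7 F122466)))).symm
theorem E71715 : n149309 = n31998 := (((F85558).symm.trans (sb E68149 D149309))).symm
theorem F311598 : act 4 n54300 = n55081 := (sb E68150 F106481)
theorem E71717 : n149306 = n31997 := (((F85688).symm.trans (sb E68150 D149306))).symm
theorem E71718 : n56258 = n54057 := ((((iv0 F105905)).symm.trans (sb E68151 F106504))).symm
theorem F311599 : act 1 n54103 = n31308 := (sb E68158 (iv0 D67345))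
theorem F311600 : act 4 n54103 = n116793 := (sb E68158 (tr (iv4 F183857) E70558))
theorem F311601 : act 4 n32411 = n54241 := (sb E68159 (iv4 D117749))
theorem E71727 : n157502 = n71543 := ((D157502).symm.trans (sb E68160 (iv1 F235759)))
theorem E71728 : n157503 = n149891 := ((D157503).symm.trans (sb E68160 (iv0 F235758)))
theorem F311602 : act 2 n74958 = n120220 := (sb E68160 F304250)
theorem E71729 : n157504 = n57364 := ((D157504).symm.trans (sb E68160 (iv4 D123238)))
theorem F311603 : act 7 n74958 = n133629 := (sb E68160 F304253)
theorem E71730 : n119117 = n63667 := ((D119117).symm.trans (sb E68161 (iv4 D135452)))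
theorem F311604 : act 0 n74952 = n150377 := (sb E68162 (iv1 F303969))
theorem F311605 : act 1 n74952 = n150376 := (sb E68162 (iv0 F303962))
theorem F311606 : act 2 n139189 = n150376 := (sb E68163 (iv2 F303964))
theorem F311607 : act 3 n139189 = n81578 := (sb E68163 F236770)
theorem F311608 : act 4 n139189 = n150356 := (sb E68163 (iv4 F303956))
theorem F311609 : act 7 n139189 = n150377 := (sb E68163 (iv7 F303971))
theorem F311610 : act 5 n69876 = n86499 := (sb E68164 (iv5 D181127))
theorem F311611 : act 5 n127878 = n162913 := (sb E68165 F282114)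
theorem E71731 : n81741 = n70086 := (((F201146).symm.trans (sb E68166 (iv5 D170526)))).symm
theorem E71732 : n160245 = n81559 := (((F125450).symm.trans (sb E68168 (iv7 F253060)))).symm
theorem F311612 : act 0 n83594 = n162838 := (sb E68170 (iv1 F282101))
theorem F311613 : act 1 n83594 = n86497 := (sb E68170 (iv0 D181120))
theorem E71733 : n175045 = n163025 := ((D175045).symm.trans (sb E68170 (iv5 F282100)))
theorem F311614 : act 2 n81688 = n60310 := (sb E68172 (iv2 F307592))
theorem E71734 : n170353 = n38556 := ((D170353).symm.trans (sb E68172 F128681))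
theorem E71735 : n175062 = n170354 := (((D170354).symm.trans (sb E68172 (iv5 F274020)))).symm
theorem E71736 : n170346 = n60185 := (((iv6 F267831)).symm.trans (sb E68172 F305596))
theorem F311615 : act 7 n81688 = n38548 := (sb E68172 (iv7 D83600))
theorem F311616 : act 6 n28609 = n37337 := (sb E68173 F125616)
theorem F311617 : act 4 n149944 = n162912 := (sb E68175 F282361)
theorem E71740 : n151417 = n127306 := (((D127306).symm.trans (sb E68176 D151417))).symm
theorem E71741 : n151418 = n127307 := (((D127307).symm.trans (sb E68176 D151418))).symm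
theorem E71742 : n127308 = n118655 := ((D127308).symm.trans (sb E68176 (iv2 F186627)))
theorem F311618 : act 5 n59761 = n33024 := (sb E68176 (iv5 D71373))
theorem E71744 : n151413 = n127311 := (((D127311).symm.trans (sb E68176 (iv6 F238128)))).symm
theorem E71745 : n70214 = n66113 := ((((iv1 F204548)).symm.trans (sb E68179 F185022))).symm
theorem E71746 : n127317 = n70094 := ((D127317).symm.trans (sb E68179 (iv0 F185023)))
theorem E71747 : n127318 = n70848 := ((D127318).symm.trans (sb E68179 F302930))
theorem E71748 : n127319 = n70847 := ((D127319).symm.trans (sb E68179 (iv7 F305303)))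
theorem E71749 : n154121 = n120233 := (((D120233).symm.trans (sb E68180 (iv4 F242192)))).symm
theorem E71750 : n120234 = n70466 := ((D120234).symm.trans (sb E68180 (iv6 D149888)))
theorem F311619 : act 5 n32699 = n27820 := (sb E68182 F87564)
theorem F311620 : act 6 n32699 = n26737 := (sb E68182 (iv6 D55331))
theorem F311621 : act 1 n36568 = n76979 := (sb E68183 F115722)
theorem E71751 : n159290 = n80261 := ((((iv3 F123344)).symm.trans (sb E68183 D159290))).symm
theorem E71752 : n80268 = n36712 := ((D80268).symm.trans (sb E68183 F114170))
theorem F311622 : act 7 n36568 = n76977 := (sb E68183 F115708)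
theorem E71754 : n160531 = n129343 := ((((iv3 F207532)).symm.trans (sb E68185 (iv3 F253605)))).symm
theorem E71755 : n129367 = n35164 := (((iv5 F207540)).symm.trans (sb E68185 (iv5 D76970)))
theorem E71758 : n120925 = n62085 := ((((iv3 F96754)).symm.trans (sb E68188 (iv3 F192838)))).symm
theorem E71759 : n62092 = n26915 := ((D62092).symm.trans (sb E68188 (iv5 D55774)))
theorem E71762 : n159253 = n35227 := ((((iv3 F309591)).symm.trans (sb E68190 (iv3 F250741)))).symm
theorem E71763 : n130432 = n34802 := (((iv5 F208944)).symm.trans (sb E68190 (iv5 D76192)))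
theorem E71765 : n159242 = n62449 := ((((iv3 F97330)).symm.trans (sb E68191 (iv3 F250729)))).symm
theorem E71766 : n62452 = n34799 := ((D62452).symm.trans (sb E68191 (iv5 D76184)))
theorem F311623 : act 5 n133107 = n84850 := (sb E68192 (iv5 D178297))
theorem E71768 : n162976 = n70534 := (((F308408).symm.trans (sb E68192 F277863))).symm
theorem E71769 : n167027 = n35149 := ((((iv1 F60223)).symm.trans (sb E68193 F306284))).symm
theorem E71770 : n77440 = n35156 := ((((iv0 F60222)).symm.trans (sb E68193 F306285))).symm
theorem F311624 : act 5 n39260 = n62450 := (sb E68193 (iv5 D133108))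
theorem E71771 : n130427 = n35717 := ((((iv7 F60221)).symm.trans (sb E68193 F213760))).symm
theorem E71772 : n130077 = n84851 := ((F213763).symm.trans (sb E68194 (iv5 D178300)))
theorem E71773 : n162977 = n70533 := (((F304571).symm.trans (sb E68195 D162977))).symm
theorem E71776 : n143900 = n74898 := ((((iv3 F209880)).symm.trans (sb E68196 (iv3 F226527)))).symm
theorem E71779 : n31331 = n29301 := ((((iv6 D61836)).symm.trans (sb E68196 (iv6 D67409)))).symm
theorem F311625 : act 1 n149841 = n70444 := (sb E68197 (iv0 D149858))
theorem E71781 : n77744 = n77663 := (((F235691).symm.trans (sb E68197 F267397))).symm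
theorem F311626 : act 0 n149860 = n155904 := (sb E68198 F244896)
theorem F311627 : act 1 n149860 = n155900 := (sb E68198 F264363)
theorem E71782 : n149860 = n108286 := ((((iv3 F167428)).symm.trans (iv3 (sb E68198 (tr F236212 E68275))))).symm
theorem E71783 : n150097 = n108286 := (E68198).trans E71782
theorem E71784 : n131281 = n66315 := (((F167430).symm.trans (sb E71783 F236213))).symm
theorem F311628 : act 7 n35356 = n76163 := (sb E68200 F115640)
theorem F311629 : act 1 n89247 = n60272 := (sb E68217 (iv0 D128202))
theorem F311630 : act 5 n87403 = n55521 := (sb E68218 (iv5 D120563))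
theorem F311631 : act 4 n71507 = n55116 := (sb E68219 (iv4 D119784))
theorem E71787 : n59889 = n21678 := (((D21678).symm.trans (sb E68221 (iv6 D127518)))).symm
theorem F311632 : act 6 n34384 = n21544 := (sb E68222 (iv6 D45119))
theorem E71791 : n127573 = n21175 := ((((iv3 F33421)).symm.trans (sb E68223 (iv3 F205035)))).symm
theorem E71793 : n28456 = n21178 := (((D21178).symm.trans (sb E68223 (iv6 D59910)))).symm
theorem F311633 : act 1 n27519 = n32245 := (sb E68224 (iv0 D69403))
theorem F311634 : act 1 n69404 = n57573 := (sb E68225 (iv0 F177704))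
theorem F311635 : act 2 n69404 = n57268 := (sb E68225 F177700)
theorem E71797 : n148148 = n52671 := ((D148148).symm.trans (sb E68225 (iv3 D114103)))
theorem F311636 : act 4 n69404 = n119070 := (sb E68225 (iv4 F187339))
theorem E71798 : n148150 = n57267 := ((D148150).symm.trans (sb E68225 F177701))
theorem F311637 : act 7 n69404 = n57568 := (sb E68225 F177702)
theorem E71801 : n140012 = n76753 := ((((iv2 F115132)).symm.trans (sb E68226 (iv2 F223219)))).symm
theorem F311638 : act 3 n35083 = n32245 := (sb E68226 F101447)
theorem E71803 : n76758 = n30780 := ((D76758).symm.trans (sb E68226 (iv6 D65746)))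
theorem F311639 : act 5 n55424 = n32245 := (sb E68227 (iv5 D69405))
theorem E71807 : n148140 = n120391 := (((D120391).symm.trans (sb E68227 (iv6 F231961)))).symm
theorem F311640 : act 4 n33593 = n32248 := (sb E68229 (iv4 D69419))
theorem F311641 : act 6 n33593 = n49822 := (sb E68229 F105693)
theorem E71812 : n147941 = n48945 := (((iv4 F231755)).symm.trans (sb E68234 F162591))
theorem F311642 : act 6 n69313 = n48944 := (sb E68234 (iv6 D105867))
theorem E71813 : n159378 = n32219 := (((F85576).symm.trans (sb E68235 D159378))).symm
theorem E71814 : n71931 = n32218 := (((F85577).symm.trans (sb E68235 F290408))).symm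
theorem E71815 : n117726 = n60115 := ((D117726).symm.trans (sb E68235 F114241))
theorem E71816 : n159380 = n117727 := (((D117727).symm.trans (sb E68235 D159380))).symm
theorem F311643 : act 6 n54234 = n34821 := (sb E68235 (iv6 D76239))
theorem F311644 : act 1 n40142 = n74831 := (sb E68236 (iv0 F244294))
theorem E71819 : n52850 = n31930 := (((D31930).symm.trans (sb E68238 (iv4 D114499)))).symm
theorem F311645 : act 0 n123065 = n75851 := (sb E68239 (iv1 D158937))
theorem F311646 : act 1 n123065 = n75867 := (sb E68239 F250271)
theorem F311647 : act 2 n123065 = n148151 := (sb E68239 (iv2 F280348))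
theorem E71820 : n148102 = n118752 := ((D148102).symm.trans (sb E68240 F290485))
theorem E71821 : n151555 = n140010 := ((((iv2 F223217)).symm.trans (sb E68240 (iv2 F238427)))).symm
theorem F311648 : act 6 n69389 = n60114 := (sb E68240 (iv6 D127952))
theorem F311649 : act 6 n61527 = n57470 := (sb E68241 (iv6 D123378))
theorem F311650 : act 0 n153661 = n87788 := (sb E68242 (iv1 D184044))
theorem F311651 : act 1 n153420 = n87788 := (sb E68243 (iv0 D184043))
theorem F311652 : act 5 n152913 = n183450 := (sb E68244 F285997)
theorem F311653 : act 7 n152913 = n87788 := (sb E68244 (iv7 D184045))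
theorem F311654 : act 0 n61677 = n85652 := (sb E68245 (iv1 D179524))
theorem F311655 : act 2 n74877 = n85652 := (sb E68246 (iv2 D179525))
theorem F311656 : act 0 n49005 = n34293 := (sb E68247 (iv1 D74842))
theorem F311657 : act 1 n48754 = n34293 := (sb E68248 (iv0 D74841))
theorem F311658 : act 0 n118844 = n65607 := (sb E68249 (iv1 F221767))
theorem F311659 : act 1 n118844 = n65080 := (sb E68249 (iv0 D138599))
theorem F311660 : act 2 n118844 = n65613 := (sb E68249 (iv2 F221769))
theorem F311661 : act 7 n118844 = n65612 := (sb E68249 F221768)
theorem F311662 : act 0 n62778 = n84890 := (sb E68255 (iv1 D178418))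
theorem E71826 : n152928 = n133739 := (((D133739).symm.trans (sb E68255 (iv5 F278006)))).symm
theorem F311663 : act 7 n62778 = n85029 := (sb E68255 F278002)
theorem E71828 : n170226 = n69797 := ((((iv3 F106209)).symm.trans (sb E68257 (iv3 F267742)))).symm
theorem F311664 : act 5 n60066 = n37312 := (sb E68257 (iv5 D81637))
theorem F311665 : act 3 n70739 = n149903 := (sb E68259 (iv3 F235775))
theorem F311666 : act 5 n58576 = n70222 := (sb E68260 F205775)
theorem E71831 : n133748 = n121945 := (((F194697).symm.trans (sb E68262 (iv0 F252640)))).symm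
theorem F311667 : act 5 n70731 = n78276 := (sb E68263 (iv5 D162846))
theorem F311668 : act 1 n128134 = n76624 := (sb E68264 (iv0 D160020))
theorem F311669 : act 6 n128134 = n139200 := (sb E68264 F252438)
theorem F311670 : act 5 n70486 = n76624 := (sb E68265 (iv5 D160022))
theorem E71832 : n152027 = n88057 := (((iv4 F239042)).symm.trans (sb E68266 (iv4 D184669)))
theorem F311671 : act 3 n70625 = n49862 := (sb E68271 F166822)
theorem F311672 : act 6 n70625 = n49860 := (sb E68271 (iv6 D107955))
theorem F311673 : act 3 n70626 = n49873 := (sb E68272 F166842)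
theorem F311674 : act 6 n70626 = n108286 := (sb E68272 (iv6 F167429))
theorem F311675 : act 0 n77248 = n35356 := (sb E68274 (iv1 D77439))
theorem E71833 : n161304 = n160963 := ((((iv3 F254167)).symm.trans (sb E68274 D161304))).symm
theorem E71834 : n130429 = n35265 := (((F116015).symm.trans (sb E68274 (iv5 F306282)))).symm
theorem E71835 : n133142 = n108297 := ((((iv6 F167447)).symm.trans (sb E68274 (iv6 F306283)))).symm
theorem F311676 : act 3 n32433 = n49808 := (sb E68277 F166567)
theorem E71837 : n59756 = n32524 := ((((iv5 F51600)).symm.trans (sb E68277 F166568))).symm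
theorem F311677 : act 1 n36431 = n35356 := (sb E68278 (iv0 D77438))
theorem E71838 : n83597 = n79987 := ((((iv3 F122763)).symm.trans (sb E68278 (iv3 F191387)))).symm
theorem F311678 : act 4 n36431 = n61605 := (sb E68278 F304246)
theorem E71840 : n61107 = n35632 := (((F57203).symm.trans (sb E68278 (iv6 F306281)))).symm
theorem E71841 : n33963 = n29706 := ((((iv1 F47745)).symm.trans (sb E68279 F105852))).symm
theorem F311679 : act 1 n34807 = n36568 := (sb E68281 (iv0 D80266))
theorem E71842 : n167199 = n76204 := ((((iv3 F114167)).symm.trans (sb E68281 D167199))).symm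
theorem F311680 : act 4 n34807 = n62721 := (sb E68281 F305655)
theorem E71844 : n61020 = n27910 := (((F55011).symm.trans (sb E68281 (iv6 F307660)))).symm
theorem F311681 : act 3 n39288 = n76205 := (sb E68282 (iv3 D159288))
theorem E71845 : n84925 = n80487 := (((iv5 F130130)).symm.trans (sb E68282 F250767))
theorem E71846 : n131100 = n58088 := ((((iv1 F91872)).symm.trans (sb E68283 (iv1 F307668)))).symm
theorem E71847 : n167247 = n120029 := (((iv5 F263408)).symm.trans (sb E68284 (tr (iv5 F257413) E71592)))
theorem F311682 : act 6 n80284 = n76205 := (sb E68284 (iv6 D159289))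
theorem F311683 : act 0 n124856 = n74946 := (sb E68288 (iv1 D157482))
theorem E71848 : n154078 = n139186 := (((iv0 F242158)).symm.trans (sb E68288 F248140))
theorem F311684 : act 2 n124856 = n133784 := (sb E68288 (iv2 F248139))
theorem F311685 : act 7 n124856 = n139075 := (sb E68288 F248137)
theorem F311686 : act 1 n118777 = n133784 := (sb E68289 F248145)
theorem F311687 : act 2 n118777 = n74946 := (sb E68289 (iv2 D157483))
theorem F311688 : act 5 n108278 = n125121 := (sb E68290 F302993)
theorem F311689 : act 6 n108278 = n55405 := (sb E68290 (iv6 D120364))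
theorem E71849 : n117348 = n114852 := ((F183773).symm.trans (sb E68291 F290336))
theorem E71850 : n146531 = n76527 := ((D146531).symm.trans (sb E68291 F178831))
theorem F311690 : act 6 n68686 = n52949 := (sb E68291 (iv6 D114727))
theorem F311691 : act 3 n69860 = n61767 := (sb E68292 (iv3 D131640))
theorem F311692 : act 1 n62777 = n31958 := (sb E68293 (iv0 D68677))
theorem F311693 : act 2 n62777 = n67874 := (sb E68293 F232601)
theorem E71851 : n146501 = n133735 := (((D133735).symm.trans (sb E68293 D146501))).symm
theorem E71852 : n146503 = n133736 := (((D133736).symm.trans (sb E68293 D146503))).symm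
theorem F311694 : act 0 n68679 = n61628 := (sb E68294 (iv1 D131325))
theorem F311695 : act 2 n68679 = n107863 := (sb E68294 (iv2 F210472))
theorem F311696 : act 5 n68679 = n61767 := (sb E68294 F210466)
theorem F311697 : act 4 n155357 = n80606 := (sb E68295 (iv4 D167929))
theorem E71853 : n143521 = n48971 := ((((iv0 D105919)).symm.trans (sb E68296 (iv0 F226235)))).symm
theorem F311698 : act 2 n105919 = n139763 := (sb E68296 F225979)
theorem F311699 : act 5 n105919 = n67070 := (sb E68296 (iv5 D143129))
theorem F311700 : act 6 n105919 = n139757 := (sb E68296 F225980)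
theorem F311701 : act 5 n80567 = n70244 := (sb E68303 (iv5 D149584))
theorem F311702 : act 6 n80567 = n133818 := (sb E68303 F235192)
theorem F311703 : act 6 n79846 = n80582 := (sb E68304 (iv6 D167898))
theorem F311704 : act 0 n79765 = n81742 := (sb E68305 (iv1 D170529))
theorem E71854 : n160207 = n81744 := ((D160207).symm.trans (sb E68307 F267968))
theorem F311706 : act 6 n76759 = n81742 := (sb E68307 (iv6 D170532))
theorem E71855 : n155151 = n54974 := (((D54974).symm.trans (sb E68308 (iv1 F276684)))).symm
theorem E71856 : n149861 = n54975 := (((D54975).symm.trans (sb E68308 (iv0 F276683)))).symm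
theorem E71857 : n84470 = n54973 := ((((iv4 F86991)).symm.trans (sb E68308 (iv4 D177306)))).symm
theorem E71861 : n101634 = n35504 := (((F116361).symm.trans (sb E68313 F275121))).symm
theorem F311708 : act 3 n17206 = n22730 := (sb E68314 (iv3 D47271))
theorem F311709 : act 1 n41529 = n57980 := (sb E68315 (iv0 D124368))
theorem F311710 : act 0 n46063 = n57980 := (sb E68316 (iv1 D124369))
theorem E71864 : n98492 = n35497 := ((((iv7 F91359)).symm.trans (sb E68317 F275123))).symm
theorem F311711 : act 0 n124371 = n102628 := (sb E68318 F275126)
theorem F311712 : act 2 n124371 = n98499 := (sb E68318 F275124)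
theorem F311713 : act 6 n124371 = n102490 := (sb E68318 (iv6 F275128))
theorem E71865 : n161956 = n98494 := (((iv7 F255948)).symm.trans (sb E68318 F275125))
theorem F311714 : act 6 n46060 = n85881 := (sb E68319 (iv6 F131731))
theorem F311715 : act 7 n46060 = n57980 := (sb E68319 F117149)
theorem F311716 : act 3 n158540 = n83878 := (sb E68321 F275082)
theorem F311717 : act 6 n158540 = n83875 := (sb E68321 (iv6 D175692))
theorem F311718 : act 3 n124361 = n83876 := (sb E68322 (iv3 D175695))
theorem F311719 : act 7 n124361 = n98497 := (sb E68322 F275085)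
theorem F311720 : act 2 n175697 = n85881 := (sb E68323 (iv2 D179820))
theorem E71869 : n154069 = n10754 := (((D10754).symm.trans (sb E68326 (iv0 F255974)))).symm
theorem E71870 : n119285 = n73641 := ((F187759).symm.trans (sb E68330 (iv0 D155149)))
theorem E71871 : n161885 = n119478 := ((((iv4 F188276)).symm.trans (sb E68330 F255873))).symm
theorem F311721 : act 4 n47346 = n83374 := (sb E68336 F307775)
theorem E71872 : n102314 = n101899 := (((D101899).symm.trans (sb E68336 (iv5 F292340)))).symm
theorem F311722 : act 6 n47346 = n27527 := (sb E68336 (iv6 D57608))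
theorem E71873 : n101917 = n32497 := ((((iv1 F106413)).symm.trans (sb E68337 (iv1 F274824)))).symm
theorem E71874 : n101916 = n101021 := ((((iv1 F191123)).symm.trans (sb E68339 (iv1 F274825)))).symm
theorem E71875 : n101915 = n58284 := ((((iv0 F191121)).symm.trans (sb E68339 F274823))).symm
theorem E71876 : n101918 = n32466 := ((((iv7 F155222)).symm.trans (sb E68340 F274822))).symm
theorem F311723 : act 3 n70006 = n83802 := (sb E68341 F274757)
theorem E71877 : n149060 = n101919 := (((iv7 F234415)).symm.trans (sb E68341 F274814))
theorem E71878 : n101920 = n86004 := ((D101920).symm.trans (sb E68342 (iv6 F155294)))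
theorem F311724 : act 7 n47351 = n32492 := (sb E68342 F155227)
theorem F311726 : act 5 n124986 = n60796 := (sb E68343 (iv5 D129379))
theorem F311728 : act 6 n80270 = n60797 := (sb E68344 (iv6 D129382))
theorem E71879 : n130188 = n80184 := ((D130188).symm.trans (sb E68347 (iv6 D167045)))
theorem F311729 : act 6 n129405 = n84127 := (sb E68348 (iv6 D176448))
theorem F311731 : act 6 n38778 = n60815 := (sb E68350 (iv6 D129408))
theorem F311732 : act 0 n172243 = n82718 := (sb E68352 (iv1 D172764))
theorem F311733 : act 1 n172244 = n82718 := (sb E68353 (iv0 D172763))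
theorem E71880 : n101904 = n83375 := ((D101904).symm.trans (sb E68354 (iv3 D174431)))
theorem F311734 : act 3 n69999 = n82554 := (sb E68355 (iv3 D172405))
theorem E71881 : n101921 = n55058 := (((F155232).symm.trans (sb E68355 F274816))).symm
theorem F311735 : act 0 n161345 = n82562 := (sb E68357 (iv1 D172436))
theorem F311736 : act 4 n161345 = n101564 := (sb E68357 F270659)
theorem F311737 : act 5 n161345 = n174038 := (sb E68357 (iv5 F274811))
theorem F311738 : act 7 n161345 = n101923 := (sb E68357 (iv7 F274804))
theorem F311739 : act 5 n47464 = n78992 := (sb E68358 (iv5 D164478))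
theorem E71882 : n103108 = n102271 := (((D102271).symm.trans (sb E68358 F259214))).symm
theorem E71883 : n106146 = n102267 := (((D102267).symm.trans (sb E68359 (iv1 F259217)))).symm
theorem E71884 : n103033 = n102268 := (((D102268).symm.trans (sb E68359 (iv0 F259218)))).symm
theorem E71885 : n103176 = n102266 := ((((iv2 F157097)).symm.trans (sb E68359 F259215))).symm
theorem F311740 : act 7 n47463 = n78992 := (sb E68359 (iv7 D164479))
theorem F311741 : act 5 n167003 = n83761 := (sb E68361 (iv5 D175416))
theorem F311742 : act 3 n38601 = n83027 := (sb E68362 F272005)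
theorem F311743 : act 3 n56051 = n83021 := (sb E68367 F271982)
theorem E71890 : n83846 = n83327 := ((((iv7 F302738)).symm.trans (sb E68367 F274591))).symm
theorem F311744 : act 3 n38384 = n18385 := (sb E68368 (iv3 D38619))
theorem F311745 : act 4 n114145 = n83021 := (sb E68369 (iv4 D173559))
theorem F311746 : act 7 n114145 = n83851 := (sb E68369 F274592)
theorem F311747 : act 3 n54452 = n47032 := (sb E68371 (iv3 D100898))
theorem F311748 : act 2 n83200 = n72022 := (sb E68372 (iv2 D152677))
theorem F311749 : act 3 n75537 = n38616 := (sb E68377 F128853)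
theorem E71909 : n175582 = n152353 := (((D152353).symm.trans (sb E68378 D175582))).symm
theorem E71910 : n175583 = n152354 := (((D152354).symm.trans (sb E68378 D175583))).symm
theorem F311750 : act 4 n71877 = n38616 := (sb E68378 (iv4 D83834))
theorem E71913 : n173575 = n152355 := (((D152355).symm.trans (sb E68378 F274577))).symm
theorem F311751 : act 0 n161587 = n173578 := (sb E68379 F272017)
theorem F311752 : act 2 n161587 = n83527 := (sb E68379 F262960)
theorem F311753 : act 5 n161587 = n80167 := (sb E68379 (iv5 D166998))
theorem F311754 : act 7 n161587 = n83532 := (sb E68379 F262961)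
theorem F311755 : act 1 n161588 = n173578 := (sb E68380 (iv0 F272015))
theorem F311756 : act 2 n161588 = n83532 := (sb E68380 F262971)
theorem F311757 : act 5 n161588 = n80168 := (sb E68380 (iv5 D167001))
theorem F311758 : act 7 n161588 = n83527 := (sb E68380 F262972)
theorem F311759 : act 0 n98231 = n83268 := (sb E68381 (iv1 D174204))
theorem F311760 : act 1 n89129 = n73041 := (sb E68382 (iv0 D154171))
theorem F311761 : act 0 n101144 = n73041 := (sb E68383 (iv1 D154172))
theorem F311762 : act 7 n83808 = n73041 := (sb E68384 (iv7 D154174))
theorem F311763 : act 2 n35522 = n47276 := (sb E68385 (iv2 D101654))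
theorem F311764 : act 0 n83782 = n47276 := (sb E68386 (iv1 D101653))
theorem F311765 : act 1 n83483 = n47276 := (sb E68387 (iv0 D101652))
theorem F311766 : act 4 n98500 = n47276 := (sb E68389 (iv4 D101655))
theorem F311767 : act 0 n98532 = n123270 := (sb E68390 (iv1 F256033))
theorem F311768 : act 1 n98532 = n77831 := (sb E68390 (iv0 D162022))
theorem E71914 : n174168 = n172013 := (((F306533).symm.trans (sb E68390 (iv3 F272960)))).symm
theorem F311769 : act 2 n162043 = n83576 := (sb E68391 F271832)
theorem F311770 : act 5 n162043 = n82965 := (sb E68391 (iv5 D173370))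
theorem F311771 : act 7 n162043 = n83571 := (sb E68391 F271833)
theorem F311772 : act 2 n162044 = n83571 := (sb E68392 F271823)
theorem F311773 : act 5 n162044 = n82964 := (sb E68392 (iv5 D173368))
theorem F311774 : act 7 n162044 = n83576 := (sb E68392 F271824)
theorem E71915 : n89343 = n47033 := (((F272666).symm.trans (sb E68393 (iv4 F271101)))).symm
theorem E71916 : n174014 = n82505 := ((F272665).symm.trans (sb E68393 (iv7 D172265)))
theorem F311775 : act 4 n41726 = n72022 := (sb E68395 (iv4 F309551))
theorem F311776 : act 7 n41726 = n47032 := (sb E68395 (iv7 D100902))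
theorem F311777 : act 1 n152679 = n172448 := (sb E68396 F274662)
theorem F311778 : act 0 n152680 = n174044 := (sb E68397 F274659)
theorem F311779 : act 1 n152680 = n100476 := (sb E68397 F274663)
theorem F311780 : act 4 n152680 = n89347 := (sb E68397 (iv4 F271099))
theorem E71917 : n172844 = n155469 := ((((iv5 F244467)).symm.trans (sb E68397 (iv5 F271097)))).symm
theorem F311781 : act 2 n41725 = n47032 := (sb E68399 (iv2 D100897))
theorem F311782 : act 1 n46301 = n85881 := (sb E68400 (iv0 D179818))
theorem F311783 : act 3 n100057 = n56735 := (sb E68401 (iv3 D122429))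
theorem F311784 : act 5 n100057 = n85881 := (sb E68401 F195867)
theorem F311785 : act 4 n128238 = n83805 := (sb E68402 (iv4 D175516))
theorem E71918 : n185413 = n153651 := ((((iv5 F241526)).symm.trans (sb E68403 (iv5 F287641)))).symm
theorem F311786 : act 6 n72656 = n87353 := (sb E68403 (iv6 D182968))
theorem E71919 : n75639 = n62308 := ((((iv1 F208618)).symm.trans (sb E68406 (iv1 F249165)))).symm
theorem E71920 : n75638 = n62313 := ((((iv0 F98859)).symm.trans (sb E68406 F249163))).symm
theorem E71921 : n75337 = n62447 := (((D62447).symm.trans (sb E68406 (iv2 D158191)))).symm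
theorem E71922 : n160783 = n62449 := ((D160783).symm.trans (sb E68408 F213740))
theorem E71923 : n62345 = n16733 := ((((iv1 D34489)).symm.trans (sb E68409 (iv1 F213342)))).symm
theorem E71924 : n75338 = n29045 := ((D75338).symm.trans (sb E68409 F95672))
theorem E71925 : n62456 = n16769 := ((((iv7 F114000)).symm.trans (sb E68409 (iv7 F97343)))).symm
theorem E71926 : n75667 = n29046 := ((((iv5 D61366)).symm.trans (sb E68410 (iv5 D158630)))).symm
theorem F311787 : act 6 n61366 = n75670 := (sb E68410 F249799)
theorem E71928 : n28934 = n16771 := (((D16771).symm.trans (sb E68411 (iv5 D61048)))).symm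
theorem E71930 : n129992 = n75327 := ((((iv3 F112942)).symm.trans (sb E68412 (iv3 F208445)))).symm
theorem E71932 : n75342 = n28935 := (((iv5 F112967)).symm.trans (sb E68412 (iv5 D61053)))
theorem E71934 : n75666 = n29027 := ((((iv4 F46672)).symm.trans (sb E68413 D75666))).symm
theorem F311788 : act 5 n13821 = n16770 := (sb E68413 (iv5 D34598))
theorem E71935 : n75334 = n14073 := ((((iv7 F23503)).symm.trans (sb E68413 (iv7 F114003)))).symm
theorem E71936 : n75335 = n62458 := (((D62458).symm.trans (sb E68414 D75335))).symm
theorem F311789 : act 7 n29522 = n16770 := (sb E68414 F113994)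
theorem F311790 : act 3 n77163 = n62462 := (sb E68415 F213815)
theorem E71938 : n84030 = n62461 := (((D62461).symm.trans (sb E68430 (iv5 F249141)))).symm
theorem E71939 : n148989 = n136654 := ((D148989).symm.trans (sb E68431 F219798))
theorem E71940 : n148990 = n138190 := ((D148990).symm.trans (sb E68431 (iv6 F221364)))
theorem E71941 : n136697 = n70650 := (((F155397).symm.trans (sb E68431 (iv7 F219822)))).symm
theorem F311791 : act 3 n118189 = n54844 := (sb E68434 F187527)
theorem F311792 : act 3 n118190 = n54845 := (sb E68435 F187528)
theorem E71942 : n131423 = n46882 := (((D46882).symm.trans (sb E68436 (iv4 F210642)))).symm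
theorem F311793 : act 4 n60049 = n46881 := (sb E68437 (iv4 D100469))
theorem F311794 : act 0 n100470 = n74855 := (sb E68438 F187525)
theorem F311795 : act 1 n100470 = n131149 := (sb E68438 (iv0 F210054))
theorem F311796 : act 4 n100470 = n164231 := (sb E68438 (iv4 F258856))
theorem F311797 : act 7 n100470 = n131487 := (sb E68438 (iv7 F210752))
theorem F311798 : act 4 n100471 = n127856 := (sb E68439 (iv4 F205732))
theorem F311799 : act 3 n56678 = n54839 := (sb E68440 (iv3 D119164))
theorem E71944 : n131158 = n123983 := (((D123983).symm.trans (sb E68441 (iv1 F210082)))).symm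
theorem E71945 : n131155 = n123984 := (((D123984).symm.trans (sb E68441 (iv0 F210077)))).symm
theorem E71946 : n123985 = n61401 := ((D123985).symm.trans (sb E68441 F187514))
theorem E71947 : n133405 = n123986 := (((D123986).symm.trans (sb E68441 (iv4 F214507)))).symm
theorem F311800 : act 5 n57763 = n54839 := (sb E68441 (iv5 D119165))
theorem F311801 : act 7 n57763 = n120665 := (sb E68441 (iv7 F192346))
theorem E71948 : n133099 = n46507 := ((D133099).symm.trans (sb E68444 (iv1 D99476)))
theorem E71949 : n150109 = n133100 := (((D133100).symm.trans (sb E68444 F236252))).symm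
theorem E71950 : n133097 = n122358 := (((iv2 F213736)).symm.trans (sb E68444 (iv2 F236244)))
theorem F311802 : act 1 n100111 = n74933 := (sb E68445 (iv0 D157476))
theorem F311803 : act 0 n99304 = n74933 := (sb E68446 (iv1 D157477))
theorem F311804 : act 4 n99304 = n131603 := (sb E68446 (iv4 F248129))
theorem F311805 : act 3 n157478 = n87903 := (sb E68447 F286177)
theorem F311806 : act 7 n157478 = n87882 := (sb E68447 (iv7 D184248))
theorem F311807 : act 5 n119280 = n57572 := (sb E68448 (iv5 D123530))
theorem E71951 : n148171 = n116814 := (E68450).trans E69177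
theorem E71952 : n127341 = n72291 := (((iv5 F204583)).symm.trans (sb E71951 F231984))
theorem E71953 : n132792 = n57603 := ((D132792).symm.trans (sb E68451 (iv0 D123581)))
theorem F311808 : act 0 n27571 = n57603 := (sb E68452 (iv1 D123582))
theorem F311809 : act 7 n123046 = n57749 := (sb E68453 (iv7 F198381))
theorem F311810 : act 7 n123133 = n57603 := (sb E68457 (iv7 D123584))
theorem F311811 : act 1 n49853 = n81547 := (sb E68458 (iv0 D170016))
theorem F311812 : act 0 n49866 = n81547 := (sb E68459 (iv1 D170017))
theorem F311813 : act 2 n49865 = n81547 := (sb E68460 F148600)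
theorem E71954 : n100917 = n97950 := ((E70891).symm.trans ((D107970).symm.trans (sb E68460 (iv4 F150975))))
theorem E71955 : n107971 = n45051 := ((D107971).symm.trans (sb E68460 (iv6 D96493)))
theorem E71956 : n99523 = n71673 := ((D99523).symm.trans (sb E68461 (iv1 D152025)))
theorem E71957 : n107970 = n97950 := (E70891).trans E71954
theorem E71958 : n100916 = n99526 := (((D99526).symm.trans (sb E68461 (tr (iv7 F239038) E68607)))).symm
theorem F311814 : act 5 n49015 = n81547 := (sb E68462 (iv5 D170018))
theorem E71959 : n107967 = n99526 := (E68607).trans E71958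
theorem F311815 : act 7 n49864 = n81547 := (sb E68463 (iv7 D170019))
theorem E71960 : n153521 = n52948 := (((iv2 F241279)).symm.trans (sb E68464 F178769))
theorem E71961 : n153871 = n69729 := ((D153871).symm.trans (sb E68464 F178770))
theorem F311816 : act 6 n72790 = n52922 := (sb E68464 (iv6 D114661))
theorem F311817 : act 0 n118069 = n96686 := (sb E68465 F273857)
theorem F311818 : act 7 n118069 = n96684 := (sb E68465 F273856)
theorem F311819 : act 1 n149011 = n96686 := (sb E68466 (iv0 F274078))
theorem F311820 : act 2 n149011 = n96684 := (sb E68466 F274075)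
theorem F311821 : act 4 n149011 = n83630 := (sb E68466 (iv4 D175107))
theorem F311822 : act 0 n45165 = n69882 := (sb E68467 F232810)
theorem F311823 : act 2 n45165 = n74914 := (sb E68467 F209925)
theorem E71963 : n131499 = n36575 := (((F71178).symm.trans (sb E68467 (iv4 F234319)))).symm
theorem F311824 : act 4 n39295 = n74914 := (sb E68468 F234312)
theorem E71964 : n131498 = n84942 := (((D84942).symm.trans (sb E68468 (iv7 F234323)))).symm
theorem F311825 : act 2 n72791 = n96685 := (sb E68469 F278108)
theorem F311826 : act 0 n149010 = n96684 := (sb E68470 (iv1 F278114))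
theorem F311827 : act 2 n149010 = n96686 := (sb E68470 F278110)
theorem F311828 : act 0 n45196 = n29173 := (sb E68472 (iv1 D61588))
theorem F311829 : act 2 n45196 = n34315 := (sb E68472 (iv2 F96140))
theorem F311830 : act 3 n45196 = n39564 := (sb E68472 F308524)
theorem F311831 : act 7 n45196 = n34309 := (sb E68472 F96138)
theorem F311832 : act 3 n45197 = n62861 := (sb E68473 F112374)
theorem F311833 : act 5 n45197 = n34309 := (sb E68473 (iv5 D74870))
theorem F311834 : act 5 n147034 = n81766 := (sb E68474 (iv5 D170588))
theorem F311835 : act 6 n147034 = n81768 := (sb E68474 F268015)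
theorem F311836 : act 5 n32695 = n39483 := (sb E68475 F112613)
theorem F311837 : act 0 n81795 = n72354 := (sb E68477 (iv1 D153230))
theorem F311838 : act 1 n81795 = n127929 := (sb E68477 F240638)
theorem F311839 : act 2 n81795 = n131107 := (sb E68477 F240643)
theorem F311840 : act 4 n81795 = n131106 := (sb E68477 (iv4 F240640))
theorem F311841 : act 5 n81795 = n149728 := (sb E68477 (iv5 F240641))
theorem F311842 : act 7 n81795 = n131106 := (sb E68477 F240639)
theorem F311843 : act 4 n72417 = n84500 := (sb E68478 F276736)
theorem F311844 : act 6 n72417 = n84500 := (sb E68478 F304544)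
theorem F311845 : act 2 n58377 = n84501 := (sb E68479 F276746)
theorem F311846 : act 5 n58377 = n84500 := (sb E68479 (iv5 D177358))
theorem F311847 : act 0 n40158 = n86566 := (sb E68483 (iv1 D181287))
theorem E71966 : n170696 = n123932 := ((F282369).symm.trans (sb E68484 (iv4 F304359)))
theorem F311848 : act 1 n123664 = n57682 := (sb E68485 (iv0 D123746))
theorem F311849 : act 1 n71658 = n73080 := (sb E68488 (iv0 D154243))
theorem E71967 : n57731 = n57566 := ((E69185).symm.trans ((F97994).symm.trans (sb E68489 F197234)))
theorem F311850 : act 3 n62741 = n73080 := (sb E68489 F197235)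
theorem F311851 : act 6 n62741 = n57265 := (sb E68489 (iv6 D123061))
theorem F311852 : act 7 n123911 = n73080 := (sb E68490 (iv7 D154246))
theorem E71968 : n61529 = n57566 := (E69185).trans E71967
theorem F311853 : act 5 n37191 = n72756 := (sb E68492 (iv5 D153798))
theorem F311854 : act 4 n39082 = n71641 := (sb E68500 F238945)
theorem E71969 : n84624 = n71640 := ((D84624).symm.trans (sb E68500 (iv6 D151949)))
theorem F311855 : act 3 n55280 = n38494 := (sb E68502 F128593)
theorem E71972 : n174742 = n120128 := (((D120128).symm.trans (sb E68502 D174742))).symm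
theorem F311856 : act 6 n55280 = n38491 := (sb E68502 (iv6 D83489))
theorem E71973 : n174743 = n120130 := (((D120130).symm.trans (sb E68502 D174743))).symm
theorem E71974 : n157104 = n33875 := ((((iv1 D73722)).symm.trans (sb E68503 D157104))).symm
theorem E71976 : n156921 = n120226 := (((F310278).symm.trans (sb E68503 (iv2 F246964)))).symm
theorem E71977 : n155231 = n34235 := ((D155231).symm.trans (sb E68503 F112093))
theorem E71978 : n157106 = n155232 := (((D155232).symm.trans (sb E68503 D157106))).symm
theorem F311857 : act 0 n73725 = n120226 := (sb E68504 F240074)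
theorem E71979 : n116717 = n73725 := ((D116717).symm.trans (iv1 (sb E68504 (tr F240075 E69332))))
theorem F311858 : act 5 n73725 = n72133 := (sb E68504 (iv5 D152881))
theorem E71980 : n170598 = n71636 := ((((iv1 D151938)).symm.trans (sb E68506 (iv1 F276690)))).symm
theorem E71981 : n131368 = n84473 := (((iv2 F238917)).symm.trans (sb E68506 F276686))
theorem F311859 : act 6 n151938 = n84471 := (sb E68506 (iv6 D177310))
theorem E71982 : n170599 = n131367 := (((F238915).symm.trans (sb E68506 (iv7 F276688)))).symm
theorem F311860 : act 3 n58321 = n84504 := (sb E68510 F276750)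
theorem F311861 : act 6 n58321 = n84501 := (sb E68510 (iv6 D177363))
theorem F311862 : act 4 n80681 = n71510 := (sb E68513 F238604)
theorem F311863 : act 1 n85577 = n61624 := (sb E68514 F205729)
theorem F311864 : act 2 n85577 = n61655 := (sb E68514 F205725)
theorem E71983 : n179369 = n60048 := ((D179369).symm.trans (sb E68514 F205726))
theorem E71984 : n131172 = n83005 := ((((iv4 F131225)).symm.trans (sb E68514 (iv4 F210094)))).symm
theorem E71985 : n179370 = n60047 := ((D179370).symm.trans (sb E68514 (iv5 D127854)))
theorem F311865 : act 7 n85577 = n61649 := (sb E68514 F205727)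
theorem F311866 : act 1 n29218 = n39543 := (sb E68515 (iv0 D85576))
theorem E71988 : n176529 = n129902 := (((iv1 F275838)).symm.trans (sb E68518 (iv1 F208271)))
theorem E71989 : n167750 = n129901 := (((iv0 F303454)).symm.trans (sb E68518 F208278))
theorem F311867 : act 2 n85130 = n129904 := (sb E68518 (iv2 F208274))
theorem F311868 : act 1 n149893 = n86453 := (sb E68519 (iv0 D181015))
theorem E71990 : n101744 = n77723 := (((D77723).symm.trans (sb E68520 (iv1 F255646)))).symm
theorem F311869 : act 1 n35475 = n77633 := (sb E68520 (iv0 D161634))
theorem F311870 : act 0 n161394 = n77633 := (sb E68521 (iv1 D161635))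
theorem E71991 : n95831 = n51558 := ((D95831).symm.trans (sb E68527 (iv6 D111815)))
theorem E71992 : n95836 = n59149 := ((D95836).symm.trans (sb E68528 (iv1 F93336)))
theorem E71993 : n95837 = n64526 := ((D95837).symm.trans (sb E68528 F100462))
theorem F311871 : act 4 n44752 = n51012 := (sb E68528 (iv4 F80469))
theorem E71994 : n95838 = n24620 := ((D95838).symm.trans (sb E68528 (iv5 D50531)))
theorem E71995 : n95839 = n51551 := ((D95839).symm.trans (sb E68528 (iv7 F81347)))
theorem F311872 : act 6 n147470 = n84153 := (sb E68529 (iv6 D176487))
theorem F311873 : act 0 n128105 = n69174 := (sb E68530 (iv1 F231074))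
theorem F311874 : act 1 n128105 = n69173 := (sb E68530 F231067)
theorem F311875 : act 2 n128105 = n69084 := (sb E68530 (iv2 D147356))
theorem F311876 : act 3 n128105 = n69188 := (sb E68530 F231064)
theorem F311877 : act 5 n128105 = n110694 := (sb E68530 F231065)
theorem F311878 : act 7 n128105 = n69175 := (sb E68530 F231066)
theorem E71996 : n153974 = n68816 := (((iv3 F241993)).symm.trans (sb E68531 (iv3 D146778)))
theorem F311879 : act 4 n72866 = n69084 := (sb E68531 F230140)
theorem E71997 : n153978 = n69176 := ((D153978).symm.trans (sb E68531 F230141))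
theorem E71998 : n148804 = n69133 := ((D148804).symm.trans (sb E68532 F242684))
theorem E71999 : n148805 = n69128 := ((D148805).symm.trans (sb E68532 F242685))
theorem E72000 : n148806 = n69185 := ((D148806).symm.trans (sb E68532 F231059))
theorem F311880 : act 6 n69740 = n69196 := (sb E68532 F231060)
theorem E72001 : n75126 = n69083 := (((iv7 F112631)).symm.trans (sb E68532 (iv7 D147354)))
theorem F311881 : act 7 n128052 = n62439 := (sb E68533 (iv7 D133081))
theorem F311882 : act 3 n118562 = n60235 := (sb E68534 F206272)
theorem F311883 : act 5 n118562 = n60231 := (sb E68534 (iv5 D128141))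
theorem F311884 : act 3 n128155 = n69900 := (sb E68535 F213728)
theorem F311885 : act 6 n128155 = n69904 := (sb E68535 F213729)
theorem F311886 : act 5 n118560 = n60232 := (sb E68537 (iv5 D128145))
theorem F311887 : act 6 n118560 = n60235 := (sb E68537 F206275)
theorem F311888 : act 2 n128156 = n62439 := (sb E68538 (iv2 D133076))
theorem F311889 : act 5 n133078 = n73104 := (sb E68539 (iv5 D154292))
theorem F311890 : act 5 n78234 = n62439 := (sb E68540 (iv5 D133079))
theorem F311891 : act 5 n33642 = n34247 := (sb E68541 (iv5 D74746))
theorem E72008 : n65218 = n8771 := ((((iv5 D18704)).symm.trans (sb E68542 (iv5 D138913)))).symm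
theorem F311892 : act 0 n18702 = n14517 := (sb E68544 (iv1 D30614))
theorem E72009 : n34203 = n33198 := (((F131007).symm.trans (sb E68544 F53832))).symm
theorem F311893 : act 2 n18702 = n34201 := (sb E68544 (iv2 F222083))
theorem E72010 : n65219 = n39465 := (((D39465).symm.trans (sb E68544 D65219))).symm
theorem E72011 : n65221 = n39467 := (((D39467).symm.trans (sb E68544 D65221))).symm
theorem E72012 : n157492 = n85401 := ((((iv0 F232637)).symm.trans (sb E68546 F248184))).symm
theorem F311894 : act 3 n71501 = n65215 := (sb E68546 F222054)
theorem F311895 : act 0 n138903 = n118500 := (sb E68547 F304809)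
theorem F311896 : act 1 n138903 = n166905 := (sb E68547 (iv0 F304286))
theorem F311897 : act 2 n138903 = n77449 := (sb E68547 (iv2 D161332))
theorem F311898 : act 3 n138903 = n79042 := (sb E68547 F255149)
theorem F311899 : act 5 n138903 = n155085 := (sb E68547 F304810)
theorem F311900 : act 6 n138903 = n79017 := (sb E68547 F304811)
theorem F311901 : act 7 n138903 = n152591 := (sb E68547 F255151)
theorem F311902 : act 2 n30613 = n27818 := (sb E68548 (iv2 D58462))
theorem E72014 : n125040 = n65214 := (((D65214).symm.trans (sb E68548 D125040))).symm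
theorem E72015 : n125041 = n65216 := (((D65216).symm.trans (sb E68548 D125041))).symm
theorem F311903 : act 6 n35963 = n65215 := (sb E68549 (iv6 D138904))
theorem F311904 : act 0 n27806 = n24361 := (sb E68550 (iv1 D49963))
theorem F311905 : act 1 n27806 = n34264 := (sb E68550 F79024)
theorem F311906 : act 2 n27806 = n108180 := (sb E68550 (iv2 F167285))
theorem E72017 : n108182 = n58437 := (((D58437).symm.trans (sb E68550 D108182))).symm
theorem F311907 : act 0 n39399 = n34264 := (sb E68551 (iv1 F79020))
theorem F311908 : act 1 n39399 = n24361 := (sb E68551 (iv0 D49962))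
theorem F311909 : act 7 n39399 = n108180 := (sb E68551 D108180)
theorem E72024 : n108168 = n85276 := (((iv7 F167267)).symm.trans (sb E68552 F200771))
theorem F311910 : act 5 n74782 = n118520 := (sb E68553 F200773)
theorem F311911 : act 1 n39406 = n34262 := (sb E68554 F79023)
theorem F311912 : act 2 n39406 = n24361 := (sb E68554 (iv2 D49964))
theorem F311913 : act 3 n39406 = n34246 := (sb E68554 F79021)
theorem F311914 : act 5 n39406 = n65353 := (sb E68554 (iv5 F101057))
theorem F311915 : act 7 n39406 = n34264 := (sb E68554 F79022)
theorem F311916 : act 0 n132334 = n82503 := (sb E68555 (iv1 F249899))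
theorem F311917 : act 2 n132334 = n75713 := (sb E68555 (iv2 D158718))
theorem F311918 : act 7 n132334 = n82498 := (sb E68555 F249896)
theorem F311919 : act 0 n37876 = n71756 := (sb E68556 (iv1 D152153))
theorem E72026 : n128988 = n82504 := (((D82504).symm.trans (sb E68556 F239203))).symm
theorem F311920 : act 7 n133782 = n82503 := (sb E68557 (iv7 F270509))
theorem F311921 : act 0 n128270 = n62076 := (sb E68559 F212209)
theorem E72027 : n129533 = n60293 := ((((iv0 D128270)).symm.trans (sb E68559 (iv0 F209297)))).symm
theorem F311922 : act 2 n128270 = n129531 := (sb E68559 (iv2 F214146))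
theorem F311923 : act 3 n128270 = n61337 := (sb E68559 (iv3 D130731))
theorem F311924 : act 4 n128270 = n128687 := (sb E68559 F209296)
theorem F311925 : act 5 n128270 = n71756 := (sb E68559 (iv5 F211936))
theorem F311926 : act 7 n128270 = n129275 := (sb E68559 F214141)
theorem E72028 : n151161 = n65254 := (((D65254).symm.trans (sb E68561 (iv4 F237848)))).symm
theorem E72029 : n65256 = n32971 := ((D65256).symm.trans (sb E68561 (iv6 D71239)))
theorem E72030 : n124804 = n65283 := (((F214158).symm.trans (sb E68562 (iv1 F236037)))).symm
theorem E72031 : n124750 = n65282 := (((F214165).symm.trans (sb E68562 (iv2 F236033)))).symm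
theorem E72032 : n107799 = n60349 := ((F214157).symm.trans (sb E68563 (iv0 D128359)))
theorem F311927 : act 3 n40098 = n34225 := (sb E68564 (iv3 D74679))
theorem E72034 : n140323 = n58343 := ((((iv5 F304644)).symm.trans (sb E68564 (iv5 F223424)))).symm
theorem E72037 : n34217 = n27775 := ((((iv1 D58321)).symm.trans (sb E68565 F214166))).symm
theorem E72040 : n84504 = n34192 := ((F311860).symm.trans (sb E68565 (iv3 D74558)))
theorem E72041 : n124755 = n65153 := ((D124755).symm.trans (sb E68565 F111962))
theorem E72042 : n156772 = n84501 := (((F311861).symm.trans (sb E68565 D156772))).symm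
theorem E72043 : n150101 = n129330 := ((((iv1 F239240)).symm.trans (sb E68566 F270514))).symm
theorem F311928 : act 3 n152165 = n82503 := (sb E68566 (iv3 D172253))
theorem F311929 : act 4 n152165 = n104181 := (sb E68566 F270512)
theorem F311930 : act 1 n128271 = n62076 := (sb E68567 (iv0 D132312))
theorem F311931 : act 2 n128271 = n129275 := (sb E68567 F214143)
theorem F311932 : act 3 n128271 = n129296 := (sb E68567 F212134)
theorem F311933 : act 4 n128271 = n128686 := (sb E68567 F212131)
theorem F311934 : act 7 n128271 = n129531 := (sb E68567 (iv7 F214145))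
theorem E72044 : n157189 = n85399 := ((D157189).symm.trans (sb E68569 F201218))
theorem E72045 : n157190 = n58357 := ((D157190).symm.trans (sb E68569 F200477))
theorem E72046 : n179896 = n157191 := (((D157191).symm.trans (sb E68569 F280179))).symm
theorem E72047 : n139030 = n58355 := (((iv5 F222213)).symm.trans (sb E68569 (iv5 D124806)))
theorem F311935 : act 1 n65262 = n58330 := (sb E68570 F199867)
theorem F311936 : act 2 n65262 = n58316 := (sb E68570 F199868)
theorem E72048 : n153240 = n139031 := (((D139031).symm.trans (sb E68570 D153240))).symm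
theorem F311937 : act 7 n65262 = n58332 := (sb E68570 F199870)
theorem E72049 : n157194 = n72218 := ((D157194).symm.trans (sb E68571 (iv1 F240270)))
theorem E72051 : n157197 = n72216 := ((D157197).symm.trans (sb E68571 F240302))
theorem E72053 : n156314 = n58313 := ((((iv2 F190852)).symm.trans (sb E68572 (iv2 F245643)))).symm
theorem F311939 : act 3 n27780 = n34244 := (sb E68572 (iv3 D74734))
theorem E72055 : n157180 = n58346 := (((D58346).symm.trans (sb E68572 D157180))).symm
theorem E72056 : n157181 = n125181 := ((D157181).symm.trans (sb E68573 F201239))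
theorem E72057 : n179606 = n157182 := (((D157182).symm.trans (sb E68573 (iv0 F279719)))).symm
theorem F311940 : act 1 n27778 = n30627 := (sb E68574 (iv0 D65261))
theorem F311941 : act 5 n27778 = n34244 := (sb E68574 F208782)
theorem E72059 : n157185 = n147335 := ((D157185).symm.trans (sb E68575 F231007))
theorem E72060 : n157186 = n117713 := ((D157186).symm.trans (sb E68575 (iv0 F242929)))
theorem E72061 : n157187 = n147008 := ((D157187).symm.trans (sb E68575 F230445))
theorem E72062 : n157188 = n147491 := ((D157188).symm.trans (sb E68575 (iv7 F231280)))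
theorem E72063 : n157158 = n72717 := ((D157158).symm.trans (sb E68576 (iv6 D153690)))
theorem F311942 : act 2 n33547 = n34247 := (sb E68577 F112166)
theorem F311943 : act 6 n33547 = n34246 := (sb E68577 (iv6 D74743))
theorem E72066 : n157201 = n72189 := ((((iv7 F190604)).symm.trans (sb E68577 D157201))).symm
theorem E72067 : n130259 = n60340 := ((((iv0 F201229)).symm.trans (sb E68578 F246056))).symm
theorem F311944 : act 0 n70714 = n138392 := (sb E68580 (iv1 F221618))
theorem F311945 : act 1 n70714 = n130345 := (sb E68580 (iv0 F208867))
theorem E72068 : n132517 = n85962 := ((((iv5 F155191)).symm.trans (sb E68580 F212671))).symm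
theorem F311946 : act 7 n70714 = n108269 := (sb E68580 F212688)
theorem E72069 : n118079 = n74318 := (((iv1 F234262)).symm.trans (sb E68581 (iv1 F245504)))
theorem E72070 : n175305 = n74313 := (((iv0 F274342)).symm.trans (sb E68581 (iv0 D156217)))
theorem E72071 : n156141 = n39383 := ((((iv4 D85194)).symm.trans (sb E68581 F245498))).symm
theorem F311947 : act 5 n85194 = n130345 := (sb E68581 F245497)
theorem E72072 : n130365 = n127998 := ((F215595).symm.trans (sb E68583 F264315))
theorem F311948 : act 4 n133867 = n80542 := (sb E68583 (iv4 D167825))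
theorem F311949 : act 6 n133867 = n127878 := (sb E68583 F264303)
theorem F311950 : act 0 n33485 = n37381 := (sb E68586 F299988)
theorem F311951 : act 1 n33485 = n37398 := (sb E68586 F299989)
theorem F311952 : act 7 n33485 = n40200 := (sb E68586 F123886)
theorem E72075 : n179446 = n40181 := ((F311361).symm.trans (sb E68587 (iv6 D86684)))
theorem F311953 : act 4 n29118 = n40159 := (sb E68589 (iv4 D86646))
theorem E72078 : n181531 = n61507 := (((D61507).symm.trans (sb E68589 D181531))).symm
theorem F311954 : act 5 n69881 = n77726 := (sb E68596 (iv5 D161843))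
theorem E72080 : n131387 = n77728 := ((((iv4 F303286)).symm.trans (sb E68597 (iv4 F238911)))).symm
theorem F311955 : act 0 n38958 = n29660 := (sb E68600 (iv1 D62715))
theorem F311956 : act 0 n149876 = n151725 := (sb E68603 F244643)
theorem F311957 : act 5 n149876 = n74026 := (sb E68603 (iv5 D155610))
theorem F311958 : act 7 n149876 = n105434 := (sb E68603 (tr F247794 E68660))
theorem F311959 : act 2 n73718 = n151725 := (sb E68604 (iv2 F238601))
theorem F311960 : act 6 n73718 = n34390 := (sb E68604 (iv6 D75089))
theorem F311961 : act 3 n123529 = n151725 := (sb E68605 F259349)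
theorem E72082 : n138908 = n123529 := ((D138908).symm.trans (iv5 (sb E68605 (tr F259350 E72015))))
theorem F311962 : act 6 n123529 = n79018 := (sb E68605 (iv6 D164532))
theorem F311963 : act 1 n99526 = n151504 := (sb E71959 (iv0 F238367))
theorem F311964 : act 2 n99526 = n152024 := (sb E71959 F239039)
theorem F311965 : act 3 n99526 = n133587 := (sb E71959 (iv3 F214904))
theorem F311966 : act 4 n99526 = n49864 := (sb E71959 (iv4 D107967))
theorem F311967 : act 6 n99526 = n86599 := (sb E71959 (iv6 F307182))
theorem E72083 : n158671 = n133137 := (((D133137).symm.trans (sb E68608 (iv1 F249828)))).symm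
theorem E72084 : n158670 = n132771 := (((F213855).symm.trans (sb E68608 F249825))).symm
theorem E72085 : n133138 = n78162 := ((D133138).symm.trans (sb E68608 (tr F248878 E69096)))
theorem F311968 : act 4 n62464 = n47008 := (sb E68608 (iv4 D100826))
theorem E72086 : n77026 = n61215 := (((F209004).symm.trans (sb E68608 (tr (iv7 F249827) E69095)))).symm
theorem E72087 : n158672 = n61215 := (E69095).trans E72086
theorem E72089 : n131493 = n82895 := (((F127688).symm.trans (sb E68610 D131493))).symm
theorem E72090 : n131494 = n46887 := ((((iv2 F272811)).symm.trans (sb E68610 D131494))).symm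
theorem F311969 : act 3 n38300 = n29257 := (sb E68610 (iv3 D61709))
theorem E72091 : n131495 = n83211 := (((D83211).symm.trans (sb E68610 D131495))).symm
theorem E72092 : n131496 = n83212 := (((D83212).symm.trans (sb E68610 D131496))).symm
theorem F311970 : act 3 n45168 = n71999 := (sb E68615 F209787)
theorem F311971 : act 5 n45168 = n71978 := (sb E68615 F209788)
theorem F311972 : act 6 n45168 = n72563 := (sb E68615 F209789)
theorem F311973 : act 0 n97944 = n88004 := (sb E68616 (iv1 F155838))
theorem F311974 : act 1 n97944 = n47108 := (sb E68616 (iv0 D101133))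
theorem F311975 : act 3 n35117 = n71998 := (sb E68617 (iv3 D152621))
theorem F311976 : act 3 n152622 = n76834 := (sb E68621 F253214)
theorem F311977 : act 3 n152623 = n76812 := (sb E68622 (iv3 D160276))
theorem F311978 : act 6 n152623 = n170664 := (sb E68622 (iv6 F268129))
theorem F311979 : act 3 n120182 = n72434 := (sb E68623 F240867)
theorem F311980 : act 7 n120182 = n72429 := (sb E68623 (iv7 D153305))
theorem F311981 : act 6 n54044 = n70246 := (sb E68624 (iv6 D149588))
theorem E72093 : n57816 = n57360 := ((((iv4 F90550)).symm.trans (sb E68628 (iv4 D124078)))).symm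
theorem F311982 : act 0 n61587 = n40181 := (sb E68634 F298558)
theorem E72094 : n159063 = n131253 := (((D131253).symm.trans (sb E68634 (iv3 F250407)))).symm
theorem F311983 : act 5 n61587 = n34715 := (sb E68634 (iv5 D75962))
theorem F311984 : act 6 n73715 = n61534 := (sb E68637 (iv6 D131171))
theorem F311985 : act 3 n119161 = n57304 := (sb E68638 F197346)
theorem F311986 : act 5 n119161 = n170649 := (sb E68638 (iv5 F268103))
theorem F311987 : act 7 n119161 = n170667 := (sb E68638 (iv7 F268136))
theorem E72101 : n175478 = n107921 := (((D107921).symm.trans (sb E68639 (iv6 F274740)))).symm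
theorem F311988 : act 7 n49847 = n46555 := (sb E68639 (iv7 D99602))
theorem F311989 : act 1 n71420 = n46555 := (sb E68640 (iv0 D99599))
theorem F311990 : act 0 n71417 = n46555 := (sb E68641 (iv1 D99600))
theorem F311991 : act 0 n99601 = n71666 := (sb E68642 (iv1 D152002))
theorem F311992 : act 1 n99601 = n71672 := (sb E68642 F239023)
theorem F311993 : act 2 n99601 = n107904 := (sb E68642 (iv2 F239026))
theorem F311994 : act 7 n99601 = n107920 := (sb E68642 F239024)
theorem E72102 : n114545 = n31640 := ((D114545).symm.trans (sb E68644 F85139))
theorem E72103 : n114546 = n31639 := ((D114546).symm.trans (sb E68644 F85140))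
theorem E72104 : n117100 = n79002 := ((((iv3 F120183)).symm.trans (sb E68644 D117100))).symm
theorem F311995 : act 4 n52873 = n26103 := (sb E68644 (iv4 D53967))
theorem E72105 : n114547 = n67989 := ((D114547).symm.trans (sb E68644 (iv5 F104100)))
theorem E72106 : n114402 = n31625 := (((iv7 F290394)).symm.trans (sb E68644 F85138))
theorem E72107 : n152179 = n142443 := ((((iv2 F225359)).symm.trans (sb E68645 F239598))).symm
theorem F311996 : act 6 n66823 = n71899 := (sb E68645 (iv6 D152407))
theorem E72108 : n146196 = n135465 := ((D146196).symm.trans (sb E68646 (iv1 F217818)))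
theorem E72109 : n146197 = n63293 := ((D146197).symm.trans (sb E68646 (iv0 D134709)))
theorem F311997 : act 2 n68557 = n135463 := (sb E68646 F217805)
theorem E72110 : n142535 = n82442 := (((iv3 F225425)).symm.trans (sb E68646 F305938))
theorem E72111 : n146198 = n133599 := ((D146198).symm.trans (sb E68646 F216715))
theorem E72112 : n129762 = n31895 := ((((iv5 D68557)).symm.trans (sb E68646 F216714))).symm
theorem F311998 : act 6 n68557 = n77645 := (sb E68646 F305939)
theorem E72113 : n146199 = n129360 := ((D146199).symm.trans (sb E68646 (iv7 F216717)))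
theorem F311999 : act 4 n54796 = n86010 := (sb E68647 (iv4 D179990))
theorem E72114 : n149204 = n119074 := (((D119074).symm.trans (sb E68647 F280364))).symm
theorem F312000 : act 0 n100727 = n175514 := (sb E68648 (iv1 F274843))
theorem F312001 : act 2 n100727 = n47346 := (sb E68648 (iv2 D101897))
theorem F312002 : act 0 n89106 = n47346 := (sb E68649 (iv1 D101896))
theorem F312003 : act 4 n60857 = n85618 := (sb E68654 (iv4 F131257))
theorem E72116 : n129524 = n82936 := ((D129524).symm.trans (sb E68654 F129125))
theorem F312004 : act 0 n81691 = n69449 := (sb E68655 F252077)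
theorem F312005 : act 3 n70301 = n69449 := (sb E68656 F226308)
theorem F312006 : act 0 n148184 = n123044 := (sb E68657 F305980)
theorem F312007 : act 1 n148184 = n123084 := (sb E68657 F305981)
theorem F312008 : act 2 n148184 = n122555 := (sb E68657 (iv2 F306320))
theorem F312009 : act 3 n148184 = n84661 := (sb E68657 F305982)
theorem F312010 : act 4 n148184 = n73329 := (sb E68657 F242756)
theorem F312011 : act 7 n148184 = n73321 := (sb E68657 (iv7 D154636))
theorem E72117 : n170885 = n49862 := ((D170885).symm.trans (sb E68658 (iv1 D107962)))
theorem E72118 : n133602 = n122343 := ((((iv2 F195649)).symm.trans (sb E68658 (iv2 F214939)))).symm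
theorem F312012 : act 4 n81921 = n71675 := (sb E68658 (iv4 F232711))
theorem E72119 : n149880 = n133610 := ((D149880).symm.trans (sb E68659 F248426))
theorem F312013 : act 5 n105434 = n151371 := (sb E68660 F247716)
theorem F312014 : act 5 n74027 = n86586 := (sb E68661 (iv5 D181345))
theorem F312015 : act 5 n106037 = n151370 := (sb E68662 (iv5 F248422))
theorem F312016 : act 3 n83650 = n71790 := (sb E68663 (iv3 D152212))
theorem E72120 : n73657 = n47267 := ((((iv1 F156536)).symm.trans (sb E68664 F257305))).symm
theorem F312017 : act 4 n101609 = n162940 := (sb E68664 F257306)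
theorem F312018 : act 5 n101609 = n152611 := (sb E68664 F239809)
theorem F312019 : act 6 n101609 = n71790 := (sb E68664 (iv6 D152214))
theorem F312020 : act 0 n58151 = n114737 := (sb E68665 (iv1 F178848))
theorem E72121 : n124572 = n38577 := ((D124572).symm.trans (sb E68665 (iv0 D83682)))
theorem E72122 : n175212 = n114734 := ((((iv2 F309812)).symm.trans (sb E68665 D175212))).symm
theorem E72127 : n175217 = n114721 := (((E69586).symm.trans (((iv7 F309819)).symm.trans (sb E68665 D175217)))).symm
theorem F312021 : act 0 n70126 = n76629 := (sb E68666 F210450)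
theorem F312022 : act 2 n70126 = n133728 := (sb E68666 (iv2 F215245))
theorem F312023 : act 3 n45228 = n76629 := (sb E68667 F252487)
theorem E72128 : n157374 = n69792 := ((((iv1 D148891)).symm.trans (sb E68668 F252491))).symm
theorem F312024 : act 4 n148891 = n76629 := (sb E68668 (iv4 D160032))
theorem F312025 : act 5 n148891 = n157348 := (sb E68668 F252490)
theorem F312026 : act 2 n79289 = n131317 := (sb E68669 F215229)
theorem F312027 : act 3 n147300 = n69565 := (sb E68671 F232201)
theorem F312028 : act 4 n147300 = n69580 := (sb E68671 F232202)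
theorem F312029 : act 6 n147300 = n69563 := (sb E68671 (iv6 D148453))
theorem E72130 : n71656 = n41129 := (((F232506).symm.trans (sb E68672 F232858))).symm
theorem F312030 : act 4 n149072 = n145262 := (sb E68674 F247681)
theorem F312031 : act 4 n34290 = n70125 := (sb E68675 (iv4 D149351))
theorem F312032 : act 4 n34291 = n70124 := (sb E68677 (iv4 D149350))
theorem F312033 : act 4 n121944 = n74838 := (sb E68678 F247699)
theorem E72132 : n81682 = n71045 := ((D81682).symm.trans (sb E68680 F188379))
theorem E72133 : n127504 = n81683 := (((D81683).symm.trans (sb E68680 F204944))).symm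
theorem E72134 : n128075 = n21253 := (((F58272).symm.trans (sb E68680 D128075))).symm
theorem F312034 : act 5 n37334 = n28609 := (sb E68680 (iv5 D60186))
theorem E72135 : n81685 = n28655 := ((D81685).symm.trans (sb E68680 F185347))
theorem F312035 : act 0 n131687 = n81658 := (sb E68683 (iv1 F250442))
theorem F312036 : act 3 n131687 = n178442 := (sb E68683 (iv3 F278045))
theorem F312037 : act 3 n60867 = n82498 := (sb E68684 F151471)
theorem F312038 : act 4 n60867 = n81658 := (sb E68684 F151472)
theorem E72136 : n129558 = n45876 := ((D129558).symm.trans (sb E68684 (iv6 D98181)))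
theorem F312039 : act 5 n131403 = n81658 := (sb E68685 (iv5 D170266))
theorem F312040 : act 0 n132335 = n81663 := (sb E68686 (iv1 F250447))
theorem F312041 : act 7 n132335 = n81658 := (sb E68686 F250445)
theorem E72137 : n179591 = n133503 := ((D179591).symm.trans (sb E68687 F221703))
theorem E72138 : n81699 = n28396 := (((F45931).symm.trans (sb E68688 D81699))).symm
theorem F312042 : act 6 n13568 = n17933 := (sb E68688 (iv6 D37342))
theorem E72140 : n148903 = n31936 := (((F94386).symm.trans (sb E68689 D148903))).symm
theorem E72141 : n127564 = n79098 := ((D127564).symm.trans (sb E68689 (iv3 F120348)))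
theorem E72142 : n127565 = n119996 := ((D127565).symm.trans (sb E68689 (iv5 F189439)))
theorem F312043 : act 6 n59906 = n32415 := (sb E68689 (iv6 D69798))
theorem E72144 : n152271 = n54236 := (((F94328).symm.trans (sb E68690 F267856))).symm
theorem E72145 : n70166 = n53419 := ((D70166).symm.trans (sb E68694 (iv6 D115869)))
theorem E72148 : n105910 = n54238 := (((D54238).symm.trans (sb E68696 D105910))).symm
theorem F312044 : act 6 n26229 = n23890 := (sb E68696 (iv6 D48965))
theorem F312045 : act 3 n33787 = n49824 := (sb E68698 F100895)
theorem F312046 : act 1 n69571 = n62845 := (sb E68699 F166681)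
theorem F312047 : act 2 n69571 = n131641 := (sb E68699 F210980)
theorem F312048 : act 5 n69571 = n49824 := (sb E68699 (iv5 D107880))
theorem E72156 : n148476 = n143533 := ((D148476).symm.trans (sb E68699 (iv6 F226238)))
theorem E72157 : n166288 = n69330 := ((D166288).symm.trans (sb E68701 F233041))
theorem E72158 : n155049 = n146598 := (((iv5 F243824)).symm.trans (sb E68701 (iv5 F233213)))
theorem F312049 : act 6 n79852 = n69573 := (sb E68701 F184856)
theorem E72159 : n70099 = n54296 := ((F122594).symm.trans (sb E68701 (iv7 D117882)))
theorem E72160 : n128398 = n60762 := (((iv2 F206518)).symm.trans (sb E68702 (iv2 F95494)))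
theorem E72161 : n129781 = n128416 := (((D128416).symm.trans (sb E68702 D129781))).symm
theorem E72162 : n128417 = n29036 := ((D128417).symm.trans (sb E68702 F95493))
theorem E72163 : n149027 = n80280 := ((D149027).symm.trans (sb E68704 (iv1 F130196)))
theorem F312050 : act 1 n69900 = n39295 := (sb E68704 (iv0 D84939))
theorem E72164 : n178484 = n61711 := (((F106316).symm.trans (sb E68704 D178484))).symm
theorem E72165 : n174388 = n128155 := ((((iv3 F311884)).symm.trans (sb E68704 (iv3 F278119)))).symm
theorem E72167 : n178488 = n32462 := (((F106317).symm.trans (sb E68704 D178488))).symm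
theorem F312051 : act 4 n84940 = n61714 := (sb E68705 F210762)
theorem F312052 : act 4 n119418 = n69882 := (sb E68706 F210674)
theorem F312053 : act 6 n119418 = n61687 := (sb E68706 (iv6 D131434))
theorem F312054 : act 4 n119421 = n61712 := (sb E68708 (iv4 D131502))
theorem F312055 : act 6 n68522 = n80083 := (sb E68709 (iv6 D166840))
theorem F312056 : act 1 n60413 = n52942 := (sb E68711 (iv0 D114704))
theorem F312057 : act 0 n60412 = n52942 := (sb E68712 (iv1 D114705))
theorem F312058 : act 5 n49023 = n52942 := (sb E68713 (iv5 D114706))
theorem E72169 : n128436 = n52945 := ((D128436).symm.trans (sb E68714 F178813))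
theorem F312059 : act 7 n60406 = n52942 := (sb E68714 (iv7 D114707))
theorem F312060 : act 3 n120126 = n82994 := (sb E68715 (iv3 D173451))
theorem F312061 : act 5 n32452 = n39543 := (sb E68718 (iv5 D85579))
theorem F312062 : act 3 n18657 = n29199 := (sb E68719 F95478)
theorem F312063 : act 4 n18657 = n28894 := (sb E68719 (iv4 D60933))
theorem F312064 : act 3 n123379 = n61627 := (sb E68720 (iv3 D131322))
theorem F312065 : act 7 n123379 = n133733 := (sb E68720 (iv7 F215261))
theorem F312066 : act 0 n69570 = n62845 := (sb E68721 F210462)
theorem F312067 : act 5 n69570 = n61627 := (sb E68721 (iv5 D131323))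
theorem F312068 : act 7 n69570 = n131641 := (sb E68721 (iv7 F210978))
theorem F312069 : act 0 n131305 = n146548 := (sb E68722 F236508)
theorem F312070 : act 1 n131305 = n70780 := (sb E68722 (iv0 F227737))
theorem F312071 : act 4 n131305 = n67874 := (sb E68722 (iv4 D144830))
theorem F312072 : act 0 n133821 = n148459 := (sb E68723 F309823)
theorem F312073 : act 1 n133821 = n71907 := (sb E68723 (iv0 D152429))
theorem F312074 : act 3 n133821 = n121359 := (sb E68723 (iv3 F261869))
theorem F312075 : act 0 n133822 = n149311 := (sb E68724 (iv1 F261849))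
theorem F312076 : act 1 n133822 = n149310 := (sb E68724 F261847)
theorem F312077 : act 2 n133822 = n79852 := (sb E68724 (iv2 D166290))
theorem F312078 : act 7 n133822 = n149312 := (sb E68724 F261846)
theorem E72174 : n148917 = n70776 := ((D148917).symm.trans (sb E68725 (iv4 D150310)))
theorem E72175 : n146381 = n102744 := ((((iv6 F291714)).symm.trans (sb E68725 (iv6 F236556)))).symm
theorem E72176 : n159995 = n148890 := (((F233946).symm.trans (sb E68726 (iv0 F252365)))).symm
theorem F312079 : act 4 n69804 = n131641 := (sb E68726 F247678)
theorem E72177 : n107560 = n74833 := (((iv5 F165946)).symm.trans (sb E68726 (iv5 D157360)))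
theorem F312080 : act 3 n151595 = n76821 := (sb E68727 (iv3 D160284))
theorem F312081 : act 4 n151595 = n80468 := (sb E68727 F253158)
theorem F312082 : act 6 n151595 = n170675 := (sb E68727 (iv6 F268170))
theorem F312083 : act 7 n151595 = n76859 := (sb E68727 F253159)
theorem F312084 : act 2 n161016 = n81716 := (sb E68728 (iv2 D170451))
theorem F312085 : act 7 n161016 = n81717 := (sb E68728 (iv7 F267900))
theorem F312086 : act 6 n80453 = n81716 := (sb E68729 (iv6 D170454))
theorem F312087 : act 0 n36588 = n80275 := (sb E68730 F303196)
theorem F312088 : act 1 n36588 = n80255 := (sb E68730 (iv0 D167170))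
theorem F312089 : act 0 n166946 = n80255 := (sb E68731 (iv1 D167171))
theorem F312090 : act 1 n166946 = n80275 := (sb E68731 F303195)
theorem F312091 : act 0 n152660 = n174403 := (sb E68733 F307471)
theorem E72178 : n174402 = n72017 := ((((iv0 D152660)).symm.trans (sb E68733 F307472))).symm
theorem F312092 : act 2 n152660 = n82501 := (sb E68733 F263332)
theorem F312093 : act 3 n152660 = n80255 := (sb E68733 F263333)
theorem F312094 : act 6 n152660 = n80253 := (sb E68733 (iv6 D167168))
theorem F312095 : act 7 n152660 = n82718 := (sb E68733 F307473)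
theorem F312096 : act 2 n117546 = n122837 := (sb E68737 F197777)
theorem F312097 : act 6 n117546 = n57478 := (sb E68737 (iv6 D123393))
theorem E72179 : n159704 = n57320 := ((((iv1 D123171)).symm.trans (sb E68738 (iv1 F251626)))).symm
theorem E72180 : n159706 = n57815 := (((F282671).symm.trans (sb E68738 (iv2 F251630)))).symm
theorem F312098 : act 6 n123171 = n154837 := (sb E68738 (iv6 F243546))
theorem F312099 : act 0 n76407 = n57817 := (sb E68739 (iv1 F197397))
theorem F312100 : act 1 n124678 = n135348 := (sb E68740 (iv0 F217599))
theorem F312101 : act 4 n124678 = n61454 := (sb E68740 (iv4 D130995))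
theorem F312102 : act 7 n124678 = n130149 := (sb E68740 F209695)
theorem F312103 : act 4 n61099 = n72856 := (sb E68741 F241964)
theorem E72181 : n185871 = n29554 := (((F208664).symm.trans (sb E68741 (iv5 F288330)))).symm
theorem E72182 : n130146 = n72855 := ((D130146).symm.trans (sb E68741 (iv6 D153941)))
theorem E72183 : n130980 = n124072 := (((D124072).symm.trans (iv3 (sb E68742 (tr (iv3 F251631) E72180))))).symm
theorem E72184 : n153945 = n124072 := (E68742).trans E72183
theorem F312104 : act 7 n124072 = n72856 := (sb E72184 (iv7 D153945))
theorem F312105 : act 6 n69781 = n86671 := (sb E68743 (iv6 D181590))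
theorem F312106 : act 3 n127474 = n86672 := (sb E68744 (iv3 D181591))
theorem F312107 : act 4 n68996 = n86672 := (sb E68745 (iv4 D181592))
theorem F312108 : act 6 n68325 = n86672 := (sb E68746 (iv6 D181593))
theorem F312109 : act 0 n124550 = n68742 := (sb E68747 (iv1 D146675))
theorem F312110 : act 6 n103690 = n58131 := (sb E68748 (iv6 D124551))
theorem F312111 : act 1 n30599 = n57683 := (sb E68752 (iv0 F199685))
theorem F312112 : act 6 n30599 = n15565 := (sb E68752 (iv6 D32680))
theorem F312113 : act 5 n127839 = n85618 := (sb E68757 F250458)
theorem F312114 : act 1 n129883 = n84166 := (sb E68758 (iv0 D176527))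
theorem F312115 : act 7 n129883 = n85130 := (sb E68758 (iv7 F275837))
theorem E72186 : n124768 = n60654 := ((D124768).symm.trans (sb E68759 (iv5 D128991)))
theorem F312116 : act 3 n125159 = n63615 := (sb E68760 F207263)
theorem F312117 : act 4 n125159 = n65262 := (sb E68760 (iv4 F208779))
theorem F312118 : act 5 n125159 = n60659 := (sb E68760 (iv5 D129010))
theorem F312119 : act 5 n60860 = n60029 := (sb E68762 (iv5 D127833))
theorem E72187 : n129536 = n73122 := ((D129536).symm.trans (sb E68762 F205665))
theorem F312120 : act 3 n125157 = n61013 := (sb E68763 (iv3 D129894))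
theorem F312121 : act 5 n125157 = n62076 := (sb E68763 (iv5 F209663))
theorem F312122 : act 6 n128061 = n61013 := (sb E68764 (iv6 D129897))
theorem F312123 : act 7 n71421 = n86795 := (sb E68765 F279555)
theorem F312124 : act 0 n39610 = n74375 := (sb E68766 (iv1 F245740))
theorem F312125 : act 1 n125185 = n74375 := (sb E68767 (iv0 D156377))
theorem F312126 : act 5 n125185 = n139200 := (sb E68767 F245790)
theorem E72189 : n178866 = n138501 := (((iv1 F278736)).symm.trans (sb E68768 (iv1 F245777)))
theorem E72190 : n132519 = n85957 := (((F278738).symm.trans (sb E68768 (iv0 F246094)))).symm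
theorem F312127 : act 2 n149071 = n74370 := (sb E68768 (iv2 D156357))
theorem F312128 : act 4 n149071 = n108166 := (sb E68768 (iv4 F245775))
theorem E72191 : n138502 = n86792 := (((F234447).symm.trans (sb E68768 (iv7 F245767)))).symm
theorem F312129 : act 4 n136423 = n85666 := (sb E68769 (iv4 D179540))
theorem F312130 : act 7 n136423 = n86797 := (sb E68769 F279557)
theorem F312131 : act 2 n40239 = n74375 := (sb E68770 (iv2 D156378))
theorem F312132 : act 0 n74477 = n57683 := (sb E68771 (iv1 F198214))
theorem E72192 : n85685 = n65114 := (((F111792).symm.trans (sb E68771 (iv3 F198216)))).symm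
theorem F312133 : act 2 n65053 = n57683 := (sb E68772 F198139)
theorem E72193 : n138503 = n69928 := (((iv3 F221689)).symm.trans (sb E68772 F198142))
theorem E72194 : n138514 = n57661 := ((D138514).symm.trans (sb E68772 (iv4 D123689)))
theorem E72195 : n151988 = n57682 := (((D57682).symm.trans (sb E68773 (iv3 F239000)))).symm
theorem F312134 : act 2 n123753 = n138515 := (sb E68774 F232853)
theorem E72196 : n131229 = n124073 := ((F232835).symm.trans (sb E68775 (iv0 F198477)))
theorem F312135 : act 3 n71661 = n85660 := (sb E68775 F198233)
theorem F312136 : act 2 n71661 = n86795 := (sb E68776 F279548)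
theorem F312137 : act 5 n71661 = n85660 := (sb E68776 (iv5 D179536))
theorem F312138 : act 0 n149917 = n133610 := (sb E68777 (iv1 F247706))
theorem F312139 : act 1 n149917 = n131166 := (sb E68777 F247707)
theorem F312140 : act 3 n149917 = n131195 := (sb E68777 F247704)
theorem F312141 : act 5 n149917 = n143127 := (sb E68777 (tr (iv5 F252519) E71634))
theorem F312142 : act 7 n149917 = n74838 := (sb E68777 (iv7 D157373))
theorem F312143 : act 2 n156379 = n86797 := (sb E68778 F279550)
theorem F312145 : act 6 n150579 = n74375 := (sb E68779 (iv6 D156380))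
theorem F312146 : act 3 n108252 = n85673 := (sb E68780 (iv3 D179553))
theorem F312147 : act 4 n65289 = n85673 := (sb E68781 (iv4 D179554))
theorem F312148 : act 2 n138809 = n86812 := (sb E68783 F279596)
theorem F312149 : act 5 n138809 = n148960 := (sb E68783 F279598)
theorem F312150 : act 0 n74529 = n58529 := (sb E68784 (iv1 D125162))
theorem F312151 : act 1 n74529 = n60030 := (sb E68784 F201176)
theorem F312152 : act 2 n74529 = n60347 := (sb E68784 F234255)
theorem E72197 : n160246 = n156717 := (((D156717).symm.trans (sb E68784 F253063))).symm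
theorem F312153 : act 7 n74529 = n60348 := (sb E68784 F234256)
theorem F312154 : act 4 n125505 = n60030 := (sb E68786 (iv4 D127834))
theorem F312155 : act 6 n125505 = n60031 := (sb E68786 F205667)
theorem F312156 : act 3 n125158 = n64216 := (sb E68787 (iv3 D136613))
theorem F312157 : act 4 n125158 = n156773 := (sb E68787 (iv4 F246673))
theorem F312158 : act 6 n125506 = n159393 := (sb E68790 F282885)
theorem F312159 : act 0 n136620 = n178614 := (sb E68791 F282887)
theorem F312160 : act 6 n76246 = n64219 := (sb E68792 (iv6 D136625))
theorem F312161 : act 0 n136615 = n159431 := (sb E68794 F279576)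
theorem F312162 : act 1 n136615 = n159430 := (sb E68794 F279577)
theorem F312163 : act 7 n136615 = n159394 := (sb E68794 F279575)
theorem F312164 : act 4 n28658 = n28967 := (sb E68795 (iv4 D61154))
theorem E72202 : n130309 = n60346 := (((D60346).symm.trans (sb E68795 D130309))).symm
theorem F312165 : act 4 n28657 = n28962 := (sb E68796 (iv4 D61137))
theorem E72204 : n130260 = n60341 := (((D60341).symm.trans (sb E68796 D130260))).symm
theorem F312166 : act 5 n18652 = n34211 := (sb E68797 (iv5 D74621))
theorem E72211 : n178613 = n136356 := ((D178613).symm.trans (sb E68799 (iv3 F219449)))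
theorem E72214 : n178617 = n141047 := ((D178617).symm.trans (sb E68800 (iv7 F224048)))
theorem F312167 : act 5 n45217 = n86642 := (sb E68802 (iv5 D181520))
theorem F312168 : act 6 n177116 = n86642 := (sb E68803 (iv6 D181521))
theorem F312169 : act 4 n21942 = n29522 := (sb E68809 (iv4 D62457))
theorem E72221 : n133122 = n36736 := ((((iv6 F298277)).symm.trans (sb E68809 D133122))).symm
theorem F312170 : act 4 n35288 = n29582 := (sb E68811 F97555)
theorem F312171 : act 3 n120429 = n71422 := (sb E68812 (iv3 D151501))
theorem F312172 : act 3 n79034 = n61687 := (sb E68813 (iv3 D131432))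
theorem F312173 : act 0 n74839 = n69573 := (sb E68814 F232930)
theorem F312174 : act 2 n74839 = n69570 := (sb E68814 F233046)
theorem E72225 : n156740 = n119757 := (((iv3 F246568)).symm.trans (sb E68814 (iv3 F305952)))
theorem E72226 : n157375 = n54241 := ((D157375).symm.trans (sb E68814 (iv6 D117751)))
theorem F312175 : act 7 n74839 = n69571 := (sb E68814 F233044)
theorem F312176 : act 2 n148461 = n133821 := (sb E68815 F251577)
theorem F312177 : act 5 n148461 = n76400 := (sb E68815 (iv5 D159688))
theorem F312178 : act 1 n139216 = n117654 := (sb E68816 (iv0 F259462))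
theorem F312179 : act 3 n139216 = n73798 := (sb E68816 F244252)
theorem F312180 : act 5 n139216 = n73796 := (sb E68816 (iv5 D155317))
theorem F312181 : act 3 n75828 = n61768 := (sb E68820 F207527)
theorem F312182 : act 0 n131642 = n76588 := (sb E68821 F307831)
theorem F312183 : act 1 n131642 = n152432 := (sb E68821 F307832)
theorem F312184 : act 2 n131642 = n69565 := (sb E68821 F232181)
theorem F312185 : act 3 n131642 = n76598 := (sb E68821 F307833)
theorem F312186 : act 6 n131642 = n69558 := (sb E68821 (iv6 D148441))
theorem F312187 : act 6 n32296 = n61768 := (sb E68822 (iv6 D131643))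
theorem F312188 : act 5 n76619 = n61769 := (sb E68823 (iv5 D131645))
theorem E72227 : n134706 = n119120 := (((F187420).symm.trans (sb E68824 D134706))).symm
theorem E72228 : n134707 = n119011 := (((F187423).symm.trans (sb E68824 D134707))).symm
theorem E72229 : n120222 = n29904 := ((D120222).symm.trans (sb E68824 (iv3 D63290)))
theorem E72230 : n134708 = n120223 := (((D120223).symm.trans (sb E68824 D134708))).symm
theorem F312189 : act 6 n55316 = n120149 := (sb E68824 F209875)
theorem E72231 : n61551 = n54266 := ((F186199).symm.trans (sb E68825 (iv7 D117817)))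
theorem F312190 : act 3 n71538 = n107863 := (sb E68829 F221619)
theorem F312191 : act 3 n39354 = n61628 := (sb E68830 F207906)
theorem E72232 : n116612 = n85104 := ((((iv6 F130442)).symm.trans (sb E68830 F209752))).symm
theorem F312192 : act 0 n131326 = n70780 := (sb E68831 (iv1 D150315))
theorem F312193 : act 1 n131326 = n146548 := (sb E68831 F236561)
theorem E72233 : n142669 = n119948 := (((iv1 F225555)).symm.trans (sb E68832 F278399))
theorem E72234 : n117369 = n31231 := ((((iv0 D67097)).symm.trans (sb E68832 (iv0 F278400)))).symm
theorem F312194 : act 5 n67097 = n85066 := (sb E68832 (iv5 D178616))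
theorem E72235 : n155313 = n142670 := ((((iv7 F225557)).symm.trans (sb E68832 (iv7 F278402)))).symm
theorem F312195 : act 1 n49136 = n81765 := (sb E68834 F267915)
theorem E72236 : n180007 = n150967 := ((((iv2 F237672)).symm.trans (sb E68836 (iv2 F280383)))).symm
theorem F312196 : act 5 n71167 = n81735 := (sb E68836 (iv5 D170512))
theorem F312197 : act 2 n82446 = n37892 := (sb E68837 (iv2 D82534))
theorem E72237 : n172348 = n172152 := (((D172152).symm.trans (sb E68837 D172348))).symm
theorem E72238 : n172349 = n158442 := ((((iv4 F307599)).symm.trans (sb E68837 D172349))).symm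
theorem E72239 : n172350 = n172154 := (((D172154).symm.trans (sb E68837 D172350))).symm
theorem E72240 : n172351 = n172155 := (((D172155).symm.trans (sb E68837 D172351))).symm
theorem F312198 : act 7 n82446 = n37893 := (sb E68837 (iv7 F127181))
theorem E72241 : n96252 = n53895 := ((D96252).symm.trans (sb E68839 (iv1 D116945)))
theorem E72242 : n96253 = n59902 := ((D96253).symm.trans (sb E68839 F243158))
theorem E72243 : n96255 = n59886 := ((D96255).symm.trans (sb E68839 F243161))
theorem E72244 : n105411 = n69333 := ((D105411).symm.trans (sb E68840 (iv1 F231832)))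
theorem E72245 : n105412 = n69328 := ((D105412).symm.trans (sb E68840 (iv0 D148006)))
theorem E72246 : n159872 = n105414 := (((D105414).symm.trans (sb E68840 (iv7 F252065)))).symm
theorem E72247 : n75145 = n54065 := ((F248549).symm.trans (sb E68842 F114761))
theorem E72248 : n105420 = n54069 := ((D105420).symm.trans (sb E68842 F114762))
theorem F312199 : act 2 n48745 = n59906 := (sb E68842 F114759)
theorem E72249 : n159876 = n105417 := ((((iv3 F161808)).symm.trans (sb E68842 D159876))).symm
theorem F312200 : act 4 n48745 = n34973 := (sb E68842 (iv4 D76537))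
theorem E72250 : n146493 = n105421 := (((D105421).symm.trans (sb E68842 (iv5 F229823)))).symm
theorem E72251 : n105422 = n68620 := ((D105422).symm.trans (sb E68842 F114760))
theorem E72254 : n140854 = n49124 := (((iv3 F223921)).symm.trans (sb E68844 F114250))
theorem E72255 : n147993 = n133703 := (((iv5 F231816)).symm.trans (sb E68844 (iv5 F215180)))
theorem F312201 : act 6 n69325 = n34824 := (sb E68844 (iv6 D76242))
theorem F312202 : act 6 n127734 = n74585 := (sb E68845 F246788)
theorem E72258 : n68549 = n65583 := (((F101340).symm.trans (sb E68846 (iv0 F183331)))).symm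
theorem F312203 : act 6 n34199 = n68554 := (sb E68846 F183328)
theorem E72259 : n65581 = n54006 := (((iv7 F101335)).symm.trans (sb E68846 (iv7 D117179)))
theorem E72260 : n77666 = n29228 := (((D29228).symm.trans (sb E68847 F279292))).symm
theorem E72261 : n77665 = n29240 := (((D29240).symm.trans (sb E68848 F235694))).symm
theorem F312204 : act 0 n60963 = n32978 := (sb E68849 (iv1 D71255))
theorem E72262 : n151165 = n129801 := (((D129801).symm.trans (sb E68849 (iv3 F247635)))).symm
theorem F312205 : act 5 n60963 = n74940 := (sb E68849 (iv5 F112472))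
theorem E72263 : n85440 = n59239 := (((F95502).symm.trans (sb E68849 F200809))).symm
theorem E72264 : n32237 = n12320 := (((F46731).symm.trans (sb E68852 (iv1 F85572)))).symm
theorem E72265 : n32236 = n14725 := (((F46732).symm.trans (sb E68852 F85573))).symm
theorem E72266 : n117709 = n53572 := (((D53572).symm.trans (sb E68852 (iv3 F184326)))).symm
theorem E72268 : n53573 = n26225 := ((D53573).symm.trans (sb E68852 F85571))
theorem E72269 : n69140 = n54764 := (((D54764).symm.trans (sb E68853 (iv6 D147520)))).symm
theorem F312206 : act 4 n76548 = n76134 := (sb E68854 (iv4 D159187))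
theorem E72270 : n179984 = n159897 := (((D159897).symm.trans (sb E68854 (iv7 F280334)))).symm
theorem F312207 : act 0 n54178 = n117379 := (sb E68856 (iv1 F306386))
theorem E72271 : n150207 = n117574 := ((((iv0 F266253)).symm.trans (sb E68856 D150207))).symm
theorem E72272 : n150067 = n117506 := ((((iv2 F184078)).symm.trans (sb E68856 (iv2 F236132)))).symm
theorem E72273 : n117598 = n44993 := (((iv3 F184196)).symm.trans (sb E68856 F305556))
theorem F312208 : act 4 n54178 = n44905 := (sb E68856 (iv4 F307582))
theorem E72274 : n117603 = n32779 := ((D117603).symm.trans (sb E68856 (iv5 D70697)))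
theorem E72275 : n150209 = n26209 := ((((iv6 D54178)).symm.trans (sb E68856 D150209))).symm
theorem F312209 : act 7 n54178 = n81691 := (sb E68856 (iv7 F306800))
theorem F312210 : act 6 n54176 = n44905 := (sb E68857 (iv6 D96189))
theorem F312211 : act 3 n133683 = n85021 := (sb E68859 F272539)
theorem F312212 : act 7 n133683 = n85129 := (sb E68859 F272540)
theorem F312213 : act 3 n120153 = n83066 := (sb E68860 F272213)
theorem F312214 : act 5 n120153 = n83065 := (sb E68860 (iv5 D173691))
theorem F312215 : act 7 n120153 = n83161 := (sb E68860 F272214)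
theorem F312216 : act 5 n68111 = n67704 := (sb E68861 (iv5 D144482))
theorem F312217 : act 5 n68102 = n116201 := (sb E68863 F246177)
theorem F312218 : act 1 n54200 = n65239 := (sb E68869 (iv0 D138982))
theorem F312219 : act 0 n63180 = n34281 := (sb E68870 (iv1 D74824))
theorem E72285 : n108367 = n67706 := ((((iv5 F103740)).symm.trans (sb E68870 (iv5 F167546)))).symm
theorem F312220 : act 0 n135243 = n71087 := (sb E68871 F247553)
theorem F312221 : act 4 n135243 = n155682 := (sb E68871 F244713)
theorem E72287 : n157309 = n139914 := ((((iv5 F223132)).symm.trans (sb E68871 F247554))).symm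
theorem E72289 : n157338 = n67405 := (((F217433).symm.trans (sb E68871 (iv7 F247614)))).symm
theorem E72292 : n139796 = n70494 := (((iv4 F222987)).symm.trans (sb E68873 (iv4 F307237)))
theorem E72293 : n139915 = n34269 := ((D139915).symm.trans (sb E68873 (iv6 D74798)))
theorem E72294 : n150419 = n67410 := ((((iv7 F103267)).symm.trans (sb E68873 (iv7 F307243)))).symm
theorem E72295 : n53624 = n39770 := ((F84593).symm.trans (sb E68874 (iv1 D85998)))
theorem F312222 : act 1 n31332 = n34281 := (sb E68875 (iv0 D74823))
theorem E72298 : n159106 = n154715 := ((D159106).symm.trans (sb E69000 (iv4 F242893)))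
theorem E72299 : n159100 = n53832 := (E70678).trans E71169
theorem E72301 : n36782 = n14673 := (((F40994).symm.trans (sb E68879 F84983))).symm
theorem E72302 : n53552 = n14892 := ((D53552).symm.trans (sb E68879 F49956))
theorem E72304 : n66439 = n60438 := (((F110896).symm.trans (sb E68882 (iv6 D141669)))).symm
theorem F312223 : act 3 n120059 = n126868 := (sb E68883 F224725)
theorem E72305 : n74123 = n66440 := ((F189639).symm.trans (sb E68883 (iv6 D141673)))
theorem E72306 : n66437 = n60437 := ((D66437).symm.trans (sb E68884 (iv1 F110912)))
theorem E72307 : n66438 = n60436 := ((D66438).symm.trans (sb E68884 F110913))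
theorem E72308 : n66441 = n53888 := ((D66441).symm.trans (sb E68884 F110910))
theorem F312224 : act 6 n31013 = n60433 := (sb E68884 F110911)
theorem E72309 : n53549 = n34022 := (((iv7 F84465)).symm.trans (sb E68884 (iv7 D74171)))
theorem E72310 : n65195 = n13679 := ((((iv6 D28700)).symm.trans (sb E68885 (iv6 D138870)))).symm
theorem E72315 : n157342 = n107699 := ((((iv3 F166331)).symm.trans (sb E68889 D157342))).symm
theorem F312225 : act 4 n49785 = n34281 := (sb E68889 (iv4 D74825))
theorem E72317 : n34283 = n24273 := ((((iv6 D49785)).symm.trans (sb E68889 F112290))).symm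
theorem E72318 : n68073 = n14666 := ((((iv3 F24349)).symm.trans (sb E68890 D68073))).symm
theorem E72320 : n68070 = n53544 := ((((iv3 F84454)).symm.trans (sb E68891 D68070))).symm
theorem E72322 : n15842 = n14704 := (((F40998).symm.trans (sb E68891 F49954))).symm
theorem E72324 : n66433 = n14889 := (((F41209).symm.trans (sb E68892 F102336))).symm
theorem E72325 : n66443 = n26291 := ((((iv4 F311234)).symm.trans (sb E68892 D66443))).symm
theorem F312226 : act 5 n26060 = n14671 := (sb E68892 (iv5 D31014))
theorem E72326 : n53550 = n12352 := ((((iv7 D26060)).symm.trans (sb E68892 (iv7 F84467)))).symm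
theorem E72328 : n177060 = n73386 := (((iv4 F276472)).symm.trans (sb E68895 F185884))
theorem E72329 : n177061 = n54489 := ((D177061).symm.trans (sb E68895 (iv6 D118311)))
theorem E72331 : n74605 = n54546 := (((D54546).symm.trans (sb E68899 (iv6 D156894)))).symm
theorem F312227 : act 3 n26379 = n16555 := (sb E68900 F53835)
theorem F312228 : act 3 n33786 = n31276 := (sb E68902 (iv3 D67220))
theorem E72339 : n143527 = n73486 := (((D73486).symm.trans (sb E68902 D143527))).symm
theorem E72340 : n166118 = n143511 := ((((iv1 F226222)).symm.trans (sb E68903 (iv1 F261572)))).symm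
theorem E72341 : n166115 = n143510 := (((F226221).symm.trans (sb E68903 (iv0 F261561)))).symm
theorem E72342 : n143531 = n117378 := ((D143531).symm.trans (sb E68904 F243608))
theorem E72343 : n143532 = n76642 := ((D143532).symm.trans (sb E68904 (iv0 F243609)))
theorem F312229 : act 2 n67223 = n117375 := (sb E68904 F243605)
theorem E72344 : n143534 = n117376 := ((D143534).symm.trans (sb E68904 (iv7 F243610)))
theorem F312230 : act 3 n75997 = n53834 := (sb E68905 F182419)
theorem E72345 : n139916 = n34730 := ((((iv5 D75997)).symm.trans (sb E68905 (iv5 F223133)))).symm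
theorem E72346 : n134488 = n79727 := (((F301077).symm.trans (sb E68905 (iv7 F216437)))).symm
theorem E72347 : n157455 = n80470 := (((F300138).symm.trans (sb E68906 (iv5 F248069)))).symm
theorem F312231 : act 6 n121687 = n69304 := (sb E68907 (iv6 D147926))
theorem F312232 : act 6 n32929 = n56226 := (sb E68908 (iv6 D121688))
theorem E72348 : n59739 = n32525 := ((((iv1 F51603)).symm.trans (sb E68909 (iv1 D127247)))).symm
theorem E72349 : n149325 = n143495 := ((((iv2 F226216)).symm.trans (sb E68910 (iv2 F234753)))).symm
theorem E72350 : n148537 = n143496 := (((D143496).symm.trans (sb E68910 (tr D149343 E71712)))).symm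
theorem F312233 : act 4 n67211 = n32532 := (sb E68910 (iv4 D70122))
theorem E72351 : n149344 = n143498 := (((D143498).symm.trans (sb E68910 D149344))).symm
theorem E72352 : n149345 = n143499 := (((D143499).symm.trans (sb E68910 D149345))).symm
theorem E72353 : n143490 = n79764 := ((F226215).symm.trans (sb E68910 (iv7 F122449)))
theorem F312234 : act 1 n57797 = n62799 := (sb E68911 (iv0 F98003))
theorem F312235 : act 2 n57797 = n29721 := (sb E68911 F185219)
theorem F312236 : act 3 n57797 = n40144 := (sb E68911 F308001)
theorem F312237 : act 4 n57797 = n29153 := (sb E68911 (iv4 D61570))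
theorem F312238 : act 3 n85670 = n40159 := (sb E68912 F132892)
theorem F312239 : act 5 n85670 = n40158 := (sb E68912 (iv5 D86644))
theorem E72357 : n181527 = n133712 := ((((iv6 F307943)).symm.trans (sb E68912 D181527))).symm
theorem E72358 : n181532 = n61592 := ((D181532).symm.trans (sb E68913 (iv1 F205873)))
theorem E72359 : n181533 = n61591 := ((D181533).symm.trans (sb E68913 F205874))
theorem F312240 : act 2 n86647 = n61593 := (sb E68913 F205869)
theorem E72360 : n181534 = n60103 := ((D181534).symm.trans (sb E68913 (iv7 D127932)))
theorem F312241 : act 1 n34157 = n40232 := (sb E68915 F198144)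
theorem F312242 : act 4 n34157 = n58337 := (sb E68915 (iv4 F92572))
theorem F312243 : act 6 n34157 = n41142 := (sb E68915 F308723)
theorem F312244 : act 1 n60053 = n65053 := (sb E68916 F232823)
theorem F312245 : act 2 n60053 = n30599 := (sb E68916 F100947)
theorem F312246 : act 5 n60053 = n30598 := (sb E68916 (iv5 D65181))
theorem F312247 : act 7 n60053 = n74477 := (sb E68916 (iv7 F111793))
theorem F312248 : act 0 n57678 = n74477 := (sb E68917 (iv1 F111795))
theorem F312249 : act 1 n57678 = n30599 := (sb E68917 (iv0 D65183))
theorem E72362 : n138825 = n123735 := (((D123735).symm.trans (sb E68917 D138825))).symm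
theorem F312250 : act 5 n57678 = n34114 := (sb E68917 F245754)
theorem F312251 : act 7 n57678 = n65053 := (sb E68917 (iv7 F232845))
theorem E72365 : n133504 = n125186 := (((D125186).symm.trans (sb E68919 F221557))).symm
theorem F312252 : act 0 n86783 = n138341 := (sb E68920 (iv1 F221707))
theorem F312253 : act 2 n86783 = n136423 := (sb E68920 F245785)
theorem F312254 : act 7 n86783 = n156379 := (sb E68920 (iv7 F245802))
theorem F312255 : act 3 n86784 = n65059 := (sb E68921 F221711)
theorem E72367 : n129620 = n27855 := (((D27855).symm.trans (sb E68924 (iv6 F207795)))).symm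
theorem F312256 : act 0 n13678 = n11426 := (sb E68930 (iv1 D24277))
theorem E72369 : n49795 = n28699 := (((D28699).symm.trans (sb E68930 D49795))).symm
theorem F312257 : act 2 n19011 = n11426 := (sb E68932 (iv2 D24278))
theorem F312258 : act 3 n19011 = n24377 := (sb E68932 (iv3 F38217))
theorem E72371 : n49764 = n27821 := ((((iv4 F44926)).symm.trans (sb E68932 (iv4 F78620)))).symm
theorem E72372 : n40245 = n13520 := ((D40245).symm.trans (sb E68932 F38052))
theorem E72374 : n136629 = n40248 := (((D40248).symm.trans (sb E68933 (iv3 F219765)))).symm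
theorem F312259 : act 1 n18743 = n11426 := (sb E68935 (iv0 D24276))
theorem F312260 : act 2 n86805 = n65289 := (sb E68937 F222241)
theorem F312261 : act 7 n86805 = n65288 := (sb E68937 F222242)
theorem F312262 : act 3 n86807 = n74476 := (sb E68938 F246315)
theorem E72377 : n149070 = n108254 := ((F236169).symm.trans (sb E68939 (iv1 F245517)))
theorem E72378 : n125165 = n108232 := ((F236170).symm.trans (sb E68939 (iv0 F245520)))
theorem E72379 : n181763 = n74468 := ((D181763).symm.trans (sb E68939 F222120))
theorem E72380 : n152256 = n65225 := (((iv4 F239314)).symm.trans (sb E68939 (iv4 D138931)))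
theorem F312263 : act 7 n86809 = n108252 := (sb E68939 F222122)
theorem F312264 : act 2 n86810 = n65288 := (sb E68940 F221972)
theorem E72381 : n181765 = n64177 := ((D181765).symm.trans (sb E68940 (iv3 D136514)))
theorem F312265 : act 7 n86810 = n65289 := (sb E68940 (iv7 F221973))
theorem E72387 : n181779 = n136628 := (((D136628).symm.trans (sb E68942 D181779))).symm
theorem E72389 : n136631 = n76261 := ((D136631).symm.trans (sb E68942 F133103))
theorem E72391 : n181781 = n133506 := ((((iv1 F214694)).symm.trans (sb E68943 D181781))).symm
theorem E72392 : n181782 = n136617 := (((F219761).symm.trans (sb E68943 D181782))).symm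
theorem E72394 : n181784 = n136635 := (((D136635).symm.trans (sb E68943 D181784))).symm
theorem E72395 : n179557 = n136603 := ((((iv7 F219691)).symm.trans (sb E68943 (iv7 F279608)))).symm
theorem F312266 : act 6 n34835 = n30253 := (sb E68944 (iv6 D64223))
theorem F312267 : act 4 n64214 = n39588 := (sb E68945 (iv4 D85674))
theorem E72400 : n179558 = n136604 := (((D136604).symm.trans (sb E68945 D179558))).symm
theorem F312268 : act 2 n85675 = n136615 := (sb E68946 (iv2 F219738))
theorem E72401 : n139082 = n58355 := ((D139082).symm.trans (sb E68948 (iv1 F232420)))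
theorem E72402 : n139083 = n58311 := ((D139083).symm.trans (sb E68948 (iv0 F232421)))
theorem E72403 : n139077 = n58354 := (((iv2 F222262)).symm.trans (sb E68948 F232350))
theorem F312269 : act 4 n65285 = n58503 := (sb E68948 (iv4 F232418))
theorem F312270 : act 6 n65285 = n72585 := (sb E68948 (iv6 F109104))
theorem F312271 : act 7 n65285 = n32744 := (sb E68948 (iv7 D70588))
theorem F312272 : act 2 n62660 = n85065 := (sb E68949 F278359)
theorem E72404 : n147948 = n133572 := (((D133572).symm.trans (sb E68950 F278365))).symm
theorem E72405 : n147945 = n133573 := (((D133573).symm.trans (sb E68950 F278369))).symm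
theorem F312273 : act 2 n62686 = n85066 := (sb E68950 F278361)
theorem E72406 : n148013 = n66151 := ((((iv7 F101775)).symm.trans (sb E68950 (iv7 F278374)))).symm
theorem F312274 : act 2 n57819 = n61635 := (sb E68951 F166737)
theorem E72407 : n151509 = n124089 := (((D124089).symm.trans (sb E68951 (iv5 F238375)))).symm
theorem F312275 : act 0 n39322 = n61476 := (sb E68955 (iv1 F101514))
theorem F312276 : act 3 n39322 = n64984 := (sb E68955 F101510)
theorem E72413 : n137050 = n85033 := (((D85033).symm.trans (sb E68955 (iv4 F220196)))).symm
theorem E72414 : n72104 = n66161 := (((iv6 F108562)).symm.trans (sb E68955 (iv6 F101783)))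
theorem F312277 : act 7 n136366 = n85065 := (sb E68957 F278278)
theorem E72415 : n66147 = n54715 := ((F169838).symm.trans (sb E68958 (iv0 D118880)))
theorem E72416 : n134698 = n55009 := (((iv3 F216697)).symm.trans (sb E68961 F188546))
theorem F312278 : act 6 n63287 = n55007 := (sb E68961 (iv6 D119563))
theorem F312279 : act 5 n65287 = n32744 := (sb E68963 (iv5 D70587))
theorem E72417 : n139091 = n32745 := ((D139091).symm.trans (sb E68963 F107050))
theorem F312280 : act 0 n65293 = n86805 := (sb E68964 F257042)
theorem F312281 : act 1 n65293 = n86810 := (sb E68964 (iv0 F233114))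
theorem E72418 : n139111 = n54708 := ((D139111).symm.trans (sb E68964 (iv6 D118864)))
theorem F312282 : act 2 n26458 = n30644 := (sb E68965 F101036)
theorem F312283 : act 6 n26458 = n30640 := (sb E68965 (iv6 D65303))
theorem E72421 : n139135 = n54664 := ((((iv7 F86460)).symm.trans (sb E68965 (iv7 F222320)))).symm
theorem F312284 : act 5 n27804 = n34262 := (sb E68969 F246562)
theorem F312285 : act 3 n39440 = n34262 := (sb E68971 (iv3 D74773))
theorem E72430 : n157255 = n85376 := (((D85376).symm.trans (sb E68971 D157255))).symm
theorem E72431 : n138610 = n18707 := ((((iv0 F232408)).symm.trans (sb E68973 (iv0 F222050)))).symm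
theorem F312286 : act 2 n33010 = n30641 := (sb E68973 (iv2 D65306))
theorem E72432 : n111247 = n71347 := (((D71347).symm.trans (sb E68973 F222048))).symm
theorem E72434 : n138891 = n58387 := (((F232389).symm.trans (sb E68973 (iv7 F222049)))).symm
theorem E72435 : n138364 = n71331 := (((F232383).symm.trans (sb E68974 F221840))).symm
theorem F312287 : act 4 n118679 = n65117 := (sb E68974 (iv4 D138676))
theorem E72436 : n138378 = n71332 := (((F232386).symm.trans (sb E68974 F221841))).symm
theorem E72437 : n149188 = n130294 := ((F306256).symm.trans (sb E68975 F221833))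
theorem F312288 : act 1 n27813 = n30641 := (sb E68976 (iv0 D65304))
theorem E72439 : n74515 = n58452 := (((D58452).symm.trans (sb E68976 F111897))).symm
theorem F312289 : act 0 n39476 = n30641 := (sb E68977 (iv1 F222052))
theorem F312290 : act 3 n39476 = n30613 := (sb E68977 (iv3 D65213))
theorem E72441 : n85497 = n74516 := ((D85497).symm.trans (sb E68977 F111898))
theorem E72442 : n138894 = n85498 := (((D85498).symm.trans (sb E68977 D138894))).symm
theorem E72443 : n139145 = n54651 := ((D139145).symm.trans (sb E68978 F186683))
theorem E72444 : n139062 = n85366 := (((iv7 F222232)).symm.trans (sb E68978 F232484))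
theorem F312291 : act 3 n26432 = n30644 := (sb E68979 F101039)
theorem F312292 : act 6 n26432 = n30641 := (sb E68979 (iv6 D65309))
theorem F312293 : act 3 n39437 = n30635 := (sb E68980 (iv3 D65277))
theorem E72448 : n139064 = n85367 := (((D85367).symm.trans (sb E68980 D139064))).symm
theorem F312294 : act 7 n39437 = n30641 := (sb E68980 F101015)
theorem E72449 : n65600 = n35034 := ((((iv0 F55642)).symm.trans (sb E68981 (iv0 D139750)))).symm
theorem F312295 : act 1 n32976 = n30644 := (sb E68982 (iv0 D65315))
theorem F312296 : act 0 n59815 = n30644 := (sb E68983 (iv1 D65316))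
theorem E72461 : n159390 = n139159 := (((D139159).symm.trans (sb E68984 (iv1 F250966)))).symm
theorem E72462 : n159391 = n139160 := (((D139160).symm.trans (sb E68984 (iv0 F250970)))).symm
theorem E72463 : n139162 = n54711 := ((D139162).symm.trans (sb E68984 F186651))
theorem E72464 : n139073 = n54712 := (((D54712).symm.trans (sb E68985 (iv6 F222256)))).symm
theorem F312297 : act 7 n26460 = n30644 := (sb E68985 (iv7 D65318))
theorem F312298 : act 0 n65278 = n86810 := (sb E68987 F278358)
theorem F312299 : act 1 n65278 = n86805 := (sb E68987 F278357)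
theorem E72465 : n139070 = n71308 := ((D139070).symm.trans (sb E68988 (iv1 F232951)))
theorem F312300 : act 1 n117521 = n139119 := (sb E68989 (iv0 F222312))
theorem F312301 : act 5 n117521 = n62846 := (sb E68989 (iv5 D133825))
theorem E72466 : n145891 = n139089 := ((((iv3 F222277)).symm.trans (sb E68990 F229936))).symm
theorem E72467 : n139134 = n68719 := ((D139134).symm.trans (sb E68990 (iv7 D146641)))
theorem E72468 : n67133 = n16327 := ((D67133).symm.trans (sb E68991 (iv1 D33789)))
theorem E72469 : n73413 = n67086 := ((((iv2 F103053)).symm.trans (sb E68991 (iv2 F190246)))).symm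
theorem E72470 : n73497 = n67116 := ((((iv3 F103089)).symm.trans (sb E68991 D73497))).symm
theorem E72471 : n73498 = n67132 := ((((iv4 F103095)).symm.trans (sb E68991 D73498))).symm
theorem E72472 : n73499 = n67135 := (((D67135).symm.trans (sb E68991 D73499))).symm
theorem E72474 : n73412 = n67136 := (((D67136).symm.trans (sb E68991 (iv7 F190250)))).symm
theorem F312302 : act 0 n33788 = n67134 := (sb E68992 (iv1 F226016))
theorem E72475 : n73495 = n67085 := ((D73495).symm.trans (sb E68992 (iv6 D143164)))
theorem F312303 : act 2 n33791 = n67134 := (sb E68993 F226097)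
theorem F312304 : act 3 n119370 = n67134 := (sb E68994 (iv3 D143316))
theorem F312305 : act 0 n143317 = n73502 := (sb E68995 (iv1 F243504))
theorem F312306 : act 1 n143317 = n73501 := (sb E68995 F243505)
theorem F312307 : act 2 n143317 = n73505 := (sb E68995 F243501)
theorem F312308 : act 6 n143317 = n149376 := (sb E68995 F243503)
theorem F312309 : act 7 n143317 = n73414 := (sb E68995 (iv7 D154812))
theorem F312310 : act 5 n33766 = n67134 := (sb E68996 (iv5 D143318))
theorem F312311 : act 7 n33765 = n67134 := (sb E68997 (iv7 F226096))
theorem E72478 : n169884 = n118290 := (((D118290).symm.trans (sb E68998 (iv2 F267309)))).symm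
theorem E72479 : n180015 = n118291 := (((D118291).symm.trans (sb E68998 (iv4 F280394)))).symm
theorem F312312 : act 6 n54479 = n39798 := (sb E68998 (iv6 D86025))
theorem F312313 : act 3 n150775 = n79728 := (sb E69001 (iv3 D166062))
theorem E72481 : n157452 = n37356 := (E69643).trans E69669
theorem E72482 : n157453 = n138563 := ((D157453).symm.trans (sb E69002 (tr D159072 E69665)))
theorem F312314 : act 2 n74904 = n34730 := (sb E69002 F113868)
theorem F312315 : act 5 n74904 = n79728 := (sb E69002 F300140)
theorem F312316 : act 6 n74908 = n79728 := (sb E69003 (iv6 D166064))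
theorem E72484 : n74451 = n58375 := ((D74451).symm.trans (sb E69005 (iv1 F200504)))
theorem E72485 : n150852 = n74455 := (((D74455).symm.trans (sb E69005 (iv6 F237584)))).symm
theorem E72486 : n118315 = n30590 := (((F53633).symm.trans (sb E69005 (iv7 F200510)))).symm
theorem E72487 : n128022 = n74483 := (((D74483).symm.trans (sb E69006 (iv1 F206011)))).symm
theorem E72488 : n128021 = n74484 := (((D74484).symm.trans (sb E69006 F206016))).symm
theorem E72489 : n128023 = n74478 := ((((iv2 F111796)).symm.trans (sb E69006 (iv2 F206015)))).symm
theorem E72490 : n145761 = n74485 := (((D74485).symm.trans (sb E69006 (iv5 F228895)))).symm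
theorem E72491 : n74486 = n32931 := ((D74486).symm.trans (sb E69006 (iv7 D71122)))
theorem E72492 : n30600 = n26352 := ((D30600).symm.trans (sb E69007 (iv6 D54492)))
theorem E72493 : n85499 = n74517 := ((((iv4 F111899)).symm.trans (sb E69008 (iv4 F130703)))).symm
theorem E72494 : n74539 = n32916 := ((D74539).symm.trans (sb E69008 (iv6 D71082)))
theorem E72495 : n138753 = n73369 := ((D138753).symm.trans (sb E69009 F200514))
theorem F312317 : act 6 n54488 = n30598 := (sb E69010 (iv6 D65182))
theorem E72501 : n108570 = n27789 := ((((iv0 D58378)).symm.trans (sb E69011 (iv0 F246667)))).symm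
theorem F312318 : act 2 n58378 = n74474 := (sb E69011 (iv2 F221958))
theorem E72502 : n138796 = n124867 := (((D124867).symm.trans (sb E69011 D138796))).symm
theorem F312319 : act 4 n58378 = n30596 := (sb E69011 (iv4 D65173))
theorem E72503 : n138797 = n124868 := (((D124868).symm.trans (sb E69011 D138797))).symm
theorem E72504 : n138798 = n124869 := (((D124869).symm.trans (sb E69011 D138798))).symm
theorem E72505 : n124758 = n74469 := (((iv7 F234086)).symm.trans (sb E69011 (iv7 F221952)))
theorem E72506 : n138805 = n80541 := ((D138805).symm.trans (sb E69012 (iv0 D167822)))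
theorem E72507 : n149418 = n138806 := (((D138806).symm.trans (sb E69012 F264288))).symm
theorem E72508 : n149432 = n138807 := (((D138807).symm.trans (sb E69012 (iv7 F264290)))).symm
theorem F312320 : act 1 n58382 = n74474 := (sb E69013 F246301)
theorem E72509 : n124879 = n108564 := (((iv3 F200560)).symm.trans (sb E69013 (iv3 F246650)))
theorem F312321 : act 0 n58322 = n74474 := (sb E69014 (iv1 F221967))
theorem E72510 : n156997 = n124759 := (((D124759).symm.trans (sb E69014 D156997))).symm
theorem E72511 : n156998 = n124760 := (((D124760).symm.trans (sb E69014 D156998))).symm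
theorem E72513 : n124871 = n108547 := ((D124871).symm.trans (sb E69015 (iv3 F167864)))
theorem F312322 : act 4 n58379 = n30597 := (sb E69015 (iv4 D65178))
theorem E72514 : n138810 = n124873 := (((D124873).symm.trans (sb E69015 D138810))).symm
theorem E72515 : n138811 = n124874 := (((D124874).symm.trans (sb E69015 D138811))).symm
theorem F312323 : act 7 n58379 = n74474 := (sb E69015 (iv7 F221959))
theorem E72516 : n167824 = n12302 := (E69016).trans E69538
theorem E72517 : n138807 = n25927 := (((D25927).symm.trans (sb E72516 (tr (iv1 F264300) E72508)))).symm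
theorem E72518 : n116953 = n25931 := (((D25931).symm.trans (sb E72516 F264299))).symm
theorem E72519 : n80541 = n7014 := (((F20414).symm.trans (sb E72516 (iv7 D167824)))).symm
theorem E72520 : n149432 = n25927 := (E72508).trans E72517
theorem E72521 : n156618 = n14697 := (((D14697).symm.trans (iv2 (sb E69017 (tr F264253 E72519))))).symm
theorem E72522 : n167811 = n14697 := (E69017).trans E72521
theorem E72523 : n150630 = n25956 := ((((iv3 F41018)).symm.trans (sb E72522 F264254))).symm
theorem E72524 : n80536 = n31082 := (((D31082).symm.trans (sb E72522 (iv6 D167811)))).symm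
theorem E72525 : n138805 = n7014 := (E72506).trans E72519
theorem E72526 : n138814 = n131777 := ((D138814).symm.trans (sb E69020 (iv1 F248086)))
theorem E72527 : n138815 = n74908 := ((D138815).symm.trans (sb E69020 (iv0 D157458)))
theorem F312327 : act 1 n173653 = n83321 := (sb E69021 (iv0 D174327))
theorem F312328 : act 0 n38680 = n83321 := (sb E69022 (iv1 F308935))
theorem F312329 : act 1 n38680 = n83938 := (sb E69022 F275262)
theorem F312330 : act 6 n63228 = n82927 := (sb E69029 (iv6 D173286))
theorem F312331 : act 3 n35183 = n61217 := (sb E69031 F209046)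
theorem E72530 : n177025 = n145905 := (((D145905).symm.trans (sb E69035 (iv3 F276445)))).symm
theorem E72531 : n145906 = n70595 := ((D145906).symm.trans (sb E69035 F178798))
theorem F312332 : act 6 n68415 = n52931 := (sb E69035 (iv6 D114679))
theorem F312333 : act 2 n155904 = n149841 := (sb E69036 F274214)
theorem F312334 : act 3 n155904 = n96181 := (sb E69036 F274215)
theorem F312335 : act 4 n155904 = n119129 := (sb E69036 F274216)
theorem F312336 : act 6 n155904 = n83666 := (sb E69036 (iv6 D175177))
theorem E72532 : n156824 = n146794 := ((D156824).symm.trans (sb E69040 (iv1 F230623)))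
theorem E72533 : n156825 = n146793 := ((D156825).symm.trans (sb E69040 F230624))
theorem E72534 : n156792 = n146795 := (((iv2 F246716)).symm.trans (sb E69040 F230618))
theorem F312337 : act 6 n74579 = n146190 := (sb E69040 F230621)
theorem E72535 : n139728 = n68972 := (((iv7 F222904)).symm.trans (sb E69040 (iv7 D147106)))
theorem E72537 : n131528 = n36518 := ((D131528).symm.trans (sb E69042 (iv3 D80178)))
theorem E72538 : n131529 = n75354 := ((D131529).symm.trans (sb E69042 F123133))
theorem E72539 : n161608 = n131530 := (((D131530).symm.trans (sb E69042 (iv5 F304614)))).symm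
theorem E72540 : n167032 = n131531 := (((D131531).symm.trans (sb E69042 D167032))).symm
theorem F312338 : act 0 n133065 = n167036 := (sb E69043 (iv1 F263053))
theorem F312339 : act 1 n133065 = n79031 := (sb E69043 F255134)
theorem F312340 : act 2 n133065 = n77442 := (sb E69043 (iv2 D161313))
theorem F312341 : act 4 n133065 = n167588 := (sb E69043 (iv4 F263841))
theorem E72541 : n167037 = n131533 := ((((iv7 F216677)).symm.trans (sb E69043 (iv7 F263055)))).symm
theorem E72542 : n129333 = n75754 := (((iv1 F212540)).symm.trans (sb E69044 (iv1 F249220)))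
theorem F312342 : act 1 n118628 = n75478 := (sb E69044 F249219)
theorem E72543 : n75717 = n54625 := ((((iv3 D118628)).symm.trans (sb E69044 F249217))).symm
theorem E72544 : n75755 = n63265 := (((F216642).symm.trans (sb E69044 F249218))).symm
theorem F312343 : act 3 n34640 = n62435 := (sb E69046 (iv3 D133060))
theorem F312344 : act 4 n34643 = n62435 := (sb E69047 (iv4 D133061))
theorem E72545 : n129309 = n75756 := (((D75756).symm.trans (sb E69047 F213715))).symm
theorem F312345 : act 3 n133062 = n75744 := (sb E69048 F249959)
theorem E72546 : n152597 = n131535 := ((F239790).symm.trans (sb E69049 F216684))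
theorem F312346 : act 6 n80224 = n62435 := (sb E69049 (iv6 D133063))
theorem F312347 : act 0 n157631 = n86492 := (sb E69050 (iv1 D181106))
theorem F312348 : act 2 n157631 = n161842 := (sb E69050 (iv2 F282070))
theorem F312349 : act 3 n157631 = n151776 := (sb E69050 (iv3 F282071))
theorem F312350 : act 7 n157631 = n151769 := (sb E69050 F282069)
theorem F312351 : act 4 n77725 = n75059 := (sb E69051 (iv4 D157632))
theorem E72547 : n66474 = n32225 := ((D66474).symm.trans (sb E69052 (tr (iv5 D160249) E69070)))
theorem F312352 : act 3 n71554 = n34344 := (sb E69054 (iv3 D74951))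
theorem F312353 : act 0 n61571 = n86795 := (sb E69055 F305372)
theorem F312354 : act 4 n58395 = n74411 := (sb E69057 F167284)
theorem E72549 : n156504 = n124930 := (((D124930).symm.trans (sb E69058 F247476))).symm
theorem E72550 : n179007 = n64998 := (((iv1 F278922)).symm.trans (sb E69059 (iv1 F221598)))
theorem E72551 : n179006 = n64993 := ((F278921).symm.trans (sb E69059 (iv0 D138359)))
theorem E72552 : n156503 = n124935 := (((F232993).symm.trans (sb E69059 F246067))).symm
theorem F312355 : act 3 n58402 = n62688 := (sb E69060 (iv3 D133578))
theorem F312356 : act 6 n54703 = n62688 := (sb E69061 (iv6 D133580))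
theorem E72553 : n139771 = n118723 := ((((iv7 F187224)).symm.trans (sb E69061 (iv7 F222948)))).symm
theorem F312357 : act 5 n139765 = n86745 := (sb E69064 (iv5 D181716))
theorem F312358 : act 5 n79752 = n65613 := (sb E69066 (iv5 D139770))
theorem E72554 : n144814 = n69790 := (((D69790).symm.trans (sb E69068 F244293))).symm
theorem E72556 : n149539 = n68688 := (((F232495).symm.trans (sb E69069 D149539))).symm
theorem F312359 : act 6 n67865 = n32596 := (sb E69069 (iv6 D70227))
theorem E72557 : n149541 = n55203 := (((F103919).symm.trans (sb E69069 D149541))).symm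
theorem E72558 : n114393 = n69311 := ((((iv1 F105585)).symm.trans (sb E69070 (iv1 F290333)))).symm
theorem F312360 : act 6 n32225 = n35099 := (sb E69070 (iv6 D76788))
theorem E72561 : n160046 = n159616 := (((D159616).symm.trans (sb E69071 F252549))).symm
theorem E72562 : n131429 = n77434 := ((D131429).symm.trans (sb E69072 (iv3 D161289)))
theorem E72563 : n131504 = n79036 := ((D131504).symm.trans (sb E69073 (iv1 F120226)))
theorem E72564 : n131505 = n33248 := ((D131505).symm.trans (sb E69073 (iv0 D71962)))
theorem E72565 : n131506 = n79033 := ((D131506).symm.trans (sb E69073 F233819))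
theorem F312361 : act 4 n61715 = n69854 := (sb E69073 (iv4 F155748))
theorem E72566 : n152583 = n131508 := (((D131508).symm.trans (sb E69073 D152583))).symm
theorem E72567 : n152584 = n131509 := (((D131509).symm.trans (sb E69073 D152584))).symm
theorem F312362 : act 7 n61715 = n79034 := (sb E69073 F233817)
theorem E72570 : n152019 = n120432 := (((F191873).symm.trans (sb E69076 D152019))).symm
theorem E72571 : n120444 = n33138 := ((D120444).symm.trans (sb E69076 (iv3 D71671)))
theorem E72572 : n152021 = n98099 := ((((iv5 F304537)).symm.trans (sb E69076 D152021))).symm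
theorem E72573 : n59865 = n23011 := (((D23011).symm.trans (sb E69077 (iv6 D127463)))).symm
theorem E72574 : n84409 = n31559 := ((D84409).symm.trans (sb E69078 (iv1 D67889)))
theorem E72575 : n144838 = n84410 := (((D84410).symm.trans (sb E69078 F227761))).symm
theorem E72576 : n144847 = n84408 := ((((iv3 F129554)).symm.trans (sb E69078 D144847))).symm
theorem E72577 : n144848 = n21616 := (((F59965).symm.trans (sb E69078 D144848))).symm
theorem E72578 : n84412 = n60332 := ((D84412).symm.trans (sb E69078 F185358))
theorem F312363 : act 2 n70840 = n139200 := (sb E69080 (iv2 F222398))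
theorem F312364 : act 4 n70840 = n74897 := (sb E69080 F166562)
theorem F312365 : act 0 n45210 = n69877 := (sb E69081 F206401)
theorem E72579 : n120157 = n37883 := (((F71253).symm.trans (sb E69081 F206404))).symm
theorem E72580 : n120227 = n120159 := ((F191428).symm.trans (sb E69082 F217796))
theorem E72581 : n172279 = n120156 := ((D172279).symm.trans (sb E69082 F217797))
theorem F312366 : act 4 n83219 = n78291 := (sb E69083 (iv4 D162860))
theorem F312367 : act 7 n83219 = n123185 := (sb E69083 F257155)
theorem E72582 : n166665 = n86497 := (((iv3 F262294)).symm.trans (sb E69090 (iv3 D181121)))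
theorem F312368 : act 6 n72583 = n96685 := (sb E69091 F178827)
theorem E72583 : n153611 = n96687 := (((D96687).symm.trans (sb E69093 F241469))).symm
theorem E72584 : n119860 = n96688 := (((D96688).symm.trans (sb E69093 (iv0 F231548)))).symm
theorem F312369 : act 2 n45166 = n33709 := (sb E69093 F109704)
theorem E72585 : n154532 = n21670 := (((F71180).symm.trans (sb E69093 D154532))).symm
theorem F312370 : act 5 n45166 = n33707 := (sb E69093 (iv5 D73239))
theorem E72586 : n153204 = n96690 := (((D96690).symm.trans (sb E69093 (iv7 F240541)))).symm
theorem E72587 : n130481 = n75686 := ((D130481).symm.trans (sb E72087 (iv2 D158672)))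
theorem F312371 : act 4 n61215 = n100774 := (sb E72087 F249826)
theorem E72588 : n162700 = n75251 := (((iv3 F256937)).symm.trans (sb E69096 (iv3 D157991)))
theorem F312372 : act 4 n78162 = n81978 := (sb E69096 F248876)
theorem E72589 : n162713 = n78196 := ((D162713).symm.trans (sb E69097 (iv1 D162720)))
theorem E72590 : n162714 = n128158 := ((D162714).symm.trans (sb E69097 F256951))
theorem E72591 : n162715 = n149939 := ((D162715).symm.trans (sb E69097 (iv2 F256953)))
theorem F312373 : act 5 n78191 = n98195 := (sb E69097 (iv5 F300772))
theorem E72592 : n149940 = n83090 := (((F128086).symm.trans (sb E69097 F256952))).symm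
theorem F312374 : act 3 n148849 = n83091 := (sb E69098 F272334)
theorem F312375 : act 1 n75695 = n87896 := (sb E69099 (iv0 D184278))
theorem E72593 : n133137 = n34607 := ((((iv4 D75695)).symm.trans (sb E69099 (tr F286229 E72083)))).symm
theorem F312376 : act 0 n173810 = n87896 := (sb E69100 (iv1 D184279))
theorem E72594 : n157995 = n132771 := (((iv4 F300811)).symm.trans (sb E69100 (tr (iv4 F286237) E72084)))
theorem F312377 : act 3 n173857 = n87898 := (sb E69101 F286233)
theorem F312378 : act 5 n173857 = n87896 := (sb E69101 (iv5 D184281))
theorem E72595 : n173764 = n129738 := ((D173764).symm.trans (sb E69102 (iv1 F207931)))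
theorem F312379 : act 2 n83099 = n60758 := (sb E69102 F207466)
theorem E72597 : n129745 = n128163 := ((((iv3 F206300)).symm.trans (sb E69102 (iv3 F207962)))).symm
theorem E72598 : n173766 = n60756 := ((D173766).symm.trans (sb E69102 (iv5 D129255)))
theorem E72599 : n173767 = n63228 := ((D173767).symm.trans (sb E69102 (iv7 F216479)))
theorem F312380 : act 3 n83624 = n61536 := (sb E69103 F207472)
theorem F312381 : act 4 n83624 = n60758 := (sb E69103 (iv4 D129263))
theorem E72600 : n175093 = n120136 := ((D175093).symm.trans (sb E69103 F207473))
theorem E72603 : n173278 = n173270 := ((D173278).symm.trans (sb E69104 (iv2 F271640)))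
theorem E72604 : n119511 = n119437 := (((iv4 F304139)).symm.trans (sb E69104 (iv4 F188200)))
theorem F312382 : act 6 n82926 = n38250 := (sb E69104 (iv6 D83098))
theorem F312383 : act 1 n69287 = n81433 := (sb E69105 (iv0 D169804))
theorem E72607 : n170104 = n147094 := ((((iv2 F241127)).symm.trans (sb E69106 (iv2 F267597)))).symm
theorem F312384 : act 6 n69279 = n81433 := (sb E69106 F267221)
theorem E72608 : n154468 = n146532 := ((((iv1 F308172)).symm.trans (sb E69107 (iv1 F307916)))).symm
theorem E72609 : n154838 = n106035 := ((D154838).symm.trans (sb E69107 (iv2 F307921)))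
theorem E72610 : n154839 = n83685 := ((D154839).symm.trans (sb E69107 F274254))
theorem E72611 : n154840 = n83798 := ((D154840).symm.trans (sb E69107 F274255))
theorem E72612 : n154842 = n99611 := ((D154842).symm.trans (sb E69107 F274256))
theorem E72613 : n154843 = n83681 := ((D154843).symm.trans (sb E69107 (iv7 D175211)))
theorem F312385 : act 0 n73170 = n33773 := (sb E69108 (iv1 D73432))
theorem E72618 : n154834 = n57884 := ((D154834).symm.trans (sb E69109 (iv1 D124176)))
theorem E72619 : n154835 = n69906 := ((D154835).symm.trans (sb E69109 F302889))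
theorem E72620 : n155087 = n155060 := ((((iv1 F243842)).symm.trans (sb E69110 F303526))).symm
theorem E72621 : n155059 = n38817 := ((F243847).symm.trans (sb E69110 (iv0 D84183)))
theorem E72623 : n155097 = n152601 := (((iv4 F243924)).symm.trans (sb E69110 (iv4 F305635)))
theorem F312386 : act 6 n73624 = n176569 := (sb E69110 D176569)
theorem E72626 : n173773 = n53823 := (((D53823).symm.trans (sb E69112 (iv4 F276671)))).symm
theorem E72627 : n155209 = n67369 := (((D67369).symm.trans (sb E69113 F276672))).symm
theorem F312387 : act 0 n124691 = n87898 := (sb E69117 (iv1 F286223))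
theorem F312388 : act 1 n124691 = n87893 := (sb E69117 (iv0 D184269))
theorem F312389 : act 2 n119280 = n72291 := (sb E69120 (iv2 D153172))
theorem F312390 : act 3 n119280 = n72756 := (sb E69120 F243342)
theorem F312391 : act 0 n153797 = n167691 := (sb E69121 (iv1 F300156))
theorem F312392 : act 1 n153797 = n167648 := (sb E69121 (iv0 F299120))
theorem F312393 : act 2 n153797 = n167687 := (sb E69121 (iv2 F299633))
theorem F312394 : act 7 n153797 = n167688 := (sb E69121 (iv7 F300153))
theorem F312395 : act 2 n153799 = n170100 := (sb E69122 (iv2 F267588))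
theorem F312396 : act 5 n153799 = n81434 := (sb E69122 (iv5 D169808))
theorem F312397 : act 0 n153170 = n167648 := (sb E69123 (iv1 F299121))
theorem F312398 : act 1 n153170 = n167691 := (sb E69123 (iv0 F300155))
theorem F312399 : act 2 n153170 = n167688 := (sb E69123 (iv2 F300152))
theorem F312400 : act 7 n153170 = n167687 := (sb E69123 (iv7 F299635))
theorem F312401 : act 1 n61684 = n36567 := (sb E69125 (iv0 D80262))
theorem E72628 : n167187 = n131424 := (((D131424).symm.trans (sb E69125 D167187))).symm
theorem E72629 : n167188 = n131425 := (((D131425).symm.trans (sb E69125 D167188))).symm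
theorem F312402 : act 0 n32462 = n36567 := (sb E69126 (iv1 D80263))
theorem E72630 : n167190 = n69904 := (((D69904).symm.trans (sb E69126 D167190))).symm
theorem E72634 : n131460 = n36572 := (((D36572).symm.trans (sb E69127 F234335))).symm
theorem E72635 : n167194 = n131351 := ((D167194).symm.trans (sb E69128 F234339))
theorem E72636 : n167195 = n131386 := ((D167195).symm.trans (sb E69128 F234340))
theorem F312403 : act 2 n80264 = n131384 := (sb E69128 F234336)
theorem E72637 : n167196 = n131383 := ((D167196).symm.trans (sb E69128 F234338))
theorem E72638 : n167197 = n131383 := ((D167197).symm.trans (sb E69128 F234337))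
theorem F312404 : act 6 n61699 = n121991 := (sb E69129 (iv6 F194824))
theorem F312405 : act 7 n61699 = n36567 := (sb E69129 (iv7 D80265))
theorem E72639 : n83507 = n61719 := (((D61719).symm.trans (sb E69130 (iv3 D174792)))).symm
theorem E72640 : n175190 = n61720 := (((D61720).symm.trans (sb E69130 F305484))).symm
theorem E72643 : n127454 = n44514 := (((iv4 F241141)).symm.trans (sb E69139 F125486))
theorem F312406 : act 6 n68968 = n37273 := (sb E69139 (iv6 D81583))
theorem E72644 : n170105 = n68982 := (((F241126).symm.trans (sb E69139 D170105))).symm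
theorem E72645 : n68490 = n22982 := (((D22982).symm.trans (sb E69140 (iv6 D146069)))).symm
theorem E72646 : n150681 = n44723 := (((D44723).symm.trans (sb E69141 F237227))).symm
theorem E72647 : n154545 = n44724 := (((D44724).symm.trans (sb E69141 D154545))).symm
theorem F312407 : act 4 n21301 = n33709 := (sb E69141 (iv4 D73247))
theorem E72648 : n154547 = n44725 := (((D44725).symm.trans (sb E69141 D154547))).symm
theorem E72649 : n153892 = n44726 := (((D44726).symm.trans (sb E69141 (iv7 F241842)))).symm
theorem F312408 : act 6 n72811 = n96726 := (sb E69144 (iv6 F149139))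
theorem F312409 : act 0 n81578 = n74887 := (sb E69146 (iv1 D157436))
theorem E72660 : n170090 = n81579 := ((D170090).symm.trans (sb E69146 (tr (iv5 F247976) E69147)))
theorem F312410 : act 1 n81579 = n74887 := (sb E69147 (iv0 D157435))
theorem F312411 : act 5 n74877 = n37271 := (sb E69148 (iv5 D81580))
theorem E72664 : n170089 = n157424 := (((D157424).symm.trans (sb E69148 (iv6 F267585)))).symm
theorem F312412 : act 0 n75961 = n153275 := (sb E69149 (iv1 F247982))
theorem F312413 : act 1 n75961 = n153274 := (sb E69149 F247980)
theorem F312414 : act 2 n75961 = n74887 := (sb E69149 (iv2 D157437))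
theorem E72669 : n170119 = n157427 := (((D157427).symm.trans (sb E69151 D170119))).symm
theorem E72671 : n44753 = n13569 := ((D44753).symm.trans (sb E69154 (iv1 D28460)))
theorem E72672 : n59844 = n44754 := (((D44754).symm.trans (sb E69154 (iv0 F94279)))).symm
theorem F312415 : act 4 n21317 = n32139 := (sb E69154 (iv4 F51091))
theorem E72673 : n50530 = n44755 := (((D44755).symm.trans (sb E69154 F79906))).symm
theorem E72674 : n44756 = n32151 := ((D44756).symm.trans (sb E69154 (iv7 F51114)))
theorem F312416 : act 1 n69111 = n37196 := (sb E69159 (iv0 D81445))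
theorem F312417 : act 0 n69110 = n37196 := (sb E69160 (iv1 D81446))
theorem E72696 : n169845 = n127547 := ((((iv4 F243185)).symm.trans (sb E69160 D169845))).symm
theorem E72700 : n68038 = n44760 := (((D44760).symm.trans (sb E69161 F242961))).symm
theorem E72701 : n59917 = n44762 := (((D44762).symm.trans (sb E69161 (iv7 D127601)))).symm
theorem E72702 : n146312 = n119201 := (((iv3 F229641)).symm.trans (sb E69162 (iv3 F187576)))
theorem F312418 : act 7 n69108 = n37196 := (sb E69162 (iv7 D81448))
theorem E72703 : n160168 = n67857 := ((D160168).symm.trans (sb E69163 (iv1 D144793)))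
theorem E72704 : n160169 = n67864 := ((D160169).symm.trans (sb E69163 F227679))
theorem F312419 : act 2 n76725 = n67863 := (sb E69163 (iv2 F227682))
theorem E72705 : n160166 = n146513 := (((iv3 F252818)).symm.trans (sb E69163 (iv3 F232868)))
theorem E72706 : n160170 = n133680 := ((D160170).symm.trans (sb E69163 (iv5 F227681)))
theorem E72707 : n160171 = n67862 := ((D160171).symm.trans (sb E69163 F227680))
theorem E72708 : n124315 = n61391 := ((D124315).symm.trans (sb E69164 (iv6 D130853)))
theorem F312420 : act 6 n29062 = n46557 := (sb E69165 (iv6 D99604))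
theorem E72709 : n167910 = n143522 := (((D143522).symm.trans (sb E69167 (iv7 F264567)))).symm
theorem E72710 : n116811 = n38954 := ((D116811).symm.trans (sb E69168 F310125))
theorem E72711 : n116812 = n62466 := ((D116812).symm.trans (sb E69168 (iv4 F209006)))
theorem E72712 : n116813 = n69377 := ((D116813).symm.trans (sb E69168 F108740))
theorem E72713 : n143847 = n79422 := ((D143847).symm.trans (sb E69169 (iv6 D165319)))
theorem E72714 : n130182 = n66318 := ((F208941).symm.trans (sb E69170 F103239))
theorem F312421 : act 4 n61212 = n31319 := (sb E69170 (iv4 D67370))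
theorem E72716 : n67366 = n28981 := ((((iv5 D61212)).symm.trans (sb E69170 F103238))).symm
theorem E72718 : n30818 = n26480 := ((((iv0 D54761)).symm.trans (sb E69171 (iv0 D65856)))).symm
theorem E72719 : n140316 = n118999 := (((D118999).symm.trans (sb E69171 D140316))).symm
theorem E72720 : n71223 = n31502 := (((iv4 F208985)).symm.trans (sb E69171 F101503))
theorem F312422 : act 5 n54761 = n31319 := (sb E69171 F101502)
theorem F312423 : act 6 n36161 = n31319 := (sb E69172 (iv6 D67371))
theorem E72725 : n61552 = n54276 := ((((iv6 F85630)).symm.trans (sb E69174 (iv6 D131202)))).symm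
theorem E72726 : n54275 = n29665 := ((D54275).symm.trans (sb E69176 F47669))
theorem F312424 : act 0 n116814 = n155210 := (sb E69177 (iv1 F244092))
theorem F312425 : act 1 n116814 = n70466 := (sb E69177 F197960)
theorem F312426 : act 2 n116814 = n57572 := (sb E69177 F197939)
theorem F312427 : act 4 n116814 = n57569 := (sb E69177 F197940)
theorem F312428 : act 6 n116814 = n57567 := (sb E69177 (iv6 D123520))
theorem F312429 : act 4 n62471 = n53822 := (sb E69178 (iv4 D116815))
theorem E72728 : n53446 = n16105 := ((((iv1 D33358)).symm.trans (sb E69179 (iv1 F100830)))).symm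
theorem E72729 : n65031 = n54745 := (((F86584).symm.trans (sb E69179 (iv0 F100829)))).symm
theorem E72730 : n71226 = n28357 := (((iv4 F208996)).symm.trans (sb E69179 (iv4 D59802)))
theorem F312430 : act 5 n33358 = n53822 := (sb E69179 F94144)
theorem E72731 : n72294 = n50585 := ((D72294).symm.trans (sb E69179 F94143))
theorem F312431 : act 6 n61393 = n53822 := (sb E69180 (iv6 D116816))
theorem F312432 : act 1 n133680 = n79422 := (sb E69181 (iv0 D165314))
theorem F312433 : act 0 n87545 = n79422 := (sb E69182 (iv1 D165315))
theorem F312434 : act 0 n165316 = n117968 := (sb E69183 (iv1 F304546))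
theorem F312435 : act 1 n165316 = n86515 := (sb E69183 (iv0 F281518))
theorem F312436 : act 3 n165316 = n86368 := (sb E69183 (iv3 D180829))
theorem F312437 : act 4 n165316 = n122298 := (sb E69183 F281515)
theorem F312438 : act 6 n165316 = n123531 := (sb E69183 (iv6 F300031))
theorem F312439 : act 7 n165316 = n86713 := (sb E69183 F281517)
theorem F312440 : act 0 n57730 = n29130 := (sb E69184 (iv1 D61530))
theorem E72732 : n123910 = n62740 := ((D123910).symm.trans (sb E69184 F97991))
theorem E72733 : n123912 = n62796 := ((D123912).symm.trans (sb E69184 (iv4 F97990)))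
theorem E72734 : n123983 = n123913 := (((D123913).symm.trans (sb E69184 (tr D131158 E71944)))).symm
theorem E72735 : n124026 = n123914 := (((D123914).symm.trans (sb E69184 (iv6 F306509)))).symm
theorem E72736 : n123915 = n62741 := ((D123915).symm.trans (sb E69184 F97992))
theorem E72737 : n123517 = n29130 := ((D123517).symm.trans (sb E71968 (iv0 D61529)))
theorem F312441 : act 2 n57566 = n62741 := (sb E71968 (iv2 F97994))
theorem E72738 : n131154 = n123513 := ((((iv3 F197933)).symm.trans (sb E71968 D131154))).symm
theorem E72739 : n123984 = n123518 := (((D123518).symm.trans (sb E71968 (tr D131155 E71945)))).symm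
theorem E72740 : n123519 = n62740 := ((D123519).symm.trans (sb E71968 (iv7 F97995)))
theorem E72741 : n127859 = n123927 := (((D123927).symm.trans (sb E69187 F215078))).symm
theorem E72742 : n130867 = n123928 := (((D123928).symm.trans (sb E69187 F215079))).symm
theorem F312442 : act 2 n57734 = n62742 := (sb E69187 F215075)
theorem E72743 : n131119 = n123929 := (((D123929).symm.trans (sb E69187 F215076))).symm
theorem F312443 : act 4 n61571 = n123171 := (sb E69191 F282669)
theorem F312444 : act 3 n71658 = n57660 := (sb E69197 (iv3 D123685))
theorem F312445 : act 1 n71660 = n86795 := (sb E69198 F282904)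
theorem F312446 : act 5 n40233 = n33134 := (sb E69199 (iv5 F310186))
theorem F312447 : act 3 n131410 = n86795 := (sb E69202 F282924)
theorem F312448 : act 5 n131410 = n86794 := (sb E69202 (iv5 D181749))
theorem F312449 : act 6 n71648 = n86795 := (sb E69203 (iv6 D181752))
theorem F312450 : act 1 n157372 = n86796 := (sb E69204 (iv0 D181753))
theorem F312451 : act 0 n120256 = n86796 := (sb E69205 (iv1 D181754))
theorem F312452 : act 1 n131369 = n81773 := (sb E69206 (iv0 D170597))
theorem F312453 : act 3 n131369 = n86796 := (sb E69206 F305045)
theorem F312454 : act 6 n131369 = n86794 := (sb E69206 F305046)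
theorem F312455 : act 5 n76664 = n86796 := (sb E69207 (iv5 D181755))
theorem F312456 : act 4 n76663 = n70491 := (sb E69208 (iv4 D149919))
theorem F312457 : act 7 n76663 = n86796 := (sb E69208 F235809)
theorem F312458 : act 3 n39712 = n62819 := (sb E69209 (iv3 D133773))
theorem F312459 : act 0 n62232 = n79053 := (sb E69211 (iv1 F188590))
theorem F312460 : act 1 n62232 = n55025 := (sb E69211 (iv0 D119590))
theorem E72744 : n132634 = n73246 := ((D132634).symm.trans (sb E69211 (iv3 F240547)))
theorem F312461 : act 2 n119591 = n132636 := (sb E69212 (iv2 F212906))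
theorem F312462 : act 4 n119591 = n60955 := (sb E69212 F208140)
theorem E72745 : n119198 = n67707 := ((F188593).symm.trans (sb E69212 F208141))
theorem F312463 : act 7 n119591 = n60954 := (sb E69212 (iv7 D129790))
theorem E72747 : n128411 = n61081 := (((F97204).symm.trans (sb E69213 (iv0 F206536)))).symm
theorem F312464 : act 4 n62334 = n55025 := (sb E69213 (iv4 D119592))
theorem E72748 : n146161 = n132823 := (((D132823).symm.trans (sb E69213 F229422))).symm
theorem F312465 : act 0 n119300 = n132636 := (sb E69214 (iv1 F212910))
theorem F312466 : act 1 n119300 = n60954 := (sb E69214 (iv0 D129786))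
theorem F312467 : act 4 n119300 = n61078 := (sb E69214 F208133)
theorem F312468 : act 0 n116231 = n119624 := (sb E69215 (iv1 F247905))
theorem F312469 : act 1 n116231 = n119623 := (sb E69215 F247906)
theorem F312470 : act 2 n116231 = n119625 := (sb E69215 F247901)
theorem F312471 : act 5 n116231 = n74860 := (sb E69215 F247903)
theorem F312472 : act 7 n116231 = n74859 := (sb E69215 (iv7 D157413))
theorem F312473 : act 1 n31313 = n32978 := (sb E69216 (iv0 D71254))
theorem E72749 : n120016 = n67354 := ((((iv3 F103220)).symm.trans (sb E69216 (iv3 F247636)))).symm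
theorem E72750 : n65205 = n32976 := ((((iv6 D71251)).symm.trans (sb E69219 (iv6 D138880)))).symm
theorem F312474 : act 7 n71251 = n66475 := (sb E69219 F222031)
theorem F312475 : act 4 n30609 = n32978 := (sb E69220 F107755)
theorem E72753 : n32977 = n14514 := ((((iv6 D30609)).symm.trans (sb E69220 (iv6 D71253)))).symm
theorem E72754 : n34209 = n7454 := ((((iv1 F25349)).symm.trans (sb E69221 (iv1 F53845)))).symm
theorem F312476 : act 5 n74786 = n74865 := (sb E69223 (iv5 F187043))
theorem E72757 : n108189 = n54740 := (((iv6 F167291)).symm.trans (sb E69223 (iv6 D118947)))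
theorem E72758 : n54483 = n24364 := ((((iv6 F38187)).symm.trans (sb E69224 (iv6 D118302)))).symm
theorem F312477 : act 6 n26471 = n34267 := (sb E69225 F79030)
theorem E72760 : n170551 = n148603 := (((D148603).symm.trans (sb E69227 D170551))).symm
theorem E72761 : n148604 = n101278 := ((D148604).symm.trans (sb E69227 F300079))
theorem E72762 : n170549 = n148593 := ((((iv4 F233348)).symm.trans (sb E69227 (iv4 F267979)))).symm
theorem F312478 : act 5 n69645 = n40148 := (sb E69227 F300080)
theorem E72763 : n148606 = n37360 := ((D148606).symm.trans (sb E69227 (iv6 D81750)))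
theorem E72764 : n76795 = n68065 := ((((iv1 F214298)).symm.trans (sb E69228 (iv1 F307257)))).symm
theorem E72765 : n140948 = n79770 := ((F223976).symm.trans (sb E69228 (iv0 F307258)))
theorem E72767 : n139911 = n32857 := ((F223127).symm.trans (sb E69228 F107469))
theorem E72768 : n133318 = n32856 := (((iv7 F214295)).symm.trans (sb E69228 (iv7 D70923)))
theorem F312479 : act 5 n69756 = n76738 := (sb E69229 (iv5 D160188))
theorem F312480 : act 5 n33873 = n58469 := (sb E69230 F191447)
theorem F312481 : act 6 n33873 = n61510 := (sb E69230 F191448)
theorem F312482 : act 0 n121750 = n155883 := (sb E69231 (iv1 F244865))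
theorem F312483 : act 1 n121750 = n155885 := (sb E69231 (iv0 F244873))
theorem F312484 : act 4 n121750 = n68768 := (sb E69231 F230030)
theorem F312485 : act 5 n121750 = n148609 := (sb E69231 (iv5 F233370))
theorem E72769 : n68767 = n56259 := ((((iv6 D121750)).symm.trans (sb E69231 (iv6 D146695)))).symm
theorem F312486 : act 1 n119175 = n72429 := (sb E69233 (iv0 D153302))
theorem F312487 : act 1 n153303 = n133594 := (sb E69234 F248257)
theorem F312488 : act 4 n153303 = n131491 := (sb E69234 (iv4 F248259))
theorem F312489 : act 7 n153303 = n131488 := (sb E69234 F248258)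
theorem E72770 : n119864 = n70242 := ((D119864).symm.trans (sb E69237 F197937))
theorem F312490 : act 6 n55164 = n57565 := (sb E69237 (iv6 D123515))
theorem E72771 : n70139 = n31970 := ((((iv1 F104846)).symm.trans (sb E69242 F234850))).symm
theorem E72773 : n183734 = n117415 := ((((iv3 F247775)).symm.trans (sb E69242 (iv3 F285501)))).symm
theorem E72774 : n146410 = n53005 := ((D146410).symm.trans (sb E69242 F178833))
theorem F312491 : act 6 n68646 = n52950 := (sb E69242 (iv6 D114728))
theorem E72776 : n148882 = n119950 := ((D148882).symm.trans (sb E69243 (iv1 F189370)))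
theorem E72777 : n148883 = n119949 := ((D148883).symm.trans (sb E69243 F189369))
theorem F312492 : act 4 n69788 = n33890 := (sb E69243 (iv4 D73768))
theorem E72780 : n148884 = n119923 := ((D148884).symm.trans (sb E69243 (iv7 F189339)))
theorem E72783 : n142932 = n33790 := (((iv3 F225790)).symm.trans (sb E69244 (iv3 D73503)))
theorem E72784 : n146688 = n41648 := ((D146688).symm.trans (sb E69244 F307581))
theorem F312493 : act 6 n68756 = n35050 := (sb E69244 F110178)
theorem E72785 : n154962 = n117287 := ((((iv7 F183545)).symm.trans (sb E69244 D154962))).symm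
theorem E72800 : n169800 = n47817 := (E69249).trans E69967
theorem E72801 : n103160 = n68982 := ((D103160).symm.trans (sb E72800 (tr (iv1 F267604) E72644)))
theorem E72802 : n127457 = n95587 := (((D95587).symm.trans (sb E69251 F243210))).symm
theorem E72803 : n127422 = n95588 := (((D95588).symm.trans (sb E69251 F243244))).symm
theorem F312494 : act 4 n44645 = n68981 := (sb E69251 (iv4 D147128))
theorem E72804 : n127455 = n95590 := (((D95590).symm.trans (sb E69251 (iv7 F241138)))).symm
theorem E72805 : n170101 = n146728 := (((D146728).symm.trans (sb E69252 (iv6 F267592)))).symm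
theorem F312495 : act 6 n54142 = n57105 := (sb E69253 (iv6 D122831))
theorem F312496 : act 2 n158980 = n122992 := (sb E69254 F252168)
theorem F312497 : act 3 n158980 = n76552 := (sb E69254 F252169)
theorem F312498 : act 6 n158980 = n76551 := (sb E69254 (iv6 D159905))
theorem E72806 : n153979 = n117557 := (((D117557).symm.trans (sb E69255 D153979))).symm
theorem E72807 : n153980 = n117558 := (((D117558).symm.trans (sb E69255 D153980))).symm
theorem E72808 : n117559 = n72430 := ((D117559).symm.trans (sb E69255 F109362))
theorem E72809 : n153981 = n117560 := (((D117560).symm.trans (sb E69255 D153981))).symm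
theorem F312499 : act 6 n54163 = n33602 := (sb E69255 (iv6 D72867))
theorem E72810 : n153982 = n117490 := ((((iv7 F184026)).symm.trans (sb E69255 D153982))).symm
theorem F312500 : act 0 n128103 = n146759 := (sb E69256 (iv1 F248499))
theorem F312501 : act 1 n128103 = n146758 := (sb E69256 F248497)
theorem F312502 : act 2 n128103 = n75132 := (sb E69256 (iv2 D157693))
theorem E72811 : n147604 = n128103 := (((iv3 F231391)).symm.trans (iv3 (sb E69256 (tr F248493 E72000))))
theorem F312503 : act 5 n128103 = n146748 := (sb E69256 F248495)
theorem F312504 : act 7 n128103 = n146757 := (sb E69256 F248496)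
theorem E72812 : n68566 = n62332 := ((F229500).symm.trans (sb E69257 (iv0 D132818)))
theorem F312505 : act 5 n68809 = n98769 := (sb E69257 (iv5 F306586))
theorem E72813 : n146745 = n84851 := (((iv7 F230088)).symm.trans (sb E69257 (tr F213765 E71772)))
theorem F312506 : act 4 n61217 = n31320 := (sb E69258 (iv4 D67373))
theorem E72815 : n67357 = n28982 := ((((iv5 D61217)).symm.trans (sb E69258 F103240))).symm
theorem E72817 : n139718 = n95241 := ((((iv3 F308514)).symm.trans (sb E69259 (iv3 F222891)))).symm
theorem E72818 : n71224 = n31427 := (((iv4 F208989)).symm.trans (sb E69259 F101295))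
theorem F312507 : act 5 n54762 = n31320 := (sb E69259 F101297)
theorem E72819 : n114662 = n68713 := ((D114662).symm.trans (sb E69260 (iv6 D146624)))
theorem E72820 : n84843 = n69081 := (((iv1 F132185)).symm.trans (sb E71394 (iv1 D147348)))
theorem E72821 : n84879 = n69188 := ((F132186).symm.trans (sb E71394 F231050))
theorem F312508 : act 2 n86230 = n69186 := (sb E71394 (iv2 F231053))
theorem E72822 : n112332 = n39906 := (((F132184).symm.trans (sb E71394 F231052))).symm
theorem E72823 : n69187 = n39905 := ((((iv7 D86230)).symm.trans (sb E71394 F231051))).symm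
theorem E72824 : n126078 = n39269 := (E69262).trans E71398
theorem E72825 : n59073 = n27917 := (((F60233).symm.trans (sb E72824 (iv5 D126078)))).symm
theorem F312509 : act 7 n39269 = n69186 := (sb E72824 F202780)
theorem E72826 : n112360 = n75129 := ((((iv1 F112638)).symm.trans (sb E69263 F231405))).symm
theorem F312510 : act 2 n69736 = n69189 := (sb E69263 F231404)
theorem F312511 : act 4 n69736 = n69188 := (sb E69263 (iv4 D147634))
theorem F312512 : act 1 n68808 = n69186 := (sb E69264 F175279)
theorem F312513 : act 2 n68808 = n69081 := (sb E69264 F175275)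
theorem E72827 : n146760 = n69175 := (((iv3 F230108)).symm.trans (sb E69264 F175276))
theorem E72828 : n146743 = n51976 := (((iv5 F230082)).symm.trans (sb E69264 (iv5 D112632)))
theorem F312514 : act 7 n68808 = n69188 := (sb E69264 F175277)
theorem F312515 : act 1 n69735 = n69189 := (sb E69265 (iv0 D147636))
theorem E72829 : n116921 = n112349 := ((F184306).symm.trans (sb E69265 F231407))
theorem E72830 : n110419 = n58415 := ((((iv5 F106120)).symm.trans (sb E69265 F231408))).symm
theorem F312516 : act 0 n68782 = n69189 := (sb E69266 F170227)
theorem E72831 : n116920 = n50773 := ((F229401).symm.trans (sb E69266 (iv4 D110092)))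
theorem E72832 : n117528 = n68630 := (((F162444).symm.trans (sb E69267 (iv1 F248460)))).symm
theorem E72833 : n117527 = n68718 := (((F162445).symm.trans (sb E69267 F248461))).symm
theorem E72834 : n117530 = n48914 := (((F162441).symm.trans (sb E69267 F248456))).symm
theorem F312517 : act 5 n105774 = n120040 := (sb E69267 F248458)
theorem F312518 : act 6 n105774 = n97231 := (sb E69267 (iv6 F306217))
theorem E72835 : n75125 = n48911 := (((F162443).symm.trans (sb E69267 (iv7 D157682)))).symm
theorem E72836 : n110538 = n86190 := (((E71348).symm.trans (((iv4 F189602)).symm.trans (sb E69268 F231410)))).symm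
theorem F312519 : act 5 n55242 = n69189 := (sb E69268 (iv5 D147637))
theorem F312520 : act 4 n34405 = n69081 := (sb E69269 F162475)
theorem F312521 : act 7 n34405 = n69189 := (sb E69269 F162476)
theorem F312522 : act 4 n75142 = n69186 := (sb E69270 (iv4 D147629))
theorem E72838 : n117297 = n110678 := (((D110678).symm.trans (sb E69274 F248473))).symm
theorem F312523 : act 6 n34404 = n69081 := (sb E69275 (iv6 D147349))
theorem E72839 : n143596 = n12849 := ((((iv5 D26856)).symm.trans (sb E69276 D143596))).symm
theorem E72840 : n55620 = n31283 := ((D55620).symm.trans (sb E69276 (iv6 D67248)))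
theorem F312524 : act 6 n67247 = n55619 := (sb E69277 (iv6 D120667))
theorem E72854 : n31459 = n14899 := ((((iv6 F24542)).symm.trans (sb E69280 F103168))).symm
theorem E72855 : n70298 = n31128 := (((F181696).symm.trans (sb E69281 D70298))).symm
theorem E72856 : n70299 = n31133 := ((((iv0 F181697)).symm.trans (sb E69281 D70299))).symm
theorem E72857 : n33342 = n7063 := (((F24404).symm.trans (sb E69281 (iv5 F52578)))).symm
theorem F312525 : act 6 n14756 = n15447 := (sb E69281 (iv6 D32625))
theorem E72859 : n145788 = n121461 := ((D145788).symm.trans (sb E69286 (iv1 F306871)))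
theorem E72860 : n145789 = n62224 := ((D145789).symm.trans (sb E69286 (iv0 D132612)))
theorem F312526 : act 5 n68351 = n135463 := (sb E69286 (iv5 F217803))
theorem E72861 : n145791 = n129763 := ((D145791).symm.trans (sb E69286 F212856))
theorem E72862 : n138372 = n83735 := (((iv1 F246085)).symm.trans (sb E69287 (iv1 F274350)))
theorem F312527 : act 5 n156512 = n127848 := (sb E69287 F274348)
theorem E72863 : n178658 = n138370 := (((F246086).symm.trans (sb E69287 (iv7 F278467)))).symm
theorem F312528 : act 0 n125172 = n74428 := (sb E69288 (iv1 F246088))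
theorem F312529 : act 5 n125172 = n108269 := (sb E69288 F245572)
theorem F312530 : act 2 n128336 = n74428 := (sb E69289 (iv2 D156513))
theorem F312531 : act 4 n128336 = n156082 := (sb E69289 F246101)
theorem E72864 : n140324 = n85093 := ((F247020).symm.trans (sb E69290 F274353))
theorem E72865 : n140320 = n85096 := (((iv0 F246105)).symm.trans (sb E69290 F274352))
theorem E72866 : n156948 = n85202 := ((F247016).symm.trans (sb E69290 F274351))
theorem E72867 : n156219 = n83713 := (((D83713).symm.trans (sb E69291 (iv1 F246089)))).symm
theorem E72868 : n156228 = n54394 := ((((iv0 F155113)).symm.trans (sb E69291 F246090))).symm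
theorem F312532 : act 3 n38584 = n65117 := (sb E69291 (iv3 D138675))
theorem F312533 : act 5 n38584 = n74428 := (sb E69291 F221838)
theorem E72869 : n138374 = n83657 := ((((iv7 F201106)).symm.trans (sb E69291 F221839))).symm
theorem F312534 : act 0 n30575 = n60343 := (sb E69294 (iv1 F200343))
theorem F312535 : act 4 n30575 = n33787 := (sb E69294 F305701)
theorem F312536 : act 6 n30575 = n33785 := (sb E69294 F305702)
theorem F312537 : act 0 n71428 = n65117 := (sb E69295 (iv1 F111924))
theorem F312538 : act 5 n71428 = n34180 := (sb E69295 (iv5 D74538))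
theorem F312539 : act 3 n64994 = n58526 := (sb E69296 (iv3 F200331))
theorem E72871 : n138365 = n118679 := ((D138365).symm.trans (sb E69296 (iv6 F306253)))
theorem F312540 : act 7 n64994 = n60343 := (sb E69296 (iv7 F201088))
theorem F312541 : act 6 n71331 = n65117 := (sb E69297 (iv6 D138677))
theorem F312542 : act 2 n64999 = n60343 := (sb E69298 F201089)
theorem E72872 : n145187 = n138369 := ((D145187).symm.trans (sb E69299 (iv1 F246124)))
theorem F312543 : act 1 n68061 = n74431 := (sb E69299 (iv0 D156519))
theorem F312544 : act 2 n144898 = n138368 := (sb E69300 F246121)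
theorem F312546 : act 6 n45191 = n58171 := (sb E69302 (iv6 D124596))
theorem F312547 : act 5 n72405 = n85652 := (sb E69303 (iv5 D179526))
theorem F312548 : act 5 n69591 = n81588 := (sb E69305 (iv5 D170123))
theorem F312549 : act 4 n40187 = n29660 := (sb E69312 F97832)
theorem F312550 : act 0 n164360 = n81749 := (sb E69314 (iv1 F267506))
theorem F312551 : act 1 n164360 = n81560 := (sb E69314 (iv0 D170054))
theorem F312552 : act 4 n164360 = n98061 := (sb E69314 F300273)
theorem F312553 : act 7 n164360 = n81746 := (sb E69314 (iv7 F267512))
theorem F312554 : act 2 n83169 = n38291 := (sb E69315 (iv2 D83177))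
theorem E72874 : n173943 = n173926 := (((D173926).symm.trans (sb E69315 D173943))).symm
theorem E72875 : n173944 = n173927 := (((D173927).symm.trans (sb E69315 D173944))).symm
theorem E72876 : n173945 = n173928 := (((D173928).symm.trans (sb E69315 D173945))).symm
theorem F312555 : act 7 n83169 = n38292 := (sb E69315 (iv7 F128248))
theorem F312556 : act 0 n74968 = n35467 := (sb E69316 (iv1 D77693))
theorem E72878 : n161742 = n157527 := (((D157527).symm.trans (sb E69316 D161742))).symm
theorem E72880 : n69517 = n61546 := (((F162896).symm.trans (sb E69317 (iv6 D148336)))).symm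
theorem F312557 : act 3 n83170 = n76979 := (sb E69318 F253631)
theorem E72881 : n173931 = n76976 := ((D173931).symm.trans (sb E69318 F253632))
theorem E72882 : n76975 = n38291 := ((((iv7 F310274)).symm.trans (sb E69318 (iv7 D160553)))).symm
theorem E72883 : n131201 = n27885 := (((F55907).symm.trans (sb E69319 F212331))).symm
theorem F312558 : act 1 n35166 = n35467 := (sb E69320 (iv0 D77692))
theorem F312559 : act 4 n35166 = n61549 := (sb E69320 F304249)
theorem E72885 : n61547 = n18862 := (((F55904).symm.trans (sb E69320 (iv6 F306291)))).symm
theorem F312560 : act 5 n29136 = n15224 := (sb E69321 F51198)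
theorem F312561 : act 3 n44486 = n31320 := (sb E69322 (iv3 D67372))
theorem F312562 : act 6 n44485 = n31320 := (sb E69323 (iv6 D67374))
theorem E72895 : n116818 = n63674 := (((iv1 F182400)).symm.trans (sb E69324 (iv1 F217777)))
theorem E72896 : n116817 = n63669 := ((F182397).symm.trans (sb E69324 (iv0 D135455)))
theorem F312563 : act 5 n34228 = n73722 := (sb E69326 (iv5 D155233))
theorem F312564 : act 6 n119115 = n73722 := (sb E69327 (iv6 D155234))
theorem F312565 : act 0 n63292 = n31321 := (sb E69328 (iv1 D67376))
theorem F312566 : act 1 n63292 = n67378 := (sb E69328 F103248)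
theorem F312567 : act 0 n63287 = n67378 := (sb E69329 F103247)
theorem F312568 : act 1 n63287 = n31321 := (sb E69329 (iv0 D67375))
theorem F312569 : act 6 n143870 = n83170 := (sb E69330 (iv6 D173932))
theorem E72904 : n116718 = n73723 := ((D116718).symm.trans (sb E69332 F309661))
theorem E72905 : n116541 = n73721 := (((iv2 F181880)).symm.trans (sb E69332 F309662))
theorem E72906 : n62723 = n32276 := (((F84796).symm.trans (sb E69332 (iv6 D133635)))).symm
theorem F312570 : act 7 n53782 = n73722 := (sb E69332 (iv7 F310279))
theorem E72907 : n32285 = n29138 := ((D32285).symm.trans (sb E69333 F47665))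
theorem F312571 : act 7 n15223 = n29136 := (sb E69333 F186145)
theorem F312572 : act 4 n70859 = n65004 := (sb E69335 (iv4 D138393))
theorem E72908 : n138659 = n39382 := ((D138659).symm.trans (sb E69336 (iv4 D85189)))
theorem E72909 : n178765 = n138660 := (((D138660).symm.trans (sb E69336 D178765))).symm
theorem E72910 : n85500 = n30566 := ((((iv4 F48988)).symm.trans (sb E69337 F130700))).symm
theorem E72911 : n118335 = n30576 := (((D30576).symm.trans (sb E69337 (iv6 F185942)))).symm
theorem E72912 : n145213 = n138663 := (((D138663).symm.trans (sb E69338 (iv1 F252938)))).symm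
theorem E72913 : n138664 = n25956 := ((D138664).symm.trans (sb E69338 (tr (iv0 F252936) E72523)))
theorem E72915 : n150652 = n138666 := (((D138666).symm.trans (sb E69338 F252935))).symm
theorem F312573 : act 0 n154165 = n75785 := (sb E69339 (iv1 F249432))
theorem F312574 : act 2 n154165 = n82716 := (sb E69339 F249430)
theorem F312575 : act 4 n154165 = n174391 := (sb E69339 (iv4 F273240))
theorem F312576 : act 6 n154165 = n75754 := (sb E69339 F249431)
theorem F312577 : act 7 n154165 = n75479 := (sb E69339 (iv7 D158314))
theorem F312578 : act 0 n60267 = n82716 := (sb E69340 F155454)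
theorem F312579 : act 1 n60267 = n75479 := (sb E69340 (iv0 F155570))
theorem E72916 : n128186 = n45891 := (((iv3 F206327)).symm.trans (sb E69340 (iv3 D98198)))
theorem E72917 : n128194 = n77369 := ((D128194).symm.trans (sb E69340 F151512))
theorem E72918 : n128190 = n75764 := (((iv6 F206330)).symm.trans (sb E69340 F151513))
theorem F312580 : act 7 n60267 = n75785 := (sb E69340 F151514)
theorem F312581 : act 2 n154163 = n75775 := (sb E69341 (iv2 D158819))
theorem F312582 : act 0 n154166 = n167113 := (sb E69342 (iv1 F263211))
theorem F312583 : act 1 n154166 = n167112 := (sb E69342 F263206)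
theorem F312584 : act 3 n154166 = n131535 := (sb E69342 (tr F254835 E72546))
theorem F312585 : act 7 n154166 = n167114 := (sb E69342 (iv7 F263209))
theorem F312586 : act 0 n154167 = n82744 := (sb E69344 F275795)
theorem F312587 : act 1 n154167 = n167586 := (sb E69344 (iv0 F301461))
theorem F312588 : act 0 n154168 = n75479 := (sb E69345 (iv1 D158312))
theorem F312589 : act 1 n154168 = n82716 := (sb E69345 F249426)
theorem F312590 : act 2 n154168 = n75785 := (sb E69345 (iv2 F249428))
theorem F312591 : act 4 n154168 = n167114 := (sb E69345 (iv4 F263208))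
theorem E72919 : n161990 = n72982 := (((iv5 F304796)).symm.trans (sb E69346 (iv5 D154135)))
theorem E72920 : n128187 = n75786 := (((iv3 F206328)).symm.trans (sb E69347 F250085))
theorem F312592 : act 5 n60268 = n75785 := (sb E69347 (iv5 D158834))
theorem F312593 : act 5 n98197 = n82716 := (sb E69350 F271027)
theorem E72921 : n158671 = n34607 := (E72083).trans E72593
theorem E72923 : n158673 = n39940 := ((D158673).symm.trans (sb E69351 F298281))
theorem E72924 : n158689 = n120487 := ((((iv6 F298358)).symm.trans (sb E69351 D158689))).symm
theorem F312594 : act 7 n75686 = n78162 := (sb E69351 (iv7 F300817))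
theorem E72925 : n158692 = n133141 := (((D133141).symm.trans (sb E69352 D158692))).symm
theorem E72926 : n172781 = n119663 := ((D172781).symm.trans (sb E69353 (iv1 F304224)))
theorem E72927 : n172782 = n172410 := ((D172782).symm.trans (sb E69353 (tr D172853 E70089)))
theorem E72928 : n161654 = n155077 := ((((iv2 F243889)).symm.trans (sb E69353 (iv2 F255674)))).symm
theorem F312595 : act 3 n82728 = n38034 := (sb E69353 (iv3 D82755))
theorem E72929 : n172854 = n82984 := ((((iv4 F127909)).symm.trans (sb E69353 D172854))).symm
theorem E72930 : n172855 = n172783 := (((D172783).symm.trans (sb E69353 D172855))).symm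
theorem E72931 : n172784 = n98520 := ((D172784).symm.trans (sb E69353 F268296))
theorem E72932 : n172025 = n46052 := ((D172025).symm.trans (sb E69354 F151871))
theorem E72933 : n172027 = n46051 := ((D172027).symm.trans (sb E69354 (iv6 D98462)))
theorem F312596 : act 3 n57749 = n83808 := (sb E69355 F274848)
theorem E72934 : n123960 = n83805 := ((D123960).symm.trans (sb E69355 (iv6 D175518)))
theorem E72937 : n98094 = n71417 := ((((iv7 F107927)).symm.trans (sb E69356 F156447))).symm
theorem E72938 : n71642 = n22723 := ((D71642).symm.trans (sb E69357 (iv3 D47247)))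
theorem E72942 : n173488 = n120130 := (((iv3 F279260)).symm.trans (sb E69358 F213285))
theorem E72943 : n62316 = n38642 := (((D38642).symm.trans (sb E69360 (iv6 D132778)))).symm
theorem F312597 : act 3 n83898 = n62332 := (sb E69361 F213287)
theorem E72944 : n175763 = n62328 := ((D175763).symm.trans (sb E69361 F213288))
theorem E72945 : n123965 = n61449 := ((((iv1 F209533)).symm.trans (sb E69362 (iv1 F303380)))).symm
theorem E72946 : n123964 = n61454 := ((((iv0 F97474)).symm.trans (sb E69362 (iv0 F303379)))).symm
theorem F312598 : act 6 n29483 = n38639 := (sb E69362 (iv6 D83899))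
theorem F312599 : act 1 n57749 = n62324 := (sb E69363 (iv0 D132791))
theorem E72950 : n130151 = n123046 := ((((iv7 F311809)).symm.trans (sb E69363 (iv7 F213280)))).symm
theorem E72951 : n123134 = n123046 := ((D123134).symm.trans (sb E69364 (tr F213252 E72950)))
theorem F312600 : act 2 n57298 = n62324 := (sb E69364 F213249)
theorem F312601 : act 3 n57750 = n29130 := (sb E69365 F95615)
theorem F312602 : act 4 n57750 = n28951 := (sb E69365 (iv4 D61101))
theorem E72952 : n130153 = n123962 := (((D123962).symm.trans (sb E69365 D130153))).symm
theorem E72953 : n130154 = n123963 := (((D123963).symm.trans (sb E69365 D130154))).symm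
theorem F312603 : act 7 n57750 = n62324 := (sb E69365 (iv7 F97190))
theorem F312604 : act 3 n98152 = n82731 := (sb E69367 (iv3 D172791))
theorem F312605 : act 3 n18573 = n38620 := (sb E69368 (iv3 D83848))
theorem E72957 : n175623 = n39127 := (((D39127).symm.trans (sb E69368 D175623))).symm
theorem E72961 : n177947 = n175626 := (((D175626).symm.trans (sb E69369 D177947))).symm
theorem F312606 : act 7 n83849 = n123203 := (sb E69369 (iv7 F301749))
theorem E72962 : n86457 = n84381 := ((((iv3 D177046)).symm.trans (sb E69370 F281862))).symm
theorem F312607 : act 4 n177046 = n87544 := (sb E69370 F281863)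
theorem F312608 : act 6 n177046 = n86455 := (sb E69370 (iv6 D181019))
theorem F312609 : act 2 n100041 = n82606 := (sb E69371 (iv2 D172549))
theorem E72963 : n158143 = n100041 := ((D158143).symm.trans (iv7 (sb E69371 (tr (iv7 F270732) E69811))))
theorem F312610 : act 0 n100040 = n172368 := (sb E69372 F270734)
theorem F312611 : act 4 n100040 = n82606 := (sb E69372 (iv4 D172551))
theorem F312612 : act 6 n87976 = n82606 := (sb E69373 (iv6 D172553))
theorem F312613 : act 1 n83807 = n73182 := (sb E69374 (iv0 D154491))
theorem F312614 : act 0 n83802 = n73182 := (sb E69375 (iv1 D154492))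
theorem F312615 : act 2 n101908 = n73182 := (sb E69376 (iv2 D154493))
theorem F312616 : act 1 n41179 = n73190 := (sb E69377 (iv0 D154513))
theorem F312617 : act 1 n154514 = n88240 := (sb E69378 F285674)
theorem F312619 : act 6 n154514 = n88219 := (sb E69378 F285671)
theorem F312620 : act 7 n154514 = n87706 := (sb E69378 (iv7 D183862))
theorem F312621 : act 6 n154515 = n88086 := (sb E69381 (iv6 D184728))
theorem F312622 : act 0 n154516 = n88243 := (sb E69382 (iv1 F285672))
theorem F312623 : act 1 n154516 = n87706 := (sb E69382 (iv0 D183860))
theorem F312624 : act 2 n154516 = n88240 := (sb E69382 F286673)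
theorem E72964 : n101821 = n73634 := (((iv3 F156777)).symm.trans (sb E69383 F243950))
theorem E72966 : n95520 = n21323 := ((((iv4 D44778)).symm.trans (sb E69384 (tr D120574 E70206)))).symm
theorem E72967 : n95934 = n26802 := ((D95934).symm.trans (sb E69384 (iv5 D55527)))
theorem E72968 : n95935 = n69248 := ((D95935).symm.trans (sb E69384 (iv6 F192077)))
theorem E72969 : n159190 = n148692 := (((D148692).symm.trans (sb E69385 D159190))).symm
theorem E72970 : n148693 = n34777 := ((D148693).symm.trans (sb E69385 (iv4 D76136)))
theorem E72972 : n159192 = n148695 := (((D148695).symm.trans (sb E69385 D159192))).symm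
theorem E72973 : n98946 = n61678 := (((D61678).symm.trans (iv3 (sb E69386 (tr (iv3 D161692) E72261))))).symm
theorem F312625 : act 0 n149111 = n73256 := (sb E69388 (iv1 D154554))
theorem E72974 : n183391 = n69977 := ((((iv0 D149111)).symm.trans (sb E69388 F310395))).symm
theorem F312626 : act 2 n149111 = n183394 := (sb E69388 F310396)
theorem F312627 : act 3 n149111 = n83826 := (sb E69388 F310397)
theorem F312628 : act 6 n149111 = n98490 := (sb E69388 F310398)
theorem F312629 : act 7 n149111 = n88943 := (sb E69388 F310399)
theorem E72975 : n161631 = n119130 := (((iv3 F255638)).symm.trans (sb E69389 (iv3 F302264)))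
theorem F312630 : act 3 n100478 = n57808 := (sb E69398 F198469)
theorem F312631 : act 5 n100478 = n57806 := (sb E69398 (iv5 D124068))
theorem F312632 : act 7 n100478 = n161574 := (sb E69398 (iv7 F255571))
theorem E72976 : n82988 = n81849 := ((D82988).symm.trans (sb E69399 (iv1 D170730)))
theorem E72977 : n83449 = n82989 := (((D82989).symm.trans (sb E69399 F298751))).symm
theorem E72978 : n83447 = n82386 := ((((iv2 F126891)).symm.trans (sb E69399 F304214))).symm
theorem E72979 : n83448 = n82991 := (((D82991).symm.trans (sb E69399 F304215))).symm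
theorem F312633 : act 7 n46065 = n82986 := (sb E69400 (iv7 D173422))
theorem F312634 : act 3 n89449 = n95793 := (sb E69401 F149824)
theorem F312635 : act 4 n89449 = n152187 := (sb E69401 (iv4 F239271))
theorem F312636 : act 6 n89449 = n45389 := (sb E69401 (iv6 D97103))
theorem F312637 : act 4 n62710 = n32697 := (sb E69407 F106923)
theorem F312638 : act 6 n62710 = n32695 := (sb E69407 (iv6 D70457))
theorem F312639 : act 6 n29716 = n57797 := (sb E69419 (iv6 D124061))
theorem E72980 : n129331 = n32762 := ((D129331).symm.trans (sb E69422 F107107))
theorem E72981 : n150102 = n28891 := (((F95469).symm.trans (sb E69422 D150102))).symm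
theorem E72982 : n129332 = n32761 := ((D129332).symm.trans (sb E69422 (iv6 D70634)))
theorem E72983 : n129334 = n127843 := ((D129334).symm.trans (sb E69423 (iv4 F205687)))
theorem F312640 : act 4 n29421 = n16792 := (sb E69425 (iv4 D34676))
theorem E72986 : n75847 = n62152 := (((D62152).symm.trans (sb E69425 D75847))).symm
theorem E72988 : n184032 = n130104 := (((D130104).symm.trans (sb E69431 (iv4 F285980)))).symm
theorem E72989 : n184033 = n130118 := (((D130118).symm.trans (sb E69432 F285982))).symm
theorem F312641 : act 2 n34591 = n28979 := (sb E69433 (iv2 D61202))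
theorem E72990 : n130433 = n75641 := (((D75641).symm.trans (sb E69433 D130433))).symm
theorem E72991 : n75642 = n29088 := ((D75642).symm.trans (sb E69433 F95677))
theorem E72992 : n130434 = n75643 := (((D75643).symm.trans (sb E69433 D130434))).symm
theorem E72993 : n130435 = n99478 := ((D130435).symm.trans (sb E69434 (iv1 F236245)))
theorem E72994 : n130436 = n70638 := ((D130436).symm.trans (sb E69434 (iv0 D150107)))
theorem E72995 : n71063 = n16517 := (((D16517).symm.trans (sb E69437 (iv6 D150715)))).symm
theorem F312642 : act 4 n7676 = n15845 := (sb E69439 (iv4 D32906))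
theorem E72997 : n32888 = n5844 := (((F11922).symm.trans (sb E69439 F52094))).symm
theorem E72998 : n33326 = n16524 := (((D16524).symm.trans (sb E69439 F52558))).symm
theorem E72999 : n67802 = n15818 := ((((iv3 F25314)).symm.trans (sb E69440 (iv3 F103817)))).symm
theorem E73000 : n15846 = n14834 := ((D15846).symm.trans (sb E69440 F49789))
theorem E73003 : n74393 = n54463 := ((((iv3 F86003)).symm.trans (sb E69441 D74393))).symm
theorem E73004 : n32911 = n24363 := (((iv4 F52099)).symm.trans (sb E69441 (iv4 F53670)))
theorem E73006 : n67413 = n54486 := (((D54486).symm.trans (sb E69441 (iv6 F103279)))).symm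
theorem E73007 : n31098 = n13294 := ((((iv1 F41735)).symm.trans (sb E69442 (iv1 F53699)))).symm
theorem E73008 : n31103 = n18808 := (((F41738).symm.trans (sb E69442 F53545))).symm
theorem F312643 : act 6 n26345 = n30563 := (sb E69443 F53549)
theorem E73014 : n138348 = n58547 := (((D58547).symm.trans (sb E69448 D138348))).symm
theorem E73016 : n49763 = n8773 := ((((iv0 D18710)).symm.trans (sb E69456 D49763))).symm
theorem E73017 : n39484 = n11421 := ((D39484).symm.trans (sb E69456 (iv3 D24265)))
theorem F312644 : act 4 n18710 = n11426 := (sb E69456 F38032)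
theorem E73018 : n49765 = n34779 := ((((iv5 F54989)).symm.trans (sb E69456 D49765))).symm
theorem E73019 : n39485 = n13503 := ((D39485).symm.trans (sb E69456 F38033))
theorem E73020 : n128476 = n13518 := (((D13518).symm.trans (sb E69457 D128476))).symm
theorem E73021 : n128477 = n13519 := (((D13519).symm.trans (sb E69457 D128477))).symm
theorem E73022 : n30910 = n13521 := (((D13521).symm.trans (sb E69457 (tr F94940 E71689)))).symm
theorem E73023 : n59754 = n17540 := ((D59754).symm.trans (sb E69460 (iv1 D36326)))
theorem E73024 : n59755 = n17559 := ((D59755).symm.trans (sb E69460 F57055))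
theorem F312645 : act 5 n28343 = n32891 := (sb E69460 F57057)
theorem E73025 : n32587 = n13521 := (E71689).trans E73022
theorem E73026 : n32935 = n30578 := (((D30578).symm.trans (sb E69461 (iv1 F86097)))).symm
theorem E73027 : n32934 = n30579 := (((D30579).symm.trans (sb E69461 F86101))).symm
theorem E73028 : n30581 = n26360 := ((D30581).symm.trans (sb E69461 (iv7 D54505)))
theorem E73029 : n30603 = n7088 := (((F20938).symm.trans (sb E69462 D30603))).symm
theorem F312646 : act 6 n12570 = n6931 := (sb E69462 (iv6 D14513))
theorem E73032 : n118439 = n11424 := (((D11424).symm.trans (sb E69463 (iv6 F186250)))).symm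
theorem E73033 : n118421 = n11371 := ((((iv3 F18562)).symm.trans (sb E69464 (iv3 F186095)))).symm
theorem E73034 : n26371 = n11425 := (((D11425).symm.trans (sb E69464 (iv6 D54532)))).symm
theorem E73036 : n179210 = n11420 := (((D11420).symm.trans (sb E69465 D179210))).symm
theorem E73043 : n138663 = n7004 := (((D7004).symm.trans (sb E69467 (tr (iv3 F228199) E72912)))).symm
theorem E73044 : n68586 = n7005 := (((D7005).symm.trans (sb E69467 (iv5 F104793)))).symm
theorem F312647 : act 7 n70935 = n108293 := (sb E69471 (iv7 F200166))
theorem E73047 : n141604 = n70284 := (((D70284).symm.trans (sb E69472 F224684))).symm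
theorem F312648 : act 1 n107848 = n150423 := (sb E69473 (iv0 F236813))
theorem F312649 : act 4 n107848 = n154016 := (sb E69473 (iv4 F242040))
theorem F312650 : act 5 n107848 = n70278 := (sb E69473 (iv5 D149649))
theorem F312651 : act 6 n107848 = n150538 := (sb E69473 (iv6 F237036))
theorem F312652 : act 4 n32616 = n67877 := (sb E69474 F166578)
theorem F312653 : act 5 n32616 = n49807 := (sb E69474 (iv5 D107850))
theorem F312654 : act 0 n55507 = n108278 := (sb E69475 (iv1 F167417))
theorem E73048 : n120539 = n108277 := ((D120539).symm.trans (sb E69475 F167416))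
theorem F312655 : act 2 n55507 = n49860 := (sb E69475 (iv2 D107953))
theorem F312656 : act 7 n55507 = n108266 := (sb E69475 (iv7 F167408))
theorem F312657 : act 3 n49987 = n28698 := (sb E69476 (iv3 D60427))
theorem E73049 : n128478 = n108129 := ((((iv4 F167218)).symm.trans (sb E69476 D128478))).symm
theorem F312658 : act 5 n49987 = n34781 := (sb E69476 F94941)
theorem E73050 : n128479 = n108231 := (((D108231).symm.trans (sb E69476 D128479))).symm
theorem F312659 : act 0 n107981 = n150079 := (sb E69477 F280173)
theorem F312660 : act 4 n107981 = n161331 := (sb E69477 (iv4 F304806))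
theorem F312661 : act 6 n107981 = n150198 := (sb E69477 F280167)
theorem F312662 : act 0 n107982 = n150085 := (sb E69478 F280184)
theorem E73051 : n152157 = n150235 := (((iv0 F239218)).symm.trans (sb E69478 F280185))
theorem E73052 : n151996 = n89321 := (((iv3 F239016)).symm.trans (sb E69478 F287052))
theorem F312663 : act 6 n107982 = n150212 := (sb E69478 F280182)
theorem F312664 : act 7 n107982 = n89312 := (sb E69478 (iv7 F286797))
theorem F312665 : act 0 n39759 = n29431 := (sb E69479 (iv1 D62173))
theorem E73053 : n132520 = n85958 := (((D85958).symm.trans (sb E69479 D132520))).symm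
theorem F312666 : act 5 n39759 = n49869 := (sb E69479 F212672)
theorem E73054 : n132521 = n54461 := ((((iv6 F155332)).symm.trans (sb E69479 D132521))).symm
theorem F312667 : act 6 n70707 = n49869 := (sb E69480 (iv6 D107984))
theorem F312668 : act 0 n135393 = n89312 := (sb E69481 (iv1 F286794))
theorem F312669 : act 2 n135393 = n150085 := (sb E69481 (iv2 F236180))
theorem F312670 : act 5 n135393 = n101551 := (sb E69481 F234294)
theorem F312671 : act 6 n135393 = n69884 := (sb E69481 (iv6 D149013))
theorem F312672 : act 7 n70717 = n108270 := (sb E69482 F212689)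
theorem F312673 : act 2 n27851 = n29431 := (sb E69483 (iv2 D62174))
theorem E73055 : n132436 = n58544 := (((D58544).symm.trans (sb E69483 (iv4 F212503)))).symm
theorem E73056 : n132515 = n58545 := (((D58545).symm.trans (sb E69483 (iv6 F212663)))).symm
theorem F312674 : act 1 n108079 = n124813 := (sb E69484 F201214)
theorem F312675 : act 4 n108079 = n58543 := (sb E69484 (iv4 D125173))
theorem F312676 : act 6 n108079 = n153563 := (sb E69484 F241375)
theorem E73057 : n132518 = n85963 := ((F212667).symm.trans (sb E69484 F201213))
theorem F312677 : act 1 n39760 = n29431 := (sb E69486 (iv0 D62172))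
theorem E73058 : n85965 = n67700 := ((D85965).symm.trans (sb E69486 F212669))
theorem F312678 : act 1 n125169 = n74370 := (sb E69488 F245779)
theorem F312679 : act 5 n125169 = n108273 := (sb E69488 F245685)
theorem F312680 : act 0 n125171 = n67703 := (sb E69490 F227286)
theorem F312681 : act 1 n125171 = n67699 := (sb E69490 (iv0 D144463))
theorem E73059 : n145273 = n67701 := (((iv7 F228262)).symm.trans (sb E69490 (iv7 F227287)))
theorem F312682 : act 5 n107952 = n85855 := (sb E69491 (iv5 D179738))
theorem F312683 : act 6 n107952 = n122835 := (sb E69491 (iv6 F305522))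
theorem F312684 : act 0 n57108 = n108266 := (sb E69492 (iv1 F167410))
theorem F312685 : act 1 n57108 = n49860 := (sb E69492 (iv0 D107951))
theorem F312686 : act 2 n57108 = n108278 := (sb E69492 (iv2 F209832))
theorem F312687 : act 3 n55372 = n108266 := (sb E69493 F239045)
theorem E73060 : n125166 = n108233 := (((D108233).symm.trans (sb E69494 D125166))).symm
theorem E73061 : n118257 = n108235 := (((D108235).symm.trans (sb E69494 (iv6 F185799)))).symm
theorem E73062 : n118081 = n108110 := (((F167191).symm.trans (sb E69495 D118081))).symm
theorem E73063 : n108251 = n26328 := ((D108251).symm.trans (sb E69495 F85885))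
theorem E73065 : n145113 = n108135 := ((((iv0 F210271)).symm.trans (sb E69496 (iv0 F233179)))).symm
theorem E73066 : n125066 = n108032 := ((((iv3 F166968)).symm.trans (sb E69496 (iv3 F200923)))).symm
theorem E73067 : n181786 = n108140 := (((D108140).symm.trans (sb E69496 D181786))).symm
theorem E73069 : n145091 = n30973 := ((((iv1 F49403)).symm.trans (sb E69497 F229151))).symm
theorem E73070 : n118224 = n30972 := (((F49398).symm.trans (sb E69497 (iv0 F185759)))).symm
theorem E73071 : n76796 = n48871 := (((D48871).symm.trans (sb E69497 F133105))).symm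
theorem F312688 : act 2 n70010 = n48875 := (sb E69498 F162334)
theorem E73073 : n179883 = n108239 := (((D108239).symm.trans (sb E69499 D179883))).symm
theorem E73074 : n149079 = n108241 := (((D108241).symm.trans (sb E69500 F234457))).symm
theorem F312689 : act 5 n18799 = n24375 := (sb E69501 (iv5 D49991))
theorem E73080 : n118256 = n108247 := (((D108247).symm.trans (sb E69502 (iv1 F185796)))).symm
theorem E73081 : n118255 = n108248 := (((D108248).symm.trans (sb E69502 F185800))).symm
theorem E73082 : n117116 = n108249 := (((D108249).symm.trans (sb E69502 (iv5 F183178)))).symm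
theorem E73083 : n117115 = n108250 := (((D108250).symm.trans (sb E69502 F183176))).symm
theorem E73086 : n108255 = n85458 := ((D108255).symm.trans (sb E69503 F155106))
theorem E73087 : n108256 = n32472 := ((D108256).symm.trans (sb E69503 (iv5 D69929)))
theorem E73088 : n108257 = n32743 := ((D108257).symm.trans (sb E69503 F106367))
theorem E73089 : n149081 = n108258 := (((D108258).symm.trans (sb E69504 D149081))).symm
theorem E73091 : n108259 = n32746 := ((D108259).symm.trans (sb E69504 F106373))
theorem F312690 : act 5 n15372 = n24376 := (sb E69505 (iv5 D49996))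
theorem F312691 : act 6 n15661 = n24376 := (sb E69506 (iv6 D49997))
theorem E73098 : n179915 = n108137 := (((D108137).symm.trans (sb E69507 (iv5 F280199)))).symm
theorem E73099 : n108138 = n70590 := ((D108138).symm.trans (sb E69507 F236039))
theorem E73100 : n70042 = n48869 := (((D48869).symm.trans (sb E69508 (iv5 D149228)))).symm
theorem E73101 : n85986 = n48870 := (((D48870).symm.trans (sb E69508 F234619))).symm
theorem E73102 : n48872 = n32513 := ((D48872).symm.trans (sb E69509 (iv1 D70056)))
theorem E73103 : n149069 = n48873 := (((D48873).symm.trans (sb E69509 F234441))).symm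
theorem E73104 : n149256 = n48874 := (((D48874).symm.trans (sb E69509 D149256))).symm
theorem F312692 : act 1 n69914 = n48875 := (sb E69511 (iv0 D105728))
theorem F312693 : act 0 n69918 = n48875 := (sb E69512 (iv1 D105729))
theorem F312694 : act 3 n70009 = n48878 := (sb E69513 F162370)
theorem E73106 : n133752 = n59965 := (((iv6 F215292)).symm.trans (sb E69513 F162371))
theorem F312695 : act 7 n70009 = n48875 := (sb E69513 (iv7 D105730))
theorem F312696 : act 0 n107954 = n87369 := (sb E69514 (iv1 D183011))
theorem F312697 : act 1 n107954 = n125115 := (sb E69514 F284626)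
theorem F312698 : act 2 n107954 = n120541 := (sb E69514 (iv2 F305540))
theorem E73107 : n149091 = n108279 := ((((iv7 F167420)).symm.trans (sb E69514 F284627))).symm
theorem E73109 : n71305 = n16541 := (((D16541).symm.trans (sb E69515 F108607))).symm
theorem E73112 : n32933 = n16542 := (((D16542).symm.trans (sb E69515 (iv7 D71130)))).symm
theorem E73113 : n76269 = n74491 := (((D74491).symm.trans (sb E69516 (iv3 F199858)))).symm
theorem E73115 : n74492 = n39644 := ((D74492).symm.trans (sb E69516 (iv5 F86092)))
theorem E73116 : n32887 = n25961 := (((F53669).symm.trans (sb E69516 (iv6 F86091)))).symm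
theorem E73117 : n108248 = n74493 := (((D74493).symm.trans (sb E69517 (tr (iv3 F227863) E73081)))).symm
theorem E73119 : n118344 = n74494 := (((D74494).symm.trans (sb E69517 D118344))).symm
theorem E73120 : n86000 = n68302 := ((((iv6 F104477)).symm.trans (sb E69517 (iv6 F131938)))).symm
theorem E73121 : n105856 = n31423 := (((F53654).symm.trans (sb E69518 (iv1 F237433)))).symm
theorem E73122 : n116910 = n65653 := (((F101387).symm.trans (sb E69518 (iv0 F182666)))).symm
theorem E73123 : n145769 = n74495 := (((D74495).symm.trans (sb E69518 (iv4 F228901)))).symm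
theorem E73124 : n65651 = n31804 := (((iv7 F101383)).symm.trans (sb E69518 (iv7 D68346)))
theorem F312699 : act 7 n15861 = n16539 := (sb E69519 (iv7 D34163))
theorem E73125 : n150790 = n16543 := ((((iv3 D34172)).symm.trans (sb E69520 (iv3 F237347)))).symm
theorem E73127 : n74519 = n32920 := ((D74519).symm.trans (sb E69520 (iv6 D71094)))
theorem F312700 : act 2 n34181 = n71428 := (sb E69521 (iv2 F107949))
theorem F312701 : act 6 n15852 = n16545 := (sb E69522 (iv6 D34182))
theorem E73136 : n32923 = n16544 := (((D16544).symm.trans (sb E69523 (iv6 D71103)))).symm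
theorem E73139 : n28377 = n16549 := (((D16549).symm.trans (sb E69525 (iv0 F45868)))).symm
theorem F312702 : act 4 n7687 = n7433 := (sb E69525 (iv4 D15854))
theorem E73140 : n15866 = n5827 := (((F11945).symm.trans (sb E69525 (iv5 F25334)))).symm
theorem E73141 : n26359 = n16550 := (((D16550).symm.trans (sb E69525 (iv7 F42053)))).symm
theorem E73142 : n67836 = n31660 := ((((iv3 F49950)).symm.trans (sb E69526 D67836))).symm
theorem E73143 : n31684 = n14839 := (((iv4 F49961)).symm.trans (sb E69526 (iv4 D31506)))
theorem E73145 : n67841 = n16475 := ((((iv3 F26697)).symm.trans (sb E69527 D67841))).symm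
theorem E73146 : n26062 = n14840 := ((D26062).symm.trans (sb E69527 (iv4 D31510)))
theorem F312703 : act 6 n12354 = n25933 := (sb E69527 F49828)
theorem E73152 : n151298 = n24371 := ((((iv3 F38208)).symm.trans (sb E69530 (iv3 F238011)))).symm
theorem E73154 : n32993 = n24374 := (((D24374).symm.trans (sb E69530 (iv7 D71303)))).symm
theorem E73158 : n151172 = n14807 := (((D14807).symm.trans (sb E69531 (iv4 F237865)))).symm
theorem E73160 : n32980 = n14798 := ((((iv6 F24447)).symm.trans (sb E69531 (iv6 D71260)))).symm
theorem F312704 : act 4 n7067 = n7448 := (sb E69533 (iv4 D15880))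
theorem E73163 : n15869 = n3220 := ((((iv5 D7067)).symm.trans (sb E69533 F25354))).symm
theorem E73164 : n26375 = n14841 := (((D14841).symm.trans (sb E69533 (iv7 F42098)))).symm
theorem E73167 : n33310 = n11166 := (((D11166).symm.trans (sb E69535 (iv6 D72162)))).symm
theorem E73168 : n74476 = n25928 := (((D25928).symm.trans (sb E69538 (iv0 D156617)))).symm
theorem E73173 : n54022 = n25932 := (((D25932).symm.trans (sb E69540 (iv6 D117216)))).symm
theorem E73175 : n74532 = n25954 := (((D25954).symm.trans (sb E69542 (tr D150651 E70493)))).symm
theorem E73176 : n138666 = n25955 := (((D25955).symm.trans (sb E69542 (tr D150652 E72915)))).symm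
theorem E73177 : n150650 = n25948 := ((((iv4 F41011)).symm.trans (sb E69542 (iv4 F237190)))).symm
theorem E73178 : n70145 = n25957 := (((D25957).symm.trans (sb E69542 F107561))).symm
theorem E73179 : n32885 = n25958 := (((D25958).symm.trans (sb E69542 (iv6 D71013)))).symm
theorem E73180 : n145213 = n7004 := (E72912).trans E73043
theorem E73183 : n25959 = n15410 := ((D25959).symm.trans (sb E69544 (iv6 D32542)))
theorem E73184 : n25960 = n18807 := ((D25960).symm.trans (sb E69545 (iv1 F30045)))
theorem E73185 : n25962 = n7426 := ((D25962).symm.trans (sb E69545 (iv5 D15837)))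
theorem E73186 : n25963 = n17729 := ((D25963).symm.trans (sb E69545 (iv7 F41750)))
theorem E73189 : n131777 = n31341 := (((D31341).symm.trans (sb E69549 (iv3 F211142)))).symm
theorem E73190 : n31342 = n29300 := ((D31342).symm.trans (sb E69549 (iv5 D61830)))
theorem E73191 : n85997 = n31343 := (((D31343).symm.trans (sb E69549 (iv6 F131932)))).symm
theorem E73192 : n131783 = n31330 := (((D31330).symm.trans (sb E69550 (iv3 F211154)))).symm
theorem F312705 : act 0 n68783 = n35074 := (sb E69551 (iv1 D76740))
theorem F312706 : act 2 n68783 = n70283 := (sb E69551 F131641)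
theorem E73193 : n146617 = n105436 := (((iv3 F233413)).symm.trans (sb E69551 F192429))
theorem F312707 : act 4 n68783 = n54347 := (sb E69551 (iv4 F131640))
theorem E73195 : n160193 = n31159 := (((E70598).symm.trans ((F183835).symm.trans (sb E69551 D160193)))).symm
theorem E73196 : n150597 = n68582 := ((F237129).symm.trans (sb E69552 (iv1 D146258)))
theorem E73197 : n119883 = n70256 := ((((iv0 F185035)).symm.trans (sb E69552 F229567))).symm
theorem F312708 : act 1 n68733 = n35074 := (sb E69553 (iv0 D76739))
theorem E73199 : n160189 = n146662 := ((((iv3 F229963)).symm.trans (sb E69553 D160189))).symm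
theorem F312709 : act 4 n68733 = n54346 := (sb E69553 F131646)
theorem F312710 : act 7 n68733 = n70283 := (sb E69553 (iv7 F131644))
theorem E73202 : n70240 = n65650 := ((((iv1 F102325)).symm.trans (sb E69554 F215463))).symm
theorem E73203 : n151000 = n31003 := ((((iv0 D66410)).symm.trans (sb E69554 (iv0 F237705)))).symm
theorem F312711 : act 5 n66410 = n68546 := (sb E69554 F185031)
theorem F312712 : act 6 n66410 = n54346 := (sb E69554 (iv6 D117973))
theorem E73204 : n149289 = n148640 := (((D148640).symm.trans (sb E69555 F307090))).symm
theorem E73205 : n148642 = n73738 := ((D148642).symm.trans (sb E69555 F189315))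
theorem F312713 : act 5 n69658 = n55190 := (sb E69555 (iv5 D119912))
theorem E73206 : n148644 = n68598 := ((D148644).symm.trans (sb E69555 F307092))
theorem E73207 : n146254 = n68386 := ((((iv5 F131077)).symm.trans (sb E69557 (iv5 F229554)))).symm
theorem F312714 : act 6 n31911 = n32333 := (sb E69557 (iv6 D69660))
theorem F312715 : act 6 n119775 = n65332 := (sb E69559 (iv6 D139187))
theorem F312716 : act 3 n35965 = n34347 := (sb E69561 (iv3 D74960))
theorem E73216 : n34206 = n26370 := (((D26370).symm.trans (sb E69562 (iv5 D74609)))).symm
theorem F312717 : act 6 n12578 = n7689 := (sb E69567 (iv6 D16556))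
theorem F312718 : act 1 n32230 = n36372 := (sb E69569 F110202)
theorem E73234 : n149371 = n54060 := (((F85285).symm.trans (sb E69569 (iv5 F234859)))).symm
theorem F312719 : act 0 n32322 = n36372 := (sb E69570 F110196)
theorem E73236 : n149372 = n54059 := (((F85292).symm.trans (sb E69570 (iv5 F234889)))).symm
theorem E73238 : n146693 = n36337 := ((D146693).symm.trans (sb E69571 F110257))
theorem F312720 : act 5 n68766 = n36372 := (sb E69571 F110256)
theorem E73240 : n70100 = n54302 := (((F104961).symm.trans (sb E69571 F110255))).symm
theorem F312721 : act 7 n26251 = n36372 := (sb E69572 (iv7 F57118))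
theorem F312722 : act 1 n32059 = n53810 := (sb E69578 (iv0 D116792))
theorem E73245 : n66870 = n15123 := (((F50677).symm.trans (sb E69578 F182336))).symm
theorem E73246 : n146295 = n142650 := ((((iv3 F225533)).symm.trans (sb E69579 D146295))).symm
theorem E73247 : n142651 = n31912 := ((D142651).symm.trans (sb E69579 (iv4 D68604)))
theorem F312723 : act 1 n32335 = n54102 := (sb E71655 F131153)
theorem E73249 : n146289 = n69657 := ((((iv3 F106006)).symm.trans (sb E71655 D146289))).symm
theorem F312724 : act 4 n32335 = n31911 := (sb E71655 (iv4 D68599))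
theorem F312725 : act 7 n32335 = n68942 := (sb E71655 F131081)
theorem F312726 : act 4 n32059 = n67347 := (sb E69581 (iv4 D143775))
theorem E73253 : n116436 = n54313 := ((((iv1 F311597)).symm.trans (sb E69582 (iv1 F226435)))).symm
theorem F312727 : act 7 n32058 = n67347 := (sb E69582 (iv7 D143776))
theorem F312728 : act 1 n63672 = n82511 := (sb E69583 (iv0 D172277))
theorem E73254 : n152624 = n62432 := (((iv3 F267791)).symm.trans (sb E69584 (iv3 D133052)))
theorem F312729 : act 7 n119374 = n131689 := (sb E69584 (iv7 F217734))
theorem E73255 : n131689 = n84909 := ((((iv1 F188047)).symm.trans (sb E69585 F234348))).symm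
theorem F312730 : act 3 n119377 = n69903 := (sb E69585 (iv3 D149034))
theorem F312731 : act 4 n119377 = n74887 := (sb E69585 F234346)
theorem F312732 : act 0 n114721 = n52953 := (sb E69586 (iv1 D114735))
theorem F312733 : act 1 n114721 = n83685 := (sb E69586 F178841)
theorem F312734 : act 3 n114721 = n58115 := (sb E69586 F309816)
theorem F312735 : act 4 n114721 = n56084 := (sb E69586 F309817)
theorem F312736 : act 6 n114721 = n85652 := (sb E69586 F309818)
theorem F312737 : act 7 n114721 = n58151 := (sb E69586 F309819)
theorem E73256 : n159788 = n144907 := (((D144907).symm.trans (sb E69587 F290305))).symm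
theorem F312738 : act 1 n67934 = n52947 := (sb E69587 F290306)
theorem E73257 : n159513 = n117099 := ((((iv2 F183140)).symm.trans (sb E69587 F290307))).symm
theorem E73258 : n117187 = n52933 := (((iv4 F183350)).symm.trans (sb E69587 (iv4 D114686)))
theorem E73259 : n159785 = n144909 := (((D144909).symm.trans (sb E69587 F290308))).symm
theorem E73260 : n90245 = n68431 := ((D90245).symm.trans (sb E69588 (iv1 D145943)))
theorem E73261 : n144926 = n90144 := ((((iv0 F142983)).symm.trans (sb E69588 F229174))).symm
theorem E73263 : n144923 = n90247 := (((D90247).symm.trans (sb E69588 (iv7 F230006)))).symm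
theorem F312739 : act 7 n73325 = n52947 := (sb E69589 (iv7 D114722))
theorem E73264 : n119095 = n68002 := ((D119095).symm.trans (sb E69590 (iv1 F228009)))
theorem E73265 : n119096 = n67997 := ((D119096).symm.trans (sb E69590 (iv0 D145059)))
theorem E73266 : n147311 = n119094 := ((((iv7 F187356)).symm.trans (sb E69590 F242914))).symm
theorem F312740 : act 0 n69327 = n119080 := (sb E69591 F248579)
theorem E73267 : n144951 = n75150 := ((F227926).symm.trans (sb E69591 (iv4 D157725)))
theorem E73268 : n145039 = n114489 := (((iv7 F247822)).symm.trans (sb E69591 F248578))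
theorem F312741 : act 2 n95911 = n72927 := (sb E69592 (iv2 F192138))
theorem F312742 : act 3 n95911 = n75849 := (sb E69592 F192140)
theorem F312743 : act 4 n95911 = n95331 := (sb E69592 F307409)
theorem F312744 : act 5 n95911 = n58306 := (sb E69592 F192137)
theorem F312745 : act 6 n95911 = n169837 := (sb E69592 F307410)
theorem F312746 : act 7 n95911 = n86407 := (sb E69592 F307411)
theorem F312747 : act 0 n81443 = n44773 := (sb E69593 (iv1 D95912))
theorem F312748 : act 1 n81443 = n44778 := (sb E69593 F147569)
theorem F312749 : act 0 n95901 = n72927 := (sb E69594 F192099)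
theorem F312750 : act 1 n95901 = n86407 := (sb E69594 F307406)
theorem F312751 : act 3 n95901 = n159892 := (sb E69594 (iv3 F252123))
theorem F312752 : act 5 n95901 = n55515 := (sb E69594 (iv5 D120554))
theorem F312753 : act 6 n95901 = n69281 := (sb E69594 F192097)
theorem F312754 : act 5 n26801 = n44773 := (sb E69596 (iv5 D95914))
theorem F312755 : act 0 n95915 = n146708 := (sb E69597 (iv1 F243003))
theorem F312756 : act 1 n95915 = n117281 := (sb E69597 (iv0 F242993))
theorem F312757 : act 2 n95915 = n69281 := (sb E69597 F192141)
theorem F312758 : act 3 n95915 = n147416 := (sb E69597 (iv3 F231166))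
theorem F312759 : act 5 n95915 = n69107 := (sb E69597 F192142)
theorem F312760 : act 7 n95915 = n146714 := (sb E69597 (iv7 F243018))
theorem F312761 : act 2 n69251 = n44778 := (sb E69598 F147571)
theorem F312762 : act 4 n69251 = n44776 := (sb E69598 F147572)
theorem F312763 : act 7 n69251 = n44773 := (sb E69598 (iv7 D95916))
theorem E73269 : n170625 = n131610 := ((D170625).symm.trans (sb E69599 F248097))
theorem E73271 : n170620 = n131607 := (((iv2 F268074)).symm.trans (sb E69599 F248095))
theorem F312764 : act 4 n81789 = n74918 := (sb E69599 (iv4 D157464))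
theorem E73272 : n170627 = n139783 := ((D170627).symm.trans (sb E69599 (tr F248099 E70901)))
theorem F312765 : act 7 n81789 = n131608 := (sb E69599 F248096)
theorem F312766 : act 3 n47259 = n83686 := (sb E69600 (iv3 D175228))
theorem E73273 : n101599 = n83692 := ((D101599).symm.trans (sb E69600 F274262))
theorem F312767 : act 3 n174294 = n83689 := (sb E69605 F274268)
theorem F312768 : act 3 n174295 = n83691 := (sb E69606 F274270)
theorem F312769 : act 2 n143741 = n83688 := (sb E69607 F274263)
theorem F312770 : act 4 n143741 = n83686 := (sb E69607 (iv4 D175229))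
theorem E73274 : n117946 = n83693 := (((iv7 F308870)).symm.trans (sb E69607 F274264))
theorem F312771 : act 3 n57451 = n83688 := (sb E69608 (iv3 D175241))
theorem F312772 : act 5 n60415 = n83688 := (sb E69609 (iv5 D175242))
theorem E73275 : n175244 = n114682 := (E69610).trans E70616
theorem F312773 : act 2 n114682 = n83693 := (sb E73275 F274273)
theorem F312774 : act 4 n114682 = n83691 := (sb E73275 F274274)
theorem F312775 : act 7 n114682 = n83688 := (sb E73275 (iv7 D175244))
theorem F312776 : act 1 n61500 = n81588 := (sb E69611 (iv0 D170120))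
theorem F312777 : act 0 n133599 = n81588 := (sb E69612 (iv1 D170121))
theorem F312778 : act 2 n133598 = n81588 := (sb E69613 (iv2 D170122))
theorem F312779 : act 3 n133598 = n149798 := (sb E69613 F267611)
theorem F312780 : act 3 n120030 = n81590 := (sb E69614 F267613)
theorem F312781 : act 6 n120030 = n81588 := (sb E69614 (iv6 D170124))
theorem F312782 : act 4 n133107 = n70537 := (sb E69615 (iv4 F310266))
theorem F312783 : act 0 n130075 = n83051 := (sb E69616 (iv1 D173652))
theorem F312784 : act 1 n130075 = n83980 := (sb E69616 F272139)
theorem F312785 : act 0 n130072 = n83980 := (sb E69617 (iv1 F272135))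
theorem F312786 : act 1 n130072 = n83051 := (sb E69617 (iv0 D173651))
theorem F312787 : act 1 n34604 = n62469 := (sb E69618 (iv0 D133148))
theorem F312788 : act 0 n34452 = n62469 := (sb E69619 (iv1 D133149))
theorem F312789 : act 2 n34605 = n62469 := (sb E69620 (iv2 D133150))
theorem F312790 : act 0 n133152 = n83126 := (sb E69621 (iv1 F300809))
theorem F312791 : act 1 n133152 = n83117 := (sb E69621 (iv0 F300807))
theorem F312792 : act 2 n133152 = n75687 := (sb E69621 F248872)
theorem F312793 : act 6 n133152 = n83988 := (sb E69621 F248873)
theorem E73279 : n130463 = n75691 := ((F213897).symm.trans (sb E69621 F248874))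
theorem F312794 : act 3 n34606 = n28981 := (sb E69622 (iv3 D61210))
theorem E73280 : n130464 = n75692 := (((D75692).symm.trans (sb E69622 D130464))).symm
theorem F312795 : act 7 n34606 = n62469 := (sb E69622 (iv7 F209001))
theorem F312796 : act 0 n101656 = n83576 := (sb E69636 (iv1 F271834))
theorem F312797 : act 1 n101656 = n83571 := (sb E69636 (iv0 F156568))
theorem F312798 : act 2 n101656 = n77845 := (sb E69636 (iv2 F309565))
theorem F312799 : act 5 n60304 = n45210 := (sb E69639 (iv5 D96747))
theorem F312800 : act 6 n80553 = n78291 := (sb E69641 (iv6 D162861))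
theorem F312801 : act 5 n40130 = n74433 := (sb E69642 (iv5 D156525))
theorem F312802 : act 1 n37356 = n74904 := (sb E72481 (iv0 D157452))
theorem F312803 : act 6 n71167 = n65067 := (sb E69644 (iv6 D138569))
theorem F312804 : act 0 n81477 = n65067 := (sb E69647 (iv1 F221722))
theorem F312805 : act 1 n81477 = n65066 := (sb E69647 F221723)
theorem E73285 : n169881 = n144480 := (E70327).trans E70341
theorem E73286 : n180013 = n65048 := ((D180013).symm.trans (sb E69648 F221673))
theorem E73287 : n156329 = n118291 := (((E72479).symm.trans ((D180015).symm.trans (sb E69648 (iv6 F245669))))).symm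
theorem F312806 : act 7 n86024 = n65044 := (sb E69648 (iv7 D138481))
theorem E73288 : n178898 = n65052 := ((D178898).symm.trans (sb E69650 (iv1 D138507)))
theorem F312807 : act 1 n85303 = n65057 := (sb E69650 F221693)
theorem F312808 : act 0 n116948 = n156375 := (sb E69651 (iv1 F245762))
theorem F312809 : act 1 n116948 = n65059 := (sb E69651 (iv0 D138532))
theorem F312810 : act 0 n127554 = n65059 := (sb E69652 (iv1 D138533))
theorem F312811 : act 1 n127554 = n156375 := (sb E69652 F245760)
theorem F312812 : act 0 n138534 = n145206 := (sb E69653 F279668)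
theorem F312813 : act 3 n138534 = n181743 := (sb E69653 (iv3 F282909))
theorem F312814 : act 6 n138534 = n68460 := (sb E69653 (iv6 D146030))
theorem F312815 : act 2 n74353 = n58362 := (sb E69654 F199662)
theorem F312816 : act 4 n74353 = n58318 := (sb E69654 (iv4 D124748))
theorem F312817 : act 7 n74353 = n58345 := (sb E69654 F199663)
theorem F312818 : act 7 n124827 = n156313 := (sb E69655 (iv7 F245641))
theorem F312819 : act 0 n124828 = n138752 := (sb E69657 F232838)
theorem F312820 : act 1 n124828 = n74454 := (sb E69657 F232839)
theorem F312821 : act 2 n124828 = n138755 := (sb E69657 (iv2 F245791))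
theorem F312822 : act 7 n124828 = n138754 := (sb E69657 (iv7 F245796))
theorem F312823 : act 2 n124829 = n156319 := (sb E69658 (iv2 F245652))
theorem F312824 : act 2 n74352 = n58345 := (sb E69659 F199616)
theorem F312825 : act 7 n74352 = n58362 := (sb E69659 F199617)
theorem F312826 : act 4 n124794 = n157183 := (sb E69660 (iv4 F247376))
theorem F312827 : act 7 n124794 = n156317 := (sb E69660 (iv7 F245649))
theorem F312828 : act 0 n124795 = n74454 := (sb E69661 (iv1 F232840))
theorem F312829 : act 1 n124795 = n138752 := (sb E69661 F245647)
theorem F312830 : act 2 n124795 = n138754 := (sb E69661 (iv2 F245794))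
theorem F312831 : act 7 n124795 = n138755 := (sb E69661 (iv7 F245793))
theorem F312832 : act 2 n124796 = n156316 := (sb E69662 (iv2 F245648))
theorem E73291 : n150709 = n34109 := ((D150709).symm.trans (sb E69663 F111573))
theorem E73292 : n156328 = n150710 := (((D150710).symm.trans (sb E69663 D156328))).symm
theorem F312833 : act 6 n71061 = n34107 := (sb E69663 (iv6 D74356))
theorem F312834 : act 2 n86023 = n65066 := (sb E69664 (iv2 D138560))
theorem F312835 : act 7 n86023 = n65067 := (sb E69664 (iv7 F221733))
theorem F312836 : act 1 n138563 = n75998 := (sb E69665 F250421)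
theorem F312837 : act 2 n138563 = n75996 := (sb E69665 (iv2 F250425))
theorem F312838 : act 4 n138563 = n79862 := (sb E69665 F301537)
theorem F312839 : act 6 n138563 = n81726 := (sb E69665 (iv6 F250423))
theorem F312840 : act 7 n138563 = n75995 := (sb E69665 F250422)
theorem F312842 : act 7 n86022 = n65066 := (sb E69666 (iv7 D138565))
theorem F312843 : act 0 n138566 = n106007 := (sb E69667 F237184)
theorem F312844 : act 1 n138566 = n149328 := (sb E69667 F237183)
theorem F312845 : act 2 n138566 = n179598 := (sb E69667 (iv2 F306078))
theorem F312846 : act 5 n138566 = n71009 := (sb E69667 (iv5 D150640))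
theorem F312847 : act 7 n138566 = n179597 := (sb E69667 (iv7 F302867))
theorem F312849 : act 7 n138567 = n180009 := (sb E69668 (iv7 F280387))
theorem F312850 : act 5 n37356 = n65067 := (sb E69669 (iv5 D138568))
theorem F312851 : act 2 n86578 = n65044 := (sb E69670 F221669)
theorem F312852 : act 6 n86578 = n65042 := (sb E69670 (iv6 D138473))
theorem F312853 : act 0 n138478 = n169883 := (sb E69671 (iv1 F302290))
theorem F312854 : act 2 n138478 = n180012 := (sb E69671 (iv2 F303938))
theorem F312855 : act 4 n138478 = n86530 := (sb E69671 (iv4 D181199))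
theorem F312856 : act 7 n138478 = n180011 := (sb E69671 (iv7 F303005))
theorem F312857 : act 1 n138479 = n169883 := (sb E69672 F268082)
theorem F312859 : act 4 n138479 = n81794 := (sb E69672 (iv4 D170635))
theorem F312860 : act 7 n138479 = n180012 := (sb E69672 (iv7 F280392))
theorem F312861 : act 3 n80413 = n55287 := (sb E69675 (iv3 D120144))
theorem E73303 : n176356 = n133683 := ((D176356).symm.trans (sb E69676 (iv1 F215117)))
theorem F312862 : act 5 n84091 = n55287 := (sb E69676 (iv5 D120145))
theorem E73304 : n81665 = n67885 := ((D81665).symm.trans (sb E69677 (iv1 D144837)))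
theorem E73305 : n81666 = n67890 := ((D81666).symm.trans (sb E69677 F227753))
theorem E73306 : n81668 = n67888 := ((D81668).symm.trans (sb E69677 F227754))
theorem E73307 : n116946 = n81693 := (((D81693).symm.trans (sb E69678 (iv1 F243325)))).symm
theorem E73308 : n81694 = n31662 := ((D81694).symm.trans (sb E69678 (iv0 F243326)))
theorem E73309 : n127539 = n81692 := ((((iv3 F125622)).symm.trans (sb E69678 (iv3 F204998)))).symm
theorem E73310 : n127550 = n21215 := (((F58275).symm.trans (sb E69678 (iv4 F205014)))).symm
theorem E73311 : n127563 = n81695 := (((D81695).symm.trans (sb E69678 (iv5 F205021)))).symm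
theorem E73312 : n81696 = n28453 := ((D81696).symm.trans (sb E69678 (iv7 D59905)))
theorem F312863 : act 4 n80560 = n72563 := (sb E69687 F241093)
theorem E73313 : n129553 = n45879 := ((((iv4 F72459)).symm.trans (sb E69689 (iv4 F208917)))).symm
theorem F312864 : act 3 n26792 = n33140 := (sb E69695 (iv3 D71677))
theorem E73316 : n152032 = n55489 := (((D55489).symm.trans (sb E69695 D152032))).symm
theorem E73317 : n152033 = n55490 := (((D55490).symm.trans (sb E69695 D152033))).symm
theorem F312865 : act 4 n34725 = n74904 := (sb E69699 F248056)
theorem F312866 : act 4 n37257 = n62562 := (sb E69700 (iv4 D133304))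
theorem F312867 : act 4 n37387 = n62563 := (sb E69701 (iv4 D133309))
theorem E73318 : n81717 = n81656 := (((F267771).symm.trans (sb E69702 (iv3 D170456)))).symm
theorem E73319 : n154748 = n154720 := ((D154748).symm.trans (iv0 (sb E69704 (tr (iv1 F302847) E72328))))
theorem F312868 : act 1 n154720 = n79729 := (sb E69704 (iv0 D166065))
theorem F312869 : act 2 n154720 = n177056 := (sb E69704 F301143)
theorem F312870 : act 7 n154720 = n177057 := (sb E69704 F301145)
theorem F312871 : act 0 n154719 = n79729 := (sb E69707 (iv1 D166066))
theorem F312872 : act 2 n154719 = n177057 := (sb E69707 F301146)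
theorem F312873 : act 7 n154719 = n177056 := (sb E69707 F301148)
theorem F312874 : act 3 n119200 = n73383 := (sb E69711 F243406)
theorem F312875 : act 7 n119200 = n73377 := (sb E69711 (iv7 D154727))
theorem F312876 : act 6 n154737 = n81461 := (sb E69712 F267273)
theorem F312877 : act 4 n76015 = n72562 := (sb E69718 (iv4 D153487))
theorem F312878 : act 3 n55377 = n49852 := (sb E69724 (iv3 D107929))
theorem F312879 : act 0 n153790 = n84460 := (sb E69729 F300145)
theorem F312880 : act 2 n153790 = n84463 := (sb E69729 F300147)
theorem F312881 : act 4 n153790 = n80472 := (sb E69729 (iv4 D167685))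
theorem F312882 : act 5 n153790 = n84545 := (sb E69729 F300148)
theorem F312883 : act 7 n153790 = n84354 := (sb E69729 F300149)
theorem F312884 : act 0 n38940 = n72754 := (sb E69730 (iv1 D153791))
theorem F312885 : act 0 n151156 = n84463 := (sb E69731 (iv1 F276352))
theorem F312886 : act 1 n151156 = n84354 := (sb E69731 (iv0 D176985))
theorem F312887 : act 7 n151156 = n84460 := (sb E69731 F276351)
theorem F312888 : act 4 n153792 = n84525 := (sb E69733 F276660)
theorem F312889 : act 0 n149036 = n121989 := (sb E69735 (iv1 F273348))
theorem E73322 : n131604 = n83388 := (((iv0 F234358)).symm.trans (sb E69735 (iv0 D174467)))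
theorem F312890 : act 2 n149036 = n121991 := (sb E69735 (iv2 F273344))
theorem F312891 : act 7 n149036 = n84933 := (sb E69735 F273347)
theorem F312892 : act 4 n36770 = n33485 := (sb E69740 F109052)
theorem F312893 : act 4 n29718 = n45219 := (sb E69743 (iv4 D96760))
theorem E73326 : n177129 = n62798 := (((D62798).symm.trans (sb E69743 (iv6 F276543)))).symm
theorem F312894 : act 1 n160135 = n81734 := (sb E69752 F267924)
theorem F312895 : act 2 n160135 = n167879 := (sb E69752 (iv2 F302810))
theorem F312896 : act 5 n160135 = n167879 := (sb E69752 (iv5 F302812))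
theorem F312897 : act 4 n36772 = n62564 := (sb E69757 F214277)
theorem E73327 : n63242 = n18428 := ((((iv0 F296721)).symm.trans (sb E69761 (iv0 D134589)))).symm
theorem E73328 : n130678 = n39951 := (((D39951).symm.trans (sb E69761 F216570))).symm
theorem E73329 : n82509 = n63240 := (((iv5 F127157)).symm.trans (sb E69762 (iv5 D134584)))
theorem E73330 : n130761 = n34624 := (((iv1 F214800)).symm.trans (sb E69763 (iv1 D75721)))
theorem E73331 : n132301 = n34644 := ((D132301).symm.trans (sb E69763 F113579))
theorem E73332 : n158746 = n62643 := (((F97717).symm.trans (sb E69763 D158746))).symm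
theorem F312898 : act 5 n62071 = n38249 := (sb E69763 F298116)
theorem E73333 : n158747 = n132302 := (((D132302).symm.trans (sb E69763 D158747))).symm
theorem E73334 : n84113 = n60855 := (((F209653).symm.trans (sb E69763 (iv7 F129128)))).symm
theorem F312899 : act 3 n38757 = n60857 := (sb E69764 F207660)
theorem F312900 : act 0 n96664 = n69108 := (sb E69767 F243071)
theorem F312901 : act 2 n96664 = n69111 := (sb E69767 F243073)
theorem F312902 : act 3 n96664 = n54217 := (sb E69767 (iv3 D117703))
theorem F312903 : act 5 n96664 = n124797 := (sb E69767 F243074)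
theorem F312904 : act 7 n96664 = n69110 := (sb E69767 F243075)
theorem F312905 : act 1 n96665 = n69108 := (sb E69768 F243021)
theorem F312906 : act 2 n96665 = n69110 := (sb E69768 F243022)
theorem F312907 : act 3 n96665 = n68782 := (sb E69768 F230046)
theorem F312908 : act 5 n96665 = n124798 := (sb E69768 (iv5 F243043))
theorem F312909 : act 6 n96665 = n68776 := (sb E69768 (iv6 D146717))
theorem F312910 : act 7 n96665 = n69111 := (sb E69768 F243023)
theorem E73336 : n127553 = n45422 := (((D45422).symm.trans (sb E69769 (iv0 F243232)))).symm
theorem E73337 : n69109 = n45424 := (((D45424).symm.trans (sb E69769 (iv7 D147422)))).symm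
theorem F312911 : act 7 n32152 = n45141 := (sb E69770 (iv7 D96667))
theorem F312912 : act 0 n33119 = n45118 := (sb E69771 (iv1 D96635))
theorem F312913 : act 1 n61660 = n45118 := (sb E69772 (iv0 D96634))
theorem F312914 : act 2 n61662 = n77668 := (sb E69773 F187600)
theorem F312915 : act 7 n61662 = n54865 := (sb E69773 (iv7 D119225))
theorem F312916 : act 0 n61647 = n54865 := (sb E69780 (iv1 D119223))
theorem F312917 : act 1 n61647 = n77668 := (sb E69780 F187597)
theorem F312918 : act 0 n61666 = n77668 := (sb E69781 (iv1 F187602))
theorem F312919 : act 1 n61666 = n54865 := (sb E69781 (iv0 D119222))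
theorem F312920 : act 3 n131469 = n77686 := (sb E69782 F255700)
theorem F312921 : act 5 n131469 = n77668 := (sb E69782 F255701)
theorem E73338 : n131372 = n77667 := (((iv7 F210738)).symm.trans (sb E69782 (iv7 D161703)))
theorem F312922 : act 5 n29575 = n45118 := (sb E69788 (iv5 D96636))
theorem F312923 : act 4 n34311 = n45196 := (sb E69794 (iv4 D96735))
theorem F312924 : act 6 n98886 = n46279 := (sb E69797 (iv6 D98893))
theorem F312925 : act 0 n138309 = n150688 := (sb E69800 F278946)
theorem F312926 : act 1 n138309 = n150687 := (sb E69800 F278947)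
theorem F312927 : act 7 n138309 = n150685 := (sb E69800 F278948)
theorem F312928 : act 1 n48974 = n65002 := (sb E69801 (iv0 D138386))
theorem F312929 : act 0 n70996 = n65002 := (sb E69802 (iv1 D138387))
theorem F312930 : act 5 n70482 = n65002 := (sb E69803 (iv5 D138388))
theorem F312931 : act 7 n71050 = n65002 := (sb E69804 (iv7 D138389))
theorem F312932 : act 6 n128010 = n74354 := (sb E69805 (iv6 D156321))
theorem E73339 : n158140 = n37932 := ((D158140).symm.trans (sb E69811 (iv1 D82607)))
theorem E73340 : n158141 = n119238 := ((D158141).symm.trans (sb E69811 F187673))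
theorem E73341 : n172554 = n157983 := ((((iv2 F248863)).symm.trans (sb E69811 (iv2 F270735)))).symm
theorem E73342 : n172555 = n158137 := ((((iv3 F249086)).symm.trans (sb E69811 D172555))).symm
theorem F312933 : act 1 n131596 = n70916 := (sb E69812 (iv0 D150483))
theorem F312934 : act 1 n46055 = n84719 := (sb E69815 (iv0 D177972))
theorem F312935 : act 0 n175565 = n84719 := (sb E69816 (iv1 D177973))
theorem F312936 : act 4 n175533 = n84719 := (sb E69817 (iv4 D177975))
theorem F312937 : act 3 n129213 = n83866 := (sb E69822 F275048)
theorem F312938 : act 3 n167488 = n83028 := (sb E69823 (iv3 D173581))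
theorem E73345 : n174640 = n62379 := ((((iv3 F97272)).symm.trans (sb E69824 (iv3 F303464)))).symm
theorem F312939 : act 0 n128093 = n62373 := (sb E69825 (iv1 F213165))
theorem F312940 : act 1 n128093 = n62392 := (sb E69825 (iv0 F213168))
theorem F312941 : act 2 n128093 = n60736 := (sb E69825 F207422)
theorem F312942 : act 5 n128093 = n60735 := (sb E69825 (iv5 D129198))
theorem F312943 : act 7 n128093 = n62388 := (sb E69825 (iv7 F212098))
theorem F312944 : act 4 n83665 = n60736 := (sb E69826 (iv4 D129202))
theorem F312945 : act 7 n83665 = n130059 := (sb E69826 (iv7 F208504))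
theorem E73350 : n173727 = n130148 := (((D130148).symm.trans (sb E69828 (iv3 F303640)))).symm
theorem F312946 : act 2 n57751 = n28951 := (sb E69829 F95607)
theorem E73354 : n75672 = n28949 := (((iv5 F303385)).symm.trans (sb E69829 (iv5 D61093)))
theorem E73355 : n130127 = n123967 := (((D123967).symm.trans (sb E69829 D130127))).symm
theorem F312947 : act 2 n18393 = n28938 := (sb E69833 F95577)
theorem E73358 : n38657 = n28936 := ((D38657).symm.trans (sb E69833 (iv5 D61056)))
theorem F312948 : act 0 n38751 = n28938 := (sb E69834 (iv1 D61063))
theorem E73359 : n130030 = n84104 := (((D84104).symm.trans (sb E69834 D130030))).symm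
theorem E73361 : n84105 = n29631 := ((D84105).symm.trans (sb E69834 F213051))
theorem E73363 : n165199 = n130287 := ((D165199).symm.trans (sb E69835 (iv0 F212970)))
theorem E73364 : n165191 = n130292 := (((iv2 F260442)).symm.trans (sb E69835 F214765))
theorem E73365 : n158481 = n61354 := (((iv5 F298731)).symm.trans (sb E69835 (iv5 D130774)))
theorem E73366 : n130025 = n84107 := ((((iv7 F298732)).symm.trans (sb E69835 (iv7 F214768)))).symm
theorem E73368 : n34593 = n29632 := ((((iv1 F47595)).symm.trans (sb E69837 (iv1 D75649)))).symm
theorem E73369 : n158590 = n61355 := (((D61355).symm.trans (sb E69837 D158590))).symm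
theorem F312949 : act 5 n29043 = n37809 := (sb E69837 F296985)
theorem E73370 : n158591 = n61357 := (((D61357).symm.trans (sb E69837 D158591))).symm
theorem E73371 : n84108 = n29630 := (((F214737).symm.trans (sb E69837 (iv7 F129108)))).symm
theorem F312950 : act 1 n38754 = n28938 := (sb E69839 (iv0 D61062))
theorem E73373 : n135312 = n39684 := ((((iv4 F301583)).symm.trans (sb E69840 (iv4 F217549)))).symm
theorem E73374 : n158587 = n61359 := (((iv5 F249767)).symm.trans (sb E69840 (iv5 D130797)))
theorem E73375 : n158588 = n61360 := (((D61360).symm.trans (sb E69842 D158588))).symm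
theorem F312951 : act 5 n29044 = n38467 := (sb E69842 F113494)
theorem E73376 : n158589 = n61362 := (((D61362).symm.trans (sb E69842 D158589))).symm
theorem E73377 : n75673 = n62347 := (((D62347).symm.trans (sb E69844 D75673))).symm
theorem F312952 : act 5 n29492 = n38658 := (sb E69844 (iv5 F61168))
theorem E73378 : n75674 = n62349 := (((D62349).symm.trans (sb E69844 D75674))).symm
theorem E73379 : n75682 = n62339 := (((D62339).symm.trans (sb E69847 (iv4 F113544)))).symm
theorem E73380 : n75683 = n62341 := (((D62341).symm.trans (sb E69847 D75683))).symm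
theorem E73381 : n75326 = n62343 := (((D62343).symm.trans (sb E69848 (iv3 F112941)))).symm
theorem E73382 : n75341 = n62344 := (((D62344).symm.trans (sb E69848 D75341))).symm
theorem E73383 : n75330 = n62346 := (((D62346).symm.trans (sb E69848 (iv6 F112945)))).symm
theorem E73384 : n158720 = n62350 := (((D62350).symm.trans (sb E69849 (iv1 F249906)))).symm
theorem E73385 : n98186 = n62351 := (((D62351).symm.trans (sb E69849 F249183))).symm
theorem E73386 : n83047 = n62352 := (((D62352).symm.trans (sb E69849 F249181))).symm
theorem E73388 : n175946 = n62360 := (((D62360).symm.trans (sb E69850 (iv5 F275297)))).symm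
theorem E73389 : n75677 = n28939 := (((D28939).symm.trans (sb E69851 D75677))).symm
theorem E73390 : n83952 = n35632 := (E69862).trans E71840
theorem E73391 : n39810 = n38665 := (((iv1 F60637)).symm.trans (sb E73390 (iv1 D83952)))
theorem E73392 : n175918 = n35819 := ((((iv2 F56476)).symm.trans (sb E73390 (iv2 F275289)))).symm
theorem F312954 : act 4 n35632 = n175920 := (sb E73390 D175920)
theorem E73396 : n175913 = n78153 := (((D78153).symm.trans (sb E73390 F275288))).symm
theorem F312955 : act 1 n61108 = n38665 := (sb E69863 (iv0 D83951))
theorem E73397 : n78153 = n62363 := (((F208933).symm.trans (sb E69863 (tr D175913 E73396)))).symm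
theorem E73402 : n62362 = n35819 := ((F208934).symm.trans (sb E69863 (tr D175918 E73392)))
theorem E73403 : n175923 = n130184 := ((D175923).symm.trans (sb E69864 (iv1 F213484)))
theorem F312958 : act 2 n33189 = n30627 := (sb E69865 F100995)
theorem F312959 : act 5 n33189 = n30625 := (sb E69865 (iv5 D65255))
theorem F312960 : act 5 n62060 = n60197 := (sb E69866 (iv5 D128094))
theorem E73406 : n175080 = n130295 := (((D130295).symm.trans (sb E69867 F274055))).symm
theorem F312961 : act 7 n61149 = n38586 := (sb E69867 (iv7 D83727))
theorem E73407 : n162779 = n130313 := (((D130313).symm.trans (sb E69869 (iv7 F257050)))).symm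
theorem F312962 : act 5 n61128 = n83732 := (sb E69870 (iv5 D175335))
theorem E73408 : n173722 = n119658 := ((((iv0 F306860)).symm.trans (sb E69871 (iv0 F272288)))).symm
theorem E73409 : n176284 = n130211 := ((((iv2 F208732)).symm.trans (sb E69871 F275580))).symm
theorem E73410 : n130218 = n83652 := ((D130218).symm.trans (sb E69871 F206461))
theorem F312963 : act 7 n61126 = n83732 := (sb E69871 F206462)
theorem F312964 : act 4 n125151 = n108194 := (sb E69872 F246058)
theorem E73411 : n175043 = n130262 := (((D130262).symm.trans (sb E69874 (iv1 F309620)))).symm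
theorem E73412 : n130263 = n119403 := ((D130263).symm.trans (sb E69874 (iv0 F307084)))
theorem F312965 : act 2 n61138 = n38583 := (sb E69874 (iv2 D83708))
theorem E73413 : n175143 = n130219 := ((((iv3 F208741)).symm.trans (sb E69874 (iv3 F274119)))).symm
theorem E73414 : n175294 = n130264 := (((D130264).symm.trans (sb E69874 D175294))).symm
theorem E73415 : n166284 = n130265 := (((D130265).symm.trans (sb E69874 (iv7 F307082)))).symm
theorem E73416 : n129970 = n75611 := ((F208349).symm.trans (sb E69875 F201116))
theorem F312966 : act 5 n61118 = n38586 := (sb E69875 (iv5 D83726))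
theorem E73418 : n175323 = n130195 := (((D130195).symm.trans (sb E69875 (iv6 F274370)))).symm
theorem F312967 : act 5 n64992 = n58526 := (sb E69876 (iv5 D125155))
theorem F312968 : act 7 n64992 = n60345 := (sb E69876 F201130)
theorem E73421 : n135342 = n128267 := (((D128267).symm.trans (sb E69879 F246761))).symm
theorem E73422 : n128993 = n128268 := (((D128268).symm.trans (sb E69879 F246758))).symm
theorem F312969 : act 5 n70585 = n108207 := (sb E69881 F246764)
theorem E73424 : n128264 = n30031 := ((D128264).symm.trans (sb E69882 F98951))
theorem E73425 : n128265 = n30029 := ((D128265).symm.trans (sb E69882 (iv5 D63602)))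
theorem E73426 : n135286 = n98146 := ((((iv6 F300720)).symm.trans (sb E69882 D135286))).symm
theorem E73427 : n74577 = n72729 := ((D74577).symm.trans (sb E69885 (iv1 F186236)))
theorem E73428 : n74578 = n72728 := ((D74578).symm.trans (sb E69885 F186237))
theorem E73429 : n74580 = n54538 := ((D74580).symm.trans (sb E69885 (iv7 D118433)))
theorem F312970 : act 7 n135384 = n72446 := (sb E69888 (iv7 D153335))
theorem E73430 : n86317 = n83988 := (((iv1 F132280)).symm.trans (sb E69889 (iv1 D176038)))
theorem E73431 : n173624 = n92461 := ((((iv1 F142265)).symm.trans (sb E69890 (iv1 F272101)))).symm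
theorem E73432 : n92464 = n38653 := (((iv0 F142273)).symm.trans (sb E69890 (iv0 D83924)))
theorem E73436 : n175837 = n88480 := ((((iv5 F135466)).symm.trans (sb E69890 D175837))).symm
theorem F312971 : act 3 n101646 = n66480 := (sb E69892 F224807)
theorem F312972 : act 5 n101646 = n66479 := (sb E69892 (iv5 D141788))
theorem F312973 : act 4 n7593 = n15088 := (sb E69894 (iv4 F104980))
theorem E73439 : n73578 = n54047 := ((((iv3 F85276)).symm.trans (sb E69895 D73578))).symm
theorem E73440 : n73579 = n54062 := ((((iv5 F85289)).symm.trans (sb E69895 D73579))).symm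
theorem E73442 : n73582 = n15090 := (((D15090).symm.trans (sb E69896 D73582))).symm
theorem F312974 : act 4 n26148 = n16342 := (sb E69897 F53160)
theorem E73444 : n55176 = n32605 := (((D32605).symm.trans (sb E69898 (iv6 D119889)))).symm
theorem F312975 : act 2 n15434 = n16398 := (sb E69899 (iv2 F53127))
theorem F312976 : act 4 n15434 = n12737 := (sb E69899 (iv4 D26662))
theorem E73446 : n32610 = n16415 := ((D32610).symm.trans (sb E69899 F53126))
theorem E73455 : n68705 = n25728 := (((D25728).symm.trans (sb E69904 (iv6 D146595)))).symm
theorem F312977 : act 6 n31967 = n25705 := (sb E69905 (iv6 D52952))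
theorem F312978 : act 5 n105424 = n148597 := (sb E69908 (iv5 F247758))
theorem F312979 : act 7 n105424 = n68712 := (sb E69908 (iv7 D146620))
theorem E73459 : n73802 = n49134 := (((D49134).symm.trans (sb E69911 (iv6 D155333)))).symm
theorem F312980 : act 2 n33899 = n69788 := (sb E69913 F114725)
theorem E73462 : n89013 = n73803 := (((D73803).symm.trans (sb E69913 (iv5 F136649)))).symm
theorem F312981 : act 6 n33899 = n34959 := (sb E69913 (iv6 D76529))
theorem E73464 : n114710 = n73323 := ((((iv3 F240733)).symm.trans (sb E69914 F252791))).symm
theorem F312982 : act 4 n12481 = n26115 := (sb E69920 F181009)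
theorem E73469 : n118012 = n73865 := ((D118012).symm.trans (sb E69925 (iv6 D155413)))
theorem E73471 : n118014 = n73864 := (((D73864).symm.trans (sb E69927 D118014))).symm
theorem E73472 : n73866 = n29174 := ((D73866).symm.trans (sb E69927 F85805))
theorem F312983 : act 6 n33921 = n26276 := (sb E69927 (iv6 D54364))
theorem E73473 : n118015 = n55208 := ((((iv7 F87338)).symm.trans (sb E69927 D118015))).symm
theorem E73477 : n73868 = n6601 := (((D6601).symm.trans (sb E69930 F223365))).symm
theorem E73479 : n73858 = n30763 := ((D73858).symm.trans (sb E69931 (tr F237452 E70734)))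
theorem E73480 : n73859 = n62921 := ((D73859).symm.trans (sb E69931 (iv5 F98169)))
theorem E73481 : n118018 = n73860 := (((D73860).symm.trans (sb E69931 D118018))).symm
theorem E73482 : n118019 = n73861 := (((D73861).symm.trans (sb E69932 D118019))).symm
theorem E73483 : n73862 = n62854 := ((D73862).symm.trans (sb E69932 (iv5 F98076)))
theorem E73484 : n117214 = n31908 := ((((iv6 F53275)).symm.trans (sb E69932 F183381))).symm
theorem E73485 : n29181 = n28477 := ((D29181).symm.trans (sb E69933 F53276))
theorem E73486 : n58704 = n28924 := ((((iv4 F46567)).symm.trans (sb E69933 (iv4 F92752)))).symm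
theorem F312984 : act 5 n13885 = n16398 := (sb E69933 (iv5 D33922))
theorem E73487 : n55209 = n29182 := (((D29182).symm.trans (sb E69933 (iv7 F87341)))).symm
theorem E73488 : n55210 = n32600 := ((D55210).symm.trans (sb E69934 F85809))
theorem F312985 : act 4 n15431 = n31526 := (sb E69935 (iv4 F101402))
theorem F312986 : act 1 n33914 = n17020 := (sb E69937 (iv0 D35061))
theorem E73490 : n76666 = n73848 := (((D73848).symm.trans (sb E69937 (iv3 F247847)))).symm
theorem E73491 : n73849 = n71746 := ((D73849).symm.trans (sb E69937 (iv5 F108211)))
theorem E73492 : n76704 = n73850 := (((D73850).symm.trans (sb E69937 D76704))).symm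
theorem E73493 : n160139 = n31161 := (E69939).trans E70595
theorem E73494 : n149656 = n53670 := (E70051).trans E71105
theorem E73495 : n73850 = n66882 := ((((iv4 F102737)).symm.trans (sb E73493 (tr F252750 E73492)))).symm
theorem F312987 : act 0 n33917 = n17020 := (sb E69941 (iv1 D35062))
theorem E73496 : n76688 = n73856 := (((D73856).symm.trans (sb E69941 (iv3 F237492)))).symm
theorem E73497 : n73857 = n61410 := ((D73857).symm.trans (sb E69941 (iv5 F95901)))
theorem E73498 : n68919 = n53666 := ((((iv6 F110653)).symm.trans (sb E69941 F105919))).symm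
theorem F312988 : act 4 n31986 = n55631 := (sb E69949 F209990)
theorem E73505 : n131466 = n83204 := ((D131466).symm.trans (sb E69951 (iv2 D174032)))
theorem E73506 : n131414 = n83214 := (((iv3 F210631)).symm.trans (sb E69955 (iv3 D174057)))
theorem F312989 : act 3 n80085 = n68522 := (sb E69956 (iv3 D146131))
theorem E73507 : n166846 = n146732 := ((D166846).symm.trans (sb E69956 (iv7 F230068)))
theorem E73508 : n172793 = n69277 := ((D172793).symm.trans (sb E69957 (iv5 D147852)))
theorem F312990 : act 6 n26258 = n34181 := (sb E69959 (iv6 D74543))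
theorem F312991 : act 4 n12723 = n26147 := (sb E69961 F181833)
theorem E73513 : n31094 = n15409 := (((iv4 F49479)).symm.trans (sb E69962 (iv4 D32538)))
theorem E73518 : n117283 = n36410 := ((D117283).symm.trans (sb E69964 F87136))
theorem F312992 : act 4 n15089 = n26628 := (sb E69965 F87139)
theorem E73519 : n146585 = n52954 := (((iv3 F243129)).symm.trans (sb E69966 (iv3 D114739)))
theorem E73520 : n103161 = n68981 := ((D103161).symm.trans (sb E69967 F105190))
theorem E73521 : n103150 = n68983 := (((iv2 F158420)).symm.trans (sb E69967 (iv2 F105188)))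
theorem F312993 : act 3 n47817 = n32102 := (sb E69967 F105154)
theorem E73522 : n147090 = n23012 := ((((iv4 D47817)).symm.trans (sb E69967 (iv4 F230588)))).symm
theorem E73523 : n103163 = n32102 := ((D103163).symm.trans (sb E69967 F105155))
theorem E73524 : n103164 = n69036 := ((D103164).symm.trans (sb E69967 (iv6 F105256)))
theorem E73525 : n103165 = n32080 := ((D103165).symm.trans (sb E69967 (iv7 D68970)))
theorem E73526 : n68976 = n52955 := (((iv2 F105176)).symm.trans (sb E69968 F178850))
theorem E73530 : n166527 = n146716 := (((D146716).symm.trans (sb E69969 (iv4 F262053)))).symm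
theorem F312994 : act 1 n86598 = n81545 := (sb E69970 (iv0 D170011))
theorem F312995 : act 0 n65343 = n81545 := (sb E69971 (iv1 D170012))
theorem F312996 : act 5 n85668 = n81545 := (sb E69972 (iv5 D170013))
theorem E73532 : n101134 = n99554 := ((E71222).symm.trans ((D181338).symm.trans (sb E69973 F267454)))
theorem F312997 : act 7 n86584 = n81545 := (sb E69973 (iv7 D170014))
theorem E73533 : n117994 = n105759 := (((F243194).symm.trans (sb E69974 D117994))).symm
theorem E73535 : n105756 = n47810 := (((iv2 F243106)).symm.trans (sb E69974 F85775))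
theorem E73536 : n117163 = n103693 := ((D117163).symm.trans (sb E69974 (iv4 F159145)))
theorem F312998 : act 6 n53997 = n26280 := (sb E69974 F85776)
theorem F312999 : act 4 n107892 = n57566 := (sb E69975 F197936)
theorem F313000 : act 6 n107892 = n57564 := (sb E69975 (iv6 D123514))
theorem E73538 : n145977 = n52924 := ((((iv2 F83634)).symm.trans (sb E69976 (iv2 F247804)))).symm
theorem F313001 : act 3 n25707 = n31967 := (sb E69976 (iv3 D68704))
theorem E73539 : n145900 = n12210 := (((F40626).symm.trans (sb E69976 F229078))).symm
theorem E73540 : n146588 = n52956 := (((D52956).symm.trans (sb E69976 D146588))).symm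
theorem E73541 : n145982 = n52957 := (((D52957).symm.trans (sb E69976 (iv7 F247767)))).symm
theorem F313002 : act 6 n32162 = n45117 := (sb E69977 (iv6 D96633))
theorem F313003 : act 0 n119224 = n61702 := (sb E69978 (iv1 D131470))
theorem F313004 : act 1 n119224 = n61710 := (sb E69978 F210739)
theorem F313005 : act 4 n119224 = n131375 := (sb E69978 F210742)
theorem F313006 : act 7 n119224 = n131375 := (sb E69978 F210740)
theorem E73542 : n54800 = n31636 := ((D54800).symm.trans (sb E69982 F51129))
theorem E73543 : n54801 = n31631 := ((D54801).symm.trans (sb E69982 F51130))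
theorem F313007 : act 4 n26508 = n15182 := (sb E69982 (iv4 D32163))
theorem E73544 : n69143 = n54802 := (((D54802).symm.trans (sb E69982 D69143))).symm
theorem E73545 : n69065 = n54803 := (((D54803).symm.trans (sb E69982 (iv7 F105289)))).symm
theorem F313008 : act 1 n68978 = n45193 := (sb E69990 (iv0 D96723))
theorem E73547 : n170111 = n96724 := (((iv2 F267607)).symm.trans (iv2 (sb E69991 (tr (iv2 F230669) E69995))))
theorem F313009 : act 3 n96724 = n55552 := (sb E69991 F192155)
theorem F313010 : act 5 n96724 = n74917 := (sb E69991 F192156)
theorem F313011 : act 6 n96724 = n55532 := (sb E69991 (iv6 D120586))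
theorem F313012 : act 7 n96724 = n68800 := (sb E69991 F192157)
theorem F313013 : act 5 n37274 = n74879 := (sb E69992 (iv5 F230091))
theorem E73548 : n67887 = n45397 := (((D45397).symm.trans (sb E69993 (iv1 D144841)))).symm
theorem F313014 : act 5 n58170 = n45193 := (sb E69994 (iv5 D96725))
theorem F313015 : act 6 n58170 = n45196 := (sb E69994 F149136)
theorem E73549 : n170112 = n117249 := ((D170112).symm.trans (sb E69995 F230670))
theorem E73550 : n170114 = n153233 := ((D170114).symm.trans (sb E69995 (iv5 F240658)))
theorem E73551 : n170115 = n120558 := ((D170115).symm.trans (sb E69995 F230671))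
theorem E73552 : n170106 = n68978 := ((F267605).symm.trans (sb E69995 (iv7 D147118)))
theorem F313016 : act 0 n68800 = n96726 := (sb E69996 (iv1 F149142))
theorem F313017 : act 1 n68800 = n37274 := (sb E69996 (iv0 D81584))
theorem F313018 : act 1 n81587 = n68978 := (sb E69997 (iv0 D147116))
theorem E73557 : n158148 = n132916 := (((iv3 F249102)).symm.trans (sb E69998 (iv3 F213528)))
theorem E73558 : n158456 = n61145 := (((iv5 F249664)).symm.trans (sb E69998 (iv5 D130285)))
theorem E73559 : n61046 = n34583 := (((D34583).symm.trans (sb E69999 (iv5 D129972)))).symm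
theorem E73560 : n158450 = n133858 := ((D158450).symm.trans (sb E70000 (iv3 F215570)))
theorem E73561 : n158451 = n133514 := ((D158451).symm.trans (sb E70000 F214709))
theorem E73562 : n158480 = n132398 := ((D158480).symm.trans (sb E70002 F212446))
theorem F313019 : act 3 n75603 = n60748 := (sb E70002 (iv3 D129228))
theorem E73563 : n158482 = n129300 := ((D158482).symm.trans (sb E70002 (iv4 F207499)))
theorem F313020 : act 7 n75603 = n132280 := (sb E70002 (iv7 F211992))
theorem F313021 : act 3 n75604 = n61181 := (sb E70003 F208896)
theorem F313022 : act 2 n80543 = n133863 := (sb E70004 (iv2 F215587))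
theorem F313023 : act 6 n80543 = n61179 := (sb E70004 (iv6 D130364))
theorem F313024 : act 0 n85764 = n64992 := (sb E70005 (iv1 D138357))
theorem F313025 : act 5 n85764 = n133860 := (sb E70005 F221594)
theorem F313026 : act 1 n58546 = n64992 := (sb E70006 F222200)
theorem F313027 : act 2 n134664 = n83746 := (sb E70007 F274172)
theorem F313028 : act 5 n134664 = n83660 := (sb E70007 (iv5 D175160))
theorem F313029 : act 7 n134664 = n83751 := (sb E70007 F274173)
theorem E73564 : n156221 = n152530 := ((F245528).symm.trans (sb E70008 F239705))
theorem F313030 : act 3 n108237 = n60347 := (sb E70008 (iv3 D128352))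
theorem E73565 : n85044 = n74631 := ((((iv4 F219730)).symm.trans (sb E70008 F206474))).symm
theorem F313031 : act 7 n108237 = n85194 := (sb E70008 F234253)
theorem F313032 : act 4 n65257 = n60347 := (sb E70009 (iv4 D128353))
theorem E73566 : n158145 = n61784 := ((D158145).symm.trans (sb E70010 (iv1 D131663)))
theorem E73567 : n158146 = n133035 := ((D158146).symm.trans (sb E70010 (iv0 F217670)))
theorem E73568 : n132842 = n34486 := (((F112935).symm.trans (sb E70010 (iv2 F213379)))).symm
theorem E73569 : n152156 = n120300 := ((((iv4 F191559)).symm.trans (sb E70010 (iv4 F239214)))).symm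
theorem E73570 : n158147 = n132841 := ((D158147).symm.trans (sb E70010 (iv5 F213378)))
theorem E73571 : n158454 = n61147 := ((D158454).symm.trans (sb E70011 F208384))
theorem F313033 : act 1 n75593 = n61118 := (sb E70011 F208385)
theorem E73572 : n158455 = n60900 := ((D158455).symm.trans (sb E70011 (iv4 D129645)))
theorem F313034 : act 1 n16772 = n29522 := (sb E70012 F213340)
theorem F313035 : act 5 n16772 = n29490 := (sb E70012 (iv5 D62340))
theorem F313036 : act 5 n62338 = n34584 := (sb E70013 F113462)
theorem E73577 : n158484 = n133857 := ((D158484).symm.trans (sb E70014 (iv1 F215569)))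
theorem E73578 : n158485 = n132766 := ((D158485).symm.trans (sb E70014 (iv0 F213227)))
theorem E73579 : n158486 = n61173 := ((D158486).symm.trans (sb E70014 (iv2 D130339)))
theorem E73580 : n158487 = n63274 := ((D158487).symm.trans (sb E70014 (iv4 F212055)))
theorem E73581 : n158488 = n133255 := ((D158488).symm.trans (sb E70014 (iv5 F214208)))
theorem F313037 : act 2 n75608 = n132280 := (sb E70015 (iv2 F212453))
theorem E73582 : n158490 = n129301 := ((D158490).symm.trans (sb E70015 F212454))
theorem F313038 : act 4 n70860 = n65003 := (sb E70018 (iv4 D138390))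
theorem F313039 : act 3 n30572 = n60348 := (sb E70020 (iv3 D128356))
theorem F313040 : act 4 n65258 = n60348 := (sb E70021 (iv4 D128357))
theorem F313043 : act 0 n133875 = n181122 := (sb E70024 (iv1 F282103))
theorem F313045 : act 4 n133875 = n181131 := (sb E70024 (iv4 F282122))
theorem E73585 : n176978 = n125161 := ((((iv2 F234251)).symm.trans (sb E70028 (iv2 F276331)))).symm
theorem E73586 : n177238 = n30572 := ((((iv3 F313039)).symm.trans (sb E70028 (iv3 F276631)))).symm
theorem E73587 : n177246 = n65258 := ((((iv4 F313040)).symm.trans (sb E70028 (iv4 F276640)))).symm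
theorem E73588 : n128358 = n38936 := ((D128358).symm.trans (sb E70028 (iv6 D84447)))
theorem F313046 : act 2 n133864 = n127998 := (sb E70030 F241424)
theorem F313047 : act 4 n133864 = n72633 := (sb E70030 F241425)
theorem F313048 : act 6 n133864 = n72631 := (sb E70030 (iv6 D153599))
theorem F313049 : act 4 n61181 = n80543 := (sb E70031 (iv4 D167827))
theorem F313050 : act 4 n119056 = n69151 := (sb E70034 F231316)
theorem F313051 : act 4 n119063 = n69069 := (sb E70036 F230966)
theorem E73590 : n112578 = n84922 := (((D84922).symm.trans (sb E70037 (iv1 F175158)))).symm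
theorem F313052 : act 1 n39287 = n51013 := (sb E70037 (iv0 F170912))
theorem E73591 : n112562 = n54940 := ((((iv2 F86892)).symm.trans (sb E70037 (iv2 F175115)))).symm
theorem E73592 : n141100 = n35258 := (((E70573).symm.trans (((iv3 F116572)).symm.trans (sb E70037 (iv3 F224086))))).symm
theorem E73593 : n84924 = n50950 := ((D84924).symm.trans (sb E70037 (iv4 D110495)))
theorem E73594 : n126446 = n84910 := ((((iv6 F130122)).symm.trans (sb E70037 (iv6 F203252)))).symm
theorem E73595 : n80487 = n68306 := ((E71845).symm.trans ((D84925).symm.trans (sb E70037 F170911)))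
theorem E73596 : n84925 = n68306 := (E71845).trans E73595
theorem F313053 : act 5 n110616 = n54941 := (sb E70038 F188079)
theorem E73597 : n175085 = n52294 := ((((iv4 F82668)).symm.trans (sb E70039 (iv4 F274064)))).symm
theorem E73598 : n119136 = n112577 := (((D112577).symm.trans (sb E70039 (iv5 F188076)))).symm
theorem E73599 : n119463 = n64463 := (((D64463).symm.trans (sb E70040 F278088))).symm
theorem E73600 : n175088 = n64464 := (((D64464).symm.trans (sb E70040 F278089))).symm
theorem E73601 : n175084 = n64465 := (((D64465).symm.trans (sb E70040 F278087))).symm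
theorem E73602 : n152088 = n113170 := ((((iv0 F176332)).symm.trans (sb E70041 F278094))).symm
theorem F313054 : act 3 n110627 = n158790 := (sb E70041 (iv3 F307475))
theorem F313055 : act 6 n110627 = n95834 := (sb E70041 (iv6 F298830))
theorem E73603 : n146416 = n105438 := (((iv1 F247763)).symm.trans (sb E70047 F235252))
theorem F313056 : act 1 n144832 = n105424 := (sb E70047 (iv0 F235255))
theorem E73604 : n133736 = n105435 := ((E71852).symm.trans ((F232614).symm.trans (sb E70047 F235254)))
theorem F313057 : act 4 n144832 = n106316 := (sb E70047 F235250)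
theorem F313058 : act 5 n54314 = n70283 := (sb E70050 (iv5 D149655))
theorem E73605 : n116209 = n70284 := (((iv4 F181106)).symm.trans (sb E73494 F235257))
theorem E73606 : n116447 = n70283 := ((D116447).symm.trans (sb E73494 (iv6 D149656)))
theorem E73607 : n153720 = n48039 := ((((iv1 F159178)).symm.trans (sb E70052 F241582))).symm
theorem F313059 : act 2 n103725 = n146728 := (sb E70052 (iv2 F242959))
theorem F313060 : act 3 n103725 = n117270 := (sb E70052 (iv3 F243339))
theorem F313061 : act 5 n103725 = n147493 := (sb E70052 (iv5 F231282))
theorem F313062 : act 6 n103725 = n68982 := (sb E70052 (iv6 D147133))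
theorem F313063 : act 5 n72729 = n48034 := (sb E70053 (iv5 D103728))
theorem E73608 : n120576 = n48036 := ((D120576).symm.trans (sb E70054 F159175))
theorem F313064 : act 6 n55529 = n48034 := (sb E70054 (iv6 D103729))
theorem F313065 : act 1 n78913 = n83732 := (sb E70055 (iv0 F201078))
theorem E73609 : n38738 = n38288 := (((F120110).symm.trans (sb E70055 (iv4 D84076)))).symm
theorem E73612 : n88481 = n61453 := (((D61453).symm.trans (sb E70056 F288100))).symm
theorem E73613 : n88480 = n61455 := (((D61455).symm.trans (sb E70056 (iv6 D185774)))).symm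
theorem F313066 : act 6 n57611 = n61454 := (sb E70057 (iv6 D130996))
theorem F313067 : act 6 n78916 = n61452 := (sb E70058 (iv6 D130991))
theorem F313068 : act 0 n69062 = n81567 := (sb E70059 F300264)
theorem F313069 : act 1 n69062 = n81564 := (sb E70059 F300265)
theorem E73614 : n170475 = n147303 := ((((iv4 F230946)).symm.trans (sb E70059 F300266))).symm
theorem F313070 : act 7 n69062 = n81764 := (sb E70059 F300267)
theorem F313071 : act 2 n52697 = n81765 := (sb E70060 F267541)
theorem F313072 : act 4 n52697 = n81564 := (sb E70060 (iv4 D170065))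
theorem F313073 : act 0 n114163 = n81560 := (sb E70061 (iv1 D170055))
theorem F313074 : act 1 n114163 = n81749 := (sb E70061 F267507)
theorem F313075 : act 2 n114163 = n81746 := (sb E70061 F267509)
theorem E73615 : n152912 = n84477 := ((F240138).symm.trans (sb E70062 (iv5 D177328)))
theorem F313077 : act 6 n147307 = n84479 := (sb E70062 F276708)
theorem F313079 : act 5 n146983 = n80554 := (sb E70063 (iv5 D167842))
theorem F313081 : act 2 n146980 = n180870 := (sb E70064 (iv2 F281597))
theorem F313082 : act 5 n146980 = n81444 := (sb E70064 F300250)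
theorem F313083 : act 6 n146980 = n80555 := (sb E70064 (iv6 D167844))
theorem F313084 : act 6 n131256 = n81764 := (sb E70065 (iv6 D170583))
theorem E73616 : n170046 = n160134 := (((D160134).symm.trans (sb E70066 F303853))).symm
theorem F313085 : act 1 n76698 = n80572 := (sb E70066 (iv0 D167878))
theorem F313086 : act 4 n78940 = n81567 := (sb E70067 (iv4 D170070))
theorem F313087 : act 7 n78940 = n81765 := (sb E70067 F267560)
theorem F313088 : act 1 n131256 = n81788 := (sb E70068 (iv0 D170621))
theorem F313089 : act 0 n55629 = n81788 := (sb E70069 (iv1 D170622))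
theorem F313091 : act 5 n157553 = n81787 := (sb E70070 (iv5 D170619))
theorem F313092 : act 4 n52653 = n81788 := (sb E70071 (iv4 D170623))
theorem F313093 : act 3 n153740 = n81791 := (sb E70072 F268075)
theorem F313094 : act 6 n153740 = n81788 := (sb E70072 (iv6 D170624))
theorem F313095 : act 4 n78943 = n81791 := (sb E70074 F268078)
theorem F313097 : act 6 n152809 = n81794 := (sb E70075 F268079)
theorem F313098 : act 1 n76658 = n81761 := (sb E70076 (iv0 D170570))
theorem F313099 : act 3 n52702 = n81765 := (sb E70077 (iv3 D170584))
theorem F313100 : act 1 n68911 = n81766 := (sb E70078 (iv0 D170586))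
theorem F313101 : act 0 n69055 = n81766 := (sb E70079 (iv1 D170587))
theorem F313102 : act 7 n147897 = n81766 := (sb E70080 (iv7 D170589))
theorem F313103 : act 7 n133308 = n81762 := (sb E70081 (iv7 D170577))
theorem F313104 : act 3 n52722 = n81746 := (sb E70082 (iv3 D170541))
theorem F313105 : act 6 n52719 = n81746 := (sb E70083 (iv6 D170542))
theorem F313106 : act 1 n81748 = n78942 := (sb E70084 (iv0 D164366))
theorem F313107 : act 1 n46975 = n83805 := (sb E70087 (iv0 D175513))
theorem F313108 : act 2 n70024 = n83805 := (sb E70088 (iv2 D175515))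
theorem F313109 : act 2 n172410 = n83380 := (sb E70089 F304220)
theorem F313110 : act 4 n172410 = n83363 := (sb E70089 F304221)
theorem F313111 : act 6 n172410 = n176535 := (sb E70089 F304222)
theorem F313112 : act 3 n158391 = n83026 := (sb E70094 F272004)
theorem F313113 : act 6 n73151 = n74477 := (sb E70107 (iv6 D156622))
theorem F313114 : act 3 n88120 = n74489 := (sb E70108 F246349)
theorem F313115 : act 1 n48933 = n74489 := (sb E70109 (iv0 D156648))
theorem F313116 : act 0 n156650 = n145757 := (sb E70110 F250695)
theorem F313118 : act 7 n156650 = n116915 := (sb E70110 F250694)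
theorem F313119 : act 2 n119281 = n82390 := (sb E70111 (iv2 D172018))
theorem F313120 : act 7 n119281 = n82391 := (sb E70111 (iv7 F270077))
theorem F313121 : act 2 n119282 = n82391 := (sb E70112 F270078)
theorem F313122 : act 7 n119282 = n82390 := (sb E70112 (iv7 D172023))
theorem F313123 : act 6 n177047 = n86456 := (sb E70113 (iv6 D181020))
theorem F313124 : act 1 n157581 = n88269 := (sb E70114 (iv0 D185246))
theorem E73617 : n98487 = n75118 := (((iv3 F272742)).symm.trans (sb E70119 (iv3 D157671)))
theorem F313125 : act 3 n86613 = n70815 := (sb E70120 (iv3 F308991))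
theorem F313126 : act 3 n86614 = n75124 := (sb E70121 F248450)
theorem F313127 : act 3 n47165 = n55115 := (sb E70122 (iv3 D119779))
theorem F313128 : act 3 n103231 = n67551 := (sb E70123 (iv3 D144195))
theorem F313129 : act 5 n48046 = n67551 := (sb E70124 (iv5 D144197))
theorem E73618 : n62335 = n60380 := (((F163089).symm.trans (sb E70127 F208131))).symm
theorem E73619 : n130086 = n60379 := ((((iv0 F163091)).symm.trans (sb E70127 F208561))).symm
theorem F313130 : act 4 n106088 = n60953 := (sb E70127 (iv4 D129784))
theorem F313131 : act 1 n61080 = n49034 := (sb E70128 (iv0 D106093))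
theorem E73620 : n155327 = n130084 := (((D130084).symm.trans (sb E70128 F244272))).symm
theorem E73621 : n130078 = n68546 := (((iv6 F208547)).symm.trans (sb E70128 (iv6 F163108)))
theorem E73622 : n150551 = n62336 := ((D150551).symm.trans (sb E70129 F213326))
theorem F313132 : act 4 n62231 = n49034 := (sb E70130 (iv4 D106094))
theorem E73623 : n132632 = n85560 := ((D132632).symm.trans (sb E70130 F163109))
theorem F313133 : act 7 n62231 = n60381 := (sb E70130 F163110)
theorem F313134 : act 3 n54278 = n65239 := (sb E70134 F222141)
theorem E73624 : n117233 = n65235 := (((iv6 F183431)).symm.trans (sb E70134 F222142))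
theorem F313135 : act 3 n18672 = n14518 := (sb E70135 F49086)
theorem F313136 : act 5 n18672 = n14517 := (sb E70135 (iv5 D30617))
theorem F313138 : act 1 n138984 = n76141 := (sb E70136 F250347)
theorem F313139 : act 2 n138984 = n127734 := (sb E70136 F250343)
theorem E73625 : n145787 = n65242 := (((F222151).symm.trans (sb E70136 F250344))).symm
theorem F313140 : act 7 n138984 = n116919 := (sb E70136 F250345)
theorem E73626 : n117178 = n30733 := ((((iv1 F49197)).symm.trans (sb E70137 (iv1 F183324)))).symm
theorem E73627 : n65243 = n31892 := ((D65243).symm.trans (sb E70137 (iv7 D68551)))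
theorem F313141 : act 3 n55107 = n34292 := (sb E70140 F111930)
theorem F313142 : act 4 n55107 = n34181 := (sb E70140 (iv4 D74542))
theorem F313143 : act 5 n56250 = n61498 := (sb E70144 (iv5 D131093))
theorem E73633 : n129362 = n39055 := ((((iv7 F88973)).symm.trans (sb E70144 F209942))).symm
theorem E73634 : n177537 = n129361 := (((D129361).symm.trans (sb E70145 (iv3 F276972)))).symm
theorem E73635 : n177538 = n77644 := (((F305937).symm.trans (sb E70145 D177538))).symm
theorem E73636 : n143809 = n133599 := ((D143809).symm.trans (sb E70146 (iv1 F214936)))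
theorem F313144 : act 1 n67358 = n61500 := (sb E70146 (iv0 F189827))
theorem E73637 : n116802 = n71774 := (((iv2 F182367)).symm.trans (sb E70146 F189567))
theorem E73638 : n143812 = n133598 := ((D143812).symm.trans (sb E70146 (iv7 F214926)))
theorem F313145 : act 2 n120644 = n69683 := (sb E70148 (iv2 D148686))
theorem F313146 : act 7 n120644 = n69684 := (sb E70148 (iv7 F233442))
theorem F313147 : act 3 n148691 = n148353 := (sb E70149 F236286)
theorem F313148 : act 4 n148691 = n70651 := (sb E70149 (iv4 D150122))
theorem F313149 : act 6 n148691 = n105849 := (sb E70149 F236287)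
theorem F313150 : act 1 n67999 = n73562 := (sb E70150 (iv0 D154997))
theorem F313151 : act 0 n68450 = n73562 := (sb E70151 (iv1 D154998))
theorem F313152 : act 2 n120645 = n73562 := (sb E70152 (iv2 D154999))
theorem F313153 : act 5 n127740 = n73562 := (sb E70153 F234953)
theorem F313154 : act 7 n59981 = n73562 := (sb E70154 F188873)
theorem F313155 : act 1 n142636 = n73564 := (sb E70155 (iv0 D155001))
theorem F313156 : act 6 n142636 = n74991 := (sb E70155 F243725)
theorem F313157 : act 0 n65574 = n73564 := (sb E70156 (iv1 D155002))
theorem E73639 : n139689 = n117677 := (((iv3 F222868)).symm.trans (sb E70156 F243732))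
theorem F313158 : act 4 n33799 = n32230 := (sb E70157 F110639)
theorem F313159 : act 4 n33798 = n32322 := (sb E70158 F181858)
theorem F313160 : act 4 n26621 = n28483 := (sb E70160 F85617)
theorem E73646 : n145146 = n95868 := (((iv4 F228121)).symm.trans (sb E70161 (iv4 F290463)))
theorem F313161 : act 4 n32525 = n31665 := (sb E70162 F104166)
theorem E73649 : n117992 = n26114 := ((((iv1 D53994)).symm.trans (sb E70163 F234686))).symm
theorem E73650 : n117990 = n31881 := (((F85173).symm.trans (sb E70163 F234687))).symm
theorem E73651 : n79877 = n68795 := ((((iv4 F181016)).symm.trans (sb E70163 F234685))).symm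
theorem E73653 : n79876 = n68794 := ((((iv4 F182754)).symm.trans (sb E70165 F234679))).symm
theorem F313162 : act 5 n53993 = n70093 := (sb E70165 (iv5 D149301))
theorem F313163 : act 6 n68069 = n70093 := (sb E70166 (iv6 D149302))
theorem E73654 : n84877 = n68510 := ((((iv3 F104710)).symm.trans (sb E70167 D84877))).symm
theorem E73655 : n68515 = n18628 := ((D68515).symm.trans (sb E70167 (iv4 D39268)))
theorem E73656 : n68781 = n17578 := ((((iv0 D36407)).symm.trans (sb E70168 F229326))).symm
theorem E73657 : n159128 = n56256 := (((F88981).symm.trans (sb E70168 (iv2 F250538)))).symm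
theorem F313164 : act 4 n36407 = n68500 := (sb E70168 (iv4 D146084))
theorem E73658 : n159198 = n79931 := (((D79931).symm.trans (sb E70168 (iv6 F250689)))).symm
theorem E73659 : n120647 = n56257 := ((((iv7 F88985)).symm.trans (sb E70168 F229324))).symm
theorem E73660 : n131168 = n117818 := (((D117818).symm.trans (sb E70172 (iv1 F243707)))).symm
theorem E73661 : n131170 = n117819 := (((D117819).symm.trans (sb E70172 F243708))).symm
theorem E73662 : n146983 = n117820 := (((D117820).symm.trans (sb E70172 F243703))).symm
theorem E73663 : n148163 = n117822 := (((D117822).symm.trans (sb E70172 F243705))).symm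
theorem E73664 : n73527 = n32281 := (((F85606).symm.trans (sb E70172 (iv7 D154986)))).symm
theorem E73666 : n77617 = n39852 := (((F85609).symm.trans (sb E70174 (iv4 F304579)))).symm
theorem E73667 : n117824 = n71740 := ((D117824).symm.trans (sb E70174 F186589))
theorem E73668 : n54620 = n32282 := (((F85608).symm.trans (sb E70174 (iv7 D118621)))).symm
theorem E73669 : n70094 = n69574 := (((D69574).symm.trans (sb E70177 F109890))).symm
theorem F313165 : act 5 n32301 = n29180 := (sb E70177 (iv5 D61604))
theorem E73670 : n131280 = n28475 := ((((iv3 F45999)).symm.trans (sb E70181 (iv3 F210399)))).symm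
theorem F313166 : act 1 n139862 = n70131 := (sb E70184 (iv0 D149361))
theorem F313167 : act 6 n139862 = n108003 := (sb E70184 F234832)
theorem F313168 : act 0 n66412 = n70131 := (sb E70185 (iv1 D149362))
theorem E73671 : n69621 = n36323 := ((((iv7 F57048)).symm.trans (sb E70186 (iv7 D148566)))).symm
theorem F313169 : act 4 n17540 = n15234 := (sb E70188 F51344)
theorem F313170 : act 1 n76783 = n69580 := (sb E70189 (iv0 D148499))
theorem F313171 : act 1 n148500 = n160240 := (sb E70190 F253044)
theorem F313172 : act 2 n148500 = n160241 := (sb E70190 (iv2 F253054))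
theorem F313173 : act 3 n148500 = n146229 := (sb E70190 (iv3 F243382))
theorem F313174 : act 5 n148500 = n127484 := (sb E70190 F235008)
theorem F313175 : act 7 n148500 = n70165 := (sb E70190 (iv7 D149425))
theorem F313176 : act 0 n148494 = n70165 := (sb E70191 (iv1 D149424))
theorem F313177 : act 1 n148494 = n160241 := (sb E70191 F253057)
theorem F313178 : act 3 n148494 = n160202 := (sb E70191 F253041)
theorem F313179 : act 4 n148494 = n76351 := (sb E70191 F253042)
theorem F313180 : act 7 n148494 = n160240 := (sb E70191 F253043)
theorem E73675 : n131259 = n69576 := (((D69576).symm.trans (sb E70192 (iv1 F234675)))).symm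
theorem E73676 : n131263 = n69577 := (((D69577).symm.trans (sb E70192 F234676))).symm
theorem E73677 : n133951 = n69579 := (((D69579).symm.trans (sb E70192 F234673))).symm
theorem E73678 : n70089 = n54297 := ((((iv7 F85682)).symm.trans (sb E70192 (iv7 D149298)))).symm
theorem F313181 : act 6 n68334 = n69586 := (sb E70193 F233257)
theorem E73679 : n69581 = n61759 := ((D69581).symm.trans (sb E70194 (iv1 F104519)))
theorem E73680 : n69582 = n61824 := ((D69582).symm.trans (sb E70194 F98175))
theorem E73681 : n121445 = n58698 := ((((iv4 F92739)).symm.trans (sb E70194 (iv4 F305780)))).symm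
theorem E73682 : n54298 = n29768 := (((iv7 F85685)).symm.trans (sb E70194 (iv7 D62923)))
theorem E73684 : n118011 = n66413 := (((F102326).symm.trans (sb E70196 (iv0 F185202)))).symm
theorem E73685 : n146204 = n139857 := (((D139857).symm.trans (sb E70196 (iv3 F229493)))).symm
theorem E73687 : n146212 = n66451 := (((E71104).symm.trans ((D139859).symm.trans (sb E70196 D146212)))).symm
theorem E73688 : n146217 = n139855 := (((D139855).symm.trans (sb E70197 (iv3 F229511)))).symm
theorem F313183 : act 5 n65647 = n31897 := (sb E70197 (iv5 D68567))
theorem F313184 : act 6 n65647 = n32616 := (sb E70197 (iv6 F104758))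
theorem E73689 : n141601 = n31816 := ((((iv5 F85234)).symm.trans (sb E70198 (iv5 F224679)))).symm
theorem E73690 : n127325 = n81715 := (((F308839).symm.trans (sb E70199 (iv3 F204554)))).symm
theorem F313185 : act 4 n54027 = n54313 := (sb E70199 F166585)
theorem F313186 : act 6 n54027 = n28346 := (sb E70199 (iv6 D59769))
theorem E73693 : n53547 = n26133 := (((F41409).symm.trans (sb E70200 (iv0 D116183)))).symm
theorem E73695 : n143772 = n117398 := (((D117398).symm.trans (sb E70201 (iv3 F226431)))).symm
theorem F313187 : act 6 n54101 = n116783 := (sb E70201 (iv6 F182312))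
theorem F313188 : act 7 n54101 = n31308 := (sb E70201 (iv7 D67348))
theorem E73696 : n150464 = n31908 := (E70202).trans E73484
theorem E73697 : n68584 = n31005 := (((F105857).symm.trans (sb E73696 (tr F236920 E70269)))).symm
theorem E73698 : n70907 = n68595 := (((D68595).symm.trans (sb E73696 (iv5 D150464)))).symm
theorem E73699 : n68583 = n31004 := ((((iv7 F105862)).symm.trans (sb E73696 (tr F236921 E70271)))).symm
theorem E73700 : n146281 = n62853 := ((D146281).symm.trans (iv6 (sb E70203 (tr (iv6 D150465) E73698))))
theorem E73701 : n141585 = n70906 := (((iv3 F224649)).symm.trans (sb E70204 (iv3 D150460)))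
theorem E73704 : n120574 = n21323 := (E70206).trans E72966
theorem E73705 : n59928 = n44780 := (((D44780).symm.trans (sb E73704 F192148))).symm
theorem E73706 : n44776 = n44619 := ((F312762).symm.trans (sb E70207 (iv4 D95522)))
theorem F313190 : act 6 n69249 = n44619 := (sb E70208 (iv6 D95524))
theorem E73707 : n44771 = n44618 := ((D44771).symm.trans (sb E70209 (iv2 D95515)))
theorem E73708 : n59887 = n21485 := (((D21485).symm.trans (sb E70212 (iv6 D127513)))).symm
theorem F313191 : act 6 n28446 = n21432 := (sb E70213 (iv6 D44907))
theorem E73711 : n159124 = n149668 := ((D159124).symm.trans (sb E70214 (iv0 F253033)))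
theorem E73712 : n178527 = n159125 := (((D159125).symm.trans (sb E70214 (iv2 F278210)))).symm
theorem F313192 : act 4 n76046 = n68898 := (sb E70214 (iv4 D146978))
theorem E73713 : n159126 = n119359 := ((D159126).symm.trans (sb E70214 F230368))
theorem E73714 : n69536 = n33796 := (((F131609).symm.trans (sb E70215 (iv7 D148396)))).symm
theorem F313193 : act 1 n139712 = n85800 := (sb E70216 (iv0 D179664))
theorem F313194 : act 6 n139712 = n120187 := (sb E70216 F279827)
theorem F313195 : act 0 n66858 = n85800 := (sb E70217 F229469)
theorem F313196 : act 4 n55082 = n54224 := (sb E70218 (iv4 F182191))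
theorem F313197 : act 6 n16332 = n15222 := (sb E70219 (iv6 D32283))
theorem F313198 : act 7 n116939 = n149300 := (sb E70220 F261604)
theorem E73718 : n59753 = n53893 := (((iv4 F94118)).symm.trans (sb E70221 (iv4 F105663)))
theorem E73720 : n70154 = n15003 := ((((iv1 D31879)).symm.trans (sb E70222 (iv1 F234918)))).symm
theorem E73721 : n70152 = n53995 := (((F85180).symm.trans (sb E70222 (iv0 D149400)))).symm
theorem E73722 : n79782 = n68526 := (((D68526).symm.trans (sb E70222 F234915))).symm
theorem F313199 : act 4 n36325 = n59982 := (sb E70225 F181341)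
theorem E73726 : n79785 = n68522 := (((D68522).symm.trans (sb E70226 F234939))).symm
theorem E73727 : n154993 = n68500 := ((D154993).symm.trans (sb E70228 F113962))
theorem F313200 : act 6 n73535 = n48933 := (sb E70228 (iv6 F130816))
theorem F313201 : act 7 n73535 = n34745 := (sb E70228 (iv7 D76048))
theorem F313202 : act 1 n53999 = n73535 := (sb E70230 (iv0 D154991))
theorem F313203 : act 0 n54004 = n73535 := (sb E70231 (iv1 D154992))
theorem E73728 : n121745 = n73526 := ((D121745).symm.trans (sb E70232 (iv3 D154982)))
theorem F313204 : act 4 n56256 = n73535 := (sb E70232 F243694)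
theorem F313205 : act 5 n55090 = n73535 := (sb E70233 F234951)
theorem F313206 : act 1 n69035 = n69523 := (sb E70234 (iv0 D148358))
theorem F313207 : act 0 n147302 = n69523 := (sb E70235 (iv1 D148359))
theorem E73729 : n180870 = n69523 := ((F313081).symm.trans (sb E70236 F232137))
theorem E73730 : n80555 = n69520 := ((F313083).symm.trans (sb E70236 (iv6 D148349)))
theorem F313208 : act 3 n87470 = n69529 := (sb E70237 F232140)
theorem E73731 : n148371 = n135464 := (E70238).trans E70563
theorem E73732 : n139861 = n120816 := ((((iv1 F305924)).symm.trans (sb E73731 F232148))).symm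
theorem F313209 : act 4 n135464 = n69529 := (sb E73731 (iv4 D148371))
theorem E73733 : n69526 = n44474 := (((F306168).symm.trans (sb E70239 (iv5 D148367)))).symm
theorem F313210 : act 6 n75134 = n69529 := (sb E70239 F232145)
theorem E73734 : n133634 = n15220 := ((((iv3 F24825)).symm.trans (sb E70240 (iv3 F215013)))).symm
theorem E73735 : n98061 = n69518 := (((D69518).symm.trans (sb E70241 (iv1 F151206)))).symm
theorem E73736 : n84479 = n69519 := (((D69519).symm.trans (sb E70241 (iv0 F297916)))).symm
theorem E73737 : n170521 = n69521 := (((D69521).symm.trans (sb E70241 (iv4 F298597)))).symm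
theorem E73738 : n69522 = n39988 := ((D69522).symm.trans (sb E70241 F132417))
theorem E73739 : n54271 = n39987 := (((iv7 F85612)).symm.trans (sb E70241 (iv7 D86387)))
theorem E73740 : n69524 = n62569 := ((D69524).symm.trans (sb E70242 (iv1 F108213)))
theorem E73741 : n118620 = n69525 := (((D69525).symm.trans (sb E70242 F186586))).symm
theorem E73742 : n75558 = n58693 := ((((iv4 F92729)).symm.trans (sb E70242 F304930))).symm
theorem E73743 : n54272 = n33167 := (((iv7 F85615)).symm.trans (sb E70242 (iv7 D71747)))
theorem F313211 : act 6 n26239 = n26621 := (sb E70243 (iv6 D55084))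
theorem F313212 : act 0 n141594 = n68358 := (sb E70244 (iv1 D145809))
theorem F313213 : act 1 n141594 = n79854 := (sb E70244 F228945)
theorem F313214 : act 3 n141594 = n68385 := (sb E70244 F237440)
theorem F313215 : act 6 n141594 = n108401 := (sb E70244 (iv6 F228947))
theorem F313216 : act 0 n65649 = n79854 := (sb E70245 F228908)
theorem F313217 : act 1 n65649 = n68358 := (sb E70245 (iv0 F228909))
theorem E73744 : n68345 = n30755 := (((F101379).symm.trans (sb E70245 (iv6 D145775)))).symm
theorem E73745 : n117887 = n32522 := ((((iv3 F51597)).symm.trans (sb E70247 (iv3 F184865)))).symm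
theorem F313218 : act 4 n15402 = n26251 := (sb E70247 F85687)
theorem F313219 : act 6 n15402 = n26249 := (sb E70247 (iv6 D54299))
theorem E73746 : n133744 = n117849 := (((D117849).symm.trans (sb E70248 (iv1 F261585)))).symm
theorem E73747 : n133749 = n117850 := (((D117850).symm.trans (sb E70248 F261586))).symm
theorem E73748 : n150633 = n117851 := (((D117851).symm.trans (sb E70248 F305420))).symm
theorem E73749 : n117852 = n80566 := ((D117852).symm.trans (sb E70248 F305421))
theorem E73750 : n79765 = n32319 := (((F85649).symm.trans (sb E70248 (iv7 D166125)))).symm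
theorem E73751 : n68065 = n48929 := ((((iv3 F77144)).symm.trans (sb E70249 (tr (iv3 F115271) E72764)))).symm
theorem E73752 : n77672 = n39857 := (((F85652).symm.trans (sb E70250 (iv4 F303936)))).symm
theorem E73753 : n117854 = n62912 := ((D117854).symm.trans (sb E70250 (iv6 F98151)))
theorem E73754 : n32320 = n29298 := ((F85651).symm.trans (sb E70250 (iv7 D61826)))
theorem F313220 : act 6 n15232 = n17540 := (sb E70251 (iv6 D36328))
theorem F313221 : act 5 n66411 = n68545 := (sb E70257 (iv5 D146175))
theorem E73764 : n146255 = n32853 := ((((iv5 F310983)).symm.trans (sb E70262 (iv5 F229560)))).symm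
theorem E73766 : n31006 = n15049 := (((F41411).symm.trans (sb E70263 (iv0 D66424)))).symm
theorem E73770 : n67290 = n32645 := (((D32645).symm.trans (sb E70264 F182121))).symm
theorem F313222 : act 4 n15458 = n14892 := (sb E70265 F49575)
theorem E73771 : n67304 = n32653 := (((D32653).symm.trans (sb E70265 (iv5 F103190)))).symm
theorem E73772 : n97196 = n53895 := (((D53895).symm.trans (sb E70266 (iv3 F290466)))).symm
theorem F313223 : act 0 n120106 = n149202 := (sb E70270 F278605)
theorem F313224 : act 3 n120106 = n59994 := (sb E70270 F205381)
theorem F313226 : act 6 n120106 = n59991 := (sb E70270 (iv6 D127761))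
theorem F313227 : act 4 n29172 = n37327 := (sb E70272 (iv4 D81670))
theorem E73775 : n170297 = n61586 := (((D61586).symm.trans (sb E70272 (iv6 F267796)))).symm
theorem F313228 : act 5 n32839 = n29154 := (sb E70277 (iv5 F310184))
theorem F313229 : act 4 n54588 = n85130 := (sb E70278 F278497)
theorem E73776 : n139709 = n66878 := ((D139709).symm.trans (sb E70279 (iv6 D142677)))
theorem E73777 : n60387 = n31019 := (((F84476).symm.trans (sb E70280 F106885))).symm
theorem E73778 : n116204 = n39619 := ((D116204).symm.trans (sb E70280 F199782))
theorem F313230 : act 6 n53554 = n31581 := (sb E70280 (iv6 D67925))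
theorem F313231 : act 0 n148475 = n69803 := (sb E70281 (iv1 F233947))
theorem F313232 : act 1 n148475 = n69802 := (sb E70281 F233948)
theorem F313233 : act 2 n148475 = n69804 := (sb E70281 F233944)
theorem F313234 : act 3 n148475 = n114568 := (sb E70281 F233945)
theorem F313235 : act 6 n148475 = n159614 := (sb E70281 (iv6 F251439))
theorem F313236 : act 7 n148475 = n69792 := (sb E70281 (iv7 D148892))
theorem E73781 : n124522 = n117169 := ((D124522).symm.trans (sb E70282 (iv2 F243307)))
theorem E73782 : n127433 = n124523 := (((D124523).symm.trans (sb E70282 (iv3 F204832)))).symm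
theorem E73783 : n124524 = n95587 := ((D124524).symm.trans (sb E70282 (tr (iv4 F204882) E72802)))
theorem E73784 : n127439 = n124525 := (((D124525).symm.trans (sb E70282 (iv5 F204839)))).symm
theorem F313237 : act 6 n58120 = n117207 := (sb E70282 (iv6 F204933))
theorem E73785 : n124527 = n28417 := ((D124527).symm.trans (sb E70282 (iv7 D59867)))
theorem F313238 : act 2 n97248 = n81713 := (sb E70283 F267896)
theorem F313239 : act 3 n149346 = n81713 := (sb E70284 (iv3 D170442))
theorem F313240 : act 5 n59884 = n81713 := (sb E70285 F158413)
theorem E73786 : n117169 = n47811 := (((iv6 F243309)).symm.trans (sb E70285 (iv6 D103137)))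
theorem F313241 : act 6 n148500 = n81713 := (sb E70286 (iv6 D170444))
theorem F313242 : act 7 n59883 = n81713 := (sb E70287 (iv7 F267895))
theorem E73789 : n147010 = n142659 := (((D142659).symm.trans (sb E70293 D147010))).symm
theorem F313243 : act 5 n66872 = n54313 := (sb E70293 F105091)
theorem E73791 : n116437 = n31160 := (((F102723).symm.trans (sb E70293 (tr D147012 E71485)))).symm
theorem F313244 : act 1 n114017 = n81714 := (sb E70296 (iv0 D170445))
theorem F313245 : act 0 n114021 = n81714 := (sb E70297 (iv1 D170446))
theorem F313246 : act 3 n39390 = n31705 := (sb E70298 F100982)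
theorem E73795 : n138957 = n85217 := (((D85217).symm.trans (sb E70298 D138957))).symm
theorem F313247 : act 0 n68096 = n38572 := (sb E70299 (iv1 D83671))
theorem E73796 : n145260 = n38599 := ((D145260).symm.trans (sb E70299 F199928))
theorem E73797 : n175187 = n131440 := ((((iv5 F210680)).symm.trans (sb E70299 D175187))).symm
theorem E73798 : n175188 = n145261 := (((D145261).symm.trans (sb E70299 D175188))).symm
theorem F313248 : act 1 n68097 = n38572 := (sb E70300 (iv0 D83670))
theorem E73799 : n175184 = n145262 := (((D145262).symm.trans (sb E70300 D175184))).symm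
theorem E73802 : n175189 = n61717 := (((F104237).symm.trans (sb E70301 F278680))).symm
theorem E73803 : n119473 = n74805 := ((((iv7 F112266)).symm.trans (sb E70301 F278678))).symm
theorem F313249 : act 2 n34274 = n38572 := (sb E70302 F86988)
theorem F313250 : act 6 n34274 = n26586 := (sb E70302 (iv6 D54972))
theorem F313251 : act 3 n75559 = n61676 := (sb E70303 (iv3 D131406))
theorem E73804 : n151498 = n41639 := (((F155416).symm.trans (sb E70303 (iv4 F238346)))).symm
theorem E73805 : n158418 = n131548 := ((D158418).symm.trans (sb E70303 (iv5 F210797)))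
theorem F313252 : act 1 n134528 = n71815 := (sb E70304 (iv0 D152241))
theorem F313253 : act 2 n134528 = n77618 := (sb E70304 (iv2 F239304))
theorem F313254 : act 3 n134528 = n173683 := (sb E70304 (iv3 F272181))
theorem E73806 : n84171 = n63219 := ((((iv4 D134528)).symm.trans (sb E70304 F302762))).symm
theorem F313255 : act 6 n134528 = n173683 := (sb E70304 F302763)
theorem F313256 : act 7 n134528 = n175174 := (sb E70304 (iv7 F274204))
theorem F313257 : act 2 n124974 = n130059 := (sb E70305 F213578)
theorem F313258 : act 4 n124974 = n62388 := (sb E70305 (iv4 D132953))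
theorem E73807 : n175191 = n68098 := ((D175191).symm.trans (sb E70306 F209415))
theorem F313259 : act 7 n83672 = n131269 := (sb E70306 (iv7 F210361))
theorem E73808 : n134520 = n18422 := (E70307).trans E70462
theorem E73809 : n63231 = n38739 := (((D38739).symm.trans (sb E73808 F216492))).symm
theorem E73810 : n63214 = n38718 := (((F299437).symm.trans (sb E73808 (iv6 D134520)))).symm
theorem E73812 : n54230 = n25980 := (((F47606).symm.trans (sb E70313 F85567))).symm
theorem E73813 : n25939 = n15206 := ((F49081).symm.trans (sb E70313 (iv7 D32239)))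
theorem E73814 : n68512 = n54349 := ((((iv6 F85758)).symm.trans (sb E70314 (iv6 D146117)))).symm
theorem F313260 : act 4 n31877 = n54349 := (sb E70315 F185057)
theorem F313261 : act 7 n31877 = n54348 := (sb E70315 (iv7 D117979))
theorem E73815 : n78730 = n53885 := ((((iv4 F84973)).symm.trans (sb E70317 (iv4 D163900)))).symm
theorem E73816 : n157711 = n78729 := (((iv4 F248526)).symm.trans (sb E70318 (iv4 D163897)))
theorem F313262 : act 5 n116926 = n84464 := (sb E70319 F199217)
theorem F313263 : act 6 n116926 = n58136 := (sb E70319 (iv6 D124563))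
theorem F313264 : act 4 n86230 = n53887 := (sb E70320 (iv4 D116927))
theorem F313265 : act 4 n75141 = n39905 := (sb E70321 (iv4 D86229))
theorem F313266 : act 2 n117164 = n103131 := (sb E70323 F185170)
theorem E73818 : n69629 = n36376 := ((((iv1 F60235)).symm.trans (sb E70324 F183295))).symm
theorem F313267 : act 4 n39270 = n53999 := (sb E70324 (iv4 D117166))
theorem F313268 : act 1 n68111 = n84341 := (sb E70325 (iv0 D176948))
theorem F313269 : act 7 n49848 = n84341 := (sb E70326 (iv7 D176951))
theorem F313270 : act 3 n144480 = n81477 := (sb E73285 F267306)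
theorem F313271 : act 5 n144480 = n81476 := (sb E73285 (iv5 D169881))
theorem F313272 : act 0 n40130 = n84341 := (sb E70328 (iv1 D176949))
theorem F313273 : act 7 n99592 = n86569 := (sb E70329 (iv7 F282372))
theorem E73820 : n124027 = n123062 := (((F276301).symm.trans (sb E70330 (iv4 F304477)))).symm
theorem F313274 : act 2 n49848 = n86569 := (sb E70334 F282374)
theorem F313275 : act 3 n61586 = n86569 := (sb E70335 (iv3 D181300))
theorem F313276 : act 5 n71087 = n86569 := (sb E70336 (iv5 D181302))
theorem F313277 : act 6 n49841 = n86569 := (sb E70337 (iv6 D181303))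
theorem F313278 : act 6 n144480 = n71050 := (sb E70341 (iv6 D150686))
theorem E73821 : n154923 = n65122 := ((D154923).symm.trans (sb E70348 F221848))
theorem F313279 : act 2 n127733 = n156650 := (sb E70349 (iv2 F246358))
theorem F313280 : act 6 n127733 = n65134 := (sb E70349 F221859)
theorem E73822 : n65133 = n59986 := ((D65133).symm.trans (sb E70350 F237422))
theorem F313281 : act 6 n30580 = n59968 := (sb E70350 F182671)
theorem E73823 : n65135 = n53879 := ((D65135).symm.trans (sb E70350 (iv7 D116912)))
theorem E73824 : n116198 = n114625 := ((D116198).symm.trans (sb E70352 F235500))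
theorem E73825 : n128497 = n116196 := (((D116196).symm.trans (sb E70353 (iv1 F206657)))).symm
theorem E73826 : n118237 = n116197 := (((D116197).symm.trans (sb E70353 (iv0 F206594)))).symm
theorem E73828 : n116200 = n31646 := ((D116200).symm.trans (sb E70353 F104109))
theorem F313282 : act 7 n68028 = n116201 := (sb E70354 F227618)
theorem F313283 : act 5 n74714 = n60954 := (sb E70360 (iv5 D129789))
theorem F313284 : act 3 n40072 = n74967 := (sb E70362 (iv3 D157525))
theorem E73830 : n160481 = n38179 := (((iv3 F253499)).symm.trans (sb E70363 F123127))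
theorem E73831 : n160482 = n38526 := ((D160482).symm.trans (sb E70363 F123129))
theorem F313285 : act 7 n76930 = n36517 := (sb E70363 (iv7 D80177))
theorem F313286 : act 6 n61543 = n74967 := (sb E70364 (iv6 D157526))
theorem F313287 : act 5 n129358 = n79909 := (sb E70367 (iv5 D166452))
theorem F313288 : act 5 n36401 = n60790 := (sb E70368 (iv5 D129359))
theorem E73832 : n132613 = n79910 := ((F212848).symm.trans (sb E70369 (iv5 D166455)))
theorem F313289 : act 0 n117175 = n54348 := (sb E70373 (iv1 D117977))
theorem F313290 : act 4 n117175 = n55642 := (sb E70373 F185037)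
theorem E73834 : n148647 = n66864 := ((F233407).symm.trans (sb E70374 F222447))
theorem E73835 : n76704 = n66882 := (E73492).trans E73495
theorem E73836 : n125037 = n66878 := (((iv7 F200867)).symm.trans (sb E70374 (tr (iv7 F222881) E73776)))
theorem F313291 : act 5 n120706 = n65366 := (sb E70375 (iv5 D139272))
theorem E73837 : n147264 = n139705 := ((F230871).symm.trans (sb E70375 (iv6 F222877)))
theorem F313292 : act 1 n67920 = n54348 := (sb E70376 (iv0 D117976))
theorem E73838 : n144900 = n114791 := (((iv3 F227859)).symm.trans (sb E70376 F192427))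
theorem F313293 : act 4 n67920 = n55641 := (sb E70376 F185061)
theorem F313294 : act 5 n65572 = n68811 := (sb E70377 F192439)
theorem F313295 : act 6 n65572 = n55641 := (sb E70377 (iv6 D120708))
theorem E73839 : n148814 = n66857 := ((((iv7 F200032)).symm.trans (sb E70377 (iv7 F233668)))).symm
theorem F313296 : act 7 n117289 = n76736 := (sb E70378 F243819)
theorem F313297 : act 7 n69648 = n73728 := (sb E70379 F243830)
theorem F313298 : act 0 n25987 = n12723 := (sb E70380 (iv1 D26626))
theorem F313299 : act 1 n25987 = n16342 := (sb E70380 F42655)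
theorem E73840 : n54933 = n53693 := ((((iv3 F84710)).symm.trans (sb E70380 (iv3 F113939)))).symm
theorem E73841 : n53700 = n26467 := ((D53700).symm.trans (sb E70380 (iv5 F42656)))
theorem E73842 : n66960 = n55092 := (((D55092).symm.trans (sb E70381 (iv3 F102904)))).symm
theorem E73844 : n54099 = n53668 := (((iv6 F85388)).symm.trans (sb E70381 (iv6 F84668)))
theorem F313300 : act 1 n67335 = n72834 := (sb E70383 (iv0 D153923))
theorem E73845 : n149291 = n143755 := (((D143755).symm.trans (sb E70383 (iv4 F261792)))).symm
theorem E73846 : n143756 = n139269 := ((D143756).symm.trans (sb E70383 (tr F241924 E71475)))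
theorem E73847 : n143757 = n81774 := ((D143757).symm.trans (sb E70383 F310853))
theorem F313301 : act 0 n67334 = n72834 := (sb E70384 (iv1 D153924))
theorem E73849 : n149292 = n143750 := (((D143750).symm.trans (sb E70384 F241931))).symm
theorem E73850 : n143751 = n133783 := ((D143751).symm.trans (sb E70384 (iv5 F309118)))
theorem E73851 : n143752 = n138999 := ((D143752).symm.trans (sb E70384 (tr (iv6 F241929) E70922)))
theorem F313302 : act 5 n67336 = n55067 := (sb E70385 (iv5 D119687))
theorem E73852 : n147024 = n143760 := (((D143760).symm.trans (sb E70385 (iv6 F230473)))).symm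
theorem F313303 : act 7 n67336 = n72834 := (sb E70385 F190911)
theorem E73853 : n166274 = n143761 := (((D143761).symm.trans (sb E70386 (iv1 F261810)))).symm
theorem E73854 : n166276 = n143762 := (((D143762).symm.trans (sb E70386 (iv0 F261809)))).symm
theorem E73855 : n127759 = n120108 := (((iv3 F205379)).symm.trans (sb E70386 (iv3 F241936)))
theorem E73856 : n143764 = n120105 := ((D143764).symm.trans (sb E70386 F241935))
theorem E73857 : n146997 = n143769 := (((D143769).symm.trans (sb E70387 F230413))).symm
theorem E73858 : n143770 = n32122 := ((D143770).symm.trans (sb E70387 F190914))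
theorem E73859 : n117801 = n73470 := (((iv1 F184484)).symm.trans (sb E70388 F238314))
theorem F313304 : act 5 n54267 = n62718 := (sb E70388 (iv5 D133628))
theorem F313305 : act 5 n29663 = n26241 := (sb E70389 F85636)
theorem F313306 : act 7 n29663 = n26240 := (sb E70389 (iv7 D54277))
theorem F313307 : act 1 n33796 = n26009 := (sb E70390 (iv0 D53777))
theorem F313308 : act 0 n39308 = n26009 := (sb E70391 (iv1 D53778))
theorem E73869 : n85170 = n26005 := ((((iv6 D53762)).symm.trans (sb E70392 F187988))).symm
theorem E73870 : n54377 = n26006 := (((D26006).symm.trans (sb E70394 F186184))).symm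
theorem E73871 : n146990 = n26007 := (((D26007).symm.trans (sb E70394 F230387))).symm
theorem F313309 : act 4 n54229 = n70342 := (sb E70397 F235522)
theorem F313310 : act 2 n32651 = n31296 := (sb E70398 (iv2 F183570))
theorem F313311 : act 4 n69378 = n73532 := (sb E70399 F243712)
theorem E73874 : n166114 = n127321 := (((D127321).symm.trans (sb E70400 F261557))).symm
theorem E73875 : n154008 = n127322 := (((D127322).symm.trans (sb E70400 (iv2 F242030)))).symm
theorem F313312 : act 5 n59766 = n54342 := (sb E70400 (iv5 D117966))
theorem F313313 : act 3 n38927 = n54005 := (sb E70403 F183310)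
theorem E73882 : n58123 = n54002 := (((iv6 F91932)).symm.trans (sb E70403 (iv6 D117173)))
theorem F313314 : act 4 n26116 = n15412 := (sb E70404 F51615)
theorem F313315 : act 0 n14700 = n12481 := (sb E70405 (iv1 D26271))
theorem F313316 : act 1 n14700 = n15412 := (sb E70405 F41727)
theorem E73883 : n54351 = n31086 := ((((iv3 F49475)).symm.trans (sb E70405 D54351))).symm
theorem E73884 : n31093 = n17713 := ((D31093).symm.trans (sb E70405 (iv5 F41728)))
theorem E73885 : n116327 = n54350 := (((D54350).symm.trans (sb E70406 (iv3 F181326)))).symm
theorem F313317 : act 4 n26270 = n26150 := (sb E70406 F84580)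
theorem E73887 : n54026 = n31007 := (((iv6 F85231)).symm.trans (sb E70406 F84581))
theorem F313318 : act 4 n7274 = n15001 := (sb E70408 (iv4 D31870))
theorem E73891 : n127129 = n54417 := (((F85907).symm.trans (sb E70411 (iv2 F204379)))).symm
theorem F313319 : act 3 n32690 = n28350 := (sb E70411 F94120)
theorem E73893 : n105847 = n62789 := ((((iv6 F309008)).symm.trans (sb E70411 (iv6 F162537)))).symm
theorem E73894 : n127336 = n60233 := ((D127336).symm.trans (sb E70412 (iv3 D128147)))
theorem F313320 : act 5 n29705 = n23857 := (sb E70413 (iv5 D48930))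
theorem F313321 : act 6 n29705 = n28350 := (sb E70413 F77146)
theorem F313322 : act 2 n118135 = n148960 := (sb E70414 F282931)
theorem F313323 : act 5 n118135 = n86812 := (sb E70414 (iv5 D181769))
theorem F313324 : act 6 n118135 = n148899 := (sb E70414 F282932)
theorem F313325 : act 2 n124532 = n127676 := (sb E70415 F243176)
theorem F313326 : act 5 n124532 = n127535 := (sb E70415 F243177)
theorem F313327 : act 6 n124532 = n69772 := (sb E70415 F243178)
theorem E73895 : n127676 = n103143 := (((D103143).symm.trans (sb E70416 F205277))).symm
theorem E73896 : n147850 = n103145 := (((D103145).symm.trans (sb E70416 F243321))).symm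
theorem F313328 : act 1 n124534 = n147415 := (sb E70417 (iv0 F243299))
theorem F313329 : act 5 n124534 = n147189 := (sb E70417 F243221)
theorem F313330 : act 7 n124534 = n147461 := (sb E70417 (iv7 F243362))
theorem E73897 : n59848 = n58121 := (((D58121).symm.trans (sb E70418 F243098))).symm
theorem F313331 : act 3 n27708 = n15001 := (sb E70418 (iv3 D31869))
theorem F313332 : act 0 n117172 = n103144 := (sb E70419 (iv1 F199200))
theorem F313333 : act 2 n117172 = n103146 := (sb E70419 F199196)
theorem F313334 : act 7 n117172 = n58122 := (sb E70419 (iv7 D124535))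
theorem F313335 : act 0 n103693 = n144893 := (sb E70420 F250981)
theorem F313336 : act 5 n103693 = n155936 := (sb E70420 (iv5 F244926))
theorem F313337 : act 7 n103693 = n68511 := (sb E70420 (iv7 D146112))
theorem E73899 : n84876 = n55538 := ((D84876).symm.trans (sb E70423 F184882))
theorem F313338 : act 4 n39266 = n69630 := (sb E70424 F229329)
theorem E73900 : n117662 = n84874 := (((D84874).symm.trans (sb E70424 (iv6 F229330)))).symm
theorem E73902 : n110678 = n18625 := (((F44796).symm.trans (sb E70426 (tr F229331 E72838)))).symm
theorem E73903 : n155764 = n58255 := (((D58255).symm.trans (sb E70426 F278821))).symm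
theorem F313339 : act 4 n27749 = n54004 := (sb E70427 (iv4 D117174))
theorem E73905 : n119359 = n79932 := (((D79932).symm.trans (sb E70428 (tr (iv3 F250534) E73713)))).symm
theorem F313340 : act 4 n36408 = n34745 := (sb E70428 F113959)
theorem E73906 : n79933 = n34744 := ((D79933).symm.trans (sb E70428 (iv6 D76047)))
theorem E73907 : n70151 = n53995 := ((((iv3 F85176)).symm.trans (sb E70430 D70151))).symm
theorem E73908 : n70153 = n14992 := ((((iv3 F24628)).symm.trans (sb E70431 D70153))).symm
theorem F313341 : act 1 n59782 = n62471 := (sb E70434 (iv0 F213474))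
theorem F313342 : act 3 n55839 = n62466 := (sb E70435 F213861)
theorem F313343 : act 5 n55839 = n62464 := (sb E70435 (iv5 D133140))
theorem F313344 : act 2 n83551 = n38697 := (sb E70437 (iv2 F309319))
theorem F313345 : act 5 n70970 = n83551 := (sb E70438 (iv5 D174926))
theorem F313346 : act 3 n84009 = n79423 := (sb E70439 (iv3 D165323))
theorem E73911 : n174292 = n77548 := ((D174292).symm.trans (sb E70440 (iv1 D161514)))
theorem E73912 : n174293 = n174279 := ((D174293).symm.trans (sb E70440 (iv0 F303091)))
theorem E73913 : n63230 = n38739 := (((iv1 F306858)).symm.trans (sb E70441 (iv1 F128055)))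
theorem E73914 : n63247 = n38239 := (((iv0 F306859)).symm.trans (sb E70441 (iv0 D83079)))
theorem E73915 : n173723 = n119661 := (((D119661).symm.trans (sb E70441 D173723))).symm
theorem F313347 : act 7 n55056 = n38737 := (sb E70441 F275608)
theorem F313348 : act 3 n85032 = n62285 := (sb E70442 F213066)
theorem E73917 : n178457 = n62277 := ((F278059).symm.trans (sb E70442 (iv7 D132709)))
theorem E73918 : n84114 = n60758 := ((((iv3 F95350)).symm.trans (sb E70443 (iv3 D176414)))).symm
theorem F313349 : act 1 n83010 = n130071 := (sb E70444 F213600)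
theorem F313350 : act 2 n83010 = n131357 := (sb E70444 F213597)
theorem E73919 : n173511 = n131379 := ((D173511).symm.trans (sb E70444 F213598))
theorem F313351 : act 7 n83010 = n62391 := (sb E70444 (iv7 D132963))
theorem E73920 : n132819 = n79891 := (E70445).trans E70590
theorem F313352 : act 5 n79891 = n130425 := (sb E73920 (iv5 F213308))
theorem E73923 : n68561 = n38664 := (((iv1 F229501)).symm.trans (sb E70446 (iv1 D83948)))
theorem E73930 : n162698 = n83126 := (((F312790).symm.trans (sb E70447 (iv1 F281249)))).symm
theorem E73931 : n162697 = n83117 := (((F312791).symm.trans (sb E70447 F281248))).symm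
theorem E73932 : n86318 = n75687 := (((F312792).symm.trans (sb E70447 F281244))).symm
theorem F313353 : act 4 n133152 = n123047 := (sb E70447 F281246)
theorem E73933 : n162699 = n75691 := (((E73279).symm.trans ((F213897).symm.trans (sb E70447 (iv7 F281247))))).symm
theorem F313354 : act 3 n57473 = n61527 := (sb E70448 (iv3 D131148))
theorem F313355 : act 3 n27436 = n54837 := (sb E70449 (iv3 D119159))
theorem F313356 : act 3 n119160 = n57303 := (sb E70450 F197344)
theorem F313357 : act 7 n119160 = n57734 := (sb E70450 F197345)
theorem F313358 : act 2 n73458 = n67215 := (sb E70451 (iv2 D143506))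
theorem E73934 : n139793 = n127935 := ((D139793).symm.trans (sb E70452 F309345))
theorem E73935 : n139794 = n118145 := ((D139794).symm.trans (sb E70452 F235646))
theorem E73936 : n139795 = n70382 := ((D139795).symm.trans (sb E70452 (iv6 D149803)))
theorem F313359 : act 7 n65622 = n74940 := (sb E70452 F309346)
theorem F313360 : act 4 n124140 = n74477 := (sb E70455 (iv4 D156621))
theorem F313361 : act 3 n124777 = n74855 := (sb E70456 F246345)
theorem E73938 : n138836 = n72849 := (((F200447).symm.trans (sb E70456 F246346))).symm
theorem F313362 : act 3 n33594 = n49822 := (sb E70457 F100949)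
theorem F313363 : act 4 n33594 = n30599 := (sb E70457 (iv4 D65185))
theorem F313364 : act 3 n107876 = n83006 := (sb E70458 F241952)
theorem E73943 : n173920 = n173731 := (((D173731).symm.trans (sb E70461 D173920))).symm
theorem E73948 : n173910 = n173726 := (((D173726).symm.trans (sb E70463 (iv3 F272556)))).symm
theorem E73950 : n173729 = n155062 := ((D173729).symm.trans (sb E70463 (iv6 F243846)))
theorem E73953 : n176287 = n152601 := (((E72623).symm.trans (((iv4 F243924)).symm.trans (sb E70464 (iv4 F275583))))).symm
theorem E73955 : n176569 = n38737 := ((F312386).symm.trans (sb E70464 (iv6 D84073)))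
theorem E73957 : n173907 = n123107 := ((D173907).symm.trans (sb E70465 F201079))
theorem E73958 : n173908 = n123112 := ((D173908).symm.trans (sb E70465 (iv0 F275595)))
theorem E73959 : n176301 = n173906 := ((((iv4 F272554)).symm.trans (sb E70465 D176301))).symm
theorem F313365 : act 0 n123218 = n83006 := (sb E70466 F198481)
theorem F313366 : act 1 n123218 = n83011 := (sb E70466 F271946)
theorem F313367 : act 5 n39753 = n49989 := (sb E70467 (iv5 D108238))
theorem E73962 : n119341 = n60778 := ((((iv1 F97419)).symm.trans (sb E70468 (iv1 F278168)))).symm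
theorem E73963 : n178510 = n60773 := (((F95910).symm.trans (sb E70468 F278184))).symm
theorem F313368 : act 4 n60929 = n39318 := (sb E70468 F130375)
theorem F313369 : act 6 n60929 = n39316 := (sb E70468 (iv6 D85022))
theorem E73965 : n173697 = n134132 := (((iv3 F275804)).symm.trans (sb E70469 (iv3 F247167)))
theorem E73966 : n178636 = n111189 := ((D178636).symm.trans (sb E70469 F247165))
theorem E73969 : n178552 = n129707 := ((((iv2 F207891)).symm.trans (sb E70470 (iv2 F278254)))).symm
theorem E73970 : n178640 = n129735 := (((D129735).symm.trans (sb E70470 (iv4 F278440)))).symm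
theorem F313370 : act 6 n60937 = n39344 := (sb E70470 (iv6 D85087))
theorem E73973 : n178506 = n129709 := (((D129709).symm.trans (sb E70471 (iv3 F278162)))).symm
theorem E73974 : n129710 = n70023 := ((D129710).symm.trans (sb E70471 F130287))
theorem E73976 : n129711 = n39297 := ((D129711).symm.trans (sb E70471 (iv6 D84952)))
theorem E73977 : n129712 = n84170 := ((D129712).symm.trans (sb E70472 F275853))
theorem E73978 : n178645 = n129713 := (((D129713).symm.trans (sb E70472 D178645))).symm
theorem E73980 : n129714 = n97108 := ((D129714).symm.trans (sb E70472 (iv6 F300845)))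
theorem F313371 : act 4 n29467 = n39355 := (sb E70474 F130430)
theorem E73983 : n129737 = n84116 := ((D129737).symm.trans (sb E70475 F301380))
theorem E73984 : n129738 = n38718 := ((D129738).symm.trans (sb E70475 (iv0 D84043)))
theorem E73985 : n84115 = n63228 := ((((iv2 F216476)).symm.trans (sb E70475 (iv2 F305709)))).symm
theorem E73986 : n175141 = n120136 := ((((iv4 F189767)).symm.trans (sb E70475 (iv4 F274117)))).symm
theorem F313372 : act 3 n82993 = n62391 := (sb E70476 F213548)
theorem E73989 : n173449 = n62379 := ((D173449).symm.trans (sb E70476 (iv6 D132926)))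
theorem E73990 : n131378 = n84147 := (((iv1 F213592)).symm.trans (sb E70477 (iv1 F249451)))
theorem E73991 : n131377 = n75481 := ((F213591).symm.trans (sb E70477 (iv0 D158318)))
theorem E73992 : n173489 = n61536 := (((F96223).symm.trans (sb E70478 F279261))).symm
theorem E73997 : n61060 = n38652 := (((D38652).symm.trans (sb E70481 (iv4 D130018)))).symm
theorem E73998 : n130008 = n38653 := (((D38653).symm.trans (sb E70481 (iv6 F208486)))).symm
theorem E73999 : n132866 = n38218 := ((((iv7 F61160)).symm.trans (sb E70481 (iv7 F213436)))).symm
theorem E74000 : n130683 = n80436 := (((F301475).symm.trans (sb E70483 (iv1 F213059)))).symm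
theorem E74001 : n130679 = n84092 := ((((iv0 F129073)).symm.trans (sb E70483 (iv0 F212977)))).symm
theorem E74002 : n83929 = n61055 := (((iv5 F128931)).symm.trans (sb E70483 (iv5 D130002)))
theorem E74004 : n132852 = n38668 := (((F127968).symm.trans (sb E70483 (iv7 F213398)))).symm
theorem E74005 : n173622 = n130052 := (((D130052).symm.trans (sb E70484 D173622))).symm
theorem E74006 : n173623 = n130053 := (((D130053).symm.trans (sb E70484 D173623))).symm
theorem F313373 : act 6 n61068 = n38213 := (sb E70484 (iv6 D83040))
theorem E74007 : n130055 = n92461 := ((D130055).symm.trans (sb E70484 (tr D173624 E73431)))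
theorem E74008 : n38638 = n38494 := (((F311855).symm.trans (sb E70487 (iv3 D83893)))).symm
theorem F313374 : act 5 n78290 = n86587 := (sb E70489 (iv5 D181350))
theorem E74011 : n125018 = n65086 := ((((iv4 F100872)).symm.trans (sb E70491 F237323))).symm
theorem E74012 : n150651 = n25954 := (E70493).trans E73175
theorem E74013 : n156717 = n53599 := (((D53599).symm.trans (sb E74012 (tr (iv3 F253062) E72197)))).symm
theorem E74014 : n160199 = n53483 := (((F181689).symm.trans (sb E74012 F252876))).symm
theorem F313375 : act 2 n74534 = n85194 := (sb E70495 F237363)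
theorem E74016 : n85045 = n74630 := ((((iv4 F112061)).symm.trans (sb E70495 (iv4 F237365)))).symm
theorem F313376 : act 5 n74534 = n149001 := (sb E70495 (iv5 F237368))
theorem E74017 : n156728 = n53841 := ((D156728).symm.trans (sb E70497 (tr F278942 E71165)))
theorem F313377 : act 4 n74719 = n60345 := (sb E70498 (iv4 D128349))
theorem F313378 : act 4 n128350 = n157157 := (sb E70499 (iv4 F247330))
theorem F313379 : act 2 n128345 = n138379 := (sb E70500 F221835)
theorem E74018 : n138383 = n71144 := ((((iv1 F237614)).symm.trans (sb E70501 (iv1 F246081)))).symm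
theorem F313380 : act 2 n65000 = n71143 := (sb E70503 (iv2 D150909))
theorem F313381 : act 2 n150910 = n138377 := (sb E70504 F246075)
theorem F313382 : act 6 n150910 = n74424 := (sb E70504 (iv6 D156507))
theorem F313383 : act 2 n150911 = n138382 := (sb E70505 F246078)
theorem F313384 : act 0 n150912 = n138381 := (sb E70506 (iv1 F246082))
theorem F313386 : act 6 n150912 = n138369 := (sb E70506 F246080)
theorem E74019 : n138304 = n39448 := (((iv2 F221504)).symm.trans (sb E70507 F130640))
theorem F313387 : act 4 n64965 = n39440 := (sb E70507 (iv4 D85375))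
theorem E74021 : n178974 = n138306 := (((D138306).symm.trans (sb E70507 D178974))).symm
theorem E74022 : n178975 = n138307 := (((D138307).symm.trans (sb E70507 D178975))).symm
theorem F313388 : act 0 n58403 = n74412 := (sb E70508 (iv1 F111676))
theorem F313389 : act 1 n58403 = n30521 := (sb E70508 (iv0 D64964))
theorem F313390 : act 2 n58403 = n138299 := (sb E70508 D138299)
theorem E74023 : n138300 = n124940 := (((D124940).symm.trans (sb E70508 D138300))).symm
theorem E74024 : n138302 = n124941 := (((D124941).symm.trans (sb E70508 D138302))).symm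
theorem E74026 : n138310 = n85502 := (((iv0 F246000)).symm.trans (sb E70509 (iv0 D179160)))
theorem E74027 : n138299 = n74411 := ((F221502).symm.trans (sb E70510 (iv7 F245994)))
theorem E74028 : n179029 = n156696 := ((D179029).symm.trans (sb E70512 F246476))
theorem E74029 : n179030 = n65087 := ((D179030).symm.trans (sb E70512 (iv0 D138618)))
theorem F313391 : act 0 n125020 = n138308 := (sb E70515 (iv1 F246005))
theorem F313392 : act 1 n125020 = n74413 := (sb E70515 (iv0 D156477))
theorem F313393 : act 2 n125020 = n138311 := (sb E70515 (iv2 F246007))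
theorem E74030 : n138317 = n71051 := ((F227311).symm.trans (sb E70518 (iv6 D150691)))
theorem E74031 : n138314 = n119999 := ((D138314).symm.trans (sb E70519 F189463))
theorem F313394 : act 6 n32902 = n67704 := (sb E70522 (iv6 F103734))
theorem F313395 : act 7 n32902 = n30534 := (sb E70522 (iv7 D65010))
theorem F313396 : act 0 n65007 = n71050 := (sb E70523 F191251)
theorem E74034 : n138403 = n48974 := ((D138403).symm.trans (sb E70523 F106226))
theorem E74035 : n138404 = n60128 := ((D138404).symm.trans (sb E70523 F106227))
theorem E74036 : n148922 = n138405 := (((D138405).symm.trans (sb E70523 D148922))).symm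
theorem E74037 : n138406 = n32419 := ((D138406).symm.trans (sb E70523 (iv5 D69808)))
theorem E74038 : n138407 = n34823 := ((D138407).symm.trans (sb E70523 F106228))
theorem E74039 : n138408 = n70996 := ((D138408).symm.trans (sb E70523 (iv7 F191250)))
theorem F313397 : act 1 n65008 = n71050 := (sb E70524 F189465)
theorem E74040 : n167909 = n138409 := (((D138409).symm.trans (sb E70524 (iv3 F264562)))).symm
theorem E74041 : n167911 = n138410 := (((D138410).symm.trans (sb E70524 D167911))).symm
theorem E74042 : n138411 = n36777 := ((D138411).symm.trans (sb E70524 (iv5 D80598)))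
theorem E74043 : n148895 = n138412 := (((D138412).symm.trans (sb E70524 (iv6 F306010)))).symm
theorem F313398 : act 5 n32706 = n30534 := (sb E70525 (iv5 D65009))
theorem E74047 : n139791 = n119800 := ((((iv0 F309132)).symm.trans (sb E70526 (iv0 F222979)))).symm
theorem F313399 : act 5 n65369 = n62232 := (sb E70526 (iv5 D132635))
theorem F313400 : act 6 n68811 = n62232 := (sb E70527 F212851)
theorem E74048 : n66403 = n32855 := (((F108329).symm.trans (sb E70528 (iv4 D141575)))).symm
theorem E74049 : n139910 = n32833 := ((D139910).symm.trans (sb E70529 F305290))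
theorem E74050 : n139896 = n62921 := (((iv3 F223117)).symm.trans (sb E70529 (iv3 F237451)))
theorem F313401 : act 4 n65679 = n70540 := (sb E70529 (iv4 F307198))
theorem E74051 : n139913 = n32854 := ((D139913).symm.trans (sb E70529 F305293))
theorem E74052 : n139920 = n72638 := ((D139920).symm.trans (sb E70530 F309109))
theorem F313402 : act 6 n65683 = n70540 := (sb E70530 F309111)
theorem F313403 : act 7 n65683 = n65369 := (sb E70530 (iv7 D139277))
theorem E74056 : n142941 = n119706 := ((((iv4 F188847)).symm.trans (sb E70531 D142941))).symm
theorem E74059 : n112349 = n86271 := ((E72829).symm.trans ((F184306).symm.trans (sb E70532 F281134)))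
theorem E74061 : n159040 = n119697 := (((D119697).symm.trans (sb E70533 (iv4 F250384)))).symm
theorem E74062 : n142629 = n119698 := (((D119698).symm.trans (sb E70533 (iv6 F247303)))).symm
theorem F313404 : act 5 n66856 = n69748 := (sb E70534 F115119)
theorem F313405 : act 6 n66856 = n35075 := (sb E70534 (iv6 D76745))
theorem F313406 : act 0 n14732 = n7593 := (sb E70535 (iv1 D16340))
theorem F313407 : act 1 n14732 = n26628 := (sb E70535 F42663)
theorem E74063 : n33619 = n31181 := ((((iv3 F49521)).symm.trans (sb E70535 F190144))).symm
theorem E74064 : n31188 = n16086 := ((D31188).symm.trans (sb E70535 (iv5 F25852)))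
theorem F313408 : act 7 n14732 = n26625 := (sb E70535 (iv7 F42664))
theorem E74065 : n116504 = n33812 := (((D33812).symm.trans (sb E70536 (iv3 F181823)))).symm
theorem F313409 : act 4 n16339 = n26117 := (sb E70536 F84718)
theorem F313410 : act 7 n16339 = n25987 := (sb E70536 (iv7 D53701))
theorem F313411 : act 0 n73530 = n53807 := (sb E70537 (iv1 D116785))
theorem F313412 : act 1 n73530 = n67313 := (sb E70537 F182322)
theorem F313413 : act 0 n55069 = n67312 := (sb E70538 (iv1 F182323))
theorem F313414 : act 1 n55069 = n67311 := (sb E70538 F182321)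
theorem F313415 : act 2 n55069 = n53807 := (sb E70538 (iv2 D116786))
theorem F313416 : act 3 n55069 = n67336 := (sb E70538 F182319)
theorem F313417 : act 7 n55069 = n67313 := (sb E70538 F182320)
theorem F313418 : act 2 n73530 = n67311 := (sb E70539 (iv2 D143710))
theorem F313419 : act 7 n73530 = n67312 := (sb E70539 (iv7 F226382))
theorem F313420 : act 3 n73467 = n67311 := (sb E70540 (iv3 D143711))
theorem F313421 : act 5 n71995 = n67311 := (sb E70541 (iv5 D143713))
theorem E74067 : n143714 = n117818 := (E70542).trans E73660
theorem F313422 : act 6 n117818 = n67311 := (sb E74067 (iv6 D143714))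
theorem F313423 : act 3 n55082 = n67312 := (sb E70543 (iv3 D143716))
theorem F313424 : act 5 n72054 = n67312 := (sb E70544 (iv5 D143718))
theorem E74068 : n143719 = n31133 := (E70545).trans E72856
theorem E74069 : n67312 = n66783 := (((D66783).symm.trans (sb E74068 (iv6 D143719)))).symm
theorem F313425 : act 0 n116789 = n149666 := (sb E70546 (iv1 F235308))
theorem F313426 : act 1 n116789 = n54135 := (sb E70546 F188716)
theorem F313427 : act 2 n116789 = n119693 := (sb E70546 (iv2 F188824))
theorem F313428 : act 5 n116789 = n158977 := (sb E70546 (iv5 F250308))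
theorem F313429 : act 7 n116789 = n68938 := (sb E70546 F183853)
theorem F313430 : act 0 n54930 = n53762 := (sb E70547 (iv1 D116666))
theorem F313431 : act 1 n54930 = n53779 := (sb E70547 F182024)
theorem F313432 : act 0 n54925 = n53779 := (sb E70548 (iv1 F182028))
theorem F313433 : act 1 n54925 = n53762 := (sb E70548 (iv0 D116665))
theorem F313434 : act 2 n73524 = n53779 := (sb E70549 F182025)
theorem F313435 : act 3 n73524 = n67156 := (sb E70549 F182026)
theorem E74070 : n154978 = n69503 := ((D154978).symm.trans (sb E70549 F182027))
theorem F313436 : act 7 n73524 = n53762 := (sb E70549 (iv7 D116667))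
theorem E74071 : n157038 = n73570 := ((((iv1 F186994)).symm.trans (sb E70550 (iv1 F247132)))).symm
theorem E74072 : n157037 = n85006 := (((F186985).symm.trans (sb E70550 F247138))).symm
theorem F313437 : act 3 n55323 = n34234 := (sb E70550 F112089)
theorem E74073 : n157083 = n120229 := ((((iv4 F191429)).symm.trans (sb E70550 (iv4 F247172)))).symm
theorem F313438 : act 5 n55323 = n53779 := (sb E70550 F112090)
theorem F313439 : act 7 n55323 = n34227 := (sb E70550 (iv7 D74689))
theorem E74074 : n166112 = n67210 := (((D67210).symm.trans (sb E70552 (iv1 F261545)))).symm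
theorem E74075 : n149714 = n14753 := ((((iv6 D31274)).symm.trans (sb E70552 F261805))).symm
theorem E74076 : n35033 = n14751 := (((D14751).symm.trans (sb E70553 F235411))).symm
theorem E74077 : n149712 = n14752 := (((D14752).symm.trans (sb E70553 D149712))).symm
theorem E74082 : n118035 = n14758 := (((D14758).symm.trans (sb E70555 (iv3 F185414)))).symm
theorem F313440 : act 0 n26175 = n53810 := (sb E70557 (iv1 F182341))
theorem F313441 : act 3 n116793 = n158977 := (sb E70558 (iv3 F250307))
theorem F313442 : act 6 n116793 = n54288 := (sb E70558 F183855)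
theorem F313443 : act 6 n135464 = n68352 := (sb E70563 (iv6 D145794))
theorem F313444 : act 7 n135464 = n155003 := (sb E70563 (iv7 F243734))
theorem E74085 : n127731 = n62784 := ((((iv6 F155494)).symm.trans (sb E70564 F254170))).symm
theorem F313445 : act 1 n35264 = n36517 := (sb E70565 (iv0 D80174))
theorem E74086 : n167017 = n77245 := ((((iv3 F116007)).symm.trans (sb E70565 D167017))).symm
theorem F313446 : act 4 n35264 = n62787 := (sb E70565 F304355)
theorem F313447 : act 5 n29704 = n28478 := (sb E70566 F94452)
theorem F313448 : act 3 n83227 = n76977 := (sb E70567 (iv3 D160554))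
theorem E74088 : n174098 = n77223 := ((D174098).symm.trans (sb E70567 F253634))
theorem E74089 : n161737 = n74076 := (((iv5 F255743)).symm.trans (sb E70569 (tr (iv5 F257075) E71275)))
theorem F313449 : act 6 n77691 = n76977 := (sb E70569 (iv6 D160555))
theorem E74090 : n77230 = n39287 := (((D39287).symm.trans (sb E70572 F253638))).symm
theorem E74091 : n161747 = n17111 := ((((iv4 D35258)).symm.trans (sb E70573 D161747))).symm
theorem F313450 : act 5 n35258 = n35467 := (sb E70573 (iv5 D77694))
theorem E74092 : n56437 = n35801 := ((((iv6 F56462)).symm.trans (sb E70573 F116573))).symm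
theorem F313451 : act 5 n132342 = n76198 := (sb E70575 (iv5 D159269))
theorem F313452 : act 5 n34805 = n62093 := (sb E70576 F212346)
theorem E74094 : n129342 = n76195 := ((D129342).symm.trans (sb E70578 (iv5 D159262)))
theorem E74095 : n129366 = n17590 := (((F55008).symm.trans (sb E70579 D129366))).symm
theorem F313453 : act 5 n34804 = n28838 := (sb E70579 (iv5 D60792))
theorem E74096 : n28841 = n26878 := (((F299298).symm.trans (sb E70579 F95367))).symm
theorem E74098 : n65795 = n14145 := (((D14145).symm.trans (sb E70581 F223366))).symm
theorem F313454 : act 5 n133106 = n76962 := (sb E70582 (iv5 D160515))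
theorem F313455 : act 5 n35161 = n62453 := (sb E70583 F213789)
theorem E74099 : n155671 = n62459 := (((F97356).symm.trans (sb E70584 (tr (iv0 F264650) E71362)))).symm
theorem E74100 : n76954 = n75670 := (((D75670).symm.trans (sb E70585 (iv5 D160504)))).symm
theorem E74101 : n130431 = n17070 := ((((iv4 D35158)).symm.trans (sb E70586 D130431))).symm
theorem F313456 : act 5 n35158 = n28978 := (sb E70586 (iv5 D61198))
theorem E74102 : n36059 = n29049 := ((F298618).symm.trans (sb E70586 F95675))
theorem F313457 : act 5 n55757 = n62451 := (sb E70588 (iv5 D133111))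
theorem F313458 : act 4 n61218 = n67358 := (sb E70589 F226462)
theorem E74104 : n166395 = n38664 := ((D166395).symm.trans (sb E70590 (iv0 D83947)))
theorem E74109 : n86090 = n80082 := ((((iv1 F296758)).symm.trans (sb E70591 (iv1 D180192)))).symm
theorem E74112 : n148498 = n131741 := ((((iv3 F211093)).symm.trans (sb E70592 (iv3 F233251)))).symm
theorem E74113 : n125346 = n77647 := ((((iv4 F303884)).symm.trans (sb E70592 (iv4 F201625)))).symm
theorem F313459 : act 6 n61815 = n32303 := (sb E70592 (iv6 D69583))
theorem F313460 : act 0 n133718 = n68691 := (sb E70593 F232595)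
theorem F313461 : act 1 n133718 = n150318 := (sb E70593 F236571)
theorem F313462 : act 4 n133718 = n68678 := (sb E70593 (iv4 D146506))
theorem E74115 : n73794 = n67100 := ((((iv1 F225554)).symm.trans (sb E70594 F233054))).symm
theorem E74116 : n148041 = n67026 := ((((iv0 F210315)).symm.trans (sb E70594 F233055))).symm
theorem F313463 : act 6 n116444 = n68678 := (sb E70594 (iv6 D146508))
theorem E74117 : n73847 = n66842 := ((((iv3 F102675)).symm.trans (sb E70595 (iv3 F110629)))).symm
theorem E74118 : n66883 = n16396 := ((D66883).symm.trans (sb E70595 (iv6 D33915)))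
theorem E74119 : n68912 = n53663 := ((((iv3 F84660)).symm.trans (sb E70596 (iv3 F105087)))).symm
theorem E74120 : n66864 = n53671 := (((D53671).symm.trans (sb E70596 (iv4 F105816)))).symm
theorem E74121 : n53667 = n15120 := (((iv6 F84665)).symm.trans (sb E70596 (iv6 D32050)))
theorem E74122 : n73860 = n66455 := ((((iv1 F181103)).symm.trans (sb E70597 (iv1 F224661)))).symm
theorem E74123 : n66418 = n53556 := ((((iv0 D116208)).symm.trans (sb E70597 F224662))).symm
theorem E74124 : n131026 = n86821 := (((iv5 F209714)).symm.trans (sb E70597 (tr (iv5 F228133) E71445)))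
theorem F313464 : act 6 n116208 = n66411 := (sb E70597 (iv6 D141591))
theorem E74125 : n68783 = n66877 := (((D66877).symm.trans (sb E70598 (iv6 F183835)))).symm
theorem F313465 : act 3 n34684 = n62777 := (sb E70600 F213060)
theorem F313466 : act 3 n84930 = n62778 := (sb E70601 F213062)
theorem F313467 : act 3 n85136 = n129883 := (sb E70602 F213033)
theorem F313468 : act 6 n85136 = n62273 := (sb E70602 (iv6 D132697))
theorem F313469 : act 0 n32335 = n67347 := (sb E70604 F103218)
theorem E74126 : n142641 = n69657 := ((((iv3 F106006)).symm.trans (sb E70604 (iv3 F225527)))).symm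
theorem E74128 : n69663 = n31154 := ((D69663).symm.trans (sb E70604 (iv5 D66863)))
theorem E74129 : n142645 = n15237 := ((((iv6 D32335)).symm.trans (sb E70604 D142645))).symm
theorem F313470 : act 1 n143771 = n69292 := (sb E70605 (iv0 F231661))
theorem F313471 : act 6 n143771 = n69265 := (sb E70605 F230478)
theorem F313472 : act 7 n143771 = n68943 := (sb E70605 F309627)
theorem E74130 : n179698 = n129291 := ((((iv3 F207489)).symm.trans (sb E70606 D179698))).symm
theorem F313473 : act 3 n71640 = n83894 := (sb E70607 F131686)
theorem E74133 : n179696 = n151948 := (((D151948).symm.trans (sb E70607 D179696))).symm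
theorem F313474 : act 6 n71640 = n179697 := (sb E70607 D179697)
theorem F313475 : act 3 n58505 = n61635 := (sb E70608 (iv3 D131336))
theorem E74134 : n152051 = n125120 := (((D125120).symm.trans (sb E70608 (iv5 F239072)))).symm
theorem E74135 : n145087 = n141686 := (((D141686).symm.trans (sb E70610 F229147))).symm
theorem E74136 : n145090 = n141348 := ((((iv0 F224379)).symm.trans (sb E70610 F229150))).symm
theorem E74137 : n141687 = n86016 := ((D141687).symm.trans (sb E70610 F229143))
theorem F313476 : act 6 n66445 = n68425 := (sb E70610 (iv6 D145930))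
theorem F313477 : act 6 n66446 = n66857 := (sb E70611 (iv6 D142633))
theorem E74138 : n145206 = n116182 := ((((iv3 F180986)).symm.trans (sb E70612 (iv3 F228192)))).symm
theorem E74139 : n116212 = n70256 := (((iv4 F181113)).symm.trans (sb E70612 (tr (iv4 F189238) E73197)))
theorem E74140 : n68577 = n30998 := ((((iv3 F49418)).symm.trans (sb E70613 (iv3 F104767)))).symm
theorem E74141 : n68582 = n31018 := (((D31018).symm.trans (sb E70613 (iv4 F104771)))).symm
theorem E74142 : n116207 = n68516 := ((D116207).symm.trans (sb E70614 (iv6 F183391)))
theorem F313478 : act 5 n131339 = n83605 := (sb E70615 (iv5 D175070))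
theorem F313479 : act 1 n114682 = n145083 := (sb E70616 F229188)
theorem F313480 : act 3 n114682 = n61639 := (sb E70616 F210508)
theorem F313481 : act 6 n114682 = n61636 := (sb E70616 (iv6 D131342))
theorem E74143 : n177130 = n128334 := ((D177130).symm.trans (sb E70619 F215332))
theorem E74144 : n170318 = n155323 := ((D170318).symm.trans (sb E70627 (iv1 F244257)))
theorem E74145 : n170319 = n130084 := ((D170319).symm.trans (sb E70627 (tr F244275 E73620)))
theorem F313482 : act 5 n81677 = n60184 := (sb E70627 (iv5 D128069))
theorem E74146 : n159755 = n60326 := (((iv7 F251707)).symm.trans (sb E70627 F206086))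
theorem E74147 : n76176 = n38178 := (((D38178).symm.trans (sb E70628 (iv5 D159234)))).symm
theorem E74150 : n167026 = n16859 := ((((iv4 D34797)).symm.trans (sb E70629 D167026))).symm
theorem F313483 : act 5 n34797 = n36517 := (sb E70629 (iv5 D80176))
theorem E74151 : n36520 = n35796 := ((((iv6 F114142)).symm.trans (sb E70629 F123125))).symm
theorem F313484 : act 0 n107852 = n61217 := (sb E70631 (iv1 F209016))
theorem F313485 : act 1 n107852 = n61212 := (sb E70631 (iv0 D130472))
theorem F313486 : act 3 n107852 = n119832 := (sb E70631 F311182)
theorem E74153 : n54526 = n53843 := (((F102231).symm.trans (sb E70633 (iv5 D118407)))).symm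
theorem E74154 : n141377 = n61594 := ((D141377).symm.trans (sb E70633 F186055))
theorem E74155 : n54525 = n53835 := (((F102225).symm.trans (sb E70634 (iv5 D118404)))).symm
theorem E74156 : n141375 = n77705 := ((D141375).symm.trans (sb E70634 (iv6 F307875)))
theorem F313487 : act 3 n54418 = n49809 := (sb E70635 F166571)
theorem E74157 : n127332 = n84439 := ((D127332).symm.trans (sb E70636 F310031))
theorem F313488 : act 4 n59780 = n63287 := (sb E70636 F208025)
theorem E74158 : n32968 = n31334 := (((F94132).symm.trans (sb E70636 (iv5 D71230)))).symm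
theorem E74159 : n127333 = n68068 := ((D127333).symm.trans (sb E70636 F107713))
theorem E74160 : n151150 = n127334 := (((D127334).symm.trans (sb E70637 (iv3 F237819)))).symm
theorem F313489 : act 4 n59781 = n63292 := (sb E70637 F207997)
theorem E74161 : n32969 = n31344 := ((((iv5 F94127)).symm.trans (sb E70637 (iv5 D71234)))).symm
theorem E74162 : n127335 = n61386 := ((D127335).symm.trans (sb E70637 F107716))
theorem F313490 : act 3 n83499 = n76163 := (sb E70639 F250714)
theorem E74163 : n174774 = n76162 := (((iv5 F273593)).symm.trans (sb E70639 (iv5 D159220)))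
theorem F313491 : act 6 n80223 = n76163 := (sb E70641 (iv6 D159221))
theorem F313492 : act 4 n83632 = n49875 := (sb E70642 (iv4 D107997))
theorem E74164 : n154941 = n139182 := (E70643).trans E70653
theorem E74165 : n143259 = n139182 := (((iv3 F226078)).symm.trans (iv3 (sb E74164 (tr F243644 E72472))))
theorem F313493 : act 6 n139182 = n118716 := (sb E74164 F243645)
theorem F313494 : act 3 n72604 = n65345 := (sb E70644 (iv3 D139208))
theorem F313495 : act 5 n119330 = n65345 := (sb E70645 (iv5 D139210))
theorem F313496 : act 6 n72601 = n65345 := (sb E70646 (iv6 D139211))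
theorem E74166 : n160116 = n139183 := (E70647).trans E70654
theorem F313497 : act 3 n139183 = n153556 := (sb E74166 F252716)
theorem F313498 : act 5 n139183 = n76683 := (sb E74166 (iv5 D160116))
theorem F313499 : act 1 n74688 = n118917 := (sb E70648 (iv0 F188007))
theorem E74167 : n157089 = n73570 := (((iv2 F247176)).symm.trans (sb E70648 F188003))
theorem E74168 : n157090 = n72932 := ((D157090).symm.trans (sb E70648 (iv3 F190210)))
theorem E74169 : n157092 = n54932 := ((D157092).symm.trans (sb E70648 (iv5 D119362)))
theorem E74170 : n157093 = n117660 := ((D157093).symm.trans (sb E70648 F188004))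
theorem E74171 : n157084 = n85006 := ((F247175).symm.trans (sb E70648 F188005))
theorem F313500 : act 1 n54729 = n34227 := (sb E70649 (iv0 D74687))
theorem E74176 : n178740 = n157036 := ((((iv4 F247130)).symm.trans (sb E70650 (iv4 F278583)))).symm
theorem F313501 : act 7 n74672 = n118917 := (sb E70650 (iv7 F186984))
theorem E74177 : n151800 = n54265 := ((((iv1 F184492)).symm.trans (sb E70652 (iv1 F307799)))).symm
theorem F313502 : act 5 n117803 = n71645 := (sb E70652 (iv5 D151966))
theorem E74179 : n154909 = n54263 := ((((iv7 D117803)).symm.trans (sb E70652 (iv7 F243598)))).symm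
theorem F313503 : act 2 n139182 = n65345 := (sb E70653 (iv2 D139207))
theorem F313504 : act 7 n139182 = n65346 := (sb E70653 (iv7 F222410))
theorem F313505 : act 2 n139183 = n65346 := (sb E70654 F222411)
theorem F313506 : act 6 n139183 = n133824 := (sb E70654 (iv6 F252515))
theorem F313507 : act 7 n139183 = n65345 := (sb E70654 (iv7 D139212))
theorem F313508 : act 2 n48029 = n38925 := (sb E70655 F129566)
theorem E74180 : n177143 = n103704 := (((D103704).symm.trans (sb E70655 (iv3 F276560)))).symm
theorem E74181 : n177149 = n103705 := (((D103705).symm.trans (sb E70655 (iv4 F276564)))).symm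
theorem E74182 : n177154 = n103706 := (((D103706).symm.trans (sb E70655 (iv5 F276569)))).symm
theorem E74183 : n177158 = n103707 := (((D103707).symm.trans (sb E70655 D177158))).symm
theorem F313509 : act 7 n48029 = n38924 := (sb E70655 (iv7 D84418))
theorem E74184 : n181035 = n132984 := (((F215121).symm.trans (sb E70656 F281876))).symm
theorem F313510 : act 3 n133684 = n84071 := (sb E70656 (iv3 D176285))
theorem F313511 : act 0 n131374 = n121440 := (sb E70657 (iv1 F283005))
theorem F313512 : act 2 n131374 = n86831 := (sb E70657 (iv2 D181812))
theorem F313513 : act 6 n131374 = n121481 := (sb E70657 (iv6 F303162))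
theorem F313514 : act 7 n131374 = n119220 := (sb E70657 F283003)
theorem E74185 : n132957 = n37899 := ((((iv2 F272696)).symm.trans (sb E70658 (iv2 F213585)))).symm
theorem F313515 : act 3 n46294 = n61680 := (sb E70658 F210632)
theorem E74186 : n172441 = n61683 := ((D172441).symm.trans (sb E70659 F210633))
theorem F313516 : act 7 n82564 = n61680 := (sb E70659 (iv7 D131419))
theorem E74189 : n172427 = n132958 := (((D132958).symm.trans (sb E70660 D172427))).symm
theorem E74191 : n132960 = n98964 := ((D132960).symm.trans (sb E70660 (iv7 F272705)))
theorem F313517 : act 3 n34677 = n62845 := (sb E70661 F212596)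
theorem F313518 : act 3 n34678 = n62846 := (sb E70662 F212598)
theorem E74192 : n149311 = n117880 := ((F312075).symm.trans (sb E70663 (iv1 F250239)))
theorem E74193 : n149310 = n117879 := ((F312076).symm.trans (sb E70663 F250238))
theorem F313519 : act 3 n133822 = n75852 := (sb E70663 F250235)
theorem E74194 : n149312 = n117870 := ((F312078).symm.trans (sb E70663 F250236))
theorem F313520 : act 1 n118830 = n62846 := (sb E70664 (iv0 D133823))
theorem F313521 : act 4 n118830 = n74989 := (sb E70664 F237558)
theorem F313522 : act 7 n118830 = n139216 := (sb E70664 F247313)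
theorem F313523 : act 1 n133824 = n155176 := (sb E70665 F250244)
theorem F313524 : act 3 n133824 = n154639 := (sb E70665 F250247)
theorem F313525 : act 5 n133824 = n119550 := (sb E70665 F250245)
theorem F313526 : act 6 n53832 = n75997 := (sb E72299 F250470)
theorem E74195 : n157446 = n120531 := ((D157446).symm.trans (sb E70690 (iv4 F301663)))
theorem F313527 : act 0 n136655 = n159133 := (sb E70691 (iv1 F250552))
theorem F313528 : act 1 n136655 = n159132 := (sb E70691 F250551)
theorem F313529 : act 3 n136655 = n69863 := (sb E70691 (iv3 D148988))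
theorem F313530 : act 7 n136655 = n150119 := (sb E70691 (iv7 F236278))
theorem E74196 : n84403 = n60303 := ((D84403).symm.trans (sb E70692 (iv6 D128276)))
theorem E74197 : n60314 = n21642 := (((D21642).symm.trans (sb E70693 (iv6 D128302)))).symm
theorem E74198 : n84404 = n60312 := (((D60312).symm.trans (sb E70694 D84404))).symm
theorem E74199 : n84405 = n60313 := (((D60313).symm.trans (sb E70694 D84405))).symm
theorem F313531 : act 2 n28650 = n37334 := (sb E70694 F59959)
theorem F313532 : act 6 n28650 = n18486 := (sb E70694 (iv6 D38921))
theorem E74200 : n84407 = n60190 := ((((iv7 F185355)).symm.trans (sb E70694 D84407))).symm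
theorem F313533 : act 4 n28692 = n55632 := (sb E70701 F185385)
theorem E74211 : n65791 = n6030 := (((F26452).symm.trans (sb E70707 (iv3 F101468)))).symm
theorem E74212 : n14583 = n7442 := ((((iv5 F11716)).symm.trans (sb E70707 (iv5 D30797)))).symm
theorem E74213 : n65783 = n5969 := ((((iv3 F9276)).symm.trans (sb E70708 (iv3 F101461)))).symm
theorem F313534 : act 4 n52921 = n49025 := (sb E70713 (iv4 D106080))
theorem E74218 : n114660 = n60414 := ((D114660).symm.trans (sb E70713 F163053))
theorem F313535 : act 7 n61711 = n167228 := (sb E70715 D167228)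
theorem F313536 : act 3 n149030 = n83370 := (sb E70716 (iv3 D174416))
theorem F313537 : act 0 n61721 = n119421 := (sb E70717 (iv1 F188183))
theorem F313538 : act 1 n61721 = n38560 := (sb E70717 F155093)
theorem F313539 : act 2 n61721 = n119418 := (sb E70717 F188174)
theorem E74223 : n131521 = n38527 := (((iv3 F210784)).symm.trans (sb E70717 (iv3 D83569)))
theorem E74224 : n174978 = n131525 := (((D131525).symm.trans (sb E70717 D174978))).symm
theorem F313540 : act 7 n61721 = n119419 := (sb E70717 F188173)
theorem E74226 : n76701 = n60420 := ((D76701).symm.trans (sb E70718 F163059))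
theorem F313541 : act 1 n14091 = n15223 := (sb E70719 (iv0 D32284))
theorem E74227 : n58679 = n29496 := ((((iv4 F47306)).symm.trans (sb E70719 (iv4 F92671)))).symm
theorem F313542 : act 6 n28691 = n55632 := (sb E70720 (iv6 F88003))
theorem F313543 : act 7 n28691 = n17020 := (sb E70720 (iv7 D35063))
theorem F313544 : act 0 n32608 = n26675 := (sb E70722 (iv1 F87284))
theorem F313545 : act 2 n32608 = n33919 := (sb E70722 (iv2 F87285))
theorem E74229 : n119882 = n70254 := (((D70254).symm.trans (sb E70722 D119882))).symm
theorem F313546 : act 4 n32608 = n32900 := (sb E70722 F87283)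
theorem F313547 : act 7 n32608 = n33920 := (sb E70722 (iv7 F87286))
theorem F313548 : act 1 n32609 = n26675 := (sb E70726 F87287)
theorem F313549 : act 2 n32609 = n33920 := (sb E70726 (iv2 F87290))
theorem E74231 : n119884 = n54361 := (((F237450).symm.trans (sb E70726 D119884))).symm
theorem F313550 : act 4 n32609 = n49027 := (sb E70726 F87289)
theorem F313551 : act 7 n32609 = n33919 := (sb E70726 F87288)
theorem F313552 : act 0 n81636 = n49865 := (sb E70729 (iv1 F166800))
theorem F313553 : act 1 n81636 = n49864 := (sb E70729 F166805)
theorem F313554 : act 2 n81636 = n49866 := (sb E70729 F166797)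
theorem F313555 : act 7 n81636 = n49853 := (sb E70729 (iv7 D107933))
theorem E74232 : n171051 = n122343 := (((E72118).symm.trans ((F214941).symm.trans (sb E70730 (iv1 F268772))))).symm
theorem F313556 : act 1 n107964 = n171050 := (sb E70730 F268771)
theorem F313557 : act 2 n107964 = n99984 := (sb E70730 F234299)
theorem F313558 : act 3 n107964 = n69895 := (sb E70730 (iv3 D149021))
theorem F313559 : act 1 n30763 = n15431 := (sb E70734 (iv0 D32598))
theorem F313560 : act 4 n32599 = n31562 := (sb E70738 F102303)
theorem E74236 : n53786 = n52877 := (((D52877).symm.trans (sb E70746 (iv6 D116725)))).symm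
theorem E74237 : n53975 = n52890 := (((D52890).symm.trans (sb E70748 D53975))).symm
theorem E74238 : n53976 = n52795 := ((((iv0 F290389)).symm.trans (sb E70748 D53976))).symm
theorem F313561 : act 4 n25674 = n12372 := (sb E70748 (iv4 D26106))
theorem E74239 : n53977 = n52892 := (((D52892).symm.trans (sb E70748 D53977))).symm
theorem E74240 : n52893 = n14883 := ((D52893).symm.trans (sb E70748 F41293))
theorem E74241 : n69063 = n53785 := ((D69063).symm.trans (sb E70757 (iv6 D116721)))
theorem E74242 : n53859 = n26063 := ((((iv6 F41217)).symm.trans (sb E70758 F182119))).symm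
theorem E74243 : n114220 = n53648 := ((((iv1 F172107)).symm.trans (sb E70759 (iv1 F290347)))).symm
theorem E74244 : n118034 = n53653 := ((((iv0 F172104)).symm.trans (sb E70759 D118034))).symm
theorem E74245 : n54754 = n12339 := (((F41105).symm.trans (sb E70759 (iv5 F86608)))).symm
theorem F313562 : act 6 n26011 = n26284 := (sb E70759 (iv6 D54371))
theorem E74248 : n12636 = n12340 := (((iv5 F21043)).symm.trans (sb E70761 (iv5 D26037)))
theorem E74255 : n116750 = n26006 := (E70771).trans E73870
theorem E74256 : n53796 = n15217 := ((((iv7 F173382)).symm.trans (sb E74255 (iv7 D116750)))).symm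
theorem E74257 : n67780 = n16458 := ((((iv7 F25941)).symm.trans (sb E70772 F226326))).symm
theorem F313563 : act 0 n31295 = n26291 := (sb E70773 (iv1 D54381))
theorem E74258 : n118065 = n67292 := (((D67292).symm.trans (sb E70773 D118065))).symm
theorem F313564 : act 5 n31295 = n27816 := (sb E70773 (iv5 F85840))
theorem F313565 : act 6 n31295 = n33799 := (sb E70773 F86552)
theorem F313566 : act 7 n31295 = n32651 := (sb E70773 (iv7 F85849))
theorem E74259 : n69662 = n67302 := ((F106008).symm.trans (sb E70774 (iv1 F182210)))
theorem E74260 : n74029 = n67301 := ((D74029).symm.trans (sb E70774 F182211))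
theorem E74261 : n74030 = n53799 := ((D74030).symm.trans (sb E70774 (iv7 D116763)))
theorem F313567 : act 1 n26014 = n32651 := (sb E70775 F85850)
theorem F313568 : act 7 n26014 = n26291 := (sb E70775 (iv7 D54382))
theorem E74266 : n76795 = n48929 := (E72764).trans E73751
theorem E74267 : n97201 = n59902 := (((F243162).symm.trans (sb E70780 F290453))).symm
theorem F313571 : act 6 n31663 = n32525 := (sb E70781 (iv6 F57639))
theorem E74280 : n140015 = n17031 := ((((iv5 D35079)).symm.trans (sb E70785 D140015))).symm
theorem E74281 : n76754 = n30776 := ((D76754).symm.trans (sb E70785 (iv6 D65728)))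
theorem E74285 : n30784 = n17033 := (((D17033).symm.trans (sb E70786 F101450))).symm
theorem E74286 : n76759 = n30778 := (((D30778).symm.trans (sb E70787 D76759))).symm
theorem E74287 : n76760 = n30779 := (((D30779).symm.trans (sb E70787 D76760))).symm
theorem F313572 : act 6 n14579 = n17032 := (sb E70787 (iv6 D35084))
theorem E74289 : n12574 = n6967 := (((iv5 F20949)).symm.trans (sb E70788 (iv5 D14584)))
theorem E74293 : n140806 = n76784 := (((D76784).symm.trans (sb E70790 (iv1 F223880)))).symm
theorem E74295 : n140808 = n76781 := ((((iv2 F115231)).symm.trans (sb E70790 (iv2 F223883)))).symm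
theorem E74297 : n76786 = n30905 := ((D76786).symm.trans (sb E70790 (iv7 D66089)))
theorem E74298 : n116063 = n70983 := (((D70983).symm.trans (sb E70791 (iv1 F180806)))).symm
theorem E74299 : n116062 = n70984 := (((D70984).symm.trans (sb E70791 F180812))).symm
theorem E74300 : n140959 = n70982 := ((((iv4 F107535)).symm.trans (sb E70791 (iv4 F223982)))).symm
theorem E74301 : n140960 = n15831 := ((((iv6 D32877)).symm.trans (sb E70791 D140960))).symm
theorem F313573 : act 7 n14633 = n17042 := (sb E70792 (iv7 D35103))
theorem E74306 : n119890 = n6706 := (((D6706).symm.trans (sb E70798 (iv5 F227596)))).symm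
theorem E74311 : n157289 = n85308 := ((D157289).symm.trans (sb E70804 F240337))
theorem E74312 : n157292 = n72234 := ((D157292).symm.trans (sb E70804 (iv6 D153032)))
theorem F313574 : act 3 n58451 = n34201 := (sb E70806 (iv3 D74587))
theorem E74313 : n125015 = n65085 := ((D125015).symm.trans (sb E70806 F112000))
theorem E74314 : n156838 = n125017 := (((D125017).symm.trans (sb E70806 D156838))).symm
theorem F313575 : act 0 n30615 = n27818 := (sb E70807 F199887)
theorem F313576 : act 5 n30615 = n27803 := (sb E70807 (iv5 D58426))
theorem E74316 : n119255 = n65224 := (((D65224).symm.trans (sb E70807 F199889))).symm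
theorem F313577 : act 1 n16554 = n27818 := (sb E70808 F130967)
theorem F313578 : act 5 n16554 = n26379 := (sb E70808 F86154)
theorem E74318 : n156839 = n125043 := ((D156839).symm.trans (sb E70809 (iv1 F200879)))
theorem E74319 : n125042 = n112986 := ((((iv0 F222245)).symm.trans (sb E70809 F200878))).symm
theorem E74321 : n179088 = n156841 := (((D156841).symm.trans (sb E70809 D179088))).symm
theorem E74326 : n156848 = n149681 := ((D156848).symm.trans (sb E70810 (iv7 F235336)))
theorem E74328 : n34212 = n8774 := (((F22062).symm.trans (sb E70811 F219732))).symm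
theorem E74332 : n125044 = n112974 := ((D125044).symm.trans (sb E70812 (iv3 F175928)))
theorem E74333 : n156853 = n125045 := (((D125045).symm.trans (sb E70812 D156853))).symm
theorem E74334 : n156854 = n125046 := (((D125046).symm.trans (sb E70812 D156854))).symm
theorem E74335 : n156857 = n125047 := (((D125047).symm.trans (sb E70813 D156857))).symm
theorem E74336 : n156858 = n125048 := (((D125048).symm.trans (sb E70813 D156858))).symm
theorem E74338 : n156860 = n125049 := (((D125049).symm.trans (sb E70813 D156860))).symm
theorem E74341 : n108180 = n34262 := ((F311906).symm.trans (sb E70814 (iv2 D74772)))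
theorem E74343 : n157250 = n58437 := (((D58437).symm.trans (sb E70814 D157250))).symm
theorem E74344 : n157251 = n58438 := (((D58438).symm.trans (sb E70814 D157251))).symm
theorem E74345 : n157257 = n85280 := ((D157257).symm.trans (sb E70815 (iv1 F200746)))
theorem E74346 : n157258 = n85279 := ((D157258).symm.trans (sb E70815 F200747))
theorem E74347 : n157262 = n85247 := ((D157262).symm.trans (sb E70815 F200745))
theorem E74348 : n157264 = n54748 := ((D157264).symm.trans (sb E70816 (iv0 D118966)))
theorem E74349 : n157265 = n152713 := ((D157265).symm.trans (sb E70816 (iv5 F239919)))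
theorem E74353 : n157271 = n18681 := (((D18681).symm.trans (sb E70818 D157271))).symm
theorem E74355 : n85281 = n61258 := ((D85281).symm.trans (sb E70819 (iv3 F112224)))
theorem E74364 : n108170 = n72195 := ((D108170).symm.trans (sb E70826 F200768))
theorem F313579 : act 6 n33324 = n24361 := (sb E70827 (iv6 D49965))
theorem E74367 : n156565 = n72077 := ((D156565).symm.trans (sb E70828 (iv1 D152746)))
theorem E74368 : n140325 = n85095 := (((iv0 F223425)).symm.trans (sb E70828 F239945))
theorem E74369 : n117717 = n50586 := ((((iv1 F79943)).symm.trans (sb E70830 F229462))).symm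
theorem E74370 : n72240 = n14563 := ((((iv7 D30734)).symm.trans (sb E70830 F229461))).symm
theorem F313580 : act 3 n39418 = n34224 := (sb E70834 (iv3 D74674))
theorem F313581 : act 0 n74675 = n120207 := (sb E70835 F243980)
theorem E74378 : n157050 = n83918 := ((D157050).symm.trans (sb E70835 F243977))
theorem E74379 : n157051 = n83720 := ((D157051).symm.trans (sb E70835 (iv5 F243981)))
theorem E74380 : n157052 = n73646 := ((D157052).symm.trans (sb E70835 (iv6 D155162)))
theorem E74381 : n157053 = n118606 := ((D157053).symm.trans (sb E70835 F243979))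
theorem F313582 : act 2 n39348 = n140318 := (sb E70836 D140318)
theorem F313583 : act 5 n39348 = n34224 := (sb E70836 F220193)
theorem F313584 : act 6 n33842 = n34224 := (sb E70837 (iv6 D74677))
theorem F313585 : act 2 n54614 = n34225 := (sb E70838 F112087)
theorem F313586 : act 7 n54614 = n34224 := (sb E70838 (iv7 D74678))
theorem F313587 : act 1 n74680 = n120207 := (sb E70839 (iv0 F303437))
theorem E74392 : n157062 = n87978 := ((D157062).symm.trans (sb E70839 F205975))
theorem E74393 : n157063 = n83719 := ((D157063).symm.trans (sb E70839 F300652))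
theorem E74394 : n157064 = n60132 := ((D157064).symm.trans (sb E70839 (iv6 D127986)))
theorem F313588 : act 5 n39347 = n34225 := (sb E70840 F209753)
theorem F313589 : act 7 n39347 = n140318 := (sb E70840 F223419)
theorem F313590 : act 6 n40096 = n34225 := (sb E70841 (iv6 D74682))
theorem F313591 : act 1 n74671 = n119139 := (sb E70842 F239709)
theorem E74400 : n175390 = n157035 := (((D157035).symm.trans (sb E70842 (iv5 F274430)))).symm
theorem F313592 : act 1 n16559 = n8759 := (sb E70843 (iv0 D18663))
theorem E74401 : n39374 = n34094 := ((((iv4 F53505)).symm.trans (sb E70843 D39374))).symm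
theorem E74402 : n39376 = n12326 := (((F26217).symm.trans (sb E70843 D39376))).symm
theorem E74403 : n172827 = n157069 := (((D157069).symm.trans (sb E70844 F278435))).symm
theorem F313593 : act 5 n74683 = n85085 := (sb E70844 (iv5 D178637))
theorem F313594 : act 7 n74683 = n119139 := (sb E70844 F278436)
theorem F313595 : act 2 n74684 = n119139 := (sb E70845 F236415)
theorem F313596 : act 4 n74684 = n70714 := (sb E70845 F236416)
theorem E74404 : n157074 = n85084 := ((D157074).symm.trans (sb E70845 (iv5 F236417)))
theorem E74405 : n157075 = n70712 := ((D157075).symm.trans (sb E70845 (iv6 D150222)))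
theorem E74406 : n39386 = n34213 := (((D34213).symm.trans (sb E70846 (iv4 F60327)))).symm
theorem F313597 : act 5 n16557 = n8760 := (sb E70846 F29927)
theorem E74407 : n39387 = n34215 := (((D34215).symm.trans (sb E70846 D39387))).symm
theorem F313598 : act 7 n16557 = n8759 := (sb E70846 (iv7 D18666))
theorem F313599 : act 2 n16558 = n8759 := (sb E70847 F29919)
theorem E74408 : n39326 = n34218 := (((D34218).symm.trans (sb E70847 D39326))).symm
theorem F313600 : act 5 n16558 = n8756 := (sb E70847 (iv5 D18651))
theorem E74409 : n34220 = n26481 := ((D34220).symm.trans (sb E70847 (iv6 F42367)))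
theorem E74411 : n178572 = n34093 := (((D34093).symm.trans (sb E70848 D178572))).symm
theorem E74413 : n178574 = n34095 := (((D34095).symm.trans (sb E70848 D178574))).symm
theorem E74415 : n125035 = n12324 := (((D12324).symm.trans (sb E70849 F200862))).symm
theorem E74416 : n152317 = n12325 := (((D12325).symm.trans (sb E70849 (iv0 F239463)))).symm
theorem E74418 : n34165 = n32995 := (((iv1 F53717)).symm.trans (sb E70850 (iv1 F86187)))
theorem E74419 : n34168 = n32994 := (((iv0 F53715)).symm.trans (sb E70850 F86191))
theorem E74420 : n34200 = n26376 := ((D34200).symm.trans (sb E70850 (iv7 D54543)))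
theorem E74424 : n118916 = n12321 := (((D12321).symm.trans (sb E70855 (iv3 F186980)))).symm
theorem E74428 : n157141 = n148540 := ((((iv2 F233299)).symm.trans (sb E70857 D157141))).symm
theorem F313601 : act 3 n72056 = n34233 := (sb E70857 (iv3 D74711))
theorem E74430 : n152176 = n53817 := (((D53817).symm.trans (sb E70861 (iv3 F239260)))).symm
theorem E74432 : n53819 = n33175 := ((D53819).symm.trans (sb E70861 (iv5 D71768)))
theorem E74434 : n80478 = n53812 := (((D53812).symm.trans (sb E70862 F310621))).symm
theorem E74436 : n53814 = n33176 := ((D53814).symm.trans (sb E70862 (iv5 D71773)))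
theorem E74437 : n137048 = n85098 := ((((iv1 F130438)).symm.trans (sb E70863 D137048))).symm
theorem E74438 : n137049 = n85097 := (((F130437).symm.trans (sb E70863 D137049))).symm
theorem E74439 : n85137 = n30335 := ((D85137).symm.trans (sb E70863 (iv3 D64422)))
theorem E74440 : n137051 = n85138 := (((D85138).symm.trans (sb E70863 D137051))).symm
theorem E74441 : n85139 = n66157 := ((D85139).symm.trans (sb E70863 (iv6 F101782)))
theorem F313602 : act 7 n39366 = n61444 := (sb E70863 F100339)
theorem E74442 : n72106 = n65556 := ((((iv1 F220217)).symm.trans (sb E70864 (iv1 F201446)))).symm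
theorem E74443 : n71869 = n66160 := (((D66160).symm.trans (sb E70864 (iv0 F108340)))).symm
theorem E74444 : n85141 = n66162 := (((D66162).symm.trans (sb E70864 D85141))).symm
theorem F313603 : act 6 n30927 = n18661 := (sb E70864 (iv6 D39367))
theorem E74448 : n32943 = n12299 := (((F20405).symm.trans (sb E70867 (iv0 D71150)))).symm
theorem E74451 : n72218 = n14939 := ((((iv3 F24605)).symm.trans (sb E70868 (iv3 F108660)))).symm
theorem E74453 : n58445 = n14942 := (((D14942).symm.trans (sb E70868 F92310))).symm
theorem E74454 : n54748 = n53953 := ((((iv3 F85082)).symm.trans (sb E70869 (iv3 F86591)))).symm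
theorem E74456 : n54751 = n53957 := ((((iv5 F85089)).symm.trans (sb E70869 D54751))).symm
theorem E74457 : n14830 = n12635 := ((F41266).symm.trans (sb E70869 (iv6 D26476)))
theorem E74458 : n125060 = n66153 := ((((iv1 F101778)).symm.trans (sb E70870 F200910))).symm
theorem E74459 : n120034 = n66152 := (((F101777).symm.trans (sb E70870 (iv0 F189582)))).symm
theorem E74460 : n72227 = n53500 := ((((iv7 F84410)).symm.trans (sb E70870 F200204))).symm
theorem E74461 : n68066 = n29637 := (((D29637).symm.trans (sb E70872 (iv1 F228150)))).symm
theorem E74462 : n68050 = n29638 := (((D29638).symm.trans (sb E70872 (iv0 D145163)))).symm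
theorem F313604 : act 0 n54228 = n53501 := (sb E70873 F96914)
theorem F313605 : act 1 n54228 = n29639 := (sb E70873 F96915)
theorem E74465 : n117718 = n29428 := ((D117718).symm.trans (sb E70873 (iv4 D62168)))
theorem F313606 : act 0 n54223 = n29639 := (sb E70874 F96922)
theorem F313607 : act 1 n54223 = n53501 := (sb E70874 F96923)
theorem E74467 : n132512 = n117713 := ((((iv3 F184332)).symm.trans (sb E70874 D132512))).symm
theorem E74468 : n117716 = n29429 := ((D117716).symm.trans (sb E70874 (iv4 D62170)))
theorem F313608 : act 0 n30925 = n32229 := (sb E70875 (iv1 D69360))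
theorem F313609 : act 1 n30925 = n32234 := (sb E70875 F105625)
theorem E74470 : n58620 = n31513 := (((D31513).symm.trans (sb E70876 F201425))).symm
theorem F313610 : act 4 n11482 = n16093 := (sb E70883 F52097)
theorem E74474 : n65024 = n16066 := ((((iv3 F25591)).symm.trans (sb E70884 D65024))).symm
theorem E74475 : n16094 = n14489 := ((D16094).symm.trans (sb E70884 (iv4 D30542)))
theorem E74478 : n65030 = n54690 := ((((iv3 F303869)).symm.trans (sb E70885 D65030))).symm
theorem E74479 : n33329 = n14490 := (((iv4 F52563)).symm.trans (sb E70885 (iv4 D30545)))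
theorem F313611 : act 0 n97950 = n151504 := (sb E71957 F238366)
theorem F313612 : act 4 n97950 = n49865 := (sb E71957 (iv4 D107970))
theorem F313613 : act 7 n97950 = n152024 := (sb E71957 (iv7 F239041))
theorem F313614 : act 2 n81985 = n49862 := (sb E70892 F166795)
theorem F313615 : act 4 n81985 = n49853 := (sb E70892 F166796)
theorem F313616 : act 6 n81985 = n49852 := (sb E70892 (iv6 D107931))
theorem F313617 : act 3 n39370 = n66164 := (sb E70894 F224078)
theorem F313618 : act 0 n141083 = n70961 := (sb E70895 (iv1 F237017))
theorem F313621 : act 0 n70579 = n65683 := (sb E70896 (iv1 D139919))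
theorem F313622 : act 4 n70579 = n67359 := (sb E70896 F223142)
theorem E74491 : n129799 = n54200 := ((((iv5 F130898)).symm.trans (sb E70896 (iv5 F223144)))).symm
theorem F313623 : act 6 n139783 = n72735 := (sb E70901 F241606)
theorem F313624 : act 5 n139784 = n157468 := (sb E70902 (iv5 F248115))
theorem F313625 : act 5 n139785 = n74881 := (sb E70903 F240171)
theorem E74492 : n157163 = n72190 := (((iv6 F247337)).symm.trans (sb E70904 (iv6 D152941)))
theorem F313626 : act 6 n33322 = n65619 := (sb E70905 F112169)
theorem F313627 : act 7 n33322 = n34247 := (sb E70905 (iv7 D74747))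
theorem F313628 : act 1 n139075 = n118777 := (sb E70906 (iv0 F282201))
theorem F313629 : act 3 n139075 = n86521 := (sb E70906 (iv3 D181175))
theorem E74493 : n124751 = n65152 := ((D124751).symm.trans (sb E70907 F112072))
theorem E74494 : n156994 = n124753 := (((D124753).symm.trans (sb E70907 D156994))).symm
theorem F313630 : act 3 n58323 = n34211 := (sb E70908 (iv3 D74619))
theorem F313631 : act 0 n58370 = n34148 := (sb E70910 (iv1 D74452))
theorem F313632 : act 1 n58370 = n65154 := (sb E70910 F111760)
theorem E74498 : n156577 = n124842 := (((D124842).symm.trans (sb E70910 D156577))).symm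
theorem E74499 : n156323 = n124843 := (((D124843).symm.trans (sb E70910 (iv5 F245852)))).symm
theorem F313633 : act 3 n58372 = n65248 := (sb E70911 F222161)
theorem E74502 : n75714 = n63238 := ((D75714).symm.trans (sb E70912 (iv5 D134582)))
theorem F313634 : act 5 n63600 = n75713 := (sb E70913 (iv5 D158719))
theorem F313635 : act 5 n61006 = n82498 := (sb E70914 (iv5 D172240))
theorem F313636 : act 0 n99474 = n135400 := (sb E70916 (iv1 F239234))
theorem F313637 : act 1 n99474 = n71761 := (sb E70916 (iv0 D152164))
theorem F313638 : act 5 n99474 = n129687 := (sb E70916 F239231)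
theorem F313639 : act 7 n99474 = n135340 := (sb E70916 F239235)
theorem F313640 : act 2 n72730 = n34197 := (sb E70917 F111973)
theorem E74505 : n156788 = n153717 := ((((iv4 F241581)).symm.trans (sb E70917 (iv4 F246711)))).symm
theorem F313641 : act 6 n72730 = n34194 := (sb E70917 (iv6 D74569))
theorem E74508 : n65260 = n32974 := ((D65260).symm.trans (sb E70918 (iv6 D71246)))
theorem F313642 : act 6 n15877 = n14520 := (sb E70919 (iv6 D30628))
theorem F313643 : act 0 n125163 = n65251 := (sb E70920 (iv1 F222163))
theorem F313644 : act 1 n125163 = n65246 := (sb E70920 (iv0 D138993))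
theorem F313645 : act 2 n125163 = n156773 := (sb E70920 F246674)
theorem E74512 : n138998 = n7023 := (E70921).trans E71018
theorem E74513 : n65248 = n14726 := (((D14726).symm.trans (sb E74512 (iv1 D138998)))).symm
theorem E74514 : n156786 = n14727 := (((D14727).symm.trans (sb E74512 F246702))).symm
theorem E74515 : n138999 = n31165 := (((F166932).symm.trans (iv0 (sb E70922 (tr (iv1 D147308) E74241))))).symm
theorem E74516 : n147308 = n31165 := (E70922).trans E74515
theorem E74517 : n114317 = n66893 := ((((iv3 F102748)).symm.trans (sb E74516 (iv3 F290356)))).symm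
theorem E74518 : n105392 = n66904 := (((D66904).symm.trans (sb E74516 (iv4 F290341)))).symm
theorem F313646 : act 3 n63650 = n70726 := (sb E70923 (iv3 D150247))
theorem E74519 : n135395 = n101192 := (((iv4 F217634)).symm.trans (sb E70923 F236449))
theorem F313647 : act 1 n71312 = n65250 := (sb E70924 (iv0 D139001))
theorem F313648 : act 2 n71312 = n65287 := (sb E70924 (iv2 F222171))
theorem E74520 : n153570 = n65286 := (((D65286).symm.trans (sb E70925 (iv6 F241389)))).symm
theorem F313649 : act 0 n58374 = n65287 := (sb E70926 (iv1 F222179))
theorem F313650 : act 2 n58374 = n65250 := (sb E70926 (iv2 D139002))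
theorem F313651 : act 2 n108240 = n124855 := (sb E70927 (iv2 F234461))
theorem F313652 : act 3 n124738 = n61476 := (sb E70928 (iv3 D131051))
theorem F313653 : act 4 n124738 = n138506 := (sb E70928 (iv4 F221692))
theorem F313654 : act 1 n33474 = n34247 := (sb E70929 (iv0 D74744))
theorem F313655 : act 0 n33549 = n34247 := (sb E70930 (iv1 D74745))
theorem F313656 : act 3 n33948 = n60954 := (sb E70932 (iv3 D129788))
theorem F313657 : act 0 n28901 = n60381 := (sb E70933 (iv1 D128415))
theorem E74531 : n68556 = n60945 := ((((iv6 F95490)).symm.trans (sb E70933 F206540))).symm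
theorem F313658 : act 6 n69748 = n60954 := (sb E70934 F208117)
theorem F313659 : act 1 n62233 = n60381 := (sb E70935 (iv0 D128414))
theorem E74532 : n155771 = n132637 := (((D132637).symm.trans (sb E70935 (iv6 F244787)))).symm
theorem F313660 : act 4 n60741 = n79053 := (sb E70936 (iv4 D164579))
theorem E74533 : n147950 = n66471 := (((D66471).symm.trans (sb E70937 (iv1 F231761)))).symm
theorem E74534 : n118835 = n66472 := (((D66472).symm.trans (sb E70937 F231765))).symm
theorem E74535 : n147952 = n66473 := (((D66473).symm.trans (sb E70937 (iv2 F231768)))).symm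
theorem E74536 : n148047 = n64617 := ((((iv4 F102074)).symm.trans (sb E70937 (iv4 F231851)))).symm
theorem E74537 : n53563 = n32224 := (((iv7 F84496)).symm.trans (sb E70937 (iv7 D69339)))
theorem F313661 : act 1 n60373 = n61080 := (sb E70938 F207482)
theorem F313662 : act 0 n132647 = n118412 := (sb E70939 (iv1 F247937))
theorem F313663 : act 1 n132647 = n120018 := (sb E70939 (iv0 F247936))
theorem F313664 : act 2 n65621 = n74940 := (sb E70941 F189545)
theorem E74538 : n139792 = n49819 := ((D139792).symm.trans (sb E70941 (iv6 D107871)))
theorem E74539 : n58446 = n53638 := (((F93199).symm.trans (sb E70942 (iv1 D125012)))).symm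
theorem F313665 : act 0 n116799 = n96662 := (sb E70943 (iv1 F308540))
theorem F313666 : act 1 n116799 = n74882 := (sb E70943 (iv0 F247926))
theorem F313667 : act 2 n116799 = n131609 := (sb E70943 F247923)
theorem E74541 : n66476 = n17042 := (((F311590).symm.trans (sb E70949 D66476))).symm
theorem F313668 : act 5 n15207 = n14681 := (sb E70949 (iv5 D31035))
theorem E74547 : n156161 = n74861 := (((D74861).symm.trans (sb E70956 (iv4 F245421)))).symm
theorem E74552 : n15860 = n14516 := ((((iv1 F26200)).symm.trans (sb E70959 (iv1 F52113)))).symm
theorem F313669 : act 4 n16548 = n16607 := (sb E70959 F52112)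
theorem E74553 : n32979 = n14515 := (((F49063).symm.trans (sb E70959 (iv7 F52158)))).symm
theorem E74556 : n32903 = n14491 := (((F26163).symm.trans (sb E70968 (iv6 D71054)))).symm
theorem F313670 : act 4 n138601 = n65346 := (sb E70969 (iv4 D139214))
theorem F313671 : act 6 n138601 = n120190 := (sb E70969 (iv6 F247311))
theorem F313672 : act 4 n108296 = n65081 := (sb E70970 F208557)
theorem F313673 : act 5 n108296 = n61080 := (sb E70970 (iv5 D130085))
theorem E74557 : n138987 = n120191 := (((D120191).symm.trans (sb E70971 (iv5 F222156)))).symm
theorem F313674 : act 6 n55304 = n65081 := (sb E70971 (iv6 D138602))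
theorem E74558 : n148054 = n65579 := (((D65579).symm.trans (sb E70972 (iv3 F231856)))).symm
theorem E74560 : n117295 = n65580 := (((D65580).symm.trans (sb E70972 (iv5 F183629)))).symm
theorem F313675 : act 6 n30732 = n32229 := (sb E70972 (iv6 D69362))
theorem E74562 : n120615 = n65577 := (((D65577).symm.trans (sb E70973 F192202))).symm
theorem F313676 : act 6 n30731 = n54762 := (sb E70973 (iv6 D119005))
theorem E74563 : n145766 = n112081 := ((((iv4 F174229)).symm.trans (sb E70974 (iv4 F229459)))).symm
theorem E74564 : n150989 = n11668 := ((((iv4 D24642)).symm.trans (sb E70975 (iv4 F237686)))).symm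
theorem E74570 : n72235 = n12364 := (((D12364).symm.trans (sb E70977 (iv3 F108668)))).symm
theorem E74572 : n71871 = n53400 := (((D53400).symm.trans (sb E70978 F237461))).symm
theorem E74573 : n72114 = n53401 := (((D53401).symm.trans (sb E70978 F237462))).symm
theorem E74574 : n72113 = n53402 := (((D53402).symm.trans (sb E70978 F239516))).symm
theorem F313677 : act 4 n16572 = n16092 := (sb E70984 F52096)
theorem F313678 : act 3 n124811 = n64982 := (sb E70987 (iv3 D138337))
theorem E74582 : n132435 = n85966 := ((((iv4 F201197)).symm.trans (sb E70987 F221544))).symm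
theorem F313679 : act 5 n124811 = n65332 := (sb E70987 F221542)
theorem F313680 : act 7 n124811 = n133575 := (sb E70987 F221543)
theorem F313681 : act 0 n138338 = n86783 := (sb E70988 F278391)
theorem F313682 : act 1 n138338 = n86797 := (sb E70988 F279558)
theorem F313683 : act 6 n118724 = n64982 := (sb E70989 (iv6 D138339))
theorem E74584 : n118820 = n14743 := (((F102985).symm.trans (sb E70990 (iv0 F235401)))).symm
theorem E74586 : n179595 = n64228 := (((D64228).symm.trans (sb E70992 F282940))).symm
theorem E74587 : n125025 = n14744 := (((D14744).symm.trans (sb E70994 F243652))).symm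
theorem E74588 : n85428 = n14747 := (((D14747).symm.trans (sb E70994 F243653))).symm
theorem E74596 : n151280 = n65228 := (((D65228).symm.trans (sb E70999 (iv6 F238004)))).symm
theorem E74597 : n119254 = n65233 := (((D65233).symm.trans (sb E71000 (iv1 F187698)))).symm
theorem E74598 : n117910 = n65234 := (((D65234).symm.trans (sb E71000 (iv0 F200092)))).symm
theorem E74599 : n65236 = n32991 := ((D65236).symm.trans (sb E71000 (iv7 D71295)))
theorem E74600 : n117679 = n65141 := (((D65141).symm.trans (sb E71001 (iv3 F199963)))).symm
theorem E74602 : n65142 = n34705 := ((D65142).symm.trans (sb E71001 (iv5 F86182)))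
theorem E74603 : n33309 = n14712 := (((F49000).symm.trans (sb E71001 (iv6 F86181)))).symm
theorem E74604 : n118440 = n65149 := (((D65149).symm.trans (sb E71002 D118440))).symm
theorem E74606 : n118441 = n65150 := (((D65150).symm.trans (sb E71002 D118441))).symm
theorem F313684 : act 7 n15889 = n14519 := (sb E71003 (iv7 D30622))
theorem E74608 : n54502 = n14508 := (((D14508).symm.trans (sb E71006 (iv7 D118341)))).symm
theorem E74609 : n54493 = n14510 := (((D14510).symm.trans (sb E71007 (iv6 D118322)))).symm
theorem F313685 : act 4 n6932 = n12570 := (sb E71009 (iv4 D26353))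
theorem E74611 : n16101 = n3147 := (((F11205).symm.trans (sb E71009 F42040))).symm
theorem E74617 : n149681 = n14713 := (((D14713).symm.trans (sb E71015 (iv1 F235338)))).symm
theorem E74618 : n39467 = n14714 := (((D14714).symm.trans (sb E71015 (iv0 D85465)))).symm
theorem E74621 : n179110 = n14717 := (((D14717).symm.trans (sb E71015 D179110))).symm
theorem E74622 : n117554 = n14718 := (((D14718).symm.trans (sb E71015 (iv6 F235341)))).symm
theorem E74625 : n84477 = n14727 := (((D14727).symm.trans (sb E71018 (tr D152912 E73615)))).symm
theorem E74626 : n152892 = n14728 := (((D14728).symm.trans (sb E71018 (iv2 F240106)))).symm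
theorem E74628 : n72935 = n14730 := (((D14730).symm.trans (sb E71018 (iv5 F190146)))).symm
theorem E74629 : n33307 = n14731 := (((D14731).symm.trans (sb E71018 (iv6 D72155)))).symm
theorem E74630 : n18699 = n14707 := ((((iv1 F53796)).symm.trans (sb E71020 (iv1 F29963)))).symm
theorem E74631 : n14735 = n7511 := ((D14735).symm.trans (sb E71020 (iv5 D16085)))
theorem E74633 : n140318 = n61476 := ((F313589).symm.trans (sb E71021 (iv7 F209755)))
theorem F313686 : act 2 n55295 = n34224 := (sb E71022 (iv2 D74673))
theorem F313687 : act 7 n55295 = n34225 := (sb E71022 (iv7 F112086))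
theorem F313688 : act 0 n124956 = n138373 := (sb E71024 F221602)
theorem F313689 : act 2 n115807 = n85095 := (sb E71025 F200681)
theorem F313690 : act 3 n115807 = n58410 := (sb E71025 F200682)
theorem F313691 : act 5 n115807 = n74857 := (sb E71025 F200683)
theorem F313692 : act 6 n115807 = n58408 := (sb E71025 (iv6 D124957))
theorem F313693 : act 7 n115807 = n72077 := (sb E71025 F200684)
theorem F313694 : act 2 n120172 = n74675 := (sb E71027 F247144)
theorem F313695 : act 7 n120172 = n74680 := (sb E71027 F247145)
theorem F313696 : act 2 n131052 = n85096 := (sb E71028 F239948)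
theorem F313697 : act 5 n131052 = n178766 := (sb E71028 (iv5 F278646))
theorem F313698 : act 6 n131052 = n72080 := (sb E71028 (iv6 D152749))
theorem F313699 : act 7 n131052 = n85093 := (sb E71028 (iv7 F239950))
theorem F313700 : act 6 n33281 = n61476 := (sb E71029 (iv6 D131054))
theorem E74638 : n178581 = n53781 := ((((iv1 F112045)).symm.trans (sb E71031 D178581))).symm
theorem E74639 : n125061 = n53780 := (((F112046).symm.trans (sb E71031 (iv0 F208107)))).symm
theorem F313701 : act 3 n55290 = n119114 := (sb E71032 F187399)
theorem E74643 : n156955 = n39384 := (((D39384).symm.trans (sb E71036 (iv3 F247028)))).symm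
theorem E74644 : n156960 = n39385 := (((D39385).symm.trans (sb E71036 (iv5 F247061)))).symm
theorem E74651 : n175405 = n156924 := (((D156924).symm.trans (sb E71038 (iv5 F274451)))).symm
theorem E74652 : n156925 = n152787 := ((D156925).symm.trans (sb E71038 (iv6 F239992)))
theorem F313702 : act 6 n72097 = n34211 := (sb E71039 (iv6 D74622))
theorem E74658 : n178666 = n74291 := (((F167135).symm.trans (sb E71040 (iv5 F278477)))).symm
theorem E74659 : n156227 = n119619 := ((D156227).symm.trans (sb E71040 (iv6 F239710)))
theorem E74661 : n178665 = n74203 := (((F167142).symm.trans (sb E71041 (iv5 F278474)))).symm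
theorem E74670 : n175391 = n156246 := ((((iv4 F245560)).symm.trans (sb E71043 (iv4 F274433)))).symm
theorem E74676 : n157094 = n53781 := ((D157094).symm.trans (sb E71045 (tr F278335 E74638)))
theorem E74677 : n157095 = n39481 := ((D157095).symm.trans (sb E71045 F237947))
theorem E74679 : n157097 = n107869 := ((D157097).symm.trans (sb E71045 F237948))
theorem E74680 : n178755 = n157098 := (((D157098).symm.trans (sb E71045 D178755))).symm
theorem E74682 : n157100 = n124863 := ((D157100).symm.trans (sb E71046 F212306))
theorem E74684 : n157102 = n118574 := ((D157102).symm.trans (sb E71046 (iv5 F212304)))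
theorem E74685 : n157103 = n119623 := ((D157103).symm.trans (sb E71046 (iv6 F212307)))
theorem E74686 : n71233 = n14774 := (((D14774).symm.trans (sb E71049 F211153))).symm
theorem E74689 : n67356 = n27125 := (((iv1 F103224)).symm.trans (sb E71052 F303872))
theorem E74690 : n67355 = n26419 := ((F103222).symm.trans (sb E71052 (iv0 D54628)))
theorem E74691 : n80460 = n67364 := ((((iv3 F103232)).symm.trans (sb E71052 F310138))).symm
theorem E74692 : n74081 = n67367 := (((D67367).symm.trans (sb E71052 (iv6 F110823)))).symm
theorem E74693 : n118642 = n67353 := ((((iv3 F103219)).symm.trans (sb E71055 D118642))).symm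
theorem F313703 : act 0 n136364 = n85065 := (sb E71056 (iv1 D178612))
theorem F313704 : act 4 n136364 = n125185 := (sb E71056 F278392)
theorem F313705 : act 0 n85756 = n64111 := (sb E71057 (iv1 D136365))
theorem F313706 : act 1 n109759 = n150578 := (sb E71058 (iv0 F240308))
theorem F313707 : act 5 n109685 = n85413 := (sb E71059 (iv5 F244605))
theorem F313708 : act 3 n109854 = n74021 := (sb E71060 F186766)
theorem F313709 : act 5 n109854 = n74021 := (sb E71060 F186767)
theorem F313710 : act 6 n109854 = n54665 := (sb E71060 (iv6 D118731))
theorem E74695 : n148651 = n66150 := (((F169842).symm.trans (sb E71061 F240310))).symm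
theorem E74699 : n72249 = n14625 := ((((iv3 F24304)).symm.trans (sb E71066 (iv3 F108687)))).symm
theorem E74704 : n58438 = n53951 := (((D53951).symm.trans (sb E71070 (iv0 F200270)))).symm
theorem E74705 : n65556 = n53952 := (((D53952).symm.trans (sb E71070 (tr F187088 E74442)))).symm
theorem E74706 : n58447 = n53954 := (((D53954).symm.trans (sb E71072 (iv1 F92314)))).symm
theorem E74707 : n53955 = n18696 := ((D53955).symm.trans (sb E71072 (iv0 D39456)))
theorem E74708 : n72106 = n53952 := (E74442).trans E74705
theorem E74709 : n85438 = n53956 := (((D53956).symm.trans (sb E71072 D85438))).symm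
theorem E74710 : n72215 = n68243 := ((((iv1 F104397)).symm.trans (sb E71073 D72215))).symm
theorem E74711 : n72216 = n68242 := (((F104400).symm.trans (sb E71073 D72216))).symm
theorem E74712 : n72212 = n68245 := ((((iv2 F104399)).symm.trans (sb E71073 (iv2 F108656)))).symm
theorem E74713 : n72214 = n68165 := ((((iv4 F104318)).symm.trans (sb E71073 (iv4 F108657)))).symm
theorem E74714 : n72217 = n68259 := ((((iv5 F104406)).symm.trans (sb E71073 D72217))).symm
theorem E74715 : n53860 = n16096 := (((iv6 F84892)).symm.trans (sb E71073 (iv6 D33336)))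
theorem E74718 : n15868 = n12343 := ((((iv6 F20497)).symm.trans (sb E71074 (iv6 D32958)))).symm
theorem E74719 : n70987 = n68268 := ((((iv4 F104415)).symm.trans (sb E71075 (iv4 F107545)))).symm
theorem E74720 : n68269 = n16427 := ((D68269).symm.trans (sb E71075 F52575))
theorem F313711 : act 6 n7515 = n14943 := (sb E71076 F41160)
theorem F313712 : act 1 n85518 = n50665 := (sb E71077 (iv0 D109857))
theorem E74722 : n163079 = n140983 := ((E71594).symm.trans (((iv4 F279132)).symm.trans (sb E71077 (iv4 F224010))))
theorem F313713 : act 5 n85518 = n59001 := (sb E71077 F169843)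
theorem E74723 : n154722 = n143836 := ((((iv3 F226474)).symm.trans (sb E71078 (iv3 F242901)))).symm
theorem E74724 : n155725 = n140982 := ((((iv4 F224007)).symm.trans (sb E71078 (iv4 F244734)))).symm
theorem E74725 : n143841 = n33993 := (((iv6 F226479)).symm.trans (sb E71078 (iv6 D74082)))
theorem E74726 : n163008 = n145674 := ((((iv1 F228732)).symm.trans (sb E71079 (iv1 F309214)))).symm
theorem E74727 : n155714 = n143962 := ((((iv0 F226601)).symm.trans (sb E71079 F244726))).symm
theorem E74728 : n148654 = n66154 := (((F169848).symm.trans (sb E71079 F240314))).symm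
theorem E74729 : n66155 = n32336 := ((D66155).symm.trans (sb E71080 (iv6 D69667)))
theorem F313714 : act 2 n39349 = n61444 := (sb E71081 (iv2 D130962))
theorem E74730 : n135737 = n85099 := (((D85099).symm.trans (sb E71081 (iv3 F218264)))).symm
theorem E74731 : n156005 = n85100 := (((D85100).symm.trans (sb E71081 F245101))).symm
theorem F313715 : act 2 n39350 = n61474 := (sb E71082 (iv2 D131044))
theorem F313716 : act 4 n74330 = n125172 := (sb E71084 F239964)
theorem E74732 : n156255 = n72084 := ((D156255).symm.trans (sb E71084 (iv6 D152759)))
theorem F313717 : act 2 n130959 = n85101 := (sb E71087 F278266)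
theorem F313718 : act 1 n124970 = n61474 := (sb E71088 (iv0 D131042))
theorem F313719 : act 1 n131043 = n85105 := (sb E71089 F278268)
theorem F313720 : act 2 n131043 = n85103 := (sb E71089 F278271)
theorem F313721 : act 3 n131043 = n147425 := (sb E71089 F278272)
theorem F313722 : act 5 n131043 = n117689 := (sb E71089 (iv5 F278270))
theorem F313723 : act 7 n131043 = n85102 := (sb E71089 F278269)
theorem E74733 : n142663 = n119859 := ((D142663).symm.trans (sb E71090 F189194))
theorem E74734 : n146834 = n116552 := ((((iv0 F220207)).symm.trans (sb E71090 (iv0 F230190)))).symm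
theorem E74735 : n158956 = n142664 := (((D142664).symm.trans (sb E71090 (iv4 F250297)))).symm
theorem F313724 : act 6 n66874 = n34685 := (sb E71090 (iv6 D75878))
theorem E74736 : n146970 = n116446 := ((((iv7 F181649)).symm.trans (sb E71090 (iv7 F230362)))).symm
theorem F313725 : act 0 n116079 = n85103 := (sb E71091 F240019)
theorem F313726 : act 1 n116079 = n85102 := (sb E71091 F240025)
theorem F313727 : act 2 n116079 = n85105 := (sb E71091 F240015)
theorem F313728 : act 4 n28879 = n32234 := (sb E71096 (iv4 D69375))
theorem E74743 : n71225 = n28353 := (((F46519).symm.trans (sb E71096 (iv6 F208993)))).symm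
theorem E74744 : n141650 = n31296 := (((F110641).symm.trans (sb E71097 (iv4 F224713)))).symm
theorem F313729 : act 5 n33357 = n53821 := (sb E71098 (iv5 F94156))
theorem F313730 : act 4 n28880 = n32229 := (sb E71100 (iv4 D69361))
theorem E74747 : n141649 = n31295 := (((F110638).symm.trans (sb E71101 (iv4 F224710)))).symm
theorem E74748 : n119878 = n116434 := ((((iv3 F181622)).symm.trans (sb E71102 (iv3 F189226)))).symm
theorem E74749 : n119880 = n116450 := ((((iv4 F181656)).symm.trans (sb E71102 (iv4 F189231)))).symm
theorem E74750 : n116451 = n26660 := ((D116451).symm.trans (sb E71102 (iv6 D55171)))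
theorem E74751 : n117385 = n31148 := ((((iv3 F49497)).symm.trans (sb E71103 (iv3 F183822)))).symm
theorem E74752 : n31156 = n26173 := (((iv6 F49507)).symm.trans (sb E71103 (iv6 D54096)))
theorem E74753 : n140935 = n133564 := ((((iv5 F214846)).symm.trans (sb E71104 (iv5 F223965)))).symm
theorem F313731 : act 6 n66451 = n65648 := (sb E71104 (iv6 D139859))
theorem E74754 : n179056 = n49706 := (((D49706).symm.trans (sb E71110 (iv4 F279649)))).symm
theorem E74755 : n85769 = n49723 := (((D49723).symm.trans (sb E71111 F279650))).symm
theorem E74758 : n75954 = n60853 := (((D60853).symm.trans (sb E71112 (iv5 F113851)))).symm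
theorem E74759 : n85770 = n60851 := ((((iv6 F95407)).symm.trans (sb E71112 D85770))).symm
theorem E74761 : n54485 = n34250 := (((D34250).symm.trans (sb E71121 D54485))).symm
theorem E74762 : n12575 = n12341 := (((F26240).symm.trans (sb E71121 F42023))).symm
theorem E74771 : n156441 = n54704 := (((D54704).symm.trans (sb E71125 (iv4 F245936)))).symm
theorem F313732 : act 4 n16522 = n12633 := (sb E71126 (iv4 D26473))
theorem E74775 : n12637 = n12286 := (((F26126).symm.trans (sb E71126 F42351))).symm
theorem E74776 : n25990 = n12631 := (((D12631).symm.trans (sb E71127 (iv1 D53703)))).symm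
theorem E74777 : n31203 = n12632 := (((D12632).symm.trans (sb E71127 F84727))).symm
theorem E74783 : n156071 = n72087 := ((((iv4 F108544)).symm.trans (sb E71129 (iv4 F245235)))).symm
theorem F313733 : act 4 n16523 = n16095 := (sb E71130 F52568)
theorem E74787 : n72210 = n31333 := ((((iv6 F49587)).symm.trans (sb E71130 D72210))).symm
theorem F313734 : act 1 n82515 = n63672 := (sb E71143 F209873)
theorem E74810 : n98185 = n60866 := (((iv6 F151478)).symm.trans (sb E71143 (iv6 D129555)))
theorem F313735 : act 0 n75984 = n131687 := (sb E71144 F211037)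
theorem F313736 : act 2 n75984 = n132335 := (sb E71144 (iv2 F212283))
theorem F313737 : act 5 n75984 = n131404 := (sb E71144 (iv5 F210626))
theorem E74811 : n138349 = n18803 := (((D18803).symm.trans (sb E71147 D138349))).symm
theorem E74812 : n68291 = n18804 := (((D18804).symm.trans (sb E71147 (iv6 F104458)))).symm
theorem E74814 : n138584 = n85760 := (((D85760).symm.trans (sb E71149 (iv1 F221752)))).symm
theorem E74816 : n138583 = n70968 := ((((iv7 F107514)).symm.trans (sb E71149 (iv7 F221748)))).symm
theorem E74818 : n108366 = n59758 := ((F167545).symm.trans (sb E71154 (iv1 F166527)))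
theorem E74819 : n108371 = n59757 := (((iv0 F167549)).symm.trans (sb E71154 F166528))
theorem E74820 : n118129 = n59685 := ((F309167).symm.trans (sb E71154 F166526))
theorem E74821 : n113130 = n85468 := (((D85468).symm.trans (sb E71155 F219707))).symm
theorem E74829 : n125074 = n49714 := ((((iv2 F78554)).symm.trans (sb E71159 D125074))).symm
theorem F313738 : act 3 n24267 = n27822 := (sb E71159 (iv3 D58472))
theorem E74830 : n120646 = n49771 := ((((iv5 F78630)).symm.trans (sb E71159 (iv5 F192294)))).symm
theorem E74831 : n157308 = n138054 := (((iv3 F247550)).symm.trans (sb E71161 F221302))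
theorem F313739 : act 6 n55870 = n27822 := (sb E71163 (iv6 F311347))
theorem E74832 : n59609 = n35737 := (((F88374).symm.trans (sb E71163 F166372))).symm
theorem F313740 : act 5 n28344 = n32690 := (sb E71164 (iv5 D70442))
theorem F313741 : act 7 n28344 = n40247 := (sb E71164 F309170)
theorem E74833 : n116839 = n62925 := ((D116839).symm.trans (sb E71165 (iv5 D133964)))
theorem F313742 : act 5 n29770 = n26026 := (sb E71167 (iv5 D53842))
theorem E74839 : n58623 = n31099 := (((F81734).symm.trans (sb E71168 (iv0 D125269)))).symm
theorem E74840 : n116826 = n74908 := ((D116826).symm.trans (sb E71169 F215886))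
theorem E74841 : n116827 = n62930 := ((D116827).symm.trans (sb E71169 (iv5 D133967)))
theorem F313743 : act 5 n29771 = n26022 := (sb E71171 (iv5 D53833))
theorem E74843 : n130181 = n35820 := (((F57206).symm.trans (sb E71175 F213778))).symm
theorem F313744 : act 0 n39693 = n71640 := (sb E71183 (iv1 F210118))
theorem F313745 : act 1 n39693 = n61541 := (sb E71183 (iv0 D131178))
theorem F313746 : act 2 n39693 = n62819 := (sb E71183 (iv2 F210117))
theorem E74844 : n85834 = n71684 := ((D85834).symm.trans (sb E71183 F210115))
theorem F313747 : act 0 n125214 = n148967 := (sb E71184 F234101)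
theorem F313748 : act 1 n125214 = n131262 := (sb E71184 F215411)
theorem F313749 : act 2 n125214 = n62820 := (sb E71184 F215386)
theorem F313750 : act 5 n125214 = n118000 := (sb E71184 F215388)
theorem F313751 : act 0 n61391 = n57819 := (sb E71185 (iv1 D124088))
theorem F313752 : act 0 n124087 = n62819 := (sb E71186 F210109)
theorem F313753 : act 2 n124087 = n61541 := (sb E71186 F210106)
theorem F313754 : act 4 n124087 = n61540 := (sb E71186 (iv4 D131176))
theorem F313755 : act 5 n124087 = n107957 := (sb E71186 F210108)
theorem F313756 : act 7 n124087 = n71640 := (sb E71186 F210107)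
theorem F313757 : act 3 n133774 = n85853 := (sb E71187 F279912)
theorem F313758 : act 2 n133775 = n85835 := (sb E71188 F279913)
theorem F313759 : act 3 n133775 = n85854 := (sb E71188 F279914)
theorem F313760 : act 5 n26310 = n49993 := (sb E71189 F167392)
theorem F313761 : act 5 n27848 = n49988 := (sb E71190 (iv5 D108234))
theorem F313762 : act 4 n71222 = n78444 := (sb E71215 (iv4 D163209))
theorem F313763 : act 6 n55251 = n78444 := (sb E71216 (iv6 D163210))
theorem E74846 : n78718 = n55246 := ((D78718).symm.trans (sb E71217 (iv5 D120065)))
theorem E74847 : n181338 = n99554 := (E71222).trans E73532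
theorem F313764 : act 2 n99554 = n86599 := (sb E74847 F282432)
theorem F313765 : act 4 n99554 = n86584 := (sb E74847 (iv4 D181338))
theorem F313766 : act 4 n76073 = n65343 := (sb E71223 (iv4 D139202))
theorem E74850 : n179231 = n163070 := ((((iv2 F257403)).symm.trans (sb E71224 (iv2 F279151)))).symm
theorem E74851 : n179235 = n163076 := (((D163076).symm.trans (sb E71224 (iv4 F279153)))).symm
theorem E74852 : n163077 = n39486 := ((D163077).symm.trans (sb E71224 (iv6 D85535)))
theorem F313767 : act 6 n18711 = n35735 := (sb E71225 (iv6 D78413))
theorem E74856 : n163109 = n125039 := ((D163109).symm.trans (sb E71226 (iv1 F234693)))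
theorem E74859 : n78420 = n28288 := ((((iv4 F45788)).symm.trans (iv4 (sb E71226 (tr F130714 E71227))))).symm
theorem E74860 : n85530 = n28288 := (E71226).trans E74859
theorem E74861 : n179219 = n59608 := ((((iv5 F94018)).symm.trans (sb E74860 (iv5 F279146)))).symm
theorem E74862 : n70946 = n28332 := ((((iv1 F102768)).symm.trans (sb E71227 F115269))).symm
theorem E74863 : n86821 = n28327 := (((F102765).symm.trans (sb E71227 F133107))).symm
theorem E74864 : n66112 = n28326 := (((F45835).symm.trans (sb E71227 (tr F115266 E71444)))).symm
theorem E74865 : n177564 = n58465 := ((D177564).symm.trans (sb E71228 (iv6 D125053)))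
theorem F313768 : act 6 n27819 = n39067 := (sb E71229 (iv6 D84584))
theorem E74869 : n177592 = n85475 := ((D177592).symm.trans (sb E71231 (iv1 F200856)))
theorem E74870 : n177593 = n85474 := ((D177593).symm.trans (sb E71231 F200857))
theorem E74872 : n80071 = n74097 := (((F189516).symm.trans (sb E71232 (iv6 D166815)))).symm
theorem E74873 : n167107 = n74070 := (((iv5 F263194)).symm.trans (sb E71233 (iv5 D155711)))
theorem E74874 : n139797 = n34742 := (((iv4 F222990)).symm.trans (sb E71234 F113886))
theorem E74875 : n139917 = n34728 := ((D139917).symm.trans (sb E71234 (iv6 D75990)))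
theorem E74876 : n162962 = n55215 := ((D162962).symm.trans (sb E71235 (iv6 D119985)))
theorem F313770 : act 6 n26681 = n35713 := (sb E71237 (iv6 D78354))
theorem F313771 : act 1 n117900 = n84622 := (sb E71238 (iv0 D177707))
theorem F313772 : act 0 n117908 = n84622 := (sb E71239 (iv1 D177708))
theorem F313773 : act 5 n146125 = n84880 := (sb E71240 F277165)
theorem F313774 : act 6 n146125 = n84621 := (sb E71240 (iv6 D177706))
theorem F313775 : act 7 n146125 = n84622 := (sb E71240 F277166)
theorem F313776 : act 6 n85779 = n84426 := (sb E71241 (iv6 D177186))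
theorem F313777 : act 7 n85779 = n84464 := (sb E71241 F276580)
theorem F313778 : act 7 n124497 = n179640 := (sb E71242 (iv7 F279747))
theorem F313779 : act 6 n124500 = n85437 := (sb E71243 F200704)
theorem F313780 : act 7 n124500 = n58414 := (sb E71243 (iv7 D124969))
theorem F313781 : act 0 n39422 = n58104 := (sb E71244 (iv1 D124501))
theorem F313782 : act 1 n39422 = n84621 := (sb E71244 F199137)
theorem E74882 : n85320 = n78746 := ((D85320).symm.trans (sb E71244 (iv5 F199139)))
theorem F313783 : act 7 n39422 = n84619 := (sb E71244 F199138)
theorem E74883 : n155767 = n36459 := (((F60699).symm.trans (sb E71245 F278815))).symm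
theorem F313784 : act 1 n85780 = n84619 := (sb E71246 F199144)
theorem F313785 : act 2 n85780 = n84621 := (sb E71246 F199141)
theorem F313786 : act 7 n85780 = n58104 := (sb E71246 (iv7 D124502))
theorem F313787 : act 0 n163230 = n148609 := (sb E71247 F279209)
theorem F313788 : act 2 n163230 = n127755 := (sb E71247 F279206)
theorem F313789 : act 4 n163230 = n105854 := (sb E71247 F279208)
theorem F313790 : act 5 n163230 = n85559 := (sb E71247 (iv5 D179320))
theorem F313791 : act 6 n163230 = n178910 := (sb E71247 (iv6 F279211))
theorem F313792 : act 7 n163230 = n127762 := (sb E71247 F279207)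
theorem F313793 : act 1 n163231 = n148609 := (sb E71248 F279217)
theorem F313796 : act 5 n163231 = n85560 := (sb E71248 (iv5 D179323))
theorem F313797 : act 6 n163231 = n150596 := (sb E71248 (iv6 F279219))
theorem F313798 : act 7 n163231 = n127755 := (sb E71248 F279216)
theorem F313799 : act 5 n146724 = n79935 := (sb E71249 F257502)
theorem F313800 : act 6 n146724 = n78450 := (sb E71249 (iv6 D163229))
theorem F313801 : act 7 n146724 = n78451 := (sb E71249 F257503)
theorem F313802 : act 0 n85774 = n78450 := (sb E71250 (iv1 F193150))
theorem F313803 : act 1 n85774 = n55882 := (sb E71250 (iv0 D121111))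
theorem F313804 : act 2 n85774 = n78448 := (sb E71250 (iv2 F193148))
theorem E74884 : n179630 = n121009 := (((iv5 F279739)).symm.trans (sb E71250 (iv5 F302146)))
theorem F313805 : act 0 n58550 = n55882 := (sb E71251 (iv1 D121112))
theorem F313806 : act 1 n58550 = n78450 := (sb E71251 F193144)
theorem E74885 : n125193 = n86239 := ((D125193).symm.trans (sb E71251 (iv5 F193145)))
theorem F313807 : act 7 n58550 = n78448 := (sb E71251 F193147)
theorem F313810 : act 7 n85325 = n55882 := (sb E71253 (iv7 D121113))
theorem E74886 : n130894 = n70975 := ((D130894).symm.trans (sb E71254 F237090))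
theorem E74887 : n70974 = n60875 := ((((iv7 F105945)).symm.trans (sb E71254 (iv7 D150575)))).symm
theorem E74888 : n129582 = n78443 := ((D129582).symm.trans (sb E71256 (iv5 D163204)))
theorem E74889 : n79561 = n77670 := (((F306025).symm.trans (sb E71256 F306738))).symm
theorem E74890 : n56065 = n39854 := (((F125775).symm.trans (sb E71258 (iv1 D121443)))).symm
theorem E74891 : n170694 = n82445 := (((iv3 F268199)).symm.trans (sb E71258 F301926))
theorem E74892 : n129928 = n37451 := ((((iv5 D81829)).symm.trans (sb E71258 F305824))).symm
theorem F313811 : act 6 n81829 = n61408 := (sb E71258 F305825)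
theorem E74893 : n79558 = n77669 := (((iv7 F304035)).symm.trans (sb E71258 F306023))
theorem F313812 : act 0 n129340 = n113170 := (sb E71260 (tr (iv1 F278077) E73602))
theorem F313813 : act 4 n129340 = n118102 := (sb E71260 F278074)
theorem F313814 : act 5 n129340 = n84922 := (sb E71260 (iv5 D178468))
theorem F313815 : act 6 n129340 = n120148 := (sb E71260 (iv6 F311315))
theorem F313816 : act 7 n129340 = n112577 := (sb E71260 (tr (iv7 F278079) E73598))
theorem E74894 : n126332 = n60785 := ((F203138).symm.trans (sb E71261 (iv1 D129341)))
theorem E74895 : n129343 = n59222 := (((F175153).symm.trans (iv0 (sb E71262 (tr F243972 E73598))))).symm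
theorem E74896 : n155160 = n59222 := (E71262).trans E74895
theorem E74897 : n126331 = n73644 := ((D126331).symm.trans (sb E74896 (iv4 D155160)))
theorem E74898 : n178453 = n28121 := ((((iv5 D59222)).symm.trans (sb E74896 F278055))).symm
theorem E74899 : n126323 = n117661 := (((iv6 F203133)).symm.trans (sb E74896 F243970))
theorem F313817 : act 1 n126330 = n75866 := (sb E71263 F311383)
theorem F313818 : act 2 n126330 = n129340 := (sb E71263 F311384)
theorem F313819 : act 4 n126330 = n155118 := (sb E71263 F311385)
theorem F313820 : act 6 n126330 = n74683 := (sb E71263 (iv6 D157072))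
theorem F313821 : act 3 n62080 = n34681 := (sb E71265 (iv3 D75864))
theorem E74902 : n98182 = n60864 := (((F96745).symm.trans (sb E71265 F151474))).symm
theorem F313822 : act 0 n54817 = n29421 := (sb E71266 (iv1 D62150))
theorem F313823 : act 2 n54817 = n60782 := (sb E71266 (iv2 F96881))
theorem E74903 : n132467 = n38023 := (((F86745).symm.trans (sb E71266 D132467))).symm
theorem E74904 : n119121 = n29465 := ((D119121).symm.trans (sb E71266 (iv5 F96882)))
theorem F313824 : act 7 n54817 = n60783 := (sb E71266 F96880)
theorem F313825 : act 0 n62149 = n34681 := (sb E71267 (iv1 F113740))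
theorem F313826 : act 4 n62149 = n70637 := (sb E71267 (iv4 F155357))
theorem E74907 : n132466 = n119120 := ((D132466).symm.trans (sb E71267 (iv6 F187419)))
theorem F313827 : act 5 n28835 = n34681 := (sb E71268 (iv5 D75865))
theorem F313828 : act 4 n62147 = n34671 := (sb E71269 (iv4 D75823))
theorem E74911 : n132459 = n117666 := ((D132459).symm.trans (sb E71269 (iv6 F184265)))
theorem F313829 : act 7 n62147 = n34681 := (sb E71269 F113766)
theorem F313830 : act 3 n129546 = n70578 := (sb E71270 (iv3 D150020))
theorem F313831 : act 5 n85506 = n70455 := (sb E71273 (iv5 D149879))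
theorem F313832 : act 4 n58459 = n84591 := (sb E71274 F235747)
theorem E74912 : n163876 = n120059 := (((F208512).symm.trans (sb E71275 F258305))).symm
theorem F313833 : act 6 n74076 = n78258 := (sb E71275 (iv6 D162793))
theorem F313834 : act 5 n70578 = n67358 := (sb E71276 (iv5 D143811))
theorem F313835 : act 6 n70578 = n67359 := (sb E71276 F226464)
theorem E74913 : n67140 = n18694 := ((((iv1 D39451)).symm.trans (sb E71277 (iv1 D143344)))).symm
theorem E74914 : n85374 = n67145 := (((iv0 F306226)).symm.trans (sb E71277 F226116))
theorem E74923 : n58441 = n53636 := ((D58441).symm.trans (sb E71286 (iv5 D116374)))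
theorem F313836 : act 5 n25966 = n13272 := (sb E71288 (iv5 D27810))
theorem E74927 : n85396 = n53643 := ((D85396).symm.trans (sb E71290 (iv5 D116383)))
theorem F313837 : act 5 n25970 = n18700 := (sb E71292 F60379)
theorem F313838 : act 6 n60350 = n84452 := (sb E71294 (iv6 D177257))
theorem F313839 : act 6 n60351 = n84453 := (sb E71295 (iv6 D177262))
theorem F313840 : act 1 n87494 = n80468 := (sb E71299 (iv0 D167674))
theorem F313841 : act 0 n107928 = n80468 := (sb E71300 (iv1 D167675))
theorem F313842 : act 2 n74795 = n80468 := (sb E71301 (iv2 D167676))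
theorem F313843 : act 0 n81662 = n132335 := (sb E71302 F213709)
theorem E74930 : n170275 = n62431 := ((D170275).symm.trans (sb E71302 (iv4 D133050)))
theorem E74931 : n170276 = n157439 := ((D170276).symm.trans (sb E71302 (iv5 F247992)))
theorem E74932 : n170278 = n131687 := ((D170278).symm.trans (sb E71302 (iv7 F217747)))
theorem E74933 : n98183 = n29393 := ((D98183).symm.trans (sb E71303 (iv0 D62082)))
theorem F313844 : act 2 n45877 = n60867 := (sb E71303 (iv2 F212259))
theorem E74935 : n98184 = n29441 := ((D98184).symm.trans (sb E71303 F212257))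
theorem E74937 : n170283 = n131405 := ((D170283).symm.trans (sb E71304 F213641))
theorem F313845 : act 2 n81664 = n131403 := (sb E71304 F210628)
theorem F313846 : act 7 n81664 = n131404 := (sb E71304 (iv7 F210627))
theorem E74938 : n170295 = n157416 := ((D170295).symm.trans (sb E71306 F247919))
theorem E74939 : n170296 = n157428 := ((D170296).symm.trans (sb E71306 (iv0 F247956)))
theorem E74940 : n170298 = n144846 := ((D170298).symm.trans (sb E71306 (iv7 F227771)))
theorem E74948 : n66456 = n28678 := ((((iv5 F46224)).symm.trans (sb E71315 F181405))).symm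
theorem E74950 : n66656 = n15840 := ((((iv6 D32898)).symm.trans (sb E71316 (iv6 D142181)))).symm
theorem F313847 : act 6 n32900 = n53557 := (sb E71318 (iv6 D116213))
theorem E74952 : n14703 = n8334 := ((((iv7 F41742)).symm.trans (sb E71319 (iv7 D31108)))).symm
theorem F313848 : act 3 n49772 = n55870 := (sb E71321 F193102)
theorem E74954 : n107748 = n55869 := ((D107748).symm.trans (sb E71321 (iv5 D121076)))
theorem E74955 : n78418 = n28294 := (((F78632).symm.trans (sb E71321 F193103))).symm
theorem F313849 : act 6 n163002 = n85509 := (sb E71325 (iv6 D179183))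
theorem F313850 : act 3 n163005 = n85503 := (sb E71326 F279111)
theorem F313851 : act 6 n163005 = n85501 := (sb E71326 (iv6 D179159))
theorem F313852 : act 6 n39479 = n78384 := (sb E71328 (iv6 D163006))
theorem F313853 : act 5 n39478 = n73718 := (sb E71329 (iv5 D155219))
theorem E74957 : n146132 = n36335 := ((((iv1 F57078)).symm.trans (sb E71332 F233339))).symm
theorem E74958 : n146138 = n36334 := (((F57077).symm.trans (sb E71332 F233340))).symm
theorem F313854 : act 1 n125049 = n167716 := (sb E71337 (iv0 F300184))
theorem F313855 : act 5 n125049 = n73715 := (sb E71337 (iv5 D155211))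
theorem E74963 : n143697 = n78401 := ((F311478).symm.trans (sb E71338 F244098))
theorem F313857 : act 0 n125031 = n78401 := (sb E71340 (iv1 D163053))
theorem E74964 : n165714 = n74095 := ((((iv6 F234879)).symm.trans (sb E71340 (iv6 F302650)))).symm
theorem F313858 : act 7 n163048 = n85473 := (sb E71341 (iv7 D179131))
theorem F313859 : act 7 n39470 = n78401 := (sb E71343 (iv7 D163055))
theorem F313860 : act 5 n55856 = n74036 := (sb E71344 (iv5 D155634))
theorem E74967 : n155758 = n86187 := ((((iv6 F132145)).symm.trans (sb E71344 (iv6 F244766)))).symm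
theorem E74969 : n86188 = n33998 := ((D86188).symm.trans (sb E71346 (iv5 D74096)))
theorem F313863 : act 6 n155718 = n79547 := (sb E71347 (iv6 D165618))
theorem E74970 : n160518 = n74094 := (((iv0 F253577)).symm.trans (sb E71348 F189613))
theorem E74971 : n180477 = n55242 := ((D180477).symm.trans (sb E71348 F189602))
theorem F313864 : act 6 n86190 = n74073 := (sb E71348 F189603)
theorem E74972 : n78355 = n55239 := ((F132151).symm.trans (sb E71348 (iv7 D120048)))
theorem F313865 : act 4 n70965 = n74448 := (sb E71349 F213323)
theorem F313866 : act 0 n155632 = n162821 := (sb E71350 (iv1 F277131))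
theorem F313867 : act 1 n155633 = n162821 := (sb E71351 F277136)
theorem F313868 : act 0 n155631 = n162824 := (sb E71352 (iv1 F277137))
theorem F313869 : act 1 n155631 = n162823 := (sb E71352 F277135)
theorem F313870 : act 3 n155631 = n162957 := (sb E71352 F277132)
theorem F313871 : act 5 n155631 = n121064 := (sb E71352 F277133)
theorem F313872 : act 7 n155631 = n162821 := (sb E71352 F277134)
theorem F313873 : act 7 n155599 = n162825 := (sb E71353 F277138)
theorem F313874 : act 6 n155662 = n84613 := (sb E71361 (iv6 D177684))
theorem E74973 : n167939 = n62459 := (E71362).trans E74099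
theorem E74974 : n162832 = n61205 := (((F182267).symm.trans (sb E74973 F264647))).symm
theorem E74976 : n80612 = n77615 := (((F306594).symm.trans (sb E74973 (iv6 D167939)))).symm
theorem F313875 : act 2 n146018 = n114796 := (sb E71367 (iv2 F235245))
theorem F313876 : act 4 n146018 = n114540 := (sb E71367 F235243)
theorem E74977 : n76750 = n66879 := ((((iv4 F102733)).symm.trans (sb E71369 F235246))).symm
theorem F313877 : act 7 n177700 = n85317 := (sb E71371 (iv7 D178942))
theorem F313878 : act 4 n39426 = n84619 := (sb E71372 (iv4 D177701))
theorem E74978 : n163932 = n85327 := ((((iv5 F130606)).symm.trans (sb E71372 F277156))).symm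
theorem F313880 : act 5 n124965 = n163935 := (sb E71375 F277159)
theorem E74979 : n163917 = n34708 := ((((iv5 F54949)).symm.trans (sb E71376 F277161))).symm
theorem F313881 : act 5 n78758 = n58414 := (sb E71377 (iv5 D124968))
theorem E74980 : n178956 = n55936 := (((F119915).symm.trans (sb E71377 (iv6 F278839)))).symm
theorem E74982 : n179646 = n78727 := (((iv4 F279766)).symm.trans (sb E71381 (iv4 D163893)))
theorem E74983 : n155776 = n155372 := ((((iv1 F244346)).symm.trans (sb E71382 (iv1 F250391)))).symm
theorem E74984 : n163408 = n132637 := (((iv0 F257690)).symm.trans (sb E71382 (tr F250392 E74532)))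
theorem F313883 : act 4 n86247 = n86018 := (sb E71382 F250390)
theorem E74985 : n78723 = n75955 := ((F132205).symm.trans (sb E71382 (iv7 D159049)))
theorem E74986 : n163226 = n60851 := (E71384).trans E74759
theorem E74987 : n163882 = n129497 := (((D129497).symm.trans (sb E74986 F258309))).symm
theorem E74989 : n155775 = n79586 := (((F299786).symm.trans (sb E71385 (iv0 F244788)))).symm
theorem F313884 : act 5 n78724 = n39616 := (sb E71385 (iv5 D85773))
theorem E74992 : n159048 = n35846 := ((((iv6 D78724)).symm.trans (sb E71385 (iv6 F250389)))).symm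
theorem E74994 : n180568 = n179644 := (((D179644).symm.trans (sb E71387 (iv3 F281050)))).symm
theorem E74995 : n179645 = n39909 := ((D179645).symm.trans (sb E71387 (iv5 D86238)))
theorem E74997 : n157688 = n39923 := (((iv1 F248483)).symm.trans (sb E71388 (iv1 D86269)))
theorem E74998 : n157689 = n78452 := (((iv0 F248486)).symm.trans (sb E71388 F132229))
theorem E74999 : n180614 = n157709 := ((((iv3 F248521)).symm.trans (sb E71388 D180614))).symm
theorem E75000 : n157710 = n56247 := ((D157710).symm.trans (sb E71388 (iv5 F132231)))
theorem F313885 : act 4 n86268 = n53888 := (sb E71390 F182693)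
theorem E75002 : n180613 = n68355 := ((D180613).symm.trans (sb E71390 F182694))
theorem E75003 : n78720 = n66440 := (((D66440).symm.trans (sb E71391 (iv4 D163875)))).symm
theorem F313886 : act 0 n68808 = n39905 := (sb E71392 F122628)
theorem E75004 : n166351 = n69175 := (((E72827).symm.trans (((iv3 F230108)).symm.trans (sb E71392 (iv3 F261935))))).symm
theorem E75005 : n51976 = n36387 := ((E72828).symm.trans (((iv5 F230082)).symm.trans (sb E71392 (iv5 D79879))))
theorem E75007 : n180557 = n15187 := ((((iv3 D32178)).symm.trans (sb E71393 D180557))).symm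
theorem E75008 : n84844 = n51971 := (((F105482).symm.trans (sb E71393 F132177))).symm
theorem E75009 : n113219 = n84612 := ((F231402).symm.trans (sb E71395 (iv5 D177679)))
theorem F313887 : act 7 n147628 = n84870 := (sb E71395 F277115)
theorem E75010 : n50766 = n35856 := ((((iv1 F60705)).symm.trans (sb E71396 (iv1 F170183)))).symm
theorem E75011 : n50761 = n35851 := ((((iv0 F92086)).symm.trans (sb E71396 (iv0 D110060)))).symm
theorem E75012 : n59044 = n18559 := (((F60084).symm.trans (sb E71396 F170182))).symm
theorem F313888 : act 5 n39081 = n69186 := (sb E71396 (iv5 F170185))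
theorem F313889 : act 2 n147630 = n180564 := (sb E71397 (iv2 F281038))
theorem F313890 : act 5 n147630 = n84622 := (sb E71397 (iv5 D177709))
theorem F313891 : act 7 n147630 = n84880 := (sb E71397 F277168)
theorem F313892 : act 4 n39269 = n53886 := (sb E71398 (iv4 D116925))
theorem F313893 : act 1 n55038 = n73724 := (sb E71400 (iv0 D155238))
theorem F313894 : act 0 n72088 = n73724 := (sb E71401 (iv1 D155239))
theorem F313895 : act 1 n54307 = n73728 := (sb E71402 (iv0 D155247))
theorem F313896 : act 0 n54312 = n73728 := (sb E71403 (iv1 D155248))
theorem F313897 : act 4 n58417 = n124500 := (sb E71407 F257494)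
theorem E75015 : n78731 = n68782 := (((F112639).symm.trans (sb E71409 F257497))).symm
theorem F313898 : act 4 n58416 = n78450 := (sb E71410 F257498)
theorem F313899 : act 5 n121243 = n74119 := (sb E71413 (iv5 D155814))
theorem E75016 : n159272 = n74100 := ((((iv1 F189619)).symm.trans (sb E71415 (iv1 F250757)))).symm
theorem F313900 : act 5 n34005 = n55931 := (sb E71415 (iv5 D121244))
theorem F313901 : act 4 n31507 = n31685 := (sb E71416 F104213)
theorem E75023 : n138586 = n62858 := ((D138586).symm.trans (sb E71418 F201242))
theorem E75024 : n67658 = n59988 := (((iv6 F103671)).symm.trans (sb E71418 F201243))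
theorem F313902 : act 4 n65075 = n65369 := (sb E71419 F166880)
theorem E75025 : n138587 = n49881 := ((D138587).symm.trans (sb E71419 (iv6 D108007)))
theorem E75026 : n116943 = n30738 := ((((iv1 F49711)).symm.trans (sb E71420 F237425))).symm
theorem E75034 : n68287 = n58621 := (((D58621).symm.trans (sb E71424 (iv6 F104454)))).symm
theorem E75035 : n67648 = n58622 := (((D58622).symm.trans (sb E71425 (iv1 F219780)))).symm
theorem E75036 : n68290 = n54511 := ((((iv0 F86113)).symm.trans (sb E71425 D68290))).symm
theorem F313903 : act 3 n27883 = n14948 := (sb E71425 (iv3 D31776))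
theorem E75037 : n68292 = n31099 := (((E74839).symm.trans ((D58623).symm.trans (sb E71425 D68292)))).symm
theorem E75038 : n58624 = n30914 := ((D58624).symm.trans (sb E71425 F50070))
theorem E75039 : n71145 = n25909 := ((((iv3 F40948)).symm.trans (sb E71426 (iv3 F107653)))).symm
theorem E75040 : n58622 = n25913 := (((D25913).symm.trans (sb E71426 F92597))).symm
theorem E75041 : n54508 = n30909 := ((((iv3 F49356)).symm.trans (sb E71427 (iv3 F86109)))).symm
theorem E75042 : n54511 = n30922 := ((((iv5 F49361)).symm.trans (sb E71427 D54511))).symm
theorem E75043 : n25883 = n12573 := (((iv6 F40890)).symm.trans (sb E71427 (iv6 D26362)))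
theorem E75044 : n128493 = n67445 := ((((iv0 F103298)).symm.trans (sb E71428 F206647))).symm
theorem F313904 : act 6 n31777 = n58619 := (sb E71428 F200009)
theorem E75045 : n71161 = n30915 := (((F50072).symm.trans (sb E71428 (iv7 F200008)))).symm
theorem E75046 : n132434 = n85967 := ((D132434).symm.trans (sb E71430 F201195))
theorem E75047 : n144962 = n132513 := (((D132513).symm.trans (sb E71431 F227933))).symm
theorem E75048 : n144958 = n132514 := (((D132514).symm.trans (sb E71431 (iv0 F229148)))).symm
theorem F313905 : act 1 n53897 = n29430 := (sb E71432 F95972)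
theorem F313906 : act 4 n53897 = n29095 := (sb E71432 (iv4 D61471))
theorem F313907 : act 0 n53892 = n29430 := (sb E71433 F95977)
theorem E75052 : n131041 = n116938 := ((((iv3 F182708)).symm.trans (sb E71433 D131041))).symm
theorem F313908 : act 4 n53892 = n29096 := (sb E71433 (iv4 D61473))
theorem E75057 : n145159 = n28332 := (E71439).trans E74862
theorem E75058 : n70284 = n59708 := ((((iv5 F94101)).symm.trans (sb E75057 (tr F228139 E73047)))).symm
theorem E75059 : n133564 = n13518 := ((((iv7 D28332)).symm.trans (sb E75057 (tr F228138 E74753)))).symm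
theorem F313910 : act 6 n125261 = n68293 := (sb E71441 (iv6 D145698))
theorem E75062 : n76268 = n68286 := (((iv7 F199976)).symm.trans (sb E71442 (iv7 D145680)))
theorem E75067 : n70213 = n28326 := (E71444).trans E74864
theorem E75069 : n48928 = n30911 := (((iv5 F77139)).symm.trans (sb E75067 (tr (iv5 D70213) E71688)))
theorem F313911 : act 1 n120675 = n66847 := (sb E71446 (iv0 D142612))
theorem F313912 : act 0 n117486 = n66847 := (sb E71447 (iv1 D142613))
theorem F313913 : act 1 n116592 = n55622 := (sb E71448 (iv0 D120673))
theorem E75072 : n152720 = n53730 := (((F181960).symm.trans (sb E71450 (iv1 F278592)))).symm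
theorem E75073 : n178742 = n53711 := ((((iv0 F181961)).symm.trans (sb E71450 (iv0 F278591)))).symm
theorem F313914 : act 6 n120674 = n139690 := (sb E71451 F225475)
theorem F313915 : act 7 n120674 = n66847 := (sb E71451 (iv7 D142615))
theorem F313916 : act 1 n73687 = n65683 := (sb E71452 (iv0 D139918))
theorem E75075 : n129807 = n34702 := (((F110381).symm.trans (sb E71452 F223135))).symm
theorem F313917 : act 3 n130886 = n74448 := (sb E71453 F246205)
theorem F313918 : act 5 n130886 = n74447 := (sb E71453 (iv5 D156567))
theorem F313919 : act 7 n130886 = n115809 := (sb E71453 F246206)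
theorem E75076 : n139733 = n74996 := (((D74996).symm.trans (sb E71454 F246208))).symm
theorem F313920 : act 6 n34359 = n74448 := (sb E71454 (iv6 D156568))
theorem E75077 : n117175 = n66450 := ((F199970).symm.trans (sb E71457 (iv7 D141703)))
theorem E75080 : n140993 = n85973 := (((iv2 F224015)).symm.trans (sb E71459 F237641))
theorem F313921 : act 6 n66132 = n85954 := (sb E71459 F237643)
theorem E75081 : n179194 = n140983 := (E71594).trans E74722
theorem E75083 : n140981 = n59758 := ((D140981).symm.trans (sb E71461 (tr F237645 E74818)))
theorem E75084 : n140978 = n74167 := ((D140978).symm.trans (sb E71462 (iv6 F237650)))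
theorem E75085 : n150501 = n133316 := ((((iv3 F214289)).symm.trans (sb E71465 D150501))).symm
theorem E75087 : n66873 = n15121 := ((((iv4 F105819)).symm.trans (sb E71466 F225541))).symm
theorem E75088 : n66872 = n53665 := ((((iv7 F110657)).symm.trans (sb E71466 (iv7 D142661)))).symm
theorem F313922 : act 6 n62568 = n66868 := (sb E71467 (iv6 D142652))
theorem E75089 : n114764 = n54018 := ((((iv3 F85214)).symm.trans (sb E71469 (iv3 F190332)))).symm
theorem F313923 : act 0 n70224 = n80571 := (sb E71470 (iv1 F300092))
theorem F313924 : act 2 n70224 = n37355 := (sb E71470 F125434)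
theorem E75090 : n170045 = n149529 := (((D149529).symm.trans (sb E71470 (iv3 F267489)))).symm
theorem E75091 : n160134 = n149530 := (((D149530).symm.trans (sb E71470 (tr D170046 E73616)))).symm
theorem E75092 : n149531 = n37250 := ((D149531).symm.trans (sb E71470 (iv5 D81556)))
theorem E75093 : n170047 = n149532 := (((D149532).symm.trans (sb E71470 D170047))).symm
theorem F313925 : act 7 n70224 = n37350 := (sb E71470 F125435)
theorem F313926 : act 1 n81723 = n160135 := (sb E71472 F290297)
theorem E75094 : n170477 = n52986 := ((D170477).symm.trans (sb E71472 (iv3 D114831)))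
theorem F313927 : act 4 n106314 = n80571 := (sb E71473 (iv4 D167876))
theorem F313928 : act 1 n139270 = n152595 := (sb E71474 (iv0 F241455))
theorem F313929 : act 5 n139270 = n72841 := (sb E71474 F241453)
theorem F313930 : act 6 n139270 = n147802 := (sb E71474 F241454)
theorem F313931 : act 7 n139270 = n72633 := (sb E71474 (iv7 D153606))
theorem F313932 : act 1 n139269 = n72633 := (sb E71475 F241451)
theorem F313933 : act 2 n139269 = n152595 := (sb E71475 (iv2 F239785))
theorem F313934 : act 3 n139269 = n149009 := (sb E71475 F235898)
theorem F313935 : act 4 n139269 = n167766 := (sb E71475 (iv4 F264130))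
theorem F313936 : act 6 n139269 = n70536 := (sb E71475 (iv6 D149966))
theorem F313937 : act 1 n133783 = n65366 := (sb E71476 (iv0 D139268))
theorem E75095 : n147012 = n31160 := (E71485).trans E73791
theorem E75096 : n148647 = n53671 := (E73834).trans E74120
theorem E75097 : n70345 = n66881 := (((D66881).symm.trans (sb E75095 F230455))).symm
theorem E75098 : n120700 = n116450 := (E71486).trans E74749
theorem F313938 : act 3 n116450 = n153031 := (sb E75098 (iv3 F240335))
theorem E75099 : n129243 = n70346 := (((iv5 F207461)).symm.trans (sb E75098 F192408))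
theorem E75100 : n179140 = n141690 := (((D141690).symm.trans (sb E71487 (iv3 F279083)))).symm
theorem E75101 : n129606 = n39471 := (((iv5 F207781)).symm.trans (sb E71487 (iv5 D85481)))
theorem E75102 : n114772 = n54014 := ((((iv4 F85210)).symm.trans (sb E71489 F230465))).symm
theorem E75103 : n68911 = n53660 := ((((iv3 F84659)).symm.trans (sb E71490 (iv3 F105086)))).symm
theorem E75104 : n68928 = n66828 := ((((iv3 F102672)).symm.trans (sb E71493 (iv3 F105098)))).symm
theorem F313939 : act 6 n31157 = n16339 := (sb E71493 (iv6 F50675))
theorem E75105 : n105773 = n54152 := ((((iv1 F85483)).symm.trans (sb E71496 (iv1 F243249)))).symm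
theorem E75106 : n31667 = n23853 := (((F77114).symm.trans (sb E71496 (iv2 D68059)))).symm
theorem E75107 : n105776 = n81693 := ((D105776).symm.trans (sb E71496 (tr (iv3 F182777) E73307)))
theorem E75109 : n145180 = n105777 := (((D105777).symm.trans (sb E71496 D145180))).symm
theorem E75110 : n106014 = n105778 := (((D105778).symm.trans (sb E71496 (iv6 F310023)))).symm
theorem E75111 : n105788 = n105746 := ((((iv7 F162390)).symm.trans (sb E71496 (iv7 F243374)))).symm
theorem E75112 : n28342 = n26057 := ((F77132).symm.trans (sb E71497 (iv3 D53890)))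
theorem E75114 : n116938 = n105816 := ((((iv5 F162521)).symm.trans (sb E71497 D116938))).symm
theorem E75115 : n116939 = n105821 := (((D105821).symm.trans (sb E71497 D116939))).symm
theorem E75118 : n145177 = n105806 := (((D105806).symm.trans (sb E71498 D145177))).symm
theorem F313940 : act 6 n48917 = n45431 := (sb E71498 F309272)
theorem E75119 : n145211 = n144856 := ((((iv1 F229281)).symm.trans (sb E71499 (iv1 F264625)))).symm
theorem E75120 : n80605 = n68475 := ((((iv0 D146038)).symm.trans (sb E71499 (iv0 D167928)))).symm
theorem F313941 : act 3 n146038 = n128382 := (sb E71499 (iv3 F264627))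
theorem F313942 : act 6 n146038 = n150777 := (sb E71499 F264622)
theorem E75121 : n105803 = n105790 := ((F229282).symm.trans (sb E71499 F264626))
theorem E75122 : n105802 = n105782 := ((((iv3 F162464)).symm.trans (sb E71500 D105802))).symm
theorem E75123 : n105787 = n34402 := (((iv4 F162478)).symm.trans (sb E71500 F77128))
theorem F313943 : act 7 n48912 = n69738 := (sb E71500 (iv7 F106129))
theorem E75125 : n151504 = n47037 := (((iv2 F238364)).symm.trans (sb E71501 (iv2 D100918)))
theorem F313944 : act 3 n71673 = n47134 := (sb E71501 (iv3 F155090))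
theorem F313945 : act 4 n15004 = n26625 := (sb E71506 F85767)
theorem F313946 : act 4 n15002 = n26273 := (sb E71508 F85781)
theorem E75132 : n128416 = n120672 := ((((iv4 F192373)).symm.trans (sb E71509 (iv4 F206543)))).symm
theorem E75134 : n120675 = n106095 := ((D120675).symm.trans (sb E71509 (iv7 F163112)))
theorem F313947 : act 1 n55170 = n26864 := (sb E71510 (iv0 D55633))
theorem E75135 : n120677 = n119879 := (((D119879).symm.trans (sb E71510 (iv3 F237539)))).symm
theorem F313948 : act 0 n55173 = n26864 := (sb E71511 (iv1 D55634))
theorem E75136 : n120701 = n119881 := (((D119881).symm.trans (sb E71511 D120701))).symm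
theorem F313949 : act 1 n13870 = n26240 := (sb E71512 (iv0 D54274))
theorem E75137 : n39836 = n28953 := ((((iv4 F46590)).symm.trans (sb E71512 (iv4 F85621)))).symm
theorem F313950 : act 6 n49036 = n35058 := (sb E71513 F88010)
theorem F313951 : act 7 n49036 = n26864 := (sb E71513 (iv7 D55635))
theorem E75139 : n159041 = n121400 := ((D159041).symm.trans (sb E71514 (iv1 F302272)))
theorem E75140 : n159020 = n35455 := (((iv0 F250358)).symm.trans (sb E71514 (iv0 D77658)))
theorem E75141 : n121449 = n120617 := ((((iv2 F192206)).symm.trans (sb E71514 (iv2 F193809)))).symm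
theorem E75142 : n157667 = n119697 := (((E74061).symm.trans (((iv3 F250383)).symm.trans (sb E71514 (iv3 F303165))))).symm
theorem E75143 : n159042 = n77227 := ((D159042).symm.trans (sb E71514 (iv5 F302377)))
theorem E75145 : n150887 = n121450 := (((iv7 F237605)).symm.trans (sb E71514 (iv7 F193811)))
theorem E75146 : n121430 = n75940 := ((D121430).symm.trans (sb E71515 (iv1 D159018)))
theorem E75147 : n146139 = n83327 := ((((iv7 F302738)).symm.trans (sb E71515 (iv7 F250354)))).symm
theorem E75148 : n161529 = n55549 := ((D161529).symm.trans (sb E71517 F192199))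
theorem E75149 : n161531 = n55548 := ((D161531).symm.trans (sb E71517 (iv6 D120614)))
theorem E75150 : n161533 = n71306 := ((D161533).symm.trans (sb E71518 (iv4 D151309)))
theorem E75151 : n178957 = n161534 := (((D161534).symm.trans (sb E71518 (iv6 F278842)))).symm
theorem E75152 : n121536 = n68795 := ((D121536).symm.trans (sb E71519 (iv6 D146734)))
theorem F313954 : act 0 n151153 = n83348 := (sb E71520 F256178)
theorem E75153 : n161564 = n153035 := ((((iv0 F279891)).symm.trans (sb E71520 F302587))).symm
theorem E75154 : n153166 = n121540 := (((iv2 F240467)).symm.trans (sb E71520 F256176))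
theorem F313955 : act 5 n151153 = n77870 := (sb E71520 (iv5 D162087))
theorem E75155 : n145167 = n77978 := ((F237824).symm.trans (sb E71520 F302589))
theorem F313956 : act 1 n31604 = n52932 := (sb E71522 (iv0 D114680))
theorem E75157 : n92506 = n67939 := ((((iv4 F104036)).symm.trans (sb E71522 F290248))).symm
theorem F313957 : act 0 n68434 = n52932 := (sb E71523 (iv1 D114681))
theorem E75158 : n148785 = n145945 := ((((iv4 F229177)).symm.trans (sb E71523 (iv4 F290281)))).symm
theorem E75160 : n128461 = n52936 := (((D52936).symm.trans (sb E71524 F227784))).symm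
theorem F313958 : act 7 n60415 = n52932 := (sb E71525 (iv7 D114683))
theorem E75161 : n146001 = n119053 := (((D119053).symm.trans (sb E71526 D146001))).symm
theorem E75162 : n145916 = n119054 := (((D119054).symm.trans (sb E71526 (iv0 F243211)))).symm
theorem F313959 : act 4 n54786 = n31850 := (sb E71526 (iv4 D68449))
theorem E75165 : n145910 = n119055 := (((D119055).symm.trans (sb E71526 (iv7 F264327)))).symm
theorem F313960 : act 1 n68440 = n52920 := (sb E71527 (iv0 D114653))
theorem E75166 : n159782 = n67940 := ((D159782).symm.trans (sb E71528 (iv4 D144927)))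
theorem E75170 : n7516 = n7064 := (((iv5 F11756)).symm.trans (sb E71530 (iv5 D14829)))
theorem E75175 : n143666 = n70328 := ((((iv3 F106792)).symm.trans (sb E71541 (iv3 F226351)))).symm
theorem F313961 : act 4 n52894 = n31646 := (sb E71541 F104103)
theorem E75176 : n145045 = n114593 := (((D114593).symm.trans (sb E71541 (iv5 F227988)))).symm
theorem E75177 : n114486 = n31642 := (((iv7 F290328)).symm.trans (sb E71541 (iv7 D67994)))
theorem E75178 : n144961 = n54855 := ((D144961).symm.trans (sb E71542 (iv4 D119203)))
theorem E75183 : n145034 = n114634 := (((D114634).symm.trans (sb E71546 D145034))).symm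
theorem E75186 : n144949 = n114609 := ((((iv3 F178698)).symm.trans (sb E71547 (iv3 F227917)))).symm
theorem F313962 : act 4 n52913 = n31626 := (sb E71547 F104057)
theorem E75187 : n144953 = n114640 := ((((iv5 F178738)).symm.trans (sb E71547 D144953))).symm
theorem E75188 : n146174 = n83941 := (((iv1 F229453)).symm.trans (sb E71548 F311097))
theorem E75189 : n146177 = n61076 := (((iv0 F229452)).symm.trans (sb E71548 (iv0 D130076)))
theorem F313963 : act 5 n69746 = n133154 := (sb E71548 (iv5 F213900))
theorem F313964 : act 0 n176155 = n179601 := (sb E71549 (iv1 F279702))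
theorem F313965 : act 1 n176156 = n179601 := (sb E71550 F279704)
theorem F313966 : act 0 n160596 = n179600 := (sb E71551 (iv1 F279703))
theorem F313967 : act 1 n160596 = n179599 := (sb E71551 F279699)
theorem F313968 : act 3 n160596 = n179613 := (sb E71551 (iv3 F279729))
theorem F313969 : act 7 n160596 = n179601 := (sb E71551 (iv7 F279701))
theorem F313970 : act 3 n39420 = n84024 := (sb E71552 F275395)
theorem F313971 : act 3 n176154 = n125186 := (sb E71553 F278805)
theorem F313972 : act 7 n176154 = n179594 := (sb E71553 (iv7 F279695))
theorem F313973 : act 3 n38699 = n74053 := (sb E71554 (iv3 D155666))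
theorem E75190 : n150556 = n79797 := ((((iv7 F299446)).symm.trans (sb E71554 F244691))).symm
theorem F313974 : act 7 n85758 = n84024 := (sb E71555 (iv7 D176158))
theorem F313975 : act 5 n70967 = n79796 := (sb E71559 (iv5 D166195))
theorem E75191 : n165324 = n74052 := ((D165324).symm.trans (sb E71560 (iv5 D155664)))
theorem F313976 : act 2 n18801 = n34113 := (sb E71567 (iv2 D74367))
theorem E75193 : n156345 = n39761 := (((D39761).symm.trans (sb E71567 D156345))).symm
theorem E75194 : n66130 = n39762 := (((D39762).symm.trans (sb E71567 F111589))).symm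
theorem E75195 : n156346 = n125175 := ((D156346).symm.trans (sb E71568 (iv1 F201216)))
theorem E75196 : n156347 = n125174 := ((D156347).symm.trans (sb E71568 F201215))
theorem E75198 : n179890 = n156348 := (((D156348).symm.trans (sb E71568 D179890))).symm
theorem E75200 : n118263 = n65627 := ((((iv1 F167397)).symm.trans (sb E71569 F200001))).symm
theorem E75201 : n68022 = n66129 := (((D66129).symm.trans (sb E71569 F200002))).symm
theorem E75203 : n118353 = n14632 := ((((iv3 F24316)).symm.trans (sb E71570 (iv3 F185987)))).symm
theorem E75204 : n39769 = n14636 := (((D14636).symm.trans (sb E71570 (iv5 F92599)))).symm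
theorem F313977 : act 0 n15864 = n14635 := (sb E71571 (iv1 F40957))
theorem F313978 : act 1 n15864 = n14634 := (sb E71571 F40958)
theorem F313979 : act 2 n15864 = n14637 := (sb E71571 F40953)
theorem E75206 : n53490 = n32941 := ((((iv3 F52118)).symm.trans (sb E71571 (iv3 F84389)))).symm
theorem E75207 : n53498 = n32874 := ((((iv5 F52045)).symm.trans (sb E71571 (iv5 F84404)))).symm
theorem E75208 : n14585 = n7439 := ((((iv6 D15864)).symm.trans (sb E71571 F40955))).symm
theorem F313980 : act 7 n15864 = n12297 := (sb E71571 (iv7 D25914))
theorem F313981 : act 3 n18757 = n28867 := (sb E71573 (iv3 D60852))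
theorem E75211 : n129501 = n34710 := (((F54955).symm.trans (sb E71573 D129501))).symm
theorem E75212 : n129496 = n39616 := (((D39616).symm.trans (sb E71573 (iv6 F207646)))).symm
theorem F313982 : act 3 n18758 = n28881 := (sb E71574 (iv3 D60892))
theorem E75215 : n66123 = n39620 := (((D39620).symm.trans (sb E71574 (iv7 F101757)))).symm
theorem F313983 : act 0 n31669 = n31774 := (sb E71575 (iv1 F95435))
theorem F313984 : act 1 n31669 = n28881 := (sb E71575 (iv0 D60890))
theorem E75216 : n129616 = n68061 := ((((iv3 F104177)).symm.trans (sb E71575 D129616))).symm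
theorem F313985 : act 0 n31664 = n28881 := (sb E71576 (iv1 D60891))
theorem F313986 : act 1 n31664 = n31774 := (sb E71576 F95437)
theorem E75217 : n129617 = n68039 := ((((iv3 F104162)).symm.trans (sb E71576 D129617))).symm
theorem E75218 : n68051 = n31422 := ((D68051).symm.trans (sb E71576 (iv6 F95439)))
theorem F313987 : act 0 n30916 = n53892 := (sb E71577 F122601)
theorem F313988 : act 1 n30916 = n53897 := (sb E71577 F182704)
theorem F313989 : act 4 n67708 = n74714 := (sb E71578 F167589)
theorem E75219 : n144489 = n50056 := ((D144489).symm.trans (sb E71578 (iv6 D108406)))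
theorem E75220 : n118408 = n31421 := (((F49706).symm.trans (sb E71579 F228156))).symm
theorem E75221 : n144983 = n65646 := ((((iv3 F101378)).symm.trans (sb E71579 (iv3 F278623)))).symm
theorem F313990 : act 0 n30762 = n39612 := (sb E71580 (iv1 D85761))
theorem E75223 : n120098 = n65676 := (((D65676).symm.trans (sb E71580 F189718))).symm
theorem E75224 : n125184 = n65666 := ((((iv2 F101393)).symm.trans (sb E71580 F201250))).symm
theorem E75225 : n178911 = n65670 := ((((iv4 F101397)).symm.trans (sb E71580 (iv4 F278788)))).symm
theorem E75226 : n133848 = n65677 := (((D65677).symm.trans (sb E71580 (iv5 F215510)))).symm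
theorem E75227 : n70218 = n14573 := ((((iv6 D30762)).symm.trans (sb E71580 F189719))).symm
theorem F313991 : act 6 n15844 = n31442 := (sb E71583 F49746)
theorem F313992 : act 7 n15844 = n14488 := (sb E71583 (iv7 D30539))
theorem F313993 : act 1 n12567 = n14488 := (sb E71584 (iv0 D30536))
theorem E75230 : n65015 = n26336 := ((((iv3 F42000)).symm.trans (sb E71584 D65015))).symm
theorem F313994 : act 4 n12567 = n16570 := (sb E71584 F53677)
theorem F313995 : act 0 n15847 = n14488 := (sb E71585 (iv1 D30537))
theorem E75232 : n65016 = n32871 := ((((iv3 F52038)).symm.trans (sb E71585 D65016))).symm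
theorem F313996 : act 4 n15847 = n16571 := (sb E71585 F53666)
theorem E75234 : n65017 = n32913 := (((D32913).symm.trans (sb E71585 D65017))).symm
theorem F313997 : act 1 n74053 = n78270 := (sb E71588 (iv0 D162830))
theorem F313998 : act 0 n74052 = n78270 := (sb E71589 (iv1 D162831))
theorem F313999 : act 7 n55225 = n78270 := (sb E71590 (iv7 D162833))
theorem F314000 : act 6 n120029 = n78412 := (sb E71592 (iv6 D163081))
theorem E75235 : n150950 = n66126 := ((((iv1 D140983)).symm.trans (sb E75081 (iv1 F279133)))).symm
theorem F314002 : act 2 n65623 = n32867 := (sb E71596 F110571)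
theorem E75236 : n139798 = n127967 := ((D139798).symm.trans (sb E71596 (iv3 F205937)))
theorem F314003 : act 6 n65623 = n32835 := (sb E71596 (iv6 D70858))
theorem F314004 : act 7 n65623 = n108296 := (sb E71596 (iv7 F310516))
theorem E75237 : n132629 = n28479 := ((((iv5 D59972)).symm.trans (sb E71597 F227325))).symm
theorem E75238 : n132621 = n76143 := ((((iv5 F114115)).symm.trans (sb E71598 F226551))).symm
theorem F314005 : act 6 n65575 = n55631 := (sb E71605 (iv6 D120697))
theorem E75246 : n70332 = n31294 := ((((iv3 F49573)).symm.trans (sb E71610 (iv3 F106796)))).symm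
theorem E75247 : n70348 = n31297 := (((D31297).symm.trans (sb E71610 (iv5 F106821)))).symm
theorem F314008 : act 7 n14759 = n15458 := (sb E71610 (iv7 D32654))
theorem F314009 : act 1 n32652 = n26014 := (sb E71611 (iv0 D53797))
theorem F314010 : act 2 n32652 = n31295 := (sb E71611 F183577)
theorem F314011 : act 4 n32652 = n26222 := (sb E71611 F182192)
theorem F314012 : act 7 n32652 = n31296 := (sb E71611 F183578)
theorem E75251 : n143731 = n32273 := ((D143731).symm.trans (sb E71615 (iv1 D69501)))
theorem F314013 : act 1 n67316 = n32277 := (sb E71615 F105800)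
theorem E75252 : n148268 = n143722 := ((((iv2 F226386)).symm.trans (sb E71615 (iv2 F232092)))).symm
theorem E75257 : n148263 = n143734 := (((D143734).symm.trans (sb E71615 F232091))).symm
theorem F314014 : act 1 n54102 = n66868 := (sb E71617 F225529)
theorem F314015 : act 7 n54102 = n116793 := (sb E71617 F225530)
theorem E75259 : n179322 = n160121 := ((((iv4 F252720)).symm.trans (sb E71620 (iv4 F279213)))).symm
theorem F314016 : act 1 n76664 = n65611 := (sb E71622 (iv0 D139761))
theorem F314017 : act 0 n76635 = n65611 := (sb E71623 (iv1 D139762))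
theorem E75260 : n160079 = n143126 := ((((iv4 F225977)).symm.trans (sb E71624 D160079))).symm
theorem F314018 : act 0 n139760 = n160097 := (sb E71625 (iv1 F252676))
theorem F314019 : act 1 n139760 = n70242 := (sb E71625 (iv0 D149573))
theorem F314020 : act 7 n139760 = n160082 := (sb E71625 (iv7 F252632))
theorem E75264 : n119364 = n25985 := ((((iv3 F41072)).symm.trans (sb E71630 (iv3 F188011)))).symm
theorem E75265 : n147007 = n25974 := ((((iv3 F41051)).symm.trans (sb E71631 (iv3 F230441)))).symm
theorem F314021 : act 0 n35044 = n67070 := (sb E71633 (iv1 D143128))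
theorem F314022 : act 0 n143127 = n76662 := (sb E71634 (iv1 F252522))
theorem F314023 : act 2 n143127 = n76664 := (sb E71634 F252517)
theorem F314024 : act 3 n143127 = n76668 := (sb E71634 F252518)
theorem F314025 : act 6 n143127 = n76668 := (sb E71634 F252520)
theorem F314026 : act 7 n143127 = n76635 := (sb E71634 (iv7 D160040))
theorem F314027 : act 0 n143130 = n76635 := (sb E71635 (iv1 D160039))
theorem F314028 : act 1 n143130 = n76664 := (sb E71635 F252516)
theorem F314029 : act 2 n143130 = n76662 := (sb E71635 F252648)
theorem F314030 : act 4 n143130 = n149574 := (sb E71635 F252649)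
theorem F314031 : act 6 n142628 = n76662 := (sb E71636 (iv6 D160083))
theorem E75266 : n139707 = n68891 := ((D139707).symm.trans (sb E71640 F230127))
theorem F314032 : act 5 n65573 = n68810 := (sb E71640 (iv5 D146766))
theorem F314033 : act 0 n157552 = n180564 := (sb E71642 F281043)
theorem F314034 : act 1 n157552 = n84880 := (sb E71642 (iv0 D178407))
theorem F314035 : act 4 n26223 = n32651 := (sb E71647 (iv4 D70341))
theorem F314036 : act 1 n31001 = n26275 := (sb E71657 (iv0 D54360))
theorem E75274 : n118005 = n66401 := ((((iv3 F102292)).symm.trans (sb E71657 D118005))).symm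
theorem F314037 : act 7 n31001 = n32599 := (sb E71657 (iv7 F200058))
theorem F314038 : act 4 n54361 = n31867 := (sb E71658 F101406)
theorem F314039 : act 7 n54361 = n30763 := (sb E71658 (iv7 D65680))
theorem E75276 : n118003 = n74004 := ((D118003).symm.trans (sb E71659 F224616))
theorem E75278 : n74006 = n62825 := (((D62825).symm.trans (sb E71660 F224618))).symm
theorem F314040 : act 0 n33964 = n32599 := (sb E71661 (iv1 F85795))
theorem F314041 : act 7 n33964 = n26275 := (sb E71661 (iv7 D54362))
theorem E75279 : n70161 = n53415 := ((D70161).symm.trans (sb E71670 (iv6 D115851)))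
theorem E75280 : n53423 = n14893 := ((((iv6 F24533)).symm.trans (sb E71671 F180383))).symm
theorem E75281 : n70167 = n53417 := (((D53417).symm.trans (sb E71672 D70167))).symm
theorem E75282 : n70168 = n53418 := (((D53418).symm.trans (sb E71672 D70168))).symm
theorem E75283 : n32951 = n12283 := ((((iv5 D25877)).symm.trans (sb E71672 (iv5 F52123)))).symm
theorem F314042 : act 6 n25877 = n15416 := (sb E71672 (iv6 D32558))
theorem E75287 : n12285 = n7440 := ((((iv5 F11715)).symm.trans (sb E71674 (iv5 D25882)))).symm
theorem E75290 : n70199 = n53486 := ((D70199).symm.trans (sb E71685 (iv7 D116047)))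
theorem F314043 : act 1 n30911 = n15427 := (sb E71688 (iv0 D32586))
theorem E75292 : n70055 = n66110 := (((D66110).symm.trans (sb E71688 (iv3 F234406)))).symm
theorem E75293 : n28340 = n15427 := ((D28340).symm.trans (sb E73025 (iv1 D32587)))
theorem E75294 : n70217 = n66115 := ((D70217).symm.trans (sb E71690 (iv1 F180817)))
theorem E75295 : n66114 = n14573 := (((E75227).symm.trans ((D70218).symm.trans (sb E71690 F180818)))).symm
theorem E75296 : n70220 = n53493 := ((D70220).symm.trans (sb E71690 (iv7 D116065)))
theorem F314044 : act 7 n25910 = n15427 := (sb E71691 (iv7 D32589))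
theorem E75297 : n54218 = n31025 := (((D31025).symm.trans (sb E71699 (iv3 F85553)))).symm
theorem E75299 : n31026 = n12437 := ((D31026).symm.trans (sb E71699 (iv5 D26224)))
theorem F314045 : act 6 n14676 = n15879 := (sb E71699 F41623)
theorem F314046 : act 0 n117907 = n159617 := (sb E71703 F283767)
theorem F314047 : act 2 n117907 = n159615 := (sb E71703 F251443)
theorem F314048 : act 7 n117907 = n142650 := (sb E71703 (tr F230488 E73246))
theorem F314049 : act 1 n68942 = n116793 := (sb E71705 (iv0 F182345))
theorem F314050 : act 2 n68942 = n66868 := (sb E71705 F181632)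
theorem E75302 : n147032 = n53666 := (E71707).trans E73498
theorem F314051 : act 0 n147031 = n69411 := (sb E71706 (iv1 D148164))
theorem F314052 : act 1 n147031 = n158934 := (sb E71706 (iv0 F250265))
theorem F314053 : act 5 n147031 = n146967 := (sb E71706 (iv5 F237498))
theorem F314054 : act 6 n147031 = n130891 := (sb E71706 F237485)
theorem F314055 : act 5 n53666 = n68942 := (sb E75302 (iv5 D147032))
theorem F314056 : act 6 n61409 = n68942 := (sb E71708 (iv6 D147033))
theorem E75306 : n149343 = n143496 := (E71712).trans E72350
theorem F314057 : act 7 n143496 = n166121 := (sb E75306 (iv7 F261576))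
theorem E75308 : n166121 = n69609 := ((((iv4 F105889)).symm.trans (sb E71714 (iv4 F261575)))).symm
theorem E75309 : n79900 = n68529 := ((((iv4 F104983)).symm.trans (sb E71715 F234731))).symm
theorem E75310 : n79899 = n68528 := ((((iv4 F183266)).symm.trans (sb E71717 F234726))).symm
theorem E75311 : n117290 = n27105 := ((D117290).symm.trans (sb E71718 (iv4 D56258)))
theorem F314058 : act 1 n71543 = n74958 := (sb E71727 (iv0 D157502))
theorem F314059 : act 0 n149891 = n74958 := (sb E71728 (iv1 D157503))
theorem F314060 : act 4 n57364 = n74958 := (sb E71729 (iv4 D157504))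
theorem E75312 : n139229 = n123240 := (((D123240).symm.trans (sb E71729 F248205))).symm
theorem F314061 : act 0 n63667 = n54816 := (sb E71730 F187411)
theorem F314062 : act 2 n63667 = n55321 := (sb E71730 F187409)
theorem F314063 : act 4 n63667 = n54814 := (sb E71730 (iv4 D119117))
theorem F314064 : act 7 n63667 = n55316 := (sb E71730 F187410)
theorem E75315 : n170519 = n149185 := ((((iv3 F278140)).symm.trans (sb E71731 (iv3 F267957)))).symm
theorem E75316 : n170523 = n149287 := (((D149287).symm.trans (sb E71731 (iv4 F267966)))).symm
theorem F314065 : act 6 n70086 = n37357 := (sb E71731 (iv6 D81741))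
theorem E75318 : n170053 = n76784 := ((D170053).symm.trans (sb E71732 (iv6 D160245)))
theorem F314066 : act 2 n163025 = n83599 := (sb E71733 F273953)
theorem F314067 : act 3 n163025 = n164554 := (sb E71733 F273954)
theorem F314068 : act 5 n163025 = n83594 := (sb E71733 (iv5 D175045))
theorem F314069 : act 6 n163025 = n164551 := (sb E71733 F273955)
theorem F314070 : act 3 n38556 = n81688 := (sb E71734 (iv3 D170353))
theorem F314071 : act 3 n170354 = n83623 := (sb E71735 F274019)
theorem F314072 : act 7 n170354 = n83599 := (sb E71735 (iv7 D175062))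
theorem F314073 : act 6 n60185 = n81688 := (sb E71736 F267831)
theorem F314074 : act 3 n127306 = n79846 := (sb E71740 F308747)
theorem F314075 : act 4 n127306 = n154904 := (sb E71740 F308748)
theorem F314076 : act 5 n127306 = n149903 := (sb E71740 F308749)
theorem F314077 : act 6 n127306 = n117849 := (sb E71740 (tr F308750 E73746))
theorem F314078 : act 7 n127306 = n148640 := (sb E71740 (tr F308751 E73204))
theorem F314080 : act 3 n127307 = n149184 := (sb E71741 F308753)
theorem F314081 : act 4 n127307 = n154905 := (sb E71741 F308754)
theorem F314082 : act 5 n127307 = n138394 := (sb E71741 (iv5 F309729))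
theorem E75319 : n127307 = n65742 := (((D65742).symm.trans (iv6 (sb E71741 (tr F308755 E74287))))).symm
theorem F314083 : act 0 n118655 = n148641 := (sb E71742 (iv1 F233396))
theorem F314084 : act 2 n118655 = n59761 := (sb E71742 (iv2 D127308))
theorem F314085 : act 2 n127311 = n122602 := (sb E71744 F238127)
theorem F314086 : act 5 n127311 = n71370 := (sb E71744 (iv5 D151413))
theorem E75320 : n149182 = n140944 := ((((iv3 F223970)).symm.trans (sb E71745 (iv3 F234553)))).symm
theorem E75321 : n140947 = n68106 := ((D140947).symm.trans (sb E71745 F106675))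
theorem E75322 : n127317 = n69574 := (E71746).trans E73669
theorem E75323 : n148478 = n59764 := ((D148478).symm.trans (sb E75322 (iv1 D127317)))
theorem E75324 : n148479 = n32856 := ((D148479).symm.trans (sb E75322 (tr F214297 E72768)))
theorem E75325 : n148480 = n79770 := ((D148480).symm.trans (sb E75322 (tr (iv2 F223973) E72765)))
theorem E75326 : n148481 = n68069 := ((D148481).symm.trans (sb E75322 F204545))
theorem F314087 : act 5 n70848 = n59764 := (sb E71747 (iv5 D127318))
theorem F314088 : act 4 n70847 = n61409 := (sb E71748 F204550)
theorem F314089 : act 7 n70847 = n59764 := (sb E71748 (iv7 D127319))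
theorem F314090 : act 3 n120233 = n72979 := (sb E71749 F242191)
theorem F314091 : act 6 n120233 = n72976 := (sb E71749 (iv6 D154121))
theorem F314092 : act 5 n70466 = n58464 := (sb E71750 F191437)
theorem F314093 : act 6 n70466 = n55328 := (sb E71750 (iv6 D120234))
theorem E75328 : n167184 = n80491 := ((D167184).symm.trans (sb E71751 F250768))
theorem E75329 : n167207 = n17694 := ((((iv4 D36712)).symm.trans (sb E71752 D167207))).symm
theorem F314094 : act 5 n36712 = n36568 := (sb E71752 (iv5 D80268))
theorem E75330 : n55912 = n36571 := (((iv6 F88465)).symm.trans (sb E71752 F123352))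
theorem E75331 : n160531 = n59222 := (E71754).trans E74895
theorem E75332 : n76969 = n28121 := ((((iv5 D59222)).symm.trans (sb E75331 (iv5 D160531)))).symm
theorem F314095 : act 5 n35164 = n60793 := (sb E71755 F207540)
theorem E75334 : n132341 = n55773 := ((D132341).symm.trans (sb E71758 (iv5 D120925)))
theorem E75335 : n132359 = n12877 := ((((iv4 D26915)).symm.trans (sb E71759 D132359))).symm
theorem F314096 : act 5 n26915 = n29395 := (sb E71759 (iv5 D62092))
theorem E75336 : n29398 = n12883 := (((F43402).symm.trans (sb E71759 F96760))).symm
theorem E75339 : n77162 = n76191 := ((D77162).symm.trans (sb E71762 (iv5 D159253)))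
theorem F314097 : act 5 n34802 = n61199 := (sb E71763 F208944)
theorem E75340 : n133105 = n76183 := ((D133105).symm.trans (sb E71765 (iv5 D159242)))
theorem E75341 : n133115 = n16861 := ((((iv4 D34799)).symm.trans (sb E71766 D133115))).symm
theorem F314098 : act 5 n34799 = n29521 := (sb E71766 (iv5 D62452))
theorem E75342 : n36248 = n29560 := ((F299540).symm.trans (sb E71766 F97333))
theorem E75343 : n149963 = n78361 := ((D149963).symm.trans (sb E71768 (iv5 D162976)))
theorem E75344 : n82955 = n76929 := (((D76929).symm.trans (sb E71769 F263023))).symm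
theorem E75345 : n83498 = n76947 := (((D76947).symm.trans (sb E71770 (iv3 F128599)))).symm
theorem E75346 : n161309 = n17068 := ((((iv4 D35156)).symm.trans (sb E71770 D161309))).symm
theorem F314099 : act 5 n35156 = n35356 := (sb E71770 (iv5 D77440))
theorem E75347 : n35903 = n35359 := (((iv6 F56559)).symm.trans (sb E71770 F116248))
theorem F314100 : act 5 n35717 = n61197 := (sb E71771 (iv5 D130427))
theorem E75348 : n178298 = n61076 := ((D178298).symm.trans (sb E71772 (iv1 D130077)))
theorem E75349 : n178299 = n83941 := ((D178299).symm.trans (sb E71772 F311098))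
theorem F314101 : act 5 n84851 = n133109 := (sb E71772 (iv5 F213763))
theorem E75350 : n125333 = n36469 := (((F106987).symm.trans (sb E71773 F257333))).symm
theorem E75353 : n67404 = n61833 := ((((iv6 F209878)).symm.trans (sb E71776 (iv6 D143900)))).symm
theorem F314102 : act 5 n29301 = n14768 := (sb E71779 (iv5 D31331))
theorem E75355 : n161683 = n161385 := ((D161683).symm.trans (sb E71781 (iv1 F255197)))
theorem E75356 : n161684 = n35480 := ((D161684).symm.trans (sb E71781 (iv0 D77744)))
theorem E75357 : n161871 = n119129 := ((((iv2 F187453)).symm.trans (sb E71781 D161871))).symm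
theorem E75358 : n161872 = n161682 := ((((iv3 F255692)).symm.trans (sb E71781 D161872))).symm
theorem E75361 : n161876 = n161686 := (((D161686).symm.trans (sb E71781 D161876))).symm
theorem F314103 : act 0 n108286 = n155904 := (sb E71782 F311626)
theorem F314104 : act 1 n108286 = n155900 := (sb E71782 F311627)
theorem F314105 : act 2 n108286 = n70444 := (sb E71782 (iv2 D149860))
theorem E75362 : n61607 = n59964 := (((F102224).symm.trans (sb E71784 (iv6 D131281)))).symm
theorem E75364 : n45427 = n28447 := ((D45427).symm.trans (sb E71787 (iv1 D59889)))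
theorem E75365 : n45428 = n28464 := ((D45428).symm.trans (sb E71787 F94361))
theorem E75366 : n127517 = n45426 := ((((iv3 F71682)).symm.trans (sb E71787 D127517))).symm
theorem F314106 : act 4 n21678 = n34384 := (sb E71787 F94363)
theorem E75367 : n109527 = n45429 := (((D45429).symm.trans (sb E71787 (iv5 F169488)))).symm
theorem E75368 : n45430 = n28459 := ((D45430).symm.trans (sb E71787 F94362))
theorem E75369 : n59908 = n44523 := (((D44523).symm.trans (sb E71791 (iv6 D127573)))).symm
theorem E75370 : n59898 = n44530 := (((D44530).symm.trans (sb E71793 (iv1 F94380)))).symm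
theorem E75371 : n59897 = n44531 := (((D44531).symm.trans (sb E71793 F94379))).symm
theorem F314107 : act 4 n21178 = n13568 := (sb E71793 (iv4 D28456))
theorem E75372 : n59909 = n44532 := (((D44532).symm.trans (sb E71793 D59909))).symm
theorem E75373 : n59885 = n44533 := (((D44533).symm.trans (sb E71793 (iv7 F94355)))).symm
theorem F314108 : act 3 n52671 = n69404 := (sb E71797 (iv3 D148148))
theorem F314109 : act 5 n57267 = n69404 := (sb E71798 (iv5 D148150))
theorem E75374 : n160197 = n65727 := ((D160197).symm.trans (sb E71801 (iv6 D140012)))
theorem E75375 : n149745 = n65743 := (((D65743).symm.trans (sb E71803 F235515))).symm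
theorem E75376 : n160065 = n65744 := (((D65744).symm.trans (sb E71803 (iv0 F252604)))).symm
theorem F314110 : act 6 n30780 = n35083 := (sb E71803 (iv6 D76758))
theorem F314111 : act 5 n120391 = n69402 := (sb E71807 (iv5 D148140))
theorem E75379 : n105868 = n69323 := ((D105868).symm.trans (sb E71812 (iv1 F231756)))
theorem E75380 : n105869 = n69322 := ((D105869).symm.trans (sb E71812 F231757))
theorem F314112 : act 2 n48945 = n69325 := (sb E71812 F231754)
theorem F314113 : act 4 n48945 = n69313 := (sb E71812 F231755)
theorem E75381 : n105871 = n69309 := ((D105871).symm.trans (sb E71812 (iv7 D147941)))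
theorem E75382 : n89558 = n69316 := (((D69316).symm.trans (sb E71813 (iv3 F290385)))).symm
theorem E75383 : n89555 = n69317 := (((D69317).symm.trans (sb E71813 F290387))).symm
theorem E75385 : n69314 = n33235 := ((D69314).symm.trans (sb E71814 (iv3 D71931)))
theorem F314114 : act 3 n60115 = n54234 := (sb E71815 (iv3 D117726))
theorem F314115 : act 4 n60115 = n69389 := (sb E71815 F184376)
theorem E75388 : n127956 = n69307 := ((D127956).symm.trans (sb E71815 F184377))
theorem F314116 : act 3 n117727 = n127955 := (sb E71816 F250928)
theorem F314117 : act 6 n117727 = n76240 := (sb E71816 F250929)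
theorem E75389 : n68621 = n25651 := ((D68621).symm.trans (sb E71819 (iv3 D52850)))
theorem E75391 : n114501 = n68623 := (((D68623).symm.trans (sb E71819 D114501))).symm
theorem F314118 : act 1 n118752 = n69389 := (sb E71820 (iv0 D148102))
theorem F314119 : act 3 n118752 = n147593 := (sb E71820 F231912)
theorem F314120 : act 4 n140010 = n76550 := (sb E71821 F238428)
theorem F314121 : act 6 n140010 = n71445 := (sb E71821 (iv6 D151555))
theorem F314122 : act 3 n133739 = n72181 := (sb E71826 (iv3 D152928))
theorem F314123 : act 4 n133739 = n150647 := (sb E71826 F240165)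
theorem F314124 : act 7 n133739 = n178561 := (sb E71826 (iv7 F278281))
theorem F314125 : act 5 n69797 = n81636 := (sb E71828 (iv5 D170226))
theorem F314126 : act 4 n121945 = n62780 := (sb E71831 (iv4 D133748))
theorem F314127 : act 4 n88057 = n71676 := (sb E71832 F239042)
theorem F314128 : act 7 n88057 = n71673 := (sb E71832 (iv7 D152027))
theorem F314129 : act 0 n160963 = n174167 := (sb E71833 F272959)
theorem F314130 : act 2 n160963 = n175055 := (sb E71833 (iv2 F273980))
theorem F314131 : act 4 n160963 = n173201 := (sb E71833 F271481)
theorem E75392 : n132897 = n35633 := ((((iv6 F56308)).symm.trans (sb E71834 F213470))).symm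
theorem F314132 : act 0 n108297 = n62471 := (sb E71835 (iv1 F213867))
theorem F314133 : act 3 n32524 = n28347 := (sb E71837 F94119)
theorem F314134 : act 7 n32524 = n28343 := (sb E71837 (iv7 D59756))
theorem E75396 : n166662 = n60310 := ((D166662).symm.trans (sb E71838 F309586))
theorem E75397 : n166663 = n38548 := ((D166663).symm.trans (sb E71838 (iv0 D83597)))
theorem E75398 : n166650 = n162838 := (((iv2 F262282)).symm.trans (sb E71838 F310104))
theorem E75399 : n166664 = n73251 := ((D166664).symm.trans (sb E71838 F309587))
theorem E75402 : n175920 = n29180 := ((F312954).symm.trans (sb E71840 (iv4 F208931)))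
theorem E75405 : n62285 = n58703 := (((iv4 F97103)).symm.trans (sb E71841 (iv4 F92745)))
theorem E75407 : n173926 = n159284 := ((((iv2 F250764)).symm.trans (sb E71842 (iv2 F272564)))).symm
theorem F314135 : act 4 n27910 = n29663 := (sb E71844 (iv4 F208289))
theorem E75409 : n129922 = n13308 := ((((iv5 D27910)).symm.trans (sb E71844 D129922))).symm
theorem E75410 : n155144 = n31783 := ((((iv4 D68306)).symm.trans (sb E73596 (iv4 F243960)))).symm
theorem E75411 : n145711 = n39288 := ((D145711).symm.trans (sb E73596 F130130))
theorem F314136 : act 7 n68306 = n39287 := (sb E73596 (iv7 D84925))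
theorem F314137 : act 5 n58088 = n61503 := (sb E71846 (iv5 D131100))
theorem E75413 : n161735 = n74115 := (((F207455).symm.trans (sb E71847 (iv1 F263410)))).symm
theorem F314138 : act 3 n120029 = n119345 := (sb E71847 F263407)
theorem F314139 : act 5 n120029 = n80284 := (sb E71847 F263408)
theorem E75415 : n80283 = n74080 := ((((iv7 F189574)).symm.trans (sb E71847 (iv7 D167247)))).symm
theorem F314140 : act 0 n139186 = n124856 := (sb E71848 F242158)
theorem F314141 : act 6 n139186 = n72951 := (sb E71848 (iv6 D154078))
theorem F314142 : act 7 n139186 = n118777 := (sb E71848 (iv7 F305867))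
theorem F314143 : act 0 n114852 = n68686 := (sb E71849 (iv1 F183773))
theorem F314144 : act 2 n114852 = n68688 := (sb E71849 F183769)
theorem F314145 : act 5 n114852 = n71670 := (sb E71849 F183770)
theorem F314146 : act 6 n114852 = n68679 := (sb E71849 F183771)
theorem E75416 : n121329 = n54081 := (((iv7 F193458)).symm.trans (sb E71849 (iv7 D117348)))
theorem E75417 : n159863 = n68694 := ((D159863).symm.trans (sb E71850 F232587))
theorem F314147 : act 4 n76527 = n68686 := (sb E71850 (iv4 D146531))
theorem F314148 : act 0 n133735 = n150318 := (sb E71851 (iv1 F236572))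
theorem F314149 : act 1 n133735 = n68691 := (sb E71851 F232604)
theorem E75418 : n146503 = n105435 := (E71852).trans E73604
theorem F314150 : act 0 n105435 = n68712 := (sb E75418 F233215)
theorem F314151 : act 2 n105435 = n144832 := (sb E75418 (iv2 F232614))
theorem F314152 : act 3 n105435 = n75874 := (sb E75418 F232607)
theorem F314153 : act 5 n48971 = n67218 := (sb E71853 (iv5 D143521))
theorem E75419 : n170535 = n30905 := ((D170535).symm.trans (sb E71854 (tr F252933 E74297)))
theorem E75421 : n81744 = n65734 := (((D65734).symm.trans (iv3 (sb E71854 (tr (iv3 D160207) E74286))))).symm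
theorem E75422 : n160207 = n65734 := (E71854).trans E75421
theorem E75423 : n116031 = n76785 := (((iv7 F181686)).symm.trans (sb E75422 F253009))
theorem E75424 : n119479 = n73641 := ((D119479).symm.trans (sb E71855 (iv2 D155151)))
theorem E75425 : n177301 = n119288 := (((F187760).symm.trans (sb E71856 (iv0 F276680)))).symm
theorem E75426 : n119485 = n73603 := ((D119485).symm.trans (sb E71856 F235716))
theorem E75427 : n119486 = n70444 := ((D119486).symm.trans (sb E71856 (iv4 D149861)))
theorem E75428 : n119475 = n38956 := ((D119475).symm.trans (sb E71857 (iv1 D84470)))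
theorem E75429 : n161881 = n119476 := (((D119476).symm.trans (sb E71857 F255864))).symm
theorem E75430 : n177304 = n96631 := ((((iv2 F148873)).symm.trans (sb E71857 (iv2 F276681)))).symm
theorem E75434 : n177300 = n119478 := (((D119478).symm.trans (sb E71857 F276679))).symm
theorem F314154 : act 3 n35504 = n47273 := (sb E71861 F156550)
theorem F314155 : act 3 n35497 = n46060 := (sb E71864 (iv3 D98492))
theorem F314156 : act 3 n98494 = n77786 := (sb E71865 F255947)
theorem F314157 : act 7 n98494 = n124371 := (sb E71865 F255948)
theorem E75435 : n174777 = n22320 := ((((iv2 F156683)).symm.trans (sb E71869 (iv2 F273599)))).symm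
theorem E75436 : n72945 = n22740 := (((D22740).symm.trans (sb E71869 (iv3 D154069)))).symm
theorem F314158 : act 0 n73641 = n54977 := (sb E71870 (iv1 F187759))
theorem F314159 : act 1 n73641 = n54895 := (sb E71870 (iv0 D119285))
theorem F314160 : act 0 n119478 = n77747 := (sb E71871 (iv1 D161885))
theorem F314161 : act 1 n119478 = n84471 := (sb E71871 F255872)
theorem F314162 : act 4 n101899 = n47479 := (sb E71872 F157136)
theorem F314163 : act 6 n101899 = n47478 := (sb E71872 (iv6 D102314))
theorem F314164 : act 2 n32497 = n47351 := (sb E71873 (iv2 D101917))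
theorem F314165 : act 0 n101021 = n47351 := (sb E71874 (iv1 D101916))
theorem F314166 : act 1 n58284 = n47351 := (sb E71875 (iv0 D101915))
theorem F314167 : act 4 n32466 = n47351 := (sb E71876 (iv4 D101918))
theorem F314168 : act 2 n101919 = n70025 := (sb E71877 F234414)
theorem F314169 : act 7 n101919 = n70006 := (sb E71877 F234415)
theorem F314170 : act 3 n86004 = n47354 := (sb E71878 F156912)
theorem F314171 : act 6 n86004 = n47351 := (sb E71878 (iv6 D101920))
theorem F314172 : act 6 n80184 = n61111 := (sb E71879 (iv6 D130188))
theorem F314173 : act 3 n83375 = n47347 := (sb E71880 (iv3 D101904))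
theorem F314174 : act 7 n83375 = n172410 := (sb E71880 F274827)
theorem F314175 : act 3 n55058 = n47352 := (sb E71881 (iv3 D101921))
theorem F314176 : act 1 n102271 = n47851 := (sb E71882 (iv0 F158393))
theorem F314177 : act 2 n102271 = n103668 := (sb E71882 (iv2 F159084))
theorem F314178 : act 5 n102271 = n47800 := (sb E71882 (iv5 D103108))
theorem F314179 : act 0 n102267 = n95793 := (sb E71883 F259179)
theorem F314180 : act 4 n102267 = n49059 := (sb E71883 (iv4 D106146))
theorem F314181 : act 1 n102268 = n95793 := (sb E71884 F259219)
theorem F314182 : act 3 n102268 = n47768 := (sb E71884 (iv3 D103033))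
theorem F314183 : act 4 n102268 = n49058 := (sb E71884 F190335)
theorem F314184 : act 0 n102266 = n47821 := (sb E71885 (iv1 D103176))
theorem F314185 : act 1 n102266 = n164468 := (sb E71885 F259130)
theorem F314186 : act 4 n102266 = n149663 := (sb E71885 F259131)
theorem F314187 : act 6 n102266 = n127118 := (sb E71885 (iv6 F297684))
theorem F314188 : act 7 n102266 = n95793 := (sb E71885 (iv7 F259132))
theorem F314189 : act 3 n83327 = n38621 := (sb E71890 F128868)
theorem F314190 : act 4 n83327 = n175614 := (sb E71890 D175614)
theorem E75455 : n175615 = n174345 := (((D174345).symm.trans (sb E71890 D175615))).symm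
theorem F314191 : act 0 n152353 = n83851 := (sb E71909 (iv1 F274923))
theorem F314192 : act 1 n152354 = n83851 := (sb E71910 F274924)
theorem F314193 : act 4 n152354 = n176522 := (sb E71910 (iv4 F275831))
theorem F314194 : act 6 n152354 = n176521 := (sb E71910 F275833)
theorem F314195 : act 2 n152355 = n83851 := (sb E71913 (iv2 F274578))
theorem F314196 : act 4 n152355 = n83026 := (sb E71913 (iv4 D173575))
theorem F314197 : act 1 n172013 = n173962 := (sb E71914 (iv0 F272961))
theorem E75456 : n83254 = n82389 := (((F270069).symm.trans (sb E71914 (iv4 D174168)))).symm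
theorem F314198 : act 2 n47033 = n41726 := (sb E71915 F137027)
theorem F314199 : act 7 n47033 = n41725 := (sb E71915 (iv7 D89343))
theorem F314200 : act 2 n82505 = n83199 := (sb E71916 (iv2 D174014))
theorem F314201 : act 7 n82505 = n83200 := (sb E71916 (iv7 F272665))
theorem F314202 : act 0 n155469 = n82757 := (sb E71917 (iv1 F271098))
theorem F314203 : act 1 n155469 = n82752 := (sb E71917 (iv0 D172844))
theorem F314204 : act 2 n153651 = n182226 := (sb E71918 F287640)
theorem F314205 : act 6 n153651 = n88326 := (sb E71918 (iv6 D185413))
theorem F314206 : act 0 n62308 = n34591 := (sb E71919 (iv1 D75639))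
theorem E75459 : n158572 = n132759 := (((D132759).symm.trans (sb E71919 D158572))).symm
theorem F314207 : act 1 n62313 = n34591 := (sb E71920 (iv0 D75638))
theorem E75463 : n158567 = n132770 := (((D132770).symm.trans (sb E71920 D158567))).symm
theorem F314208 : act 3 n62447 = n34489 := (sb E71921 (iv3 D75337))
theorem F314209 : act 6 n62447 = n77147 := (sb E71921 F299507)
theorem F314210 : act 7 n62447 = n34591 := (sb E71921 F113995)
theorem F314211 : act 2 n62449 = n77147 := (sb E71922 (iv2 D160783))
theorem F314212 : act 0 n16733 = n29522 := (sb E71923 F213341)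
theorem F314213 : act 5 n16733 = n29491 := (sb E71923 (iv5 D62345))
theorem E75468 : n158194 = n61315 := ((((iv4 F95799)).symm.trans (sb E71924 D158194))).symm
theorem F314214 : act 5 n29045 = n34489 := (sb E71924 (iv5 D75338))
theorem F314215 : act 2 n16769 = n29522 := (sb E71925 (iv2 D62456))
theorem E75470 : n133118 = n34594 := (((D34594).symm.trans (sb E71925 D133118))).symm
theorem E75472 : n158629 = n61365 := (((D61365).symm.trans (sb E71926 D158629))).symm
theorem F314216 : act 0 n16771 = n29492 := (sb E71928 (iv1 F47297))
theorem F314217 : act 1 n16771 = n13784 := (sb E71928 (iv0 D28934))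
theorem F314218 : act 2 n16771 = n29491 := (sb E71928 F208417)
theorem E75476 : n61047 = n34602 := (((D34602).symm.trans (sb E71928 D61047))).symm
theorem E75477 : n61049 = n34587 := ((((iv6 F54860)).symm.trans (sb E71928 D61049))).symm
theorem F314219 : act 7 n16771 = n29490 := (sb E71928 (iv7 F208425))
theorem E75478 : n152155 = n120305 := ((((iv4 F191563)).symm.trans (sb E71930 (iv4 F239208)))).symm
theorem E75479 : n158166 = n61051 := (((iv5 F249114)).symm.trans (sb E71930 (iv5 D129992)))
theorem E75480 : n61052 = n38687 := ((D61052).symm.trans (sb E71932 F112966))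
theorem F314220 : act 5 n28935 = n34491 := (sb E71932 F112967)
theorem E75482 : n86334 = n61313 := (((D61313).symm.trans (sb E71934 F300836))).symm
theorem E75483 : n158592 = n61314 := (((D61314).symm.trans (sb E71934 F249776))).symm
theorem E75484 : n158626 = n13814 := ((((iv3 D29027)).symm.trans (sb E71934 D158626))).symm
theorem E75485 : n61316 = n38676 := ((D61316).symm.trans (sb E71934 F113528))
theorem E75487 : n158186 = n29633 := (((D29633).symm.trans (sb E71935 D158186))).symm
theorem E75488 : n133123 = n37443 := ((D133123).symm.trans (sb E71936 F119035))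
theorem E75489 : n158187 = n133124 := (((D133124).symm.trans (sb E71936 D158187))).symm
theorem E75490 : n133125 = n38702 := ((D133125).symm.trans (sb E71936 F112955))
theorem F314221 : act 7 n62458 = n77163 := (sb E71936 F299506)
theorem E75496 : n172046 = n133136 := (((D133136).symm.trans (sb E71938 (iv7 F270111)))).symm
theorem F314222 : act 0 n136654 = n124142 := (sb E71939 (iv1 F306494))
theorem F314223 : act 1 n136654 = n123382 := (sb E71939 (iv0 F306463))
theorem F314224 : act 2 n136654 = n120630 := (sb E71939 F234164)
theorem F314225 : act 5 n136654 = n69863 := (sb E71939 (iv5 D148989))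
theorem E75497 : n150120 = n64242 := ((((iv7 F219797)).symm.trans (sb E71939 (iv7 F236280)))).symm
theorem F314226 : act 0 n138190 = n118200 := (sb E71940 F236119)
theorem F314227 : act 2 n138190 = n120631 := (sb E71940 F234165)
theorem F314228 : act 4 n138190 = n69865 := (sb E71940 F234166)
theorem E75498 : n149095 = n64912 := ((((iv5 D138190)).symm.trans (sb E71940 F234483))).symm
theorem F314229 : act 6 n138190 = n69863 := (sb E71940 (iv6 D148990))
theorem E75499 : n122832 = n64243 := (((iv6 F305526)).symm.trans (sb E71941 F219821))
theorem F314230 : act 3 n46882 = n61684 := (sb E71942 (iv3 D131423))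
theorem E75500 : n131158 = n123913 := (E71944).trans E72734
theorem F314231 : act 0 n123913 = n62693 := (sb E75500 F210081)
theorem F314232 : act 2 n123913 = n130869 := (sb E75500 F210079)
theorem F314233 : act 3 n123913 = n136646 := (sb E75500 (iv3 F219794))
theorem F314234 : act 7 n123913 = n130870 := (sb E75500 F210080)
theorem E75501 : n131155 = n123518 := (E71945).trans E72739
theorem F314235 : act 1 n123518 = n62693 := (sb E75501 F210078)
theorem F314236 : act 2 n123518 = n130870 := (sb E75501 F210075)
theorem F314237 : act 7 n123518 = n130869 := (sb E75501 F210076)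
theorem F314238 : act 2 n61401 = n57763 := (sb E71946 (iv2 D123985))
theorem F314239 : act 0 n123986 = n157403 := (sb E71947 (iv1 F247889))
theorem F314240 : act 1 n123986 = n157393 := (sb E71947 (iv0 F247871))
theorem F314241 : act 2 n123986 = n130871 := (sb E71947 F214505)
theorem F314242 : act 5 n123986 = n62618 := (sb E71947 (iv5 D133405))
theorem F314243 : act 7 n123986 = n130618 := (sb E71947 F214506)
theorem F314244 : act 1 n46507 = n62448 := (sb E71948 (iv0 D133099))
theorem F314245 : act 3 n133100 = n70642 := (sb E71949 F236250)
theorem F314246 : act 6 n133100 = n100777 := (sb E71949 F236251)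
theorem F314247 : act 2 n122358 = n62448 := (sb E71950 F213736)
theorem F314248 : act 4 n122358 = n62447 := (sb E71950 (iv4 D133097))
theorem F314249 : act 5 n72291 = n116814 := (sb E71952 F204583)
theorem E75502 : n148633 = n109672 := (((iv6 F250294)).symm.trans (sb E71952 F204584))
theorem F314250 : act 0 n57603 = n62324 := (sb E71953 (iv1 D132792))
theorem E75503 : n129298 = n123579 := ((((iv4 F197997)).symm.trans (sb E71953 (iv4 F213276)))).symm
theorem F314251 : act 1 n97950 = n88057 := (sb E71954 F156888)
theorem F314252 : act 6 n45051 = n49865 := (sb E71955 (iv6 D107971))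
theorem F314253 : act 1 n71673 = n46525 := (sb E71956 (iv0 D99523))
theorem F314254 : act 0 n99526 = n88057 := (sb E71958 (iv1 F156904))
theorem E75504 : n114723 = n73323 := ((D114723).symm.trans (sb E71960 F241282))
theorem E75505 : n114724 = n73322 := ((D114724).symm.trans (sb E71960 F241283))
theorem F314255 : act 2 n52948 = n72790 := (sb E71960 F241279)
theorem F314256 : act 5 n52948 = n72583 := (sb E71960 (iv5 D153521))
theorem E75506 : n114726 = n73315 := ((D114726).symm.trans (sb E71960 F241281))
theorem E75507 : n148782 = n128455 := ((D148782).symm.trans (sb E71961 (iv1 F242721)))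
theorem E75508 : n148783 = n128453 := ((D148783).symm.trans (sb E71961 F241780))
theorem F314257 : act 4 n69729 = n72790 := (sb E71961 (iv4 D153871))
theorem E75509 : n148784 = n73324 := ((D148784).symm.trans (sb E71961 F241779))
theorem F314258 : act 0 n36575 = n61711 := (sb E71963 (iv1 D131499))
theorem E75510 : n149030 = n80278 := (((D80278).symm.trans (sb E71963 F234318))).symm
theorem F314259 : act 1 n84942 = n61711 := (sb E71964 (iv0 D131498))
theorem F314260 : act 3 n84942 = n149036 := (sb E71964 (iv3 F234356))
theorem F314261 : act 4 n84942 = n149010 := (sb E71964 F234325)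
theorem F314262 : act 2 n123932 = n107903 := (sb E71966 (iv2 F305765))
theorem F314263 : act 3 n123932 = n154062 := (sb E71966 F268204)
theorem F314264 : act 4 n123932 = n181285 := (sb E71966 (iv4 F282369))
theorem F314265 : act 6 n123932 = n81832 := (sb E71966 (iv6 D170696))
theorem E75513 : n123516 = n27566 := ((D123516).symm.trans (sb E71967 (iv1 D57731)))
theorem E75519 : n83894 = n83490 := ((F313473).symm.trans (sb E71969 F129795))
theorem E75520 : n177712 = n151948 := (((D151948).symm.trans (sb E71969 D177712))).symm
theorem E75521 : n179697 = n39082 := ((F313474).symm.trans (sb E71969 (iv6 D84624)))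
theorem F314266 : act 3 n120128 = n83494 := (sb E71972 F273575)
theorem F314267 : act 3 n120130 = n83495 := (sb E71973 F273576)
theorem E75523 : n139695 = n73724 := (((D73724).symm.trans (sb E71974 (iv5 F247181)))).symm
theorem F314268 : act 3 n120226 = n139061 := (sb E71976 F246965)
theorem F314269 : act 5 n120226 = n74616 := (sb E71976 (iv5 D156921))
theorem F314270 : act 3 n34235 = n73722 := (sb E71977 (iv3 D155231))
theorem F314271 : act 7 n155232 = n116719 := (sb E71978 F247183)
theorem F314272 : act 1 n73725 = n53782 := (sb E71979 (iv0 D116717))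
theorem F314273 : act 0 n71636 = n81773 := (sb E71980 (iv1 D170598))
theorem E75524 : n177315 = n61659 := ((D177315).symm.trans (sb E71981 (iv1 D131368)))
theorem E75525 : n177316 = n151939 := ((D177316).symm.trans (sb E71981 F238922))
theorem F314274 : act 2 n84473 = n151938 := (sb E71981 F238917)
theorem F314275 : act 2 n131367 = n81773 := (sb E71982 (iv2 D170599))
theorem F314276 : act 3 n60048 = n85577 := (sb E71983 (iv3 D179369))
theorem F314277 : act 2 n83005 = n120125 := (sb E71984 (iv2 F210095))
theorem F314278 : act 7 n83005 = n120126 := (sb E71984 F210097)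
theorem F314279 : act 5 n60047 = n85577 := (sb E71985 (iv5 D179370))
theorem F314280 : act 1 n129902 = n85130 := (sb E71988 F275838)
theorem F314281 : act 2 n129902 = n84166 := (sb E71988 (iv2 D176529))
theorem F314282 : act 0 n129901 = n85130 := (sb E71989 F303454)
theorem F314283 : act 3 n129901 = n80497 := (sb E71989 (iv3 D167750))
theorem F314284 : act 4 n129901 = n84431 := (sb E71989 F303455)
theorem F314285 : act 5 n129901 = n82596 := (sb E71989 F303456)
theorem F314286 : act 6 n129901 = n82896 := (sb E71989 F303457)
theorem F314287 : act 7 n129901 = n84166 := (sb E71989 F303458)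
theorem F314288 : act 2 n77723 = n161637 := (sb E71990 (iv2 F255645))
theorem F314289 : act 3 n77723 = n47297 := (sb E71990 (iv3 D101744))
theorem E75526 : n161833 = n119130 := ((D161833).symm.trans (sb E71990 (tr (iv6 F255639) E72975)))
theorem F314290 : act 7 n77723 = n98109 := (sb E71990 (iv7 F156785))
theorem F314291 : act 2 n51558 = n44752 := (sb E71991 F147518)
theorem E75527 : n111813 = n97208 := (((iv3 F173591)).symm.trans (sb E71991 (iv3 F149961)))
theorem F314292 : act 6 n51558 = n44750 := (sb E71991 (iv6 D95831))
theorem F314293 : act 1 n59149 = n44752 := (sb E71992 (iv0 D95836))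
theorem F314294 : act 0 n64526 = n44752 := (sb E71993 (iv1 D95837))
theorem F314295 : act 5 n24620 = n44752 := (sb E71994 (iv5 D95838))
theorem E75528 : n50532 = n47795 := ((D50532).symm.trans (sb E71994 F147528))
theorem E75529 : n111801 = n97193 := ((D111801).symm.trans (sb E71995 (iv6 F149947)))
theorem F314296 : act 7 n51551 = n44752 := (sb E71995 (iv7 D95839))
theorem F314297 : act 3 n68816 = n72866 := (sb E71996 F241993)
theorem E75530 : n146780 = n72865 := ((D146780).symm.trans (sb E71996 (iv6 D153974)))
theorem E75531 : n153314 = n140043 := (((F223260).symm.trans (sb E71997 (iv1 F242000)))).symm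
theorem E75532 : n153313 = n147597 := (((D147597).symm.trans (sb E71997 F242001))).symm
theorem E75533 : n153316 = n147595 := ((((iv2 F231384)).symm.trans (sb E71997 F241997))).symm
theorem E75534 : n153309 = n147599 := (((D147599).symm.trans (sb E71997 F241998))).symm
theorem F314298 : act 7 n69176 = n72866 := (sb E71997 (iv7 D153978))
theorem E75535 : n157684 = n32176 := (((F242683).symm.trans (sb E71998 (iv1 F248465)))).symm
theorem F314299 : act 1 n69133 = n69740 := (sb E71998 (iv0 D148804))
theorem E75537 : n143694 = n116472 := (((iv3 F242925)).symm.trans (sb E71998 F233647))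
theorem E75538 : n142413 = n117712 := ((((iv7 F242927)).symm.trans (sb E71998 (iv7 F233648)))).symm
theorem F314300 : act 0 n69128 = n69740 := (sb E71999 (iv1 D148805))
theorem F314301 : act 2 n69185 = n69740 := (sb E72000 (iv2 D148806))
theorem E75539 : n148811 = n147627 := ((((iv5 F231401)).symm.trans (sb E72000 (iv5 F233657)))).symm
theorem F314302 : act 3 n69083 = n34404 := (sb E72001 (iv3 D75126))
theorem E75540 : n147353 = n54063 := ((D147353).symm.trans (sb E72001 F112630))
theorem F314303 : act 7 n69083 = n69740 := (sb E72001 F112631)
theorem E75542 : n138914 = n18705 := (((D18705).symm.trans (sb E72008 D138914))).symm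
theorem F314304 : act 1 n33198 = n30613 := (sb E72009 F53830)
theorem F314305 : act 2 n33198 = n16554 := (sb E72009 (iv2 D34203))
theorem F314306 : act 3 n33198 = n30625 := (sb E72009 F53828)
theorem E75543 : n74596 = n71833 := (((D71833).symm.trans (sb E72009 D74596))).symm
theorem F314307 : act 7 n33198 = n30615 := (sb E72009 F53829)
theorem E75545 : n138896 = n85457 := (((D85457).symm.trans (sb E72010 (iv1 F222059)))).symm
theorem F314308 : act 2 n39465 = n74588 := (sb E72010 (iv2 F222087))
theorem E75546 : n112868 = n85459 := (((D85459).symm.trans (sb E72010 (iv3 F175784)))).symm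
theorem E75547 : n138915 = n85460 := (((D85460).symm.trans (sb E72010 D138915))).symm
theorem E75548 : n138916 = n85461 := (((D85461).symm.trans (sb E72010 D138916))).symm
theorem E75549 : n65221 = n14714 := (E72011).trans E74618
theorem E75552 : n74590 = n25981 := ((((iv2 F102963)).symm.trans (sb E75549 (iv2 F222091)))).symm
theorem E75553 : n31131 = n18705 := ((D31131).symm.trans (sb E75549 (tr (iv3 F222106) E75542)))
theorem E75554 : n85461 = n31132 := (((D31132).symm.trans (sb E75549 (tr (iv4 F222107) E75548)))).symm
theorem F314309 : act 3 n85401 = n139186 := (sb E72012 F248181)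
theorem F314310 : act 2 n65214 = n58463 := (sb E72014 F200872)
theorem F314311 : act 2 n65216 = n58464 := (sb E72015 F200876)
theorem E75558 : n124996 = n62591 := ((D124996).symm.trans (sb E72017 (iv3 F167286)))
theorem F314312 : act 0 n85276 = n74764 := (sb E72024 (iv1 F167269))
theorem F314313 : act 1 n85276 = n74763 := (sb E72024 F167268)
theorem F314314 : act 2 n85276 = n49957 := (sb E72024 (iv2 D108168))
theorem E75565 : n178863 = n112844 := ((D178863).symm.trans (sb E72024 (iv3 F175710)))
theorem F314315 : act 7 n85276 = n74765 := (sb E72024 F167267)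
theorem E75566 : n172257 = n60659 := ((D172257).symm.trans (sb E72026 (iv1 F207242)))
theorem F314316 : act 2 n82504 = n61006 := (sb E72026 (iv2 F207729))
theorem E75567 : n130010 = n37880 := (((F127154).symm.trans (sb E72026 (iv3 F208460)))).symm
theorem E75568 : n172259 = n128877 := ((D172259).symm.trans (sb E72026 F207203))
theorem F314317 : act 7 n82504 = n63600 := (sb E72026 F207728)
theorem F314318 : act 2 n60293 = n60860 := (sb E72027 (iv2 D129533))
theorem E75569 : n128772 = n128272 := (((D128272).symm.trans (sb E72027 (iv4 F209249)))).symm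
theorem E75570 : n132314 = n125160 := ((((iv7 F201170)).symm.trans (sb E72027 (iv7 F212207)))).symm
theorem E75571 : n139011 = n71238 := ((D139011).symm.trans (sb E72028 (iv6 D151161)))
theorem F314319 : act 6 n32971 = n30625 := (sb E72029 (iv6 D65256))
theorem F314320 : act 0 n65283 = n58374 := (sb E72030 F200534)
theorem F314321 : act 7 n65283 = n71312 := (sb E72030 (iv7 F232426))
theorem F314322 : act 1 n65282 = n71312 := (sb E72031 F234458)
theorem F314323 : act 3 n65282 = n58320 := (sb E72031 (iv3 D124750))
theorem F314324 : act 7 n65282 = n58374 := (sb E72031 F199666)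
theorem F314325 : act 0 n60349 = n74564 := (sb E72032 (iv1 F214157))
theorem F314326 : act 1 n60349 = n74559 := (sb E72032 (iv0 F166552))
theorem F314327 : act 2 n60349 = n125505 := (sb E72032 F219753)
theorem E75576 : n156361 = n124789 := (((D124789).symm.trans (sb E72034 (iv4 F245728)))).symm
theorem F314328 : act 3 n27775 = n16558 := (sb E72037 (iv3 D34217))
theorem E75580 : n177000 = n30624 := (((F214135).symm.trans (sb E72040 (iv2 F276386)))).symm
theorem F314329 : act 3 n34192 = n58321 := (sb E72040 (iv3 F311860))
theorem E75581 : n177369 = n74559 := (((D74559).symm.trans (sb E72040 (iv4 F276754)))).symm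
theorem E75582 : n74561 = n38976 := ((D74561).symm.trans (sb E72040 (iv6 D84504)))
theorem F314330 : act 4 n65153 = n58321 := (sb E72041 (iv4 D124755))
theorem F314331 : act 7 n65153 = n58370 := (sb E72041 F199682)
theorem E75584 : n177362 = n138751 := ((D177362).symm.trans (sb E72042 F246670))
theorem F314332 : act 2 n129330 = n99474 := (sb E72043 F236225)
theorem F314333 : act 6 n129330 = n70633 := (sb E72043 (iv6 D150101))
theorem F314334 : act 1 n85399 = n74739 := (sb E72044 (iv0 D157189))
theorem F314335 : act 5 n85399 = n139186 := (sb E72044 F247380)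
theorem F314336 : act 2 n58357 = n74739 := (sb E72045 (iv2 D157190))
theorem F314337 : act 2 n157191 = n124813 := (sb E72046 (iv2 F280178))
theorem F314338 : act 3 n58355 = n65262 := (sb E72047 (iv3 D139030))
theorem F314339 : act 5 n58355 = n74739 := (sb E72047 F222213)
theorem F314340 : act 0 n139031 = n154155 := (sb E72048 F242251)
theorem F314341 : act 1 n139031 = n124668 := (sb E72048 (iv0 F240686))
theorem F314342 : act 2 n139031 = n124744 := (sb E72048 F240684)
theorem F314343 : act 3 n139031 = n124807 := (sb E72048 F240685)
theorem F314344 : act 4 n139031 = n162723 := (sb E72048 (iv4 F264119))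
theorem F314345 : act 5 n139031 = n153600 := (sb E72048 (iv5 F241426))
theorem F314346 : act 7 n139031 = n154154 := (sb E72048 (iv7 F242244))
theorem E75585 : n157194 = n14939 := (E72049).trans E74451
theorem E75586 : n74742 = n31760 := (((D31760).symm.trans (sb E75585 (iv0 D157194)))).symm
theorem E75588 : n157197 = n68242 := (E72051).trans E74711
theorem E75589 : n145544 = n31760 := ((D145544).symm.trans (sb E75588 (tr (iv7 D157197) E75586)))
theorem F314347 : act 4 n58313 = n74352 := (sb E72053 (iv4 D156314))
theorem F314348 : act 3 n58346 = n74737 := (sb E72055 F247368)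
theorem F314349 : act 0 n125181 = n74740 := (sb E72056 (iv1 F247371))
theorem F314350 : act 1 n125181 = n74735 := (sb E72056 (iv0 D157181))
theorem F314351 : act 2 n157182 = n85765 := (sb E72057 F279717)
theorem F314352 : act 4 n157182 = n85764 := (sb E72057 (iv4 D179606))
theorem F314353 : act 6 n157182 = n153456 := (sb E72057 F279718)
theorem F314354 : act 1 n147335 = n74737 := (sb E72059 (iv0 D157185))
theorem F314355 : act 0 n117713 = n74737 := (sb E72060 (iv1 D157186))
theorem F314356 : act 5 n147008 = n74737 := (sb E72061 (iv5 D157187))
theorem F314357 : act 7 n147491 = n74737 := (sb E72062 (iv7 D157188))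
theorem F314358 : act 2 n72717 = n74722 := (sb E72063 F247331)
theorem F314359 : act 6 n72717 = n74720 := (sb E72063 (iv6 D157158))
theorem F314360 : act 6 n72189 = n139785 := (sb E72066 F247391)
theorem F314361 : act 2 n60340 = n64992 := (sb E72067 F212167)
theorem E75591 : n128341 = n74718 := ((D128341).symm.trans (sb E72067 F208804))
theorem F314362 : act 0 n85962 = n64997 := (sb E72068 F245573)
theorem F314363 : act 2 n85962 = n156512 := (sb E72068 F246087)
theorem E75592 : n179900 = n144467 := ((D179900).symm.trans (sb E72068 (iv6 F227298)))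
theorem F314364 : act 1 n74318 = n85194 := (sb E72069 F234262)
theorem E75593 : n156229 = n54436 := ((D156229).symm.trans (sb E72069 F185525))
theorem F314365 : act 0 n74313 = n85194 := (sb E72070 F274342)
theorem E75594 : n178832 = n156218 := (((D156218).symm.trans (sb E72070 (iv3 F278704)))).symm
theorem F314366 : act 1 n39383 = n74620 := (sb E72071 (iv0 F246638))
theorem E75595 : n85193 = n74277 := ((D85193).symm.trans (sb E72071 (iv3 D156141)))
theorem F314367 : act 0 n127998 = n133867 := (sb E72072 (iv1 F215595))
theorem F314368 : act 1 n127998 = n61181 := (sb E72072 (iv0 D130365))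
theorem F314369 : act 6 n40181 = n29153 := (sb E72075 (iv6 F311361))
theorem F314370 : act 4 n61507 = n86647 := (sb E72078 F282615)
theorem E75596 : n161850 = n61665 := ((D161850).symm.trans (sb E72080 (iv0 D131387)))
theorem F314371 : act 5 n123529 = n65216 := (sb E72082 (iv5 D138908))
theorem F314372 : act 0 n34607 = n75686 := (sb E72921 (iv1 D158671))
theorem E75597 : n130480 = n75252 := (((F300814).symm.trans (sb E72085 (iv1 F213859)))).symm
theorem E75598 : n130105 = n75684 := (((F300815).symm.trans (sb E72085 F213858))).symm
theorem F314373 : act 2 n78162 = n62464 := (sb E72085 (iv2 D133138))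
theorem F314374 : act 5 n61215 = n35183 := (sb E72086 (iv5 D77026))
theorem E75599 : n160631 = n130484 := (((D130484).symm.trans (sb E72086 (iv6 F253739)))).symm
theorem E75600 : n173211 = n133039 := (((iv3 F271511)).symm.trans (sb E72089 (iv3 F216505)))
theorem E75601 : n149039 = n100493 := (((D100493).symm.trans (sb E72090 (iv3 F234360)))).symm
theorem F314375 : act 3 n83211 = n61710 := (sb E72091 F210760)
theorem F314376 : act 3 n83212 = n61711 := (sb E72092 F210761)
theorem E75602 : n123219 = n27598 := ((D123219).symm.trans (sb E72093 (iv1 D57816)))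
theorem E75603 : n123220 = n123172 := ((D123220).symm.trans (sb E72093 F197403))
theorem F314377 : act 7 n57360 = n123171 := (sb E72093 (iv7 F282672))
theorem F314378 : act 5 n131253 = n75961 := (sb E72094 (iv5 D159063))
theorem F314379 : act 0 n107921 = n99594 := (sb E72101 (iv1 F274742))
theorem F314380 : act 1 n107921 = n99593 := (sb E72101 F274743)
theorem F314381 : act 2 n107921 = n99596 := (sb E72101 F274739)
theorem F314382 : act 7 n107921 = n83794 := (sb E72101 (iv7 D175478))
theorem F314383 : act 1 n31640 = n52873 := (sb E72102 (iv0 D114545))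
theorem F314384 : act 0 n31639 = n52873 := (sb E72103 (iv1 D114546))
theorem F314385 : act 4 n79002 = n66823 := (sb E72104 F183144)
theorem E75606 : n164504 = n145026 := ((D164504).symm.trans (sb E72104 (iv5 F227977)))
theorem E75607 : n164505 = n67954 := ((D164505).symm.trans (sb E72104 F183145))
theorem F314386 : act 5 n67989 = n52873 := (sb E72105 (iv5 D114547))
theorem E75608 : n145027 = n52874 := ((D145027).symm.trans (sb E72105 F178617))
theorem F314387 : act 6 n31625 = n52913 := (sb E72106 F290393)
theorem F314388 : act 7 n31625 = n52873 := (sb E72106 F290394)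
theorem F314389 : act 4 n142443 = n71776 := (sb E72107 F239265)
theorem F314390 : act 6 n142443 = n71775 := (sb E72107 (iv6 D152179))
theorem F314391 : act 1 n135465 = n68557 := (sb E72108 (iv0 D146196))
theorem F314392 : act 5 n135465 = n155003 := (sb E72108 (iv5 F243735))
theorem E75609 : n155797 = n134705 := (((F217816).symm.trans (sb E72108 F244803))).symm
theorem F314393 : act 0 n63293 = n68557 := (sb E72109 (iv1 D146197))
theorem F314394 : act 3 n82442 = n68557 := (sb E72110 F225425)
theorem E75610 : n172137 = n66824 := ((D172137).symm.trans (sb E72110 (iv5 D142535)))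
theorem F314395 : act 4 n133599 = n68557 := (sb E72111 (iv4 D146198))
theorem E75611 : n132615 = n68555 := (((D68555).symm.trans (sb E72112 (iv1 F212859)))).symm
theorem E75612 : n84081 = n66824 := ((((iv3 F102668)).symm.trans (sb E72112 F311091))).symm
theorem E75614 : n79910 = n68558 := (((D68558).symm.trans (sb E72112 (tr F212858 E73832)))).symm
theorem E75615 : n132613 = n68558 := (E73832).trans E75614
theorem F314396 : act 7 n129360 = n68557 := (sb E72113 (iv7 D146199))
theorem F314397 : act 4 n119074 = n70031 := (sb E72114 (iv4 D149204))
theorem F314398 : act 6 n82936 = n60857 := (sb E72116 (iv6 D129524))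
theorem F314399 : act 1 n49862 = n81921 := (sb E72117 (iv0 D170885))
theorem F314400 : act 1 n122343 = n107964 := (sb E72118 (iv0 F214941))
theorem F314401 : act 4 n122343 = n62704 := (sb E72118 (iv4 D133602))
theorem F314402 : act 7 n122343 = n107961 := (sb E72118 F214940)
theorem F314403 : act 4 n133610 = n155351 := (sb E72119 (iv4 F308235))
theorem F314404 : act 6 n133610 = n70455 := (sb E72119 (iv6 D149880))
theorem E75616 : n155170 = n22729 := ((((iv1 D47267)).symm.trans (sb E72120 D155170))).symm
theorem E75617 : n119870 = n101615 := ((((iv2 F156539)).symm.trans (sb E72120 (iv2 F189209)))).symm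
theorem E75618 : n155167 = n101616 := (((D101616).symm.trans (sb E72120 (iv3 F243988)))).symm
theorem E75619 : n101617 = n33848 := ((D101617).symm.trans (sb E72120 F110359))
theorem E75620 : n155172 = n101618 := (((D101618).symm.trans (sb E72120 D155172))).symm
theorem E75621 : n101619 = n33846 := ((D101619).symm.trans (sb E72120 (iv6 D73657)))
theorem E75622 : n119872 = n101610 := (((F156538).symm.trans (sb E72120 (iv7 F189212)))).symm
theorem F314405 : act 0 n38577 = n58151 := (sb E72121 (iv1 D124572))
theorem F314406 : act 7 n114734 = n83683 := (sb E72122 (iv7 F274257))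
theorem E75623 : n157424 = n83683 := ((E72664).symm.trans (((iv2 F267583)).symm.trans (sb E72127 F274258)))
theorem F314407 : act 4 n69792 = n74839 := (sb E72128 (iv4 D157374))
theorem E75624 : n133713 = n107549 := ((((iv5 F165927)).symm.trans (sb E72128 F247708))).symm
theorem F314408 : act 3 n41129 = n33133 := (sb E72130 (iv3 D71656))
theorem E75628 : n151984 = n88079 := (((D88079).symm.trans (sb E72130 D151984))).symm
theorem F314409 : act 1 n71045 = n37334 := (sb E72132 (iv0 D81682))
theorem E75629 : n170335 = n60312 := (((F188352).symm.trans (sb E72132 D170335))).symm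
theorem E75633 : n170339 = n116182 := (((E74138).symm.trans (((iv6 F228193)).symm.trans (sb E72132 D170339)))).symm
theorem E75635 : n97133 = n44724 := (((iv4 F149860)).symm.trans (sb E72133 (tr (iv4 F242598) E72647)))
theorem E75636 : n170342 = n127655 := ((D170342).symm.trans (sb E72133 (iv5 F205219)))
theorem E75637 : n170343 = n59882 := ((D170343).symm.trans (sb E72133 (iv6 D127504)))
theorem E75638 : n60331 = n44651 := (((D44651).symm.trans (sb E72134 F206107))).symm
theorem F314410 : act 7 n28655 = n37334 := (sb E72135 (iv7 D81685))
theorem F314411 : act 6 n45876 = n60867 := (sb E72136 (iv6 D129558))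
theorem F314412 : act 2 n133503 = n85756 := (sb E72137 F279683)
theorem F314413 : act 4 n133503 = n85755 := (sb E72137 (iv4 D179591))
theorem E75641 : n170389 = n59845 := (((D59845).symm.trans (sb E72138 D170389))).symm
theorem E75642 : n114488 = n68634 := (((D68634).symm.trans (sb E72140 F248553))).symm
theorem E75643 : n94237 = n68636 := (((D68636).symm.trans (sb E72140 F233967))).symm
theorem F314414 : act 3 n79098 = n59906 := (sb E72141 (iv3 D127564))
theorem E75644 : n164619 = n159871 := ((D164619).symm.trans (sb E72141 (iv7 F252057)))
theorem F314415 : act 0 n119996 = n117350 := (sb E72142 F205023)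
theorem F314416 : act 1 n119996 = n117344 := (sb E72142 F205024)
theorem F314417 : act 5 n119996 = n59906 := (sb E72142 (iv5 D127565))
theorem F314418 : act 7 n119996 = n146492 := (sb E72142 F229820)
theorem E75645 : n117732 = n71839 := ((D117732).symm.trans (sb E72144 (iv3 D152271)))
theorem E75646 : n127771 = n115866 := (((D115866).symm.trans (sb E72145 F290373))).symm
theorem E75647 : n115867 = n52757 := ((D115867).symm.trans (sb E72145 F290374))
theorem E75648 : n115850 = n49129 := (((iv2 F180331)).symm.trans (sb E72145 F106615))
theorem E75649 : n149428 = n115868 := (((D115868).symm.trans (sb E72145 D149428))).symm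
theorem F314419 : act 6 n53419 = n32557 := (sb E72145 (iv6 D70166))
theorem E75651 : n117737 = n48967 := ((D117737).symm.trans (sb E72148 F162647))
theorem F314420 : act 3 n143533 = n154930 := (sb E72156 (iv3 F243619))
theorem F314421 : act 6 n143533 = n69571 := (sb E72156 (iv6 D148476))
theorem F314422 : act 1 n69330 = n79852 := (sb E72157 (iv0 D166288))
theorem F314423 : act 5 n146598 = n79852 := (sb E72158 F243824)
theorem E75653 : n149293 = n117875 := ((((iv4 F184847)).symm.trans (sb E72159 (iv4 F234662)))).symm
theorem F314424 : act 7 n54296 = n79852 := (sb E72159 (iv7 F122594))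
theorem F314425 : act 2 n60762 = n60381 := (sb E72160 F206518)
theorem F314426 : act 4 n60762 = n60373 := (sb E72160 (iv4 D128398))
theorem E75654 : n129781 = n120672 := (E72161).trans E75132
theorem F314427 : act 1 n120672 = n134523 := (sb E75654 (iv0 F216495))
theorem F314428 : act 2 n120672 = n134575 := (sb E75654 F216547)
theorem F314429 : act 5 n120672 = n61340 := (sb E75654 F208124)
theorem F314430 : act 7 n120672 = n132631 := (sb E75654 (iv7 F212894))
theorem F314431 : act 5 n29036 = n60381 := (sb E72162 (iv5 D128417))
theorem F314432 : act 1 n80280 = n69900 := (sb E72163 (iv0 D149027))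
theorem E75655 : n167228 = n84940 := ((F313535).symm.trans (sb E72164 (iv7 F278117)))
theorem F314433 : act 0 n128155 = n83372 := (sb E72165 (iv1 F273242))
theorem F314434 : act 1 n128155 = n83361 := (sb E72165 (iv0 D174388))
theorem E75656 : n161701 = n69905 := (((D69905).symm.trans (sb E72167 F278122))).symm
theorem F314435 : act 4 n52945 = n60406 := (sb E72169 (iv4 D128436))
theorem F314436 : act 4 n70776 = n69803 := (sb E72174 (iv4 D148917))
theorem F314437 : act 0 n102744 = n69550 := (sb E72175 F232273)
theorem F314438 : act 4 n102744 = n150311 := (sb E72175 (iv4 F236553))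
theorem F314439 : act 4 n148890 = n149353 := (sb E72176 (iv4 F310075))
theorem F314440 : act 5 n148890 = n76603 := (sb E72176 (iv5 D159995))
theorem E75658 : n157359 = n49698 := ((D157359).symm.trans (sb E72177 F165945))
theorem F314441 : act 5 n74833 = n69804 := (sb E72177 F165946)
theorem E75659 : n106491 = n49692 := (((iv7 F163740)).symm.trans (sb E72177 (iv7 D107560)))
theorem E75660 : n152661 = n83367 := ((D152661).symm.trans (sb E72178 (iv0 D174402)))
theorem F314442 : act 0 n57320 = n76407 := (sb E72179 (iv1 D159704))
theorem E75661 : n124075 = n123217 := ((D124075).symm.trans (sb E72180 F251632))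
theorem F314443 : act 7 n57815 = n76407 := (sb E72180 (iv7 D159706))
theorem E75662 : n88529 = n62533 := (((D62533).symm.trans (sb E72181 F288329))).symm
theorem E75663 : n88528 = n62535 := (((D62535).symm.trans (sb E72181 (iv6 D185871)))).symm
theorem F314444 : act 6 n72855 = n61099 := (sb E72182 (iv6 D130146))
theorem F314445 : act 0 n124072 = n135348 := (sb E72183 (iv1 F217600))
theorem F314446 : act 2 n124072 = n130149 := (sb E72183 F209684)
theorem F314447 : act 0 n60654 = n82504 := (sb E72186 F302485)
theorem F314448 : act 5 n60654 = n58333 := (sb E72186 (iv5 D124768))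
theorem E75664 : n154336 = n60863 := (((iv3 F242427)).symm.trans (sb E72187 F207676))
theorem F314449 : act 6 n73122 = n60860 := (sb E72187 (iv6 D129536))
theorem E75665 : n149073 = n65051 := ((((iv1 D138501)).symm.trans (sb E72189 (iv1 F278739)))).symm
theorem F314450 : act 1 n138501 = n149071 := (sb E72189 F278736)
theorem F314451 : act 2 n138501 = n125169 := (sb E72189 F278735)
theorem E75666 : n179893 = n156356 := ((((iv7 F246093)).symm.trans (sb E72189 (iv7 F280163)))).symm
theorem F314452 : act 5 n85957 = n107981 := (sb E72190 F212696)
theorem F314453 : act 4 n86792 = n74763 := (sb E72191 (iv4 F245773))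
theorem F314454 : act 4 n65114 = n58397 := (sb E72192 (iv4 F131471))
theorem F314455 : act 6 n65114 = n73409 := (sb E72192 F307111)
theorem F314456 : act 7 n65114 = n71428 := (sb E72192 (iv7 F199698))
theorem F314457 : act 3 n69928 = n65053 := (sb E72193 F221689)
theorem F314458 : act 4 n57661 = n65053 := (sb E72194 (iv4 D138514))
theorem E75668 : n123911 = n123747 := (((D123747).symm.trans (sb E72195 (iv0 F311155)))).symm
theorem F314459 : act 4 n57682 = n71661 := (sb E72195 F239001)
theorem F314460 : act 7 n57682 = n71658 := (sb E72195 (iv7 D151988))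
theorem F314461 : act 0 n124073 = n71661 := (sb E72196 (iv1 F232835))
theorem F314462 : act 1 n124073 = n71421 := (sb E72196 (iv0 F232702))
theorem F314463 : act 2 n124073 = n61571 := (sb E72196 (iv2 D131229))
theorem F314464 : act 3 n124073 = n129898 := (sb E72196 F210234)
theorem F314465 : act 5 n124073 = n74947 := (sb E72196 F210235)
theorem F314466 : act 6 n124073 = n146532 := (sb E72196 (iv6 F232718))
theorem F314467 : act 7 n124073 = n71660 := (sb E72196 (iv7 F232829))
theorem E75669 : n160246 = n53599 := (E72197).trans E74013
theorem E75670 : n128354 = n59714 := (((F102815).symm.trans (sb E75669 F253061))).symm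
theorem F314468 : act 4 n60346 = n61155 := (sb E72202 F208842)
theorem F314469 : act 4 n60341 = n61138 := (sb E72204 F208805)
theorem F314470 : act 3 n136356 = n85065 := (sb E72211 (iv3 D178613))
theorem F314471 : act 3 n141047 = n85105 := (sb E72214 F278404)
theorem F314472 : act 7 n141047 = n85066 := (sb E72214 (iv7 D178617))
theorem F314473 : act 4 n36736 = n62458 := (sb E72221 F213812)
theorem F314474 : act 3 n119757 = n74839 := (sb E72225 F246568)
theorem F314475 : act 6 n54241 = n74839 := (sb E72226 (iv6 D157375))
theorem F314476 : act 2 n119120 = n135450 := (sb E72227 F244050)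
theorem F314477 : act 6 n119120 = n129873 := (sb E72227 (iv6 F244055))
theorem F314478 : act 7 n119011 = n135450 := (sb E72228 (iv7 F244049))
theorem F314479 : act 3 n29904 = n55316 := (sb E72229 (iv3 D120222))
theorem F314480 : act 2 n120223 = n128057 := (sb E72230 F307894)
theorem F314481 : act 3 n120223 = n63292 := (sb E72230 F216713)
theorem F314482 : act 4 n120223 = n119401 := (sb E72230 (iv4 F243275))
theorem F314483 : act 6 n120223 = n78045 := (sb E72230 F307895)
theorem F314484 : act 7 n120223 = n135453 := (sb E72230 (iv7 F217772))
theorem E75685 : n117814 = n33127 := ((D117814).symm.trans (sb E72231 F235423))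
theorem E75686 : n131195 = n117815 := (((D117815).symm.trans (sb E72231 D131195))).symm
theorem E75687 : n131196 = n117802 := ((((iv2 F184485)).symm.trans (sb E72231 D131196))).symm
theorem E75688 : n131197 = n117816 := (((D117816).symm.trans (sb E72231 D131197))).symm
theorem F314485 : act 7 n54266 = n62718 := (sb E72231 (iv7 F186199))
theorem E75689 : n68892 = n53733 := ((F189195).symm.trans (sb E72232 (iv0 D116612)))
theorem F314486 : act 2 n85104 = n66874 := (sb E72232 (iv2 F181969))
theorem F314487 : act 3 n85104 = n67097 := (sb E72232 (iv3 F208262))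
theorem F314488 : act 0 n119948 = n66876 := (sb E72233 (iv1 D142669))
theorem F314489 : act 1 n119948 = n67097 := (sb E72233 F225555)
theorem E75690 : n67027 = n66472 := (((E74534).symm.trans ((F232925).symm.trans (sb E72233 (iv5 F225553))))).symm
theorem E75691 : n66471 = n14742 := ((((iv5 D31231)).symm.trans (sb E72234 (tr F231763 E74533)))).symm
theorem E75692 : n67084 = n54087 := (((iv6 F103052)).symm.trans (sb E72234 (iv6 D117369)))
theorem F314490 : act 3 n142670 = n178675 := (sb E72235 (iv3 F278482))
theorem E75693 : n150967 = n128028 := (((F235152).symm.trans (iv5 (sb E72236 (tr F280384 E75093))))).symm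
theorem E75694 : n180007 = n128028 := (E72236).trans E75693
theorem F314491 : act 6 n128028 = n86022 := (sb E75694 (iv6 D180007))
theorem F314492 : act 7 n172152 = n82540 := (sb E72237 F270580)
theorem F314493 : act 2 n158442 = n82536 := (sb E72238 F270581)
theorem F314494 : act 7 n158442 = n82541 := (sb E72238 F270582)
theorem F314496 : act 7 n172154 = n82542 := (sb E72239 F270584)
theorem F314497 : act 2 n172155 = n82538 := (sb E72240 F270585)
theorem F314498 : act 1 n53895 = n44938 := (sb E72241 (iv0 D96252))
theorem F314499 : act 0 n59902 = n44938 := (sb E72242 (iv1 D96253))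
theorem E75695 : n95846 = n45422 := (((E73336).symm.trans ((D127553).symm.trans (sb E72242 (iv4 F259055))))).symm
theorem E75696 : n127509 = n44942 := (((iv4 F204953)).symm.trans (sb E72243 F148051))
theorem F314500 : act 7 n59886 = n44938 := (sb E72243 (iv7 D96255))
theorem E75697 : n146333 = n119025 := (((iv1 F252068)).symm.trans (sb E72244 (iv1 F187259)))
theorem F314501 : act 1 n69333 = n48739 := (sb E72244 (iv0 D105411))
theorem F314502 : act 0 n69328 = n48739 := (sb E72245 (iv1 D105412))
theorem E75698 : n147944 = n119023 := ((((iv1 F187252)).symm.trans (sb E72246 F252061))).symm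
theorem E75699 : n147947 = n119022 := (((F187257).symm.trans (sb E72246 (iv0 F252060)))).symm
theorem F314503 : act 4 n105414 = n76534 := (sb E72246 F252059)
theorem F314504 : act 6 n105414 = n76533 := (sb E72246 (iv6 D159872))
theorem F314505 : act 1 n54065 = n48745 := (sb E72247 (iv0 F248549))
theorem E75700 : n117304 = n34412 := ((D117304).symm.trans (sb E72247 (iv3 D75145)))
theorem E75701 : n157717 = n117305 := (((D117305).symm.trans (sb E72247 D157717))).symm
theorem E75702 : n157718 = n117306 := (((D117306).symm.trans (sb E72247 D157718))).symm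
theorem F314506 : act 0 n54069 = n48745 := (sb E72248 (iv1 D105420))
theorem E75703 : n117313 = n52911 := ((D117313).symm.trans (sb E72248 F290334))
theorem E75704 : n140834 = n92521 := (((F161810).symm.trans (sb E72249 F252088))).symm
theorem F314507 : act 4 n105417 = n117504 := (sb E72249 F252086)
theorem F314508 : act 7 n105417 = n117584 := (sb E72249 F252087)
theorem F314509 : act 0 n105421 = n68675 := (sb E72250 (iv1 D146493))
theorem F314510 : act 1 n105421 = n68683 := (sb E72250 F229821)
theorem F314511 : act 7 n105421 = n146332 := (sb E72250 F229822)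
theorem F314512 : act 7 n68620 = n48745 := (sb E72251 (iv7 D105422))
theorem F314513 : act 3 n49124 = n69325 := (sb E72254 F223921)
theorem E75705 : n106291 = n66085 := ((D106291).symm.trans (sb E72254 (iv7 D140854)))
theorem F314514 : act 5 n133703 = n69325 := (sb E72255 F231816)
theorem F314515 : act 7 n133703 = n69324 := (sb E72255 (iv7 D147993))
theorem E75708 : n139704 = n117406 := (((iv3 F222874)).symm.trans (sb E72258 (iv3 F237551)))
theorem E75709 : n146184 = n109662 := ((((iv4 F169638)).symm.trans (sb E72258 D146184))).symm
theorem F314516 : act 0 n54006 = n65241 := (sb E72259 (iv1 F101336))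
theorem E75710 : n139729 = n116917 := ((((iv4 F182685)).symm.trans (sb E72259 D139729))).symm
theorem F314517 : act 7 n54006 = n34199 := (sb E72259 F101335)
theorem F314518 : act 0 n29228 = n35459 := (sb E72260 (iv1 D77666))
theorem F314519 : act 1 n29240 = n35459 := (sb E72261 (iv0 D77665))
theorem F314520 : act 0 n129801 = n71241 := (sb E72262 (iv1 D151165))
theorem F314521 : act 1 n129801 = n157430 := (sb E72262 F247967)
theorem F314522 : act 2 n129801 = n157429 := (sb E72262 F247963)
theorem F314523 : act 5 n129801 = n157438 := (sb E72262 (iv5 F247987))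
theorem E75717 : n39457 = n31118 := (((F93447).symm.trans (sb E72263 (iv1 D85440)))).symm
theorem E75718 : n74511 = n71307 := (((iv0 F111869)).symm.trans (sb E72263 F130670))
theorem E75719 : n69137 = n25975 := ((((iv3 F41053)).symm.trans (sb E72264 (iv3 F190199)))).symm
theorem E75720 : n69379 = n31149 := ((((iv3 F49498)).symm.trans (sb E72265 D69379))).symm
theorem E75721 : n25991 = n16090 := (((iv6 F41081)).symm.trans (sb E72265 F51174))
theorem E75722 : n116227 = n74104 := ((D116227).symm.trans (sb E72266 F184371))
theorem E75723 : n116228 = n72068 := ((D116228).symm.trans (sb E72266 (iv0 F184328)))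
theorem E75724 : n116230 = n54219 := ((D116230).symm.trans (sb E72266 F184327))
theorem F314524 : act 5 n26225 = n25943 := (sb E72268 (iv5 D53573))
theorem E75727 : n119008 = n53970 := ((D119008).symm.trans (sb E72269 F105435))
theorem E75728 : n119009 = n53973 := ((D119009).symm.trans (sb E72269 F105436))
theorem E75729 : n147519 = n49054 := (((F86624).symm.trans (sb E72269 D147519))).symm
theorem F314525 : act 4 n54764 = n32162 := (sb E72269 (iv4 D69140))
theorem E75730 : n145923 = n106521 := ((((iv5 F163784)).symm.trans (sb E72269 (iv5 F229123)))).symm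
theorem E75731 : n119010 = n67966 := ((D119010).symm.trans (sb E72269 F105434))
theorem F314526 : act 4 n159897 = n86005 := (sb E72270 (iv4 D179984))
theorem F314527 : act 1 n117574 = n70716 := (sb E72271 F236391)
theorem F314528 : act 5 n117574 = n122555 := (sb E72271 (iv5 F306321))
theorem F314529 : act 5 n117506 = n70606 := (sb E72272 (iv5 D150067))
theorem F314530 : act 7 n117506 = n70716 := (sb E72272 F236133)
theorem F314531 : act 3 n44993 = n54178 := (sb E72273 F184196)
theorem E75732 : n96357 = n54175 := ((D96357).symm.trans (sb E72273 (iv6 D117598)))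
theorem F314532 : act 5 n32779 = n54178 := (sb E72274 (iv5 D117603))
theorem E75733 : n101858 = n54177 := (((D54177).symm.trans (sb E72275 F287078))).symm
theorem E75736 : n144485 = n75998 := ((D144485).symm.trans (sb E72285 F307214))
theorem F314533 : act 4 n67706 = n59972 := (sb E72285 (iv4 F309172))
theorem E75737 : n144487 = n50039 := ((D144487).symm.trans (sb E72285 (iv6 D108367)))
theorem F314534 : act 6 n139914 = n74795 := (sb E72287 (iv6 D157309))
theorem E75738 : n150777 = n143901 := (((D143901).symm.trans (sb E72289 F264573))).symm
theorem E75739 : n143902 = n107924 := ((D143902).symm.trans (sb E72289 (iv0 F248035)))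
theorem E75740 : n150775 = n143896 := ((((iv2 F226526)).symm.trans (sb E72289 F247615))).symm
theorem F314535 : act 1 n70494 = n65623 := (sb E72292 (iv0 D139796))
theorem F314536 : act 4 n70494 = n65681 := (sb E72292 F222987)
theorem E75743 : n129779 = n34780 := (((F106946).symm.trans (sb E72292 F222986))).symm
theorem E75744 : n145675 = n74797 := (((D74797).symm.trans (sb E72293 (iv5 F228734)))).symm
theorem F314537 : act 6 n34269 = n65681 := (sb E72293 (iv6 D139915))
theorem F314538 : act 4 n67410 = n70871 := (sb E72294 F236795)
theorem F314539 : act 6 n67410 = n70869 := (sb E72294 (iv6 D150419))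
theorem F314540 : act 1 n39770 = n50655 := (sb E72295 (iv0 F84593))
theorem E75746 : n85999 = n48858 := ((D85999).symm.trans (sb E72295 F84590))
theorem E75747 : n30920 = n18804 := ((((iv5 D39770)).symm.trans (sb E72295 F84591))).symm
theorem F314541 : act 0 n154715 = n81461 := (sb E72298 F250486)
theorem F314542 : act 4 n154715 = n75997 := (sb E72298 (iv4 D159106))
theorem E75755 : n68475 = n30999 := ((((iv3 F49419)).symm.trans (sb E72301 (tr (iv3 F123938) E75120)))).symm
theorem F314543 : act 5 n14892 = n25934 := (sb E72302 (iv5 D53552))
theorem E75757 : n31010 = n7085 := ((((iv7 D14892)).symm.trans (sb E72302 F84470))).symm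
theorem F314544 : act 2 n60438 = n31013 := (sb E72304 (iv2 D66439))
theorem E75763 : n141670 = n120051 := ((D141670).symm.trans (sb E72305 (iv1 F189625)))
theorem E75765 : n155815 = n59535 := (((F102339).symm.trans (sb E72305 (iv3 F244812)))).symm
theorem F314545 : act 6 n66440 = n120059 := (sb E72305 (iv6 F189639))
theorem E75766 : n116190 = n34005 := (((iv7 F181062)).symm.trans (sb E72305 (iv7 D74123)))
theorem F314546 : act 1 n60437 = n31013 := (sb E72306 (iv0 D66437))
theorem F314547 : act 0 n60436 = n31013 := (sb E72307 (iv1 D66438))
theorem F314548 : act 5 n53888 = n31013 := (sb E72308 (iv5 D66441))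
theorem F314549 : act 3 n34022 = n25933 := (sb E72309 (iv3 D53549))
theorem F314550 : act 7 n34022 = n31013 := (sb E72309 F84465)
theorem E75784 : n138869 = n26693 := ((((iv4 F42783)).symm.trans (sb E72310 D138869))).symm
theorem F314551 : act 4 n107699 = n120055 := (sb E72315 F247626)
theorem E75791 : n74827 = n49753 := ((((iv6 D107699)).symm.trans (sb E72315 F247627))).symm
theorem F314552 : act 4 n24273 = n16596 := (sb E72317 (iv4 D34283))
theorem E75792 : n105790 = n30996 := (((D30996).symm.trans (sb E72318 (iv1 F243395)))).symm
theorem E75793 : n105806 = n30997 := (((D30997).symm.trans (sb E72318 (tr (iv0 F228198) E75118)))).symm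
theorem E75794 : n144856 = n30991 := ((((iv2 F49415)).symm.trans (sb E72318 (tr D145211 E75119)))).symm
theorem E75795 : n145212 = n30953 := ((((iv4 F49385)).symm.trans (sb E72318 D145212))).symm
theorem E75796 : n80605 = n30999 := (E75120).trans E75755
theorem E75799 : n116148 = n81695 := (((iv1 F180954)).symm.trans (sb E72320 (tr (iv1 F228195) E73311)))
theorem E75800 : n118312 = n116147 := (((F180960).symm.trans (sb E72320 (iv0 F188380)))).symm
theorem E75801 : n127561 = n116150 := ((((iv2 F180957)).symm.trans (sb E72320 F205018))).symm
theorem E75802 : n145205 = n116101 := ((((iv4 F180893)).symm.trans (sb E72320 D145205))).symm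
theorem E75803 : n32897 = n31090 := (((F84455).symm.trans (sb E72320 F104186))).symm
theorem F314553 : act 5 n14704 = n7427 := (sb E72322 (iv5 D15842))
theorem E75812 : n141645 = n31665 := (((D31665).symm.trans (sb E72324 D141645))).symm
theorem E75814 : n141681 = n33974 := ((((iv5 F53314)).symm.trans (sb E72325 D141681))).symm
theorem F314554 : act 5 n12352 = n25933 := (sb E72326 (iv5 D53550))
theorem F314555 : act 2 n73386 = n121687 := (sb E72328 F302848)
theorem F314556 : act 4 n73386 = n84386 := (sb E72328 F276472)
theorem E75818 : n166096 = n154749 := (((D154749).symm.trans (sb E72328 F302849))).symm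
theorem E75819 : n154750 = n84385 := ((D154750).symm.trans (sb E72328 (iv7 D177060)))
theorem F314557 : act 6 n54489 = n84386 := (sb E72329 (iv6 D177061))
theorem E75821 : n156891 = n118447 := (((D118447).symm.trans (sb E72331 D156891))).symm
theorem F314558 : act 3 n54546 = n34274 := (sb E72331 F112022)
theorem E75822 : n156893 = n118449 := (((D118449).symm.trans (sb E72331 D156893))).symm
theorem F314559 : act 3 n73486 = n67223 := (sb E72339 F226236)
theorem F314560 : act 2 n143511 = n149336 := (sb E72340 F261569)
theorem F314561 : act 4 n143511 = n79763 := (sb E72340 (iv4 D166118))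
theorem F314562 : act 6 n143511 = n149481 := (sb E72340 F261570)
theorem F314563 : act 7 n143511 = n149339 := (sb E72340 F261571)
theorem F314564 : act 2 n143510 = n149339 := (sb E72341 F261559)
theorem F314565 : act 4 n143510 = n79762 := (sb E72341 (iv4 D166115))
theorem F314566 : act 7 n143510 = n149336 := (sb E72341 F261560)
theorem F314567 : act 1 n117378 = n67223 := (sb E72342 (iv0 D143531))
theorem F314568 : act 0 n76642 = n67223 := (sb E72343 (iv1 D143532))
theorem F314569 : act 7 n117376 = n67223 := (sb E72344 (iv7 D143534))
theorem F314570 : act 3 n34730 = n65682 := (sb E72345 (iv3 D139916))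
theorem F314571 : act 3 n79727 = n63180 := (sb E72346 (iv3 D134488))
theorem E75823 : n166061 = n112211 := ((D166061).symm.trans (sb E72346 F216436))
theorem F314572 : act 7 n80470 = n74904 := (sb E72347 (iv7 D157455))
theorem F314573 : act 2 n32525 = n28343 := (sb E72348 F94113)
theorem E75825 : n31663 = n28339 := (((iv6 F313571)).symm.trans (sb E72348 (iv6 D59739)))
theorem F314575 : act 1 n143495 = n166119 := (sb E72349 F261573)
theorem F314576 : act 4 n143495 = n70114 := (sb E72349 (iv4 D149325))
theorem F314577 : act 2 n143496 = n158940 := (sb E72350 (iv2 F250272))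
theorem F314578 : act 4 n143496 = n69616 := (sb E72350 F233295)
theorem F314579 : act 6 n143496 = n158911 := (sb E72350 (iv6 F250210))
theorem F314580 : act 0 n143498 = n160114 := (sb E72351 (iv1 F252715))
theorem F314581 : act 7 n143498 = n166122 := (sb E72351 (iv7 F261577))
theorem F314582 : act 1 n143499 = n160045 := (sb E72352 (iv0 F252546))
theorem F314583 : act 4 n143499 = n70123 := (sb E72352 F234775)
theorem F314584 : act 7 n79764 = n67211 := (sb E72353 (iv7 F226215))
theorem F314585 : act 3 n133712 = n86647 := (sb E72357 F282614)
theorem F314586 : act 1 n61592 = n86647 := (sb E72358 (iv0 D181532))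
theorem F314587 : act 0 n61591 = n86647 := (sb E72359 (iv1 D181533))
theorem F314588 : act 7 n60103 = n86647 := (sb E72360 (iv7 D181534))
theorem F314589 : act 5 n123735 = n74370 := (sb E72362 F245756)
theorem F314590 : act 0 n125186 = n62660 := (sb E72365 (iv1 D133504))
theorem F314591 : act 1 n125186 = n136366 := (sb E72365 F219484)
theorem F314592 : act 2 n125186 = n136364 := (sb E72365 F221562)
theorem F314593 : act 5 n125186 = n136640 := (sb E72365 (iv5 F219786))
theorem E75828 : n127192 = n39777 := ((((iv5 F60613)).symm.trans (sb E72367 (iv5 F207812)))).symm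
theorem E75831 : n107802 = n60429 := (((D60429).symm.trans (sb E72369 D107802))).symm
theorem E75838 : n107612 = n58470 := (((D58470).symm.trans (sb E72371 (iv3 F166038)))).symm
theorem E75840 : n58471 = n28286 := ((D58471).symm.trans (sb E72371 F78621))
theorem F314594 : act 6 n13520 = n19011 := (sb E72372 (iv6 D40245))
theorem E75841 : n136473 = n86823 := (((D86823).symm.trans (sb E72374 F219768))).symm
theorem E75842 : n136468 = n86824 := (((D86824).symm.trans (sb E72374 (iv0 F219767)))).symm
theorem F314595 : act 4 n40248 = n64220 := (sb E72374 (iv4 D136629))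
theorem E75843 : n107782 = n85676 := ((((iv7 F131408)).symm.trans (sb E72374 F219766))).symm
theorem F314596 : act 1 n108254 = n86809 := (sb E72377 (iv0 F236169))
theorem F314597 : act 5 n108254 = n69926 := (sb E72377 (iv5 D149070))
theorem F314598 : act 6 n108254 = n70580 := (sb E72377 F234444)
theorem F314599 : act 0 n108232 = n86809 := (sb E72378 (iv1 F236170))
theorem F314600 : act 5 n108232 = n58532 := (sb E72378 (iv5 D125165))
theorem F314601 : act 2 n74468 = n86809 := (sb E72379 (iv2 D181763))
theorem F314602 : act 4 n65225 = n86809 := (sb E72380 F239314)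
theorem F314603 : act 3 n64177 = n86810 := (sb E72381 (iv3 D181765))
theorem F314604 : act 4 n136628 = n86825 := (sb E72387 F282948)
theorem F314605 : act 6 n136628 = n159425 := (sb E72387 F282949)
theorem F314606 : act 6 n76261 = n64220 := (sb E72389 (iv6 D136631))
theorem F314607 : act 2 n133506 = n178614 := (sb E72391 (iv2 F282952))
theorem F314608 : act 7 n136617 = n178614 := (sb E72392 F282953)
theorem F314609 : act 5 n136635 = n159428 := (sb E72394 F282955)
theorem F314610 : act 1 n136603 = n178614 := (sb E72395 F279609)
theorem F314611 : act 0 n136604 = n151311 := (sb E72400 F279612)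
theorem F314612 : act 4 n136604 = n85675 := (sb E72400 F279610)
theorem F314613 : act 7 n136604 = n159429 := (sb E72400 F279611)
theorem F314614 : act 1 n58355 = n65285 := (sb E72401 (iv0 D139082))
theorem F314615 : act 0 n58311 = n65285 := (sb E72402 (iv1 D139083))
theorem F314616 : act 2 n58354 = n65285 := (sb E72403 F222262)
theorem F314617 : act 5 n58354 = n65283 := (sb E72403 (iv5 D139077))
theorem F314618 : act 2 n133572 = n69334 := (sb E72404 F247825)
theorem F314619 : act 5 n133572 = n69311 := (sb E72404 (iv5 D147948))
theorem E75850 : n143582 = n118906 := (((iv6 F226272)).symm.trans (sb E72404 (iv6 F231760)))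
theorem F314620 : act 7 n133572 = n69329 := (sb E72404 F247826)
theorem F314621 : act 2 n133573 = n69329 := (sb E72405 F247816)
theorem F314622 : act 3 n133573 = n124944 := (sb E72405 F247817)
theorem F314623 : act 5 n133573 = n69310 := (sb E72405 (iv5 D147945))
theorem F314624 : act 7 n133573 = n69334 := (sb E72405 F247818)
theorem F314625 : act 0 n66151 = n69329 := (sb E72406 (iv1 D148013))
theorem F314626 : act 1 n66151 = n69334 := (sb E72406 F231833)
theorem F314627 : act 0 n124089 = n71426 := (sb E72407 (iv1 D151509))
theorem F314628 : act 1 n124089 = n71688 := (sb E72407 F238373)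
theorem F314629 : act 2 n124089 = n71685 := (sb E72407 (iv2 F238376))
theorem F314630 : act 0 n85033 = n74330 := (sb E72413 (iv1 F220199))
theorem F314631 : act 1 n85033 = n130961 := (sb E72413 F220198)
theorem E75866 : n178569 = n74290 := ((D178569).symm.trans (sb E72413 (iv5 F220208)))
theorem E75867 : n152804 = n141068 := (((iv6 F240006)).symm.trans (sb E72413 (iv6 F224071)))
theorem E75868 : n152333 = n115805 := (((F180195).symm.trans (sb E72414 (iv1 F239507)))).symm
theorem E75869 : n116075 = n33292 := ((F180840).symm.trans (sb E72414 (iv0 D72104)))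
theorem E75870 : n152805 = n141077 := (((D141077).symm.trans (sb E72414 D152805))).symm
theorem F314632 : act 6 n66161 = n39322 := (sb E72414 F108562)
theorem E75871 : n152332 = n116077 := ((((iv7 F180843)).symm.trans (sb E72414 (iv7 F239500)))).symm
theorem F314633 : act 0 n54715 = n109855 := (sb E72415 (iv1 F169838))
theorem F314634 : act 1 n54715 = n30923 := (sb E72415 (iv0 D66147))
theorem F314635 : act 2 n54715 = n109854 := (sb E72415 F209610)
theorem E75872 : n141043 = n118876 := ((((iv3 F186937)).symm.trans (sb E72415 D141043))).symm
theorem E75873 : n141044 = n118879 := ((((iv4 F186939)).symm.trans (sb E72415 D141044))).symm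
theorem F314636 : act 7 n54715 = n109685 := (sb E72415 F208259)
theorem F314637 : act 3 n55009 = n63287 := (sb E72416 F216697)
theorem F314638 : act 5 n55009 = n63285 := (sb E72416 (iv5 D134698))
theorem E75876 : n135462 = n119570 := (((D119570).symm.trans (sb E72416 (iv7 F217802)))).symm
theorem F314639 : act 6 n32745 = n65287 := (sb E72417 (iv6 D139091))
theorem F314640 : act 2 n54708 = n65312 := (sb E72418 F222295)
theorem F314641 : act 6 n54708 = n65293 := (sb E72418 (iv6 D139111))
theorem E75877 : n118729 = n65302 := ((D118729).symm.trans (sb E72421 (iv6 D139135)))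
theorem F314642 : act 3 n85376 = n74776 := (sb E72430 F247482)
theorem E75878 : n65084 = n39477 := (((D39477).symm.trans (sb E72431 (iv4 D138610)))).symm
theorem F314643 : act 0 n71347 = n74530 := (sb E72432 F222176)
theorem F314644 : act 1 n71347 = n74535 := (sb E72432 (iv0 F222175))
theorem F314645 : act 2 n71347 = n65307 := (sb E72432 F222047)
theorem E75879 : n151363 = n51309 := ((D151363).symm.trans (sb E72432 (iv3 D111247)))
theorem E75880 : n138651 = n124893 := (((F232451).symm.trans (sb E72432 (iv7 F222046)))).symm
theorem F314646 : act 3 n58387 = n65283 := (sb E72434 (iv3 F222041))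
theorem F314647 : act 4 n71331 = n64994 := (sb E72435 (iv4 D138364))
theorem F314648 : act 4 n71332 = n64999 := (sb E72436 (iv4 D138378))
theorem F314649 : act 2 n130294 = n166283 := (sb E72437 (iv2 F274094))
theorem F314650 : act 3 n130294 = n118680 := (sb E72437 (iv3 F306256))
theorem F314651 : act 5 n130294 = n145912 := (sb E72437 (iv5 F274096))
theorem F314652 : act 7 n130294 = n83717 := (sb E72437 (iv7 F274095))
theorem F314653 : act 1 n58452 = n34172 := (sb E72439 (iv0 D74515))
theorem F314654 : act 4 n74516 = n39476 := (sb E72441 (iv4 D85497))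
theorem E75885 : n179149 = n156695 := (((D156695).symm.trans (sb E72441 D179149))).symm
theorem F314655 : act 3 n85498 = n65216 := (sb E72442 F222055)
theorem F314656 : act 6 n54651 = n65307 := (sb E72443 (iv6 D139145))
theorem F314657 : act 0 n85366 = n74535 := (sb E72444 (iv1 F222234))
theorem F314658 : act 1 n85366 = n74530 := (sb E72444 (iv0 F222233))
theorem F314659 : act 7 n85366 = n65307 := (sb E72444 F222232)
theorem F314660 : act 3 n85367 = n65280 := (sb E72448 F222237)
theorem E75887 : n109689 = n26462 := (((F55640).symm.trans (sb E72449 (iv2 F205157)))).symm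
theorem E75888 : n139748 = n33516 := (((F55641).symm.trans (sb E72449 (iv3 F222924)))).symm
theorem E75889 : n139749 = n76649 := (((D76649).symm.trans (sb E72449 (iv4 F222925)))).symm
theorem E75891 : n76647 = n30739 := (((iv6 F114970)).symm.trans (sb E72449 (iv6 D65600)))
theorem F314661 : act 0 n139159 = n118728 := (sb E72461 F250965)
theorem F314662 : act 2 n139159 = n76255 := (sb E72461 F250963)
theorem F314663 : act 4 n139159 = n76244 := (sb E72461 (iv4 D159390))
theorem F314664 : act 7 n139159 = n76258 := (sb E72461 F250964)
theorem F314665 : act 1 n139160 = n118728 := (sb E72462 F250971)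
theorem F314666 : act 2 n139160 = n76258 := (sb E72462 F250967)
theorem F314667 : act 3 n139160 = n154754 := (sb E72462 F250968)
theorem F314668 : act 4 n139160 = n76245 := (sb E72462 (iv4 D159391))
theorem F314669 : act 7 n139160 = n76255 := (sb E72462 F250969)
theorem F314670 : act 7 n54711 = n65312 := (sb E72463 (iv7 D139162))
theorem E75893 : n65300 = n65149 := (((E74604).symm.trans (((iv1 F278974)).symm.trans (sb E72464 (iv1 F222258))))).symm
theorem E75894 : n118874 = n65299 := ((D118874).symm.trans (sb E72464 F222259))
theorem F314671 : act 7 n54712 = n65280 := (sb E72464 (iv7 D139073))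
theorem F314672 : act 1 n71308 = n65280 := (sb E72465 (iv0 D139070))
theorem F314673 : act 0 n139089 = n146314 := (sb E72466 (iv1 F229644))
theorem F314674 : act 1 n139089 = n146313 := (sb E72466 F229651)
theorem F314675 : act 2 n139089 = n146316 := (sb E72466 (iv2 F229648))
theorem F314676 : act 4 n139089 = n145011 := (sb E72466 F229057)
theorem F314677 : act 6 n139089 = n147228 := (sb E72466 (iv6 F230809))
theorem F314678 : act 7 n139089 = n68409 := (sb E72466 (iv7 D145891))
theorem F314679 : act 7 n68719 = n65301 := (sb E72467 (iv7 D139134))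
theorem F314680 : act 1 n16327 = n31244 := (sb E72468 (iv0 D67133))
theorem E75899 : n143165 = n33765 := ((D143165).symm.trans (sb E72469 (iv1 D73413)))
theorem E75900 : n143166 = n33791 := ((D143166).symm.trans (sb E72469 F110107))
theorem E75901 : n143047 = n124708 := (((iv3 F225910)).symm.trans (sb E72469 (iv3 F199518)))
theorem E75902 : n143149 = n47605 := (((iv4 F226009)).symm.trans (sb E72469 (iv4 F310424)))
theorem E75903 : n143167 = n54696 := ((D143167).symm.trans (sb E72469 (iv5 F110108)))
theorem F314681 : act 7 n67086 = n33788 := (sb E72469 F190247)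
theorem E75905 : n143257 = n35053 := ((D143257).symm.trans (sb E72470 F241364))
theorem E75906 : n143258 = n119332 := ((D143258).symm.trans (sb E72470 F241365))
theorem E75907 : n143239 = n119330 := (((iv2 F226060)).symm.trans (sb E72470 F241366))
theorem E75908 : n153630 = n143256 := ((((iv4 F226077)).symm.trans (sb E72470 (iv4 F241518)))).symm
theorem E75910 : n143260 = n119329 := ((D143260).symm.trans (sb E72470 F241367))
theorem E75911 : n143306 = n46269 := ((D143306).symm.trans (sb E72471 F307550))
theorem E75912 : n154933 = n143307 := (((D143307).symm.trans (sb E72471 F243632))).symm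
theorem E75913 : n143304 = n102440 := (((iv3 F226094)).symm.trans (sb E72471 (iv3 F309581)))
theorem E75914 : n143308 = n47604 := ((D143308).symm.trans (sb E72471 (iv5 F309582)))
theorem E75916 : n143309 = n122866 := ((D143309).symm.trans (sb E72471 (iv7 F306520)))
theorem E75917 : n143320 = n55337 := ((D143320).symm.trans (sb E72472 F243486))
theorem E75918 : n154937 = n143321 := (((D143321).symm.trans (sb E72472 F243637))).symm
theorem E75919 : n143322 = n127967 := ((D143322).symm.trans (sb E72472 (iv4 F307188)))
theorem E75920 : n54659 = n31247 := (((F103096).symm.trans (sb E72472 F110175))).symm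
theorem E75921 : n154806 = n143323 := (((D143323).symm.trans (sb E72472 (iv7 F243483)))).symm
theorem F314682 : act 2 n67136 = n33788 := (sb E72474 F190249)
theorem E75923 : n143007 = n117373 := (((iv6 F225877)).symm.trans (sb E72474 F183806))
theorem E75925 : n154940 = n143004 := (((F225878).symm.trans (sb E72475 D154940))).symm
theorem E75926 : n147251 = n143046 := ((((iv3 F225909)).symm.trans (sb E72475 (iv3 F230842)))).symm
theorem E75927 : n154936 = n143148 := ((((iv4 F226007)).symm.trans (sb E72475 (iv4 F243633)))).symm
theorem E75928 : n143163 = n117326 := (((iv5 F226013)).symm.trans (sb E72475 F183712))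
theorem F314683 : act 6 n67085 = n33788 := (sb E72475 (iv6 D73495))
theorem E75929 : n117368 = n31227 := ((((iv7 D67085)).symm.trans (sb E72475 (iv7 F190254)))).symm
theorem F314684 : act 6 n118290 = n81477 := (sb E72478 (iv6 D169884))
theorem F314685 : act 6 n118291 = n86024 := (sb E72479 (iv6 D180015))
theorem F314686 : act 0 n138563 = n74904 := (sb E72482 (iv1 D157453))
theorem F314687 : act 0 n58375 = n65154 := (sb E72484 (iv1 F111755))
theorem F314688 : act 1 n58375 = n34148 := (sb E72484 (iv0 D74451))
theorem F314689 : act 2 n58375 = n65153 := (sb E72484 (iv2 F214161))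
theorem E75930 : n156574 = n124858 := (((D124858).symm.trans (sb E72484 D156574))).symm
theorem E75931 : n156322 = n124859 := (((D124859).symm.trans (sb E72484 (iv5 F245856)))).symm
theorem E75932 : n156576 = n124860 := (((D124860).symm.trans (sb E72484 D156576))).symm
theorem E75933 : n156583 = n147902 := ((D156583).symm.trans (sb E72485 (iv1 F237585)))
theorem E75934 : n156584 = n147899 := ((D156584).symm.trans (sb E72485 F237586))
theorem E75935 : n156586 = n71119 := ((D156586).symm.trans (sb E72485 (iv7 D150852)))
theorem E75936 : n65156 = n54491 := ((D65156).symm.trans (sb E72486 (iv6 D118315)))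
theorem E75937 : n156626 = n60156 := (((iv1 F246341)).symm.trans (sb E72487 (iv1 D128022)))
theorem E75938 : n156635 = n71121 := ((D156635).symm.trans (sb E72487 F206013))
theorem E75939 : n156638 = n148867 := ((D156638).symm.trans (sb E72487 (iv5 F233903)))
theorem E75940 : n156639 = n71040 := ((D156639).symm.trans (sb E72487 (iv6 F206012)))
theorem E75941 : n156640 = n71120 := ((D156640).symm.trans (sb E72487 (iv7 F206020)))
theorem E75942 : n159430 = n156641 := (((D156641).symm.trans (sb E72488 F279579))).symm
theorem E75943 : n156623 = n71121 := ((D156623).symm.trans (sb E72489 (iv1 F206017)))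
theorem E75944 : n156624 = n71120 := ((D156624).symm.trans (sb E72489 F206021))
theorem E75945 : n156647 = n147440 := ((D156647).symm.trans (sb E72490 (iv4 F231226)))
theorem F314690 : act 6 n74485 = n88120 := (sb E72490 F310865)
theorem E75946 : n139863 = n68341 := (((iv7 F223068)).symm.trans (sb E72490 (iv7 D145761)))
theorem F314691 : act 7 n32931 = n34158 := (sb E72491 (iv7 D74486))
theorem F314692 : act 6 n26352 = n14511 := (sb E72492 (iv6 D30600))
theorem E75950 : n179152 = n111216 := ((((iv3 F172478)).symm.trans (sb E72493 D179152))).symm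
theorem E75951 : n156697 = n71081 := ((D156697).symm.trans (sb E72493 F130704))
theorem F314693 : act 6 n32916 = n34180 := (sb E72494 (iv6 D74539))
theorem F314694 : act 6 n73369 = n65154 := (sb E72495 (iv6 D138753))
theorem E75956 : n58380 = n50131 := ((D58380).symm.trans (sb E72501 (iv3 D108570)))
theorem F314695 : act 0 n124867 = n108471 := (sb E72502 F221931)
theorem F314696 : act 4 n124867 = n138934 := (sb E72502 (iv4 F222127))
theorem F314697 : act 7 n124867 = n156607 := (sb E72502 (iv7 F246302))
theorem F314698 : act 2 n124868 = n156615 := (sb E72503 (iv2 F246316))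
theorem F314699 : act 7 n124868 = n156608 := (sb E72503 (iv7 F246305))
theorem F314701 : act 4 n124869 = n65175 := (sb E72504 F221932)
theorem F314702 : act 0 n74469 = n58322 := (sb E72505 (iv1 D124758))
theorem F314703 : act 1 n74469 = n58382 := (sb E72505 F200386)
theorem F314704 : act 2 n74469 = n58379 := (sb E72505 F234085)
theorem F314705 : act 7 n74469 = n58378 := (sb E72505 F234086)
theorem E75957 : n65175 = n14695 := (((D14695).symm.trans (sb E72525 (iv1 D138805)))).symm
theorem E75958 : n156620 = n14696 := (((D14696).symm.trans (sb E72525 F246325))).symm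
theorem E75959 : n138806 = n30902 := (((F84268).symm.trans (iv0 (sb E72507 (tr (iv1 D149418) E75279))))).symm
theorem E75960 : n149418 = n30902 := (E72507).trans E75959
theorem E75961 : n114468 = n66074 := (((D66074).symm.trans (sb E75960 F290382))).symm
theorem E75962 : n157459 = n53529 := (((D53529).symm.trans (sb E72520 F248083))).symm
theorem F314706 : act 3 n108564 = n58382 := (sb E72509 F200560)
theorem E75963 : n107721 = n58478 := ((F246651).symm.trans (sb E72509 F200561))
theorem E75964 : n85046 = n74652 := ((F200387).symm.trans (sb E72510 F247102))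
theorem F314707 : act 0 n124760 = n138528 := (sb E72511 F247104)
theorem F314708 : act 1 n124760 = n138509 := (sb E72511 F247105)
theorem F314709 : act 3 n108547 = n58379 := (sb E72513 (iv3 D124871))
theorem F314710 : act 2 n124873 = n156608 := (sb E72514 (iv2 F246304))
theorem F314711 : act 7 n124873 = n156615 := (sb E72514 (iv7 F246317))
theorem F314712 : act 2 n124874 = n156609 := (sb E72515 (iv2 F246306))
theorem F314713 : act 4 n124874 = n65180 := (sb E72515 F221990)
theorem E75965 : n156613 = n53529 := (((D53529).symm.trans (sb E72517 (iv6 F246311)))).symm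
theorem E75966 : n59904 = n53541 := (((D53541).symm.trans (sb E72518 F204939))).symm
theorem E75968 : n167821 = n14689 := ((((iv4 F24368)).symm.trans (sb E72519 (iv4 F264287)))).symm
theorem E75970 : n36741 = n14699 := (((D14699).symm.trans (sb E72519 (iv6 D80541)))).symm
theorem E75971 : n149375 = n53608 := (((D53608).symm.trans (sb E72523 F237172))).symm
theorem E75972 : n71004 = n53609 := (((D53609).symm.trans (sb E72523 (iv6 D150630)))).symm
theorem E75973 : n71041 = n66621 := (((D66621).symm.trans (sb E72524 (iv1 F123806)))).symm
theorem E75974 : n71040 = n66622 := (((D66622).symm.trans (sb E72524 F123807))).symm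
theorem E75975 : n167810 = n66524 := ((((iv4 F102396)).symm.trans (sb E72524 D167810))).symm
theorem E75976 : n66623 = n36740 := ((D66623).symm.trans (sb E72524 (iv5 D80536)))
theorem E75977 : n66624 = n60149 := ((D66624).symm.trans (sb E72524 (iv7 F188340)))
theorem E75978 : n138814 = n31341 := (E72526).trans E73189
theorem E75979 : n67438 = n53529 := ((D67438).symm.trans (sb E75978 (tr (iv1 F246314) E75965)))
theorem E75980 : n67439 = n65180 := ((D67439).symm.trans (sb E75978 (iv0 D138814)))
theorem F314714 : act 0 n74908 = n65180 := (sb E72527 (iv1 D138815))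
theorem F314715 : act 2 n145905 = n122849 := (sb E72530 F276444)
theorem E75981 : n117447 = n87361 := (((iv4 F229081)).symm.trans (sb E72530 F308335))
theorem F314716 : act 6 n145905 = n84374 := (sb E72530 (iv6 D177025))
theorem E75982 : n150050 = n144912 := ((D150050).symm.trans (sb E72531 F264374))
theorem F314717 : act 4 n70595 = n68415 := (sb E72531 (iv4 D145906))
theorem E75983 : n150051 = n68454 := ((D150051).symm.trans (sb E72531 F264335))
theorem F314718 : act 1 n146794 = n74579 := (sb E72532 (iv0 D156824))
theorem F314719 : act 0 n146793 = n74579 := (sb E72533 (iv1 D156825))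
theorem F314720 : act 2 n146795 = n74579 := (sb E72534 F246716)
theorem E75984 : n138929 = n68831 := (((F230155).symm.trans (sb E72534 F246717))).symm
theorem F314721 : act 7 n68972 = n74579 := (sb E72535 F222904)
theorem F314722 : act 3 n36518 = n61722 := (sb E72537 (iv3 D131528))
theorem E75985 : n158206 = n134525 := ((D158206).symm.trans (sb E72538 (iv1 F216504)))
theorem F314723 : act 2 n75354 = n118628 := (sb E72538 (iv2 F216641))
theorem F314724 : act 4 n75354 = n61722 := (sb E72538 (iv4 D131529))
theorem E75987 : n158208 = n132447 := ((D158208).symm.trans (sb E72538 F212527))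
theorem F314725 : act 3 n131530 = n77621 := (sb E72539 (iv3 D161608))
theorem F314726 : act 3 n131531 = n80180 := (sb E72540 F263038)
theorem F314727 : act 4 n131531 = n158209 := (sb E72540 F263039)
theorem F314728 : act 7 n131531 = n161168 := (sb E72540 F304621)
theorem F314729 : act 0 n131533 = n83596 := (sb E72541 (iv1 F263057))
theorem F314730 : act 1 n131533 = n161311 := (sb E72541 F263056)
theorem F314731 : act 2 n131533 = n80181 := (sb E72541 (iv2 D167037))
theorem F314732 : act 1 n75754 = n118628 := (sb E72542 F212540)
theorem F314733 : act 3 n75754 = n60783 := (sb E72542 (iv3 D129333))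
theorem E75988 : n152627 = n131668 := (((iv4 F239838)).symm.trans (sb E72542 (iv4 F211026)))
theorem E75989 : n158782 = n60925 := ((D158782).symm.trans (sb E72542 F207526))
theorem E75990 : n158215 = n29897 := ((((iv1 F86345)).symm.trans (sb E72543 (iv1 F249241)))).symm
theorem E75992 : n34623 = n29899 := ((((iv2 F216643)).symm.trans (sb E72543 (iv2 D75717)))).symm
theorem E75993 : n158702 = n118629 := (((D118629).symm.trans (sb E72543 (iv4 F249860)))).symm
theorem F314734 : act 2 n63265 = n34643 := (sb E72544 (iv2 D75755))
theorem E75997 : n158783 = n130756 := (((F211218).symm.trans (sb E72544 D158783))).symm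
theorem E75998 : n158784 = n134638 := (((D134638).symm.trans (sb E72544 D158784))).symm
theorem E75999 : n158785 = n132449 := ((D158785).symm.trans (sb E72545 (iv1 F212531)))
theorem E76000 : n158786 = n60776 := ((D158786).symm.trans (sb E72545 (iv0 D129309)))
theorem E76001 : n158787 = n131809 := ((D158787).symm.trans (sb E72545 F211208))
theorem F314735 : act 0 n131535 = n161165 := (sb E72546 (iv1 F254844))
theorem F314736 : act 1 n131535 = n71980 := (sb E72546 (iv0 D152597))
theorem F314737 : act 2 n131535 = n80224 := (sb E72546 (iv2 F239790))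
theorem F314738 : act 7 n131535 = n161166 := (sb E72546 (iv7 F254845))
theorem E76004 : n141770 = n69313 := ((((iv2 F105588)).symm.trans (sb E72547 (iv2 F224800)))).symm
theorem F314739 : act 5 n32225 = n31034 := (sb E72547 (iv5 D66474))
theorem F314740 : act 0 n124930 = n74424 := (sb E72549 (iv1 D156504))
theorem F314741 : act 1 n124930 = n74429 := (sb E72549 F246069)
theorem F314742 : act 3 n124930 = n138284 := (sb E72549 F247480)
theorem E76007 : n138360 = n85400 := (((F232981).symm.trans (sb E72549 F246070))).symm
theorem F314743 : act 1 n64998 = n85405 := (sb E72550 F278922)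
theorem F314744 : act 0 n64993 = n85405 := (sb E72551 (iv1 F278921))
theorem F314745 : act 0 n124935 = n74429 := (sb E72552 (iv1 F246066))
theorem F314746 : act 1 n124935 = n74424 := (sb E72552 (iv0 D156503))
theorem F314747 : act 6 n118723 = n65613 := (sb E72553 (iv6 D139771))
theorem E76008 : n148885 = n117356 := ((D148885).symm.trans (sb E72554 (iv1 F229865)))
theorem E76009 : n148886 = n146557 := ((D148886).symm.trans (sb E72554 (iv0 F229864)))
theorem F314748 : act 4 n69790 = n67865 := (sb E72554 (iv4 D144814))
theorem E76010 : n148887 = n119953 := ((D148887).symm.trans (sb E72554 F227722))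
theorem E76011 : n146524 = n114714 := (((iv4 F229840)).symm.trans (sb E72556 (iv4 F252742)))
theorem F314749 : act 0 n55203 = n114852 := (sb E72557 F290298)
theorem E76012 : n119022 = n52790 := ((E75699).symm.trans ((D147947).symm.trans (sb E72558 (iv4 D114393))))
theorem F314750 : act 0 n159616 = n76642 := (sb E72561 (iv1 D160046))
theorem F314751 : act 1 n159616 = n117378 := (sb E72561 F252547)
theorem F314752 : act 2 n159616 = n117376 := (sb E72561 (iv2 F252550))
theorem F314753 : act 7 n159616 = n117375 := (sb E72561 F252548)
theorem F314754 : act 3 n77434 = n61686 := (sb E72562 (iv3 D131429))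
theorem E76013 : n100935 = n71665 := (((iv4 F303266)).symm.trans (sb E72562 F210657))
theorem F314755 : act 1 n79036 = n61715 := (sb E72563 (iv0 D131504))
theorem F314756 : act 0 n33248 = n61715 := (sb E72564 (iv1 D131505))
theorem F314757 : act 2 n79033 = n61715 := (sb E72565 (iv2 D131506))
theorem F314758 : act 2 n131508 = n164556 := (sb E72566 (iv2 F259380))
theorem F314759 : act 7 n131508 = n164559 := (sb E72566 (iv7 F259396))
theorem F314760 : act 0 n131509 = n72066 := (sb E72567 F259387)
theorem F314761 : act 1 n131509 = n155492 := (sb E72567 F259388)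
theorem F314762 : act 2 n131509 = n164557 := (sb E72567 (iv2 F259382))
theorem F314763 : act 4 n131509 = n148985 := (sb E72567 F239769)
theorem F314764 : act 3 n120432 = n135392 := (sb E72570 (iv3 F239033))
theorem F314765 : act 3 n33138 = n55450 := (sb E72571 (iv3 D120444))
theorem F314766 : act 3 n98099 = n71672 := (sb E72572 F239034)
theorem E76014 : n47812 = n28417 := ((D47812).symm.trans (sb E72573 (iv0 D59865)))
theorem E76015 : n127461 = n10859 := (((F36071).symm.trans (sb E72573 D127461))).symm
theorem F314767 : act 1 n31559 = n38923 := (sb E72574 (iv0 D84409))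
theorem E76016 : n177118 = n67885 := ((((iv2 F103941)).symm.trans (sb E72574 D177118))).symm
theorem E76022 : n177124 = n106019 := ((D177124).symm.trans (sb E72575 (iv3 F307924)))
theorem E76023 : n177125 = n127938 := ((D177125).symm.trans (sb E72575 F227759))
theorem E76024 : n177126 = n127444 := ((D177126).symm.trans (sb E72575 F227760))
theorem E76025 : n177114 = n127474 := ((D177114).symm.trans (sb E72576 (iv1 F247733)))
theorem E76026 : n177115 = n146156 := ((D177115).symm.trans (sb E72576 (iv0 F247731)))
theorem E76027 : n146522 = n53003 := (((F129555).symm.trans (sb E72576 F247732))).symm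
theorem E76028 : n177117 = n128316 := ((D177117).symm.trans (sb E72576 F227773))
theorem E76029 : n127449 = n45338 := (((D45338).symm.trans (sb E72577 (iv1 F247729)))).symm
theorem E76030 : n128333 = n45341 := (((D45341).symm.trans (sb E72577 F227774))).symm
theorem F314768 : act 7 n60332 = n38923 := (sb E72578 (iv7 D84412))
theorem F314769 : act 0 n37883 = n55290 := (sb E72579 (iv1 D120157))
theorem F314770 : act 1 n37883 = n63285 := (sb E72579 F209869)
theorem F314771 : act 0 n120159 = n82511 := (sb E72580 (iv1 F191428))
theorem F314772 : act 1 n120159 = n82515 := (sb E72580 (iv0 F191427))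
theorem F314773 : act 3 n120159 = n55321 := (sb E72580 (iv3 D120227))
theorem F314774 : act 2 n120156 = n82515 := (sb E72581 F270531)
theorem F314775 : act 7 n120156 = n82511 := (sb E72581 (iv7 D172279))
theorem F314776 : act 3 n86497 = n79990 := (sb E72582 F262294)
theorem E76031 : n181122 = n79988 := ((D181122).symm.trans (sb E72582 F262295))
theorem F314777 : act 7 n86497 = n79987 := (sb E72582 (iv7 D166665))
theorem F314778 : act 0 n96687 = n72811 := (sb E72583 F241468)
theorem F314779 : act 2 n96687 = n73245 := (sb E72583 F241467)
theorem F314780 : act 3 n96687 = n132636 := (sb E72583 (iv3 F311297))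
theorem F314781 : act 5 n96687 = n72638 := (sb E72583 (iv5 D153611))
theorem F314782 : act 6 n96687 = n154739 := (sb E72583 (iv6 F243414))
theorem F314783 : act 7 n96687 = n73246 := (sb E72583 F241470)
theorem F314784 : act 1 n96688 = n72811 := (sb E72584 F231549)
theorem F314785 : act 2 n96688 = n73246 := (sb E72584 (iv2 F240546))
theorem F314786 : act 3 n96688 = n55163 := (sb E72584 (iv3 D119860))
theorem F314787 : act 5 n96688 = n147802 := (sb E72584 (iv5 F231547))
theorem F314788 : act 6 n96688 = n68894 := (sb E72584 F189196)
theorem F314789 : act 7 n96688 = n73245 := (sb E72584 (iv7 F190356))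
theorem E76032 : n128295 = n45412 := (((D45412).symm.trans (sb E72585 F242559))).symm
theorem E76033 : n128297 = n45413 := (((D45413).symm.trans (sb E72585 F242560))).symm
theorem E76034 : n127631 = n45414 := (((D45414).symm.trans (sb E72585 F242558))).symm
theorem F314790 : act 0 n96690 = n73246 := (sb E72586 (iv1 F240545))
theorem F314791 : act 1 n96690 = n73245 := (sb E72586 F240542)
theorem F314792 : act 2 n96690 = n72811 := (sb E72586 F240539)
theorem F314793 : act 5 n96690 = n72326 := (sb E72586 (iv5 D153204))
theorem F314794 : act 0 n75686 = n132771 := (sb E72587 (iv1 F213854))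
theorem F314795 : act 2 n75686 = n61215 := (sb E72587 (iv2 D130481))
theorem F314796 : act 3 n75251 = n78162 := (sb E72588 F256937)
theorem E76035 : n157992 = n78161 := ((D157992).symm.trans (sb E72588 (iv5 D162700)))
theorem E76036 : n173748 = n162719 := (((D162719).symm.trans (sb E72589 (iv1 F272331)))).symm
theorem F314797 : act 1 n78196 = n78191 := (sb E72589 (iv0 D162713))
theorem F314798 : act 0 n128158 = n78191 := (sb E72590 (iv1 D162714))
theorem F314799 : act 4 n128158 = n161356 := (sb E72590 (iv4 F256945))
theorem E76037 : n173750 = n154158 := ((((iv1 F242267)).symm.trans (sb E72591 (iv1 F272333)))).symm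
theorem E76038 : n173749 = n70519 := ((((iv0 D149939)).symm.trans (sb E72591 F272332))).symm
theorem F314800 : act 2 n149939 = n78191 := (sb E72591 (iv2 D162715))
theorem F314801 : act 3 n149939 = n173771 := (sb E72591 (iv3 F272366))
theorem F314802 : act 5 n83090 = n148849 := (sb E72592 (iv5 F241010))
theorem F314803 : act 1 n34607 = n62464 := (sb E72593 (iv0 D133137))
theorem E76039 : n119584 = n55312 := ((((iv3 F87541)).symm.trans (sb E72593 F213850))).symm
theorem F314804 : act 4 n132771 = n173810 := (sb E72594 F300811)
theorem F314805 : act 5 n132771 = n75253 := (sb E72594 F248888)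
theorem E76040 : n98220 = n62313 := ((((iv6 D132771)).symm.trans (sb E72594 F306788))).symm
theorem E76041 : n173764 = n38718 := (E72595).trans E73984
theorem E76042 : n84044 = n83099 := ((D84044).symm.trans (sb E76041 (iv0 D173764)))
theorem F314806 : act 0 n128163 = n63597 := (sb E72597 (iv1 F208797))
theorem F314807 : act 1 n128163 = n63615 := (sb E72597 (iv0 F208794))
theorem F314808 : act 2 n128163 = n60941 := (sb E72597 (iv2 D129745))
theorem F314809 : act 5 n128163 = n61339 := (sb E72597 F207963)
theorem F314810 : act 7 n128163 = n63611 := (sb E72597 (iv7 F212145))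
theorem F314811 : act 5 n60756 = n83099 := (sb E72598 (iv5 D173766))
theorem F314812 : act 7 n63228 = n83099 := (sb E72599 (iv7 D173767))
theorem F314813 : act 7 n120136 = n83624 := (sb E72600 (iv7 D175093))
theorem F314814 : act 2 n173270 = n82926 := (sb E72603 (iv2 D173278))
theorem F314815 : act 7 n173270 = n82927 := (sb E72603 (iv7 F271660))
theorem F314816 : act 0 n119437 = n128101 := (sb E72604 F304138)
theorem F314817 : act 1 n119437 = n54984 := (sb E72604 (iv0 D119511))
theorem F314818 : act 4 n119437 = n82926 := (sb E72604 F304139)
theorem F314819 : act 6 n147094 = n86714 := (sb E72607 F301893)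
theorem F314820 : act 0 n146532 = n73170 := (sb E72608 (iv1 D154468))
theorem E76044 : n124175 = n123217 := (((F308174).symm.trans (sb E72608 (iv4 F242512)))).symm
theorem F314821 : act 2 n106035 = n73431 := (sb E72609 (iv2 D154838))
theorem F314822 : act 3 n83685 = n73431 := (sb E72610 (iv3 D154839))
theorem F314823 : act 4 n83798 = n73431 := (sb E72611 (iv4 D154840))
theorem F314824 : act 6 n99611 = n73431 := (sb E72612 (iv6 D154842))
theorem F314825 : act 7 n83681 = n73431 := (sb E72613 (iv7 D154843))
theorem F314826 : act 1 n57884 = n73430 := (sb E72618 (iv0 D154834))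
theorem F314827 : act 0 n69906 = n73430 := (sb E72619 (iv1 D154835))
theorem E76045 : n84184 = n73595 := ((((iv1 D155060)).symm.trans (sb E72620 (iv1 F303527)))).symm
theorem F314828 : act 2 n155060 = n82410 := (sb E72620 F300826)
theorem F314829 : act 3 n155060 = n83358 := (sb E72620 (iv3 F301370))
theorem F314830 : act 4 n155060 = n73617 := (sb E72620 F243905)
theorem F314831 : act 6 n155060 = n73616 := (sb E72620 (iv6 D155087))
theorem F314833 : act 0 n38817 = n73624 := (sb E72621 (iv1 F243847))
theorem F314834 : act 4 n152601 = n73624 := (sb E72623 F243924)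
theorem F314835 : act 7 n152601 = n73620 := (sb E72623 (iv7 D155097))
theorem E76046 : n116819 = n83101 := ((D116819).symm.trans (sb E72626 (iv3 D173773)))
theorem E76047 : n143843 = n123529 := ((D143843).symm.trans (sb E72627 (iv1 F244087)))
theorem E76048 : n143844 = n73715 := ((D143844).symm.trans (sb E72627 (iv0 D155209)))
theorem E76049 : n143845 = n123531 := ((D143845).symm.trans (sb E72627 (iv2 F244084)))
theorem E76050 : n143846 = n123525 := ((D143846).symm.trans (sb E72627 F244083))
theorem F314836 : act 3 n131424 = n100475 := (sb E72628 F263365)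
theorem F314837 : act 3 n131425 = n100476 := (sb E72629 F263366)
theorem E76051 : n174031 = n149037 := (((D149037).symm.trans (sb E72630 (iv1 F272851)))).symm
theorem E76052 : n174030 = n149038 := (((D149038).symm.trans (sb E72630 F272857))).symm
theorem F314838 : act 3 n36572 = n61699 := (sb E72634 (iv3 D131460))
theorem F314839 : act 1 n131351 = n80264 := (sb E72635 (iv0 D167194))
theorem F314840 : act 0 n131386 = n80264 := (sb E72636 (iv1 D167195))
theorem F314841 : act 4 n131383 = n80264 := (sb E72637 (iv4 D167196))
theorem F314843 : act 7 n131383 = n80264 := (sb E72638 (iv7 D167197))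
theorem E76053 : n131516 = n38498 := ((D131516).symm.trans (sb E72639 (iv1 D83507)))
theorem E76054 : n131517 = n77437 := ((D131517).symm.trans (sb E72639 F128613))
theorem E76055 : n131518 = n77435 := ((D131518).symm.trans (sb E72639 (iv2 F234135)))
theorem E76056 : n131519 = n47040 := ((D131519).symm.trans (sb E72639 (iv4 F305486)))
theorem E76057 : n131520 = n83775 := ((D131520).symm.trans (sb E72639 (iv5 F305487)))
theorem F314844 : act 7 n61719 = n77434 := (sb E72639 F234136)
theorem F314845 : act 0 n61720 = n83672 := (sb E72640 (iv1 D175190))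
theorem E76058 : n95292 = n59863 := ((D95292).symm.trans (sb E72643 (iv0 D127454)))
theorem F314846 : act 4 n44514 = n68968 := (sb E72643 F241141)
theorem E76059 : n147132 = n95294 := (((D95294).symm.trans (sb E72643 F241142))).symm
theorem E76060 : n169809 = n103725 := ((((iv6 F313062)).symm.trans (sb E72644 F267601))).symm
theorem E76061 : n146065 = n47768 := (((D47768).symm.trans (sb E72645 D146065))).symm
theorem E76062 : n68967 = n47769 := (((D47769).symm.trans (sb E72645 F242964))).symm
theorem E76065 : n117171 = n47771 := (((D47771).symm.trans (sb E72645 (iv7 F183307)))).symm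
theorem E76066 : n95760 = n45412 := ((D95760).symm.trans (sb E72646 (tr F237225 E76032)))
theorem E76067 : n95762 = n71045 := ((D95762).symm.trans (sb E72646 (iv4 D150681)))
theorem E76069 : n127502 = n95769 := (((D95769).symm.trans (sb E72647 (iv6 F242600)))).symm
theorem E76070 : n127634 = n95770 := (((D95770).symm.trans (sb E72648 F242604))).symm
theorem E76071 : n127526 = n95771 := (((D95771).symm.trans (sb E72648 F242605))).symm
theorem F314847 : act 4 n44726 = n72811 := (sb E72649 (iv4 D153892))
theorem E76073 : n170092 = n81578 := ((D170092).symm.trans (sb E72660 (iv5 D170090)))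
theorem E76074 : n170089 = n83683 := (E72664).trans E75623
theorem F314848 : act 2 n83683 = n114721 := (sb E76074 F267583)
theorem E76075 : n175220 = n81577 := ((D175220).symm.trans (sb E76074 (iv5 D170089)))
theorem F314849 : act 5 n157427 = n81587 := (sb E72669 F267610)
theorem F314850 : act 1 n13569 = n21317 := (sb E72671 (iv0 D44753))
theorem E76076 : n95840 = n28447 := ((((iv2 F45979)).symm.trans (sb E72671 D95840))).symm
theorem E76082 : n127413 = n45422 := (((E75695).symm.trans ((D95846).symm.trans (sb E72672 D127413)))).symm
theorem E76083 : n95847 = n28396 := ((D95847).symm.trans (sb E72672 (iv4 D59844)))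
theorem E76084 : n95848 = n32189 := ((D95848).symm.trans (sb E72672 F94278))
theorem E76085 : n127414 = n95849 := (((D95849).symm.trans (sb E72672 D127414))).symm
theorem E76086 : n95850 = n68457 := ((D95850).symm.trans (sb E72673 (iv1 F104658)))
theorem E76087 : n109526 = n95851 := (((D95851).symm.trans (sb E72673 D109526))).symm
theorem F314851 : act 3 n44755 = n24620 := (sb E72673 (iv3 D50530))
theorem E76088 : n95852 = n32156 := ((D95852).symm.trans (sb E72673 F79905))
theorem E76089 : n109528 = n23003 := (((F70343).symm.trans (sb E72673 D109528))).symm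
theorem E76090 : n95853 = n51550 := ((D95853).symm.trans (sb E72673 (iv7 F81343)))
theorem F314852 : act 7 n32151 = n21317 := (sb E72674 (iv7 D44756))
theorem F314853 : act 3 n127547 = n96359 := (sb E72696 F267272)
theorem F314854 : act 4 n44760 = n31662 := (sb E72700 (iv4 D68038))
theorem E76094 : n127596 = n95858 := ((((iv3 F147539)).symm.trans (sb E72701 (iv3 F205069)))).symm
theorem F314855 : act 4 n44762 = n69108 := (sb E72701 (iv4 F105405))
theorem F314856 : act 0 n119201 = n69327 := (sb E72702 F243229)
theorem F314857 : act 2 n119201 = n69066 := (sb E72702 F229640)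
theorem F314858 : act 3 n119201 = n69108 := (sb E72702 F229641)
theorem E76096 : n144968 = n54858 := (((F187577).symm.trans (sb E72702 F229642))).symm
theorem F314859 : act 5 n119201 = n73377 := (sb E72702 F229643)
theorem F314860 : act 6 n119201 = n68611 := (sb E72702 (iv6 D146312))
theorem F314861 : act 1 n67857 = n76725 := (sb E72703 (iv0 D160168))
theorem F314862 : act 0 n67864 = n76725 := (sb E72704 (iv1 D160169))
theorem F314863 : act 3 n146513 = n76725 := (sb E72705 F252818)
theorem E76097 : n146042 = n103689 := ((F232870).symm.trans (sb E72705 F252819))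
theorem F314864 : act 6 n146513 = n76722 := (sb E72705 (iv6 D160166))
theorem F314865 : act 5 n133680 = n76725 := (sb E72706 (iv5 D160170))
theorem F314866 : act 7 n67862 = n76725 := (sb E72707 (iv7 D160171))
theorem E76098 : n129746 = n98285 := (((iv3 F207968)).symm.trans (sb E72708 F198796))
theorem F314867 : act 6 n61391 = n57952 := (sb E72708 (iv6 D124315))
theorem F314868 : act 2 n143522 = n150623 := (sb E72709 F264566)
theorem F314869 : act 5 n143522 = n80597 := (sb E72709 (iv5 D167910))
theorem F314870 : act 3 n38954 = n53821 := (sb E72710 (iv3 D116811))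
theorem F314871 : act 0 n62466 = n108297 := (sb E72711 F182386)
theorem F314872 : act 1 n62466 = n59782 := (sb E72711 F182387)
theorem F314873 : act 4 n62466 = n53821 := (sb E72711 (iv4 D116812))
theorem F314874 : act 6 n69377 = n53821 := (sb E72712 (iv6 D116813))
theorem F314875 : act 6 n79422 = n67369 := (sb E72713 (iv6 D143847))
theorem F314876 : act 0 n66318 = n61212 := (sb E72714 (iv1 F208941))
theorem F314877 : act 1 n66318 = n61217 := (sb E72714 (iv0 F208942))
theorem E76100 : n61108 = n59966 := (((F102234).symm.trans (sb E72714 (iv6 D130182)))).symm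
theorem F314878 : act 4 n28981 = n31317 := (sb E72716 (iv4 D67366))
theorem E76105 : n143838 = n61213 := (((D61213).symm.trans (sb E72716 D143838))).symm
theorem E76106 : n65853 = n54723 := ((((iv3 F86529)).symm.trans (sb E72718 (iv3 F101498)))).symm
theorem E76107 : n33355 = n14592 := (((iv4 F52590)).symm.trans (sb E72718 F49240))
theorem F314879 : act 5 n118999 = n67369 := (sb E72719 F223413)
theorem F314880 : act 4 n31502 = n54761 := (sb E72720 F208985)
theorem E76111 : n36236 = n29469 := ((F302609).symm.trans (sb E72725 F212325))
theorem E76112 : n61023 = n39862 := (((F85631).symm.trans (sb E72725 F212326))).symm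
theorem F314881 : act 0 n29665 = n26240 := (sb E72726 (iv1 D54275))
theorem E76114 : n117839 = n62716 := ((((iv3 F97833)).symm.trans (sb E72726 D117839))).symm
theorem F314882 : act 5 n29665 = n28691 := (sb E72726 (iv5 F85626))
theorem E76119 : n33356 = n25890 := (((iv4 F52592)).symm.trans (sb E72728 F84326))
theorem E76121 : n72209 = n30546 := (((iv4 F108647)).symm.trans (sb E72729 F100827))
theorem E76122 : n32967 = n26045 := (((F45850).symm.trans (sb E72730 (iv1 D71226)))).symm
theorem E76123 : n71076 = n31503 := (((F49805).symm.trans (sb E72730 F107708))).symm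
theorem F314883 : act 4 n28357 = n33358 := (sb E72730 F208996)
theorem E76126 : n109673 = n75941 := ((D109673).symm.trans (sb E72731 F113836))
theorem F314884 : act 6 n50585 = n33358 := (sb E72731 (iv6 D72294))
theorem F314885 : act 2 n62740 = n57730 := (sb E72732 (iv2 D123910))
theorem F314886 : act 4 n62796 = n57730 := (sb E72733 (iv4 D123912))
theorem F314887 : act 1 n123913 = n57763 := (sb E72734 (iv0 D123983))
theorem F314888 : act 0 n123914 = n157409 := (sb E72735 F306506)
theorem F314889 : act 1 n123914 = n57780 := (sb E72735 (iv0 D124026))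
theorem F314890 : act 2 n123914 = n133672 := (sb E72735 F306507)
theorem F314891 : act 3 n123914 = n73168 := (sb E72735 F242507)
theorem F314892 : act 4 n123914 = n133758 := (sb E72735 F306508)
theorem F314893 : act 7 n62741 = n57730 := (sb E72736 (iv7 D123915))
theorem F314894 : act 0 n29130 = n57566 := (sb E72737 (iv1 D123517))
theorem F314895 : act 7 n123513 = n133671 := (sb E72738 (iv7 F215093))
theorem F314896 : act 0 n123518 = n57763 := (sb E72739 (iv1 D123984))
theorem F314897 : act 7 n62740 = n57566 := (sb E72740 (iv7 D123519))
theorem F314898 : act 0 n123927 = n61531 := (sb E72741 F205739)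
theorem F314899 : act 2 n123927 = n133583 := (sb E72741 (iv2 F214881))
theorem F314900 : act 5 n123927 = n60051 := (sb E72741 (iv5 D127859))
theorem F314901 : act 7 n123927 = n133586 := (sb E72741 (iv7 F214899))
theorem F314902 : act 1 n123928 = n61531 := (sb E72742 F209462)
theorem F314903 : act 2 n123928 = n133586 := (sb E72742 (iv2 F214898))
theorem F314904 : act 5 n123928 = n61400 := (sb E72742 (iv5 D130867))
theorem F314905 : act 7 n123928 = n133583 := (sb E72742 (iv7 F214882))
theorem F314906 : act 2 n123929 = n133675 := (sb E72743 (iv2 F215100))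
theorem F314907 : act 5 n123929 = n61514 := (sb E72743 (iv5 D131119))
theorem F314908 : act 7 n123929 = n133642 := (sb E72743 (iv7 F215046))
theorem F314909 : act 3 n73246 = n62232 := (sb E72744 (iv3 D132634))
theorem E76127 : n144488 = n69610 := ((D144488).symm.trans (sb E72745 (iv3 F188612)))
theorem F314910 : act 5 n67707 = n119591 := (sb E72745 (iv5 F188593))
theorem F314911 : act 6 n67707 = n54851 := (sb E72745 (iv6 D119198))
theorem F314912 : act 7 n67707 = n74714 := (sb E72745 (iv7 F309196))
theorem E76128 : n159031 = n130087 := (((D130087).symm.trans (sb E72747 F250366))).symm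
theorem F314913 : act 0 n132823 = n86827 := (sb E72748 (iv1 F229420))
theorem F314914 : act 1 n132823 = n68536 := (sb E72748 (iv0 D146161))
theorem E76129 : n145742 = n130082 := (((F213320).symm.trans (sb E72748 (iv2 F229421)))).symm
theorem F314915 : act 4 n132823 = n69755 := (sb E72748 F229419)
theorem E76130 : n132509 = n69661 := ((F213321).symm.trans (sb E72748 F229418))
theorem F314916 : act 7 n132823 = n145743 := (sb E72748 (iv7 F229423))
theorem E76131 : n143799 = n55230 := ((D143799).symm.trans (sb E72749 (iv0 D120016)))
theorem E76135 : n136537 = n71250 := (((D71250).symm.trans (sb E72750 (iv4 F219637)))).symm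
theorem F314917 : act 4 n14514 = n15878 := (sb E72753 (iv4 D32977))
theorem E76139 : n74610 = n15887 := ((((iv3 F25356)).symm.trans (sb E72754 (iv3 F112026)))).symm
theorem E76140 : n24275 = n15888 := (((D15888).symm.trans (sb E72754 F53842))).symm
theorem F314918 : act 6 n54740 = n74786 := (sb E72757 F167291)
theorem F314919 : act 4 n24364 = n26471 := (sb E72758 F86032)
theorem F314920 : act 5 n148603 = n156402 := (sb E72760 (iv5 F309281))
theorem F314921 : act 1 n101278 = n127320 := (sb E72761 F233356)
theorem F314922 : act 2 n101278 = n69645 := (sb E72761 (iv2 D148604))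
theorem F314923 : act 2 n148593 = n170548 := (sb E72762 F267978)
theorem F314924 : act 6 n148593 = n81749 := (sb E72762 (iv6 D170549))
theorem F314925 : act 3 n37360 = n69647 := (sb E72763 F233361)
theorem F314926 : act 6 n37360 = n69645 := (sb E72763 (iv6 D148606))
theorem E76144 : n105845 = n70847 := ((D105845).symm.trans (sb E74266 F307256))
theorem F314927 : act 0 n79770 = n69647 := (sb E72765 (iv1 F223976))
theorem F314928 : act 4 n79770 = n116952 := (sb E72765 F223974)
theorem F314929 : act 7 n79770 = n66113 := (sb E72765 (iv7 D140948))
theorem F314930 : act 0 n32857 = n65679 := (sb E72767 (iv1 D139911))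
theorem F314931 : act 5 n32857 = n69647 := (sb E72767 (iv5 F223127))
theorem F314932 : act 1 n32856 = n66113 := (sb E72768 F214296)
theorem F314933 : act 4 n32856 = n62568 := (sb E72768 (iv4 D133318))
theorem F314934 : act 7 n32856 = n69647 := (sb E72768 F214295)
theorem F314935 : act 4 n56259 = n31990 := (sb E72769 (iv4 D68767))
theorem E76147 : n146151 = n27106 := (((F88993).symm.trans (sb E72769 (iv5 F229398)))).symm
theorem F314936 : act 3 n70242 = n55164 := (sb E72770 (iv3 D119864))
theorem E76148 : n149576 = n73962 := ((D149576).symm.trans (sb E72770 F189204))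
theorem E76149 : n149366 = n68702 := ((((iv4 F104901)).symm.trans (sb E72771 (iv4 F234849)))).symm
theorem F314937 : act 4 n117415 = n99607 := (sb E72773 F285502)
theorem F314938 : act 6 n117415 = n87666 := (sb E72773 (iv6 D183734))
theorem F314939 : act 4 n53005 = n68646 := (sb E72774 (iv4 D146410))
theorem E76153 : n114871 = n68710 := ((D114871).symm.trans (sb E72774 F247777))
theorem F314940 : act 1 n119950 = n69788 := (sb E72776 (iv0 D148882))
theorem F314941 : act 0 n119949 = n69788 := (sb E72777 (iv1 D148883))
theorem F314942 : act 5 n119923 = n98690 := (sb E72780 F233935)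
theorem F314943 : act 6 n119923 = n159865 := (sb E72780 (iv6 F252038))
theorem F314944 : act 7 n119923 = n69788 := (sb E72780 (iv7 D148884))
theorem F314945 : act 3 n33790 = n68756 := (sb E72783 F225790)
theorem F314946 : act 5 n41648 = n68756 := (sb E72784 (iv5 D146688))
theorem F314947 : act 3 n117287 = n73505 := (sb E72785 F243669)
theorem E76156 : n47822 = n32090 := ((((iv1 D68982)).symm.trans (sb E72801 (iv1 F158433)))).symm
theorem F314948 : act 1 n68982 = n47817 := (sb E72801 (iv0 D103160))
theorem F314949 : act 7 n95587 = n59863 := (sb E72802 (iv7 D127457))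
theorem F314950 : act 2 n95588 = n59863 := (sb E72803 F204812)
theorem E76157 : n124529 = n95588 := ((D124529).symm.trans (iv4 (sb E72803 (tr F204813 E73897))))
theorem F314951 : act 6 n95588 = n59847 := (sb E72803 (iv6 D127422))
theorem F314952 : act 4 n95590 = n68792 := (sb E72804 F242958)
theorem F314953 : act 0 n146728 = n169807 := (sb E72805 (iv1 F267594))
theorem F314954 : act 1 n146728 = n169806 := (sb E72805 F267595)
theorem F314955 : act 4 n146728 = n87863 := (sb E72805 F267591)
theorem F314956 : act 7 n146728 = n81582 := (sb E72805 (iv7 D170101))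
theorem F314957 : act 0 n117557 = n147599 := (sb E72806 (tr (iv1 F242007) E75534))
theorem F314958 : act 1 n117558 = n147599 := (sb E72807 (tr F242002 E75534))
theorem F314959 : act 2 n72430 = n54163 := (sb E72808 (iv2 D117559))
theorem F314960 : act 2 n117560 = n153308 := (sb E72809 F242003)
theorem F314961 : act 6 n117560 = n153180 := (sb E72809 F242004)
theorem F314962 : act 0 n117490 = n153307 := (sb E72810 (iv1 F242008))
theorem F314963 : act 1 n117490 = n153306 := (sb E72810 F242009)
theorem F314964 : act 2 n117490 = n147599 := (sb E72810 (tr F242005 E75534))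
theorem F314965 : act 6 n117490 = n147595 := (sb E72810 (tr F242006 E75533))
theorem F314966 : act 3 n128103 = n69185 := (sb E72811 F231391)
theorem E76158 : n146757 = n69178 := ((F312504).symm.trans (sb E72811 (iv7 D147604)))
theorem F314967 : act 0 n62332 = n68809 := (sb E72812 (iv1 F229500))
theorem F314968 : act 1 n62332 = n146206 := (sb E72812 F229497)
theorem E76159 : n146218 = n83898 := ((((iv3 F312597)).symm.trans (sb E72812 D146218))).symm
theorem E76160 : n132820 = n31897 := ((D132820).symm.trans (sb E72812 (iv4 D68566)))
theorem E76162 : n146206 = n79891 := (((F130060).symm.trans (sb E72813 F230086))).symm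
theorem E76163 : n149373 = n68799 := (((iv4 F234892)).symm.trans (sb E72813 F230087))
theorem E76164 : n68798 = n39259 := ((((iv6 D84851)).symm.trans (sb E72813 (iv6 D146745)))).symm
theorem E76165 : n178301 = n68809 := ((D178301).symm.trans (sb E72813 F230088))
theorem F314969 : act 4 n28982 = n31312 := (sb E72815 (iv4 D67357))
theorem E76167 : n170100 = n65576 := (((iv6 F267589)).symm.trans (sb E72817 (iv6 D139718)))
theorem F314970 : act 4 n31427 = n54762 := (sb E72818 F208989)
theorem F314971 : act 6 n68713 = n52923 := (sb E72819 (iv6 D114662))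
theorem F314972 : act 0 n69081 = n39269 := (sb E72820 F130041)
theorem F314973 : act 1 n69081 = n86230 := (sb E72820 F132185)
theorem E76169 : n178267 = n32142 := ((((iv3 D69081)).symm.trans (sb E72820 (iv3 F277814)))).symm
theorem E76170 : n51030 = n39257 := ((F171342).symm.trans (sb E72820 (iv5 D84843)))
theorem E76171 : n178271 = n34404 := ((((iv6 F312523)).symm.trans (sb E72820 (iv6 F277819)))).symm
theorem F314974 : act 0 n69188 = n86230 := (sb E72821 (iv1 F132186))
theorem F314975 : act 1 n69188 = n39269 := (sb E72821 (iv0 D84879))
theorem E76172 : n178404 = n128105 := ((((iv3 F311876)).symm.trans (sb E72821 D178404))).symm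
theorem E76173 : n78356 = n51035 := ((((iv5 F171349)).symm.trans (sb E72821 F130087))).symm
theorem E76174 : n55940 = n51822 := (((iv1 F88517)).symm.trans (sb E72822 (iv1 D112332)))
theorem E76175 : n55936 = n51827 := (((iv0 F88512)).symm.trans (sb E72822 F174735))
theorem E76176 : n109112 = n86227 := ((((iv3 F132175)).symm.trans (sb E72822 F174739))).symm
theorem E76177 : n109118 = n18879 := (((F60718).symm.trans (sb E72822 (iv4 F174737)))).symm
theorem F314976 : act 0 n39905 = n32178 := (sb E72823 (iv1 D69187))
theorem E76179 : n147631 = n86226 := ((((iv3 F132173)).symm.trans (sb E72823 D147631))).symm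
theorem E76180 : n126077 = n58718 := ((((iv3 F92789)).symm.trans (sb E72825 D126077))).symm
theorem E76181 : n28065 = n13313 := (((F45087).symm.trans (sb E72825 (iv4 D59073)))).symm
theorem E76183 : n78452 = n51834 := ((E74998).symm.trans ((D157689).symm.trans (sb E72826 (iv4 D112360))))
theorem F314977 : act 3 n69175 = n68808 := (sb E72827 F230108)
theorem E76184 : n147596 = n68806 := ((D147596).symm.trans (sb E72827 (iv6 D146760)))
theorem E76185 : n146743 = n36387 := (E72828).trans E75005
theorem F314978 : act 5 n36387 = n68808 := (sb E76185 F230082)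
theorem E76187 : n116921 = n86271 := (E72829).trans E74059
theorem E76188 : n157689 = n51834 := (E74998).trans E76183
theorem F314979 : act 4 n86271 = n69735 := (sb E76187 (iv4 F184306))
theorem E76189 : n55882 = n50917 := ((F311562).symm.trans (sb E72830 (iv4 D110419)))
theorem E76190 : n112760 = n39424 := (((F106000).symm.trans (sb E72830 (iv7 F175564)))).symm
theorem E76191 : n110091 = n78729 := ((D110091).symm.trans (sb E72831 (tr (iv1 F248529) E73816)))
theorem E76192 : n69479 = n53885 := (((iv0 F105783)).symm.trans (sb E72831 (iv0 D116920)))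
theorem E76193 : n110079 = n39923 := (((iv2 F170214)).symm.trans (sb E72831 (tr (iv2 F248479) E74997)))
theorem F314980 : act 4 n50773 = n68782 := (sb E72831 (iv4 F229401))
theorem E76194 : n110093 = n17578 := ((D110093).symm.trans (sb E72831 (tr F229400 E73656)))
theorem E76195 : n105772 = n54153 := (((iv1 F162438)).symm.trans (sb E72832 (iv1 D117528)))
theorem E76196 : n105784 = n69332 := ((F162474).symm.trans (sb E72832 F243243))
theorem E76197 : n146365 = n124943 := ((D146365).symm.trans (sb E72832 (iv5 F233206)))
theorem E76198 : n157681 = n105783 := (((F162470).symm.trans (sb E72832 (iv7 F248454)))).symm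
theorem E76199 : n145004 = n69310 := (((iv3 F227963)).symm.trans (sb E72833 F247813))
theorem E76200 : n146637 = n124944 := ((D146637).symm.trans (sb E72833 F233135))
theorem E76201 : n146638 = n68711 := ((D146638).symm.trans (sb E72833 F184127))
theorem E76202 : n105795 = n54162 := ((D105795).symm.trans (sb E72834 F184131))
theorem F314981 : act 3 n48911 = n34405 := (sb E72835 F112628)
theorem E76204 : n105786 = n55237 := ((D105786).symm.trans (sb E72835 F112629))
theorem E76205 : n112796 = n74097 := (((E74872).symm.trans ((F132150).symm.trans (sb E72836 (iv2 F175622))))).symm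
theorem E76206 : n50966 = n39890 := ((((iv5 D86190)).symm.trans (sb E72836 (iv5 D110538)))).symm
theorem E76208 : n117297 = n18625 := (E72838).trans E73902
theorem E76210 : n54061 = n39256 := (((D39256).symm.trans (sb E76208 (iv5 D117297)))).symm
theorem E76211 : n67755 = n26857 := (((D26857).symm.trans (sb E72839 F226279))).symm
theorem F314982 : act 6 n31283 = n26856 := (sb E72840 (iv6 D55620))
theorem E76214 : n120669 = n53794 := ((((iv7 F84819)).symm.trans (sb E72840 D120669))).symm
theorem E76218 : n16098 = n14826 := (((iv5 F25603)).symm.trans (sb E72854 (iv5 D31459)))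
theorem E76220 : n149679 = n66755 := ((((iv3 F102623)).symm.trans (sb E72855 D149679))).symm
theorem E76222 : n149682 = n66767 := (((D66767).symm.trans (sb E72855 D149682))).symm
theorem E76223 : n66777 = n32652 := (((iv3 F102639)).symm.trans (sb E72856 F131016))
theorem E76225 : n72233 = n14823 := (((D14823).symm.trans (sb E72857 D72233))).symm
theorem E76226 : n72234 = n14824 := (((D14824).symm.trans (sb E72857 D72234))).symm
theorem F314983 : act 1 n121461 = n68351 := (sb E72859 (iv0 D145788))
theorem F314984 : act 4 n121461 = n68810 := (sb E72859 (iv4 F228926))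
theorem E76228 : n166454 = n121461 := ((F262008).symm.trans (iv6 (sb E72859 (tr (iv6 F244790) E74983))))
theorem F314985 : act 0 n62224 = n68351 := (sb E72860 (iv1 D145789))
theorem F314986 : act 4 n62224 = n68811 := (sb E72860 F228914)
theorem F314987 : act 4 n129763 = n68533 := (sb E72861 F228921)
theorem F314989 : act 7 n129763 = n68351 := (sb E72861 (iv7 D145791))
theorem F314990 : act 1 n83735 = n156512 := (sb E72862 F246085)
theorem F314991 : act 2 n83735 = n64997 := (sb E72862 (iv2 D138372))
theorem F314992 : act 0 n138370 = n128336 := (sb E72863 (iv1 F278469))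
theorem F314993 : act 2 n138370 = n125172 := (sb E72863 F278466)
theorem F314994 : act 1 n85093 = n156514 := (sb E72864 (iv0 F247020))
theorem F314995 : act 0 n85096 = n156514 := (sb E72865 F246105)
theorem E76229 : n178804 = n156957 := ((D178804).symm.trans (sb E72866 F247054))
theorem E76230 : n178805 = n74630 := ((D178805).symm.trans (sb E72866 (iv3 D156948)))
theorem E76231 : n175349 = n111224 := (((iv4 F274395)).symm.trans (sb E72866 F247015))
theorem F314996 : act 5 n85202 = n156514 := (sb E72866 (iv5 F247016))
theorem E76232 : n178807 = n156956 := ((D178807).symm.trans (sb E72866 F247042))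
theorem F314997 : act 5 n83713 = n74313 := (sb E72867 (iv5 D156219))
theorem F314998 : act 5 n54394 = n74318 := (sb E72868 (iv5 D156228))
theorem F314999 : act 3 n83657 = n64999 := (sb E72869 F221603)
theorem F315000 : act 5 n83657 = n64997 := (sb E72869 (iv5 D138374))
theorem F315001 : act 6 n118679 = n64994 := (sb E72871 (iv6 D138365))
theorem F315002 : act 1 n138369 = n68061 := (sb E72872 (iv0 D145187))
theorem E76233 : n173943 = n159284 := (E72874).trans E75407
theorem F315003 : act 7 n159284 = n83182 := (sb E76233 F272597)
theorem F315004 : act 2 n173927 = n83178 := (sb E72875 F272598)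
theorem F315005 : act 7 n173927 = n83183 := (sb E72875 F272599)
theorem F315007 : act 7 n173928 = n83184 := (sb E72876 F272601)
theorem F315009 : act 2 n157527 = n83182 := (sb E72878 F255749)
theorem F315010 : act 4 n157527 = n123237 := (sb E72878 F255750)
theorem E76237 : n148276 = n118539 := (((F187416).symm.trans (sb E72880 (iv2 F232095)))).symm
theorem E76238 : n148335 = n131185 := (((D131185).symm.trans (sb E72880 (iv4 F232129)))).symm
theorem F315011 : act 5 n61546 = n32277 := (sb E72880 F105809)
theorem E76239 : n160536 = n83184 := ((F253618).symm.trans (sb E72881 F310284))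
theorem F315012 : act 5 n76976 = n83170 := (sb E72881 (iv5 D173931))
theorem E76240 : n83179 = n35165 := ((((iv7 D76976)).symm.trans (sb E72881 F310285))).symm
theorem E76243 : n160549 = n83169 := ((((iv2 F312554)).symm.trans (sb E72882 (iv2 F253627)))).symm
theorem F315013 : act 3 n38291 = n35166 := (sb E72882 F115700)
theorem E76244 : n160552 = n83178 := (((D83178).symm.trans (sb E72882 D160552))).symm
theorem E76245 : n83180 = n39861 := ((D83180).symm.trans (sb E72882 F115701))
theorem E76246 : n121444 = n18859 := (((F45020).symm.trans (sb E72883 (iv0 F305826)))).symm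
theorem F315014 : act 4 n18862 = n29136 := (sb E72885 (iv4 D61547))
theorem F315015 : act 0 n63674 = n53823 := (sb E72895 (iv1 D116818))
theorem F315016 : act 1 n63674 = n65370 := (sb E72895 F182400)
theorem F315017 : act 4 n63674 = n66317 := (sb E72895 F182402)
theorem F315018 : act 0 n63669 = n65370 := (sb E72896 (iv1 F182397))
theorem F315019 : act 1 n63669 = n53823 := (sb E72896 (iv0 D116817))
theorem F315020 : act 4 n63669 = n66316 := (sb E72896 F182396)
theorem F315021 : act 0 n73723 = n53782 := (sb E72904 (iv1 D116718))
theorem F315022 : act 2 n73721 = n53782 := (sb E72905 F181880)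
theorem E76254 : n155226 = n66999 := ((D155226).symm.trans (sb E72905 F181881))
theorem E76255 : n155228 = n53706 := ((D155228).symm.trans (sb E72905 (iv5 D116541)))
theorem E76256 : n155229 = n69502 := ((D155229).symm.trans (sb E72905 F181882))
theorem E76257 : n69514 = n54588 := ((D69514).symm.trans (sb E72906 F187417))
theorem E76258 : n129900 = n69515 := (((D69515).symm.trans (sb E72906 F208269))).symm
theorem E76259 : n133632 = n69502 := ((((iv2 F105801)).symm.trans (sb E72906 D133632))).symm
theorem E76260 : n133633 = n69516 := (((D69516).symm.trans (sb E72906 D133633))).symm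
theorem F315023 : act 7 n32276 = n61546 := (sb E72906 (iv7 F186149))
theorem F315024 : act 0 n29138 = n15223 := (sb E72907 (iv1 D32285))
theorem E76261 : n69544 = n61535 := ((((iv3 F96060)).symm.trans (sb E72907 D69544))).symm
theorem E76262 : n61110 = n58654 := (((iv4 F95620)).symm.trans (sb E72907 (iv4 F92644)))
theorem F315025 : act 5 n29138 = n49036 := (sb E72907 F77403)
theorem F315026 : act 0 n39382 = n74620 := (sb E72908 (iv1 F246639))
theorem E76264 : n156956 = n85188 := (((D85188).symm.trans (sb E72908 F247041))).symm
theorem F315027 : act 4 n39382 = n65110 := (sb E72908 (iv4 D138659))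
theorem F315028 : act 4 n138660 = n85191 := (sb E72909 F278643)
theorem E76265 : n179154 = n65088 := (((D65088).symm.trans (sb E72910 D179154))).symm
theorem E76266 : n167919 = n65120 := (((D65120).symm.trans (sb E72911 (iv1 F264605)))).symm
theorem E76267 : n65123 = n54500 := ((D65123).symm.trans (sb E72911 (iv7 D118335)))
theorem E76268 : n146246 = n14665 := (((D14665).symm.trans (sb E73180 (iv5 F229543)))).symm
theorem E76269 : n65113 = n14663 := ((((iv1 F41022)).symm.trans (sb E72913 (iv1 D138664)))).symm
theorem E76270 : n156724 = n14662 := (((F41020).symm.trans (sb E72913 F246528))).symm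
theorem E76273 : n150652 = n25955 := (E72915).trans E73176
theorem E76274 : n160198 = n53484 := ((((iv5 F181672)).symm.trans (sb E76273 (iv5 F252873)))).symm
theorem F315030 : act 3 n45891 = n60267 := (sb E72916 F206327)
theorem E76275 : n78198 = n60263 := (((iv5 F300782)).symm.trans (sb E72916 (iv5 D128186)))
theorem F315031 : act 2 n77369 = n154166 := (sb E72917 (iv2 F242282))
theorem F315032 : act 4 n77369 = n60267 := (sb E72917 (iv4 D128194))
theorem E76276 : n161161 = n154136 := ((D161161).symm.trans (sb E72917 (iv5 F242210)))
theorem F315033 : act 2 n75764 = n154167 := (sb E72918 (iv2 F242283))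
theorem E76277 : n158805 = n60264 := ((D158805).symm.trans (sb E72918 (iv5 D128190)))
theorem F315034 : act 6 n75764 = n60267 := (sb E72918 F206330)
theorem F315035 : act 5 n72982 = n80227 := (sb E72919 F304796)
theorem F315036 : act 3 n75786 = n60268 := (sb E72920 F206328)
theorem E76279 : n158836 = n124683 := ((D158836).symm.trans (sb E72920 F206329))
theorem E76280 : n158837 = n101467 := ((D158837).symm.trans (sb E72920 (iv6 F306243)))
theorem F315037 : act 5 n39940 = n75686 := (sb E72923 (iv5 D158673))
theorem F315038 : act 2 n120487 = n130484 := (sb E72924 (tr F300812 E75599))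
theorem E76281 : n86319 = n83054 := (((F298357).symm.trans (sb E72924 F300813))).symm
theorem F315039 : act 2 n133141 = n162702 := (sb E72925 (iv2 F303620))
theorem F315040 : act 5 n133141 = n166197 := (sb E72925 (iv5 F302335))
theorem F315041 : act 1 n119663 = n82728 := (sb E72926 (iv0 D172781))
theorem F315042 : act 0 n172410 = n82728 := (sb E72927 (iv1 D172782))
theorem E76282 : n77664 = n77641 := ((F243890).symm.trans (sb E72928 (iv3 D161654)))
theorem E76283 : n173414 = n153243 := ((D173414).symm.trans (sb E72929 F271124))
theorem F315043 : act 3 n172783 = n82757 := (sb E72930 F271125)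
theorem F315044 : act 4 n98520 = n173417 := (sb E72931 (iv4 F271887))
theorem F315045 : act 7 n98520 = n82728 := (sb E72931 (iv7 D172784))
theorem F315046 : act 4 n46052 = n82391 := (sb E72932 (iv4 D172025))
theorem F315047 : act 6 n46051 = n82391 := (sb E72933 (iv6 D172027))
theorem F315048 : act 6 n83805 = n57749 := (sb E72934 (iv6 D123960))
theorem F315049 : act 3 n71417 = n45806 := (sb E72937 (iv3 D98094))
theorem E76284 : n151953 = n10750 := ((((iv1 D22723)).symm.trans (sb E72938 D151953))).symm
theorem F315050 : act 3 n22723 = n33126 := (sb E72938 (iv3 D71642))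
theorem E76287 : n151956 = n47249 := (((D47249).symm.trans (sb E72938 D151956))).symm
theorem E76288 : n151957 = n47250 := (((D47250).symm.trans (sb E72938 D151957))).symm
theorem F315051 : act 1 n120130 = n83005 := (sb E72942 (iv0 D173488))
theorem E76289 : n83495 = n83043 := ((F314267).symm.trans (sb E72942 F279260))
theorem F315052 : act 0 n38642 = n61100 := (sb E72943 (iv1 F97171))
theorem F315053 : act 1 n38642 = n61099 := (sb E72943 F97172)
theorem F315054 : act 2 n38642 = n29483 := (sb E72943 F97168)
theorem E76290 : n83910 = n29481 := ((D83910).symm.trans (sb E72943 (iv5 D62316)))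
theorem E76291 : n132781 = n83907 := (((iv2 F213256)).symm.trans (sb E72944 F275182))
theorem F315055 : act 6 n62328 = n83898 := (sb E72944 (iv6 D175763))
theorem F315056 : act 0 n61449 = n57751 := (sb E72945 (iv1 D123965))
theorem F315057 : act 4 n61449 = n124072 := (sb E72945 (iv4 F198475))
theorem F315058 : act 1 n61454 = n57751 := (sb E72946 (iv0 D123964))
theorem E76292 : n124778 = n124678 := ((((iv4 F312101)).symm.trans (sb E72946 F200448))).symm
theorem E76294 : n135347 = n128182 := ((((iv4 F206324)).symm.trans (sb E72950 (iv4 F217596)))).symm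
theorem F315059 : act 0 n123046 = n57298 := (sb E72951 (iv1 D123134))
theorem F315060 : act 1 n123046 = n57750 := (sb E72951 F197324)
theorem F315061 : act 3 n123962 = n61531 := (sb E72952 F208681)
theorem F315062 : act 7 n123962 = n132793 := (sb E72952 (iv7 F213282))
theorem F315063 : act 3 n123963 = n61532 := (sb E72953 F208682)
theorem F315064 : act 4 n123963 = n61102 := (sb E72953 F208683)
theorem F315065 : act 3 n39127 = n83849 := (sb E72957 F274939)
theorem F315066 : act 3 n175626 = n84713 := (sb E72961 F277506)
theorem E76297 : n180818 = n177045 := ((((iv2 F276461)).symm.trans (sb E72962 (iv2 F281489)))).symm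
theorem E76299 : n177049 = n40046 := ((D177049).symm.trans (sb E72962 (iv6 D86457)))
theorem F315067 : act 7 n100041 = n75319 := (sb E72963 (iv7 D158143))
theorem F315068 : act 3 n73634 = n47321 := (sb E72964 F156777)
theorem E76301 : n47319 = n33836 := ((((iv6 D73634)).symm.trans (sb E72964 (iv6 D101821)))).symm
theorem F315069 : act 5 n26802 = n44778 := (sb E72967 (iv5 D95934))
theorem F315070 : act 6 n69248 = n44778 := (sb E72968 (iv6 D95935))
theorem F315071 : act 4 n148692 = n76140 := (sb E72969 F250677)
theorem F315072 : act 4 n34777 = n69684 := (sb E72970 (iv4 D148693))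
theorem F315073 : act 0 n148695 = n127742 := (sb E72972 (iv1 F250681))
theorem F315074 : act 1 n148695 = n117119 := (sb E72972 (iv0 F250682))
theorem F315075 : act 2 n148695 = n105849 := (sb E72972 F250678)
theorem F315076 : act 4 n148695 = n76137 := (sb E72972 F250679)
theorem F315077 : act 7 n148695 = n127739 := (sb E72972 (iv7 F250680))
theorem E76305 : n131413 = n82562 := ((D131413).symm.trans (sb E72973 F272695))
theorem E76306 : n131400 = n46296 := (((iv4 F210618)).symm.trans (sb E72973 F152487))
theorem F315078 : act 6 n61678 = n46294 := (sb E72973 (iv6 D98946))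
theorem E76307 : n149112 = n87544 := ((D149112).symm.trans (sb E72974 (iv0 D183391)))
theorem F315079 : act 3 n119130 = n82557 := (sb E72975 F255638)
theorem F315080 : act 7 n119130 = n77630 := (sb E72975 (iv7 D161631))
theorem E76308 : n172011 = n170729 := (((D170729).symm.trans (sb E72976 (iv1 F270064)))).symm
theorem F315081 : act 1 n81849 = n38197 := (sb E72976 (iv0 D82988))
theorem E76309 : n173427 = n101258 := ((((iv2 F156016)).symm.trans (sb E72976 D173427))).symm
theorem E76314 : n173432 = n38465 := ((((iv7 F298755)).symm.trans (sb E72976 D173432))).symm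
theorem E76315 : n173433 = n38562 := ((D173433).symm.trans (sb E72977 F188452))
theorem E76316 : n173434 = n101262 := ((D173434).symm.trans (sb E72977 (iv4 F304188)))
theorem E76317 : n174633 = n173435 := (((D173435).symm.trans (sb E72977 D174633))).symm
theorem E76318 : n174634 = n173436 := (((D173436).symm.trans (sb E72977 D174634))).symm
theorem E76319 : n172008 = n101258 := ((D172008).symm.trans (sb E72978 (iv1 F298752)))
theorem E76320 : n172009 = n38465 := ((D172009).symm.trans (sb E72978 (iv0 D83447)))
theorem E76321 : n174624 = n172006 := ((((iv3 F270054)).symm.trans (sb E72978 D174624))).symm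
theorem E76325 : n174629 = n173417 := ((((iv3 F271886)).symm.trans (sb E72979 D174629))).symm
theorem F315082 : act 4 n82991 = n46065 := (sb E72979 (iv4 F304213))
theorem F315083 : act 4 n32762 = n60782 := (sb E72980 (iv4 D129331))
theorem E76328 : n167217 = n60924 := (((D60924).symm.trans (sb E72981 (iv6 F263390)))).symm
theorem F315084 : act 6 n32761 = n60782 := (sb E72982 (iv6 D129332))
theorem F315085 : act 4 n127843 = n60783 := (sb E72983 (iv4 D129334))
theorem E76331 : n132474 = n119233 := ((D132474).symm.trans (sb E72986 F187668))
theorem E76332 : n158931 = n132475 := (((D132475).symm.trans (sb E72986 D158931))).symm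
theorem F315086 : act 4 n62152 = n34678 := (sb E72986 F113737)
theorem E76333 : n158932 = n132476 := (((D132476).symm.trans (sb E72986 D158932))).symm
theorem E76334 : n132477 = n117661 := ((D132477).symm.trans (sb E72986 (iv7 F184261)))
theorem F315087 : act 1 n130104 = n87785 := (sb E72988 (iv0 D184032))
theorem F315088 : act 0 n130118 = n87785 := (sb E72989 (iv1 D184033))
theorem F315089 : act 0 n75641 = n133100 := (sb E72990 (iv1 F213743))
theorem F315090 : act 2 n75641 = n61203 := (sb E72990 F208945)
theorem F315091 : act 5 n29088 = n34591 := (sb E72991 (iv5 D75642))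
theorem F315092 : act 2 n75643 = n61204 := (sb E72992 F208946)
theorem F315093 : act 1 n99478 = n61203 := (sb E72993 (iv0 D130435))
theorem F315094 : act 2 n99478 = n133100 := (sb E72993 (iv2 F213747))
theorem F315095 : act 4 n99478 = n135340 := (sb E72993 (iv4 F217574))
theorem F315096 : act 0 n70638 = n61203 := (sb E72994 (iv1 D130436))
theorem F315097 : act 4 n70638 = n129330 := (sb E72994 (iv4 F208947))
theorem F315098 : act 7 n70638 = n133100 := (sb E72994 (iv7 F213745))
theorem E76347 : n71020 = n12311 := (((F26113).symm.trans (sb E72995 F107597))).symm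
theorem E76351 : n36781 = n12317 := (((D12317).symm.trans (sb E72997 (iv7 F57679)))).symm
theorem F315099 : act 4 n16524 = n26345 := (sb E72998 F52556)
theorem E76355 : n144679 = n32870 := (((D32870).symm.trans (sb E72999 (iv4 F227500)))).symm
theorem E76358 : n32910 = n31484 := ((((iv3 F49785)).symm.trans (sb E73000 D32910))).symm
theorem F315100 : act 4 n14834 = n7428 := (sb E73000 (iv4 D15846))
theorem E76359 : n7441 = n7065 := ((((iv6 D14834)).symm.trans (sb E73000 F25324))).symm
theorem E76364 : n156437 = n118248 := ((((iv4 F185778)).symm.trans (sb E73003 D156437))).symm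
theorem E76366 : n143918 = n118249 := (((D118249).symm.trans (sb E73003 (iv6 F226559)))).symm
theorem F315101 : act 4 n24363 = n26348 := (sb E73004 F52099)
theorem E76369 : n31501 = n26368 := (((F86043).symm.trans (sb E73006 F103282))).symm
theorem E76370 : n66675 = n27881 := ((((iv3 F45011)).symm.trans (sb E73007 (iv3 F102583)))).symm
theorem E76371 : n27884 = n14701 := ((D27884).symm.trans (sb E73007 (iv5 D31098)))
theorem E76373 : n66683 = n39766 := ((((iv3 F60603)).symm.trans (sb E73008 (iv3 F102586)))).symm
theorem E76374 : n36743 = n14702 := (((iv5 F57626)).symm.trans (sb E73008 (iv5 D31103)))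
theorem F315102 : act 0 n58547 = n65074 := (sb E73014 (iv1 F221750))
theorem E76379 : n107726 = n18712 := (((D18712).symm.trans (sb E73016 D107726))).symm
theorem F315103 : act 3 n11421 = n18710 := (sb E73017 (iv3 D39484))
theorem E76385 : n76140 = n24266 := (((D24266).symm.trans (sb E73017 (iv5 F114098)))).symm
theorem E76390 : n107734 = n76141 := (((D76141).symm.trans (sb E73018 D107734))).symm
theorem E76391 : n85480 = n28284 := (((D28284).symm.trans (sb E73019 (iv1 F234933)))).symm
theorem E76392 : n85484 = n28285 := (((D28285).symm.trans (sb E73019 (iv0 F234921)))).symm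
theorem E76393 : n85529 = n28287 := (((D28287).symm.trans (sb E73019 D85529))).symm
theorem F315104 : act 6 n13503 = n18710 := (sb E73019 (iv6 D39485))
theorem E76394 : n125031 = n28329 := (((D28329).symm.trans (sb E73020 (iv4 F234869)))).symm
theorem E76395 : n66451 = n28330 := (((D28330).symm.trans (sb E73020 (tr (iv5 F229508) E73687)))).symm
theorem E76396 : n60437 = n28331 := (((D28331).symm.trans (sb E73020 F206616))).symm
theorem E76397 : n125032 = n28334 := (((D28334).symm.trans (sb E73021 (iv4 F234882)))).symm
theorem E76398 : n117975 = n28335 := (((D28335).symm.trans (sb E73021 (iv5 F206622)))).symm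
theorem E76399 : n70852 = n28336 := (((D28336).symm.trans (sb E73021 (iv6 F206623)))).symm
theorem E76400 : n28341 = n14633 := ((D28341).symm.trans (sb E73022 (iv0 D30910)))
theorem E76402 : n31668 = n23856 := ((((iv7 F37190)).symm.trans (sb E73022 (iv7 F182731)))).symm
theorem F315105 : act 1 n17540 = n28343 := (sb E73023 (iv0 D59754))
theorem E76404 : n127284 = n36323 := ((((iv3 F57047)).symm.trans (sb E73023 D127284))).symm
theorem F315106 : act 0 n17559 = n28343 := (sb E73024 (iv1 D59755))
theorem F315107 : act 0 n30578 = n15861 := (sb E73026 (iv1 D32935))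
theorem E76413 : n71135 = n65128 := (((D65128).symm.trans (sb E73026 D71135))).symm
theorem E76415 : n65129 = n58558 := ((D65129).symm.trans (sb E73026 (iv5 F92507)))
theorem F315108 : act 1 n30579 = n15861 := (sb E73027 (iv0 D32934))
theorem E76416 : n65130 = n59995 := ((D65130).symm.trans (sb E73027 (iv3 F199967)))
theorem E76418 : n71133 = n65131 := (((D65131).symm.trans (sb E73027 D71133))).symm
theorem F315109 : act 0 n26360 = n34161 := (sb E73028 (iv1 F53651))
theorem F315110 : act 1 n26360 = n34160 := (sb E73028 F53658)
theorem F315111 : act 7 n26360 = n14505 := (sb E73028 (iv7 D30581))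
theorem E76419 : n65197 = n14887 := ((((iv3 F24528)).symm.trans (sb E73029 D65197))).symm
theorem E76420 : n24274 = n14896 := (((D14896).symm.trans (sb E73029 F53687))).symm
theorem F315112 : act 6 n7088 = n14670 := (sb E73029 F53688)
theorem E76421 : n54540 = n24272 := (((D24272).symm.trans (sb E73032 (iv7 D118439)))).symm
theorem E76422 : n54531 = n24207 := ((((iv6 F37931)).symm.trans (sb E73033 (iv6 D118421)))).symm
theorem F315113 : act 4 n11425 = n12578 := (sb E73034 (iv4 D26371))
theorem E76424 : n179174 = n24261 := (((D24261).symm.trans (sb E73036 (iv4 F279139)))).symm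
theorem E76426 : n71180 = n14668 := (((D14668).symm.trans (sb E73044 (iv0 F107672)))).symm
theorem E76427 : n31904 = n14669 := (((D14669).symm.trans (sb E73044 (iv6 D68586)))).symm
theorem E76428 : n141604 = n59708 := (E73047).trans E75058
theorem E76429 : n66407 = n53556 := (((iv1 F220553)).symm.trans (sb E76428 (tr (iv1 D141604) E74123)))
theorem E76430 : n66455 = n30761 := ((((iv0 F220554)).symm.trans (sb E76428 (tr F224681 E74122)))).symm
theorem F315114 : act 0 n108277 = n55507 := (sb E73048 (iv1 D120539))
theorem F315115 : act 3 n108277 = n72439 := (sb E73048 F235622)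
theorem F315116 : act 5 n108277 = n125122 := (sb E73048 F305532)
theorem F315117 : act 6 n108277 = n154077 := (sb E73048 F305533)
theorem F315118 : act 7 n108277 = n57108 := (sb E73048 F235623)
theorem F315119 : act 3 n108129 = n85534 := (sb E73049 F206625)
theorem F315120 : act 3 n108231 = n60428 := (sb E73050 F206627)
theorem F315121 : act 5 n108231 = n70444 := (sb E73050 F311366)
theorem F315122 : act 0 n150235 = n107982 := (sb E73051 F239218)
theorem F315123 : act 3 n150235 = n71757 := (sb E73051 (iv3 D152157))
theorem F315124 : act 4 n150235 = n130374 := (sb E73051 F239216)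
theorem F315125 : act 7 n150235 = n135393 := (sb E73051 F239217)
theorem F315126 : act 3 n89321 = n107982 := (sb E73052 F239016)
theorem E76431 : n135174 = n101560 := ((((iv5 F156363)).symm.trans (sb E73052 F239015))).symm
theorem F315127 : act 1 n85958 = n157191 := (sb E73053 (iv0 F247384))
theorem F315128 : act 2 n85958 = n108079 := (sb E73053 F212697)
theorem E76432 : n179898 = n108078 := ((D179898).symm.trans (sb E73053 (iv5 F212698)))
theorem E76433 : n144473 = n118180 := ((((iv7 F185700)).symm.trans (sb E73054 (iv7 F227300)))).symm
theorem F315129 : act 2 n58544 = n62135 := (sb E73055 (iv2 D132436))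
theorem E76434 : n145672 = n68003 := (((F155431).symm.trans (sb E73056 (iv1 F228725)))).symm
theorem E76435 : n145671 = n67998 := ((((iv0 F155291)).symm.trans (sb E73056 F228724))).symm
theorem F315130 : act 2 n58545 = n62171 := (sb E73056 (iv2 D132515))
theorem E76436 : n145666 = n125179 := (((D125179).symm.trans (sb E73056 (iv7 F228717)))).symm
theorem F315131 : act 0 n85963 = n157191 := (sb E73057 F247385)
theorem E76437 : n179901 = n108022 := ((D179901).symm.trans (sb E73057 F212665))
theorem E76438 : n179902 = n108021 := ((D179902).symm.trans (sb E73057 (iv5 F212666)))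
theorem E76439 : n179903 = n144468 := ((D179903).symm.trans (sb E73057 (iv6 F227299)))
theorem F315132 : act 7 n85963 = n108079 := (sb E73057 (iv7 F212667))
theorem E76440 : n179904 = n144466 := ((((iv1 F227297)).symm.trans (sb E73058 D179904))).symm
theorem F315133 : act 2 n67700 = n125171 := (sb E73058 (iv2 F201210))
theorem E76441 : n144469 = n68100 := ((D144469).symm.trans (sb E73058 F155192))
theorem F315134 : act 6 n67700 = n39760 := (sb E73058 (iv6 D85965))
theorem E76442 : n144464 = n118241 := (((iv7 F227289)).symm.trans (sb E73058 (iv7 F185772)))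
theorem E76443 : n144472 = n68101 := ((D144472).symm.trans (sb E73059 (iv5 D145273)))
theorem F315135 : act 7 n67701 = n125171 := (sb E73059 F228262)
theorem F315136 : act 0 n108233 = n124855 := (sb E73060 F201192)
theorem E76444 : n138710 = n108235 := ((D138710).symm.trans (iv0 (sb E73061 (tr (iv1 F185801) E76413))))
theorem F315137 : act 1 n108235 = n159442 := (sb E73061 F251068)
theorem E76445 : n139852 = n67972 := ((F223054).symm.trans (sb E73061 F185798))
theorem F315138 : act 7 n108235 = n54466 := (sb E73061 (iv7 D118257))
theorem F315139 : act 1 n108110 = n124855 := (sb E73062 (iv0 F200533))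
theorem F315140 : act 6 n108110 = n54437 := (sb E73062 F185534)
theorem F315141 : act 6 n26328 = n49993 := (sb E73063 (iv6 D108251))
theorem F315142 : act 4 n108135 = n71312 := (sb E73065 F228089)
theorem F315143 : act 6 n108135 = n68023 := (sb E73065 (iv6 D145113))
theorem F315144 : act 7 n108032 = n85534 := (sb E73066 F200924)
theorem F315145 : act 0 n108140 = n179906 := (sb E73067 F282959)
theorem F315146 : act 1 n108140 = n179908 := (sb E73067 F282958)
theorem E76447 : n68006 = n66307 := (((D66307).symm.trans (sb E73069 (iv6 D145091)))).symm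
theorem E76448 : n149066 = n66301 := (((D66301).symm.trans (sb E73070 (iv5 F234433)))).symm
theorem E76449 : n66302 = n54453 := ((D66302).symm.trans (sb E73070 (iv6 D118224)))
theorem E76450 : n69925 = n28473 := ((((iv1 F76982)).symm.trans (sb E73071 F155463))).symm
theorem E76451 : n70057 = n28472 := (((F76983).symm.trans (sb E73071 F155565))).symm
theorem E76452 : n105717 = n95865 := ((D105717).symm.trans (sb E73071 (iv4 F290460)))
theorem F315147 : act 6 n48871 = n70010 := (sb E73071 (iv6 F155469))
theorem E76453 : n66110 = n28474 := (((F76981).symm.trans (sb E73071 (tr (iv7 F234407) E75292)))).symm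
theorem E76454 : n70055 = n28474 := (E75292).trans E76453
theorem F315148 : act 7 n108239 = n152539 := (sb E73073 F280149)
theorem F315149 : act 7 n108241 = n124855 := (sb E73074 (iv7 F234459))
theorem F315150 : act 0 n108247 = n54466 := (sb E73080 (iv1 D118256))
theorem E76455 : n138711 = n108247 := ((D138711).symm.trans (iv2 (sb E73080 (tr F227861 E76413))))
theorem F315151 : act 3 n108247 = n59996 := (sb E73080 F227862)
theorem F315152 : act 5 n108247 = n114791 := (sb E73080 (tr (iv5 F227860) E73838))
theorem F315153 : act 6 n108247 = n167828 := (sb E73080 (iv6 F264318))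
theorem F315154 : act 7 n108247 = n159442 := (sb E73080 (iv7 F251067))
theorem E76456 : n118255 = n74493 := (E73081).trans E73117
theorem E76457 : n156660 = n54466 := ((D156660).symm.trans (sb E76456 (iv0 D118255)))
theorem E76458 : n159442 = n156661 := (((D156661).symm.trans (sb E76456 (iv2 F251065)))).symm
theorem E76459 : n179927 = n145709 := ((((iv6 F228807)).symm.trans (sb E76456 (iv6 F280209)))).symm
theorem E76460 : n139820 = n59991 := ((F223017).symm.trans (sb E73082 F278603))
theorem E76461 : n139854 = n67970 := ((F223058).symm.trans (sb E73082 F183182))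
theorem F315155 : act 6 n108249 = n59978 := (sb E73082 F183179)
theorem F315156 : act 7 n108249 = n53974 := (sb E73082 (iv7 D117116))
theorem E76462 : n138709 = n108250 := ((F246387).symm.trans (iv0 (sb E73083 (tr (iv1 F251069) E76458))))
theorem F315157 : act 2 n108250 = n54466 := (sb E73083 F183174)
theorem F315158 : act 3 n108250 = n152539 := (sb E73083 (iv3 F239722))
theorem F315159 : act 5 n108250 = n53974 := (sb E73083 (iv5 D117115))
theorem F315160 : act 6 n108250 = n54008 := (sb E73083 F183175)
theorem F315161 : act 1 n85458 = n65214 := (sb E73086 (iv0 F167403))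
theorem F315162 : act 4 n85458 = n49994 := (sb E73086 (iv4 D108255))
theorem F315163 : act 5 n32472 = n49994 := (sb E73087 (iv5 D108256))
theorem F315164 : act 6 n32743 = n49994 := (sb E73088 (iv6 D108257))
theorem F315165 : act 4 n108258 = n179093 := (sb E73089 (iv4 F279032))
theorem F315166 : act 6 n108258 = n70593 := (sb E73089 F234463)
theorem F315167 : act 6 n32746 = n49995 := (sb E73091 (iv6 D108259))
theorem F315168 : act 1 n108137 = n85969 := (sb E73098 (iv0 D179915))
theorem F315169 : act 6 n70590 = n49945 := (sb E73099 (iv6 D108138))
theorem E76464 : n149227 = n66399 := (((F162320).symm.trans (sb E73100 D149227))).symm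
theorem E76465 : n149221 = n105706 := ((((iv3 F162327)).symm.trans (sb E73100 (iv3 F234611)))).symm
theorem E76466 : n149224 = n105711 := (((D105711).symm.trans (sb E73100 (iv4 F234612)))).symm
theorem E76467 : n105712 = n32501 := ((D105712).symm.trans (sb E73100 (iv6 D70042)))
theorem E76468 : n105713 = n39765 := ((D105713).symm.trans (sb E73101 (iv1 D85986)))
theorem E76469 : n167828 = n105714 := (((D105714).symm.trans (sb E73101 F264321))).symm
theorem E76470 : n179938 = n105707 := ((((iv3 F162328)).symm.trans (sb E73101 D179938))).symm
theorem E76471 : n179939 = n105710 := ((((iv4 F162329)).symm.trans (sb E73101 D179939))).symm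
theorem E76472 : n105715 = n54440 := ((D105715).symm.trans (sb E73101 (iv5 F155442)))
theorem E76473 : n105716 = n54458 := ((D105716).symm.trans (sb E73101 F187637))
theorem F315170 : act 1 n32513 = n23828 := (sb E73102 (iv0 D48872))
theorem E76474 : n70050 = n69201 := (((iv3 F106441)).symm.trans (sb E73102 F105489))
theorem E76475 : n105719 = n70054 := ((((iv4 F106448)).symm.trans (sb E73102 D105719))).symm
theorem E76476 : n68015 = n31438 := (((iv5 F104132)).symm.trans (sb E73102 (iv5 F162339)))
theorem E76479 : n105723 = n28472 := ((D105723).symm.trans (sb E73103 (tr F234440 E76451)))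
theorem E76480 : n105724 = n95497 := ((D105724).symm.trans (sb E73104 (iv1 F252970)))
theorem E76482 : n127715 = n70012 := (((iv1 F205318)).symm.trans (sb E73106 F215294))
theorem E76483 : n131393 = n127717 := ((((iv2 F205320)).symm.trans (sb E73106 F215290))).symm
theorem F315171 : act 6 n59965 = n70009 := (sb E73106 F215292)
theorem F315172 : act 0 n108279 = n85851 := (sb E73107 (iv1 F234479))
theorem F315173 : act 1 n108279 = n69966 := (sb E73107 (iv0 D149091))
theorem F315174 : act 2 n108279 = n183010 := (sb E73107 (iv2 F284625))
theorem E76488 : n151308 = n34169 := (((D34169).symm.trans (sb E73109 D151308))).symm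
theorem F315175 : act 4 n16542 = n15861 := (sb E73112 F52116)
theorem E76491 : n156652 = n34838 := ((D156652).symm.trans (sb E73113 (iv1 D76269)))
theorem E76492 : n156653 = n58530 := ((D156653).symm.trans (sb E73113 F114312))
theorem E76493 : n156654 = n59996 := ((D156654).symm.trans (sb E73113 F199971))
theorem E76494 : n156655 = n69673 := ((D156655).symm.trans (sb E73113 (iv4 F114323)))
theorem E76495 : n156656 = n68466 := ((D156656).symm.trans (sb E73113 (iv5 F114313)))
theorem E76496 : n70944 = n53625 := (((F111815).symm.trans (sb E73113 (iv6 F131950)))).symm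
theorem E76498 : n68527 = n65595 := ((F122602).symm.trans (sb E73115 F111819))
theorem E76499 : n77559 = n65589 := ((F311513).symm.trans (sb E73115 F111820))
theorem F315176 : act 5 n39644 = n34160 := (sb E73115 (iv5 D74492))
theorem F315177 : act 5 n25961 = n18772 := (sb E73116 F52068)
theorem E76502 : n156659 = n49992 := ((D156659).symm.trans (sb E73117 (iv1 D108248)))
theorem E76504 : n156664 = n77659 := ((D156664).symm.trans (sb E73119 F311515))
theorem E76505 : n156665 = n86018 := ((D156665).symm.trans (sb E73119 F185963))
theorem E76506 : n53495 = n39771 := ((F104479).symm.trans (sb E73120 F131937))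
theorem F315178 : act 7 n68302 = n39770 := (sb E73120 (iv7 D86000))
theorem E76507 : n67657 = n48937 := (((iv3 F103669)).symm.trans (sb E73121 (iv3 D105856)))
theorem E76508 : n139866 = n108405 := ((D139866).symm.trans (sb E73122 F182665))
theorem E76509 : n139731 = n68343 := (((iv7 F222916)).symm.trans (sb E73123 (iv7 D145769)))
theorem F315179 : act 7 n31804 = n34162 := (sb E73124 F101383)
theorem E76510 : n71092 = n34174 := (((D34174).symm.trans (sb E73125 (iv6 D150790)))).symm
theorem F315180 : act 6 n32920 = n34172 := (sb E73127 (iv6 D74519))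
theorem E76531 : n71100 = n34175 := (((D34175).symm.trans (sb E73136 D71100))).symm
theorem E76536 : n59818 = n34190 := (((D34190).symm.trans (sb E73139 D59818))).symm
theorem F315181 : act 4 n16549 = n13537 := (sb E73139 (iv4 D28377))
theorem E76537 : n32238 = n12305 := ((((iv6 F26196)).symm.trans (sb E73139 (iv6 F51176)))).symm
theorem E76538 : n16104 = n12287 := (((D12287).symm.trans (sb E73140 F25618))).symm
theorem F315182 : act 4 n16550 = n12572 := (sb E73141 (iv4 D26359))
theorem E76542 : n144753 = n68027 := ((((iv4 F104151)).symm.trans (sb E73142 (iv4 F227606)))).symm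
theorem F315183 : act 4 n14839 = n14897 := (sb E73143 F49961)
theorem E76549 : n144760 = n16446 := (((F25977).symm.trans (sb E73145 (iv4 F227620)))).symm
theorem E76551 : n53903 = n31509 := (((D31509).symm.trans (sb E73146 D53903))).symm
theorem F315184 : act 4 n14840 = n12354 := (sb E73146 (iv4 D26062))
theorem E76561 : n71299 = n49983 := (((D49983).symm.trans (sb E73152 (iv7 D151298)))).symm
theorem F315185 : act 4 n24374 = n15889 := (sb E73154 F52170)
theorem E76564 : n71244 = n31402 := ((((iv6 F49661)).symm.trans (sb E73158 (iv6 D151172)))).symm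
theorem E76568 : n32959 = n7052 := ((((iv5 D14798)).symm.trans (sb E73160 F52161))).symm
theorem E76572 : n15871 = n7066 := (((D7066).symm.trans (sb E73163 F25341))).symm
theorem E76573 : n26365 = n7068 := (((D7068).symm.trans (sb E73163 F42065))).symm
theorem F315186 : act 4 n14841 = n12580 := (sb E73164 (iv4 D26375))
theorem E76575 : n39772 = n23822 := (((D23822).symm.trans (sb E73167 (iv1 F60608)))).symm
theorem E76576 : n86807 = n53531 := (((D53531).symm.trans (sb E73168 (iv3 F312262)))).symm
theorem E76577 : n156616 = n53532 := (((D53532).symm.trans (sb E73168 (iv4 F246319)))).symm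
theorem E76578 : n53534 = n34155 := ((D53534).symm.trans (sb E73168 (iv6 D74476)))
theorem E76581 : n73860 = n30761 := (E74122).trans E76430
theorem E76582 : n118018 = n30761 := (E73481).trans E76581
theorem E76585 : n117213 = n31903 := ((((iv1 F110676)).symm.trans (sb E73173 D117213))).symm
theorem E76586 : n117211 = n53540 := ((((iv3 F84452)).symm.trans (sb E73173 (iv3 F183370)))).symm
theorem E76587 : n53548 = n31909 := ((D53548).symm.trans (sb E73173 F85224))
theorem E76590 : n156720 = n53600 := (((D53600).symm.trans (sb E73175 (iv4 F246522)))).symm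
theorem E76591 : n53602 = n34178 := ((D53602).symm.trans (sb E73175 (iv6 D74532)))
theorem E76592 : n156731 = n53607 := (((D53607).symm.trans (sb E73176 (iv6 F246538)))).symm
theorem E76593 : n125021 = n53581 := (((D53581).symm.trans (sb E73177 F237191))).symm
theorem E76594 : n71012 = n53585 := (((D53585).symm.trans (sb E73177 (iv6 D150650)))).symm
theorem E76597 : n149379 = n53612 := (((D53612).symm.trans (sb E73178 (iv4 F234899)))).symm
theorem E76598 : n53613 = n32540 := ((D53613).symm.trans (sb E73178 (iv6 D70145)))
theorem E76599 : n71010 = n53614 := (((D53614).symm.trans (sb E73179 D71010))).symm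
theorem E76600 : n71011 = n53615 := (((D53615).symm.trans (sb E73179 D71011))).symm
theorem E76601 : n53616 = n15835 := ((D53616).symm.trans (sb E73179 (iv5 D32885)))
theorem E76602 : n53617 = n36779 := ((D53617).symm.trans (sb E73179 (iv7 F57675)))
theorem F315187 : act 2 n15410 = n14700 := (sb E73183 F41026)
theorem F315188 : act 4 n15410 = n12404 := (sb E73183 F41027)
theorem F315189 : act 6 n15410 = n12313 := (sb E73183 (iv6 D25959))
theorem F315190 : act 0 n18807 = n14704 := (sb E73184 (iv1 F41033))
theorem F315191 : act 1 n18807 = n12314 := (sb E73184 (iv0 D25960))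
theorem E76605 : n53622 = n39765 := ((((iv3 F60602)).symm.trans (sb E73184 D53622))).symm
theorem F315192 : act 5 n7426 = n12314 := (sb E73185 (iv5 D25962))
theorem F315193 : act 2 n17729 = n14704 := (sb E73186 F41030)
theorem F315194 : act 6 n17729 = n14673 := (sb E73186 F41032)
theorem F315195 : act 7 n17729 = n12314 := (sb E73186 (iv7 D25963))
theorem E76609 : n157461 = n67440 := (((D67440).symm.trans (sb E73189 (iv2 F248084)))).symm
theorem E76610 : n157615 = n67430 := ((((iv4 F103290)).symm.trans (sb E73189 (iv4 F248367)))).symm
theorem E76611 : n67441 = n61828 := ((D67441).symm.trans (sb E73189 (iv5 D131777)))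
theorem E76612 : n179968 = n67442 := (((D67442).symm.trans (sb E73189 (iv6 F280280)))).symm
theorem F315196 : act 5 n29300 = n14773 := (sb E73190 (iv5 D31342))
theorem F315197 : act 1 n31343 = n39770 := (sb E73191 (iv0 D85997))
theorem E76614 : n148935 = n67403 := (((D67403).symm.trans (sb E73192 (iv2 F309455)))).symm
theorem E76615 : n179165 = n67393 := ((((iv4 F103255)).symm.trans (sb E73192 F279119))).symm
theorem F315198 : act 1 n105436 = n68712 := (sb E73193 (iv0 D146617))
theorem E76616 : n142672 = n105436 := (((iv3 F225560)).symm.trans (iv3 (sb E73193 (tr F233413 E74125))))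
theorem F315199 : act 5 n105436 = n69665 := (sb E73193 F233414)
theorem F315200 : act 7 n105436 = n144832 := (sb E73193 F233415)
theorem E76617 : n66452 = n28335 := (((iv4 F102350)).symm.trans (sb E73195 (tr F252849 E76398)))
theorem E76618 : n150597 = n31018 := (E73196).trans E74141
theorem E76621 : n66453 = n14668 := ((D66453).symm.trans (sb E76618 (tr F237457 E76426)))
theorem E76622 : n70983 = n66454 := (((D66454).symm.trans (sb E76618 (iv5 D150597)))).symm
theorem E76623 : n66426 = n31903 := (((iv6 F102331)).symm.trans (sb E76618 (tr F237126 E76585)))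
theorem E76624 : n131026 = n28327 := (E74124).trans E74863
theorem F315201 : act 7 n146662 = n149654 := (sb E73199 F252840)
theorem E76625 : n149566 = n139840 := ((((iv3 F223051)).symm.trans (sb E73202 (iv3 F235177)))).symm
theorem F315202 : act 6 n65650 = n32599 := (sb E73202 (iv6 D70240))
theorem E76626 : n66409 = n31903 := (((iv3 F102318)).symm.trans (sb E73203 (tr F237702 E76585)))
theorem F315203 : act 0 n148640 = n118655 := (sb E73204 (iv1 F307706))
theorem F315204 : act 3 n148640 = n70087 := (sb E73204 (iv3 D149289))
theorem F315205 : act 5 n148640 = n151749 := (sb E73204 (iv5 F308655))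
theorem E76627 : n148640 = n116034 := (((D116034).symm.trans (iv6 (sb E73204 (tr (iv6 F253013) E74014))))).symm
theorem E76628 : n140047 = n73738 := ((D140047).symm.trans (iv0 (sb E73205 (tr (iv1 F233397) E75319))))
theorem F315206 : act 1 n73738 = n127306 := (sb E73205 F233395)
theorem F315207 : act 2 n73738 = n69658 := (sb E73205 (iv2 D148642))
theorem F315208 : act 6 n68598 = n69658 := (sb E73206 (iv6 D148644))
theorem E76629 : n70906 = n68581 := (((iv0 F310944)).symm.trans (sb E73207 (iv0 D146254)))
theorem E76632 : n74602 = n54529 := (((D54529).symm.trans (sb E73216 (iv4 F112019)))).symm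
theorem F315209 : act 6 n26370 = n16554 := (sb E73216 (iv6 D34206))
theorem E76643 : n117153 = n79778 := (((iv4 F183256)).symm.trans (sb E73234 F234860))
theorem E76644 : n117152 = n79780 := (((iv4 F183253)).symm.trans (sb E73236 F234890))
theorem F315210 : act 4 n36337 = n68766 := (sb E73238 (iv4 D146693))
theorem E76645 : n145757 = n79791 := (((D79791).symm.trans (sb E73238 F230026))).symm
theorem F315211 : act 4 n54302 = n39267 := (sb E73240 F106485)
theorem E76647 : n116443 = n26174 := ((((iv1 F41520)).symm.trans (sb E73245 (iv1 F181643)))).symm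
theorem F315212 : act 0 n142650 = n76365 := (sb E73246 F230421)
theorem F315213 : act 4 n31912 = n66868 := (sb E73247 (iv4 D142651))
theorem F315214 : act 7 n69657 = n147031 := (sb E73249 (iv7 F230491))
theorem F315215 : act 0 n54313 = n116793 := (sb E73253 F182346)
theorem F315216 : act 7 n54313 = n66868 := (sb E73253 F181626)
theorem E76653 : n133038 = n72000 := (((iv0 F213699)).symm.trans (sb E73254 (iv0 D152624)))
theorem F315217 : act 3 n62432 = n119374 := (sb E73254 F267791)
theorem E76654 : n178441 = n61790 := ((D178441).symm.trans (sb E73255 (iv3 D131689)))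
theorem E76655 : n178436 = n119374 := ((F278042).symm.trans (sb E73255 (iv7 F312729)))
theorem F315218 : act 0 n144907 = n76459 := (sb E73256 (iv1 D159788))
theorem F315219 : act 3 n144907 = n81587 := (sb E73256 F251795)
theorem E76656 : n148786 = n145942 := (((F233197).symm.trans (sb E73256 (iv4 F251793)))).symm
theorem F315220 : act 7 n144907 = n81577 := (sb E73256 F251792)
theorem F315221 : act 1 n117099 = n81577 := (sb E73257 (iv0 F251228))
theorem E76657 : n76309 = n68440 := (((F183142).symm.trans (sb E73257 (iv4 D159513)))).symm
theorem F315222 : act 7 n117099 = n76459 := (sb E73257 F251226)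
theorem F315223 : act 4 n52933 = n67934 := (sb E73258 F183350)
theorem E76658 : n114688 = n54011 := ((D114688).symm.trans (sb E73258 (iv6 D117187)))
theorem F315224 : act 0 n144909 = n81577 := (sb E73259 (iv1 F251787))
theorem F315225 : act 2 n144909 = n76459 := (sb E73259 F251784)
theorem F315226 : act 4 n144909 = n76458 := (sb E73259 (iv4 D159785))
theorem F315227 : act 1 n68431 = n42180 := (sb E73260 (iv0 D90245))
theorem E76659 : n159708 = n145940 := ((((iv3 F229172)).symm.trans (sb E73260 F251637))).symm
theorem E76660 : n145944 = n93017 := ((D145944).symm.trans (sb E73260 (iv5 F143461)))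
theorem F315228 : act 4 n90144 = n67942 := (sb E73261 F227894)
theorem F315229 : act 6 n90144 = n145928 := (sb E73261 (iv6 F229132))
theorem F315230 : act 4 n90247 = n73325 := (sb E73263 F227892)
theorem F315231 : act 1 n68002 = n54804 := (sb E73264 (iv0 D119095))
theorem F315232 : act 0 n67997 = n54804 := (sb E73265 (iv1 D119096))
theorem E76661 : n144957 = n54856 := ((((iv1 F187357)).symm.trans (sb E73266 (iv1 F264369)))).symm
theorem F315233 : act 4 n119094 = n69066 := (sb E73266 F230969)
theorem F315234 : act 4 n75150 = n69327 := (sb E73267 (iv4 F227926))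
theorem F315235 : act 0 n114489 = n69066 := (sb E73268 F247838)
theorem F315236 : act 3 n114489 = n69311 := (sb E73268 (iv3 F227987))
theorem F315237 : act 7 n114489 = n69327 := (sb E73268 F247822)
theorem F315238 : act 1 n131610 = n81789 := (sb E73269 (iv0 D170625))
theorem F315241 : act 6 n131607 = n81787 := (sb E73271 (iv6 D170620))
theorem F315243 : act 5 n139783 = n81789 := (sb E73272 (iv5 D170627))
theorem E76662 : n175255 = n71786 := ((D175255).symm.trans (sb E73273 F308150))
theorem E76663 : n175256 = n173464 := ((D175256).symm.trans (sb E73273 F271933))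
theorem E76664 : n175257 = n55068 := ((D175257).symm.trans (sb E73273 F308151))
theorem E76665 : n175258 = n55049 := ((D175258).symm.trans (sb E73273 F308152))
theorem E76666 : n175260 = n85290 := ((D175260).symm.trans (sb E73273 F308153))
theorem F315244 : act 7 n83692 = n47259 := (sb E73273 (iv7 D101599))
theorem E76667 : n175261 = n54333 := ((D175261).symm.trans (sb E73274 (iv3 D117946)))
theorem E76668 : n175262 = n68433 := ((D175262).symm.trans (sb E73274 F308868))
theorem E76669 : n175263 = n131339 := ((D175263).symm.trans (sb E73274 F308869))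
theorem F315245 : act 7 n83693 = n143741 := (sb E73274 F308870)
theorem F315246 : act 3 n75691 = n61212 := (sb E73279 F208967)
theorem F315247 : act 7 n75691 = n133152 := (sb E73279 (iv7 F213897))
theorem F315248 : act 3 n75692 = n61213 := (sb E73280 F208968)
theorem F315249 : act 3 n65048 = n86024 := (sb E73286 (iv3 D180013))
theorem E76670 : n152958 = n74361 := (((iv3 F240222)).symm.trans (sb E73287 F245667))
theorem F315250 : act 1 n65052 = n85303 := (sb E73288 (iv0 D178898))
theorem F315251 : act 3 n34109 = n71061 := (sb E73291 (iv3 D150709))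
theorem F315252 : act 3 n150710 = n74360 := (sb E73292 F245666)
theorem F315253 : act 1 n133683 = n84091 := (sb E73303 (iv0 D176356))
theorem F315254 : act 1 n67885 = n37324 := (sb E73304 (iv0 D81665))
theorem E76673 : n144836 = n97169 := (((iv4 F227752)).symm.trans (sb E73304 (iv4 F149913)))
theorem E76674 : n170288 = n60105 := (((F103942).symm.trans (sb E73304 D170288))).symm
theorem F315255 : act 7 n67885 = n170290 := (sb E73304 D170290)
theorem F315256 : act 0 n67890 = n37324 := (sb E73305 (iv1 D81666))
theorem F315257 : act 2 n67890 = n170290 := (sb E73305 (iv2 F267795))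
theorem F315258 : act 0 n67888 = n84410 := (sb E73306 (iv1 F129556))
theorem E76680 : n170272 = n144844 := (((D144844).symm.trans (sb E73306 (iv3 F267786)))).symm
theorem E76681 : n144845 = n44685 := ((D144845).symm.trans (sb E73306 F125593))
theorem F315259 : act 7 n67888 = n37324 := (sb E73306 (iv7 D81668))
theorem F315260 : act 0 n81693 = n59886 := (sb E73307 (iv1 F243328))
theorem E76682 : n170363 = n53895 := ((D170363).symm.trans (sb E73307 (iv2 D116946)))
theorem E76683 : n170368 = n59902 := ((D170368).symm.trans (sb E73307 F243166))
theorem F315261 : act 0 n31662 = n37340 := (sb E73308 (iv1 D81694))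
theorem E76688 : n170359 = n68001 := ((D170359).symm.trans (sb E73309 F251052))
theorem E76689 : n170362 = n59896 := ((D170362).symm.trans (sb E73309 (iv7 D127539)))
theorem E76690 : n59901 = n44602 := (((D44602).symm.trans (sb E73310 (iv7 D127550)))).symm
theorem E76691 : n170376 = n53541 := ((D170376).symm.trans (sb E73311 (tr (iv7 D127563) E75966)))
theorem F315262 : act 7 n28453 = n37340 := (sb E73312 (iv7 D81696))
theorem E76692 : n84048 = n61001 := (((iv5 F300796)).symm.trans (sb E73313 (iv5 F207692)))
theorem F315263 : act 3 n55489 = n71678 := (sb E73316 F239048)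
theorem F315264 : act 3 n55490 = n71679 := (sb E73317 F239049)
theorem E76693 : n170261 = n37348 := ((D170261).symm.trans (sb E73318 (iv1 D81717)))
theorem E76694 : n170262 = n150626 := ((D170262).symm.trans (sb E73318 (iv0 F301935)))
theorem E76695 : n170455 = n96741 := ((((iv2 F149199)).symm.trans (sb E73318 (iv2 F267901)))).symm
theorem E76696 : n170457 = n170260 := ((((iv4 F267774)).symm.trans (sb E73318 D170457))).symm
theorem E76699 : n170264 = n161016 := ((D170264).symm.trans (sb E73318 (iv7 F312085)))
theorem F315265 : act 0 n154720 = n73386 := (sb E73319 (iv1 D154748))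
theorem F315266 : act 0 n83388 = n149036 := (sb E73322 F234358)
theorem E76700 : n174469 = n61749 := ((D174469).symm.trans (sb E73322 (iv4 D131604)))
theorem F315267 : act 4 n62798 = n84411 := (sb E73326 (iv4 D177129))
theorem E76701 : n38758 = n29893 := ((D38758).symm.trans (sb E73327 F98484))
theorem E76703 : n38759 = n29891 := ((D38759).symm.trans (sb E73327 (iv5 D63242)))
theorem E76706 : n129510 = n75355 := ((((iv1 F298291)).symm.trans (sb E73328 (iv1 F209248)))).symm
theorem E76707 : n129250 = n75368 := ((((iv0 F298292)).symm.trans (sb E73328 (iv0 F214730)))).symm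
theorem F315268 : act 2 n39951 = n62071 := (sb E73328 (iv2 F209652))
theorem E76708 : n129511 = n75720 := ((((iv7 F298293)).symm.trans (sb E73328 (iv7 F209246)))).symm
theorem E76709 : n172274 = n132078 := ((((iv3 F211612)).symm.trans (sb E73329 D172274))).symm
theorem E76710 : n158200 = n115207 := (((F211599).symm.trans (sb E73329 (iv4 F249186)))).symm
theorem F315269 : act 5 n63240 = n38233 := (sb E73329 F127157)
theorem E76711 : n172275 = n134585 := (((D134585).symm.trans (sb E73329 D172275))).symm
theorem E76712 : n132075 = n38798 := ((F211600).symm.trans (sb E73329 F127159))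
theorem F315270 : act 1 n34624 = n62071 := (sb E73330 F214800)
theorem E76713 : n75718 = n61351 := (((iv3 F113573)).symm.trans (sb E73330 (iv3 D130761)))
theorem E76714 : n130777 = n75722 := (((D75722).symm.trans (sb E73330 (iv4 F209346)))).symm
theorem F315271 : act 0 n34644 = n62071 := (sb E73331 (iv1 D132301))
theorem E76715 : n130778 = n75758 := (((D75758).symm.trans (sb E73331 F212449))).symm
theorem E76716 : n130017 = n83921 := ((F213053).symm.trans (sb E73332 F249927))
theorem F315272 : act 2 n132302 = n86330 := (sb E73333 F298874)
theorem F315273 : act 5 n132302 = n78070 := (sb E73333 F298875)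
theorem F315274 : act 5 n60855 = n38757 := (sb E73334 (iv5 D84113))
theorem E76717 : n176412 = n129513 := (((D129513).symm.trans (sb E73334 D176412))).symm
theorem F315275 : act 4 n45424 = n32152 := (sb E73337 F105408)
theorem F315276 : act 6 n45424 = n32151 := (sb E73337 (iv6 D69109))
theorem E76720 : n161700 = n131424 := ((D161700).symm.trans (sb E73338 (iv1 F210647)))
theorem E76721 : n161702 = n131469 := ((D161702).symm.trans (sb E73338 (iv4 F210735)))
theorem F315277 : act 7 n77667 = n131469 := (sb E73338 F210738)
theorem F315278 : act 1 n37932 = n75319 := (sb E73339 (iv0 D158140))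
theorem F315279 : act 0 n119238 = n75319 := (sb E73340 (iv1 D158141))
theorem F315280 : act 7 n157983 = n82606 := (sb E73341 (iv7 D172554))
theorem F315281 : act 1 n158137 = n161596 := (sb E73342 (iv0 F270737))
theorem F315282 : act 0 n62379 = n83451 := (sb E73345 (iv1 D174640))
theorem E76722 : n132924 = n88074 := ((D132924).symm.trans (sb E73345 F303463))
theorem E76723 : n132925 = n88949 := ((D132925).symm.trans (sb E73345 F303465))
theorem E76724 : n132927 = n98961 := ((D132927).symm.trans (sb E73345 F303466))
theorem F315283 : act 0 n130148 = n175332 := (sb E73350 F274381)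
theorem F315284 : act 2 n130148 = n84071 := (sb E73350 F275601)
theorem F315285 : act 4 n130148 = n83080 := (sb E73350 (iv4 D173727))
theorem F315286 : act 5 n28949 = n57751 := (sb E73354 F303385)
theorem F315287 : act 2 n123967 = n61102 := (sb E73355 F208638)
theorem F315288 : act 5 n28936 = n18393 := (sb E73358 (iv5 D38657))
theorem E76727 : n83926 = n61057 := (((D61057).symm.trans (sb E73358 (iv6 F128927)))).symm
theorem E76728 : n176394 = n132918 := ((D176394).symm.trans (sb E73359 F214795))
theorem E76729 : n176397 = n62668 := ((D176397).symm.trans (sb E73359 (iv5 F213052)))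
theorem E76730 : n175819 = n62669 := (((D62669).symm.trans (sb E73361 (iv4 F275227)))).symm
theorem F315289 : act 5 n29631 = n38751 := (sb E73361 (iv5 D84105))
theorem E76731 : n176399 = n62671 := (((D62671).symm.trans (sb E73361 D176399))).symm
theorem F315290 : act 0 n130287 = n79372 := (sb E73363 (iv1 D165199))
theorem F315291 : act 1 n130287 = n83642 := (sb E73363 F298724)
theorem F315292 : act 3 n130287 = n175332 := (sb E73363 (iv3 F274380))
theorem F315293 : act 4 n130287 = n166283 := (sb E73363 F298725)
theorem F315294 : act 6 n130287 = n83742 := (sb E73363 F298727)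
theorem F315295 : act 7 n130287 = n83654 := (sb E73363 F298728)
theorem F315296 : act 0 n130292 = n83654 := (sb E73364 F298729)
theorem F315297 : act 2 n130292 = n79372 := (sb E73364 F260442)
theorem F315298 : act 4 n130292 = n79369 := (sb E73364 F260444)
theorem F315299 : act 6 n130292 = n79368 := (sb E73364 (iv6 D165191))
theorem F315300 : act 7 n130292 = n83642 := (sb E73364 F298730)
theorem F315301 : act 0 n61354 = n75603 := (sb E73365 (iv1 D158481))
theorem F315302 : act 1 n61354 = n75608 := (sb E73365 F249684)
theorem F315303 : act 5 n61354 = n79372 := (sb E73365 F298731)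
theorem F315304 : act 0 n84107 = n61149 := (sb E73366 F214706)
theorem F315305 : act 5 n84107 = n62663 := (sb E73366 (iv5 F213047))
theorem E76732 : n75650 = n62644 := ((((iv4 F97719)).symm.trans (sb E73368 D75650))).symm
theorem F315306 : act 5 n29632 = n16769 := (sb E73368 (iv5 D34593))
theorem E76733 : n75651 = n62672 := (((D62672).symm.trans (sb E73368 D75651))).symm
theorem E76734 : n173618 = n130780 := (((D130780).symm.trans (sb E73369 (iv5 F272085)))).symm
theorem E76736 : n130790 = n82425 := ((D130790).symm.trans (sb E73370 F298389))
theorem F315307 : act 5 n29630 = n38754 := (sb E73371 (iv5 D84108))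
theorem E76737 : n176401 = n62666 := (((D62666).symm.trans (sb E73371 D176401))).symm
theorem E76738 : n85825 = n63629 := ((D85825).symm.trans (sb E73373 (iv1 F217550)))
theorem E76739 : n85826 = n63613 := ((D85826).symm.trans (sb E73373 (iv0 D135312)))
theorem F315308 : act 5 n61359 = n83451 := (sb E73374 F249767)
theorem E76740 : n173615 = n130800 := (((D130800).symm.trans (sb E73375 (iv5 F272077)))).symm
theorem E76741 : n130806 = n83453 := ((D130806).symm.trans (sb E73376 F249770))
theorem E76743 : n82510 = n61058 := (((F97219).symm.trans (sb E73377 (iv0 F127160)))).symm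
theorem E76744 : n158639 = n115174 := ((((iv3 F179334)).symm.trans (sb E73377 D158639))).symm
theorem E76748 : n158643 = n132858 := (((D132858).symm.trans (sb E73378 D158643))).symm
theorem E76750 : n132830 = n84049 := ((D132830).symm.trans (sb E73379 F303643))
theorem E76751 : n158663 = n132831 := (((D132831).symm.trans (sb E73379 (iv3 F249817)))).symm
theorem E76752 : n132832 = n38222 := ((D132832).symm.trans (sb E73379 F113545))
theorem E76756 : n158360 = n132838 := (((D132838).symm.trans (sb E73380 (iv5 F307506)))).symm
theorem E76757 : n158359 = n132839 := (((D132839).symm.trans (sb E73380 (iv7 F306782)))).symm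
theorem E76761 : n158151 = n132843 := (((D132843).symm.trans (sb E73381 (iv6 F249107)))).symm
theorem E76762 : n158201 = n115184 := ((((iv3 F179369)).symm.trans (sb E73382 D158201))).symm
theorem E76763 : n132844 = n38688 := ((D132844).symm.trans (sb E73382 F112963))
theorem E76765 : n132848 = n61220 := ((D132848).symm.trans (sb E73383 F308629))
theorem E76766 : n133159 = n132849 := (((D132849).symm.trans (sb E73383 (iv0 F310722)))).symm
theorem E76767 : n132850 = n34487 := ((D132850).symm.trans (sb E73383 (iv5 D75330)))
theorem E76768 : n133158 = n132851 := (((D132851).symm.trans (sb E73383 (iv7 F310731)))).symm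
theorem E76769 : n132861 = n83162 := ((D132861).symm.trans (sb E73384 F249903))
theorem E76770 : n62203 = n45878 := (((iv4 F97229)).symm.trans (sb E73385 (iv4 D98186)))
theorem E76771 : n132864 = n84067 := ((D132864).symm.trans (sb E73385 F151482))
theorem E76774 : n173646 = n132867 := (((D132867).symm.trans (sb E73386 D173646))).symm
theorem E76777 : n175433 = n132889 := (((D132889).symm.trans (sb E73388 F275298))).symm
theorem F315309 : act 6 n62360 = n83963 := (sb E73388 (iv6 D175946))
theorem E76778 : n158652 = n61066 := (((D61066).symm.trans (sb E73389 D158652))).symm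
theorem E76779 : n158653 = n61067 := (((D61067).symm.trans (sb E73389 D158653))).symm
theorem E76780 : n158654 = n61069 := (((D61069).symm.trans (sb E73389 D158654))).symm
theorem F315310 : act 1 n38665 = n35632 := (sb E73391 F60637)
theorem E76781 : n86041 = n18398 := (((F59481).symm.trans (sb E73391 (iv3 F131987)))).symm
theorem E76782 : n83953 = n18834 := ((D83953).symm.trans (sb E73391 (iv5 D39810)))
theorem E76784 : n162696 = n132896 := (((D132896).symm.trans (sb E73397 (iv3 F256931)))).symm
theorem F315311 : act 6 n62363 = n59782 := (sb E73397 (iv6 F119333))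
theorem F315312 : act 7 n62363 = n35632 := (sb E73397 (iv7 D78153))
theorem F315313 : act 4 n35819 = n29704 := (sb E73402 F187503)
theorem E76787 : n130184 = n36786 := ((((iv1 F57699)).symm.trans (iv1 (sb E73403 (tr (iv0 D175923) E76782))))).symm
theorem F315314 : act 0 n130295 = n83614 := (sb E73406 (iv1 D175080))
theorem F315315 : act 1 n130295 = n83739 := (sb E73406 F274053)
theorem F315316 : act 2 n130295 = n83742 := (sb E73406 (iv2 F274056))
theorem F315317 : act 5 n130295 = n152924 := (sb E73406 (iv5 F274404))
theorem F315318 : act 7 n130295 = n83659 := (sb E73406 F274054)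
theorem F315319 : act 0 n130313 = n128149 := (sb E73407 F257051)
theorem F315320 : act 2 n130313 = n167838 := (sb E73407 (iv2 F264411))
theorem F315321 : act 3 n130313 = n83659 := (sb E73407 F307638)
theorem F315322 : act 4 n130313 = n78249 := (sb E73407 (iv4 D162779))
theorem F315323 : act 6 n130313 = n83656 := (sb E73407 F307639)
theorem F315324 : act 1 n119658 = n175332 := (sb E73408 (iv0 F275258))
theorem F315325 : act 7 n119658 = n84071 := (sb E73408 F275612)
theorem F315326 : act 0 n130211 = n84071 := (sb E73409 (iv1 D176284))
theorem F315327 : act 4 n130211 = n130219 := (sb E73409 (tr (iv4 F275581) E73413))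
theorem F315328 : act 7 n130211 = n175332 := (sb E73409 F275579)
theorem F315329 : act 4 n83652 = n61126 := (sb E73410 (iv4 D130218))
theorem F315330 : act 0 n130262 = n83656 := (sb E73411 F309619)
theorem F315331 : act 2 n130262 = n83706 := (sb E73411 F309621)
theorem F315332 : act 7 n130262 = n83593 := (sb E73411 (iv7 D175043))
theorem F315333 : act 0 n119403 = n61138 := (sb E73412 (iv1 D130263))
theorem F315334 : act 0 n130219 = n83730 := (sb E73413 (iv1 F274123))
theorem F315335 : act 1 n130219 = n83729 := (sb E73413 F274121)
theorem F315336 : act 2 n130219 = n83652 := (sb E73413 (iv2 D175143))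
theorem F315337 : act 7 n130219 = n83731 := (sb E73413 F274120)
theorem F315338 : act 2 n130264 = n83710 := (sb E73414 F274332)
theorem F315339 : act 0 n130265 = n83593 := (sb E73415 F308243)
theorem F315340 : act 1 n130265 = n83706 := (sb E73415 F307079)
theorem F315341 : act 2 n130265 = n83656 := (sb E73415 F307080)
theorem F315342 : act 3 n130265 = n83731 := (sb E73415 F307081)
theorem F315343 : act 4 n130265 = n79849 := (sb E73415 (iv4 D166284))
theorem F315344 : act 6 n130265 = n167838 := (sb E73415 (iv6 F264412))
theorem F315345 : act 2 n75611 = n61118 := (sb E73416 (iv2 F208349))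
theorem E76791 : n158495 = n61124 := ((D158495).symm.trans (sb E73416 (iv3 F208350)))
theorem E76792 : n158496 = n129689 := ((D158496).symm.trans (sb E73416 F208348))
theorem F315346 : act 2 n130195 = n158497 := (sb E73418 F274369)
theorem F315347 : act 5 n130195 = n83722 := (sb E73418 (iv5 D175323))
theorem F315348 : act 0 n128267 = n123579 := (sb E73421 (tr F217580 E75503))
theorem F315349 : act 2 n128267 = n63624 := (sb E73421 F217579)
theorem F315350 : act 5 n128267 = n63622 := (sb E73421 (iv5 D135342))
theorem F315351 : act 0 n128268 = n63600 := (sb E73422 (iv1 F207243))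
theorem F315352 : act 1 n128268 = n61006 := (sb E73422 (iv0 F207717))
theorem F315353 : act 2 n128268 = n60659 := (sb E73422 F207239)
theorem F315354 : act 3 n128268 = n63622 := (sb E73422 F207240)
theorem F315355 : act 4 n128268 = n60657 := (sb E73422 F207241)
theorem F315356 : act 7 n128268 = n60654 := (sb E73422 (iv7 D128993))
theorem F315357 : act 3 n30031 = n60291 := (sb E73424 (iv3 D128264))
theorem F315358 : act 5 n30029 = n60291 := (sb E73425 (iv5 D128265))
theorem F315359 : act 3 n98146 = n63614 := (sb E73426 F217525)
theorem F315360 : act 1 n72729 = n34197 := (sb E73427 (iv0 D74577))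
theorem F315361 : act 0 n72728 = n34197 := (sb E73428 (iv1 D74578))
theorem E76803 : n156804 = n118430 := ((((iv4 F186230)).symm.trans (sb E73429 (iv4 F246747)))).symm
theorem F315362 : act 7 n54538 = n34197 := (sb E73429 (iv7 D74580))
theorem F315363 : act 0 n83988 = n57612 := (sb E73430 (iv1 F132281))
theorem F315364 : act 1 n83988 = n57611 := (sb E73430 F132280)
theorem E76804 : n158678 = n39938 := (((iv2 F249840)).symm.trans (sb E73430 (iv2 D86317)))
theorem E76805 : n176017 = n77020 := (((iv3 F275328)).symm.trans (sb E73430 F132276))
theorem E76806 : n176039 = n57258 := ((D176039).symm.trans (sb E73430 F132277))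
theorem E76807 : n52830 = n38683 := ((((iv5 D83988)).symm.trans (sb E73430 F132278))).symm
theorem E76808 : n176040 = n57609 := ((D176040).symm.trans (sb E73430 F132279))
theorem E76809 : n90578 = n83925 := ((F142264).symm.trans (sb E73431 (iv1 F272100)))
theorem E76810 : n90254 = n83927 := ((F142262).symm.trans (sb E73431 F272096))
theorem E76811 : n92714 = n61069 := (((iv5 F142921)).symm.trans (sb E73431 (tr F272097 E76780)))
theorem F315365 : act 6 n92461 = n83960 := (sb E73431 F272098)
theorem F315366 : act 0 n38653 = n44065 := (sb E73432 F142273)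
theorem F315367 : act 2 n38653 = n90257 := (sb E73432 F142271)
theorem E76812 : n83923 = n43247 := (((iv4 F128925)).symm.trans (sb E73432 (iv4 D92464)))
theorem E76813 : n92708 = n61057 := (((E76727).symm.trans ((D83926).symm.trans (sb E73432 (iv5 F142900))))).symm
theorem E76814 : n175837 = n61455 := (E73436).trans E73613
theorem E76815 : n130997 = n129212 := ((D130997).symm.trans (sb E76814 (iv1 F308596)))
theorem E76822 : n155016 = n117261 := ((((iv4 F183495)).symm.trans (sb E73439 D155016))).symm
theorem E76824 : n117298 = n36394 := (((iv4 F183636)).symm.trans (sb E73440 F110236))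
theorem E76825 : n155019 = n69749 := ((((iv6 F106147)).symm.trans (sb E73440 D155019))).symm
theorem E76829 : n36386 = n31999 := (((D31999).symm.trans (sb E73442 F110242))).symm
theorem E76832 : n119885 = n70243 := (((D70243).symm.trans (sb E73444 D119885))).symm
theorem E76834 : n119887 = n70241 := ((((iv2 F106695)).symm.trans (sb E73444 D119887))).symm
theorem E76836 : n70245 = n33962 := ((D70245).symm.trans (sb E73444 F87292))
theorem F315368 : act 5 n16415 = n29706 := (sb E73446 F51658)
theorem F315369 : act 7 n16415 = n15434 := (sb E73446 (iv7 D32610))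
theorem E76837 : n146591 = n53006 := (((D53006).symm.trans (sb E73455 D146591))).symm
theorem E76838 : n146486 = n53007 := (((D53007).symm.trans (sb E73455 (iv0 F243204)))).symm
theorem F315370 : act 4 n25728 = n31967 := (sb E73455 (iv4 D68705))
theorem E76841 : n146414 = n53009 := (((D53009).symm.trans (sb E73455 (iv7 F247769)))).symm
theorem E76844 : n155331 = n106304 := ((((iv2 F163378)).symm.trans (sb E73459 D155331))).symm
theorem F315371 : act 3 n49134 = n33899 := (sb E73459 (iv3 D73802))
theorem F315372 : act 4 n49134 = n33921 := (sb E73459 F110608)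
theorem E76845 : n155332 = n94126 := ((((iv5 F145081)).symm.trans (sb E73459 D155332))).symm
theorem E76846 : n119951 = n106310 := (((D106310).symm.trans (sb E73459 (iv7 F189372)))).symm
theorem E76847 : n148448 = n92450 := ((F244281).symm.trans (sb E73462 F290322))
theorem E76848 : n147965 = n41818 := (((iv0 F231778)).symm.trans (sb E73462 F290323))
theorem F315373 : act 2 n73803 = n46133 := (sb E73462 F136648)
theorem E76849 : n155334 = n154811 := ((D155334).symm.trans (sb E73462 (iv4 F306702)))
theorem E76850 : n155335 = n41560 := ((D155335).symm.trans (sb E73462 (iv6 D89013)))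
theorem E76851 : n128458 = n52943 := ((F240734).symm.trans (sb E73464 (iv4 D114710)))
theorem E76856 : n155412 = n60103 := ((D155412).symm.trans (sb E73469 F185207))
theorem F315374 : act 6 n73865 = n54363 := (sb E73469 (iv6 D118012))
theorem E76857 : n155409 = n93863 := ((D155409).symm.trans (sb E73471 F290417))
theorem F315375 : act 5 n29174 = n33921 := (sb E73472 (iv5 D73866))
theorem E76862 : n119973 = n61593 := (((D61593).symm.trans (sb E73472 (iv7 F189388)))).symm
theorem E76863 : n119974 = n70226 := ((D119974).symm.trans (sb E73473 F185211))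
theorem E76868 : n125364 = n13779 := ((((iv4 F23030)).symm.trans (sb E73477 (iv4 F201637)))).symm
theorem E76873 : n65674 = n33919 := (((iv3 F101399)).symm.trans (sb E73479 (iv3 D73858)))
theorem E76874 : n155392 = n15000 := (((F49218).symm.trans (sb E73479 D155392))).symm
theorem F315376 : act 0 n62921 = n54285 := (sb E73480 F110666)
theorem E76877 : n86037 = n77614 := ((((iv4 F304580)).symm.trans (sb E73480 (iv4 F131983)))).symm
theorem F315377 : act 5 n62921 = n33919 := (sb E73480 (iv5 D73859))
theorem E76879 : n70256 = n59704 := ((((iv2 F204427)).symm.trans (sb E76582 F185373))).symm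
theorem E76880 : n155396 = n61669 := ((D155396).symm.trans (sb E73482 F278618))
theorem E76881 : n155397 = n70066 := ((D155397).symm.trans (sb E73482 F278619))
theorem E76882 : n155398 = n70237 := ((D155398).symm.trans (sb E73482 F237531))
theorem E76883 : n155400 = n133842 := ((D155400).symm.trans (sb E73482 F215498))
theorem F315378 : act 1 n62854 = n54285 := (sb E73483 F110675)
theorem F315379 : act 5 n62854 = n33920 := (sb E73483 (iv5 D73862))
theorem F315380 : act 0 n28477 = n13885 := (sb E73485 (iv1 D29181))
theorem F315381 : act 1 n28477 = n29706 := (sb E73485 F47744)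
theorem F315382 : act 2 n28477 = n29705 := (sb E73485 F109902)
theorem F315383 : act 7 n28477 = n29704 := (sb E73485 F109903)
theorem F315384 : act 0 n28924 = n27910 := (sb E73486 (iv1 D58704))
theorem F315385 : act 1 n28924 = n32286 := (sb E73486 F92749)
theorem E76885 : n61022 = n33961 := ((D61022).symm.trans (sb E73486 F92751))
theorem F315386 : act 5 n29182 = n26675 := (sb E73487 (iv5 D55209))
theorem F315387 : act 1 n32600 = n31001 := (sb E73488 (iv0 F87345))
theorem F315388 : act 2 n32600 = n33964 := (sb E73488 F87343)
theorem F315389 : act 4 n32600 = n26676 := (sb E73488 F87344)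
theorem F315390 : act 6 n32600 = n26675 := (sb E73488 (iv6 D55210))
theorem E76888 : n155378 = n151970 := ((D155378).symm.trans (sb E73490 (iv1 F238979)))
theorem E76889 : n155379 = n35047 := ((D155379).symm.trans (sb E73490 (iv0 D76666)))
theorem E76890 : n160090 = n155380 := (((D155380).symm.trans (sb E73490 D160090))).symm
theorem E76891 : n160091 = n155374 := ((((iv4 F244347)).symm.trans (sb E73490 D160091))).symm
theorem E76892 : n155381 = n151798 := ((D155381).symm.trans (sb E73490 (iv5 F306886)))
theorem E76893 : n160092 = n155382 := (((D155382).symm.trans (sb E73490 D160092))).symm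
theorem F315391 : act 0 n71746 = n54269 := (sb E73491 F110633)
theorem E76894 : n121442 = n86097 := (((iv4 F305820)).symm.trans (sb E73491 (iv4 F132051)))
theorem F315392 : act 5 n71746 = n33914 := (sb E73491 (iv5 D73849))
theorem E76896 : n85485 = n66449 := ((((iv1 F102738)).symm.trans (sb E73835 F130694))).symm
theorem E76897 : n155382 = n142684 := ((((iv3 F225571)).symm.trans (sb E73835 (tr (iv3 F252662) E76893)))).symm
theorem E76898 : n127099 = n67301 := (((iv5 F204343)).symm.trans (sb E73835 (tr F115051 E74260)))
theorem E76899 : n142688 = n33914 := ((D142688).symm.trans (sb E73495 (iv6 D73850)))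
theorem E76900 : n155384 = n35055 := ((D155384).symm.trans (sb E73496 (iv1 D76688)))
theorem E76901 : n155385 = n120679 := ((D155385).symm.trans (sb E73496 F192382))
theorem E76902 : n155386 = n120678 := ((D155386).symm.trans (sb E73496 F237541))
theorem E76904 : n155387 = n130892 := ((D155387).symm.trans (sb E73496 F237493))
theorem E76905 : n146967 = n116438 := ((((iv6 F181630)).symm.trans (sb E73496 (iv6 F237499)))).symm
theorem F315393 : act 1 n61410 = n54269 := (sb E73497 F110650)
theorem F315394 : act 4 n61410 = n81829 := (sb E73497 (iv4 F125774))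
theorem F315395 : act 5 n61410 = n33917 := (sb E73497 (iv5 D73857))
theorem F315396 : act 2 n83204 = n61701 := (sb E73505 (iv2 D131466))
theorem F315397 : act 3 n83214 = n61679 := (sb E73506 F210631)
theorem F315398 : act 5 n83214 = n61678 := (sb E73506 (iv5 D131414))
theorem F315399 : act 0 n146732 = n160685 := (sb E73507 (iv1 F262584))
theorem F315400 : act 1 n146732 = n160684 := (sb E73507 F262585)
theorem F315401 : act 2 n146732 = n160687 := (sb E73507 F262580)
theorem F315402 : act 4 n146732 = n82762 := (sb E73507 F298400)
theorem F315403 : act 6 n146732 = n83791 := (sb E73507 F298401)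
theorem F315404 : act 7 n146732 = n80085 := (sb E73507 (iv7 D166846))
theorem F315405 : act 5 n69277 = n82731 := (sb E73508 (iv5 D172793))
theorem E76906 : n66642 = n32537 := (((D32537).symm.trans (sb E73513 (iv3 F102571)))).symm
theorem F315406 : act 4 n15409 = n15091 := (sb E73513 F49479)
theorem F315407 : act 7 n15409 = n14700 := (sb E73513 (iv7 D31094))
theorem F315408 : act 4 n36410 = n54052 := (sb E73518 (iv4 D117283))
theorem E76912 : n147112 = n114666 := ((((iv1 F178780)).symm.trans (sb E73519 F243127))).symm
theorem E76913 : n147113 = n114738 := (((D114738).symm.trans (sb E73519 F243128))).symm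
theorem F315409 : act 3 n52954 = n68773 := (sb E73519 F243129)
theorem E76914 : n119053 = n114740 := (((D114740).symm.trans (sb E73519 (tr F243130 E75161)))).symm
theorem E76915 : n114741 = n114738 := ((D114741).symm.trans (sb E73519 (tr F243131 E76913)))
theorem E76916 : n114742 = n69029 := ((D114742).symm.trans (sb E73519 F243132))
theorem F315410 : act 7 n52954 = n68959 := (sb E73519 F243133)
theorem F315411 : act 0 n68981 = n47817 := (sb E73520 (iv1 D103161))
theorem F315412 : act 2 n68983 = n47817 := (sb E73521 F158420)
theorem E76917 : n47815 = n47768 := (((E76061).symm.trans (((iv4 F242973)).symm.trans (sb E73521 (iv4 D103150))))).symm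
theorem E76918 : n155964 = n47816 := (((D47816).symm.trans (sb E73522 (iv3 F244998)))).symm
theorem E76919 : n146270 = n47819 := (((D47819).symm.trans (sb E73522 F230589))).symm
theorem E76920 : n47820 = n47769 := ((D47820).symm.trans (sb E73522 (tr (iv7 D147090) E76062)))
theorem F315413 : act 5 n32102 = n47817 := (sb E73523 (iv5 D103163))
theorem F315414 : act 6 n69036 = n47817 := (sb E73524 (iv6 D103164))
theorem F315415 : act 7 n32080 = n47817 := (sb E73525 (iv7 D103165))
theorem F315416 : act 2 n52955 = n68959 := (sb E73526 F105176)
theorem E76921 : n119054 = n114745 := (((D114745).symm.trans (sb E73526 (tr (iv4 F229106) E75162)))).symm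
theorem E76922 : n114746 = n68959 := ((D114746).symm.trans (sb E73526 F105178))
theorem E76923 : n114747 = n32087 := ((D114747).symm.trans (sb E73526 (iv6 D68976)))
theorem F315417 : act 3 n146716 = n79928 := (sb E73530 (iv3 D166527))
theorem F315418 : act 0 n99554 = n47108 := (sb E73532 (iv1 D101134))
theorem F315419 : act 1 n99554 = n88004 := (sb E73532 F155839)
theorem E76924 : n103132 = n68508 := (((F243193).symm.trans (sb E73533 (iv1 F185176)))).symm
theorem E76925 : n103129 = n68507 := ((D103129).symm.trans (sb E73535 (iv1 F243113)))
theorem E76926 : n103130 = n48895 := ((D103130).symm.trans (sb E73535 (iv0 D105756)))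
theorem F315420 : act 2 n47810 = n53997 := (sb E73535 F243106)
theorem E76927 : n146630 = n48027 := ((((iv4 F75488)).symm.trans (sb E73535 F243108))).symm
theorem E76928 : n146633 = n144893 := (((F313335).symm.trans (sb E73536 (iv1 F229923)))).symm
theorem F315421 : act 1 n103693 = n117414 := (sb E73536 (iv0 F183903))
theorem F315422 : act 4 n103693 = n53997 := (sb E73536 (iv4 D117163))
theorem E76929 : n68511 = n68509 := ((F313337).symm.trans (sb E73536 F183288))
theorem E76930 : n114738 = n114663 := (((D114663).symm.trans (sb E73538 (tr F243137 E76913)))).symm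
theorem E76931 : n114664 = n68959 := ((D114664).symm.trans (sb E73538 F243138))
theorem F315423 : act 3 n52924 = n68713 := (sb E73538 (iv3 F229213))
theorem E76932 : n68443 = n25694 := (((F83635).symm.trans (sb E73538 (iv4 D145977)))).symm
theorem E76933 : n68446 = n25709 := (((D25709).symm.trans (sb E73539 (iv1 F229076)))).symm
theorem E76934 : n68414 = n25710 := (((D25710).symm.trans (sb E73539 (iv0 D145900)))).symm
theorem E76936 : n147841 = n114748 := (((D114748).symm.trans (sb E73540 F243135))).symm
theorem E76937 : n114749 = n69274 := ((D114749).symm.trans (sb E73540 F243136))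
theorem F315424 : act 3 n52956 = n68706 := (sb E73540 F229886)
theorem E76938 : n147113 = n114663 := (E76913).trans E76930
theorem F315425 : act 3 n52957 = n68647 := (sb E73541 (iv3 F229215))
theorem F315426 : act 1 n31636 = n26508 := (sb E73542 (iv0 D54800))
theorem E76939 : n119081 = n53970 := ((((iv2 F85145)).symm.trans (sb E73542 D119081))).symm
theorem E76940 : n119082 = n67975 := (((D67975).symm.trans (sb E73542 D119082))).symm
theorem E76942 : n119084 = n67976 := (((D67976).symm.trans (sb E73542 D119084))).symm
theorem E76943 : n78926 = n67977 := (((D67977).symm.trans (sb E73542 F120114))).symm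
theorem F315427 : act 0 n31631 = n26508 := (sb E73543 (iv1 D54801))
theorem E76947 : n119088 = n67968 := (((D67968).symm.trans (sb E73543 D119088))).symm
theorem E76949 : n119090 = n67949 := ((D119090).symm.trans (sb E73544 F105439))
theorem E76950 : n119091 = n67938 := ((D119091).symm.trans (sb E73544 F105440))
theorem E76951 : n145922 = n119092 := (((D119092).symm.trans (sb E73544 (iv4 F229117)))).symm
theorem E76953 : n119093 = n119092 := ((D119093).symm.trans (sb E73544 (tr F229120 E76951)))
theorem F315428 : act 4 n54803 = n32136 := (sb E73545 (iv4 D69065))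
theorem F315429 : act 2 n96724 = n81585 := (sb E73547 F267607)
theorem E76955 : n97169 = n97127 := (((D97127).symm.trans (sb E73548 (tr (iv2 F227751) E76673)))).symm
theorem E76956 : n141567 = n97128 := (((D97128).symm.trans (sb E73548 (iv3 F224610)))).symm
theorem E76957 : n97129 = n31559 := ((D97129).symm.trans (sb E73548 F103945))
theorem E76959 : n97131 = n31558 := ((D97131).symm.trans (sb E73548 (iv6 D67887)))
theorem E76960 : n144843 = n97132 := (((D97132).symm.trans (sb E73548 D144843))).symm
theorem F315430 : act 3 n117249 = n81585 := (sb E73549 (iv3 D170112))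
theorem F315431 : act 5 n153233 = n81585 := (sb E73550 (iv5 D170114))
theorem F315432 : act 6 n120558 = n81585 := (sb E73551 (iv6 D170115))
theorem F315433 : act 7 n68978 = n81585 := (sb E73552 (iv7 F267605))
theorem E76961 : n75325 = n62426 := (((F213530).symm.trans (sb E73557 (iv1 F249104)))).symm
theorem E76962 : n131664 = n75324 := ((F217687).symm.trans (sb E73557 F249105))
theorem F315434 : act 2 n132916 = n75327 := (sb E73557 F249101)
theorem F315435 : act 3 n132916 = n75594 := (sb E73557 F249102)
theorem F315436 : act 7 n132916 = n75321 := (sb E73557 (iv7 D158148))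
theorem F315437 : act 0 n61145 = n75611 := (sb E73558 (iv1 F249666))
theorem F315438 : act 5 n61145 = n75594 := (sb E73558 F249664)
theorem F315439 : act 7 n61145 = n75593 := (sb E73558 (iv7 D158456))
theorem F315440 : act 0 n34583 = n28965 := (sb E73559 (iv1 F208353))
theorem E76963 : n75612 = n62252 := ((D75612).symm.trans (sb E73559 F97061))
theorem F315441 : act 7 n34583 = n62338 := (sb E73559 (iv7 F208427))
theorem F315442 : act 3 n133858 = n75591 := (sb E73560 (iv3 D158450))
theorem E76965 : n148857 = n118563 := (((F215571).symm.trans (sb E73560 F249654))).symm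
theorem F315443 : act 7 n133858 = n75606 := (sb E73560 F249655)
theorem F315444 : act 2 n133514 = n75603 := (sb E73561 F249656)
theorem F315445 : act 5 n133514 = n75591 := (sb E73561 (iv5 D158451))
theorem F315446 : act 7 n133514 = n75608 := (sb E73561 F249657)
theorem F315447 : act 0 n132398 = n75608 := (sb E73562 (iv1 F249683))
theorem F315448 : act 1 n132398 = n75603 := (sb E73562 (iv0 D158480))
theorem F315449 : act 5 n132398 = n83642 := (sb E73562 F249682)
theorem F315450 : act 4 n129300 = n75603 := (sb E73563 (iv4 D158482))
theorem F315451 : act 0 n152530 = n108237 := (sb E73564 (iv1 F245528))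
theorem F315452 : act 1 n152530 = n74534 := (sb E73564 F245529)
theorem F315453 : act 2 n152530 = n74318 := (sb E73564 F245525)
theorem F315454 : act 3 n152530 = n108254 := (sb E73564 F245526)
theorem F315455 : act 4 n152530 = n74316 := (sb E73564 F245527)
theorem F315456 : act 7 n152530 = n74313 := (sb E73564 (iv7 D156221))
theorem F315457 : act 2 n74631 = n39382 := (sb E73565 F234257)
theorem E76967 : n178584 = n156077 := ((((iv5 F245375)).symm.trans (sb E73565 D178584))).symm
theorem E76968 : n178585 = n156951 := (((D156951).symm.trans (sb E73565 D178585))).symm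
theorem F315458 : act 7 n74631 = n39383 := (sb E73565 F234258)
theorem F315459 : act 0 n61784 = n75327 := (sb E73566 (iv1 F249103))
theorem F315460 : act 1 n61784 = n75321 := (sb E73566 (iv0 D158145))
theorem F315461 : act 0 n133035 = n75321 := (sb E73567 (iv1 D158146))
theorem F315462 : act 1 n133035 = n75327 := (sb E73567 F249098)
theorem E76969 : n170280 = n131686 := (((F217672).symm.trans (sb E73567 F267793))).symm
theorem E76970 : n135391 = n55364 := ((((iv4 F87626)).symm.trans (sb E73568 (iv4 F217627)))).symm
theorem F315463 : act 5 n34486 = n62343 := (sb E73568 (iv5 D132842))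
theorem F315464 : act 0 n120300 = n71757 := (sb E73569 (iv1 D152156))
theorem F315465 : act 1 n120300 = n71762 := (sb E73569 F239212)
theorem F315466 : act 7 n120300 = n135392 := (sb E73569 F239213)
theorem F315467 : act 3 n132841 = n75593 := (sb E73570 F249100)
theorem F315468 : act 5 n132841 = n75321 := (sb E73570 (iv5 D158147))
theorem F315469 : act 1 n61147 = n75593 := (sb E73571 (iv0 D158454))
theorem F315470 : act 7 n61147 = n75611 := (sb E73571 F249667)
theorem F315471 : act 4 n60900 = n75593 := (sb E73572 (iv4 D158455))
theorem F315472 : act 1 n133857 = n75606 := (sb E73577 (iv0 D158484))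
theorem F315473 : act 4 n133857 = n167593 := (sb E73577 F263848)
theorem F315474 : act 0 n132766 = n75606 := (sb E73578 (iv1 D158485))
theorem F315475 : act 4 n132766 = n167594 := (sb E73578 F263852)
theorem F315476 : act 2 n61173 = n75606 := (sb E73579 (iv2 D158486))
theorem E76973 : n148838 = n134661 := (((D134661).symm.trans (sb E73580 F249687))).symm
theorem F315477 : act 4 n63274 = n75606 := (sb E73580 (iv4 D158487))
theorem F315478 : act 3 n133255 = n75608 := (sb E73581 F249689)
theorem F315479 : act 5 n133255 = n75606 := (sb E73581 (iv5 D158488))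
theorem F315480 : act 4 n129301 = n75608 := (sb E73582 (iv4 D158490))
theorem F315481 : act 6 n125161 = n84350 := (sb E73585 (iv6 D176978))
theorem E76974 : n84442 = n65108 := (((D65108).symm.trans (sb E73586 (iv6 D177238)))).symm
theorem E76975 : n139022 = n84446 := ((D139022).symm.trans (sb E73587 (iv6 D177246)))
theorem F315482 : act 6 n38936 = n60348 := (sb E73588 (iv6 D128358))
theorem F315483 : act 0 n84922 = n110616 := (sb E73590 (iv1 F175157))
theorem F315484 : act 2 n84922 = n110628 := (sb E73590 F175154)
theorem E76976 : n178467 = n108839 := ((D178467).symm.trans (sb E73590 F175155))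
theorem E76977 : n178469 = n52050 := ((D178469).symm.trans (sb E73590 F175156))
theorem F315485 : act 7 n84922 = n51943 := (sb E73590 (iv7 D112578))
theorem F315486 : act 0 n54940 = n110628 := (sb E73591 F175117)
theorem F315487 : act 1 n54940 = n51943 := (sb E73591 (iv0 F175118))
theorem E76978 : n119387 = n51933 := ((D119387).symm.trans (sb E73591 (iv4 D112562)))
theorem F315488 : act 7 n54940 = n110616 := (sb E73591 F175116)
theorem E76979 : n66177 = n17111 := ((((iv4 D35258)).symm.trans (sb E73592 (iv4 D141100)))).symm
theorem E76980 : n145710 = n36705 := ((((iv7 F57582)).symm.trans (sb E73592 (iv7 F228811)))).symm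
theorem E76981 : n175082 = n51935 := (((F166156).symm.trans (sb E73593 F278097))).symm
theorem E76982 : n174890 = n24810 := (((F166157).symm.trans (sb E73593 (iv0 F273785)))).symm
theorem F315489 : act 4 n50950 = n39287 := (sb E73593 (iv4 D84924))
theorem E76984 : n155145 = n107684 := ((((iv5 F166318)).symm.trans (sb E73593 (iv5 F243963)))).symm
theorem E76985 : n178447 = n59321 := (((F93542).symm.trans (sb E73593 (iv6 F278046)))).symm
theorem E76986 : n178448 = n126153 := ((D178448).symm.trans (sb E73594 F203253))
theorem E76989 : n167726 = n110616 := ((((iv2 F171200)).symm.trans (sb E73595 D167726))).symm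
theorem E76990 : n162002 = n31783 := ((((iv4 D68306)).symm.trans (sb E73595 (iv4 F305247)))).symm
theorem E76991 : n121033 = n110382 := ((((iv6 F170741)).symm.trans (sb E73595 (iv6 F193003)))).symm
theorem E76992 : n112686 = n83622 := (((iv1 F175363)).symm.trans (sb E73597 (iv1 D175085)))
theorem E76993 : n155122 = n30158 := (((F82669).symm.trans (sb E73597 (iv5 F274065)))).symm
theorem F315490 : act 0 n112577 = n75866 := (sb E73598 F205710)
theorem F315491 : act 4 n112577 = n127845 := (sb E73598 (iv4 F205707))
theorem F315492 : act 6 n112577 = n54822 := (sb E73598 (iv6 D119136))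
theorem E76994 : n112558 = n54968 := (((iv4 F175088)).symm.trans (sb E73599 (iv4 D119463)))
theorem E76995 : n112559 = n83623 := (((iv4 F175094)).symm.trans (sb E73600 F274068))
theorem E76996 : n155130 = n30354 := (((F100414).symm.trans (sb E73601 (iv5 F274063)))).symm
theorem F315493 : act 4 n113170 = n71701 := (sb E73602 (iv4 D152088))
theorem F315494 : act 7 n113170 = n75866 := (sb E73602 F239102)
theorem F315495 : act 1 n105438 = n144832 := (sb E73603 F247763)
theorem F315496 : act 2 n105438 = n68712 := (sb E73603 F247764)
theorem F315497 : act 5 n105438 = n148596 := (sb E73603 (iv5 F247757))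
theorem F315498 : act 6 n105438 = n68647 := (sb E73603 (iv6 D146416))
theorem F315499 : act 6 n105435 = n62777 := (sb E73604 (iv6 D133736))
theorem E76997 : n116209 = n59708 := (E73605).trans E75058
theorem E76998 : n127176 = n53670 := (((iv4 F204455)).symm.trans (sb E76997 F181106))
theorem E76999 : n62679 = n28332 := (((F94101).symm.trans (sb E76997 (iv5 F181108)))).symm
theorem E77000 : n116080 = n54314 := ((((iv5 F313058)).symm.trans (sb E73606 F181652))).symm
theorem F315500 : act 6 n70283 = n53670 := (sb E73606 (iv6 D116447))
theorem E77001 : n103747 = n72728 := ((D103747).symm.trans (sb E73607 (iv5 D153720)))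
theorem E77002 : n146025 = n103736 := (((D103736).symm.trans (sb E73608 (iv1 F229251)))).symm
theorem E77003 : n127441 = n103737 := (((D103737).symm.trans (sb E73608 F229247))).symm
theorem E77004 : n146023 = n103717 := ((((iv2 F159170)).symm.trans (sb E73608 F229244))).symm
theorem F315501 : act 4 n48036 = n55529 := (sb E73608 (iv4 D120576))
theorem E77005 : n124801 = n103738 := (((D103738).symm.trans (sb E73608 (iv7 F200466)))).symm
theorem F315502 : act 0 n38288 = n18422 := (sb E73609 (iv1 D38738))
theorem F315503 : act 1 n38288 = n83081 := (sb E73609 F128060)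
theorem E77006 : n84077 = n83167 := (((D83167).symm.trans (sb E73609 D84077))).symm
theorem F315504 : act 7 n38288 = n83080 := (sb E73609 F275606)
theorem E77010 : n185773 = n130992 := (((D130992).symm.trans (sb E73612 (iv3 F288094)))).symm
theorem E77011 : n130993 = n90550 := ((D130993).symm.trans (sb E73612 (iv5 F139368)))
theorem E77012 : n130994 = n41301 := ((D130994).symm.trans (sb E73612 (iv6 D88481)))
theorem E77013 : n185777 = n62538 := ((((iv7 F209626)).symm.trans (sb E73612 D185777))).symm
theorem E77014 : n129212 = n90576 := ((E76815).symm.trans ((D130997).symm.trans (sb E73613 (iv1 F139410))))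
theorem E77015 : n130998 = n90575 := ((D130998).symm.trans (sb E73613 F139407))
theorem F315505 : act 3 n61455 = n78916 := (sb E73613 (iv3 F135467))
theorem E77016 : n130999 = n44065 := ((D130999).symm.trans (sb E73613 F135466))
theorem E77017 : n131000 = n43414 := ((D131000).symm.trans (sb E73613 F135465))
theorem F315506 : act 0 n147303 = n81734 := (sb E73614 (iv1 F267923))
theorem F315507 : act 1 n147303 = n81723 := (sb E73614 (iv0 D170475))
theorem F315508 : act 7 n147303 = n167879 := (sb E73614 (iv7 F302813))
theorem E77018 : n152912 = n14727 := (E73615).trans E74625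
theorem E77019 : n147307 = n31170 := (((D31170).symm.trans (sb E77018 (iv5 F240138)))).symm
theorem E77020 : n170046 = n149530 := (E73616).trans E75091
theorem F315509 : act 0 n149530 = n167879 := (sb E77020 (iv1 F302809))
theorem F315510 : act 2 n149530 = n81734 := (sb E77020 F267491)
theorem F315511 : act 5 n149530 = n167897 := (sb E77020 F301940)
theorem F315512 : act 7 n149530 = n81723 := (sb E77020 F267492)
theorem E77021 : n157670 = n46059 := ((D157670).symm.trans (sb E73617 (iv0 D98487)))
theorem F315513 : act 3 n75118 = n86612 := (sb E73617 F272742)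
theorem F315514 : act 2 n60380 = n61080 := (sb E73618 F97208)
theorem F315515 : act 4 n60380 = n29488 := (sb E73618 (iv4 D62335))
theorem F315516 : act 4 n60379 = n61081 := (sb E73619 F208559)
theorem F315517 : act 5 n60379 = n65623 := (sb E73619 F208560)
theorem F315518 : act 7 n60379 = n61080 := (sb E73619 (iv7 D130086))
theorem F315519 : act 1 n130084 = n128308 := (sb E73620 F244271)
theorem F315520 : act 2 n130084 = n128313 := (sb E73620 F244269)
theorem F315521 : act 4 n130084 = n73801 := (sb E73620 (iv4 D155327))
theorem F315522 : act 6 n130084 = n146176 := (sb E73620 F244273)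
theorem F315523 : act 7 n130084 = n128314 := (sb E73620 (iv7 F244280))
theorem F315524 : act 6 n68546 = n61080 := (sb E73621 F208547)
theorem E77023 : n83949 = n31896 := (((F131559).symm.trans (sb E73621 F311099))).symm
theorem F315525 : act 4 n62336 = n70964 := (sb E73622 (iv4 D150551))
theorem E77024 : n178954 = n132827 := (((D132827).symm.trans (sb E73622 (iv6 F278834)))).symm
theorem E77025 : n129785 = n125101 := (((F200980).symm.trans (sb E73623 F212896))).symm
theorem E77026 : n163231 = n131037 := (((iv5 F313796)).symm.trans (sb E73623 F212897))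
theorem F315526 : act 6 n85560 = n62231 := (sb E73623 (iv6 D132632))
theorem E77027 : n138973 = n68830 := ((D138973).symm.trans (sb E73624 (iv1 F183433)))
theorem E77028 : n138974 = n54305 := ((D138974).symm.trans (sb E73624 (iv0 F237470)))
theorem F315527 : act 6 n65235 = n54278 := (sb E73624 F183431)
theorem E77029 : n138976 = n54032 := ((D138976).symm.trans (sb E73624 (iv7 D117233)))
theorem E77030 : n138989 = n68350 := ((D138989).symm.trans (sb E73625 (iv7 D145787)))
theorem F315528 : act 0 n30733 = n54006 := (sb E73626 (iv1 D117178))
theorem E77031 : n65570 = n54206 := (((iv3 F101289)).symm.trans (sb E73626 F237565))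
theorem E77032 : n145767 = n65582 := (((D65582).symm.trans (sb E73626 (iv4 F228900)))).symm
theorem F315529 : act 0 n31892 = n65583 := (sb E73627 (iv1 F101341))
theorem F315530 : act 1 n31892 = n50588 := (sb E73627 (iv0 F100991))
theorem F315531 : act 7 n31892 = n30621 := (sb E73627 (iv7 D65243))
theorem F315532 : act 5 n39055 = n60791 := (sb E73633 (iv5 D129362))
theorem F315533 : act 5 n129361 = n84573 := (sb E73634 (iv5 D177537))
theorem E77035 : n119126 = n86105 := (((iv1 F187443)).symm.trans (sb E73635 F276973))
theorem F315534 : act 1 n133599 = n67358 := (sb E73636 (iv0 D143809))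
theorem F315535 : act 2 n71774 = n67358 := (sb E73637 F182367)
theorem F315536 : act 7 n133598 = n67358 := (sb E73638 (iv7 D143812))
theorem F315537 : act 3 n117677 = n65574 := (sb E73639 F222868)
theorem E77036 : n147021 = n65567 := ((F230469).symm.trans (sb E73639 (iv5 D139689)))
theorem F315538 : act 4 n95868 = n68040 := (sb E73646 F228121)
theorem E77040 : n56246 = n53992 := ((((iv4 F85172)).symm.trans (sb E73649 F185165))).symm
theorem E77042 : n68532 = n56249 := (((iv4 F104723)).symm.trans (sb E73650 F185162))
theorem E77043 : n166354 = n146732 := (((D146732).symm.trans (sb E73651 D166354))).symm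
theorem E77044 : n146733 = n39215 := ((D146733).symm.trans (sb E73651 F122626))
theorem F315539 : act 6 n68795 = n166355 := (sb E73651 D166355)
theorem E77048 : n166352 = n146729 := (((D146729).symm.trans (sb E73653 D166352))).symm
theorem E77049 : n146730 = n39217 := ((D146730).symm.trans (sb E73653 F122620))
theorem E77051 : n178400 = n146106 := (((D146106).symm.trans (sb E73654 D178400))).symm
theorem E77052 : n178401 = n146107 := (((D146107).symm.trans (sb E73654 D178401))).symm
theorem E77053 : n178402 = n146100 := ((((iv2 F229337)).symm.trans (sb E73654 D178402))).symm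
theorem E77054 : n178374 = n146108 := (((D146108).symm.trans (sb E73654 (iv4 F277927)))).symm
theorem F315540 : act 4 n18628 = n31876 := (sb E73655 (iv4 D68515))
theorem F315541 : act 4 n17578 = n31995 := (sb E73656 (iv4 D68781))
theorem E77059 : n121746 = n105850 := ((D121746).symm.trans (sb E73657 F250541))
theorem E77060 : n166536 = n116919 := ((D166536).symm.trans (sb E73658 (iv1 F250690)))
theorem E77061 : n166537 = n127734 := ((D166537).symm.trans (sb E73658 F250691))
theorem F315542 : act 4 n79931 = n76143 := (sb E73658 F250688)
theorem F315543 : act 4 n56257 = n55584 := (sb E73659 F192297)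
theorem F315544 : act 6 n56257 = n55583 := (sb E73659 (iv6 D120647))
theorem E77063 : n98055 = n69533 := ((((iv1 F184499)).symm.trans (sb E73660 (iv1 F310836)))).symm
theorem F315545 : act 2 n117818 = n154985 := (sb E73660 (iv2 F243700))
theorem F315546 : act 3 n117818 = n154902 := (sb E73660 (iv3 F243590))
theorem F315547 : act 5 n117818 = n61533 := (sb E73660 (iv5 D131168))
theorem E77064 : n142381 = n117818 := ((D142381).symm.trans (iv7 (sb E73660 (tr F235345 E76222))))
theorem E77065 : n117819 = n116473 := ((((iv2 F181758)).symm.trans (iv2 (sb E73661 (tr (iv2 F235342) E76222))))).symm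
theorem E77066 : n131170 = n116473 := (E73661).trans E77065
theorem F315548 : act 3 n116473 = n67300 := (sb E77066 F311570)
theorem F315549 : act 5 n116473 = n61534 := (sb E77066 (iv5 D131170))
theorem F315550 : act 7 n116473 = n154985 := (sb E77066 (iv7 F243697))
theorem E77067 : n154985 = n69532 := ((((iv1 F184504)).symm.trans (sb E73662 (iv1 F243696)))).symm
theorem E77068 : n69531 = n66767 := ((F184502).symm.trans (sb E73662 (tr F243702 E76222)))
theorem F315551 : act 5 n117820 = n80554 := (sb E73662 F313079)
theorem F315552 : act 6 n117820 = n68899 := (sb E73662 (iv6 D146983))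
theorem F315553 : act 0 n117822 = n98054 := (sb E73663 F305587)
theorem F315554 : act 1 n117822 = n70958 := (sb E73663 (iv0 F307616))
theorem F315555 : act 2 n117822 = n80554 := (sb E73663 F305588)
theorem F315556 : act 4 n117822 = n122619 := (sb E73663 F305589)
theorem F315557 : act 6 n117822 = n69410 := (sb E73663 (iv6 D148163))
theorem E77069 : n98051 = n69535 := (((F184508).symm.trans (sb E73663 F305590))).symm
theorem E77070 : n154984 = n69534 := (((D69534).symm.trans (sb E73664 (iv4 F243695)))).symm
theorem E77071 : n78271 = n75556 := (((iv1 F119469)).symm.trans (sb E73666 (iv1 F116518)))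
theorem E77072 : n79547 = n75555 := ((F304994).symm.trans (sb E73666 F116519))
theorem E77073 : n98232 = n86089 := ((((iv3 F132046)).symm.trans (sb E73666 (iv3 F151586)))).symm
theorem E77075 : n58685 = n35431 := (((iv7 F92703)).symm.trans (sb E73666 (iv7 D77617)))
theorem F315558 : act 6 n71740 = n54269 := (sb E73667 (iv6 D117824))
theorem E77076 : n69537 = n26415 := ((D69537).symm.trans (sb E73668 (iv6 D54620)))
theorem F315559 : act 5 n69574 = n61602 := (sb E73669 (iv5 F109896))
theorem F315560 : act 6 n69574 = n32524 := (sb E73669 (iv6 D70094))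
theorem E77077 : n149183 = n59962 := (((D59962).symm.trans (sb E73670 (iv1 F234558)))).symm
theorem E77078 : n131595 = n59963 := (((D59963).symm.trans (sb E73670 (iv0 F210847)))).symm
theorem E77079 : n140944 = n59961 := ((((iv2 F94444)).symm.trans (sb E73670 (tr F234552 E75320)))).symm
theorem E77083 : n148529 = n79764 := (((D79764).symm.trans (sb E73671 (iv4 F233291)))).symm
theorem E77089 : n128124 = n117885 := ((((iv1 F184860)).symm.trans (sb E73675 F215807))).symm
theorem E77090 : n149297 = n148483 := (((D148483).symm.trans (sb E73675 (iv2 F234671)))).symm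
theorem E77091 : n148485 = n92470 := ((D148485).symm.trans (sb E73675 (iv4 F290413)))
theorem E77092 : n148486 = n61591 := ((D148486).symm.trans (sb E73675 (iv5 D131259)))
theorem E77093 : n149296 = n148488 := (((D148488).symm.trans (sb E73675 F234667))).symm
theorem E77094 : n149479 = n148489 := (((D148489).symm.trans (sb E73676 F235091))).symm
theorem E77095 : n148490 = n92518 := ((D148490).symm.trans (sb E73676 (iv4 F290412)))
theorem E77096 : n148491 = n61592 := ((D148491).symm.trans (sb E73676 (iv5 D131263)))
theorem E77097 : n149417 = n148492 := (((D148492).symm.trans (sb E73676 (iv6 F234971)))).symm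
theorem E77098 : n148495 = n131615 := ((D148495).symm.trans (sb E73677 (iv1 F282893)))
theorem E77099 : n150632 = n148493 := ((((iv2 F233249)).symm.trans (sb E73677 F305779))).symm
theorem E77100 : n153270 = n148497 := (((D148497).symm.trans (sb E73677 (iv4 F240803)))).symm
theorem E77101 : n117886 = n62917 := (((iv7 F184864)).symm.trans (sb E73677 (iv7 D133951)))
theorem E77102 : n148488 = n117883 := (((D117883).symm.trans (sb E73678 (tr D149296 E77093)))).symm
theorem E77103 : n148483 = n117884 := (((D117884).symm.trans (sb E73678 (tr D149297 E77090)))).symm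
theorem E77104 : n149295 = n117873 := ((((iv4 F184844)).symm.trans (sb E73678 (iv4 F234664)))).symm
theorem F315561 : act 1 n61759 = n32303 := (sb E73679 (iv0 D69581))
theorem F315562 : act 0 n61824 = n32303 := (sb E73680 (iv1 D69582))
theorem E77108 : n125345 = n82583 := (((iv3 F201622)).symm.trans (sb E73681 F193789))
theorem F315563 : act 5 n29768 = n26249 := (sb E73682 (iv5 D54298))
theorem F315564 : act 7 n29768 = n32303 := (sb E73682 F85685)
theorem F315565 : act 6 n66413 = n54361 := (sb E73684 (iv6 D118011))
theorem F315566 : act 5 n139857 = n68560 := (sb E73685 (iv5 D146204))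
theorem F315567 : act 4 n139855 = n106319 := (sb E73688 F229513)
theorem F315568 : act 5 n139855 = n68565 := (sb E73688 (iv5 D146217))
theorem F315569 : act 6 n139855 = n70278 := (sb E73688 (iv6 F229512))
theorem E77111 : n66417 = n59994 := ((((iv1 F104781)).symm.trans (sb E73689 (iv1 D141601)))).symm
theorem E77112 : n68385 = n66422 := ((D68385).symm.trans (sb E73689 F224678))
theorem F315570 : act 6 n81715 = n59766 := (sb E73690 (iv6 D127325))
theorem E77116 : n116167 = n54020 := (((D54020).symm.trans (sb E73693 (iv3 F180980)))).symm
theorem E77117 : n116185 = n31004 := (((F105863).symm.trans (sb E73693 D116185))).symm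
theorem F315571 : act 5 n26133 = n25932 := (sb E73693 (iv5 D53547))
theorem F315572 : act 6 n26133 = n25935 := (sb E73693 F84458)
theorem F315573 : act 7 n117398 = n67339 := (sb E73695 (iv7 D143772))
theorem F315574 : act 6 n31005 = n32609 := (sb E73697 F104791)
theorem F315575 : act 1 n68595 = n68386 := (sb E73698 F310943)
theorem E77118 : n150463 = n146279 := ((((iv3 F229605)).symm.trans (sb E73698 D150463))).symm
theorem F315576 : act 4 n68595 = n54101 := (sb E73698 F110663)
theorem E77119 : n146259 = n66415 := (((D66415).symm.trans (sb E73699 D146259))).symm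
theorem F315577 : act 6 n62853 = n68595 := (sb E73700 (iv6 D146281))
theorem E77120 : n141585 = n68581 := (E73701).trans E76629
theorem E77121 : n146252 = n66412 := (((iv3 F229551)).symm.trans (sb E77120 F224649))
theorem E77122 : n146257 = n48937 := ((D146257).symm.trans (sb E77120 (tr F224650 E76507)))
theorem E77123 : n127527 = n95938 := (((D95938).symm.trans (sb E73705 (iv1 F204987)))).symm
theorem E77124 : n95939 = n28463 := ((D95939).symm.trans (sb E73705 (iv0 D59928)))
theorem E77125 : n95926 = n69249 := (((iv2 F147581)).symm.trans (sb E73705 (iv2 F192091)))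
theorem F315578 : act 4 n44780 = n69248 := (sb E73705 F192092)
theorem E77127 : n127627 = n95940 := (((D95940).symm.trans (sb E73705 D127627))).symm
theorem E77128 : n127525 = n95941 := (((D95941).symm.trans (sb E73705 (iv7 F204981)))).symm
theorem F315579 : act 2 n44619 = n21323 := (sb E73706 F70358)
theorem E77131 : n95910 = n95521 := (((D95521).symm.trans (sb E73706 (iv3 F147568)))).symm
theorem F315580 : act 4 n44619 = n69251 := (sb E73706 (iv4 F312762))
theorem E77132 : n95921 = n95523 := (((D95523).symm.trans (sb E73706 (iv5 F147577)))).symm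
theorem F315581 : act 7 n44619 = n21322 := (sb E73706 (iv7 D44776))
theorem F315582 : act 2 n44618 = n21322 := (sb E73707 (iv2 D44771))
theorem E77133 : n95900 = n95516 := (((D95516).symm.trans (sb E73707 D95900))).symm
theorem E77134 : n95901 = n95517 := (((D95517).symm.trans (sb E73707 D95901))).symm
theorem E77135 : n95902 = n95518 := (((D95518).symm.trans (sb E73707 D95902))).symm
theorem E77136 : n95903 = n95519 := (((D95519).symm.trans (sb E73707 D95903))).symm
theorem F315583 : act 7 n44618 = n21323 := (sb E73707 (iv7 F70357))
theorem E77137 : n68974 = n44998 := (((D44998).symm.trans (sb E73708 (iv1 F105172)))).symm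
theorem E77138 : n68971 = n44999 := (((D44999).symm.trans (sb E73708 (iv0 F105158)))).symm
theorem E77139 : n109886 = n44994 := ((((iv3 F70756)).symm.trans (sb E73708 F169891))).symm
theorem F315584 : act 4 n21485 = n28446 := (sb E73708 (iv4 D59887))
theorem E77140 : n111833 = n45000 := (((D45000).symm.trans (sb E73708 (iv5 F173643)))).symm
theorem E77141 : n45001 = n28451 := ((D45001).symm.trans (sb E73708 F94358))
theorem F315585 : act 0 n149668 = n76046 := (sb E73711 (iv1 D159124))
theorem F315586 : act 4 n159125 = n84995 := (sb E73712 F278211)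
theorem F315587 : act 6 n159125 = n84994 := (sb E73712 (iv6 D178527))
theorem F315588 : act 7 n159125 = n146981 := (sb E73712 (iv7 F278212))
theorem E77143 : n159126 = n79932 := (E73713).trans E73905
theorem E77144 : n166544 = n76046 := ((D166544).symm.trans (sb E77143 (iv6 D159126)))
theorem E77147 : n148384 = n54925 := ((((iv2 F131619)).symm.trans (sb E73714 (iv2 F232153)))).symm
theorem F315589 : act 6 n33796 = n32281 := (sb E73714 (iv6 D69536))
theorem F315590 : act 4 n53893 = n28343 := (sb E73718 F94118)
theorem E77156 : n36397 = n31880 := (((D31880).symm.trans (sb E73720 F106532))).symm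
theorem E77159 : n117155 = n36400 := (((iv4 F183259)).symm.trans (sb E73721 F106531))
theorem E77161 : n166156 = n146137 := (((D146137).symm.trans (sb E73722 (iv3 F261635)))).symm
theorem E77162 : n166158 = n83327 := (((E75147).symm.trans ((D146139).symm.trans (sb E73722 D166158)))).symm
theorem E77164 : n166163 = n80085 := ((((iv3 F312989)).symm.trans (sb E73726 (iv3 F261644)))).symm
theorem F315591 : act 2 n68500 = n73535 := (sb E73727 (iv2 D154993))
theorem F315592 : act 3 n73526 = n56256 := (sb E73728 (iv3 D121745))
theorem E77166 : n154983 = n58216 := ((D154983).symm.trans (sb E73728 F194306))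
theorem F315593 : act 2 n69523 = n146980 := (sb E73729 (iv2 F313081))
theorem F315594 : act 5 n69523 = n87470 := (sb E73729 F298596)
theorem E77167 : n117828 = n81774 := (((iv1 F184527)).symm.trans (sb E73730 (iv1 F299190)))
theorem E77168 : n117827 = n81796 := ((F184523).symm.trans (sb E73730 (iv0 F299186)))
theorem E77169 : n167843 = n148347 := (((D148347).symm.trans (sb E73730 D167843))).symm
theorem E77170 : n148348 = n36758 := ((D148348).symm.trans (sb E73730 (iv5 D80555)))
theorem F315595 : act 6 n69520 = n146980 := (sb E73730 (iv6 F313083))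
theorem E77171 : n117829 = n45781 := (((iv7 F184525)).symm.trans (sb E73730 F123843))
theorem E77172 : n141593 = n56076 := (((F192714).symm.trans (sb E73732 (iv2 F224668)))).symm
theorem F315596 : act 4 n120816 = n65649 := (sb E73732 (iv4 D139861))
theorem E77173 : n65652 = n56015 := (((F192715).symm.trans (sb E73732 F223064))).symm
theorem F315597 : act 6 n44474 = n32279 := (sb E73733 (iv6 D69526))
theorem E77177 : n143734 = n32274 := (((D32274).symm.trans (sb E73734 (iv1 F311577)))).symm
theorem E77178 : n148337 = n81774 := ((D148337).symm.trans (sb E73735 (iv2 F299191)))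
theorem E77179 : n164360 = n148339 := (((D148339).symm.trans (sb E73735 (iv4 F312552)))).symm
theorem E77180 : n148340 = n62714 := ((D148340).symm.trans (sb E73735 F310269))
theorem E77181 : n148342 = n81796 := ((D148342).symm.trans (sb E73735 (iv7 F299188)))
theorem E77182 : n177317 = n148343 := (((D148343).symm.trans (sb E73736 (iv3 F276694)))).symm
theorem E77184 : n148345 = n38958 := ((D148345).symm.trans (sb E73736 (iv5 D84479)))
theorem E77185 : n148346 = n31170 := ((D148346).symm.trans (sb E73736 (tr (iv6 F313077) E77019)))
theorem E77186 : n148350 = n81740 := ((D148350).symm.trans (sb E73737 (iv1 D170521)))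
theorem E77187 : n148351 = n81743 := ((D148351).symm.trans (sb E73737 F267961))
theorem E77188 : n148352 = n98062 := ((D148352).symm.trans (sb E73737 F298598))
theorem E77189 : n117830 = n86386 := (((iv7 F184530)).symm.trans (sb E73737 (iv7 F299192)))
theorem F315598 : act 3 n39988 = n32279 := (sb E73738 F105810)
theorem F315599 : act 5 n39988 = n32278 := (sb E73738 (iv5 D69522))
theorem F315600 : act 3 n39987 = n26239 := (sb E73739 (iv3 D54271))
theorem F315601 : act 7 n39987 = n32278 := (sb E73739 F85612)
theorem F315602 : act 0 n62569 = n32282 := (sb E73740 (iv1 F105822))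
theorem F315603 : act 1 n62569 = n32279 := (sb E73740 (iv0 D69524))
theorem E77194 : n148362 = n122685 := ((((iv3 F305592)).symm.trans (sb E73740 D148362))).symm
theorem F315604 : act 5 n62569 = n55173 := (sb E73740 F105812)
theorem F315605 : act 2 n69525 = n71746 := (sb E73741 (iv2 F186584))
theorem E77195 : n143840 = n133324 := ((F226477).symm.trans (sb E73741 (iv6 F214309)))
theorem F315606 : act 7 n69525 = n61410 := (sb E73741 F186585)
theorem E77196 : n125332 = n34572 := (((iv3 F201597)).symm.trans (sb E73742 F113405))
theorem E77198 : n39843 = n34567 := ((F92730).symm.trans (sb E73742 (iv7 D75558)))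
theorem F315607 : act 2 n33167 = n32282 := (sb E73743 F85613)
theorem F315608 : act 5 n33167 = n26239 := (sb E73743 (iv5 D54272))
theorem F315609 : act 7 n33167 = n32279 := (sb E73743 F85615)
theorem F315610 : act 0 n30755 = n31804 := (sb E73744 (iv1 D68345))
theorem E77200 : n127758 = n65645 := ((((iv3 F101377)).symm.trans (sb E73744 (iv3 F237572)))).symm
theorem E77201 : n145774 = n56015 := (((E77173).symm.trans ((D65652).symm.trans (sb E73744 D145774)))).symm
theorem F315611 : act 6 n32522 = n54297 := (sb E73745 (iv6 D117887))
theorem E77202 : n148928 = n69619 := ((((iv1 F184795)).symm.trans (sb E73746 F307458))).symm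
theorem F315612 : act 2 n117849 = n166124 := (sb E73746 (iv2 F261581))
theorem F315613 : act 3 n117849 = n80582 := (sb E73746 (iv3 F309516))
theorem F315614 : act 5 n117849 = n62779 := (sb E73746 (iv5 D133744))
theorem F315615 : act 7 n117849 = n81742 := (sb E73746 (iv7 F309517))
theorem F315617 : act 5 n117850 = n62780 := (sb E73747 (iv5 D133749))
theorem E77203 : n117850 = n116039 := (((D116039).symm.trans (iv6 (sb E73747 (tr (iv6 F252872) E76274))))).symm
theorem E77204 : n133749 = n116039 := (E73747).trans E77203
theorem F315618 : act 7 n116039 = n166124 := (sb E77204 (iv7 F261579))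
theorem F315619 : act 5 n117851 = n71006 := (sb E73748 (iv5 D150633))
theorem F315620 : act 3 n80566 = n54285 := (sb E73749 F184801)
theorem F315621 : act 5 n80566 = n54284 := (sb E73749 (iv5 D117852))
theorem E77205 : n69620 = n61820 := (((F303046).symm.trans (sb E73749 F184802))).symm
theorem E77206 : n81742 = n69617 := (((D69617).symm.trans (sb E73750 F311704))).symm
theorem E77207 : n166124 = n69618 := (((D69618).symm.trans (sb E73750 D166124))).symm
theorem E77208 : n166123 = n69607 := ((((iv4 F105888)).symm.trans (sb E73750 (iv4 F261578)))).symm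
theorem F315622 : act 6 n32319 = n36323 := (sb E73750 (iv6 D79765))
theorem E77209 : n105846 = n69647 := ((D105846).symm.trans (sb E73751 F214298))
theorem E77210 : n105844 = n66113 := (((iv2 F162534)).symm.trans (sb E73751 F182742))
theorem E77212 : n105812 = n31670 := (((iv4 F162518)).symm.trans (sb E73751 F104179))
theorem E77213 : n118908 = n86104 := ((((iv3 F132060)).symm.trans (sb E73752 F186960))).symm
theorem E77215 : n58695 = n35460 := (((iv7 F92733)).symm.trans (sb E73752 (iv7 D77672)))
theorem F315623 : act 6 n62912 = n54285 := (sb E73753 (iv6 D117854))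
theorem F315624 : act 5 n29298 = n15232 := (sb E73754 (iv5 D32320))
theorem F315625 : act 7 n29298 = n54285 := (sb E73754 (iv7 F85651))
theorem F315626 : act 1 n32853 = n68595 := (sb E73764 F229558)
theorem E77219 : n66381 = n31902 := (((D31902).symm.trans (sb E73766 (iv3 F102276)))).symm
theorem F315627 : act 6 n15049 = n14672 := (sb E73766 F49428)
theorem E77223 : n143654 = n70327 := ((((iv2 F106790)).symm.trans (sb E73770 (iv2 F226332)))).symm
theorem E77225 : n116761 = n66881 := (((E75097).symm.trans ((D70345).symm.trans (sb E73771 (iv1 F182199))))).symm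
theorem E77226 : n116760 = n70346 := (((D70346).symm.trans (sb E73771 F182205))).symm
theorem F315628 : act 4 n53895 = n45421 := (sb E73772 (iv4 D97196))
theorem F315629 : act 4 n61586 = n81667 := (sb E73775 (iv4 D170297))
theorem E77229 : n128424 = n66396 := ((((iv3 F102281)).symm.trans (sb E73777 (iv3 F206555)))).symm
theorem F315631 : act 3 n39619 = n53554 := (sb E73778 (iv3 D116204))
theorem E77232 : n85785 = n66448 := ((D85785).symm.trans (sb E73778 F181092))
theorem E77234 : n124522 = n47811 := (E73781).trans E73786
theorem E77235 : n103133 = n58120 := ((D103133).symm.trans (sb E77234 (iv2 D124522)))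
theorem E77236 : n103138 = n58121 := ((D103138).symm.trans (sb E77234 (iv7 F199188)))
theorem F315632 : act 0 n124523 = n68453 := (sb E73782 F243208)
theorem F315633 : act 7 n124523 = n59852 := (sb E73782 (iv7 D127433))
theorem F315634 : act 4 n95587 = n58120 := (sb E73783 (iv4 D124524))
theorem F315635 : act 0 n124525 = n147186 := (sb E73784 (iv1 F243148))
theorem F315636 : act 1 n124525 = n68521 := (sb E73784 F243093)
theorem F315637 : act 2 n124525 = n148872 := (sb E73784 (iv2 F233911))
theorem F315638 : act 6 n124525 = n148869 := (sb E73784 (iv6 F233906))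
theorem F315639 : act 7 n124525 = n59856 := (sb E73784 (iv7 D127439))
theorem F315640 : act 7 n28417 = n58120 := (sb E73785 (iv7 D124527))
theorem E77237 : n148872 = n103136 := (((D103136).symm.trans (sb E73786 F243308))).symm
theorem F315641 : act 6 n47811 = n59884 := (sb E73786 F243309)
theorem F315642 : act 5 n142659 = n117907 := (sb E73789 F230450)
theorem F315643 : act 3 n85217 = n68098 := (sb E73795 F222138)
theorem F315644 : act 3 n38599 = n68096 := (sb E73796 (iv3 D145260))
theorem F315645 : act 3 n131440 = n83772 := (sb E73797 F274230)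
theorem F315646 : act 3 n145261 = n83773 := (sb E73798 F274231)
theorem F315647 : act 2 n145262 = n83765 := (sb E73799 F274229)
theorem F315648 : act 1 n61717 = n83672 := (sb E73802 (iv0 D175189))
theorem F315649 : act 2 n74805 = n83672 := (sb E73803 F188265)
theorem E77238 : n157313 = n75588 := ((D157313).symm.trans (sb E73803 F188267))
theorem F315650 : act 3 n41639 = n71420 := (sb E73804 (iv3 D151498))
theorem F315651 : act 0 n131548 = n83508 := (sb E73805 F305498)
theorem F315653 : act 2 n131548 = n83767 := (sb E73805 F249598)
theorem F315654 : act 5 n131548 = n75559 := (sb E73805 (iv5 D158418))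
theorem F315655 : act 7 n131548 = n83772 := (sb E73805 F249599)
theorem E77239 : n129313 = n83382 := (((iv1 F213574)).symm.trans (sb E73806 (iv1 F273259)))
theorem E77240 : n162557 = n134527 := (((D134527).symm.trans (sb E73806 (iv0 F301500)))).symm
theorem E77241 : n132076 = n38797 := (((iv2 F211608)).symm.trans (sb E73806 (iv2 D84171)))
theorem E77242 : n84045 = n29888 := (((F98468).symm.trans (sb E73806 (iv3 F301388)))).symm
theorem E77244 : n134529 = n83069 := ((D134529).symm.trans (sb E73806 F129207))
theorem E77245 : n173711 = n132095 := ((((iv7 F211635)).symm.trans (sb E73806 (iv7 F272259)))).symm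
theorem F315656 : act 4 n68098 = n83672 := (sb E73807 (iv4 D175191))
theorem F315657 : act 1 n38739 = n134561 := (sb E73809 D134561)
theorem E77248 : n134562 = n84079 := (((D84079).symm.trans (sb E73809 D134562))).symm
theorem F315658 : act 0 n38718 = n134517 := (sb E73810 D134517)
theorem E77252 : n84046 = n29885 := ((D84046).symm.trans (sb E73810 (iv5 D63214)))
theorem E77255 : n117721 = n53664 := ((((iv3 F84661)).symm.trans (sb E73812 D117721))).symm
theorem F315659 : act 0 n15206 = n14725 := (sb E73813 F47163)
theorem F315660 : act 1 n15206 = n12320 := (sb E73813 F47164)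
theorem F315661 : act 2 n15206 = n14676 := (sb E73813 (iv2 F49079))
theorem F315662 : act 7 n15206 = n14681 := (sb E73813 (iv7 F49081))
theorem E77259 : n146103 = n31877 := ((((iv4 F313260)).symm.trans (sb E73814 (iv4 F229341)))).symm
theorem F315663 : act 0 n53885 = n35848 := (sb E73815 (iv1 D78730))
theorem F315664 : act 1 n53885 = n86271 := (sb E73815 F132237)
theorem E77260 : n163899 = n116746 := ((((iv3 F182182)).symm.trans (sb E73815 D163899))).symm
theorem E77261 : n116922 = n36398 := ((D116922).symm.trans (sb E73815 F119868))
theorem F315665 : act 7 n53885 = n86268 := (sb E73815 F132226)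
theorem F315666 : act 4 n78729 = n75143 := (sb E73816 F248526)
theorem E77263 : n163898 = n114604 := ((D163898).symm.trans (sb E73816 (iv6 F306219)))
theorem F315667 : act 7 n78729 = n75140 := (sb E73816 (iv7 D157711))
theorem E77264 : n148576 = n79858 := ((((iv3 F122604)).symm.trans (sb E73818 D148576))).symm
theorem F315668 : act 4 n36376 = n32324 := (sb E73818 (iv4 D69629))
theorem F315669 : act 6 n36376 = n34694 := (sb E73818 F105900)
theorem F315670 : act 0 n123062 = n57780 := (sb E73820 (iv1 D124027))
theorem F315671 : act 1 n123062 = n157409 := (sb E73820 F304476)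
theorem F315672 : act 6 n65122 = n73483 := (sb E73821 (iv6 D154923))
theorem F315673 : act 0 n59986 = n30580 := (sb E73822 (iv1 D65133))
theorem F315674 : act 2 n59986 = n65653 := (sb E73822 (iv2 F101385))
theorem E77266 : n127752 = n112834 := ((D127752).symm.trans (sb E73822 (iv4 F175679)))
theorem F315675 : act 5 n59986 = n31424 := (sb E73822 F100908)
theorem F315676 : act 7 n59986 = n31423 := (sb E73822 F100907)
theorem F315677 : act 0 n53879 = n65653 := (sb E73823 (iv1 F101388))
theorem F315678 : act 1 n53879 = n31423 := (sb E73823 (iv0 F100910))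
theorem E77268 : n138699 = n116907 := ((((iv3 F182659)).symm.trans (sb E73823 (iv3 F221852)))).symm
theorem E77269 : n138727 = n116909 := ((((iv4 F182664)).symm.trans (sb E73823 (iv4 F221876)))).symm
theorem F315679 : act 7 n53879 = n30580 := (sb E73823 (iv7 D65135))
theorem E77270 : n66429 = n66307 := (((E76447).symm.trans ((F311535).symm.trans (sb E73824 (iv1 F181082))))).symm
theorem E77271 : n68005 = n66428 := ((F311536).symm.trans (sb E73824 F181080))
theorem F315680 : act 2 n114625 = n53551 := (sb E73824 (iv2 D116198))
theorem E77272 : n66430 = n60435 := (((F311539).symm.trans (sb E73824 F181079))).symm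
theorem E77273 : n116196 = n48865 := (((F173688).symm.trans (iv2 (sb E73825 (tr (iv2 F206660) E76447))))).symm
theorem E77274 : n128497 = n48865 := (E73825).trans E77273
theorem E77275 : n117199 = n105702 := (((D105702).symm.trans (sb E77274 (iv5 F206659)))).symm
theorem E77277 : n141624 = n116197 := ((D141624).symm.trans (iv2 (sb E73826 (tr F187664 E77271))))
theorem F315681 : act 5 n116197 = n128456 := (sb E73826 (iv5 F206592))
theorem F315682 : act 6 n116197 = n54458 := (sb E73826 (iv6 D118237))
theorem E77278 : n141349 = n116197 := ((D141349).symm.trans (iv7 (sb E73826 (tr (iv7 F187665) E76447))))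
theorem F315683 : act 5 n31646 = n53551 := (sb E73828 (iv5 D116200))
theorem E77280 : n66432 = n14884 := ((((iv7 D31646)).symm.trans (sb E73828 F181086))).symm
theorem F315684 : act 3 n38179 = n76930 := (sb E73830 F253499)
theorem E77281 : n120023 = n83567 := ((((iv5 F128651)).symm.trans (sb E73831 (iv5 F309208)))).symm
theorem F315685 : act 6 n38526 = n76930 := (sb E73831 (iv6 D160482))
theorem F315686 : act 0 n68558 = n62224 := (sb E75615 (iv1 D132613))
theorem F315687 : act 1 n68558 = n121461 := (sb E75615 (iv0 F306870))
theorem F315688 : act 2 n68558 = n129763 := (sb E75615 F212849)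
theorem F315689 : act 5 n68558 = n129360 := (sb E75615 (iv5 F212848))
theorem E77282 : n178531 = n116448 := (((D116448).symm.trans (sb E75096 F278225))).symm
theorem E77283 : n116449 = n67302 := ((D116449).symm.trans (sb E75096 (tr (iv5 D148647) E74259)))
theorem E77284 : n146969 = n142676 := (((D142676).symm.trans (sb E73836 (iv3 F230359)))).symm
theorem E77285 : n132503 = n58457 := (((iv5 F212640)).symm.trans (sb E73836 (iv5 D125037)))
theorem F315690 : act 2 n139705 = n146974 := (sb E73837 F230869)
theorem F315691 : act 5 n139705 = n69034 := (sb E73837 (iv5 D147264))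
theorem F315692 : act 6 n139705 = n120706 := (sb E73837 (iv6 F230871))
theorem F315693 : act 0 n114791 = n145911 := (sb E73838 F229086)
theorem F315694 : act 1 n114791 = n146019 := (sb E73838 (iv0 F264322))
theorem F315695 : act 2 n114791 = n125202 := (sb E73838 F227858)
theorem F315696 : act 3 n114791 = n67920 := (sb E73838 F227859)
theorem F315697 : act 6 n114791 = n67917 := (sb E73838 (iv6 D144900))
theorem F315698 : act 7 n114791 = n146018 := (sb E73838 (iv7 F251072))
theorem F315699 : act 5 n66857 = n69747 := (sb E73839 (iv5 D148814))
theorem E77286 : n116501 = n26567 := ((D116501).symm.trans (sb E73840 (iv1 D54933)))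
theorem E77287 : n116502 = n39313 := ((D116502).symm.trans (sb E73840 F86879))
theorem E77288 : n116481 = n39311 := (((iv2 F181778)).symm.trans (sb E73840 F130246))
theorem E77289 : n119363 = n116500 := ((((iv4 F181820)).symm.trans (sb E73840 D119363))).symm
theorem E77290 : n116503 = n54729 := ((D116503).symm.trans (sb E73840 F113940))
theorem F315700 : act 5 n26467 = n25987 := (sb E73841 (iv5 D53700))
theorem E77297 : n117394 = n116420 := (((iv6 F183848)).symm.trans (sb E73842 (iv6 F181619)))
theorem F315701 : act 6 n53668 = n26625 := (sb E73844 F85388)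
theorem F315702 : act 0 n143755 = n166272 := (sb E73845 (iv1 F261791))
theorem F315703 : act 1 n143755 = n70088 := (sb E73845 (iv0 D149291))
theorem F315704 : act 3 n143755 = n78948 := (sb E73845 F290288)
theorem F315705 : act 6 n143755 = n78942 := (sb E73845 F290289)
theorem F315706 : act 5 n139269 = n67335 := (sb E73846 (iv5 D143756))
theorem F315707 : act 6 n81774 = n67335 := (sb E73847 (iv6 D143757))
theorem F315709 : act 0 n143750 = n70088 := (sb E73849 (iv1 D149292))
theorem F315710 : act 1 n143750 = n166272 := (sb E73849 (iv0 F261789))
theorem F315711 : act 3 n143750 = n105394 := (sb E73849 F290376)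
theorem E77299 : n143750 = n142714 := (((D142714).symm.trans (iv6 (sb E73849 (tr (iv6 F290342) E74518))))).symm
theorem F315712 : act 5 n133783 = n67334 := (sb E73850 (iv5 D143751))
theorem E77300 : n143752 = n31165 := (E73851).trans E74515
theorem E77301 : n67334 = n66905 := (((D66905).symm.trans (sb E77300 (iv6 D143752)))).symm
theorem F315713 : act 0 n143760 = n69060 := (sb E73852 (iv1 F230476))
theorem F315714 : act 1 n143760 = n69019 := (sb E73852 F230475)
theorem F315715 : act 3 n143760 = n119693 := (sb E73852 F230472)
theorem F315716 : act 4 n143760 = n164510 := (sb E73852 F259267)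
theorem F315717 : act 7 n143760 = n69058 := (sb E73852 F230474)
theorem F315718 : act 0 n143761 = n153925 := (sb E73853 F261798)
theorem F315719 : act 2 n143761 = n149290 := (sb E73853 F261796)
theorem F315720 : act 4 n143761 = n79845 := (sb E73853 (iv4 D166274))
theorem F315721 : act 7 n143761 = n149287 := (sb E73853 F261797)
theorem F315722 : act 1 n143762 = n153925 := (sb E73854 F261811)
theorem F315723 : act 2 n143762 = n149287 := (sb E73854 F261807)
theorem F315724 : act 4 n143762 = n79846 := (sb E73854 (iv4 D166276))
theorem F315725 : act 7 n143762 = n149290 := (sb E73854 F261808)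
theorem F315726 : act 3 n120108 = n67337 := (sb E73855 F205379)
theorem F315727 : act 4 n120108 = n59991 := (sb E73855 (iv4 D127759))
theorem F315728 : act 4 n120105 = n67339 := (sb E73856 F226425)
theorem F315729 : act 6 n120105 = n67337 := (sb E73856 (iv6 D143764))
theorem F315730 : act 0 n143769 = n69058 := (sb E73857 (iv1 F230415))
theorem F315731 : act 2 n143769 = n69060 := (sb E73857 F230411)
theorem F315732 : act 3 n143769 = n147267 := (sb E73857 (iv3 F230879))
theorem F315733 : act 4 n143769 = n76352 := (sb E73857 (iv4 F230414))
theorem F315734 : act 5 n143769 = n68907 := (sb E73857 (iv5 D146997))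
theorem F315735 : act 6 n143769 = n147267 := (sb E73857 (iv6 F230882))
theorem F315736 : act 7 n143769 = n69019 := (sb E73857 F230412)
theorem F315737 : act 0 n32122 = n67339 := (sb E73858 (iv1 D143770))
theorem F315738 : act 1 n73470 = n54267 := (sb E73859 F184484)
theorem E77302 : n68903 = n15218 := ((((iv1 F41097)).symm.trans (sb E73869 F130515))).symm
theorem E77305 : n53764 = n26291 := ((D53764).symm.trans (sb E73870 F85833))
theorem E77306 : n118051 = n53765 := (((D53765).symm.trans (sb E73870 (iv4 F185446)))).symm
theorem E77307 : n53767 = n26288 := ((D53767).symm.trans (sb E73870 (iv6 D54377)))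
theorem E77308 : n149724 = n53769 := (((D53769).symm.trans (sb E73871 (iv3 F235454)))).symm
theorem E77309 : n53794 = n53772 := (((D53772).symm.trans (sb E73871 (tr F230386 E76214)))).symm
theorem F315739 : act 1 n127321 = n101278 := (sb E73874 (iv0 F307154))
theorem F315740 : act 3 n127321 = n79762 := (sb E73874 (iv3 D166114))
theorem F315741 : act 4 n127321 = n154038 := (sb E73874 F261555)
theorem F315742 : act 5 n127321 = n150423 := (sb E73874 F261553)
theorem E77311 : n149297 = n117884 := (E77090).trans E77103
theorem F315743 : act 6 n127321 = n117884 := (sb E73874 (tr (iv6 F261558) E77311))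
theorem F315744 : act 7 n127321 = n149335 := (sb E73874 F261554)
theorem F315745 : act 3 n127322 = n73738 := (sb E73875 F305225)
theorem F315746 : act 5 n127322 = n72879 := (sb E73875 (iv5 D154008))
theorem F315747 : act 6 n127322 = n97250 := (sb E73875 (iv6 F308838))
theorem F315748 : act 7 n127322 = n101278 := (sb E73875 (iv7 F307155))
theorem F315749 : act 1 n54002 = n47811 := (sb E73882 F91935)
theorem F315750 : act 2 n54002 = n47814 := (sb E73882 F91929)
theorem F315751 : act 6 n54002 = n38927 := (sb E73882 F91932)
theorem F315752 : act 7 n54002 = n27708 := (sb E73882 (iv7 D58123))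
theorem E77315 : n66639 = n28620 := ((D66639).symm.trans (sb E73883 (iv1 F188344)))
theorem E77316 : n79841 = n66640 := (((D66640).symm.trans (sb E73883 (iv0 F188428)))).symm
theorem E77317 : n117986 = n66620 := ((((iv2 F102557)).symm.trans (sb E73883 D117986))).symm
theorem E77318 : n117987 = n66638 := ((((iv4 F102568)).symm.trans (sb E73883 D117987))).symm
theorem E77319 : n66641 = n36742 := ((D66641).symm.trans (sb E73883 F85763))
theorem F315753 : act 5 n17713 = n14700 := (sb E73884 (iv5 D31093))
theorem E77321 : n117222 = n66382 := (((iv6 F183402)).symm.trans (sb E73885 F181327))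
theorem F315754 : act 5 n31007 = n26134 := (sb E73887 (iv5 D54026))
theorem F315755 : act 6 n31007 = n26270 := (sb E73887 F85231)
theorem E77322 : n141353 = n118128 := (((D118128).symm.trans (sb E73891 (iv3 F224397)))).symm
theorem F315756 : act 5 n62789 = n48929 := (sb E73893 (iv5 D105847))
theorem F315757 : act 3 n60233 = n59782 := (sb E73894 (iv3 D127336))
theorem E77323 : n132896 = n128149 := (((D128149).symm.trans (sb E73894 (tr F256933 E76784)))).symm
theorem F315758 : act 0 n103143 = n117172 := (sb E73895 (iv1 F243311))
theorem F315759 : act 2 n103143 = n124532 := (sb E73895 (iv2 F313325))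
theorem F315760 : act 4 n103143 = n147767 := (sb E73895 F233848)
theorem F315761 : act 5 n103143 = n59942 := (sb E73895 (iv5 D127676))
theorem F315762 : act 6 n103143 = n148837 := (sb E73895 (iv6 F233843))
theorem F315763 : act 7 n103143 = n124533 := (sb E73895 (iv7 F311000))
theorem F315764 : act 1 n103145 = n69277 := (sb E73896 (iv0 D147850))
theorem F315765 : act 2 n58121 = n28417 := (sb E73897 F94289)
theorem E77324 : n124528 = n105758 := ((D124528).symm.trans (sb E73897 (iv3 F162414)))
theorem E77325 : n124530 = n69783 := ((D124530).symm.trans (sb E73897 (iv5 F106190)))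
theorem E77326 : n124531 = n28402 := ((D124531).symm.trans (sb E73897 (iv6 D59848)))
theorem E77329 : n178396 = n120602 := (((D120602).symm.trans (sb E73899 (iv3 F277959)))).symm
theorem F315766 : act 6 n55538 = n39267 := (sb E73899 (iv6 D84876))
theorem E77331 : n178388 = n116915 := ((D178388).symm.trans (sb E73900 F184262))
theorem E77332 : n178389 = n127733 := ((D178389).symm.trans (sb E73900 (iv0 F205332)))
theorem F315767 : act 4 n84874 = n54200 := (sb E73900 (iv4 D117662))
theorem E77333 : n178391 = n120607 := ((D178391).symm.trans (sb E73900 F192186))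
theorem E77335 : n147350 = n39255 := (((D39255).symm.trans (sb E73902 (iv3 F231056)))).symm
theorem E77336 : n51032 = n12981 := (((F41786).symm.trans (sb E73902 F171287))).symm
theorem F315768 : act 5 n58255 = n85780 := (sb E73903 F244771)
theorem E77337 : n166542 = n84994 := ((D166542).symm.trans (sb E73905 F187995))
theorem E77338 : n166543 = n54930 := ((D166543).symm.trans (sb E73905 (iv4 D119359)))
theorem F315769 : act 7 n79932 = n73526 := (sb E73905 F187996)
theorem F315770 : act 6 n34744 = n36408 := (sb E73906 (iv6 D79933))
theorem E77345 : n149398 = n36400 := (((E77159).symm.trans (((iv4 F183259)).symm.trans (sb E73907 D149398)))).symm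
theorem E77348 : n52966 = n31839 := ((((iv2 F50136)).symm.trans (sb E73908 F190328))).symm
theorem E77349 : n52926 = n31849 := ((((iv4 F50141)).symm.trans (sb E73908 F190329))).symm
theorem F315771 : act 1 n77548 = n83312 := (sb E73911 (iv0 D174292))
theorem F315772 : act 0 n174279 = n83312 := (sb E73912 (iv1 D174293))
theorem E77351 : n134561 = n55056 := ((F315657).symm.trans (sb E73913 F306858))
theorem F315773 : act 0 n38239 = n55056 := (sb E73914 F306859)
theorem F315774 : act 7 n119661 = n84072 := (sb E73915 F275614)
theorem E77358 : n132706 = n84916 := ((D132706).symm.trans (sb E73917 (iv1 D178457)))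
theorem E77359 : n132707 = n85133 := ((D132707).symm.trans (sb E73917 F278061))
theorem F315775 : act 2 n62277 = n85136 := (sb E73917 (iv2 F278057))
theorem F315776 : act 4 n62277 = n84930 := (sb E73917 F278056)
theorem F315777 : act 7 n62277 = n85032 := (sb E73917 (iv7 F278059))
theorem E77360 : n83729 = n83624 := ((((iv4 F312381)).symm.trans (sb E73918 (iv4 F303631)))).symm
theorem F315778 : act 0 n131379 = n119654 := (sb E73919 F271964)
theorem F315779 : act 1 n131379 = n158321 := (sb E73919 (iv0 F271965))
theorem F315780 : act 4 n131379 = n83010 := (sb E73919 (iv4 D173511))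
theorem F315781 : act 1 n38664 = n68809 := (sb E73923 F229501)
theorem E77366 : n146209 = n83950 := (((D83950).symm.trans (sb E73923 D146209))).symm
theorem E77367 : n173830 = n123232 := ((D173830).symm.trans (sb E73930 (iv4 F256936)))
theorem E77368 : n173819 = n83183 := (((iv3 F272406)).symm.trans (sb E73931 F256934))
theorem E77369 : n173822 = n124681 := ((D173822).symm.trans (sb E73931 F256935))
theorem E77370 : n180713 = n124413 := ((((iv1 F302568)).symm.trans (sb E73932 D180713))).symm
theorem F315782 : act 3 n75687 = n39940 := (sb E73932 F132283)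
theorem E77372 : n158677 = n57259 := ((D158677).symm.trans (sb E73932 F132284))
theorem E77373 : n158686 = n84009 := ((D158686).symm.trans (sb E73933 F303619))
theorem F315783 : act 3 n127935 = n65622 := (sb E73934 (iv3 D139793))
theorem F315784 : act 5 n127935 = n116799 := (sb E73934 F222981)
theorem F315785 : act 0 n118145 = n67707 := (sb E73935 F222983)
theorem F315786 : act 4 n118145 = n65622 := (sb E73935 (iv4 D139794))
theorem E77374 : n132645 = n75933 := (((F185643).symm.trans (sb E73935 F222982))).symm
theorem F315787 : act 6 n70382 = n65622 := (sb E73936 (iv6 D139795))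
theorem F315788 : act 3 n72849 = n107878 := (sb E73938 F222001)
theorem F315789 : act 5 n173731 = n172356 := (sb E73943 (iv5 F272560))
theorem F315790 : act 7 n173726 = n83164 := (sb E73948 (iv7 D173910))
theorem F315791 : act 6 n155062 = n83080 := (sb E73950 (iv6 D173729))
theorem F315792 : act 6 n152601 = n84071 := (sb E73953 (iv6 D176287))
theorem F315793 : act 6 n38737 = n73624 := (sb E73955 (iv6 F312386))
theorem F315794 : act 1 n123107 = n83164 := (sb E73957 (iv0 D173907))
theorem F315795 : act 0 n123112 = n83164 := (sb E73958 (iv1 D173908))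
theorem F315796 : act 0 n173906 = n173447 := (sb E73959 F275597)
theorem F315797 : act 1 n173906 = n173452 := (sb E73959 (iv0 F275596))
theorem F315798 : act 7 n173906 = n173494 := (sb E73959 (iv7 F275598))
theorem E77375 : n129318 = n128087 := ((D129318).symm.trans (sb E73962 (iv4 F206150)))
theorem E77376 : n129319 = n54919 := ((D129319).symm.trans (sb E73962 (iv6 D119341)))
theorem E77377 : n129303 = n86008 := ((D129303).symm.trans (sb E73963 F278183))
theorem F315799 : act 0 n134132 = n83070 := (sb E73965 (iv1 D173697))
theorem F315800 : act 1 n134132 = n84150 := (sb E73965 F272233)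
theorem F315801 : act 2 n134132 = n84152 := (sb E73965 (iv2 F272235))
theorem F315802 : act 3 n134132 = n85085 := (sb E73965 F275804)
theorem F315803 : act 7 n134132 = n84153 := (sb E73965 F272234)
theorem F315804 : act 0 n111189 = n175147 := (sb E73966 F278433)
theorem F315805 : act 1 n111189 = n175155 := (sb E73966 (iv0 F278434))
theorem F315806 : act 2 n111189 = n175317 := (sb E73966 F278431)
theorem F315807 : act 4 n111189 = n85085 := (sb E73966 (iv4 D178636))
theorem E77379 : n175316 = n111259 := ((((iv7 F172559)).symm.trans (sb E73966 F278432))).symm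
theorem F315808 : act 6 n129707 = n85021 := (sb E73969 (iv6 D178552))
theorem F315809 : act 6 n129735 = n85086 := (sb E73970 (iv6 D178640))
theorem F315810 : act 2 n129709 = n123958 := (sb E73973 (iv2 F303628))
theorem F315811 : act 4 n129709 = n123133 := (sb E73973 (iv4 F303634))
theorem F315812 : act 6 n129709 = n84949 := (sb E73973 (iv6 D178506))
theorem F315813 : act 0 n70023 = n130294 := (sb E73974 (iv1 F208831))
theorem F315814 : act 4 n70023 = n60931 := (sb E73974 (iv4 D129710))
theorem F315815 : act 6 n39297 = n60931 := (sb E73976 (iv6 D129711))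
theorem F315816 : act 3 n84170 = n60932 := (sb E73977 (iv3 D129712))
theorem E77380 : n176541 = n62143 := ((D176541).symm.trans (sb E73977 F207901))
theorem F315817 : act 0 n129713 = n128337 := (sb E73978 F278444)
theorem E77381 : n129304 = n123578 := ((((iv2 F197992)).symm.trans (sb E73980 F207905))).symm
theorem F315818 : act 6 n97108 = n60932 := (sb E73980 (iv6 D129714))
theorem F315819 : act 1 n84116 = n60939 := (sb E73983 (iv0 D129737))
theorem E77383 : n134517 = n60939 := ((F315658).symm.trans (sb E73984 (iv1 D129738)))
theorem E77385 : n134553 = n83730 := ((D134553).symm.trans (sb E73985 (iv4 F303632)))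
theorem F315820 : act 0 n120136 = n83731 := (sb E73986 (iv1 F274118))
theorem F315821 : act 1 n120136 = n83652 := (sb E73986 (iv0 D175141))
theorem E77388 : n132918 = n83008 := (((iv2 F213535)).symm.trans (sb E73989 F279304))
theorem F315822 : act 6 n62379 = n82993 := (sb E73989 (iv6 D173449))
theorem F315823 : act 0 n84147 = n61663 := (sb E73990 (iv1 D131378))
theorem F315824 : act 1 n84147 = n132959 := (sb E73990 F213592)

end Cfsg.Agent.Helper17.ONTC
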