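import Cfsg.Agent.Helper17.ONTC.Facts38

set_option autoImplicit false
set_option linter.all false

noncomputable section

namespace Cfsg.Agent.Helper17.ONTC

theorem F315825 : act 0 n75481 = n132959 := (sb E73991 (iv1 F213591))
theorem F315826 : act 1 n75481 = n61663 := (sb E73991 (iv0 D131377))
theorem E77389 : n158320 = n128960 := ((D158320).symm.trans (sb E73991 F210588))
theorem F315827 : act 0 n61536 = n83005 := (sb E73992 (iv1 D173489))
theorem E77391 : n83922 = n29862 := ((D83922).symm.trans (sb E73997 F95580))
theorem F315828 : act 5 n38652 = n28937 := (sb E73997 (iv5 D61060))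
theorem E77392 : n130019 = n43247 := (((E76812).symm.trans ((D83923).symm.trans (sb E73997 D130019)))).symm
theorem F315829 : act 7 n38652 = n62352 := (sb E73997 (iv7 F97231))
theorem E77393 : n90257 = n61068 := ((F315367).symm.trans (sb E73998 F208454))
theorem F315830 : act 4 n38218 = n62352 := (sb E73999 (iv4 D132866))
theorem F315831 : act 0 n80436 = n62352 := (sb E74000 (iv1 F212976))
theorem F315832 : act 1 n84092 = n62352 := (sb E74001 F212978)
theorem E77394 : n175847 = n115108 := ((((iv3 F179252)).symm.trans (sb E74002 D175847))).symm
theorem F315833 : act 5 n61055 = n83039 := (sb E74002 F128931)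
theorem F315835 : act 2 n38668 = n62352 := (sb E74004 F213397)
theorem F315836 : act 5 n38668 = n62347 := (sb E74004 (iv5 D132852))
theorem F315837 : act 0 n130052 = n83927 := (sb E74005 (iv1 F272099))
theorem F315838 : act 1 n130053 = n83927 := (sb E74006 F272095)
theorem F315839 : act 3 n92461 = n61081 := (sb E74007 F208494)
theorem E77396 : n83492 = n18390 := ((D83492).symm.trans (sb E74008 (iv1 D38638)))
theorem E77397 : n83493 = n83044 := ((D83493).symm.trans (sb E74008 F127982))
theorem E77398 : n83042 = n82957 := ((((iv2 F127857)).symm.trans (sb E74008 (iv2 F279270)))).symm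
theorem E77399 : n83895 = n83494 := (((D83494).symm.trans (sb E74008 D83895))).symm
theorem F315840 : act 1 n65086 = n58452 := (sb E74011 (iv0 D125018))
theorem E77401 : n156796 = n49569 := (((F84559).symm.trans (sb E74013 (iv4 F246728)))).symm
theorem E77402 : n116282 = n74529 := ((D116282).symm.trans (sb E74013 (iv6 D156717)))
theorem E77403 : n160062 = n116032 := (((D116032).symm.trans (sb E74014 F252878))).symm
theorem F315841 : act 2 n74630 = n39383 := (sb E74016 F234259)
theorem F315842 : act 3 n74630 = n178586 := (sb E74016 D178586)
theorem E77404 : n178587 = n156949 := (((D156949).symm.trans (sb E74016 D178587))).symm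
theorem E77405 : n178588 = n156950 := (((D156950).symm.trans (sb E74016 D178588))).symm
theorem F315843 : act 7 n74630 = n39382 := (sb E74016 F234260)
theorem E77406 : n138658 = n116836 := (((D116836).symm.trans (sb E74017 (iv1 F246539)))).symm
theorem E77407 : n116837 = n74537 := ((D116837).symm.trans (sb E74017 (iv0 D156728)))
theorem E77408 : n156522 = n150916 := (((D150916).symm.trans (sb E74018 (iv6 F246123)))).symm
theorem F315844 : act 7 n71144 = n65000 := (sb E74018 (iv7 D138383))
theorem F315845 : act 2 n39448 = n64965 := (sb E74019 F221504)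
theorem F315846 : act 2 n138306 = n85411 := (sb E74021 F278865)
theorem F315847 : act 0 n138307 = n150908 := (sb E74022 F278868)
theorem F315848 : act 1 n138307 = n150893 := (sb E74022 F278963)
theorem F315849 : act 2 n138307 = n85412 := (sb E74022 F278866)
theorem F315850 : act 4 n138307 = n85376 := (sb E74022 F278867)
theorem F315851 : act 7 n138307 = n150906 := (sb E74022 (iv7 F278869))
theorem E77409 : n107656 = n58413 := (((F200671).symm.trans (sb E74023 F221503))).symm
theorem F315852 : act 0 n124941 = n138616 := (sb E74024 (iv1 F221785))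
theorem F315853 : act 1 n124941 = n74518 := (sb E74024 F221786)
theorem F315854 : act 0 n85502 = n156475 := (sb E74026 F246000)
theorem F315855 : act 1 n85502 = n64967 := (sb E74026 (iv0 D138310))
theorem F315856 : act 2 n85502 = n156478 := (sb E74026 F246012)
theorem F315857 : act 2 n74411 = n58403 := (sb E74027 (iv2 F313390))
theorem F315858 : act 7 n74411 = n64965 := (sb E74027 (iv7 F221502))
theorem F315859 : act 1 n156696 = n85411 := (sb E74028 (iv0 D179029))
theorem F315860 : act 0 n65087 = n85411 := (sb E74029 (iv1 D179030))
theorem E77410 : n150689 = n64974 := ((D150689).symm.trans (sb E74030 F221512))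
theorem F315861 : act 6 n71051 = n144481 := (sb E74030 (iv6 F227311))
theorem F315862 : act 7 n71051 = n64968 := (sb E74030 (iv7 D138317))
theorem F315863 : act 1 n119999 = n64968 := (sb E74031 (iv0 D138314))
theorem F315864 : act 2 n48974 = n65007 := (sb E74034 (iv2 D138403))
theorem F315865 : act 7 n48974 = n65008 := (sb E74034 (iv7 F221625))
theorem F315866 : act 3 n60128 = n65007 := (sb E74035 (iv3 D138404))
theorem F315867 : act 1 n138405 = n179010 := (sb E74036 F278924)
theorem F315868 : act 2 n138405 = n105935 := (sb E74036 F233995)
theorem F315869 : act 6 n138405 = n76241 := (sb E74036 F233996)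
theorem F315870 : act 7 n138405 = n150624 := (sb E74036 (iv7 F237163))
theorem F315871 : act 5 n32419 = n65007 := (sb E74037 (iv5 D138406))
theorem F315872 : act 6 n34823 = n65007 := (sb E74038 (iv6 D138407))
theorem F315873 : act 2 n70996 = n65008 := (sb E74039 F221626)
theorem F315874 : act 7 n70996 = n65007 := (sb E74039 (iv7 D138408))
theorem F315875 : act 1 n138409 = n118239 := (sb E74040 (iv0 F264565))
theorem F315876 : act 4 n138409 = n152740 := (sb E74040 F264564)
theorem F315877 : act 5 n138409 = n80596 := (sb E74040 (iv5 D167909))
theorem F315878 : act 7 n138409 = n105903 := (sb E74040 F264563)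
theorem F315879 : act 0 n138410 = n179010 := (sb E74041 F278925)
theorem F315880 : act 2 n138410 = n150624 := (sb E74041 F264568)
theorem F315881 : act 7 n138410 = n105935 := (sb E74041 F264569)
theorem F315882 : act 5 n36777 = n65008 := (sb E74042 (iv5 D138411))
theorem F315883 : act 0 n138412 = n118405 := (sb E74043 F306008)
theorem F315884 : act 1 n138412 = n150756 := (sb E74043 F306009)
theorem F315885 : act 2 n138412 = n69823 := (sb E74043 F233956)
theorem F315886 : act 5 n138412 = n69794 := (sb E74043 (iv5 D148895))
theorem F315887 : act 7 n138412 = n105943 := (sb E74043 F306011)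
theorem F315888 : act 1 n119800 = n67707 := (sb E74047 F222980)
theorem F315889 : act 4 n119800 = n65621 := (sb E74047 (iv4 D139791))
theorem F315890 : act 2 n32855 = n65679 := (sb E74048 F102300)
theorem E77412 : n141570 = n70916 := (((D70916).symm.trans (sb E74048 (iv3 F224612)))).symm
theorem F315891 : act 5 n32855 = n31001 := (sb E74048 (iv5 D66403))
theorem F315892 : act 6 n32855 = n31443 := (sb E74048 F102301)
theorem F315893 : act 1 n32833 = n65679 := (sb E74049 (iv0 D139910))
theorem F315894 : act 3 n62921 = n65679 := (sb E74050 F223117)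
theorem F315895 : act 7 n32854 = n65679 := (sb E74051 (iv7 D139913))
theorem F315896 : act 3 n72638 = n65683 := (sb E74052 (iv3 D139920))
theorem F315897 : act 3 n119706 = n68775 := (sb E74056 F225796)
theorem E77414 : n51830 = n39924 := (((F132236).symm.trans (sb E74059 (iv5 D112349)))).symm
theorem F315898 : act 3 n119697 = n75953 := (sb E74061 F250383)
theorem F315899 : act 6 n119697 = n75952 := (sb E74061 (iv6 D159040))
theorem F315900 : act 3 n119698 = n66856 := (sb E74062 (iv3 D142629))
theorem F315901 : act 4 n119698 = n75952 := (sb E74062 F225505)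
theorem E77415 : n66957 = n16253 := ((D66957).symm.trans (sb E74063 (iv1 D33619)))
theorem E77416 : n66958 = n58309 := ((D66958).symm.trans (sb E74063 F92176))
theorem E77417 : n66928 = n58308 := (((iv2 F102882)).symm.trans (sb E74063 (iv2 F109432)))
theorem E77418 : n72934 = n66956 := ((((iv4 F102901)).symm.trans (sb E74063 D72934))).symm
theorem E77419 : n66959 = n33308 := ((D66959).symm.trans (sb E74063 F190125))
theorem F315902 : act 7 n31181 = n55092 := (sb E74063 (iv7 F190147))
theorem F315903 : act 5 n16086 = n14732 := (sb E74064 (iv5 D31188))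
theorem F315904 : act 7 n33812 = n53693 := (sb E74065 (iv7 D116504))
theorem E77421 : n142416 = n31300 := ((D142416).symm.trans (sb E74069 (iv1 D67312)))
theorem E77422 : n142417 = n55069 := ((D142417).symm.trans (sb E74069 (iv0 F313413)))
theorem E77423 : n143715 = n116460 := ((((iv2 F181726)).symm.trans (sb E74069 (iv2 F226383)))).symm
theorem E77424 : n142400 = n55082 := (((iv3 F225315)).symm.trans (sb E74069 (iv3 F313423)))
theorem E77426 : n142418 = n72054 := ((D142418).symm.trans (sb E74069 (iv5 F313424)))
theorem E77427 : n142419 = n73530 := ((D142419).symm.trans (sb E74069 (iv7 F313419)))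
theorem F315905 : act 6 n69503 = n73524 := (sb E74070 (iv6 D154978))
theorem F315906 : act 0 n73570 = n74672 := (sb E74071 (iv1 D157038))
theorem F315907 : act 1 n85006 = n74672 := (sb E74072 (iv0 D157037))
theorem F315908 : act 2 n120229 = n135454 := (sb E74073 F247171)
theorem F315909 : act 7 n120229 = n74686 := (sb E74073 (iv7 D157083))
theorem F315910 : act 2 n67210 = n79764 := (sb E74074 F261542)
theorem E77428 : n143492 = n79760 := ((D143492).symm.trans (sb E74074 (iv4 D166112)))
theorem E77429 : n149460 = n31271 := (((D31271).symm.trans (sb E74075 (iv1 F235407)))).symm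
theorem E77430 : n149474 = n31272 := (((D31272).symm.trans (sb E74075 (iv0 F235406)))).symm
theorem E77434 : n76632 = n26235 := (((F205089).symm.trans (sb E74076 (iv2 F114919)))).symm
theorem E77435 : n76638 = n31262 := (((D31262).symm.trans (sb E74076 (iv3 F114950)))).symm
theorem E77436 : n76644 = n31263 := (((D31263).symm.trans (sb E74076 (iv4 F114967)))).symm
theorem E77437 : n31265 = n17006 := ((D31265).symm.trans (sb E74076 (iv6 D35033)))
theorem E77438 : n76648 = n26234 := (((F205090).symm.trans (sb E74076 D76648))).symm
theorem E77439 : n76656 = n31267 := (((D31267).symm.trans (sb E74077 (iv3 F235430)))).symm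
theorem E77441 : n31270 = n31267 := ((D31270).symm.trans (sb E74077 (tr (iv6 F235432) E77439)))
theorem E77442 : n147309 = n31292 := (((D31292).symm.trans (sb E74082 (iv2 F230960)))).symm
theorem E77443 : n114555 = n31293 := (((D31293).symm.trans (sb E74082 F185415))).symm
theorem E77444 : n118981 = n7116 := (((F24406).symm.trans (sb E74082 (iv5 F187114)))).symm
theorem F315911 : act 5 n62784 = n59965 := (sb E74085 F205327)
theorem E77449 : n161964 = n160962 := (((D160962).symm.trans (sb E74086 F263014))).symm
theorem E77450 : n160924 = n83244 := ((D160924).symm.trans (sb E74088 (iv1 F272902)))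
theorem F315912 : act 5 n77223 = n83227 := (sb E74088 (iv5 D174098))
theorem E77453 : n155722 = n77691 := ((D155722).symm.trans (sb E74089 F255743))
theorem E77454 : n120033 = n77690 := (((iv7 F189580)).symm.trans (sb E74089 (iv7 D161737)))
theorem E77457 : n160939 = n54940 := ((((iv2 F86892)).symm.trans (sb E74090 D160939))).symm
theorem F315913 : act 3 n39287 = n35258 := (sb E74090 (iv3 D77230))
theorem E77458 : n160935 = n50950 := ((((iv4 F315489)).symm.trans (sb E74090 (iv4 F254146)))).symm
theorem E77459 : n84910 = n78592 := (((iv6 F130122)).symm.trans (sb E74090 (iv6 F119760)))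
theorem E77460 : n121997 = n17344 := ((((iv6 F28278)).symm.trans (sb E74091 F255752))).symm
theorem E77461 : n77626 = n55958 := (((F115713).symm.trans (sb E74092 (iv1 F300351)))).symm
theorem E77462 : n40263 = n17379 := (((F115714).symm.trans (sb E74092 (iv0 F300347)))).symm
theorem E77463 : n78593 = n27166 := ((D78593).symm.trans (sb E74092 (iv5 D56437)))
theorem E77464 : n121998 = n55915 := ((((iv7 F88475)).symm.trans (sb E74092 D121998))).symm
theorem F315914 : act 5 n76195 = n60785 := (sb E74094 (iv5 D129342))
theorem E77465 : n60788 = n55661 := (((F302153).symm.trans (sb E74094 F207531))).symm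
theorem E77466 : n60801 = n12865 := (((F297193).symm.trans (sb E74095 F207539))).symm
theorem E77467 : n60799 = n55660 := (((D55660).symm.trans (sb E74096 D60799))).symm
theorem E77468 : n60800 = n36483 := ((((iv0 F57301)).symm.trans (sb E74096 D60800))).symm
theorem E77469 : n55662 = n13746 := ((D55662).symm.trans (sb E74096 (iv5 D28841)))
theorem E77473 : n30798 = n15873 := ((((iv5 F25346)).symm.trans (sb E74098 (iv5 D65795)))).symm
theorem E77474 : n150550 = n61208 := ((((iv1 F97356)).symm.trans (sb E74099 (iv1 F244702)))).symm
theorem E77475 : n150533 = n29523 := ((((iv0 D62459)).symm.trans (sb E74099 F244703))).symm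
theorem E77476 : n133128 = n74055 := ((D133128).symm.trans (sb E74099 F244701))
theorem E77477 : n74054 = n61206 := ((((iv7 F182262)).symm.trans (sb E74099 (iv7 D155671)))).symm
theorem E77480 : n160503 = n77148 := (((F300617).symm.trans (sb E74100 D160503))).symm
theorem F315915 : act 3 n75670 = n35158 := (sb E74100 (iv3 D76954))
theorem E77481 : n158632 = n123014 := ((D158632).symm.trans (sb E74100 (iv4 F302623)))
theorem E77482 : n79203 = n61366 := ((((iv6 F311787)).symm.trans (sb E74100 F301301))).symm
theorem E77483 : n61368 = n35105 := (((F296934).symm.trans (sb E74101 F208943))).symm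
theorem E77484 : n61037 = n17450 := (((iv1 F95568)).symm.trans (sb E74102 (iv1 D36059)))
theorem E77485 : n61044 = n27114 := (((iv0 F95573)).symm.trans (sb E74102 F56798))
theorem E77486 : n78512 = n13822 := ((((iv5 D29049)).symm.trans (sb E74102 (iv5 F298616)))).symm
theorem F315916 : act 6 n29049 = n35158 := (sb E74102 (iv6 F298618))
theorem E77487 : n61369 = n36247 := ((D61369).symm.trans (sb E74102 F56975))
theorem F315917 : act 0 n38664 = n79891 := (sb E74104 (iv1 D166395))
theorem E77492 : n180190 = n77067 := (((F122891).symm.trans (sb E74109 (iv3 F280535)))).symm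
theorem F315918 : act 6 n80082 = n39852 := (sb E74109 (iv6 D86090))
theorem F315919 : act 6 n131741 = n69579 := (sb E74112 (iv6 D148498))
theorem F315920 : act 6 n77647 = n58698 := (sb E74113 (iv6 D125346))
theorem F315921 : act 2 n67100 = n119948 := (sb E74115 F232926)
theorem E77494 : n154640 = n143061 := ((((iv3 F225914)).symm.trans (sb E74115 (iv3 F242775)))).symm
theorem E77495 : n155311 = n143217 := ((((iv4 F226047)).symm.trans (sb E74115 (iv4 F244247)))).symm
theorem E77496 : n69336 = n31232 := (((F103056).symm.trans (sb E74115 F232927))).symm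
theorem E77497 : n143218 = n33897 := ((D143218).symm.trans (sb E74115 (iv6 D73794)))
theorem E77498 : n69337 = n31210 := ((((iv5 D67026)).symm.trans (sb E74116 (iv5 D148041)))).symm
theorem E77499 : n143006 = n117325 := (((iv6 F225875)).symm.trans (sb E74116 F231847))
theorem F315922 : act 7 n67026 = n119948 := (sb E74116 F232922)
theorem E77500 : n155377 = n142459 := ((((iv1 F225373)).symm.trans (sb E74117 D155377))).symm
theorem E77501 : n142458 = n85286 := ((F225378).symm.trans (sb E74117 (iv0 F200251)))
theorem E77502 : n142461 = n119573 := (((iv2 F225376)).symm.trans (sb E74117 (iv2 F188559)))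
theorem E77503 : n155376 = n142608 := ((((iv4 F225463)).symm.trans (sb E74117 (iv4 F244349)))).symm
theorem E77504 : n142609 = n33913 := ((D142609).symm.trans (sb E74117 (iv6 D73847)))
theorem F315923 : act 6 n16396 = n31161 := (sb E74118 (iv6 D66883))
theorem E77508 : n147008 = n116431 := (((D116431).symm.trans (sb E74119 D147008))).symm
theorem E77509 : n147009 = n116432 := (((D116432).symm.trans (sb E74119 D147009))).symm
theorem E77510 : n147000 = n116411 := ((((iv2 F181574)).symm.trans (sb E74119 (iv2 F230431)))).symm
theorem E77511 : n147003 = n116433 := (((D116433).symm.trans (sb E74119 (iv4 F230436)))).symm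
theorem E77512 : n116419 = n32047 := (((iv6 F181617)).symm.trans (sb E74119 (iv6 D68912)))
theorem F315924 : act 6 n53671 = n31154 := (sb E74120 (iv6 D66864))
theorem F315925 : act 5 n15120 = n25976 := (sb E74121 (iv5 D53667))
theorem F315926 : act 6 n15120 = n25979 := (sb E74121 F84665)
theorem E77514 : n31018 = n31002 := ((((iv7 F49425)).symm.trans (sb E76581 (tr F110669 E74141)))).symm
theorem E77515 : n68582 = n31002 := (E74141).trans E77514
theorem E77516 : n141600 = n116210 := (((D116210).symm.trans (sb E74123 (iv3 F224676)))).symm
theorem E77517 : n116211 = n66115 := ((D116211).symm.trans (sb E74123 F102329))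
theorem E77518 : n129601 = n13522 := ((((iv1 F102765)).symm.trans (sb E76624 (iv1 F209715)))).symm
theorem E77519 : n129598 = n13520 := ((((iv0 F102766)).symm.trans (sb E76624 F209716))).symm
theorem E77520 : n61464 = n59689 := (((D59689).symm.trans (sb E76624 F209713))).symm
theorem E77521 : n116208 = n59690 := (((D59690).symm.trans (sb E76624 F209714))).symm
theorem E77523 : n142673 = n35074 := ((D142673).symm.trans (sb E74125 F312705))
theorem E77524 : n142674 = n31996 := ((D142674).symm.trans (sb E74125 (iv0 D68783)))
theorem F315927 : act 2 n66877 = n70283 := (sb E74125 F312706)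
theorem E77525 : n141707 = n54347 := (((iv4 F224757)).symm.trans (sb E74125 F312707))
theorem E77526 : n142675 = n67877 := ((D142675).symm.trans (sb E74125 F200101))
theorem E77527 : n148639 = n66861 := ((D148639).symm.trans (sb E74126 (iv5 D142641)))
theorem F315928 : act 5 n31154 = n32335 := (sb E74128 (iv5 D69663))
theorem E77528 : n143703 = n32334 := (((D32334).symm.trans (sb E74129 (iv5 F226370)))).symm
theorem F315929 : act 0 n129291 = n98960 := (sb E74130 (iv1 F279910))
theorem E77529 : n135310 = n98959 := (((iv2 F217546)).symm.trans (sb E74130 F279907))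
theorem F315930 : act 3 n151948 = n175752 := (sb E74133 F279905)
theorem F315931 : act 3 n125120 = n71685 := (sb E74134 (iv3 D152051))
theorem F315932 : act 0 n141686 = n179993 := (sb E74135 (iv1 F280369))
theorem F315933 : act 2 n141686 = n128456 := (sb E74135 F228034)
theorem E77530 : n141686 = n141627 := (((D141627).symm.trans (iv5 (sb E74135 (tr (iv5 D145087) E77271))))).symm
theorem E77531 : n145087 = n141627 := (E74135).trans E77530
theorem F315934 : act 6 n141627 = n106078 := (sb E77531 F228035)
theorem F315935 : act 7 n141627 = n105702 := (sb E77531 (tr F228036 E77275))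
theorem F315936 : act 1 n141348 = n179993 := (sb E74136 F280368)
theorem F315937 : act 6 n141348 = n117183 := (sb E74136 F228044)
theorem F315938 : act 7 n141348 = n128456 := (sb E74136 F228043)
theorem F315939 : act 2 n86016 = n66445 := (sb E74137 (iv2 D141687))
theorem F315940 : act 1 n116182 = n138534 := (sb E74138 (iv0 F312812))
theorem F315941 : act 2 n116182 = n128296 := (sb E74138 F228191)
theorem F315942 : act 6 n116182 = n71045 := (sb E74138 F228193)
theorem E77532 : n116212 = n59704 := (E74139).trans E76879
theorem E77533 : n127169 = n53557 := ((D127169).symm.trans (sb E77532 F181113))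
theorem E77534 : n66487 = n30759 := (((F204429).symm.trans (sb E77532 F181114))).symm
theorem E77537 : n146238 = n66363 := ((((iv2 F102266)).symm.trans (sb E74140 (iv2 F229536)))).symm
theorem E77538 : n146242 = n66395 := (((D66395).symm.trans (sb E74140 (iv4 F229541)))).symm
theorem E77540 : n116063 = n66454 := (E74298).trans E76622
theorem E77541 : n66454 = n14810 := (((F49424).symm.trans (sb E77515 (tr F180807 E77540)))).symm
theorem E77542 : n142679 = n35076 := (((F311439).symm.trans (sb E74142 (iv4 F225569)))).symm
theorem F315943 : act 6 n68516 = n53555 := (sb E74142 (iv6 D116207))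
theorem F315944 : act 7 n128334 = n84411 := (sb E74143 (iv7 D177130))
theorem F315945 : act 1 n155323 = n81677 := (sb E74144 (iv0 D170318))
theorem F315946 : act 0 n130084 = n81677 := (sb E74145 (iv1 D170319))
theorem E77543 : n128315 = n76433 := ((D128315).symm.trans (sb E74146 (iv4 D159755)))
theorem F315947 : act 7 n60326 = n81677 := (sb E74146 F251707)
theorem E77546 : n159233 = n18351 := (((F59034).symm.trans (sb E74147 D159233))).symm
theorem F315948 : act 3 n38178 = n34797 := (sb E74147 (iv3 D76176))
theorem E77547 : n159229 = n82954 := (((D82954).symm.trans (sb E74147 (iv4 F250725)))).symm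
theorem E77548 : n80169 = n78584 := (((iv6 F123107)).symm.trans (sb E74147 (iv6 F119757)))
theorem E77549 : n80186 = n26983 := ((((iv6 F43551)).symm.trans (sb E74150 F263021))).symm
theorem E77550 : n80184 = n55790 := (((F299681).symm.trans (sb E74151 D80184))).symm
theorem E77551 : n80185 = n17343 := ((((iv0 D35796)).symm.trans (sb E74151 D80185))).symm
theorem E77552 : n78585 = n17626 := ((D78585).symm.trans (sb E74151 (iv5 D36520)))
theorem E77554 : n118405 = n116842 := (((D116842).symm.trans (sb E74153 D118405))).symm
theorem F315949 : act 6 n61594 = n66317 := (sb E74154 (iv6 D141377))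
theorem E77556 : n118402 = n116832 := (((D116832).symm.trans (sb E74155 D118402))).symm
theorem F315950 : act 6 n53835 = n53897 := (sb E74155 F86137)
theorem F315951 : act 6 n77705 = n66316 := (sb E74156 (iv6 D141375))
theorem F315952 : act 3 n84439 = n59780 := (sb E74157 (iv3 D127332))
theorem E77557 : n71228 = n67414 := (((iv5 F309051)).symm.trans (sb E74157 F204570))
theorem E77558 : n141376 = n96303 := ((((iv7 F310189)).symm.trans (sb E74157 (iv7 F224419)))).symm
theorem F315953 : act 0 n31334 = n54486 := (sb E74158 F86044)
theorem F315954 : act 6 n31334 = n31669 := (sb E74158 F52136)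
theorem F315955 : act 6 n68068 = n59780 := (sb E74159 (iv6 D127333))
theorem F315956 : act 4 n127334 = n73024 := (sb E74160 F243082)
theorem E77559 : n71232 = n67446 := (((F204571).symm.trans (sb E74160 (iv5 D151150)))).symm
theorem F315957 : act 6 n127334 = n130850 := (sb E74160 (iv6 F237820))
theorem F315958 : act 1 n31344 = n54486 := (sb E74161 F86045)
theorem E77560 : n139741 = n98772 := (((F307992).symm.trans (sb E74162 (iv5 F222921)))).symm
theorem F315959 : act 6 n61386 = n59781 := (sb E74162 (iv6 D127335))
theorem E77561 : n159217 = n83521 := ((D159217).symm.trans (sb E74163 (iv1 F273595)))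
theorem E77562 : n159218 = n83520 := ((D159218).symm.trans (sb E74163 F273596))
theorem E77563 : n159219 = n83523 := ((D159219).symm.trans (sb E74163 F273591))
theorem F315960 : act 5 n76162 = n83499 := (sb E74163 F273593)
theorem F315961 : act 3 n139182 = n67135 := (sb E74165 F226078)
theorem F315962 : act 5 n139182 = n67116 := (sb E74165 (iv5 D143259))
theorem E77564 : n118716 = n67119 := ((F313493).symm.trans (sb E74165 F226079))
theorem F315963 : act 2 n73570 = n74688 := (sb E74167 F247176)
theorem F315964 : act 3 n72932 = n74688 := (sb E74168 (iv3 D157090))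
theorem F315965 : act 5 n54932 = n74688 := (sb E74169 (iv5 D157092))
theorem F315966 : act 6 n117660 = n74688 := (sb E74170 (iv6 D157093))
theorem F315967 : act 7 n85006 = n74688 := (sb E74171 (iv7 F247175))
theorem F315968 : act 0 n157036 = n178519 := (sb E74176 F278584)
theorem F315969 : act 1 n157036 = n178514 := (sb E74176 F278585)
theorem E77565 : n117809 = n73470 := (((iv2 F184495)).symm.trans (sb E74177 F307800))
theorem E77566 : n143386 = n117810 := (((D117810).symm.trans (sb E74177 (iv3 F310178)))).symm
theorem E77567 : n117812 = n71557 := ((D117812).symm.trans (sb E74177 (iv5 D151800)))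
theorem E77568 : n117813 = n73407 := ((D117813).symm.trans (sb E74177 F307801))
theorem F315970 : act 1 n54263 = n73470 := (sb E74179 (iv0 D154909))
theorem F315971 : act 7 n103704 = n84414 := (sb E74180 (iv7 D177143))
theorem F315972 : act 2 n103705 = n84420 := (sb E74181 F276563)
theorem F315973 : act 7 n103705 = n84415 := (sb E74181 (iv7 D177149))
theorem F315974 : act 2 n103706 = n84421 := (sb E74182 F276568)
theorem F315975 : act 7 n103706 = n84416 := (sb E74182 (iv7 D177154))
theorem F315976 : act 2 n103707 = n84422 := (sb E74183 F276571)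
theorem F315977 : act 3 n132984 = n174639 := (sb E74184 (iv3 F303469))
theorem F315978 : act 4 n132984 = n86460 := (sb E74184 (iv4 D181035))
theorem F315979 : act 3 n37899 = n62390 := (sb E74185 (iv3 D132957))
theorem F315980 : act 4 n61683 = n82564 := (sb E74186 (iv4 D172441))
theorem F315981 : act 3 n132958 = n82561 := (sb E74189 F270649)
theorem F315982 : act 2 n98964 = n62407 := (sb E74191 F213593)
theorem F315983 : act 4 n98964 = n62392 := (sb E74191 F213594)
theorem F315984 : act 7 n98964 = n62390 := (sb E74191 (iv7 D132960))
theorem F315985 : act 1 n117880 = n133822 := (sb E74192 (iv0 F312075))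
theorem F315986 : act 0 n117879 = n133822 := (sb E74193 (iv1 F312076))
theorem F315987 : act 0 n117870 = n166289 := (sb E74194 (iv1 F261848))
theorem F315988 : act 7 n117870 = n133822 := (sb E74194 (iv7 F312078))
theorem F315989 : act 2 n120531 = n136655 := (sb E74195 F248038)
theorem F315990 : act 4 n120531 = n74899 := (sb E74195 (iv4 D157446))
theorem F315991 : act 5 n120531 = n136642 := (sb E74195 F248040)
theorem E77571 : n177096 = n119501 := ((((iv2 F188301)).symm.trans (sb E74196 (iv2 F276515)))).symm
theorem E77572 : n160104 = n128275 := (((D128275).symm.trans (sb E74196 (iv4 F252695)))).symm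
theorem F315992 : act 6 n60303 = n38920 := (sb E74196 (iv6 D84403))
theorem E77574 : n128298 = n45369 := (((D45369).symm.trans (sb E74197 D128298))).symm
theorem E77575 : n128299 = n45370 := (((D45370).symm.trans (sb E74197 D128299))).symm
theorem F315993 : act 4 n21642 = n28650 := (sb E74197 (iv4 D60314))
theorem E77578 : n128081 = n45372 := (((D45372).symm.trans (sb E74197 (iv7 F206127)))).symm
theorem E77581 : n95808 = n45412 := (((E76032).symm.trans ((D128295).symm.trans (sb E74198 (iv4 F177605))))).symm
theorem F315994 : act 7 n60312 = n177105 := (sb E74198 D177105)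
theorem F315995 : act 2 n60313 = n177105 := (sb E74199 (iv2 F276523))
theorem F315996 : act 0 n60190 = n81683 := (sb E74200 (iv1 F129552))
theorem E77597 : n30795 = n12755 := (((D12755).symm.trans (sb E74211 (iv5 D65791)))).symm
theorem E77598 : n15872 = n12342 := (((iv4 F25344)).symm.trans (sb E74212 (iv4 F53683)))
theorem E77603 : n30791 = n12563 := (((D12563).symm.trans (sb E74213 (iv5 D65783)))).symm
theorem E77609 : n128457 = n52944 := ((D128457).symm.trans (sb E74218 (iv1 F178767)))
theorem F315997 : act 2 n60414 = n52945 := (sb E74218 F178764)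
theorem E77610 : n160135 = n128459 := (((D128459).symm.trans (sb E74218 (iv3 F252739)))).symm
theorem F315998 : act 7 n60414 = n52921 := (sb E74218 (iv7 D114660))
theorem F315999 : act 3 n38527 = n61721 := (sb E74223 F210784)
theorem F316000 : act 6 n38527 = n61719 := (sb E74223 (iv6 D131521))
theorem F316001 : act 3 n131525 = n83571 := (sb E74224 F273859)
theorem E77616 : n128467 = n81564 := ((D128467).symm.trans (sb E74226 (iv1 F310831)))
theorem E77617 : n128468 = n81567 := ((D128468).symm.trans (sb E74226 (iv0 F310843)))
theorem E77618 : n128469 = n81764 := ((D128469).symm.trans (sb E74226 (iv2 F310840)))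
theorem F316002 : act 6 n60420 = n120689 := (sb E74226 (iv6 F192399))
theorem F316003 : act 7 n60420 = n35060 := (sb E74226 (iv7 D76701))
theorem F316004 : act 0 n29496 = n35819 := (sb E74227 F92673)
theorem E77619 : n125309 = n38673 := ((((iv3 F310678)).symm.trans (sb E74227 (iv3 F201547)))).symm
theorem E77620 : n62364 = n27901 := ((D62364).symm.trans (sb E74227 (iv5 D58679)))
theorem F316005 : act 7 n70254 = n73861 := (sb E74229 F189236)
theorem E77626 : n66420 = n66413 := ((((iv6 F315565)).symm.trans (sb E74231 F189241))).symm
theorem F316006 : act 0 n122343 = n81985 := (sb E74232 (iv1 D171051))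
theorem E77627 : n116722 = n114552 := (((D114552).symm.trans (sb E74236 D116722))).symm
theorem E77628 : n116723 = n114553 := (((D114553).symm.trans (sb E74236 D116723))).symm
theorem E77629 : n116720 = n106286 := ((((iv2 F163349)).symm.trans (sb E74236 (iv2 F182101)))).symm
theorem F316007 : act 4 n52877 = n26011 := (sb E74236 (iv4 D53786))
theorem E77630 : n116724 = n114554 := (((D114554).symm.trans (sb E74236 D116724))).symm
theorem F316008 : act 0 n52890 = n31625 := (sb E74237 (iv1 F85156))
theorem E77631 : n105401 = n31640 := (((iv2 F290396)).symm.trans (sb E74237 (iv2 F85157)))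
theorem E77633 : n114578 = n32107 := ((D114578).symm.trans (sb E74237 F85155))
theorem E77634 : n117118 = n114579 := (((D114579).symm.trans (sb E74237 D117118))).symm
theorem E77635 : n117119 = n114580 := (((D114580).symm.trans (sb E74237 D117119))).symm
theorem E77636 : n114403 = n31639 := (((iv7 F290395)).symm.trans (sb E74237 (iv7 F85158)))
theorem F316009 : act 1 n52795 = n31625 := (sb E74238 F85159)
theorem F316010 : act 4 n52795 = n31923 := (sb E74238 (iv4 F85161))
theorem E77638 : n117121 = n114405 := (((D114405).symm.trans (sb E74238 D117121))).symm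
theorem E77639 : n117122 = n114406 := (((D114406).symm.trans (sb E74238 D117122))).symm
theorem E77640 : n114586 = n68436 := ((D114586).symm.trans (sb E74239 (iv1 F104638)))
theorem E77641 : n114587 = n68439 := ((D114587).symm.trans (sb E74239 (iv0 F104642)))
theorem F316011 : act 2 n52892 = n67989 := (sb E74239 (iv2 F104098))
theorem E77642 : n114588 = n67955 := ((D114588).symm.trans (sb E74239 (iv4 F104055)))
theorem E77644 : n114589 = n31641 := ((D114589).symm.trans (sb E74239 F85163))
theorem F316012 : act 7 n14883 = n25674 := (sb E74240 (iv7 D52893))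
theorem E77645 : n33561 = n26033 := (((F84799).symm.trans (sb E74241 F105285))).symm
theorem F316013 : act 6 n53785 = n32133 := (sb E74241 (iv6 D69063))
theorem E77650 : n26477 = n26034 := (((iv5 F42359)).symm.trans (sb E74242 (iv5 D53859)))
theorem E77652 : n116387 = n70329 := (((iv3 F181483)).symm.trans (sb E74243 (iv3 F290351)))
theorem E77653 : n116391 = n52719 := ((D116391).symm.trans (sb E74243 (iv4 D114220)))
theorem E77654 : n176994 = n25971 := ((((iv5 D53648)).symm.trans (sb E74243 F310850))).symm
theorem E77655 : n116392 = n81796 := ((D116392).symm.trans (sb E74243 F310851))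
theorem E77657 : n159587 = n116401 := (((D116401).symm.trans (sb E74244 (iv4 F251376)))).symm
theorem E77658 : n118979 = n26031 := (((D26031).symm.trans (sb E74245 D118979))).symm
theorem F316014 : act 0 n12340 = n5998 := (sb E74248 (iv1 D12636))
theorem F316015 : act 1 n12340 = n7518 := (sb E74248 F21041)
theorem F316016 : act 5 n12340 = n12355 := (sb E74248 F21043)
theorem F316017 : act 7 n12340 = n7515 := (sb E74248 F21042)
theorem E77673 : n32264 = n26014 := ((D32264).symm.trans (sb E74256 F84826))
theorem E77674 : n116746 = n32265 := (((D32265).symm.trans (sb E74256 (iv4 F182183)))).symm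
theorem E77675 : n116749 = n30725 := ((((iv5 F105785)).symm.trans (sb E74256 D116749))).symm
theorem E77676 : n32267 = n26013 := ((D32267).symm.trans (sb E74256 (iv6 D53796)))
theorem E77680 : n117091 = n26680 := ((((iv5 F42752)).symm.trans (sb E74257 (iv5 F183116)))).symm
theorem E77681 : n143681 = n76634 := ((D143681).symm.trans (sb E74258 F233174))
theorem E77682 : n143682 = n31267 := ((D143682).symm.trans (sb E74258 (tr F233175 E77439)))
theorem F316019 : act 6 n67292 = n73468 := (sb E74258 (iv6 F232642))
theorem F316021 : act 1 n67302 = n33974 := (sb E74259 (iv0 F106008))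
theorem E77685 : n148646 = n140956 := ((((iv4 F223980)).symm.trans (sb E74259 (iv4 F233401)))).symm
theorem F316022 : act 0 n67301 = n33974 := (sb E74260 (iv1 D74029))
theorem E77686 : n155585 = n143700 := (((D143700).symm.trans (sb E74260 (iv3 F252664)))).symm
theorem E77687 : n149515 = n140955 := ((((iv4 F224663)).symm.trans (sb E74260 (iv4 F235131)))).symm
theorem E77688 : n143701 = n124960 := ((D143701).symm.trans (sb E74260 F200690))
theorem E77690 : n150611 = n116762 := (((D116762).symm.trans (sb E74261 (iv4 F237152)))).symm
theorem F316023 : act 7 n53799 = n33974 := (sb E74261 (iv7 D74030))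
theorem F316024 : act 4 n59902 = n45422 := (sb E74267 (iv4 D97201))
theorem E77706 : n65731 = n35080 := (((D35080).symm.trans (sb E74280 F223223))).symm
theorem F316025 : act 6 n30776 = n35079 := (sb E74281 (iv6 D76754))
theorem E77710 : n65762 = n35086 := (((D35086).symm.trans (sb E74285 D65762))).symm
theorem E77711 : n26363 = n14580 := (((iv5 F42058)).symm.trans (sb E74285 (iv5 D30784)))
theorem E77713 : n160208 = n65735 := (((D65735).symm.trans (sb E74286 D160208))).symm
theorem E77714 : n69617 = n65737 := (((D65737).symm.trans (sb E74286 (tr F311706 E77206)))).symm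
theorem F316026 : act 0 n6967 = n5973 := (sb E74289 (iv1 D12574))
theorem F316027 : act 1 n6967 = n7442 := (sb E74289 F20947)
theorem F316028 : act 5 n6967 = n7959 := (sb E74289 F20949)
theorem E77722 : n160238 = n66067 := (((iv1 F253024)).symm.trans (sb E74293 (iv1 D140806)))
theorem F316029 : act 0 n76781 = n66087 := (sb E74295 (iv1 F223885))
theorem E77723 : n160237 = n66086 := ((D160237).symm.trans (sb E74295 F223886))
theorem F316030 : act 7 n30905 = n35096 := (sb E74297 (iv7 D76786))
theorem E77725 : n116063 = n14810 := (E77540).trans E77541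
theorem E77726 : n53493 = n31417 := (((D31417).symm.trans (sb E77725 (iv1 D116063)))).symm
theorem E77727 : n66115 = n31419 := (((D31419).symm.trans (sb E77725 F180808))).symm
theorem E77728 : n143705 = n31411 := ((((iv4 F49683)).symm.trans (sb E77725 (iv4 F226375)))).symm
theorem E77729 : n70220 = n31417 := (E75296).trans E77726
theorem E77730 : n150599 = n143704 := ((D150599).symm.trans (sb E74299 (iv4 F226371)))
theorem E77731 : n70217 = n31419 := (E75294).trans E77727
theorem E77732 : n150594 = n66116 := ((D150594).symm.trans (sb E74300 (iv7 D140959)))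
theorem E77733 : n66146 = n26696 := ((((iv7 F42793)).symm.trans (sb E74301 F223983))).symm
theorem E77737 : n79571 = n14011 := ((((iv4 F23361)).symm.trans (sb E74306 F306732))).symm
theorem F316032 : act 3 n85308 = n74784 := (sb E74311 (iv3 D157289))
theorem E77738 : n157292 = n14824 := (E74312).trans E76226
theorem E77739 : n74784 = n31455 := (((D31455).symm.trans (sb E77738 (iv6 D157292)))).symm
theorem F316033 : act 2 n65085 = n58452 := (sb E74313 F200818)
theorem F316034 : act 4 n65085 = n58451 := (sb E74313 (iv4 D125015))
theorem E77740 : n125017 = n53674 := (((D53674).symm.trans (iv3 (sb E74314 (tr F246806 E75552))))).symm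
theorem E77741 : n156838 = n53674 := (E74314).trans E77740
theorem E77742 : n138615 = n30950 := (((F84686).symm.trans (sb E77741 F246807))).symm
theorem E77743 : n138927 = n69669 := ((D138927).symm.trans (sb E74316 (iv1 F200086)))
theorem E77744 : n138928 = n71293 := ((D138928).symm.trans (sb E74316 F187713))
theorem F316035 : act 3 n65224 = n72730 := (sb E74316 F187704)
theorem E77745 : n138930 = n54885 := ((D138930).symm.trans (sb E74316 (iv7 D119255)))
theorem F316036 : act 1 n125043 = n74588 := (sb E74318 (iv0 D156839))
theorem F316037 : act 4 n125043 = n108232 := (sb E74318 F246808)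
theorem F316038 : act 1 n112986 = n58463 := (sb E74319 (iv0 D125042))
theorem F316039 : act 2 n112986 = n85458 := (sb E74319 (iv2 F201186))
theorem F316040 : act 6 n112986 = n74083 := (sb E74319 F201189)
theorem F316041 : act 0 n156841 = n178870 := (sb E74321 F279024)
theorem F316042 : act 1 n156841 = n178867 := (sb E74321 F279023)
theorem E77746 : n138916 = n31132 := (E75548).trans E75554
theorem E77750 : n156848 = n14713 := (E74326).trans E74617
theorem E77751 : n138909 = n31129 := (((D31129).symm.trans (sb E77750 F246825))).symm
theorem F316043 : act 3 n8774 = n16557 := (sb E74328 (iv3 D34212))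
theorem E77752 : n74628 = n18715 := (((D18715).symm.trans (sb E74328 D74628))).symm
theorem F316044 : act 3 n112974 = n58463 := (sb E74332 (iv3 D125044))
theorem F316045 : act 4 n112974 = n58465 := (sb E74332 F200880)
theorem F316046 : act 2 n125045 = n138898 := (sb E74333 F246841)
theorem F316047 : act 2 n125046 = n138899 := (sb E74334 F246843)
theorem E77753 : n125047 = n66770 := (((D66770).symm.trans (iv0 (sb E74335 (tr (iv1 F246852) E77751))))).symm
theorem E77754 : n125048 = n66769 := (((D66769).symm.trans (iv1 (sb E74336 (tr F246848 E77751))))).symm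
theorem F316048 : act 0 n125049 = n138907 := (sb E74338 (iv1 F246853))
theorem E77755 : n167716 = n138906 := ((F313854).symm.trans (sb E74338 F246854))
theorem E77756 : n125049 = n53682 := ((((iv2 F102961)).symm.trans (iv2 (sb E74338 (tr F246850 E77751))))).symm
theorem F316049 : act 2 n34262 = n27806 := (sb E74341 (iv2 F311906))
theorem F316050 : act 7 n34262 = n39399 := (sb E74341 (iv7 F311909))
theorem F316051 : act 2 n58437 = n74774 := (sb E74343 F247468)
theorem E77758 : n130565 = n62591 := (((E75558).symm.trans ((D124996).symm.trans (sb E74343 (iv3 F247470))))).symm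
theorem E77759 : n157251 = n53951 := (E74344).trans E74704
theorem E77760 : n117076 = n74776 := (((iv2 F183101)).symm.trans (sb E77759 F247471))
theorem F316052 : act 1 n85280 = n74774 := (sb E74345 (iv0 D157257))
theorem F316053 : act 0 n85279 = n74774 := (sb E74346 (iv1 D157258))
theorem E77761 : n178865 = n130556 := ((D178865).symm.trans (sb E74346 F247490))
theorem F316054 : act 4 n85279 = n138501 := (sb E74346 (iv4 F247489))
theorem F316055 : act 7 n85247 = n74774 := (sb E74347 (iv7 D157262))
theorem E77762 : n157264 = n53953 := (E74348).trans E74454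
theorem E77763 : n117068 = n74776 := (((iv1 F183091)).symm.trans (sb E77762 (iv1 D157264)))
theorem F316056 : act 5 n152713 = n74776 := (sb E74349 (iv5 D157265))
theorem E77764 : n130562 = n39421 := (((D39421).symm.trans (sb E74353 F247503))).symm
theorem E77767 : n178873 = n130561 := (((D130561).symm.trans (sb E74355 D178873))).symm
theorem F316057 : act 3 n61258 = n39407 := (sb E74355 (iv3 D85281))
theorem E77768 : n178874 = n130563 := (((D130563).symm.trans (sb E74355 D178874))).symm
theorem E77769 : n178875 = n130564 := (((D130564).symm.trans (sb E74355 D178875))).symm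
theorem E77770 : n150729 = n49959 := (((iv3 F237287)).symm.trans (sb E74364 F167272))
theorem F316058 : act 6 n72195 = n49957 := (sb E74364 (iv6 D108170))
theorem E77771 : n152745 = n115806 := ((D152745).symm.trans (sb E74367 (iv1 F246199)))
theorem F316059 : act 1 n72077 = n74447 := (sb E74367 (iv0 D156565))
theorem F316060 : act 0 n85095 = n74447 := (sb E74368 F223425)
theorem E77772 : n109675 = n68793 := ((D109675).symm.trans (sb E74369 F184342))
theorem F316061 : act 6 n50586 = n54223 := (sb E74369 (iv6 D117717))
theorem E77773 : n117676 = n30729 := ((((iv3 F49194)).symm.trans (sb E74370 (iv3 F237568)))).symm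
theorem E77774 : n153035 = n6959 := (((F24225).symm.trans (sb E74370 (iv4 F240343)))).symm
theorem F316062 : act 3 n83918 = n74675 := (sb E74378 (iv3 D157050))
theorem F316063 : act 5 n83720 = n74675 := (sb E74379 (iv5 D157051))
theorem F316064 : act 6 n73646 = n74675 := (sb E74380 (iv6 D157052))
theorem F316065 : act 2 n118606 = n74680 := (sb E74381 F247153)
theorem F316066 : act 7 n118606 = n74675 := (sb E74381 (iv7 D157053))
theorem F316067 : act 3 n87978 = n74680 := (sb E74392 (iv3 D157062))
theorem F316068 : act 5 n83719 = n74680 := (sb E74393 (iv5 D157063))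
theorem F316069 : act 6 n60132 = n74680 := (sb E74394 (iv6 D157064))
theorem F316070 : act 0 n157035 = n85073 := (sb E74400 (iv1 F274432))
theorem F316071 : act 1 n157035 = n84903 := (sb E74400 F274431)
theorem F316072 : act 4 n157035 = n83753 := (sb E74400 (iv4 D175390))
theorem E77779 : n85162 = n74323 := (((D74323).symm.trans (sb E74401 D85162))).symm
theorem E77782 : n72051 = n25998 := (((F181455).symm.trans (sb E74402 (iv0 F130500)))).symm
theorem F316073 : act 2 n157069 = n167586 := (sb E74403 (iv2 F301462))
theorem F316074 : act 7 n157069 = n82744 := (sb E74403 (iv7 D172827))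
theorem F316075 : act 5 n85084 = n74684 := (sb E74404 (iv5 D157074))
theorem F316076 : act 6 n70712 = n74684 := (sb E74405 (iv6 D157075))
theorem E77784 : n85201 = n74632 := (((D74632).symm.trans (sb E74406 (iv3 F130526)))).symm
theorem E77785 : n85206 = n74633 := (((D74633).symm.trans (sb E74406 (iv5 F130528)))).symm
theorem E77786 : n85207 = n74634 := (((D74634).symm.trans (sb E74406 D85207))).symm
theorem F316077 : act 7 n34213 = n18665 := (sb E74406 (iv7 D39386))
theorem E77787 : n74641 = n72096 := ((D74641).symm.trans (sb E74407 (iv1 F108551)))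
theorem E77788 : n74642 = n71304 := ((D74642).symm.trans (sb E74407 (iv0 F200302)))
theorem F316078 : act 2 n34215 = n72097 := (sb E74407 (iv2 F108552))
theorem E77789 : n74643 = n54204 := ((D74643).symm.trans (sb E74407 (iv5 F85526)))
theorem E77790 : n74644 = n54207 := ((D74644).symm.trans (sb E74407 (iv7 F85531)))
theorem F316079 : act 2 n34218 = n18665 := (sb E74408 F60292)
theorem E77791 : n85047 = n74653 := (((D74653).symm.trans (sb E74408 D85047))).symm
theorem E77792 : n74654 = n54763 := ((D74654).symm.trans (sb E74408 (iv6 F86621)))
theorem F316080 : act 6 n26481 = n16558 := (sb E74409 (iv6 D34220))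
theorem E77797 : n118165 = n74320 := (((D74320).symm.trans (sb E74411 F278319))).symm
theorem E77798 : n178659 = n74324 := (((D74324).symm.trans (sb E74413 F278471))).symm
theorem E77799 : n178655 = n74325 := (((D74325).symm.trans (sb E74413 (iv0 F278464)))).symm
theorem E77800 : n58457 = n25994 := (((D25994).symm.trans (sb E74415 (iv3 D125035)))).symm
theorem E77801 : n142676 = n25996 := (((D25996).symm.trans (sb E74415 (tr (iv5 F230360) E77284)))).symm
theorem E77802 : n74104 = n25997 := (((D25997).symm.trans (sb E74415 F200858))).symm
theorem E77803 : n153603 = n25999 := (((D25999).symm.trans (sb E74416 (iv3 F241442)))).symm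
theorem E77804 : n119701 = n26001 := (((D26001).symm.trans (sb E74416 F239461))).symm
theorem E77805 : n71858 = n26002 := (((D26002).symm.trans (sb E74416 (iv6 D152317)))).symm
theorem F316081 : act 1 n32995 = n16553 := (sb E74418 F53717)
theorem F316082 : act 2 n32995 = n30584 := (sb E74418 F53702)
theorem E77806 : n74501 = n71308 := (((D71308).symm.trans (sb E74418 D74501))).symm
theorem F316083 : act 4 n32995 = n16540 := (sb E74418 (iv4 D34165))
theorem E77807 : n74502 = n55549 := ((((iv5 F87849)).symm.trans (sb E74418 D74502))).symm
theorem F316084 : act 6 n32995 = n25970 := (sb E74418 F53703)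
theorem F316085 : act 7 n32995 = n30588 := (sb E74418 F53704)
theorem F316086 : act 0 n32994 = n16553 := (sb E74419 F53715)
theorem F316087 : act 2 n32994 = n30588 := (sb E74419 F53713)
theorem E77808 : n74509 = n71304 := (((D71304).symm.trans (sb E74419 D74509))).symm
theorem F316088 : act 4 n32994 = n16541 := (sb E74419 (iv4 D34168))
theorem F316089 : act 7 n32994 = n30584 := (sb E74419 F53714)
theorem F316090 : act 0 n26376 = n30588 := (sb E74420 (iv1 F53825))
theorem F316091 : act 1 n26376 = n30584 := (sb E74420 F53826)
theorem F316092 : act 7 n26376 = n16553 := (sb E74420 (iv7 D34200))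
theorem E77813 : n85466 = n25983 := (((D25983).symm.trans (sb E74424 F186979))).symm
theorem E77814 : n54728 = n25986 := (((D25986).symm.trans (sb E74424 (iv6 D118916)))).symm
theorem F316093 : act 3 n148540 = n139270 := (sb E74428 F247295)
theorem E77815 : n116807 = n71766 := ((D116807).symm.trans (sb E74430 (iv5 D152176)))
theorem E77816 : n178709 = n116808 := (((D116808).symm.trans (sb E74430 F278540))).symm
theorem F316094 : act 2 n33175 = n31317 := (sb E74432 F101325)
theorem F316095 : act 5 n33175 = n26019 := (sb E74432 (iv5 D53819))
theorem E77818 : n116810 = n71769 := (((D71769).symm.trans (sb E74432 D116810))).symm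
theorem F316096 : act 7 n33175 = n31312 := (sb E74432 (iv7 F101327))
theorem E77819 : n116795 = n38976 := ((D116795).symm.trans (sb E74434 (iv1 F300160)))
theorem E77820 : n116796 = n38957 := ((D116796).symm.trans (sb E74434 (iv0 F300161)))
theorem E77821 : n167651 = n116797 := (((D116797).symm.trans (sb E74434 (iv2 F263945)))).symm
theorem E77822 : n167703 = n107396 := ((((iv4 F165441)).symm.trans (sb E74434 D167703))).symm
theorem E77823 : n116798 = n36692 := ((D116798).symm.trans (sb E74434 (iv5 D80478)))
theorem F316097 : act 2 n33176 = n31312 := (sb E74436 F101328)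
theorem F316098 : act 5 n33176 = n26018 := (sb E74436 (iv5 D53814))
theorem F316099 : act 7 n33176 = n31317 := (sb E74436 F101324)
theorem F316100 : act 2 n85098 = n74330 := (sb E74437 (iv2 F220189))
theorem F316101 : act 4 n85098 = n138370 := (sb E74437 (iv4 F221601))
theorem F316102 : act 7 n85098 = n130961 := (sb E74437 (iv7 F220191))
theorem F316103 : act 2 n85097 = n130961 := (sb E74438 F220190)
theorem E77825 : n178654 = n74212 := ((D178654).symm.trans (sb E74438 (iv3 F220185)))
theorem F316104 : act 7 n85097 = n74330 := (sb E74438 F220188)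
theorem F316105 : act 3 n30335 = n39366 := (sb E74439 (iv3 D85137))
theorem E77829 : n178704 = n64423 := (((D64423).symm.trans (sb E74439 D178704))).symm
theorem F316106 : act 7 n85138 = n74289 := (sb E74440 F220211)
theorem E77832 : n152340 = n141067 := (((D141067).symm.trans (sb E74441 (iv0 F239532)))).symm
theorem F316107 : act 6 n66157 = n39366 := (sb E74441 (iv6 D85139))
theorem E77835 : n117081 = n116077 := ((D117081).symm.trans (sb E74708 (tr (iv1 F239499) E75871)))
theorem E77836 : n117069 = n115805 := (((iv2 F183092)).symm.trans (sb E74708 (tr (iv2 F239504) E75868)))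
theorem E77837 : n152803 = n117083 := (((D117083).symm.trans (sb E74708 (iv4 F240004)))).symm
theorem E77838 : n117084 = n33292 := ((D117084).symm.trans (sb E74708 (iv7 D72106)))
theorem E77839 : n141074 = n72644 := ((D141074).symm.trans (sb E74443 (iv3 F109173)))
theorem E77840 : n152331 = n141075 := (((D141075).symm.trans (sb E74443 (iv4 F239498)))).symm
theorem E77841 : n141076 = n118962 := ((D141076).symm.trans (sb E74443 (iv5 F187079)))
theorem E77842 : n139678 = n33212 := (((iv6 F222848)).symm.trans (sb E74443 (iv6 D71869)))
theorem E77843 : n141078 = n116808 := ((D141078).symm.trans (sb E74444 (tr D178709 E77816)))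
theorem E77844 : n178710 = n141079 := (((D141079).symm.trans (sb E74444 D178710))).symm
theorem E77845 : n178711 = n141080 := (((D141080).symm.trans (sb E74444 D178711))).symm
theorem F316108 : act 6 n66162 = n39370 := (sb E74444 F130469)
theorem E77846 : n152807 = n116078 := ((((iv7 F180848)).symm.trans (sb E74444 (iv7 F240013)))).symm
theorem E77850 : n71149 = n25904 := ((((iv3 F40937)).symm.trans (sb E74448 (iv3 F107655)))).symm
theorem F316109 : act 4 n12299 = n15864 := (sb E74448 F52120)
theorem E77852 : n15863 = n6970 := (((F20403).symm.trans (sb E74448 (iv6 D32943)))).symm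
theorem E77854 : n152989 = n31759 := (((D31759).symm.trans (sb E74451 (iv1 F240266)))).symm
theorem E77857 : n124830 = n31761 := (((D31761).symm.trans (sb E74451 (iv5 F235488)))).symm
theorem E77860 : n39458 = n31763 := (((D31763).symm.trans (sb E74453 (iv1 F92307)))).symm
theorem E77861 : n31764 = n27809 := ((D31764).symm.trans (sb E74453 (iv0 D58445)))
theorem E77862 : n125010 = n31765 := (((D31765).symm.trans (sb E74453 D125010))).symm
theorem E77863 : n118967 = n117067 := (((F183097).symm.trans (sb E74454 D118967))).symm
theorem E77864 : n118962 = n117070 := ((((iv2 F183094)).symm.trans (sb E74454 (iv2 F187077)))).symm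
theorem E77865 : n118965 = n117016 := ((((iv4 F182954)).symm.trans (sb E74454 (iv4 F187085)))).symm
theorem E77866 : n31460 = n26475 := ((F85083).symm.trans (sb E74454 (iv6 D54748)))
theorem E77869 : n118974 = n117090 := ((((iv4 F183111)).symm.trans (sb E74456 D118974))).symm
theorem F316110 : act 6 n12635 = n26087 := (sb E74457 (iv6 F41266))
theorem F316111 : act 2 n66153 = n85518 := (sb E74458 F200906)
theorem E77870 : n141059 = n58467 := ((D141059).symm.trans (sb E74458 (iv6 D125060)))
theorem E77871 : n141056 = n55234 := ((D141056).symm.trans (sb E74459 (iv6 D120034)))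
theorem F316112 : act 7 n66152 = n85518 := (sb E74459 F189527)
theorem F316113 : act 1 n53500 = n85518 := (sb E74460 (iv0 F130711))
theorem E77872 : n153015 = n109832 := ((((iv4 F169823)).symm.trans (sb E74460 D153015))).symm
theorem F316114 : act 4 n29637 = n31669 := (sb E74461 (iv4 D68066))
theorem F316115 : act 4 n29638 = n31664 := (sb E74462 (iv4 D68050))
theorem E77877 : n77978 = n24641 := ((((iv6 F47617)).symm.trans (sb E74462 (tr D145167 E75155)))).symm
theorem F316116 : act 4 n29428 = n54228 := (sb E74465 (iv4 D117718))
theorem F316117 : act 6 n117713 = n109674 := (sb E74467 F212660)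
theorem F316118 : act 4 n29429 = n54223 := (sb E74468 (iv4 D117716))
theorem E77885 : n125264 = n62575 := (((F97565).symm.trans (sb E74470 D125264))).symm
theorem F316119 : act 3 n31513 = n27882 := (sb E74470 (iv3 D58620))
theorem E77886 : n120616 = n67842 := (((D67842).symm.trans (sb E74470 (iv5 F192204)))).symm
theorem E77887 : n125265 = n31775 := ((((iv6 F50068)).symm.trans (sb E74470 D125265))).symm
theorem E77896 : n137635 = n33282 := (((D33282).symm.trans (sb E74474 (iv4 F220785)))).symm
theorem F316120 : act 4 n14489 = n7513 := (sb E74475 (iv4 D16094))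
theorem E77900 : n7517 = n6968 := (((F24136).symm.trans (sb E74475 F25600))).symm
theorem E77906 : n136415 = n118797 := (((D118797).symm.trans (sb E74478 (iv4 F219525)))).symm
theorem E77907 : n66989 = n26452 := ((((iv5 D54690)).symm.trans (sb E74478 (iv5 F102913)))).symm
theorem F316121 : act 4 n14490 = n26474 := (sb E74479 F52563)
theorem E77911 : n84874 = n60962 := (((iv4 F315767)).symm.trans (sb E74491 (iv4 D129799)))
theorem E77912 : n150721 = n74727 := (((iv3 F237281)).symm.trans (sb E74492 F247335))
theorem F316122 : act 6 n72190 = n139786 := (sb E74492 F247337)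
theorem F316123 : act 7 n72190 = n74722 := (sb E74492 (iv7 D157163))
theorem F316124 : act 2 n65152 = n58370 := (sb E74493 F199667)
theorem F316125 : act 4 n65152 = n58320 := (sb E74493 (iv4 D124751))
theorem F316126 : act 7 n65152 = n58375 := (sb E74493 F199668)
theorem F316127 : act 3 n124753 = n139076 := (sb E74494 F247097)
theorem F316128 : act 4 n124753 = n138748 := (sb E74494 F247098)
theorem F316129 : act 0 n124842 = n107017 := (sb E74498 F246239)
theorem F316130 : act 4 n124842 = n138994 := (sb E74498 F246237)
theorem F316131 : act 7 n124842 = n138749 := (sb E74498 F246238)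
theorem F316132 : act 0 n124843 = n74355 := (sb E74499 (iv1 D156323))
theorem F316133 : act 1 n124843 = n138472 := (sb E74499 F245662)
theorem F316134 : act 2 n124843 = n138474 := (sb E74499 (iv2 F245853))
theorem F316135 : act 7 n124843 = n138475 := (sb E74499 (iv7 F245854))
theorem F316137 : act 5 n63238 = n34621 := (sb E74502 (iv5 D75714))
theorem F316138 : act 2 n153717 = n74573 := (sb E74505 F246710)
theorem F316139 : act 6 n153717 = n74567 := (sb E74505 (iv6 D156788))
theorem F316140 : act 6 n32974 = n30626 := (sb E74508 (iv6 D65260))
theorem E77931 : n74566 = n25972 := ((((iv2 F102858)).symm.trans (sb E74513 (iv2 F214167)))).symm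
theorem E77932 : n58372 = n31163 := (((D31163).symm.trans (sb E74513 (iv3 F313633)))).symm
theorem E77933 : n138996 = n31164 := (((D31164).symm.trans (sb E74513 (iv4 F222169)))).symm
theorem E77934 : n31166 = n30623 := ((D31166).symm.trans (sb E74513 (iv6 D65248)))
theorem E77936 : n139009 = n31171 := (((D31171).symm.trans (sb E74514 F246700))).symm
theorem E77938 : n70327 = n32269 := (((F180375).symm.trans (sb E74517 F290353))).symm
theorem E77939 : n116677 = n31294 := ((F182059).symm.trans (sb E74517 (tr F290354 E75246)))
theorem E77940 : n116619 = n70330 := (((iv2 F181978)).symm.trans (sb E74517 F290355))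
theorem E77941 : n142691 = n72906 := ((D142691).symm.trans (sb E74517 F290358))
theorem E77942 : n142710 = n49124 := ((D142710).symm.trans (sb E74518 F290338))
theorem E77943 : n159588 = n142711 := (((D142711).symm.trans (sb E74518 F290339))).symm
theorem E77944 : n142712 = n48724 := ((D142712).symm.trans (sb E74518 (iv3 D105392)))
theorem E77945 : n152170 = n122374 := (((F232863).symm.trans (sb E74519 (iv2 F239249)))).symm
theorem F316141 : act 4 n101192 = n63650 := (sb E74519 F217634)
theorem F316142 : act 6 n101192 = n63648 := (sb E74519 (iv6 D135395))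
theorem E77946 : n139090 = n72614 := ((D139090).symm.trans (sb E74520 (iv7 D153570)))
theorem F316143 : act 0 n60945 = n31895 := (sb E74531 (iv1 D68556))
theorem F316144 : act 4 n60945 = n69748 := (sb E74531 (iv4 F188606))
theorem F316145 : act 1 n132637 = n85784 := (sb E74532 F244779)
theorem E77949 : n159035 = n129791 := (((F212911).symm.trans (sb E74532 (iv2 F250374)))).symm
theorem F316146 : act 4 n132637 = n74101 := (sb E74532 (iv4 D155771))
theorem E77950 : n147950 = n14742 := (E74533).trans E75691
theorem E77951 : n69312 = n31229 := (((D31229).symm.trans (sb E77950 (iv1 D147950)))).symm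
theorem E77952 : n116219 = n31229 := ((F181131).symm.trans (sb E74534 (tr (iv0 F186906) E77951)))
theorem E77953 : n141765 = n31232 := (((iv2 F224798)).symm.trans (sb E74534 (tr F190260 E77496)))
theorem E77954 : n141768 = n119948 := ((D141768).symm.trans (sb E74534 (iv5 F232925)))
theorem E77955 : n141769 = n54700 := ((D141769).symm.trans (sb E74534 (iv6 D118835)))
theorem E77956 : n141760 = n31210 := ((F224796).symm.trans (sb E74534 (tr (iv7 F190261) E77498)))
theorem E77957 : n116218 = n31210 := (((iv1 F181130)).symm.trans (sb E74535 (tr (iv1 F231770) E77498)))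
theorem E77959 : n116214 = n69338 := (((iv7 F181120)).symm.trans (sb E74536 (iv7 D148047)))
theorem F316148 : act 7 n32224 = n31034 := (sb E74537 F84496)
theorem F316149 : act 6 n49819 = n65621 := (sb E74538 (iv6 D139792))
theorem E77960 : n124999 = n116375 := ((((iv3 F181414)).symm.trans (sb E74539 (iv3 F200780)))).symm
theorem E77965 : n141714 = n32877 := ((((iv5 F52053)).symm.trans (sb E74541 (iv5 F224764)))).symm
theorem E77972 : n150807 = n74286 := (((iv3 F237382)).symm.trans (sb E74547 (iv3 D156161)))
theorem E77981 : n32932 = n30595 := ((((iv3 F49039)).symm.trans (sb E74552 D32932))).symm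
theorem F316150 : act 4 n14516 = n7437 := (sb E74552 (iv4 D15860))
theorem F316151 : act 4 n14515 = n15879 := (sb E74553 (iv4 D32979))
theorem F316152 : act 4 n14491 = n15844 := (sb E74556 (iv4 D32903))
theorem F316153 : act 6 n120191 = n65241 := (sb E74557 (iv6 D138987))
theorem E77984 : n146819 = n139721 := (((D139721).symm.trans (sb E74558 F231857))).symm
theorem E77985 : n139722 = n117897 := ((D139722).symm.trans (sb E74558 F237502))
theorem E77986 : n148634 = n139723 := (((D139723).symm.trans (sb E74558 (iv2 F237520)))).symm
theorem F316154 : act 6 n65579 = n69350 := (sb E74558 (iv6 D148054))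
theorem E77988 : n139727 = n54060 := ((D139727).symm.trans (sb E74560 (iv6 D117295)))
theorem E77989 : n139717 = n81582 := (((iv3 F222890)).symm.trans (sb E74562 F310164))
theorem F316155 : act 6 n65577 = n81581 := (sb E74562 F310165)
theorem F316156 : act 6 n112081 = n148653 := (sb E74563 F233418)
theorem E77990 : n121540 = n24640 := (((D24640).symm.trans (sb E74564 (tr (iv1 F240469) E75154)))).symm
theorem E77997 : n119261 = n26082 := (((D26082).symm.trans (sb E74570 (iv2 F187719)))).symm
theorem E78001 : n33296 = n30726 := (((F173379).symm.trans (sb E74572 F108343))).symm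
theorem E78002 : n115800 = n33974 := ((D115800).symm.trans (sb E74572 F108344))
theorem E78003 : n152335 = n115801 := (((D115801).symm.trans (sb E74572 (iv4 F239513)))).symm
theorem E78004 : n115802 = n33213 := ((D115802).symm.trans (sb E74572 (iv6 D71871)))
theorem E78005 : n152810 = n115803 := (((D115803).symm.trans (sb E74573 (iv3 F240030)))).symm
theorem E78007 : n152824 = n115313 := ((((iv4 F179601)).symm.trans (sb E74574 D152824))).symm
theorem F316157 : act 0 n85966 = n62135 := (sb E74582 (iv1 D132435))
theorem E78017 : n54695 = n31233 := (((D31233).symm.trans (sb E74584 (iv6 D118820)))).symm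
theorem F316158 : act 5 n64228 = n85756 := (sb E74586 (iv5 D179595))
theorem E78018 : n58454 = n31234 := (((D31234).symm.trans (sb E74587 (iv1 D125025)))).symm
theorem E78019 : n179049 = n31239 := (((D31239).symm.trans (sb E74587 (iv6 F278993)))).symm
theorem E78020 : n39452 = n31245 := (((D31245).symm.trans (sb E74588 (iv1 D85428)))).symm
theorem E78021 : n178971 = n31246 := (((D31246).symm.trans (sb E74588 (iv0 F307865)))).symm
theorem E78023 : n54700 = n31248 := (((D31248).symm.trans (sb E74588 F232950))).symm
theorem E78024 : n138944 = n71292 := ((D138944).symm.trans (sb E74596 (iv7 D151280)))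
theorem E78025 : n138963 = n69669 := ((D138963).symm.trans (sb E74597 (iv2 F200087)))
theorem E78026 : n138966 = n75874 := ((D138966).symm.trans (sb E74597 (iv5 F187700)))
theorem E78027 : n138967 = n72181 := ((D138967).symm.trans (sb E74597 (iv6 F187699)))
theorem E78028 : n138968 = n71293 := ((D138968).symm.trans (sb E74597 (iv7 F187712)))
theorem E78029 : n138969 = n54314 := ((D138969).symm.trans (sb E74598 (iv3 D117910)))
theorem E78030 : n138972 = n116078 := ((D138972).symm.trans (sb E74598 (tr F240014 E77846)))
theorem F316159 : act 7 n32991 = n30618 := (sb E74599 (iv7 D65236))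
theorem E78031 : n138732 = n54207 := ((D138732).symm.trans (sb E74600 (iv1 D117679)))
theorem E78032 : n138733 = n72097 := ((D138733).symm.trans (sb E74600 F184270))
theorem E78033 : n138734 = n72096 := ((D138734).symm.trans (sb E74600 F200305))
theorem E78034 : n138735 = n75938 := ((D138735).symm.trans (sb E74600 F199964))
theorem E78035 : n72049 = n31123 := (((F100915).symm.trans (sb E74600 F184271))).symm
theorem E78039 : n138736 = n75940 := ((((iv4 F113835)).symm.trans (sb E74602 D138736))).symm
theorem F316160 : act 5 n34705 = n30584 := (sb E74602 (iv5 D65142))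
theorem F316161 : act 5 n14712 = n27811 := (sb E74603 F52543)
theorem E78041 : n138740 = n54712 := ((D138740).symm.trans (sb E74604 F278974))
theorem E78045 : n138745 = n75951 := ((D138745).symm.trans (sb E74606 F186255))
theorem F316162 : act 4 n14508 = n26360 := (sb E74608 F86089)
theorem E78051 : n118313 = n30592 := ((((iv4 F49038)).symm.trans (sb E74609 (iv4 F185889)))).symm
theorem E78055 : n16103 = n6969 := (((D6969).symm.trans (sb E74611 (iv0 F25613)))).symm
theorem E78059 : n31134 = n18702 := ((D31134).symm.trans (sb E74618 (iv6 D39467)))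
theorem E78062 : n160124 = n31142 := (((D31142).symm.trans (sb E74621 (iv1 F279060)))).symm
theorem E78063 : n116448 = n31143 := (((D31143).symm.trans (sb E74621 (tr (iv0 F279059) E77282)))).symm
theorem E78065 : n54161 = n31146 := (((D31146).symm.trans (sb E74622 (iv1 D117554)))).symm
theorem E78066 : n74089 = n31147 := (((D31147).symm.trans (sb E74622 F184160))).symm
theorem E78069 : n177314 = n31168 := (((D31168).symm.trans (sb E74625 (iv3 F276691)))).symm
theorem E78070 : n177325 = n31169 := (((D31169).symm.trans (sb E74625 (iv4 F276706)))).symm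
theorem E78071 : n38957 = n31171 := (((D31171).symm.trans (sb E74625 (iv6 D84477)))).symm
theorem E78073 : n124730 = n31173 := (((D31173).symm.trans (sb E74626 F240108))).symm
theorem E78074 : n72146 = n31174 := (((D31174).symm.trans (sb E74626 (iv6 D152892)))).symm
theorem E78077 : n154058 = n31179 := (((D31179).symm.trans (sb E74628 D154058))).symm
theorem E78079 : n72152 = n31182 := (((D31182).symm.trans (sb E74629 D72152))).symm
theorem E78080 : n72153 = n31183 := (((D31183).symm.trans (sb E74629 D72153))).symm
theorem E78081 : n31184 = n16083 := ((D31184).symm.trans (sb E74629 (iv5 D33307)))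
theorem E78083 : n31245 = n31116 := (((D31116).symm.trans (sb E74630 (tr (iv3 F60371) E78020)))).symm
theorem F316163 : act 5 n14707 = n8770 := (sb E74630 (iv5 D18699))
theorem F316164 : act 5 n7511 = n7025 := (sb E74631 (iv5 D14735))
theorem F316165 : act 2 n61476 = n39348 := (sb E74633 (iv2 F313582))
theorem F316166 : act 7 n61476 = n39347 := (sb E74633 (iv7 F313589))
theorem E78084 : n116708 = n58468 := ((D116708).symm.trans (sb E74639 (iv3 D125061)))
theorem E78085 : n116710 = n74942 := ((D116710).symm.trans (sb E74639 F200911))
theorem E78086 : n116711 = n74075 := ((D116711).symm.trans (sb E74639 F200912))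
theorem E78087 : n137059 = n85197 := (((D85197).symm.trans (sb E74643 F247030))).symm
theorem E78088 : n156113 = n85200 := (((D85200).symm.trans (sb E74643 (iv5 F247031)))).symm
theorem E78089 : n156136 = n85203 := (((D85203).symm.trans (sb E74644 F247063))).symm
theorem F316167 : act 1 n156924 = n85202 := (sb E74651 F274452)
theorem F316168 : act 4 n156924 = n83756 := (sb E74651 (iv4 D175405))
theorem F316169 : act 6 n152787 = n74620 := (sb E74652 (iv6 D156925))
theorem F316170 : act 1 n74291 = n85138 := (sb E74658 F278476)
theorem F316171 : act 6 n119619 = n74316 := (sb E74659 (iv6 D156227))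
theorem F316172 : act 0 n74203 = n85138 := (sb E74661 (iv1 F278475))
theorem F316173 : act 5 n156246 = n83753 := (sb E74670 (iv5 D175391))
theorem E78090 : n116712 = n74690 := (((iv2 F182099)).symm.trans (sb E74676 (iv2 D157094)))
theorem E78091 : n116707 = n74691 := ((F182098).symm.trans (sb E74676 (iv7 F247177)))
theorem F316174 : act 3 n39481 = n74690 := (sb E74677 (iv3 D157095))
theorem F316175 : act 5 n107869 = n74690 := (sb E74679 (iv5 D157097))
theorem F316176 : act 1 n157098 = n116375 := (sb E74680 (tr (iv0 F280295) E77960))
theorem F316177 : act 3 n157098 = n85518 := (sb E74680 F278635)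
theorem F316178 : act 3 n124863 = n74691 := (sb E74682 (iv3 D157100))
theorem F316179 : act 5 n118574 = n74691 := (sb E74684 (iv5 D157102))
theorem F316180 : act 6 n119623 = n74691 := (sb E74685 (iv6 D157103))
theorem E78094 : n151153 = n14564 := ((((iv6 F24412)).symm.trans (sb E74686 D151153))).symm
theorem F316181 : act 0 n27125 = n31312 := (sb E74689 (iv1 D67356))
theorem F316182 : act 1 n27125 = n31317 := (sb E74689 F103224)
theorem F316183 : act 0 n26419 = n31317 := (sb E74690 (iv1 F103222))
theorem F316184 : act 1 n26419 = n31312 := (sb E74690 (iv0 D67355))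
theorem E78099 : n143830 = n37291 := ((D143830).symm.trans (sb E74691 F123690))
theorem E78100 : n143831 = n61490 := ((D143831).symm.trans (sb E74691 F308108))
theorem E78101 : n143824 = n36697 := (((iv2 F226468)).symm.trans (sb E74691 F123688))
theorem E78102 : n143832 = n36683 := ((D143832).symm.trans (sb E74691 (iv4 D80460)))
theorem E78103 : n143833 = n121941 := ((D143833).symm.trans (sb E74691 (iv6 F194665)))
theorem E78104 : n143839 = n61414 := ((D143839).symm.trans (sb E74692 F112643))
theorem E78105 : n143842 = n120030 := ((D143842).symm.trans (sb E74692 F189575))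
theorem E78106 : n143794 = n54846 := ((D143794).symm.trans (sb E74693 F215853))
theorem E78107 : n143795 = n70528 := ((D143795).symm.trans (sb E74693 F307604))
theorem E78108 : n143788 = n74935 := (((iv2 F226441)).symm.trans (sb E74693 F209041))
theorem E78109 : n171026 = n143796 := (((D143796).symm.trans (sb E74693 F307605))).symm
theorem E78110 : n170128 = n143797 := (((D143797).symm.trans (sb E74693 F307606))).symm
theorem E78112 : n141051 = n69665 := ((D141051).symm.trans (sb E74695 (iv6 D148651)))
theorem E78121 : n153058 = n30877 := ((((iv4 F49328)).symm.trans (sb E74699 (iv4 F240369)))).symm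
theorem E78125 : n117077 = n27809 := ((D117077).symm.trans (sb E74704 F92296))
theorem E78126 : n124998 = n117078 := (((D117078).symm.trans (sb E74704 (iv4 F200779)))).symm
theorem E78128 : n117080 = n27806 := ((D117080).symm.trans (sb E74704 (iv6 D58438)))
theorem E78129 : n117071 = n117067 := ((F183100).symm.trans (sb E74704 (tr (iv7 F200287) E77863)))
theorem E78130 : n117082 = n30927 := ((D117082).symm.trans (sb E74705 F220217))
theorem E78131 : n139667 = n26086 := (((F85081).symm.trans (sb E74705 (iv3 F222841)))).symm
theorem E78132 : n139670 = n117083 := (((D117083).symm.trans (sb E74705 (iv4 F222843)))).symm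
theorem E78134 : n117085 = n117067 := ((D117085).symm.trans (sb E74706 (tr F200288 E77863)))
theorem E78136 : n117086 = n39426 := ((D117086).symm.trans (sb E74706 F92306))
theorem F316185 : act 0 n18696 = n26086 := (sb E74707 (iv1 D53955))
theorem F316186 : act 1 n18696 = n31766 := (sb E74707 F85084)
theorem E78140 : n125267 = n66136 := ((((iv1 F101766)).symm.trans (sb E74709 (iv1 F201444)))).symm
theorem E78141 : n66139 = n39768 := (((iv0 F101767)).symm.trans (sb E74709 F200275))
theorem E78144 : n140593 = n124749 := ((F223719).symm.trans (sb E74710 (iv3 F200291)))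
theorem E78145 : n152999 = n145545 := (((D145545).symm.trans (sb E74710 D152999))).symm
theorem E78146 : n153000 = n145546 := (((D145546).symm.trans (sb E74710 D153000))).symm
theorem E78147 : n145547 = n49974 := ((D145547).symm.trans (sb E74710 F311286))
theorem E78151 : n153004 = n145542 := (((D145542).symm.trans (sb E74711 D153004))).symm
theorem E78152 : n153005 = n145543 := (((D145543).symm.trans (sb E74711 D153005))).symm
theorem E78153 : n152987 = n145376 := ((((iv4 F228420)).symm.trans (sb E74712 (iv4 F240265)))).symm
theorem E78154 : n145550 = n72644 := (((iv5 F228596)).symm.trans (sb E74712 (iv5 F109174)))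
theorem E78155 : n116878 = n33334 := (((iv6 F182612)).symm.trans (sb E74712 (iv6 D72212)))
theorem E78158 : n151023 = n31736 := (((F104317).symm.trans (sb E74713 (iv3 F237726)))).symm
theorem E78160 : n107458 = n33335 := (((iv6 F165774)).symm.trans (sb E74713 (iv6 D72214)))
theorem E78161 : n142895 = n124749 := (((iv1 F225777)).symm.trans (sb E74714 F199665))
theorem E78162 : n145548 = n124832 := ((F228597).symm.trans (sb E74714 F200495))
theorem E78163 : n145607 = n128032 := (((iv4 F228633)).symm.trans (sb E74714 (iv4 F206034)))
theorem E78164 : n145608 = n33744 := ((D145608).symm.trans (sb E74714 F108659))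
theorem F316187 : act 6 n16096 = n31762 := (sb E74715 F84892)
theorem F316188 : act 4 n12343 = n7515 := (sb E74718 F25337)
theorem E78175 : n150603 = n145635 := ((((iv3 F228654)).symm.trans (sb E74719 (iv3 F237142)))).symm
theorem E78177 : n145637 = n32878 := ((D145637).symm.trans (sb E74719 (iv6 D70987)))
theorem F316189 : act 6 n16427 = n31766 := (sb E74720 (iv6 D68269))
theorem F316190 : act 6 n140983 = n78411 := (sb E74722 (iv6 D163079))
theorem F316191 : act 6 n143836 = n73374 := (sb E74723 (iv6 D154722))
theorem F316192 : act 6 n140982 = n74080 := (sb E74724 (iv6 D155725))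
theorem F316193 : act 5 n33993 = n67367 := (sb E74725 (iv5 D143841))
theorem F316194 : act 6 n33993 = n67368 := (sb E74725 F226479)
theorem E78183 : n162810 = n140980 := (((F228728).symm.trans (sb E74726 F257365))).symm
theorem E78184 : n163553 = n109851 := (((F228729).symm.trans (sb E74726 (iv5 F257814)))).symm
theorem F316195 : act 6 n145674 = n78385 := (sb E74726 (iv6 D163008))
theorem F316196 : act 6 n143962 = n74071 := (sb E74727 (iv6 D155714))
theorem E78185 : n141061 = n69666 := ((D141061).symm.trans (sb E74728 (iv6 D148654)))
theorem F316197 : act 5 n32336 = n66877 := (sb E74729 (iv5 F102728))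
theorem F316198 : act 6 n32336 = n30924 := (sb E74729 (iv6 D66155))
theorem E78189 : n178662 = n63822 := ((D178662).symm.trans (sb E74730 (iv2 D135737)))
theorem F316199 : act 4 n85099 = n136356 := (sb E74730 (iv4 F219450))
theorem F316200 : act 0 n85100 = n74203 := (sb E74731 (iv1 D156005))
theorem F316201 : act 1 n85100 = n74291 := (sb E74731 F245098)
theorem F316202 : act 2 n85100 = n74289 := (sb E74731 (iv2 F245100))
theorem E78190 : n152756 = n74331 := ((D152756).symm.trans (sb E74732 F245574))
theorem F316203 : act 6 n72084 = n74330 := (sb E74732 (iv6 D156255))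
theorem F316204 : act 1 n119859 = n66874 := (sb E74733 (iv0 D142663))
theorem F316205 : act 1 n116552 = n178675 := (sb E74734 F278485)
theorem F316206 : act 3 n116552 = n147262 := (sb E74734 (iv3 F230860))
theorem E78191 : n117707 = n53712 := ((((iv5 D116552)).symm.trans (sb E74734 F230189))).symm
theorem F316207 : act 6 n116552 = n68836 := (sb E74734 (iv6 D146834))
theorem F316208 : act 7 n116552 = n73959 := (sb E74734 F230188)
theorem F316209 : act 2 n142664 = n178674 := (sb E74735 (iv2 F278479))
theorem F316210 : act 6 n142664 = n75877 := (sb E74735 (iv6 D158956))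
theorem F316211 : act 1 n116446 = n73959 := (sb E74736 F230361)
theorem F316212 : act 2 n116446 = n178675 := (sb E74736 (iv2 F278481))
theorem F316213 : act 4 n28353 = n33357 := (sb E74743 F208992)
theorem E78197 : n129604 = n39473 := (((F311573).symm.trans (sb E74744 F224714))).symm
theorem E78198 : n129603 = n27816 := (((F313564).symm.trans (sb E74747 F224709))).symm
theorem F316214 : act 1 n116434 = n144827 := (sb E74748 (iv0 F227734))
theorem F316215 : act 2 n116434 = n73283 := (sb E74748 (iv2 F190204))
theorem F316216 : act 6 n116434 = n55169 := (sb E74748 (iv6 D119878))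
theorem F316217 : act 6 n116450 = n55170 := (sb E74749 (iv6 D119880))
theorem F316218 : act 6 n26660 = n53672 := (sb E74750 (iv6 D116451))
theorem E78199 : n164566 = n66839 := (((D66839).symm.trans (sb E74751 (iv1 F259416)))).symm
theorem E78200 : n178887 = n66840 := (((D66840).symm.trans (sb E74751 F278755))).symm
theorem E78201 : n155743 = n66795 := ((((iv2 F102651)).symm.trans (sb E74751 (iv2 F244752)))).symm
theorem E78202 : n66827 = n54093 := (((iv6 F102671)).symm.trans (sb E74751 (iv6 D117385)))
theorem F316219 : act 5 n26173 = n14721 := (sb E74752 (iv5 D31156))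
theorem F316220 : act 6 n26173 = n14724 := (sb E74752 F49507)
theorem E78203 : n107596 = n85431 := ((D107596).symm.trans (sb E74754 (iv3 D179056)))
theorem E78204 : n125189 = n107628 := (((D107628).symm.trans (sb E74755 (iv3 F201259)))).symm
theorem E78205 : n159045 = n107629 := (((D107629).symm.trans (sb E74755 (iv5 F250386)))).symm
theorem E78219 : n159046 = n62629 := ((((iv4 F97679)).symm.trans (sb E74758 D159046))).symm
theorem E78220 : n159047 = n129502 := (((D129502).symm.trans (sb E74758 D159047))).symm
theorem E78227 : n118246 = n74750 := (((D74750).symm.trans (sb E74761 (iv4 F185776)))).symm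
theorem F316221 : act 4 n12341 = n5973 := (sb E74762 (iv4 D12575))
theorem E78238 : n118852 = n74396 := ((D118852).symm.trans (sb E74771 (iv3 D156441)))
theorem F316222 : act 4 n12286 = n5998 := (sb E74775 (iv4 D12637))
theorem E78246 : n53696 = n26465 := (((D26465).symm.trans (sb E74776 (iv3 F84711)))).symm
theorem F316223 : act 5 n12631 = n12323 := (sb E74776 (iv5 D25990))
theorem E78247 : n66974 = n26468 := (((D26468).symm.trans (sb E74777 (iv3 F102907)))).symm
theorem F316224 : act 5 n12632 = n14736 := (sb E74777 F49528)
theorem E78248 : n152764 = n74240 := (((iv3 F239975)).symm.trans (sb E74783 (iv3 D156071)))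
theorem F316225 : act 4 n31333 = n33331 := (sb E74787 F108651)
theorem E78257 : n39452 = n31116 := (E78020).trans E78083
theorem F316226 : act 3 n60866 = n45879 := (sb E74810 F151476)
theorem F316227 : act 4 n60866 = n75984 := (sb E74810 F151477)
theorem F316228 : act 6 n60866 = n82515 := (sb E74810 F151478)
theorem F316229 : act 7 n60866 = n45877 := (sb E74810 (iv7 D98185))
theorem E78277 : n145683 = n39768 := (((D39768).symm.trans (sb E74811 (iv6 F228748)))).symm
theorem E78278 : n65663 = n14636 := (((E75204).symm.trans ((D39769).symm.trans (sb E74812 (iv1 F207808))))).symm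
theorem E78279 : n66118 = n32874 := ((((iv0 F52046)).symm.trans (sb E74812 F104460))).symm
theorem E78280 : n145692 = n39770 := (((D39770).symm.trans (sb E74812 D145692))).symm
theorem E78281 : n66120 = n39771 := (((D39771).symm.trans (sb E74812 F104459))).symm
theorem F316230 : act 2 n85760 = n65074 := (sb E74814 (iv2 D138584))
theorem E78282 : n179605 = n144466 := ((D179605).symm.trans (sb E74814 (iv3 F227294)))
theorem E78283 : n144377 = n105854 := ((((iv6 F162558)).symm.trans (sb E74814 (iv6 F227144)))).symm
theorem F316231 : act 1 n70968 = n65074 := (sb E74816 (iv0 D138583))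
theorem F316232 : act 1 n59758 = n60428 := (sb E74818 (iv0 F167545))
theorem E78284 : n127298 = n74797 := (((iv2 F204530)).symm.trans (sb E74818 F208052))
theorem E78285 : n127299 = n84435 := ((D127299).symm.trans (sb E74818 F307212))
theorem E78286 : n127300 = n78264 := ((D127300).symm.trans (sb E74818 (iv4 F309173)))
theorem E78287 : n127301 = n50039 := ((D127301).symm.trans (sb E74818 (iv5 D108366)))
theorem E78288 : n127293 = n74802 := ((F204529).symm.trans (sb E74818 (iv7 F208051)))
theorem F316233 : act 0 n59757 = n60428 := (sb E74819 F167549)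
theorem E78289 : n127295 = n78262 := ((D127295).symm.trans (sb E74819 (iv4 F309171)))
theorem E78290 : n127296 = n50040 := ((D127296).symm.trans (sb E74819 (iv5 D108371)))
theorem E78291 : n127297 = n60431 := ((D127297).symm.trans (sb E74819 F167550))
theorem F316234 : act 0 n59685 = n74802 := (sb E74820 F307232)
theorem F316235 : act 1 n59685 = n74797 := (sb E74820 F307233)
theorem E78292 : n126974 = n55872 := (((iv4 F204234)).symm.trans (sb E74820 F185607))
theorem F316236 : act 5 n59685 = n54417 := (sb E74820 (iv5 D118129))
theorem F316237 : act 7 n59685 = n60428 := (sb E74820 (iv7 F309167))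
theorem E78293 : n179113 = n52216 := ((D179113).symm.trans (sb E74821 (iv0 D113130)))
theorem E78294 : n107614 = n85533 := (((iv3 F166041)).symm.trans (sb E74829 F200935))
theorem F316238 : act 3 n49771 = n55583 := (sb E74830 (iv3 D120646))
theorem F316239 : act 1 n138054 = n86812 := (sb E74831 (iv0 F251027))
theorem F316240 : act 3 n138054 = n74797 := (sb E74831 F247550)
theorem F316241 : act 5 n138054 = n74795 := (sb E74831 (iv5 D157308))
theorem F316242 : act 4 n35737 = n28344 := (sb E74832 F94020)
theorem F316243 : act 5 n62925 = n53841 := (sb E74833 (iv5 D116839))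
theorem F316244 : act 2 n31099 = n39770 := (sb E74839 F92590)
theorem E78301 : n53496 = n27883 := (((iv5 F84401)).symm.trans (sb E74839 (iv5 D58623)))
theorem F316245 : act 2 n74908 = n53832 := (sb E74840 (iv2 D116826))
theorem F316246 : act 5 n62930 = n53832 := (sb E74841 (iv5 D116827))
theorem E78302 : n75557 = n18853 := (((F56481).symm.trans (sb E74843 F304938))).symm
theorem E78305 : n152049 = n39694 := ((D152049).symm.trans (sb E74844 F131688))
theorem F316247 : act 5 n71684 = n39693 := (sb E74844 (iv5 D85834))
theorem E78307 : n179707 = n152050 := (((D152050).symm.trans (sb E74844 D179707))).symm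
theorem F316248 : act 7 n71684 = n124089 := (sb E74844 F304349)
theorem E78308 : n160534 = n120049 := ((((iv1 F189627)).symm.trans (sb E74846 (iv1 F253612)))).symm
theorem E78309 : n121010 = n120051 := (((F189626).symm.trans (sb E74846 (iv0 F302149)))).symm
theorem E78310 : n163867 = n120064 := ((((iv3 F189651)).symm.trans (sb E74846 (iv3 F258299)))).symm
theorem F316250 : act 5 n55246 = n35843 := (sb E74846 (iv5 D78718))
theorem E78311 : n121246 = n120066 := (((D120066).symm.trans (sb E74846 (iv7 F193321)))).symm
theorem F316251 : act 6 n163070 = n85533 := (sb E74850 (iv6 D179231))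
theorem F316252 : act 6 n163076 = n85534 := (sb E74851 (iv6 D179235))
theorem F316253 : act 6 n39486 = n78410 := (sb E74852 (iv6 D163077))
theorem E78312 : n125039 = n59598 := ((((iv1 F181468)).symm.trans (iv1 (sb E74856 (tr (iv0 D163109) E74859))))).symm
theorem E78315 : n79695 = n59608 := ((((iv5 F94018)).symm.trans (sb E74859 F304262))).symm
theorem F316254 : act 6 n28288 = n35737 := (sb E74859 (iv6 D78420))
theorem E78317 : n150610 = n127000 := (((F204248).symm.trans (sb E74861 (iv0 F279147)))).symm
theorem E78318 : n150511 = n30479 := ((((iv3 F102769)).symm.trans (sb E74862 (iv3 F236991)))).symm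
theorem E78319 : n85475 = n59703 := ((((iv4 F94097)).symm.trans (sb E74862 F234718))).symm
theorem E78320 : n59713 = n32861 := ((D59713).symm.trans (sb E74862 (iv6 D70946)))
theorem E78321 : n181788 = n59688 := (((D59688).symm.trans (sb E74863 D181788))).symm
theorem E78322 : n85474 = n59689 := (((D59689).symm.trans (sb E74863 F234720))).symm
theorem E78323 : n74170 = n59691 := (((D59691).symm.trans (sb E74863 F133106))).symm
theorem F316255 : act 6 n58465 = n84583 := (sb E74865 (iv6 D177564))
theorem E78327 : n177592 = n59703 := (E74869).trans E78319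
theorem E78328 : n126884 = n84591 := ((F204138).symm.trans (sb E78327 (iv0 D177592)))
theorem E78329 : n177593 = n59689 := (E74870).trans E78322
theorem E78330 : n163381 = n127132 := (((D127132).symm.trans (sb E78329 F277047))).symm
theorem E78331 : n162970 = n127133 := (((D127133).symm.trans (sb E78329 (iv6 F277046)))).symm
theorem E78332 : n127133 = n120046 := ((((iv1 F189598)).symm.trans (sb E74872 (tr (iv1 F257327) E78331)))).symm
theorem E78333 : n159256 = n120045 := (((F189604).symm.trans (sb E74872 (iv0 F250743)))).symm
theorem F316257 : act 2 n74097 = n86190 := (sb E74872 (iv2 F132150))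
theorem E78334 : n166813 = n155759 := ((((iv3 F244767)).symm.trans (sb E74872 (iv3 F262522)))).symm
theorem E78336 : n120026 = n83565 := (((iv1 F189519)).symm.trans (sb E74873 (iv1 F263196)))
theorem E78337 : n83564 = n33991 := ((((iv0 D74070)).symm.trans (sb E74873 F263197))).symm
theorem F316258 : act 5 n74070 = n80223 := (sb E74873 F263194)
theorem E78338 : n120024 = n80222 := ((F208060).symm.trans (sb E74873 (iv7 D167107)))
theorem F316259 : act 0 n34742 = n65623 := (sb E74874 (iv1 D139797))
theorem F316260 : act 4 n34742 = n65682 := (sb E74874 F222990)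
theorem F316261 : act 6 n34728 = n65682 := (sb E74875 (iv6 D139917))
theorem F316262 : act 6 n55215 = n78352 := (sb E74876 (iv6 D162962))
theorem E78340 : n155761 = n76964 := (((F130047).symm.trans (sb E74882 (iv1 F244769)))).symm
theorem E78341 : n155763 = n79592 := ((((iv0 F299772)).symm.trans (sb E74882 (iv0 F244770)))).symm
theorem E78342 : n178941 = n163915 := ((((iv3 F258342)).symm.trans (sb E74882 (iv3 F278809)))).symm
theorem F316263 : act 5 n78746 = n39422 := (sb E74882 (iv5 D85320))
theorem F316264 : act 5 n36459 = n74097 := (sb E74883 F244774)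
theorem F316265 : act 5 n121009 = n85774 := (sb E74884 F279739)
theorem F316266 : act 5 n86239 = n58550 := (sb E74885 (iv5 D125193))
theorem F316267 : act 5 n70975 = n61408 := (sb E74886 (iv5 D130894))
theorem E78345 : n129585 = n32870 := ((((iv7 D70975)).symm.trans (sb E74886 F209479))).symm
theorem E78348 : n120095 = n61413 := ((((iv2 F105944)).symm.trans (sb E74887 (iv2 F189704)))).symm
theorem E78349 : n150570 = n129584 := (((D129584).symm.trans (sb E74887 (iv3 F237087)))).symm
theorem E78350 : n150574 = n29584 := (((F102297).symm.trans (sb E74887 D150574))).symm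
theorem E78351 : n129586 = n74114 := ((D129586).symm.trans (sb E74887 (iv6 F110844)))
theorem E78352 : n77711 = n70972 := ((((iv1 F309235)).symm.trans (sb E74888 F307970))).symm
theorem E78353 : n77706 = n70971 := ((((iv0 F309236)).symm.trans (sb E74888 F307971))).symm
theorem F316268 : act 5 n78443 = n60874 := (sb E74888 (iv5 D129582))
theorem E78354 : n130902 = n55257 := ((((iv7 F309237)).symm.trans (sb E74888 (iv7 F209486)))).symm
theorem F316269 : act 1 n77670 = n58698 := (sb E74889 F304726)
theorem F316270 : act 2 n77670 = n81829 := (sb E74889 F304727)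
theorem E78355 : n165649 = n161708 := (((D161708).symm.trans (sb E74889 (iv3 F260929)))).symm
theorem E78356 : n132725 = n36234 := (((iv5 F306024)).symm.trans (sb E74889 (iv5 D79561)))
theorem E78357 : n98180 = n86095 := ((((iv3 F132048)).symm.trans (sb E74890 (iv3 F151468)))).symm
theorem F316271 : act 4 n39854 = n29768 := (sb E74890 F303809)
theorem E78358 : n86098 = n27042 := ((D86098).symm.trans (sb E74890 (iv6 D56065)))
theorem F316272 : act 3 n82445 = n81829 := (sb E74891 F268199)
theorem E78359 : n172149 = n81828 := ((D172149).symm.trans (sb E74891 (iv5 D170694)))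
theorem E78362 : n132724 = n36233 := ((((iv7 F301333)).symm.trans (sb E74892 F213073))).symm
theorem F316273 : act 0 n77669 = n58698 := (sb E74893 F304032)
theorem F316274 : act 4 n77669 = n69525 := (sb E74893 (iv4 F306134))
theorem F316275 : act 7 n77669 = n81829 := (sb E74893 F304035)
theorem F316276 : act 1 n60785 = n110627 := (sb E74894 (iv0 F203138))
theorem E78364 : n76195 = n59223 := (((iv5 F315914)).symm.trans (sb E74894 F203137))
theorem E78365 : n110036 = n60793 := (((iv3 F170165)).symm.trans (sb E74895 F207532))
theorem F316277 : act 7 n59222 = n60785 := (sb E74895 (iv7 D129343))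
theorem F316278 : act 4 n73644 = n59222 := (sb E74897 (iv4 D126331))
theorem E78366 : n84915 = n59220 := (((D59220).symm.trans (sb E74898 (iv1 D178453)))).symm
theorem E78367 : n84920 = n59221 := (((D59221).symm.trans (sb E74898 F278054))).symm
theorem F316279 : act 5 n117661 = n59219 := (sb E74899 (iv5 D126323))
theorem F316280 : act 6 n117661 = n59222 := (sb E74899 F203133)
theorem F316281 : act 1 n60864 = n45877 := (sb E74902 (iv0 D98182))
theorem F316282 : act 1 n38023 = n63265 := (sb E74903 (iv0 F213700))
theorem E78368 : n82721 = n62270 := ((D82721).symm.trans (sb E74903 F212580))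
theorem F316283 : act 5 n29465 = n54817 := (sb E74904 (iv5 D119121))
theorem E78369 : n178434 = n62272 := (((D62272).symm.trans (sb E74904 (iv6 F278035)))).symm
theorem E78370 : n135450 = n129335 := ((F314476).symm.trans (sb E74907 F212579))
theorem E78371 : n129873 = n62149 := ((F314477).symm.trans (sb E74907 (iv6 D132466)))
theorem F316284 : act 2 n117666 = n62152 := (sb E74911 F212564)
theorem F316285 : act 3 n117666 = n129547 := (sb E74911 F212565)
theorem F316286 : act 6 n117666 = n62147 := (sb E74911 (iv6 D132459))
theorem F316287 : act 5 n120059 = n180219 := (sb E74912 (iv5 F280556))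
theorem E78372 : n143343 = n39450 := (((D39450).symm.trans (sb E74913 D143343))).symm
theorem E78373 : n143328 = n39441 := ((((iv2 F60368)).symm.trans (sb E74913 (iv2 F226105)))).symm
theorem E78377 : n143347 = n39445 := ((((iv7 F304130)).symm.trans (sb E74913 D143347))).symm
theorem F316288 : act 0 n67145 = n39451 := (sb E74914 F306226)
theorem E78378 : n143355 = n124981 := (((iv3 F226126)).symm.trans (sb E74914 (iv3 F307105)))
theorem E78379 : n143358 = n39441 := ((D143358).symm.trans (sb E74914 F130639))
theorem E78380 : n143359 = n39439 := ((D143359).symm.trans (sb E74914 (iv6 D85374)))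
theorem E78387 : n116371 = n71862 := ((D116371).symm.trans (sb E74923 F200267))
theorem E78388 : n116372 = n26002 := ((D116372).symm.trans (sb E74923 (tr F200268 E77805)))
theorem E78389 : n116373 = n72048 := ((D116373).symm.trans (sb E74923 F200235))
theorem E78390 : n125002 = n115527 := ((((iv4 F179811)).symm.trans (sb E74923 D125002))).symm
theorem F316289 : act 5 n53636 = n27807 := (sb E74923 (iv5 D58441))
theorem E78399 : n116380 = n31233 := ((D116380).symm.trans (sb E74927 (tr F306232 E78017)))
theorem F316290 : act 5 n53643 = n39445 := (sb E74927 (iv5 D85396))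
theorem F316291 : act 4 n62431 = n81662 := (sb E74930 (iv4 D170275))
theorem F316292 : act 5 n157439 = n81662 := (sb E74931 (iv5 D170276))
theorem F316293 : act 2 n131687 = n81663 := (sb E74932 F267792)
theorem F316294 : act 7 n131687 = n81662 := (sb E74932 (iv7 D170278))
theorem F316295 : act 0 n29393 = n45877 := (sb E74933 (iv1 D98183))
theorem F316296 : act 5 n29441 = n45877 := (sb E74935 (iv5 D98184))
theorem E78404 : n174012 = n62206 := (((D62206).symm.trans (sb E74935 (iv6 F272657)))).symm
theorem F316297 : act 1 n131405 = n81664 := (sb E74937 (iv0 D170283))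
theorem F316298 : act 1 n157416 = n81667 := (sb E74938 (iv0 D170295))
theorem F316299 : act 0 n157428 = n81667 := (sb E74939 (iv1 D170296))
theorem F316300 : act 0 n144846 = n177128 := (sb E74940 (iv1 F276540))
theorem F316301 : act 1 n144846 = n177127 := (sb E74940 F276546)
theorem F316302 : act 7 n144846 = n81667 := (sb E74940 (iv7 D170298))
theorem F316303 : act 6 n28678 = n31019 := (sb E74948 (iv6 D66456))
theorem E78415 : n31089 = n17711 := (((F41752).symm.trans (sb E74950 (iv7 D66656)))).symm
theorem F316304 : act 5 n8334 = n7016 := (sb E74952 (iv5 D14703))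
theorem F316305 : act 5 n55869 = n49772 := (sb E74954 (iv5 D107748))
theorem E78419 : n59622 = n35736 := (((F88372).symm.trans (sb E74954 F166384))).symm
theorem F316306 : act 3 n28294 = n35737 := (sb E74955 F119617)
theorem F316307 : act 5 n36335 = n68522 := (sb E74957 (iv5 D146132))
theorem F316308 : act 5 n36334 = n68526 := (sb E74958 (iv5 D146138))
theorem F316309 : act 4 n78401 = n39473 := (sb E74963 (iv4 F311478))
theorem F316310 : act 1 n74095 = n86190 := (sb E74964 F302648)
theorem E78424 : n162970 = n120046 := (E78331).trans E78332
theorem E78429 : n180469 = n74093 := ((D180469).symm.trans (sb E74967 (iv5 D155758)))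
theorem F316313 : act 5 n33998 = n39889 := (sb E74969 (iv5 D86188))
theorem F316314 : act 0 n74094 = n86190 := (sb E74970 F253577)
theorem F316315 : act 4 n55242 = n86190 := (sb E74971 (iv4 D180477))
theorem E78431 : n162965 = n120044 := ((((iv3 F189597)).symm.trans (sb E74972 (iv3 F257325)))).symm
theorem F316316 : act 5 n55239 = n35714 := (sb E74972 (iv5 D78355))
theorem F316317 : act 7 n55239 = n86190 := (sb E74972 (iv7 F132151))
theorem E78432 : n130444 = n78270 := ((D130444).symm.trans (sb E74974 (iv5 D162832)))
theorem F316318 : act 1 n77615 = n58693 := (sb E74976 F123951)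
theorem E78433 : n167938 = n161596 := (((D161596).symm.trans (sb E74976 (iv3 F264646)))).symm
theorem E78434 : n153928 = n142678 := (((D142678).symm.trans (sb E74977 (iv3 F241937)))).symm
theorem E78435 : n60882 = n58458 := (((iv5 F102735)).symm.trans (sb E74977 F115122))
theorem E78436 : n161534 = n78756 := ((E75151).symm.trans (((iv4 F278841)).symm.trans (sb E74978 (iv4 D163932))))
theorem E78437 : n78745 = n75948 := ((((iv4 F113841)).symm.trans (sb E74979 (iv4 D163917)))).symm
theorem E78438 : n178956 = n51827 := (E74980).trans E76175
theorem E78439 : n112342 = n85326 := ((D112342).symm.trans (sb E78438 (iv5 D178956)))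
theorem E78440 : n163884 = n146193 := (((iv1 F258314)).symm.trans (sb E74982 (iv1 F279768)))
theorem E78441 : n129791 = n79706 := (((F303803).symm.trans (sb E74982 (tr F279769 E77949)))).symm
theorem E78442 : n141697 = n78727 := ((D141697).symm.trans (iv4 (sb E74982 (tr F279766 E77232))))
theorem E78443 : n163894 = n121450 := ((D163894).symm.trans (sb E74982 (tr F279767 E75145)))
theorem F316319 : act 7 n78727 = n85784 := (sb E74982 (iv7 D179646))
theorem F316320 : act 0 n155372 = n85784 := (sb E74983 F244791)
theorem F316321 : act 4 n155372 = n74106 := (sb E74983 (iv4 D155776))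
theorem E78444 : n159035 = n79706 := (E77949).trans E78441
theorem F316322 : act 0 n132637 = n86247 := (sb E74984 F257690)
theorem E78445 : n129949 = n78531 := ((F212912).symm.trans (sb E74984 (iv5 D163408)))
theorem E78446 : n163881 = n129502 := (((E78220).symm.trans (((iv3 F250388)).symm.trans (sb E74985 (iv3 F258307))))).symm
theorem F316323 : act 7 n75955 = n86247 := (sb E74985 (iv7 F132205))
theorem F316324 : act 3 n129497 = n78724 := (sb E74987 F258308)
theorem F316325 : act 6 n129497 = n78722 := (sb E74987 (iv6 D163882))
theorem E78447 : n165702 = n74105 := ((D165702).symm.trans (sb E74989 (iv5 D155775)))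
theorem F316326 : act 5 n35846 = n75955 := (sb E74992 (iv5 D159048))
theorem F316327 : act 5 n179644 = n86237 := (sb E74994 (iv5 D180568))
theorem F316329 : act 5 n39909 = n85784 := (sb E74995 (iv5 D179645))
theorem F316330 : act 1 n39923 = n75140 := (sb E74997 F248483)
theorem F316331 : act 4 n39923 = n75128 := (sb E74997 (iv4 D157688))
theorem E78448 : n110632 = n75140 := (((iv1 F171343)).symm.trans (sb E76188 F248486))
theorem F316332 : act 4 n51834 = n75129 := (sb E76188 (iv4 D157689))
theorem F316333 : act 5 n157709 = n121716 := (sb E74999 F281122)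
theorem F316334 : act 7 n157709 = n163896 := (sb E74999 F281123)
theorem F316335 : act 5 n56247 = n75140 := (sb E75000 (iv5 D157710))
theorem E78449 : n117154 = n27102 := ((((iv6 D56247)).symm.trans (sb E75000 F248524))).symm
theorem F316336 : act 6 n68355 = n86268 := (sb E75002 (iv6 D180613))
theorem E78451 : n163874 = n59535 := (((F102339).symm.trans (sb E75003 (iv3 F258304)))).symm
theorem E78452 : n141672 = n35844 := ((D141672).symm.trans (sb E75003 (iv5 D78720)))
theorem E78453 : n112631 = n79875 := ((F175274).symm.trans (sb E75004 (iv5 D166351)))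
theorem E78454 : n112621 = n78510 := ((((iv1 F119981)).symm.trans (sb E75005 (iv1 F175235)))).symm
theorem E78455 : n112620 = n39811 := ((((iv0 F92089)).symm.trans (sb E75005 F175232))).symm
theorem E78456 : n25219 = n17570 := (((F57139).symm.trans (sb E75005 (iv4 D51976)))).symm
theorem E78458 : n178268 = n32180 := (((D32180).symm.trans (sb E75007 F281007))).symm
theorem E78459 : n55758 = n25218 := ((((iv4 D51971)).symm.trans (sb E75008 F301307))).symm
theorem E78460 : n112622 = n55757 := ((D112622).symm.trans (sb E75008 (iv6 F302669)))
theorem E78461 : n177455 = n52262 := (((iv4 F276873)).symm.trans (sb E75009 (iv4 D113219)))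
theorem F316337 : act 5 n84612 = n147628 := (sb E75009 (iv5 F231402))
theorem E78462 : n110071 = n78755 := (((D78755).symm.trans (sb E75010 D110071))).symm
theorem E78463 : n24708 = n17363 := ((((iv4 D35856)).symm.trans (sb E75010 (iv4 D50766)))).symm
theorem E78466 : n78744 = n32188 := ((D78744).symm.trans (sb E75011 F81307))
theorem E78467 : n24707 = n17362 := ((((iv4 D35851)).symm.trans (sb E75011 (iv4 D50761)))).symm
theorem E78470 : n109767 = n18878 := ((((iv1 F30121)).symm.trans (sb E75012 (iv1 F170016)))).symm
theorem E78471 : n51789 = n18877 := (((F30125).symm.trans (sb E75012 F169988))).symm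
theorem E78472 : n38999 = n28059 := (((iv3 F60012)).symm.trans (sb E75012 (iv3 D59044)))
theorem E78473 : n110504 = n27751 := ((((iv5 F44798)).symm.trans (sb E75012 (iv5 F171000)))).symm
theorem E78475 : n50773 = n35848 := (((iv4 F314980)).symm.trans (sb E75015 (iv4 D78731)))
theorem F316338 : act 5 n74100 = n76200 := (sb E75016 (iv5 D159272))
theorem F316339 : act 3 n62858 = n65075 := (sb E75023 F221756)
theorem F316340 : act 5 n62858 = n65074 := (sb E75023 (iv5 D138586))
theorem F316341 : act 3 n59988 = n31424 := (sb E75024 F103670)
theorem E78478 : n144341 = n127755 := (((D127755).symm.trans (sb E75024 (iv4 F227080)))).symm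
theorem F316342 : act 6 n59988 = n65074 := (sb E75024 F103671)
theorem E78479 : n105857 = n31420 := ((F182281).symm.trans (sb E75024 (iv7 D67658)))
theorem F316343 : act 6 n49881 = n65075 := (sb E75025 (iv6 D138587))
theorem F316344 : act 6 n30738 = n53892 := (sb E75026 (iv6 D116943))
theorem E78486 : n145684 = n125266 := (((D125266).symm.trans (sb E75034 D145684))).symm
theorem E78487 : n66136 = n66121 := ((E78140).symm.trans ((D125267).symm.trans (sb E75034 F104455)))
theorem E78488 : n67648 = n25913 := (E75035).trans E75040
theorem E78489 : n144363 = n53489 := ((((iv3 F84388)).symm.trans (sb E78488 (iv3 F227111)))).symm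
theorem E78492 : n68290 = n30922 := (E75036).trans E75042
theorem E78493 : n145689 = n66103 := ((((iv3 F101748)).symm.trans (sb E78492 D145689))).symm
theorem E78496 : n144373 = n26696 := (((E77733).symm.trans ((D66146).symm.trans (sb E78492 (iv6 F227134))))).symm
theorem E78499 : n66676 = n31777 := (((iv3 F102584)).symm.trans (sb E75037 F104463))
theorem E78501 : n66122 = n65132 := ((((iv7 F100903)).symm.trans (sb E75037 F104464))).symm
theorem E78502 : n125267 = n66121 := (E78140).trans E78487
theorem F316345 : act 7 n30914 = n27883 := (sb E75038 (iv7 D58624))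
theorem E78505 : n150896 = n53482 := ((((iv2 F84381)).symm.trans (sb E75039 (iv2 F237612)))).symm
theorem E78506 : n150908 = n53462 := ((((iv4 F84364)).symm.trans (sb E75039 (iv4 F237624)))).symm
theorem E78507 : n125268 = n53489 := (((D53489).symm.trans (sb E75039 (iv5 F201447)))).symm
theorem E78508 : n85435 = n53497 := (((D53497).symm.trans (sb E75040 (iv4 F131926)))).symm
theorem E78511 : n118347 = n66071 := ((((iv2 F101734)).symm.trans (sb E75041 (iv2 F185977)))).symm
theorem E78512 : n118349 = n65978 := ((((iv4 F101670)).symm.trans (sb E75041 (iv4 F185983)))).symm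
theorem E78513 : n118352 = n66103 := ((((iv5 F101749)).symm.trans (sb E75041 D118352))).symm
theorem E78514 : n53424 = n26361 := (((iv6 F84278)).symm.trans (sb E75041 (iv6 D54508)))
theorem E78515 : n74032 = n66145 := ((((iv4 F101772)).symm.trans (sb E75042 (iv4 F110781)))).symm
theorem F316346 : act 4 n12573 = n12288 := (sb E75043 F40889)
theorem F316347 : act 6 n12573 = n14637 := (sb E75043 F40890)
theorem E78516 : n143960 = n60432 := (((iv6 F226597)).symm.trans (sb E75044 (iv6 D128493)))
theorem F316348 : act 6 n30915 = n59995 := (sb E75045 F107661)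
theorem F316349 : act 1 n85967 = n62135 := (sb E75046 (iv0 D132434))
theorem F316350 : act 2 n132513 = n68003 := (sb E75047 F264351)
theorem F316351 : act 5 n132513 = n67958 := (sb E75047 (iv5 D144962))
theorem F316352 : act 6 n132513 = n118286 := (sb E75047 F227932)
theorem F316353 : act 7 n132513 = n67998 := (sb E75047 F264352)
theorem F316354 : act 2 n132514 = n67998 := (sb E75048 F264343)
theorem F316355 : act 5 n132514 = n67957 := (sb E75048 (iv5 D144958))
theorem F316356 : act 7 n132514 = n68003 := (sb E75048 F264344)
theorem E78517 : n131041 = n105816 := (E75052).trans E75114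
theorem F316357 : act 6 n105816 = n65594 := (sb E78517 F209748)
theorem E78518 : n68061 = n48919 := ((((iv7 D105816)).symm.trans (sb E78517 (tr F209749 E75216)))).symm
theorem E78519 : n149653 = n64832 := (((F102773).symm.trans (sb E75058 (iv3 F235256)))).symm
theorem E78520 : n127181 = n32617 := ((D127181).symm.trans (sb E75058 (iv6 D70284)))
theorem E78523 : n62680 = n28329 := (((D28329).symm.trans (sb E75059 F214845))).symm
theorem F316358 : act 0 n68286 = n58530 := (sb E75062 (iv1 F114310))
theorem F316359 : act 1 n68286 = n34838 := (sb E75062 (iv0 D76268))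
theorem F316360 : act 2 n68286 = n59995 := (sb E75062 (iv2 F199972))
theorem E78524 : n156661 = n145670 := ((((iv3 F228723)).symm.trans (sb E75062 (tr D159442 E76458)))).symm
theorem E78525 : n145677 = n69672 := (((iv4 F228739)).symm.trans (sb E75062 (iv4 F114319)))
theorem F316361 : act 5 n68286 = n68516 := (sb E75062 (iv5 F114311))
theorem F316362 : act 7 n68286 = n59996 := (sb E75062 F199976)
theorem F316363 : act 5 n30911 = n28326 := (sb E75069 F77139)
theorem E78527 : n146969 = n25996 := (E77284).trans E77801
theorem E78529 : n116601 = n72055 := ((D116601).symm.trans (sb E75072 F239926))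
theorem E78530 : n146833 = n116549 := (((D116549).symm.trans (sb E75073 F278588))).symm
theorem E78531 : n75931 = n60971 := (((iv4 F113821)).symm.trans (sb E75075 (iv4 D129807)))
theorem F316364 : act 6 n74996 = n65583 := (sb E75076 (iv6 D139733))
theorem E78532 : n141701 = n54348 := ((D141701).symm.trans (sb E75077 F313289))
theorem E78533 : n141702 = n54005 := ((D141702).symm.trans (sb E75077 (iv0 D117175)))
theorem F316365 : act 2 n66450 = n68516 := (sb E75077 (iv2 F199974))
theorem E78535 : n141700 = n55642 := (((iv4 F224753)).symm.trans (sb E75077 F313290))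
theorem F316366 : act 5 n66450 = n59995 := (sb E75077 F183314)
theorem F316367 : act 7 n66450 = n68466 := (sb E75077 (iv7 F199970))
theorem E78536 : n179924 = n145668 := ((D179924).symm.trans (sb E75080 (iv1 F228721)))
theorem E78537 : n179925 = n145667 := ((D179925).symm.trans (sb E75080 F228720))
theorem F316368 : act 2 n85973 = n66132 := (sb E75080 F224015)
theorem E78538 : n145709 = n145665 := ((E76459).symm.trans ((D179927).symm.trans (sb E75080 (iv7 F228712))))
theorem E78539 : n127302 = n66125 := ((D127302).symm.trans (sb E75083 (iv6 D140981)))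
theorem F316369 : act 6 n74167 = n66124 := (sb E75084 (iv6 D140978))
theorem F316370 : act 4 n133316 = n81747 := (sb E75085 F236975)
theorem E78540 : n142550 = n32052 := (((D32052).symm.trans (sb E75087 (iv3 F225431)))).symm
theorem F316371 : act 5 n15121 = n31157 := (sb E75087 F102724)
theorem E78541 : n142659 = n116435 := (((D116435).symm.trans (sb E75088 D142659))).symm
theorem F316372 : act 5 n53665 = n54313 := (sb E75088 F313243)
theorem F316373 : act 6 n53665 = n31160 := (sb E75088 F102723)
theorem E78542 : n117194 = n52963 := (((iv4 F183355)).symm.trans (sb E75089 F178861))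
theorem F316374 : act 5 n149529 = n81555 := (sb E75090 (iv5 D170045))
theorem F316375 : act 7 n149529 = n81719 := (sb E75090 F267490)
theorem F316376 : act 1 n149530 = n76698 := (sb E75091 (iv0 D160134))
theorem F316377 : act 5 n37250 = n70224 := (sb E75092 (iv5 D149531))
theorem F316379 : act 3 n52986 = n81723 := (sb E75094 (iv3 D170477))
theorem E78543 : n170533 = n114833 := (((D114833).symm.trans (sb E75094 (iv5 F267969)))).symm
theorem E78544 : n142686 = n32653 := ((D142686).symm.trans (sb E75097 (iv0 D70345)))
theorem E78545 : n149753 = n142683 := ((((iv3 F225570)).symm.trans (sb E75097 D149753))).symm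
theorem E78546 : n149754 = n60885 := (((F102736).symm.trans (sb E75097 D149754))).symm
theorem E78547 : n142687 = n54312 := ((D142687).symm.trans (sb E75097 F106817))
theorem E78548 : n149756 = n60753 := ((D149756).symm.trans (sb E75099 (iv4 D129243)))
theorem F316382 : act 5 n141690 = n85479 := (sb E75100 (iv5 D179140))
theorem E78549 : n132501 = n58459 := ((((iv1 F92338)).symm.trans (sb E75101 (iv1 F212634)))).symm
theorem E78551 : n132503 = n25994 := (E77285).trans E77800
theorem E78552 : n60883 = n28284 := (((E76391).symm.trans ((D85480).symm.trans (sb E75101 F207780)))).symm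
theorem F316383 : act 5 n39471 = n66446 := (sb E75101 F207781)
theorem E78553 : n147006 = n116416 := ((((iv3 F181614)).symm.trans (sb E75102 F230440))).symm
theorem E78554 : n147004 = n116417 := (((D116417).symm.trans (sb E75103 D147004))).symm
theorem E78555 : n116418 = n81766 := ((D116418).symm.trans (sb E75103 F313100))
theorem E78556 : n146999 = n116408 := ((((iv2 F181571)).symm.trans (sb E75103 (iv2 F230429)))).symm
theorem E78558 : n142445 = n65567 := ((F225367).symm.trans (sb E75104 (tr D147021 E77036)))
theorem E78559 : n142448 = n117479 := (((iv2 F225366)).symm.trans (sb E75104 (iv2 F183983)))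
theorem E78560 : n147022 = n142536 := ((((iv4 F225427)).symm.trans (sb E75104 D147022))).symm
theorem F316384 : act 6 n66828 = n33812 := (sb E75104 (iv6 F105099))
theorem F316385 : act 2 n54152 = n48912 := (sb E75105 F162439)
theorem E78561 : n117525 = n71090 := ((D117525).symm.trans (sb E75105 F162440))
theorem E78562 : n117526 = n48906 := ((D117526).symm.trans (sb E75105 (iv6 D105773)))
theorem F316386 : act 0 n23853 = n48912 := (sb E75106 F243375)
theorem E78563 : n48918 = n14890 := ((D48918).symm.trans (sb E75106 (iv3 D31667)))
theorem E78564 : n68062 = n48920 := (((D48920).symm.trans (sb E75106 D68062))).symm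
theorem E78565 : n170364 = n48908 := ((D170364).symm.trans (sb E75107 (iv3 D105776)))
theorem E78566 : n170365 = n59890 := ((D170365).symm.trans (sb E75107 F162449))
theorem F316387 : act 6 n105777 = n150756 := (sb E75109 (iv6 F243253))
theorem F316388 : act 5 n105778 = n49007 := (sb E75110 (iv5 D106014))
theorem F316389 : act 1 n105746 = n48912 := (sb E75111 (iv0 D105788))
theorem F316390 : act 3 n105746 = n59902 := (sb E75111 F243373)
theorem E78569 : n59738 = n14889 := ((((iv2 F182718)).symm.trans (sb E75112 (iv2 F94112)))).symm
theorem F316391 : act 3 n26057 = n48921 := (sb E75112 (iv3 F77132))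
theorem F316392 : act 4 n26057 = n13521 := (sb E75112 (iv4 D28342))
theorem E78570 : n59752 = n53892 := (((D53892).symm.trans (sb E75112 D59752))).symm
theorem F316393 : act 3 n105821 = n53893 := (sb E75115 F182709)
theorem F316394 : act 5 n105821 = n68525 := (sb E75115 (iv5 F182710))
theorem F316395 : act 7 n105821 = n149300 := (sb E75115 F313198)
theorem E78572 : n145177 = n30997 := (E75118).trans E75793
theorem E78574 : n71090 = n66383 := (((F102279).symm.trans (sb E78572 F243396))).symm
theorem E78575 : n145211 = n30991 := (E75119).trans E75794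
theorem E78576 : n66383 = n66361 := (((D66361).symm.trans (sb E78575 (tr F229538 E78574)))).symm
theorem E78577 : n71090 = n66361 := (E78574).trans E78576
theorem E78578 : n167927 = n66240 := ((((iv4 F101830)).symm.trans (sb E75796 (iv4 F264619)))).symm
theorem E78579 : n105803 = n30996 := (E75121).trans E75792
theorem E78580 : n146032 = n66364 := ((((iv1 F102270)).symm.trans (sb E78579 (iv1 F229260)))).symm
theorem E78581 : n67911 = n14666 := ((((iv0 D30996)).symm.trans (sb E78579 F162498))).symm
theorem E78582 : n117525 = n66361 := (E78561).trans E78577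
theorem E78583 : n146038 = n66388 := (((D66388).symm.trans (sb E78579 (iv7 F229282)))).symm
theorem F316396 : act 7 n105782 = n148800 := (sb E75122 (iv7 F233638))
theorem F316397 : act 4 n34402 = n48912 := (sb E75123 F162478)
theorem F316398 : act 6 n34402 = n48911 := (sb E75123 (iv6 D105787))
theorem F316399 : act 0 n47037 = n99526 := (sb E75125 (iv1 F311963))
theorem F316400 : act 1 n47037 = n97950 := (sb E75125 (iv0 F313611))
theorem F316401 : act 2 n47037 = n71673 := (sb E75125 F238364)
theorem F316402 : act 4 n47037 = n71424 := (sb E75125 F238365)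
theorem E78584 : n100921 = n71423 := ((D100921).symm.trans (sb E75125 (iv6 D151504)))
theorem F316403 : act 3 n120672 = n60381 := (sb E75132 (iv3 D128416))
theorem F316404 : act 1 n106095 = n66847 := (sb E75134 F313911)
theorem F316405 : act 6 n106095 = n76689 := (sb E75134 F192376)
theorem F316406 : act 7 n106095 = n55622 := (sb E75134 (iv7 D120675))
theorem F316407 : act 0 n119879 = n76689 := (sb E75135 (iv1 F192381))
theorem F316408 : act 1 n119879 = n55624 := (sb E75135 (iv0 D120677))
theorem F316410 : act 6 n119879 = n153031 := (sb E75135 (iv6 F240336))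
theorem F316411 : act 2 n119881 = n76667 := (sb E75136 (iv2 F247845))
theorem F316412 : act 0 n28953 = n35632 := (sb E75137 F60647)
theorem E78589 : n86061 = n61102 := ((((iv3 F95616)).symm.trans (sb E75137 (iv3 F131999)))).symm
theorem E78590 : n61109 = n18848 := ((D61109).symm.trans (sb E75137 (iv5 D39836)))
theorem F316413 : act 1 n121400 = n75953 := (sb E75139 (iv0 D159041))
theorem F316414 : act 0 n35455 = n75953 := (sb E75140 F250358)
theorem E78592 : n77660 = n75941 := ((D77660).symm.trans (sb E75140 (iv4 D159020)))
theorem F316415 : act 0 n120617 = n56086 := (sb E75141 F302268)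
theorem F316416 : act 1 n120617 = n56072 := (sb E75141 (iv0 D121449))
theorem F316417 : act 5 n120617 = n80238 := (sb E75141 F302269)
theorem F316418 : act 7 n120617 = n77659 := (sb E75141 (iv7 F193807))
theorem F316419 : act 1 n119697 = n149155 := (sb E75142 F248443)
theorem F316420 : act 5 n119697 = n75115 := (sb E75142 (iv5 D157667))
theorem F316421 : act 5 n77227 = n75953 := (sb E75143 (iv5 D159042))
theorem E78593 : n85993 = n35255 := ((((iv6 D77227)).symm.trans (sb E75143 F250385))).symm
theorem E78594 : n138722 = n121450 := ((D138722).symm.trans (iv4 (sb E75145 (tr (iv4 D150887) E76418))))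
theorem F316422 : act 7 n121450 = n75953 := (sb E75145 F237605)
theorem F316423 : act 0 n75940 = n56127 := (sb E75146 F304466)
theorem F316424 : act 1 n75940 = n56051 := (sb E75146 (iv0 D121430))
theorem F316425 : act 2 n75940 = n77557 := (sb E75146 F193759)
theorem E78596 : n159019 = n80229 := ((D159019).symm.trans (sb E75146 F304467))
theorem F316426 : act 7 n75940 = n77558 := (sb E75146 F193756)
theorem E78597 : n175614 = n65595 := ((F314190).symm.trans (sb E75147 (tr F229391 E76498)))
theorem E78598 : n174345 = n68526 := ((D174345).symm.trans (sb E75147 (iv6 D146139)))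
theorem F316427 : act 0 n55549 = n121485 := (sb E75148 (iv1 F303167))
theorem F316428 : act 1 n55549 = n121451 := (sb E75148 (iv0 F255533))
theorem F316429 : act 4 n55549 = n77557 := (sb E75148 (iv4 D161529))
theorem F316430 : act 7 n55549 = n161677 := (sb E75148 F255684)
theorem F316431 : act 6 n55548 = n77557 := (sb E75149 (iv6 D161531))
theorem F316432 : act 0 n71306 = n121451 := (sb E75150 F255537)
theorem F316433 : act 1 n71306 = n121485 := (sb E75150 (iv0 F303166))
theorem F316434 : act 2 n71306 = n161677 := (sb E75150 F255683)
theorem F316435 : act 4 n71306 = n77558 := (sb E75150 (iv4 D161533))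
theorem E78599 : n178957 = n78756 := (E75151).trans E78436
theorem E78600 : n159032 = n125295 := ((((iv1 F201511)).symm.trans (sb E78599 (iv1 F278843)))).symm
theorem E78601 : n163916 = n130087 := ((F258345).symm.trans (sb E78599 (tr F278844 E76128)))
theorem E78602 : n159034 = n121261 := ((((iv2 F193347)).symm.trans (sb E78599 F278840))).symm
theorem F316436 : act 4 n78756 = n85327 := (sb E78599 F278841)
theorem E78603 : n121253 = n85326 := (((iv7 F193333)).symm.trans (sb E78599 (iv7 D178957)))
theorem E78604 : n176437 = n39215 := (((E77044).symm.trans ((D146733).symm.trans (sb E75152 F304589)))).symm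
theorem E78605 : n166355 = n56127 := ((F315539).symm.trans (sb E75152 (iv6 D121536)))
theorem E78606 : n161564 = n6959 := (E75153).trans E77774
theorem E78607 : n77600 = n14565 := (((D14565).symm.trans (sb E78606 (iv0 D161564)))).symm
theorem E78608 : n162324 = n11668 := ((((iv2 F19005)).symm.trans (sb E78606 (iv2 F263763)))).symm
theorem E78609 : n167498 = n5595 := (((F11222).symm.trans (sb E78606 (iv5 F300323)))).symm
theorem F316437 : act 0 n67939 = n90247 := (sb E75157 F142428)
theorem F316438 : act 1 n67939 = n69730 := (sb E75157 (iv0 F144909))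
theorem E78611 : n144920 = n43283 := (((iv3 F227889)).symm.trans (sb E75157 (iv3 D92506)))
theorem E78612 : n144925 = n88690 := ((D144925).symm.trans (sb E75157 F290626))
theorem F316439 : act 7 n67939 = n90144 := (sb E75157 F142424)
theorem F316440 : act 0 n145945 = n69730 := (sb E75158 (iv1 D148785))
theorem F316441 : act 1 n145945 = n90247 := (sb E75158 F233593)
theorem F316442 : act 2 n145945 = n90144 := (sb E75158 F233596)
theorem F316443 : act 5 n145945 = n90491 := (sb E75158 (iv5 F233595))
theorem F316444 : act 1 n52936 = n68440 := (sb E75160 F233140)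
theorem F316445 : act 4 n52936 = n60415 := (sb E75160 F206597)
theorem F316446 : act 6 n52936 = n60414 := (sb E75160 (iv6 D128461))
theorem E78613 : n146001 = n114740 := (E75161).trans E76914
theorem F316447 : act 0 n114740 = n68454 := (sb E78613 (iv1 F229232))
theorem F316448 : act 6 n114740 = n147242 := (sb E78613 (iv6 F243216))
theorem F316449 : act 7 n114740 = n144912 := (sb E78613 F243214)
theorem E78614 : n145916 = n114745 := (E75162).trans E76921
theorem F316450 : act 1 n114745 = n68454 := (sb E78614 F243212)
theorem F316451 : act 2 n114745 = n144912 := (sb E78614 F229105)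
theorem F316452 : act 6 n114745 = n68420 := (sb E78614 (iv6 D145916))
theorem F316453 : act 4 n119055 = n68416 := (sb E75165 (iv4 D145910))
theorem F316454 : act 4 n67940 = n76457 := (sb E75166 (iv4 D159782))
theorem F316455 : act 0 n7064 = n3429 := (sb E75170 (iv1 D7516))
theorem F316456 : act 1 n7064 = n12638 := (sb E75170 F21048)
theorem F316457 : act 5 n7064 = n7092 := (sb E75170 F11756)
theorem F316458 : act 7 n7064 = n12635 := (sb E75170 F21039)
theorem E78621 : n149727 = n67286 := ((D149727).symm.trans (sb E75175 (iv7 D143666)))
theorem F316459 : act 7 n114593 = n67993 := (sb E75176 (iv7 D145045))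
theorem F316460 : act 0 n31642 = n52911 := (sb E75177 (iv1 F290330))
theorem F316461 : act 1 n31642 = n52845 := (sb E75177 (iv0 D114486))
theorem F316462 : act 2 n31642 = n52913 := (sb E75177 F290324)
theorem F316463 : act 7 n31642 = n52894 := (sb E75177 F290328)
theorem E78622 : n119202 = n68002 := ((D119202).symm.trans (sb E75178 F264349))
theorem F316464 : act 4 n54855 = n67958 := (sb E75178 (iv4 D144961))
theorem E78623 : n114272 = n67997 := (((iv7 F178120)).symm.trans (sb E75178 F264350))
theorem F316465 : act 1 n114634 = n69066 := (sb E75183 F243298)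
theorem F316466 : act 2 n114634 = n69327 := (sb E75183 F247837)
theorem F316467 : act 3 n114634 = n105783 := (sb E75183 (tr (iv3 F248451) E76198))
theorem E78624 : n157709 = n152489 := ((((iv4 F290472)).symm.trans (sb E75186 (iv4 F248522)))).symm
theorem F316468 : act 2 n114640 = n67993 := (sb E75187 F227921)
theorem F316469 : act 1 n83941 = n69746 := (sb E75188 F229453)
theorem E78625 : n175873 = n68545 := ((D175873).symm.trans (sb E75188 (iv4 D146174)))
theorem E78626 : n175874 = n125295 := ((D175874).symm.trans (sb E75188 (tr F250370 E78600)))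
theorem F316470 : act 0 n61076 = n69746 := (sb E75189 F229452)
theorem F316471 : act 4 n61076 = n68546 := (sb E75189 (iv4 D146177))
theorem F316472 : act 3 n79797 = n70967 := (sb E75190 (iv3 D150556))
theorem F316473 : act 5 n74052 = n79423 := (sb E75191 (iv5 D165324))
theorem F316474 : act 2 n39761 = n74368 := (sb E75193 F245689)
theorem E78627 : n140992 = n85970 := (((D85970).symm.trans (sb E75193 F245690))).symm
theorem E78628 : n85971 = n67698 := ((D85971).symm.trans (sb E75194 (iv1 F167389)))
theorem E78629 : n68279 = n54469 := ((((iv0 F155443)).symm.trans (sb E75194 F104435))).symm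
theorem F316475 : act 2 n39762 = n30917 := (sb E75194 (iv2 D66130))
theorem E78630 : n85974 = n68281 := ((D85974).symm.trans (sb E75194 (iv7 F104437)))
theorem F316476 : act 1 n125175 = n74368 := (sb E75195 (iv0 D156346))
theorem F316477 : act 5 n125175 = n108141 := (sb E75195 (iv5 F247381))
theorem F316478 : act 0 n125174 = n74368 := (sb E75196 (iv1 D156347))
theorem F316479 : act 4 n125174 = n133575 := (sb E75196 (iv4 F245697))
theorem F316480 : act 5 n125174 = n108142 := (sb E75196 F245696)
theorem F316481 : act 2 n156348 = n85969 := (sb E75198 F280152)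
theorem E78631 : n139804 = n67698 := ((D139804).symm.trans (sb E75200 (tr F185809 E78628)))
theorem E78633 : n145108 = n140989 := (((D140989).symm.trans (sb E75201 (iv3 F228081)))).symm
theorem E78634 : n145111 = n140990 := (((D140990).symm.trans (sb E75201 (iv4 F228087)))).symm
theorem E78636 : n139812 = n31655 := (((iv6 F223005)).symm.trans (sb E75201 (iv6 D68022)))
theorem E78637 : n85995 = n30908 := (((D30908).symm.trans (sb E75203 F185988))).symm
theorem E78640 : n116027 = n71143 := (((D71143).symm.trans (sb E75206 (iv1 F180779)))).symm
theorem E78641 : n116026 = n71144 := (((D71144).symm.trans (sb E75206 F180785))).symm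
theorem E78642 : n116029 = n71138 := ((((iv2 F107648)).symm.trans (sb E75206 (iv2 F180782)))).symm
theorem E78643 : n115962 = n71142 := ((((iv4 F107652)).symm.trans (sb E75206 (iv4 F180570)))).symm
theorem E78644 : n116061 = n70977 := ((((iv5 F107527)).symm.trans (sb E75206 (iv5 F180805)))).symm
theorem E78645 : n30785 = n15862 := ((((iv6 D32941)).symm.trans (sb E75206 F84390))).symm
theorem F316482 : act 7 n32941 = n25909 := (sb E75206 (iv7 D53490))
theorem F316483 : act 2 n32874 = n30922 := (sb E75207 F84403)
theorem E78646 : n116073 = n70979 := ((((iv4 F107529)).symm.trans (sb E75207 (iv4 F180834)))).symm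
theorem F316484 : act 7 n32874 = n25913 := (sb E75207 (iv7 D53498))
theorem F316485 : act 7 n7439 = n6967 := (sb E75208 (iv7 D14585))
theorem F316486 : act 3 n34710 = n60853 := (sb E75211 F207651)
theorem F316487 : act 3 n39616 = n60851 := (sb E75212 (iv3 D129496))
theorem E78648 : n140969 = n85774 := (((D85774).symm.trans (sb E75212 (iv7 F223993)))).symm
theorem F316488 : act 3 n39620 = n30916 := (sb E75215 F101756)
theorem F316489 : act 6 n39620 = n30914 := (sb E75215 (iv6 D66123))
theorem E78649 : n129616 = n48919 := (E75216).trans E78518
theorem E78650 : n105815 = n67414 := ((D105815).symm.trans (sb E78649 F207793))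
theorem E78651 : n145150 = n67661 := ((D145150).symm.trans (sb E75217 F207794))
theorem E78652 : n117159 = n67662 := (((D67662).symm.trans (sb E75218 (iv5 F183278)))).symm
theorem F316490 : act 6 n31422 = n31664 := (sb E75218 (iv6 D68051))
theorem F316491 : act 6 n50056 = n67708 := (sb E75219 (iv6 D144489))
theorem E78653 : n121432 = n67660 := (((D67660).symm.trans (sb E75220 (iv5 F311518)))).symm
theorem E78654 : n145067 = n139819 := ((((iv1 F223015)).symm.trans (sb E75221 F228018))).symm
theorem F316492 : act 1 n65676 = n85760 := (sb E75223 (iv0 F189717))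
theorem F316493 : act 2 n65676 = n70968 := (sb E75223 F189714)
theorem E78655 : n155665 = n139902 := (((D139902).symm.trans (sb E75223 (iv4 F244688)))).symm
theorem E78656 : n139903 = n61382 := ((D139903).symm.trans (sb E75223 F189715))
theorem F316494 : act 6 n65676 = n55258 := (sb E75223 (iv6 D120098))
theorem F316495 : act 7 n65676 = n58547 := (sb E75223 F189716)
theorem F316496 : act 0 n65666 = n58547 := (sb E75224 (iv1 D125184))
theorem F316497 : act 1 n65666 = n70968 := (sb E75224 F201248)
theorem E78657 : n139881 = n131634 := ((D139881).symm.trans (sb E75224 (iv5 F210868)))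
theorem F316498 : act 7 n65666 = n85760 := (sb E75224 F201249)
theorem E78659 : n139888 = n85307 := ((D139888).symm.trans (sb E75225 (iv1 D178911)))
theorem E78660 : n149514 = n30760 := ((((iv6 D65670)).symm.trans (sb E75225 (iv6 F278789)))).symm
theorem E78661 : n139905 = n62928 := ((D139905).symm.trans (sb E75226 (iv1 F215512)))
theorem E78662 : n139906 = n131633 := ((D139906).symm.trans (sb E75226 F215513))
theorem E78663 : n139907 = n130476 := ((D139907).symm.trans (sb E75226 F215509))
theorem F316499 : act 6 n65677 = n62921 := (sb E75226 F215511)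
theorem F316500 : act 7 n65677 = n62858 := (sb E75226 (iv7 D133848))
theorem E78664 : n32588 = n30757 := (((D30757).symm.trans (sb E75227 (iv1 D70218)))).symm
theorem E78665 : n70983 = n14810 := (E76622).trans E77541
theorem E78669 : n138430 = n54462 := (((D54462).symm.trans (sb E75230 D138430))).symm
theorem E78674 : n138434 = n70975 := ((((iv4 F107520)).symm.trans (sb E75232 D138434))).symm
theorem F316501 : act 0 n32913 = n53843 := (sb E75234 (iv1 F100810))
theorem F316502 : act 1 n32913 = n53835 := (sb E75234 (iv0 F100809))
theorem F316503 : act 4 n32913 = n34252 := (sb E75234 F100807)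
theorem F316504 : act 6 n66126 = n74139 := (sb E75235 F237660)
theorem F316505 : act 3 n127967 = n65623 := (sb E75236 (iv3 D139798))
theorem E78678 : n62229 = n59971 := (((D59971).symm.trans (sb E75237 (iv4 D132629)))).symm
theorem E78679 : n79931 = n62227 := (((iv4 F315542)).symm.trans (sb E75238 (iv4 D132621)))
theorem E78681 : n149723 = n67288 := (((D67288).symm.trans (sb E75246 F235456))).symm
theorem E78682 : n67282 = n53769 := (((iv2 F103178)).symm.trans (sb E75246 (tr (iv2 F235453) E77308)))
theorem E78683 : n149733 = n67289 := (((D67289).symm.trans (sb E75246 (iv5 F235485)))).symm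
theorem F316506 : act 7 n31294 = n32645 := (sb E75246 (iv7 D70332))
theorem E78684 : n149759 = n67303 := (((D67303).symm.trans (sb E75247 (iv4 F235546)))).symm
theorem F316507 : act 7 n31297 = n32653 := (sb E75247 (iv7 D70348))
theorem F316508 : act 1 n32273 = n67316 := (sb E75251 (iv0 D143731))
theorem F316509 : act 7 n143722 = n69500 := (sb E75252 (iv7 D148268))
theorem E78685 : n148263 = n32274 := (E75257).trans E77177
theorem E78686 : n69504 = n69500 := ((D69504).symm.trans (sb E78685 (iv2 D148263)))
theorem F316510 : act 3 n160121 = n85560 := (sb E75259 (iv3 D179322))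
theorem E78688 : n155505 = n143126 := ((D155505).symm.trans (iv0 (sb E75260 (tr F252627 E76148))))
theorem F316511 : act 1 n143126 = n76670 := (sb E75260 F252635)
theorem F316512 : act 7 n143126 = n149574 := (sb E75260 (iv7 F252628))
theorem E78690 : n153031 = n31454 := (((F181564).symm.trans (sb E75264 F278224))).symm
theorem E78691 : n85007 = n53684 := ((((iv2 F84692)).symm.trans (sb E75264 F188010))).symm
theorem E78692 : n153740 = n31751 := (((F166895).symm.trans (sb E75265 F241607))).symm
theorem F316513 : act 3 n68891 = n65573 := (sb E75266 (iv3 D139707))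
theorem E78694 : n146968 = n85790 := ((D146968).symm.trans (sb E75266 F222879))
theorem E78695 : n141568 = n70066 := ((D141568).symm.trans (sb E75274 F278621))
theorem E78696 : n141569 = n61669 := ((D141569).symm.trans (sb E75274 F278622))
theorem E78697 : n141564 = n70254 := (((iv2 F224596)).symm.trans (sb E75274 F237525))
theorem F316514 : act 7 n66401 = n70237 := (sb E75274 F200059)
theorem E78698 : n160101 = n155508 := ((((iv4 F244527)).symm.trans (sb E75276 (iv4 F252683)))).symm
theorem E78699 : n155557 = n133778 := ((D155557).symm.trans (sb E75276 (iv5 F215403)))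
theorem F316515 : act 7 n74004 = n54359 := (sb E75276 (iv7 D118003))
theorem F316516 : act 5 n62825 = n33964 := (sb E75278 (iv5 D74006))
theorem E78702 : n148492 = n30903 := ((((iv1 F84267)).symm.trans (sb E75279 (tr D149417 E77097)))).symm
theorem E78703 : n60158 = n25876 := ((((iv5 D53415)).symm.trans (sb E75279 F106552))).symm
theorem F316517 : act 6 n53415 = n32554 := (sb E75279 (iv6 D70161))
theorem E78709 : n25878 = n15865 := ((((iv5 F25333)).symm.trans (sb E75280 (iv5 D53423)))).symm
theorem E78711 : n149417 = n30903 := (E77097).trans E78702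
theorem E78713 : n149431 = n115858 := (((D115858).symm.trans (sb E75281 D149431))).symm
theorem E78714 : n149296 = n117883 := (E77093).trans E77102
theorem E78715 : n117883 = n115860 := (((D115860).symm.trans (sb E75281 (tr F234668 E78714)))).symm
theorem E78716 : n149338 = n115862 := (((D115862).symm.trans (sb E75282 (iv3 F235029)))).symm
theorem E78717 : n149434 = n115863 := (((D115863).symm.trans (sb E75282 D149434))).symm
theorem E78718 : n149335 = n115865 := (((D115865).symm.trans (sb E75282 F235030))).symm
theorem E78720 : n71167 = n25875 := (((D25875).symm.trans (sb E75283 D71167))).symm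
theorem F316518 : act 2 n7440 = n6967 := (sb E75287 F20368)
theorem F316519 : act 4 n7440 = n5827 := (sb E75287 F20369)
theorem F316520 : act 6 n7440 = n5826 := (sb E75287 (iv6 D12285))
theorem E78726 : n116044 = n115862 := ((D116044).symm.trans (sb E75290 (tr (iv1 F234772) E78716)))
theorem E78727 : n149461 = n116045 := (((D116045).symm.trans (sb E75290 F235061))).symm
theorem E78728 : n149463 = n116025 := ((((iv2 F180777)).symm.trans (sb E75290 (iv2 F235060)))).symm
theorem E78729 : n116043 = n31272 := (((iv4 F180797)).symm.trans (sb E75290 (tr (iv4 F235088) E77430)))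
theorem E78730 : n149485 = n116046 := (((D116046).symm.trans (sb E75290 (iv5 F235102)))).symm
theorem F316521 : act 7 n53486 = n32580 := (sb E75290 (iv7 D70199))
theorem F316522 : act 1 n28474 = n32513 := (sb E76454 (iv0 D70055))
theorem E78735 : n97195 = n59921 := ((((iv4 F94396)).symm.trans (sb E76454 (iv4 F290457)))).symm
theorem E78736 : n149182 = n59961 := (E75320).trans E77079
theorem F316523 : act 1 n15427 = n13521 := (sb E75293 (iv0 D28340))
theorem E78737 : n48927 = n17042 := ((((iv2 F27941)).symm.trans (sb E75293 (iv2 F177233)))).symm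
theorem E78741 : n48926 = n25910 := ((((iv7 F314044)).symm.trans (sb E75293 (iv7 F177236)))).symm
theorem E78744 : n67654 = n59993 := ((D67654).symm.trans (sb E77731 F106676))
theorem E78745 : n30912 = n30758 := (((D30758).symm.trans (sb E75295 (iv0 D66114)))).symm
theorem E78749 : n116046 = n67645 := (((D67645).symm.trans (sb E77729 (tr (iv3 F235101) E78730)))).symm
theorem E78750 : n149518 = n67646 := (((D67646).symm.trans (sb E77729 (iv4 F235134)))).symm
theorem E78751 : n117706 = n66461 := (((D66461).symm.trans (sb E75297 D117706))).symm
theorem E78752 : n66462 = n53712 := ((D66462).symm.trans (sb E75297 (tr D117707 E78191)))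
theorem E78753 : n117682 = n66463 := (((D66463).symm.trans (sb E75297 (iv2 F184277)))).symm
theorem E78754 : n117708 = n66458 := ((((iv4 F102354)).symm.trans (sb E75297 D117708))).symm
theorem E78755 : n66464 = n26221 := ((D66464).symm.trans (sb E75297 (iv5 D54218)))
theorem F316524 : act 6 n31025 = n26606 := (sb E75297 F85554)
theorem F316525 : act 5 n12437 = n14676 := (sb E75299 (iv5 D31026))
theorem F316526 : act 7 n69609 = n143496 := (sb E75308 (iv7 F314057))
theorem E78760 : n166424 = n146143 := (((D146143).symm.trans (sb E75309 D166424))).symm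
theorem E78761 : n146144 = n56205 := ((D146144).symm.trans (sb E75309 F122649))
theorem E78762 : n166425 = n146145 := (((D146145).symm.trans (sb E75309 D166425))).symm
theorem E78763 : n166422 = n146140 := (((D146140).symm.trans (sb E75310 D166422))).symm
theorem E78764 : n146141 = n56207 := ((D146141).symm.trans (sb E75310 F122643))
theorem F316527 : act 4 n27105 = n54057 := (sb E75311 (iv4 D117290))
theorem F316528 : act 4 n123240 = n65350 := (sb E75312 (iv4 D139229))
theorem F316529 : act 7 n123240 = n67236 := (sb E75312 F222416)
theorem F316530 : act 6 n149185 = n81739 := (sb E75315 (iv6 D170519))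
theorem F316531 : act 6 n149287 = n81740 := (sb E75316 (iv6 D170523))
theorem E78765 : n140031 = n76784 := ((D140031).symm.trans (iv2 (sb E75318 (tr F267504 E75421))))
theorem E78766 : n160244 = n84437 := ((D160244).symm.trans (sb E75318 F267505))
theorem F316532 : act 6 n76784 = n81559 := (sb E75318 (iv6 D170053))
theorem E78767 : n140046 = n59761 := ((D140046).symm.trans (sb E75319 (iv1 D127307)))
theorem E78768 : n149184 = n140042 := ((((iv3 F223259)).symm.trans (sb E75319 F314080))).symm
theorem E78769 : n154905 = n140045 := ((((iv4 F223261)).symm.trans (sb E75319 F314081))).symm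
theorem E78770 : n140048 = n138394 := ((D140048).symm.trans (sb E75319 F314082))
theorem E78771 : n131278 = n127716 := (((D127716).symm.trans (sb E78736 F234551))).symm
theorem F316533 : act 5 n68106 = n66113 := (sb E75321 (iv5 D140947))
theorem F316534 : act 1 n59764 = n69574 := (sb E75323 (iv0 D148478))
theorem F316535 : act 0 n32856 = n69574 := (sb E75324 (iv1 D148479))
theorem F316536 : act 2 n79770 = n69574 := (sb E75325 (iv2 D148480))
theorem E78773 : n106017 = n105820 := (((iv3 F310024)).symm.trans (sb E75326 F233239))
theorem F316537 : act 4 n68069 = n69574 := (sb E75326 (iv4 D148481))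
theorem E78774 : n174135 = n167733 := (((D167733).symm.trans (sb E75328 (iv0 F272935)))).symm
theorem E78775 : n167734 = n119372 := ((D167734).symm.trans (sb E75328 F263360))
theorem F316538 : act 5 n80491 = n80261 := (sb E75328 (iv5 D167184))
theorem E78776 : n121175 = n80264 := (((iv6 F193249)).symm.trans (sb E75328 F263362))
theorem E78777 : n80272 = n26967 := ((((iv6 F43518)).symm.trans (sb E75329 F263381))).symm
theorem E78778 : n80270 = n35901 := ((D80270).symm.trans (sb E75330 F114171))
theorem E78779 : n80271 = n26982 := ((D80271).symm.trans (sb E75330 F114172))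
theorem F316539 : act 2 n36571 = n35801 := (sb E75330 F88464)
theorem E78780 : n121176 = n17642 := ((((iv5 D36571)).symm.trans (sb E75330 D121176))).symm
theorem F316540 : act 6 n36571 = n36712 := (sb E75330 F88465)
theorem E78781 : n80273 = n35804 := ((D80273).symm.trans (sb E75330 F88466))
theorem E78784 : n160529 = n52239 := ((((iv2 F82598)).symm.trans (sb E75332 D160529))).symm
theorem E78785 : n50750 = n35164 := (((iv3 F80129)).symm.trans (sb E75332 (iv3 D76969)))
theorem E78786 : n160530 = n13424 := (((F45439).symm.trans (sb E75332 D160530))).symm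
theorem F316541 : act 5 n55773 = n62085 := (sb E75334 (iv5 D132341))
theorem E78788 : n62088 = n26926 := (((F88204).symm.trans (sb E75334 F212313))).symm
theorem E78789 : n62096 = n6108 := (((F21379).symm.trans (sb E75335 F212344))).symm
theorem E78790 : n62094 = n26924 := (((D26924).symm.trans (sb E75336 D62094))).symm
theorem E78791 : n62095 = n26925 := (((D26925).symm.trans (sb E75336 D62095))).symm
theorem E78792 : n26927 = n13981 := ((D26927).symm.trans (sb E75336 (iv5 D29398)))
theorem E78800 : n159250 = n58055 := ((D159250).symm.trans (sb E75339 (iv1 F300917)))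
theorem E78801 : n159251 = n82906 := ((D159251).symm.trans (sb E75339 (iv0 F300914)))
theorem E78802 : n159252 = n83258 := ((D159252).symm.trans (sb E75339 (iv2 F300623)))
theorem E78803 : n160806 = n159246 := ((((iv4 F250735)).symm.trans (sb E75339 D160806))).symm
theorem F316542 : act 5 n76191 = n35227 := (sb E75339 (iv5 D77162))
theorem F316543 : act 7 n76191 = n75670 := (sb E75339 (iv7 F300618))
theorem F316544 : act 5 n76183 = n62449 := (sb E75340 (iv5 D133105))
theorem E78805 : n79593 = n62543 := ((F302524).symm.trans (sb E75340 F213754))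
theorem E78806 : n62545 = n34800 := (((D34800).symm.trans (sb E75341 F213787))).symm
theorem E78807 : n62297 = n17507 := (((iv1 F97137)).symm.trans (sb E75342 (iv1 D36248)))
theorem E78808 : n62304 = n17511 := (((iv0 F97158)).symm.trans (sb E75342 F56976))
theorem E78809 : n79594 = n14040 := ((((iv5 D29560)).symm.trans (sb E75342 D79594))).symm
theorem F316545 : act 6 n29560 = n34799 := (sb E75342 (iv6 F299540))
theorem E78810 : n62546 = n36058 := ((D62546).symm.trans (sb E75342 F56977))
theorem E78811 : n162975 = n127885 := ((D162975).symm.trans (sb E75343 F235884))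
theorem F316546 : act 5 n78361 = n70534 := (sb E75343 (iv5 D149963))
theorem E78812 : n160478 = n38518 := ((D160478).symm.trans (sb E75344 (iv1 F127851)))
theorem E78813 : n160479 = n38517 := ((D160479).symm.trans (sb E75344 F127852))
theorem E78814 : n160480 = n38520 := ((D160480).symm.trans (sb E75344 F127849))
theorem E78815 : n160772 = n160476 := ((((iv4 F253488)).symm.trans (sb E75344 (iv4 F300905)))).symm
theorem F316547 : act 5 n76929 = n38179 := (sb E75344 F127850)
theorem E78816 : n173343 = n76151 := (((F115595).symm.trans (sb E75344 D173343))).symm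
theorem F316548 : act 7 n76929 = n38178 := (sb E75344 (iv7 D82955))
theorem E78817 : n174771 = n160492 := (((D160492).symm.trans (sb E75345 D174771))).symm
theorem E78818 : n174772 = n160493 := (((D160493).symm.trans (sb E75345 D174772))).symm
theorem E78819 : n160494 = n38501 := ((D160494).symm.trans (sb E75345 F128598))
theorem E78820 : n174773 = n160490 := ((((iv4 F253518)).symm.trans (sb E75345 D174773))).symm
theorem F316549 : act 5 n76947 = n38495 := (sb E75345 (iv5 D83498))
theorem E78821 : n78871 = n77436 := (((iv6 F120035)).symm.trans (sb E75345 F128600))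
theorem E78822 : n77447 = n17380 := ((((iv6 F28334)).symm.trans (sb E75346 F255129))).symm
theorem E78823 : n38778 = n35799 := (((iv1 F299933)).symm.trans (sb E75347 F115642))
theorem E78824 : n77446 = n26966 := ((D77446).symm.trans (sb E75347 F115643))
theorem F316550 : act 2 n35359 = n35796 := (sb E75347 (iv2 F114140))
theorem E78825 : n78872 = n17158 := ((((iv5 D35359)).symm.trans (sb E75347 D78872))).symm
theorem F316551 : act 6 n35359 = n35156 := (sb E75347 F56559)
theorem E78826 : n77448 = n35797 := ((D77448).symm.trans (sb E75347 (iv7 F114147)))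
theorem F316552 : act 1 n61076 = n84851 := (sb E75348 (iv0 D178298))
theorem F316553 : act 0 n83941 = n84851 := (sb E75349 (iv1 D178299))
theorem E78828 : n125294 = n38662 := ((((iv5 D83941)).symm.trans (sb E75349 F277867))).symm
theorem F316554 : act 6 n36469 = n58693 := (sb E75350 (iv6 D125333))
theorem E78831 : n143895 = n69821 := ((((iv2 F307427)).symm.trans (sb E75353 (iv2 F226525)))).symm
theorem F316555 : act 5 n61833 = n31330 := (sb E75353 (iv5 D67404))
theorem F316556 : act 1 n161385 = n77663 := (sb E75355 (iv0 D161683))
theorem F316557 : act 0 n35480 = n77663 := (sb E75356 (iv1 D161684))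
theorem F316558 : act 7 n119129 = n77745 := (sb E75357 (iv7 F255858))
theorem E78835 : n123269 = n123199 := (((F255693).symm.trans (sb E75358 F255859))).symm
theorem F316559 : act 2 n161686 = n77745 := (sb E75361 F255860)
theorem E78836 : n127728 = n29229 := ((D127728).symm.trans (sb E75362 F155495))
theorem E78837 : n131277 = n127729 := (((D127729).symm.trans (sb E75362 D131277))).symm
theorem E78838 : n131279 = n127730 := (((D127730).symm.trans (sb E75362 D131279))).symm
theorem F316560 : act 7 n59964 = n62784 := (sb E75362 (iv7 F109911))
theorem F316561 : act 1 n28447 = n21678 := (sb E75364 (iv0 D45427))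
theorem E78843 : n97217 = n59892 := (((D59892).symm.trans (sb E75364 D97217))).symm
theorem F316562 : act 7 n28447 = n97218 := (sb E75364 D97218)
theorem F316563 : act 0 n28464 = n21678 := (sb E75365 (iv1 D45428))
theorem F316564 : act 2 n28464 = n97218 := (sb E75365 (iv2 F149969))
theorem E78847 : n97222 = n59932 := (((D59932).symm.trans (sb E75365 D97222))).symm
theorem E78848 : n137290 = n97209 := (((D97209).symm.trans (sb E75366 (iv1 F220432)))).symm
theorem E78849 : n137289 = n97210 := (((D97210).symm.trans (sb E75366 F220431))).symm
theorem E78850 : n111812 = n97211 := (((D97211).symm.trans (sb E75366 F204970))).symm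
theorem E78851 : n97212 = n59915 := ((D97212).symm.trans (sb E75366 F204971))
theorem E78852 : n111799 = n97223 := (((D97223).symm.trans (sb E75367 (iv1 F173539)))).symm
theorem E78853 : n97224 = n67886 := ((D97224).symm.trans (sb E75367 F169490))
theorem E78854 : n97225 = n69070 := ((D97225).symm.trans (sb E75367 F169487))
theorem E78855 : n97226 = n59916 := ((D97226).symm.trans (sb E75367 F169489))
theorem F316565 : act 0 n28459 = n44754 := (sb E75368 (iv1 F71689))
theorem F316566 : act 6 n28459 = n44762 := (sb E75368 F71687)
theorem F316567 : act 7 n28459 = n21678 := (sb E75368 (iv7 D45430))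
theorem E78857 : n127571 = n95312 := (((D95312).symm.trans (sb E75369 D127571))).symm
theorem E78858 : n127572 = n95307 := ((((iv2 F146948)).symm.trans (sb E75369 D127572))).symm
theorem E78859 : n113653 = n95313 := (((D95313).symm.trans (sb E75369 F176845))).symm
theorem E78860 : n127507 = n95314 := (((D95314).symm.trans (sb E75369 (iv7 F204946)))).symm
theorem E78861 : n95332 = n44998 := ((D95332).symm.trans (sb E75370 (tr (iv2 F105169) E77137)))
theorem E78862 : n127542 = n95333 := (((D95333).symm.trans (sb E75370 D127542))).symm
theorem E78863 : n95334 = n31893 := ((D95334).symm.trans (sb E75370 F94381))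
theorem E78864 : n127452 = n95335 := (((D95335).symm.trans (sb E75370 (iv5 F204877)))).symm
theorem E78865 : n127543 = n95336 := (((D95336).symm.trans (sb E75370 D127543))).symm
theorem E78867 : n127540 = n95338 := (((D95338).symm.trans (sb E75371 D127540))).symm
theorem F316568 : act 4 n44531 = n32012 := (sb E75371 F94378)
theorem E78868 : n127451 = n95340 := (((D95340).symm.trans (sb E75371 (iv5 F204873)))).symm
theorem E78869 : n127541 = n95341 := (((D95341).symm.trans (sb E75371 D127541))).symm
theorem E78870 : n95342 = n75069 := ((D95342).symm.trans (sb E75372 (iv1 F112591)))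
theorem E78871 : n127545 = n95343 := (((D95343).symm.trans (sb E75372 F205010))).symm
theorem E78872 : n95344 = n32175 := ((D95344).symm.trans (sb E75372 F94389))
theorem E78874 : n127508 = n95345 := (((D95345).symm.trans (sb E75372 (iv7 F204949)))).symm
theorem F316569 : act 4 n44533 = n28445 := (sb E75373 (iv4 D59885))
theorem F316570 : act 6 n65727 = n76753 := (sb E75374 (iv6 D160197))
theorem E78875 : n117789 = n70340 := (((iv4 F184475)).symm.trans (sb E75375 (iv4 D149745)))
theorem E78876 : n116452 = n76654 := (((iv4 F181664)).symm.trans (sb E75376 (iv4 D160065)))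
theorem F316571 : act 1 n69323 = n48945 := (sb E75379 (iv0 D105868))
theorem F316572 : act 0 n69322 = n48945 := (sb E75380 (iv1 D105869))
theorem E78877 : n159901 = n147935 := ((((iv3 F231741)).symm.trans (sb E75381 (iv3 F252156)))).symm
theorem F316573 : act 7 n69309 = n48945 := (sb E75381 (iv7 D105871))
theorem E78878 : n147962 = n106131 := ((D147962).symm.trans (sb E75382 (iv0 F163149)))
theorem E78879 : n147963 = n71926 := ((D147963).symm.trans (sb E75382 F137289))
theorem E78880 : n114462 = n68337 := (((F105592).symm.trans (sb E75382 F178519))).symm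
theorem E78881 : n146560 = n90758 := (((iv5 F229867)).symm.trans (sb E75382 (iv5 F139685)))
theorem E78882 : n147964 = n41819 := ((D147964).symm.trans (sb E75382 (iv6 D89558)))
theorem E78883 : n117872 = n92451 := (((iv7 F205251)).symm.trans (sb E75383 (iv7 F142234)))
theorem E78885 : n147954 = n71842 := (((F108286).symm.trans (sb E75385 D147954))).symm
theorem F316574 : act 3 n33235 = n32218 := (sb E75385 (iv3 D69314))
theorem E78887 : n147316 = n71932 := (((D71932).symm.trans (sb E75385 (iv4 F230975)))).symm
theorem E78888 : n146558 = n71933 := (((D71933).symm.trans (sb E75385 (iv5 F229866)))).symm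
theorem E78889 : n147956 = n71934 := (((D71934).symm.trans (sb E75385 D147956))).symm
theorem E78890 : n159903 = n147932 := (((D147932).symm.trans (sb E75388 (iv1 F252161)))).symm
theorem E78891 : n159902 = n147933 := (((D147933).symm.trans (sb E75388 F252165))).symm
theorem E78892 : n159904 = n140802 := ((((iv2 F223876)).symm.trans (sb E75388 (iv2 F252162)))).symm
theorem F316575 : act 7 n69307 = n60115 := (sb E75388 (iv7 D127956))
theorem F316576 : act 3 n25651 = n31930 := (sb E75389 (iv3 D68621))
theorem E78896 : n146337 = n52852 := (((D52852).symm.trans (sb E75389 D146337))).symm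
theorem E78897 : n146338 = n52853 := (((D52853).symm.trans (sb E75389 D146338))).symm
theorem E78898 : n146344 = n114953 := ((D146344).symm.trans (sb E75391 (iv5 F179037)))
theorem E78899 : n77616 = n27903 := (((F56310).symm.trans (sb E75392 F306596))).symm
theorem F316577 : act 5 n35633 = n62363 := (sb E75392 (iv5 D132897))
theorem F316578 : act 1 n60310 = n79987 := (sb E75396 (iv0 D166662))
theorem F316579 : act 0 n38548 = n79987 := (sb E75397 (iv1 D166663))
theorem F316580 : act 2 n162838 = n79987 := (sb E75398 F262282)
theorem F316581 : act 3 n162838 = n160959 := (sb E75398 F262283)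
theorem E78900 : n181146 = n79984 := (((iv5 F282153)).symm.trans (sb E75398 (iv5 D166650)))
theorem F316582 : act 6 n162838 = n162692 := (sb E75398 F262284)
theorem F316583 : act 4 n73251 = n79987 := (sb E75399 (iv4 D166664))
theorem E78901 : n162695 = n154155 := ((((iv6 F242250)).symm.trans (sb E75399 F262293))).symm
theorem E78902 : n162696 = n128149 := (E76784).trans E77323
theorem F316584 : act 4 n29180 = n35632 := (sb E75402 (iv4 F312954))
theorem E78908 : n125361 = n85032 := ((D125361).symm.trans (sb E75405 (iv3 F313348)))
theorem F316585 : act 4 n58703 = n29706 := (sb E75405 F97103)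
theorem E78909 : n125362 = n56075 := ((D125362).symm.trans (sb E75405 F306874))
theorem E78913 : n77671 = n27907 := (((D27907).symm.trans (sb E75409 F306027))).symm
theorem E78914 : n73637 = n59560 := (((F166122).symm.trans (sb E75410 (iv5 D155144)))).symm
theorem F316586 : act 5 n39288 = n68306 := (sb E75411 (iv5 D145711))
theorem E78915 : n172363 = n155796 := ((((iv3 F244801)).symm.trans (sb E75413 (iv3 F270593)))).symm
theorem E78916 : n174972 = n74168 := ((((iv4 F110894)).symm.trans (sb E75413 (iv4 F273848)))).symm
theorem E78917 : n155800 = n134703 := (((iv5 F244806)).symm.trans (sb E75413 (iv5 F306020)))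
theorem E78918 : n155723 = n54920 := ((D155723).symm.trans (sb E75415 F123368))
theorem E78919 : n167246 = n33993 := ((((iv4 D74080)).symm.trans (sb E75415 D167246))).symm
theorem E78920 : n155724 = n36576 := ((D155724).symm.trans (sb E75415 (iv5 D80283)))
theorem E78921 : n140982 = n36579 := (((iv6 F316192)).symm.trans (sb E75415 F123369))
theorem E78922 : n117345 = n55972 := (((iv4 F183766)).symm.trans (sb E75416 (iv4 D121329)))
theorem F316587 : act 7 n54081 = n114852 := (sb E75416 F193458)
theorem F316588 : act 1 n68694 = n76527 := (sb E75417 (iv0 D159863))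
theorem E78923 : n66087 = n65734 := ((D66087).symm.trans (sb E75419 (tr (iv0 D170535) E75421)))
theorem E78924 : n170534 = n67284 := (((F103179).symm.trans (sb E75421 (iv4 F267970)))).symm
theorem E78925 : n170537 = n30981 := (((F105774).symm.trans (sb E75421 D170537))).symm
theorem E78926 : n140032 = n37358 := ((D140032).symm.trans (sb E75421 (iv6 D81744)))
theorem E78928 : n105840 = n35096 := ((((iv1 D76785)).symm.trans (sb E75423 F181684))).symm
theorem E78929 : n127259 = n66067 := (((E77722).symm.trans ((F253023).symm.trans (sb E75423 F204519)))).symm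
theorem E78930 : n127200 = n66086 := (((E77723).symm.trans (((iv2 F253008)).symm.trans (sb E75423 (iv2 F204468))))).symm
theorem F316589 : act 3 n76785 = n53483 := (sb E75423 (iv3 D116031))
theorem F316590 : act 5 n76785 = n53599 := (sb E75423 F181685)
theorem F316591 : act 7 n76785 = n65734 := (sb E75423 F181686)
theorem F316592 : act 2 n73641 = n54974 := (sb E75424 (iv2 D119479))
theorem F316593 : act 7 n73641 = n54975 := (sb E75424 (iv7 F188278))
theorem F316594 : act 4 n119288 = n84469 := (sb E75425 (iv4 D177301))
theorem F316595 : act 3 n73603 = n54975 := (sb E75426 (iv3 D119485))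
theorem F316596 : act 4 n70444 = n54975 := (sb E75427 (iv4 D119486))
theorem F316597 : act 1 n38956 = n54973 := (sb E75428 (iv0 D119475))
theorem F316598 : act 1 n119476 = n84469 := (sb E75429 F255866)
theorem F316599 : act 2 n119476 = n77747 := (sb E75429 F255862)
theorem F316600 : act 3 n119476 = n84500 := (sb E75429 (iv3 F255865))
theorem F316601 : act 4 n119476 = n77746 := (sb E75429 (iv4 D161881))
theorem F316602 : act 7 n119476 = n84471 := (sb E75429 F255863)
theorem F316603 : act 7 n96631 = n84469 := (sb E75430 (iv7 D177304))
theorem F316604 : act 2 n119478 = n84469 := (sb E75434 (iv2 D177300))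
theorem E78931 : n83501 = n46584 := (((D46584).symm.trans (sb E75435 (iv3 D174777)))).symm
theorem E78932 : n47313 = n33625 := ((D47313).symm.trans (sb E75436 (iv1 D72945)))
theorem E78933 : n154060 = n47314 := (((D47314).symm.trans (sb E75436 F242103))).symm
theorem E78934 : n54411 = n47315 := (((D47315).symm.trans (sb E75436 F190690))).symm
theorem E78935 : n54388 = n47316 := (((D47316).symm.trans (sb E75436 F190691))).symm
theorem E78937 : n154071 = n47318 := (((D47318).symm.trans (sb E75436 D154071))).symm
theorem E78938 : n54406 = n46579 := (((F156693).symm.trans (sb E75436 F190692))).symm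
theorem E78939 : n175615 = n68526 := (E75455).trans E78598
theorem E78940 : n146137 = n83852 := ((D146137).symm.trans (sb E78939 F274936))
theorem E78941 : n172014 = n38332 := ((D172014).symm.trans (sb E75456 (iv1 D83254)))
theorem E78942 : n172015 = n119397 := ((D172015).symm.trans (sb E75456 F188118))
theorem E78944 : n174167 = n172012 := ((((iv3 F270065)).symm.trans (sb E75456 D174167))).symm
theorem F316605 : act 1 n132759 = n104181 := (sb E75459 (iv0 F249756))
theorem F316606 : act 3 n132759 = n159132 := (sb E75459 (iv3 F250550))
theorem F316607 : act 0 n132770 = n104181 := (sb E75463 F270513)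
theorem F316608 : act 3 n132770 = n100488 := (sb E75463 F249754)
theorem E78948 : n158743 = n62642 := (((F97716).symm.trans (sb E75468 (iv0 F249922)))).symm
theorem E78949 : n130685 = n83052 := ((D130685).symm.trans (sb E75468 F249170))
theorem F316609 : act 2 n34594 = n62458 := (sb E75470 F213796)
theorem E78950 : n174873 = n130820 := (((D130820).symm.trans (sb E75472 (iv5 F273770)))).symm
theorem E78951 : n75678 = n63241 := ((D75678).symm.trans (sb E75476 F98483))
theorem E78952 : n129975 = n75679 := (((D75679).symm.trans (sb E75476 D129975))).symm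
theorem F316610 : act 2 n34602 = n62344 := (sb E75476 (iv2 F208418))
theorem E78953 : n129976 = n75680 := (((D75680).symm.trans (sb E75476 D129976))).symm
theorem E78955 : n129978 = n75626 := ((((iv6 F113466)).symm.trans (sb E75476 D129978))).symm
theorem F316611 : act 7 n34602 = n62339 := (sb E75476 (iv7 F208429))
theorem E78956 : n129985 = n75624 := (((D75624).symm.trans (sb E75477 D129985))).symm
theorem E78957 : n129986 = n62474 := (((F310732).symm.trans (sb E75477 D129986))).symm
theorem F316612 : act 2 n34587 = n62346 := (sb E75477 (iv2 F208422))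
theorem E78959 : n129988 = n75627 := (((D75627).symm.trans (sb E75477 D129988))).symm
theorem F316613 : act 0 n120305 = n71762 := (sb E75478 (iv1 F239209))
theorem F316614 : act 1 n120305 = n71757 := (sb E75478 (iv0 D152155))
theorem F316615 : act 2 n120305 = n135392 := (sb E75478 (iv2 F239210))
theorem F316616 : act 5 n61051 = n75327 := (sb E75479 F249114)
theorem F316617 : act 2 n38687 = n62339 := (sb E75480 (iv2 F208428))
theorem E78960 : n115128 = n83999 := ((((iv3 F128965)).symm.trans (sb E75480 (iv3 F179290)))).symm
theorem F316618 : act 4 n38687 = n28935 := (sb E75480 (iv4 D61052))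
theorem E78962 : n129995 = n84001 := (((D84001).symm.trans (sb E75480 D129995))).symm
theorem F316619 : act 7 n38687 = n62344 := (sb E75480 (iv7 F208419))
theorem F316620 : act 4 n61313 = n39951 := (sb E75482 (iv4 D86334))
theorem F316621 : act 5 n61313 = n84092 := (sb E75482 (iv5 F300837))
theorem E78964 : n180748 = n130680 := (((D130680).symm.trans (sb E75482 (iv6 F281337)))).symm
theorem F316622 : act 5 n61314 = n80436 := (sb E75483 F301477)
theorem E78965 : n83972 = n29028 := (((D29028).symm.trans (sb E75484 F249797))).symm
theorem E78966 : n130011 = n83970 := (((D83970).symm.trans (sb E75485 (iv1 F213432)))).symm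
theorem E78967 : n130014 = n83971 := (((D83971).symm.trans (sb E75485 (iv0 F212595)))).symm
theorem E78968 : n130689 = n18399 := ((((iv4 D38676)).symm.trans (sb E75485 D130689))).symm
theorem F316623 : act 5 n38676 = n29027 := (sb E75485 (iv5 D61316))
theorem E78970 : n83055 = n62645 := (((iv7 F128004)).symm.trans (sb E75485 (iv7 F97724)))
theorem E78971 : n84032 = n62675 := (((D62675).symm.trans (sb E75487 F249146))).symm
theorem F316624 : act 1 n37443 = n62458 := (sb E75488 (iv0 D133123))
theorem F316625 : act 1 n133124 = n75656 := (sb E75489 F249147)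
theorem F316626 : act 2 n133124 = n75654 := (sb E75489 F249151)
theorem F316627 : act 4 n133124 = n75360 := (sb E75489 F249149)
theorem F316628 : act 5 n133124 = n160603 := (sb E75489 (iv5 F302329))
theorem F316629 : act 6 n133124 = n82615 := (sb E75489 (iv6 F249150))
theorem F316630 : act 7 n133124 = n75521 := (sb E75489 F249148)
theorem F316631 : act 3 n38702 = n62461 := (sb E75490 F213813)
theorem F316632 : act 5 n38702 = n62458 := (sb E75490 (iv5 D133125))
theorem F316633 : act 3 n133136 = n82400 := (sb E75496 (iv3 D172046))
theorem E78972 : n179860 = n136695 := (((D136695).symm.trans (sb E75497 (iv1 F280125)))).symm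
theorem E78973 : n179857 = n136696 := (((D136696).symm.trans (sb E75497 (iv0 F280110)))).symm
theorem E78974 : n135936 = n76085 := (((iv2 F218658)).symm.trans (sb E75497 F236279))
theorem F316634 : act 5 n64242 = n70650 := (sb E75497 (iv5 D150120))
theorem E78975 : n127042 = n69970 := (((iv1 F204281)).symm.trans (sb E75498 (iv1 D149095)))
theorem E78976 : n154077 = n136246 := ((((iv1 F219276)).symm.trans (sb E75499 F305523))).symm
theorem E78977 : n136245 = n57106 := ((F219275).symm.trans (sb E75499 (iv0 D122832)))
theorem E78978 : n135937 = n76086 := (((iv2 F218660)).symm.trans (sb E75499 F305524))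
theorem E78979 : n160347 = n136662 := ((((iv3 F219811)).symm.trans (sb E75499 F253309))).symm
theorem E78980 : n136698 = n70652 := ((D136698).symm.trans (sb E75499 F305525))
theorem F316635 : act 6 n64243 = n70650 := (sb E75499 F305526)
theorem F316636 : act 1 n109672 = n69656 := (sb E75502 (iv0 D148633))
theorem F316637 : act 5 n109672 = n158953 := (sb E75502 F250293)
theorem F316638 : act 6 n109672 = n72291 := (sb E75502 F250294)
theorem F316639 : act 3 n123579 = n60773 := (sb E75503 F207496)
theorem E78982 : n185843 = n60771 := (((iv5 F288252)).symm.trans (sb E75503 (iv5 D129298)))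
theorem F316640 : act 7 n123579 = n129709 := (sb E75503 (iv7 F207897))
theorem F316641 : act 1 n73323 = n52948 := (sb E75504 (iv0 D114723))
theorem F316642 : act 0 n73322 = n52948 := (sb E75505 (iv1 D114724))
theorem F316643 : act 3 n73315 = n96690 := (sb E75506 F178828)
theorem E78983 : n154622 = n78930 := ((D154622).symm.trans (sb E75506 F178829))
theorem F316644 : act 7 n73315 = n52948 := (sb E75506 (iv7 D114726))
theorem F316645 : act 1 n128455 = n69729 := (sb E75507 (iv0 D148782))
theorem F316646 : act 0 n128453 = n69729 := (sb E75508 (iv1 D148783))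
theorem F316647 : act 5 n128453 = n114206 := (sb E75508 (iv5 F233585))
theorem E78984 : n154641 = n78929 := ((D154641).symm.trans (sb E75509 (iv1 F233591)))
theorem E78985 : n154642 = n78928 := ((D154642).symm.trans (sb E75509 F233592))
theorem E78986 : n154643 = n90261 := ((D154643).symm.trans (sb E75509 F233587))
theorem E78987 : n154644 = n78912 := ((D154644).symm.trans (sb E75509 F233588))
theorem F316648 : act 6 n73324 = n90247 := (sb E75509 F233589)
theorem F316649 : act 7 n73324 = n69729 := (sb E75509 (iv7 D148784))
theorem E78988 : n167229 = n83370 := ((D167229).symm.trans (sb E75510 F313536))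
theorem E78989 : n167230 = n69901 := ((D167230).symm.trans (sb E75510 F234315))
theorem E78990 : n167232 = n131475 := ((D167232).symm.trans (sb E75510 F234316))
theorem F316650 : act 7 n80278 = n69900 := (sb E75510 (iv7 D149030))
theorem F316651 : act 1 n27566 = n57566 := (sb E75513 (iv0 D123516))
theorem E78991 : n174744 = n98890 := ((D174744).symm.trans (sb E75519 (iv1 F281957)))
theorem E78992 : n175732 = n174745 := (((D174745).symm.trans (sb E75519 F275166))).symm
theorem E78993 : n173627 = n173344 := ((((iv2 F271796)).symm.trans (sb E75519 (iv2 F279274)))).symm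
theorem F316652 : act 3 n83490 = n71640 := (sb E75519 (iv3 F313473))
theorem E78994 : n175752 = n174746 := (((D174746).symm.trans (sb E75519 D175752))).symm
theorem E78996 : n174747 = n173632 := ((D174747).symm.trans (sb E75519 (iv7 F279265)))
theorem F316653 : act 6 n151948 = n186443 := (sb E75520 (iv6 F289248))
theorem F316654 : act 6 n39082 = n71640 := (sb E75521 (iv6 F313474))
theorem E78997 : n155241 = n65568 := ((D155241).symm.trans (sb E75523 (iv6 D139695)))
theorem F316655 : act 1 n61659 = n84473 := (sb E75524 (iv0 D177315))
theorem F316656 : act 0 n151939 = n84473 := (sb E75525 (iv1 D177316))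
theorem F316657 : act 6 n119130 = n77723 := (sb E75526 (iv6 D161833))
theorem F316658 : act 0 n97208 = n127594 := (sb E75527 (iv1 F205067))
theorem F316659 : act 1 n97208 = n127593 := (sb E75527 F205066)
theorem F316660 : act 3 n97208 = n51558 := (sb E75527 F173591)
theorem F316661 : act 5 n97208 = n51557 := (sb E75527 (iv5 D111813))
theorem F316662 : act 7 n97208 = n64525 := (sb E75527 F173592)
theorem E78998 : n103096 = n58843 := ((D103096).symm.trans (sb E75528 F93041))
theorem E78999 : n109530 = n103097 := (((D103097).symm.trans (sb E75528 D109530))).symm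
theorem E79000 : n103086 = n51559 := (((iv2 F158375)).symm.trans (sb E75528 (iv2 F81372)))
theorem E79001 : n103098 = n24621 := ((D103098).symm.trans (sb E75528 F79908))
theorem E79002 : n109531 = n23000 := ((((iv5 D47795)).symm.trans (sb E75528 D109531))).symm
theorem F316663 : act 6 n47795 = n24620 := (sb E75528 (iv6 D50532))
theorem E79003 : n103099 = n51669 := ((D103099).symm.trans (sb E75528 (iv7 F81590)))
theorem F316664 : act 2 n97193 = n64527 := (sb E75529 F173546)
theorem F316665 : act 4 n97193 = n69118 := (sb E75529 F173548)
theorem F316666 : act 6 n97193 = n51551 := (sb E75529 (iv6 D111801))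
theorem F316667 : act 6 n72865 = n68816 := (sb E75530 (iv6 D146780))
theorem F316668 : act 0 n140043 = n72435 := (sb E75531 (iv1 D153314))
theorem F316669 : act 1 n147597 = n72435 := (sb E75532 (iv0 D153313))
theorem F316670 : act 0 n147595 = n153976 := (sb E75533 (iv1 F241994))
theorem F316671 : act 1 n147595 = n153975 := (sb E75533 F241999)
theorem F316672 : act 7 n147595 = n72435 := (sb E75533 (iv7 D153316))
theorem F316673 : act 7 n147599 = n72430 := (sb E75534 (iv7 D153309))
theorem E79004 : n117301 = n69184 := (((D69184).symm.trans (sb E75535 F248463))).symm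
theorem F316674 : act 3 n116472 = n69133 := (sb E75537 F242925)
theorem F316675 : act 3 n117712 = n66782 := (sb E75538 (iv3 D142413))
theorem F316676 : act 0 n147627 = n117300 := (sb E75539 (iv1 F233661))
theorem F316677 : act 1 n147627 = n117299 := (sb E75539 F233659)
theorem F316678 : act 2 n147627 = n69745 := (sb E75539 (iv2 D148811))
theorem F316679 : act 3 n147627 = n146748 := (sb E75539 F233655)
theorem F316680 : act 4 n147627 = n117463 := (sb E75539 F233656)
theorem F316681 : act 5 n54063 = n69083 := (sb E75540 (iv5 D147353))
theorem F316682 : act 0 n71833 = n65226 := (sb E75543 F112004)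
theorem F316683 : act 1 n71833 = n65225 := (sb E75543 F112005)
theorem F316684 : act 2 n71833 = n34204 := (sb E75543 F112002)
theorem E79006 : n152257 = n48054 := ((D152257).symm.trans (sb E75543 F295618))
theorem E79007 : n156861 = n152258 := (((D152258).symm.trans (sb E75543 D156861))).symm
theorem E79008 : n48049 = n33200 := (((F108277).symm.trans (sb E75543 (iv6 F295722)))).symm
theorem F316685 : act 7 n71833 = n65222 := (sb E75543 F112003)
theorem F316686 : act 0 n85457 = n65214 := (sb E75545 (iv1 D138896))
theorem E79012 : n179091 = n112981 := ((D179091).symm.trans (sb E75545 (iv3 F245511)))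
theorem F316687 : act 7 n85457 = n112986 := (sb E75545 F245513)
theorem E79013 : n179094 = n112976 := ((D179094).symm.trans (sb E75546 (iv1 F175933)))
theorem E79014 : n179095 = n52098 := ((D179095).symm.trans (sb E75546 (iv0 D112868)))
theorem E79015 : n179096 = n112975 := ((D179096).symm.trans (sb E75546 F222103))
theorem F316688 : act 7 n85459 = n112974 := (sb E75546 F222101)
theorem F316689 : act 2 n85460 = n156841 := (sb E75547 (iv2 F246815))
theorem E79016 : n156842 = n53675 := ((((iv2 F102967)).symm.trans (sb E77746 (iv2 F246817)))).symm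
theorem E79017 : n53677 = n34201 := ((D53677).symm.trans (sb E75552 (iv6 D74590)))
theorem E79018 : n53715 = n39471 := (((D39471).symm.trans (sb E75553 (iv1 F181448)))).symm
theorem E79019 : n53719 = n39472 := (((D39472).symm.trans (sb E75553 (iv0 F181453)))).symm
theorem E79020 : n53714 = n27816 := (((F51313).symm.trans (sb E75553 (iv2 F102951)))).symm
theorem F316690 : act 3 n18705 = n14714 := (sb E75553 (iv3 D31131))
theorem E79021 : n66776 = n39470 := ((((iv4 F60389)).symm.trans (sb E75553 D66776))).symm
theorem E79023 : n53679 = n39473 := (((D39473).symm.trans (sb E75553 (iv7 F102955)))).symm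
theorem E79026 : n179098 = n66779 := (((D66779).symm.trans (sb E75554 (iv3 F279036)))).symm
theorem E79028 : n66781 = n39465 := ((D66781).symm.trans (sb E75554 (iv6 D85461)))
theorem F316691 : act 3 n62591 = n58437 := (sb E75558 (iv3 D124996))
theorem E79030 : n133356 = n58443 := ((D133356).symm.trans (sb E75558 F200776))
theorem F316692 : act 3 n112844 = n85276 := (sb E75565 (iv3 D178863))
theorem F316693 : act 1 n60659 = n82504 := (sb E75566 (iv0 D172257))
theorem F316694 : act 0 n37880 = n63240 := (sb E75567 (iv1 F211598))
theorem E79031 : n63212 = n38719 := ((((iv0 F298734)).symm.trans (sb E75567 (iv0 F211601)))).symm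
theorem F316695 : act 7 n37880 = n63238 := (sb E75567 F208461)
theorem F316696 : act 4 n128877 = n82504 := (sb E75568 (iv4 D172259))
theorem F316697 : act 0 n128272 = n132278 := (sb E75569 (iv1 F212218))
theorem F316698 : act 1 n128272 = n132281 := (sb E75569 F212215)
theorem F316699 : act 2 n128272 = n129534 := (sb E75569 (iv2 F209250))
theorem F316700 : act 3 n128272 = n60563 := (sb E75569 (iv3 D128772))
theorem F316701 : act 5 n128272 = n130237 := (sb E75569 (iv5 F212219))
theorem F316702 : act 0 n125160 = n129275 := (sb E75570 (iv1 F212210))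
theorem F316703 : act 1 n125160 = n129531 := (sb E75570 F212208)
theorem F316704 : act 2 n125160 = n62076 := (sb E75570 (iv2 D132314))
theorem F316705 : act 6 n71238 = n65254 := (sb E75571 (iv6 D139011))
theorem F316706 : act 0 n124789 = n74376 := (sb E75576 (iv1 F245733))
theorem F316707 : act 1 n124789 = n74371 := (sb E75576 (iv0 D156361))
theorem E79036 : n84360 = n65253 := (((D65253).symm.trans (sb E75580 (iv6 D177000)))).symm
theorem E79037 : n156775 = n84503 := ((D156775).symm.trans (sb E75581 (iv6 D177369)))
theorem F316708 : act 1 n38976 = n156777 := (sb E75582 D156777)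
theorem F316709 : act 6 n38976 = n34192 := (sb E75582 (iv6 D74561))
theorem E79040 : n156779 = n84357 := ((((iv7 F129430)).symm.trans (sb E75582 D156779))).symm
theorem F316710 : act 4 n138751 = n84501 := (sb E75584 (iv4 D177362))
theorem E79041 : n157192 = n68252 := (((D68252).symm.trans (sb E75586 (iv3 F247386)))).symm
theorem E79042 : n157193 = n68253 := (((D68253).symm.trans (sb E75586 (iv4 F247387)))).symm
theorem E79044 : n68255 = n34245 := ((D68255).symm.trans (sb E75586 (iv6 D74742)))
theorem E79045 : n68251 = n68243 := (((iv2 F104404)).symm.trans (sb E75589 F228593))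
theorem E79046 : n68246 = n68242 := ((F104403).symm.trans (sb E75589 (iv7 D145544)))
theorem F316711 : act 4 n74718 = n60340 := (sb E75591 (iv4 D128341))
theorem F316712 : act 4 n144467 = n178656 := (sb E75592 F280188)
theorem F316713 : act 5 n144467 = n145269 := (sb E75592 F280189)
theorem F316714 : act 6 n144467 = n85962 := (sb E75592 (iv6 D179900))
theorem F316715 : act 6 n54436 = n74318 := (sb E75593 (iv6 D156229))
theorem F316716 : act 4 n156218 = n85457 := (sb E75594 F278706)
theorem F316717 : act 5 n156218 = n85254 := (sb E75594 (iv5 D178832))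
theorem F316718 : act 3 n74277 = n39383 := (sb E75595 (iv3 D85193))
theorem E79051 : n178776 = n155983 := ((((iv5 F245367)).symm.trans (sb E75595 D178776))).symm
theorem E79052 : n178777 = n156143 := (((D156143).symm.trans (sb E75595 D178777))).symm
theorem F316719 : act 0 n61665 = n77728 := (sb E75596 (iv1 D161850))
theorem F316720 : act 0 n75252 = n61215 := (sb E75597 (iv1 D130480))
theorem F316721 : act 7 n75252 = n132771 := (sb E75597 F213239)
theorem F316722 : act 1 n75684 = n61215 := (sb E75598 F212300)
theorem F316723 : act 2 n75684 = n132771 := (sb E75598 (iv2 F213238))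
theorem E79053 : n120216 = n120161 := (((iv3 F191408)).symm.trans (sb E75598 F212301))
theorem E79054 : n132838 = n61085 := ((E76756).symm.trans (((iv6 F307507)).symm.trans (sb E75598 (iv6 D130105))))
theorem F316724 : act 5 n130484 = n77023 := (sb E75599 (iv5 D160631))
theorem E79055 : n152625 = n62427 := ((((iv1 D133039)).symm.trans (sb E75600 (iv1 F271515)))).symm
theorem F316725 : act 3 n133039 = n82895 := (sb E75600 F271511)
theorem F316726 : act 6 n133039 = n83372 := (sb E75600 F271513)
theorem E79056 : n131669 = n82887 := ((F213703).symm.trans (sb E75600 (iv7 D173211)))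
theorem F316727 : act 0 n100493 = n131465 := (sb E75601 (iv1 F234364))
theorem F316728 : act 1 n100493 = n131464 := (sb E75601 F234362)
theorem F316729 : act 2 n100493 = n69904 := (sb E75601 (iv2 D149039))
theorem F316730 : act 1 n27598 = n57360 := (sb E75602 (iv0 D123219))
theorem F316731 : act 0 n123172 = n57360 := (sb E75603 (iv1 D123220))
theorem E79057 : n116492 = n110757 := (((iv2 F227979)).symm.trans (sb E75606 F259245))
theorem F316732 : act 5 n145026 = n79002 := (sb E75606 (iv5 D164504))
theorem F316733 : act 6 n145026 = n110752 := (sb E75606 F259247)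
theorem E79058 : n152181 = n144947 := (((D144947).symm.trans (sb E75607 (iv1 F259252)))).symm
theorem E79059 : n152180 = n144948 := (((D144948).symm.trans (sb E75607 F259253))).symm
theorem E79060 : n152182 = n142488 := ((((iv2 F225398)).symm.trans (sb E75607 F259248))).symm
theorem F316734 : act 6 n67954 = n114609 := (sb E75607 F259250)
theorem F316735 : act 7 n67954 = n79002 := (sb E75607 (iv7 D164505))
theorem E79061 : n114549 = n67990 := ((D114549).symm.trans (sb E75608 F227983))
theorem F316736 : act 6 n52874 = n67989 := (sb E75608 (iv6 D145027))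
theorem E79062 : n178912 = n135460 := ((((iv2 F217791)).symm.trans (sb E75609 (iv2 F278790)))).symm
theorem E79063 : n141811 = n124959 := (((iv5 F224819)).symm.trans (sb E75609 F244802))
theorem F316737 : act 5 n66824 = n82442 := (sb E75610 (iv5 D172137))
theorem F316739 : act 2 n68555 = n121461 := (sb E75611 (iv2 F306872))
theorem E79064 : n146192 = n62225 := ((D146192).symm.trans (sb E75611 F212853))
theorem F316740 : act 7 n68555 = n62224 := (sb E75611 (iv7 D132615))
theorem E79065 : n173730 = n142533 := (((D142533).symm.trans (sb E75612 (iv1 F272298)))).symm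
theorem E79066 : n142534 = n38740 := ((D142534).symm.trans (sb E75612 (iv0 D84081)))
theorem E79067 : n176315 = n142444 := ((((iv2 F225361)).symm.trans (sb E75612 D176315))).symm
theorem E79068 : n176317 = n31145 := (((F102669).symm.trans (sb E75612 D176317))).symm
theorem E79071 : n176320 = n142536 := (((D142536).symm.trans (sb E75612 D176320))).symm
theorem E79073 : n129763 = n121725 := ((F315688).symm.trans (sb E75614 (iv2 F194289)))
theorem E79076 : n152610 = n47268 := (((D47268).symm.trans (sb E75616 (iv5 F259335)))).symm
theorem F316741 : act 4 n101615 = n55166 := (sb E75617 (iv4 D119870))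
theorem F316742 : act 6 n101615 = n73603 := (sb E75617 F189210)
theorem F316743 : act 6 n101616 = n73655 := (sb E75618 (iv6 D155167))
theorem F316744 : act 4 n33848 = n47267 := (sb E75619 (iv4 D101617))
theorem F316745 : act 0 n101618 = n164523 := (sb E75620 (iv1 F259324))
theorem F316746 : act 1 n101618 = n164521 := (sb E75620 (iv0 F259318))
theorem F316747 : act 6 n33846 = n47267 := (sb E75621 (iv6 D101619))
theorem F316748 : act 4 n101610 = n55167 := (sb E75622 (iv4 D119872))
theorem E79077 : n175218 = n74879 := ((D175218).symm.trans (sb E75623 F247942))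
theorem E79078 : n175221 = n74877 := ((D175221).symm.trans (sb E75623 (iv6 D157424)))
theorem F316749 : act 0 n107549 = n157358 := (sb E75624 (iv1 F247673))
theorem F316750 : act 1 n107549 = n157357 := (sb E75624 F247671)
theorem F316751 : act 4 n107549 = n62768 := (sb E75624 (iv4 D133713))
theorem F316752 : act 7 n107549 = n131300 := (sb E75624 F215211)
theorem F316753 : act 3 n88079 = n71657 := (sb E75628 F238997)
theorem E79079 : n177105 = n81683 := ((F315994).symm.trans (sb E75629 (iv7 F267829)))
theorem E79080 : n170374 = n53544 := (((F180987).symm.trans (sb E75633 F267853))).symm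
theorem E79081 : n95766 = n45398 := ((D95766).symm.trans (sb E75635 (iv3 D97133)))
theorem E79082 : n95767 = n81683 := ((D95767).symm.trans (sb E75635 F149860))
theorem F316754 : act 5 n127655 = n81683 := (sb E75636 (iv5 D170342))
theorem E79083 : n170413 = n127503 := (((D127503).symm.trans (sb E75637 (iv5 F267885)))).symm
theorem F316755 : act 6 n59882 = n81683 := (sb E75637 (iv6 D170343))
theorem F316756 : act 4 n44651 = n28655 := (sb E75638 (iv4 D60331))
theorem E79086 : n177150 = n127417 := (((D127417).symm.trans (sb E75641 (iv5 F276566)))).symm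
theorem E79087 : n146375 = n52913 := ((D146375).symm.trans (sb E75642 (iv1 F290471)))
theorem E79088 : n146376 = n52894 := ((D146376).symm.trans (sb E75642 F290468))
theorem E79089 : n146377 = n52845 := ((D146377).symm.trans (sb E75642 (iv2 D114488)))
theorem F316757 : act 0 n68636 = n102744 := (sb E75643 (iv1 F291713))
theorem E79090 : n146383 = n44051 := ((D146383).symm.trans (sb E75643 (iv5 D94237)))
theorem F316758 : act 0 n159871 = n118755 := (sb E75644 (iv1 F283570))
theorem F316759 : act 1 n159871 = n149998 := (sb E75644 (iv0 F259557))
theorem F316760 : act 2 n159871 = n150000 := (sb E75644 F259551)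
theorem F316761 : act 5 n159871 = n159347 := (sb E75644 F259554)
theorem F316762 : act 6 n159871 = n149996 := (sb E75644 F259555)
theorem F316763 : act 7 n159871 = n79098 := (sb E75644 (iv7 D164619))
theorem F316764 : act 3 n71839 = n54236 := (sb E75645 (iv3 D117732))
theorem E79091 : n152272 = n69116 := ((D152272).symm.trans (sb E75645 F184392))
theorem E79092 : n106300 = n66066 := ((((iv1 F180348)).symm.trans (sb E75646 (iv1 F290372)))).symm
theorem E79093 : n66083 = n60000 := (((iv2 F181486)).symm.trans (sb E75646 (iv2 D127771)))
theorem F316765 : act 3 n115866 = n114300 := (sb E75646 F205397)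
theorem E79094 : n69488 = n67288 := ((F180349).symm.trans (sb E75646 (tr F290366 E78681)))
theorem E79095 : n106298 = n66082 := (((F181489).symm.trans (sb E75646 (iv7 F290370)))).symm
theorem F316766 : act 0 n52757 = n53419 := (sb E75647 (iv1 D115867))
theorem F316767 : act 4 n52757 = n66893 := (sb E75647 (iv4 F180351))
theorem F316768 : act 2 n49129 = n53419 := (sb E75648 F180331)
theorem F316769 : act 4 n49129 = n53415 := (sb E75648 (iv4 D115850))
theorem F316770 : act 2 n115868 = n106299 := (sb E75649 F235015)
theorem F316771 : act 6 n115868 = n105907 := (sb E75649 F235017)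
theorem F316772 : act 6 n48967 = n54238 := (sb E75651 (iv6 D117737))
theorem F316773 : act 3 n117875 = n70088 := (sb E75653 (iv3 D149293))
theorem F316774 : act 7 n117875 = n166280 := (sb E75653 (iv7 F261820))
theorem F316775 : act 2 n84940 = n80278 := (sb E75655 F263392)
theorem F316776 : act 7 n84940 = n61711 := (sb E75655 (iv7 F313535))
theorem F316777 : act 0 n69905 = n77667 := (sb E75656 (iv1 D161701))
theorem F316778 : act 3 n49698 = n74833 := (sb E75658 (iv3 D157359))
theorem E79096 : n107569 = n106623 := (((iv4 F165958)).symm.trans (sb E75658 F247676))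
theorem E79098 : n151971 = n107559 := (((D107559).symm.trans (sb E75659 (iv0 F238981)))).symm
theorem E79099 : n107556 = n49209 := (((iv4 F165940)).symm.trans (sb E75659 (iv4 D106491)))
theorem F316779 : act 7 n49692 = n74833 := (sb E75659 F163740)
theorem F316780 : act 0 n83367 = n72017 := (sb E75660 (iv1 D152661))
theorem F316781 : act 6 n123217 = n57815 := (sb E75661 (iv6 D124075))
theorem E79102 : n148757 = n133248 := (((D133248).symm.trans (sb E75662 (iv3 F233544)))).symm
theorem E79103 : n133249 = n92812 := ((D133249).symm.trans (sb E75662 (iv5 F143168)))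
theorem E79104 : n133250 = n41326 := ((D133250).symm.trans (sb E75662 (iv6 D88529)))
theorem E79105 : n148752 = n61448 := ((((iv7 F209638)).symm.trans (sb E75662 (iv7 F233535)))).symm
theorem E79106 : n133251 = n90504 := ((D133251).symm.trans (sb E75663 (iv1 F139298)))
theorem E79107 : n133252 = n90501 := ((D133252).symm.trans (sb E75663 (iv0 F139293)))
theorem E79108 : n185870 = n133245 := ((((iv3 F214101)).symm.trans (sb E75663 D185870))).symm
theorem E79109 : n133253 = n43869 := ((D133253).symm.trans (sb E75663 F135572))
theorem E79110 : n133254 = n42399 := ((D133254).symm.trans (sb E75663 F135571))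
theorem F316782 : act 3 n60863 = n73122 := (sb E75664 F242427)
theorem E79111 : n129544 = n73119 := ((D129544).symm.trans (sb E75664 (iv5 D154336)))
theorem F316783 : act 0 n65051 = n85957 := (sb E75665 F234450)
theorem F316784 : act 2 n65051 = n86792 := (sb E75665 F234449)
theorem F316785 : act 5 n65051 = n69928 := (sb E75665 (iv5 D149073))
theorem F316786 : act 1 n156356 = n86792 := (sb E75666 (iv0 F280164))
theorem F316787 : act 2 n156356 = n85957 := (sb E75666 (iv2 D179893))
theorem F316788 : act 4 n156356 = n124994 := (sb E75666 F280162)
theorem F316789 : act 1 n123747 = n151500 := (sb E75668 F311156)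
theorem F316790 : act 2 n123747 = n151986 := (sb E75668 F311157)
theorem F316791 : act 3 n123747 = n57730 := (sb E75668 (iv3 D123911))
theorem F316792 : act 4 n123747 = n86642 := (sb E75668 F198342)
theorem F316793 : act 5 n123747 = n136646 := (sb E75668 F311158)
theorem F316794 : act 7 n123747 = n73080 := (sb E75668 F311852)
theorem E79112 : n127201 = n60347 := ((D127201).symm.trans (sb E75670 (iv6 D128354)))
theorem E79113 : n84437 = n66326 := (((F102799).symm.trans (sb E75670 (tr (iv7 F253059) E78766)))).symm
theorem F316795 : act 1 n33127 = n54266 := (sb E75685 (iv0 D117814))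
theorem F316796 : act 1 n117815 = n71645 := (sb E75686 (iv0 F235419))
theorem F316797 : act 2 n117815 = n71648 := (sb E75686 (iv2 F235426))
theorem F316798 : act 3 n117815 = n149917 := (sb E75686 (iv3 F312140))
theorem F316799 : act 5 n117815 = n76668 := (sb E75686 (iv5 F235427))
theorem F316800 : act 6 n117815 = n71661 := (sb E75686 (iv6 F235428))
theorem F316801 : act 7 n117815 = n71418 := (sb E75686 F235425)
theorem F316802 : act 0 n117802 = n71418 := (sb E75687 (iv1 F232794))
theorem F316803 : act 1 n117802 = n71648 := (sb E75687 (iv0 F232795))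
theorem F316804 : act 7 n117802 = n71645 := (sb E75687 (iv7 F235422))
theorem F316805 : act 7 n117816 = n133627 := (sb E75688 (iv7 F214994))
theorem F316806 : act 0 n53733 = n85104 := (sb E75689 (iv1 F189195))
theorem E79137 : n116568 = n74106 := (((iv3 F181924)).symm.trans (sb E75689 F184374))
theorem E79138 : n146965 = n116613 := (((D116613).symm.trans (sb E75689 (iv4 F230354)))).symm
theorem E79139 : n116599 = n32039 := (((iv6 F181965)).symm.trans (sb E75689 (iv6 D68892)))
theorem E79140 : n119859 = n116614 := (((D116614).symm.trans (sb E75689 (iv7 F189193)))).symm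
theorem E79141 : n31230 = n31034 := ((((iv1 D66472)).symm.trans (sb E75690 (iv1 F103019)))).symm
theorem E79142 : n142991 = n141766 := (((D141766).symm.trans (sb E75690 (iv3 F225835)))).symm
theorem E79143 : n142999 = n141767 := (((D141767).symm.trans (sb E75690 (iv4 F225859)))).symm
theorem E79144 : n141769 = n31248 := (E77955).trans E78023
theorem E79145 : n141761 = n31216 := ((((iv3 F49540)).symm.trans (sb E75691 D141761))).symm
theorem E79151 : n143045 = n117366 := (((D117366).symm.trans (sb E75692 (iv3 F225907)))).symm
theorem E79152 : n143162 = n117367 := (((D117367).symm.trans (sb E75692 D143162))).symm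
theorem F316807 : act 6 n54087 = n31231 := (sb E75692 F103052)
theorem E79153 : n128028 = n14628 := ((((iv2 F180243)).symm.trans (iv2 (sb E75693 (tr F237672 E78720))))).symm
theorem F316808 : act 3 n45422 = n44754 := (sb E75695 (iv3 D95846))
theorem F316809 : act 4 n44942 = n59886 := (sb E75696 F204953)
theorem F316810 : act 0 n119025 = n69328 := (sb E75697 F252067)
theorem F316811 : act 1 n119025 = n69333 := (sb E75697 F252068)
theorem F316812 : act 4 n119025 = n159419 := (sb E75697 F251047)
theorem F316813 : act 6 n119025 = n68620 := (sb E75697 (iv6 D146333))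
theorem F316814 : act 2 n119023 = n69328 := (sb E75698 F247814)
theorem F316815 : act 4 n119023 = n69310 := (sb E75698 (iv4 D147944))
theorem F316816 : act 7 n119023 = n69333 := (sb E75698 F247815)
theorem E79155 : n147947 = n52790 := (E75699).trans E76012
theorem E79156 : n114392 = n69333 := ((D114392).symm.trans (sb E79155 F247823))
theorem F316817 : act 4 n52790 = n69311 := (sb E79155 (iv4 D147947))
theorem E79157 : n105404 = n69328 := (((iv7 F161745)).symm.trans (sb E79155 F247824))
theorem F316818 : act 3 n34412 = n54065 := (sb E75700 (iv3 D117304))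
theorem E79158 : n67984 = n48734 := ((((iv4 F136453)).symm.trans (sb E75700 F183656))).symm
theorem F316819 : act 3 n117305 = n75147 := (sb E75701 F248542)
theorem F316820 : act 3 n117306 = n75148 := (sb E75702 F248544)
theorem F316821 : act 5 n117306 = n94229 := (sb E75702 (iv5 F248545))
theorem E79159 : n94233 = n69550 := (((F232269).symm.trans (sb E75702 (iv7 F248546)))).symm
theorem F316822 : act 3 n52911 = n54069 := (sb E75703 (iv3 D117313))
theorem F316823 : act 7 n52911 = n68634 := (sb E75703 F183678)
theorem F316824 : act 3 n92521 = n66079 := (sb E75704 (iv3 D140834))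
theorem F316825 : act 4 n92521 = n143395 := (sb E75704 (iv4 F226157))
theorem E79162 : n142711 = n140804 := ((((iv2 F223878)).symm.trans (sb E75705 (tr (iv2 F251365) E77943)))).symm
theorem F316826 : act 7 n66085 = n49124 := (sb E75705 (iv7 D106291))
theorem F316827 : act 3 n117406 = n65583 := (sb E75708 F222874)
theorem F316828 : act 5 n117406 = n65571 := (sb E75708 F222875)
theorem F316829 : act 6 n109662 = n157552 := (sb E75709 (iv6 F248284))
theorem F316831 : act 1 n116917 = n67663 := (sb E75710 F222909)
theorem F316832 : act 5 n116917 = n110511 := (sb E75710 F222906)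
theorem F316833 : act 7 n116917 = n74585 := (sb E75710 F222907)
theorem E79163 : n85415 = n66721 := ((((iv3 F102606)).symm.trans (sb E75717 (iv3 F130656)))).symm
theorem F316834 : act 5 n31118 = n18696 := (sb E75717 (iv5 D39457))
theorem F316835 : act 0 n71307 = n59239 := (sb E75718 F111869)
theorem F316836 : act 1 n71307 = n53820 := (sb E75718 (iv0 F111870))
theorem F316837 : act 2 n71307 = n65151 := (sb E75718 F111865)
theorem E79164 : n156681 = n151305 := ((((iv3 F238016)).symm.trans (sb E75718 (iv3 F246434)))).symm
theorem F316838 : act 5 n71307 = n53954 := (sb E75718 F111868)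
theorem F316839 : act 7 n71307 = n53638 := (sb E75718 F111867)
theorem E79165 : n53661 = n32160 := ((D53661).symm.trans (sb E75719 (iv1 D69137)))
theorem E79166 : n147339 = n53662 := (((D53662).symm.trans (sb E75719 F231017))).symm
theorem E79169 : n117556 = n66794 := ((((iv1 F102650)).symm.trans (sb E75720 (iv1 F184171)))).symm
theorem E79170 : n66793 = n33996 := ((F102653).symm.trans (sb E75720 (iv0 F110800)))
theorem E79171 : n117553 = n66796 := ((((iv2 F102652)).symm.trans (sb E75720 F184158))).symm
theorem E79172 : n148086 = n66810 := ((((iv4 F102663)).symm.trans (sb E75720 D148086))).symm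
theorem E79173 : n53697 = n33319 := (((iv6 F84713)).symm.trans (sb E75720 F105641))
theorem F316840 : act 0 n16090 = n14712 := (sb E75721 F53798)
theorem F316841 : act 1 n16090 = n14707 := (sb E75721 F53799)
theorem F316842 : act 2 n16090 = n14736 := (sb E75721 F41079)
theorem F316843 : act 4 n16090 = n13517 := (sb E75721 F41080)
theorem F316844 : act 6 n16090 = n14725 := (sb E75721 F41081)
theorem F316845 : act 7 n16090 = n12323 := (sb E75721 (iv7 D25991))
theorem E79174 : n116227 = n25997 := (E75722).trans E77802
theorem E79175 : n66463 = n53731 := (((D53731).symm.trans (sb E79174 (iv1 F181152)))).symm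
theorem E79176 : n53732 = n53572 := ((D53732).symm.trans (sb E79174 (iv0 D116227)))
theorem F316846 : act 0 n72068 = n53572 := (sb E75723 (iv1 D116228))
theorem E79177 : n117682 = n53731 := (E78753).trans E79175
theorem F316847 : act 5 n54219 = n53572 := (sb E75724 (iv5 D116230))
theorem F316848 : act 0 n53970 = n54803 := (sb E75727 (iv1 F187156))
theorem F316849 : act 1 n53970 = n54764 := (sb E75727 (iv0 D119008))
theorem E79179 : n164273 = n117108 := (((D117108).symm.trans (sb E75727 F258915))).symm
theorem F316850 : act 0 n53973 = n54764 := (sb E75728 (iv1 D119009))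
theorem F316851 : act 1 n53973 = n54803 := (sb E75728 F187152)
theorem E79180 : n142751 = n106127 := (((D106127).symm.trans (sb E75729 F231307))).symm
theorem E79181 : n127595 = n106129 := (((D106129).symm.trans (sb E75729 F231306))).symm
theorem F316852 : act 0 n106521 = n68422 := (sb E75730 (iv1 D145923))
theorem F316853 : act 1 n106521 = n68430 := (sb E75730 F229121)
theorem F316854 : act 4 n106521 = n144921 := (sb E75730 F229124)
theorem F316855 : act 7 n106521 = n144921 := (sb E75730 F229122)
theorem F316856 : act 2 n67966 = n54803 := (sb E75731 F187153)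
theorem F316857 : act 7 n67966 = n54764 := (sb E75731 (iv7 D119010))
theorem E79182 : n117594 = n102040 := ((D117594).symm.trans (sb E75732 F307492))
theorem E79183 : n117595 = n102036 := ((D117595).symm.trans (sb E75732 F307493))
theorem E79184 : n117596 = n89301 := ((D117596).symm.trans (sb E75732 F307494))
theorem E79185 : n117597 = n47337 := ((D117597).symm.trans (sb E75732 F307496))
theorem F316858 : act 6 n54175 = n44993 := (sb E75732 (iv6 D96357))
theorem E79186 : n117600 = n47334 := ((D117600).symm.trans (sb E75733 (iv6 D101858)))
theorem F316859 : act 3 n75998 = n67706 := (sb E75736 (iv3 D144485))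
theorem F316860 : act 6 n50039 = n67706 := (sb E75737 (iv6 D144487))
theorem F316861 : act 5 n143901 = n99592 := (sb E75738 (iv5 F308874))
theorem E79187 : n143901 = n141531 := (((D141531).symm.trans (iv6 (sb E75738 (tr (iv6 F313942) E78583))))).symm
theorem E79188 : n150777 = n141531 := (E75738).trans E79187
theorem F316862 : act 7 n141531 = n71087 := (sb E79188 (iv7 D150777))
theorem F316863 : act 0 n107924 = n67405 := (sb E75739 (iv1 D143902))
theorem F316864 : act 1 n143896 = n71087 := (sb E75740 (iv0 D150775))
theorem F316865 : act 3 n143896 = n79728 := (sb E75740 F312313)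
theorem F316866 : act 5 n143896 = n157447 := (sb E75740 F248042)
theorem E79191 : n76141 = n60950 := (((iv4 F114099)).symm.trans (sb E75743 (iv4 D129779)))
theorem F316867 : act 6 n74797 = n68284 := (sb E75744 (iv6 D145675))
theorem E79193 : n179927 = n145665 := (E76459).trans E78538
theorem F316868 : act 4 n48858 = n39770 := (sb E75746 (iv4 D85999))
theorem F316869 : act 0 n18804 = n14636 := (sb E75747 (iv1 D30920))
theorem E79198 : n66388 = n66362 := ((((iv1 F102265)).symm.trans (sb E75755 (tr D146038 E78583)))).symm
theorem E79200 : n146039 = n66240 := ((((iv4 F101830)).symm.trans (sb E75755 D146039))).symm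
theorem E79201 : n66396 = n31864 := (((iv5 F102282)).symm.trans (sb E75755 (iv5 D68475)))
theorem F316870 : act 5 n7085 = n14670 := (sb E75757 (iv5 D31010))
theorem F316872 : act 1 n120051 = n66440 := (sb E75763 (iv0 D141670))
theorem E79205 : n74119 = n64537 := (((F102079).symm.trans (sb E75765 (iv7 D155815)))).symm
theorem F316874 : act 7 n34005 = n66440 := (sb E75766 F181062)
theorem E79206 : n107698 = n55243 := (((D55243).symm.trans (sb E75784 F222024))).symm
theorem E79209 : n157347 = n105552 := (((F162095).symm.trans (sb E75791 D157347))).symm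
theorem E79210 : n66384 = n60357 := ((D66384).symm.trans (sb E75792 F162480))
theorem E79211 : n66386 = n48912 := ((D66386).symm.trans (sb E75792 (iv5 D105790)))
theorem E79212 : n66387 = n54498 := ((D66387).symm.trans (sb E75792 F162481))
theorem E79213 : n146038 = n66362 := (E78583).trans E79198
theorem E79214 : n66391 = n48917 := ((D66391).symm.trans (sb E75793 (iv5 D105806)))
theorem E79215 : n67898 = n66363 := (((D66363).symm.trans (sb E75794 (iv5 D144856)))).symm
theorem E79216 : n120037 = n66237 := (((D66237).symm.trans (sb E75795 F228197))).symm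
theorem E79217 : n170373 = n53536 := ((D170373).symm.trans (sb E75799 (iv1 D116148)))
theorem E79218 : n170361 = n142501 := (((iv3 F267848)).symm.trans (sb E75799 (iv3 F225404)))
theorem E79219 : n116169 = n116147 := ((D116169).symm.trans (iv2 (sb E75800 (tr F185886 E75966))))
theorem F316875 : act 3 n116147 = n159392 := (sb E75800 (iv3 F250973))
theorem F316876 : act 4 n116147 = n73389 := (sb E75800 F185887)
theorem F316877 : act 5 n116147 = n59886 := (sb E75800 F185888)
theorem F316878 : act 6 n116147 = n54490 := (sb E75800 (iv6 D118312))
theorem F316879 : act 5 n116150 = n128296 := (sb E75801 (iv5 F206416))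
theorem F316880 : act 0 n116101 = n154737 := (sb E75802 F243410)
theorem F316881 : act 1 n116101 = n147431 := (sb E75802 (iv0 F231210))
theorem E79220 : n71042 = n66532 := (((F180894).symm.trans (sb E75802 F228190))).symm
theorem F316882 : act 5 n31090 = n15840 := (sb E75803 (iv5 D32897))
theorem E79222 : n144404 = n53994 := (((F85174).symm.trans (sb E75812 (iv5 F227185)))).symm
theorem E79223 : n70989 = n66485 := (((iv4 F107549)).symm.trans (sb E75814 F224728))
theorem E79224 : n142685 = n53799 := ((((iv7 F316023)).symm.trans (sb E75814 F225576))).symm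
theorem F316883 : act 0 n154749 = n181207 := (sb E75818 F282241)
theorem F316884 : act 1 n154749 = n181234 := (sb E75818 (iv0 F282294))
theorem F316885 : act 4 n154749 = n79741 := (sb E75818 (iv4 D166096))
theorem F316886 : act 7 n84385 = n73386 := (sb E75819 (iv7 D154750))
theorem F316887 : act 3 n118447 = n145263 := (sb E75821 F246916)
theorem F316888 : act 6 n118447 = n145262 := (sb E75821 (iv6 F246918))
theorem F316889 : act 3 n118449 = n74805 := (sb E75822 F246925)
theorem F316890 : act 6 n112211 = n79727 := (sb E75823 (iv6 D166061))
theorem F316891 : act 6 n28339 = n32525 := (sb E75825 F313571)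
theorem F316892 : act 7 n28339 = n30911 := (sb E75825 (iv7 F182734))
theorem E79226 : n141695 = n86017 := (((D86017).symm.trans (sb E75828 (iv1 F224745)))).symm
theorem E79227 : n68563 = n59711 := (((iv0 F110914)).symm.trans (sb E75828 (iv0 D127192)))
theorem E79228 : n141696 = n86018 := (((D86018).symm.trans (sb E75828 (iv7 F224747)))).symm
theorem E79229 : n128481 = n113132 := ((D128481).symm.trans (sb E75831 F176260))
theorem E79230 : n128482 = n113134 := ((D128482).symm.trans (sb E75831 F176264))
theorem E79231 : n125065 = n49712 := ((D125065).symm.trans (sb E75838 (iv2 D107612)))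
theorem F316893 : act 4 n58470 = n108032 := (sb E75838 (iv4 F166969))
theorem E79232 : n125067 = n59430 := ((D125067).symm.trans (sb E75838 F166039))
theorem F316894 : act 6 n28286 = n27821 := (sb E75840 (iv6 D58471))
theorem E79234 : n181791 = n156195 := ((D181791).symm.trans (sb E75841 (iv3 F245458)))
theorem E79235 : n181792 = n64156 := ((D181792).symm.trans (sb E75841 (iv4 D136473)))
theorem E79236 : n181797 = n64155 := ((D181797).symm.trans (sb E75842 (iv4 D136468)))
theorem F316895 : act 4 n85676 = n136601 := (sb E75843 F219727)
theorem F316896 : act 5 n118906 = n67234 := (sb E75850 (iv5 D143582))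
theorem F316897 : act 6 n118906 = n133572 := (sb E75850 F226272)
theorem F316898 : act 2 n74290 = n85138 := (sb E75866 F278307)
theorem F316899 : act 5 n74290 = n85033 := (sb E75866 (iv5 D178569))
theorem F316900 : act 7 n74290 = n85100 := (sb E75866 F278308)
theorem F316901 : act 6 n141068 = n85033 := (sb E75867 F240006)
theorem F316902 : act 3 n115805 = n153623 := (sb E75868 (iv3 F241510))
theorem F316903 : act 0 n33292 = n66161 := (sb E75869 (iv1 F180840))
theorem F316904 : act 1 n33292 = n53499 := (sb E75869 (iv0 D116075))
theorem F316905 : act 2 n33292 = n66160 := (sb E75869 F220219)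
theorem F316906 : act 6 n141077 = n85034 := (sb E75870 F240008)
theorem F316907 : act 7 n141077 = n151283 := (sb E75870 F240009)
theorem F316908 : act 5 n116077 = n151283 := (sb E75871 (iv5 F239501))
theorem F316909 : act 6 n116077 = n85105 := (sb E75871 (iv6 F239503))
theorem F316910 : act 4 n118876 = n140995 := (sb E75872 F224044)
theorem F316911 : act 0 n118879 = n140901 := (sb E75873 F224045)
theorem F316912 : act 2 n119570 = n120158 := (sb E75876 F217800)
theorem F316913 : act 3 n119570 = n63674 := (sb E75876 F217801)
theorem F316914 : act 5 n119570 = n63672 := (sb E75876 (iv5 D135462))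
theorem F316915 : act 1 n65302 = n71308 := (sb E75877 (iv0 F232905))
theorem F316916 : act 2 n65302 = n54712 := (sb E75877 F186759)
theorem F316917 : act 5 n65302 = n68719 := (sb E75877 F186761)
theorem F316918 : act 6 n65302 = n54664 := (sb E75877 (iv6 D118729))
theorem F316919 : act 0 n39477 = n74517 := (sb E75878 (iv1 F111901))
theorem F316920 : act 1 n39477 = n30566 := (sb E75878 (iv0 D65084))
theorem F316921 : act 2 n39477 = n74516 := (sb E75878 (iv2 F222092))
theorem E79238 : n138609 = n85501 := (((D85501).symm.trans (sb E75878 D138609))).symm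
theorem E79239 : n138612 = n85503 := (((D85503).symm.trans (sb E75878 D138612))).symm
theorem F316922 : act 3 n51309 = n71347 := (sb E75879 (iv3 D151363))
theorem E79240 : n111250 = n71354 := ((D111250).symm.trans (sb E75879 F238072))
theorem F316923 : act 0 n124893 = n65106 := (sb E75880 (iv1 D138651))
theorem F316924 : act 1 n124893 = n65111 := (sb E75880 F221816)
theorem F316925 : act 3 n124893 = n111241 := (sb E75880 (iv3 F222044))
theorem F316926 : act 4 n156695 = n85498 := (sb E75885 F279094)
theorem E79242 : n54717 = n50591 := ((D54717).symm.trans (sb E75887 (iv6 D109689)))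
theorem E79243 : n139826 = n54474 := (((F86010).symm.trans (sb E75888 (iv4 F223031)))).symm
theorem E79244 : n72616 = n65597 := ((D72616).symm.trans (sb E75888 (iv6 D139748)))
theorem E79245 : n160056 = n65598 := (((iv6 F252569)).symm.trans (sb E75889 (iv6 D139749)))
theorem F316927 : act 6 n30739 = n35034 := (sb E75891 F114970)
theorem E79254 : n138739 = n30639 := ((D138739).symm.trans (sb E75893 (iv1 D65300)))
theorem F316928 : act 0 n65299 = n54712 := (sb E75894 (iv1 D118874))
theorem E79262 : n159947 = n139125 := (((D139125).symm.trans (sb E75894 (iv5 F252263)))).symm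
theorem F316929 : act 0 n33765 = n67136 := (sb E75899 (iv1 F226018))
theorem F316930 : act 1 n33765 = n67086 := (sb E75899 (iv0 D143165))
theorem F316931 : act 0 n33791 = n67086 := (sb E75900 (iv1 D143166))
theorem F316932 : act 1 n33791 = n67136 := (sb E75900 F226019)
theorem F316933 : act 3 n124708 = n67086 := (sb E75901 F225910)
theorem F316934 : act 6 n124708 = n67040 := (sb E75901 (iv6 D143047))
theorem F316935 : act 2 n47605 = n67132 := (sb E75902 F226008)
theorem F316936 : act 4 n47605 = n67086 := (sb E75902 F226009)
theorem E79264 : n102643 = n67081 := ((D102643).symm.trans (sb E75902 (iv6 D143149)))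
theorem F316937 : act 2 n54696 = n67135 := (sb E75903 F226020)
theorem F316938 : act 5 n54696 = n67086 := (sb E75903 (iv5 D143167))
theorem E79265 : n67104 = n26453 := ((((iv6 D54696)).symm.trans (sb E75903 F226021))).symm
theorem F316939 : act 1 n35053 = n67116 := (sb E75905 (iv0 D143257))
theorem F316940 : act 0 n119332 = n67116 := (sb E75906 (iv1 D143258))
theorem F316941 : act 2 n119330 = n67116 := (sb E75907 F226060)
theorem F316942 : act 6 n119330 = n67108 := (sb E75907 (iv6 D143239))
theorem F316943 : act 0 n143256 = n72648 := (sb E75908 (iv1 D153630))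
theorem F316944 : act 1 n143256 = n166111 := (sb E75908 (iv0 F261539))
theorem F316945 : act 3 n119329 = n67136 := (sb E75910 F226080)
theorem F316946 : act 7 n119329 = n67116 := (sb E75910 (iv7 D143260))
theorem F316947 : act 1 n46269 = n67132 := (sb E75911 (iv0 D143306))
theorem F316948 : act 1 n143307 = n73493 := (sb E75912 (iv0 D154933))
theorem F316949 : act 4 n143307 = n151415 := (sb E75912 (iv4 F308742))
theorem F316950 : act 6 n143307 = n166111 := (sb E75912 (iv6 F261536))
theorem F316951 : act 7 n143307 = n89023 := (sb E75912 (iv7 F304493))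
theorem F316952 : act 3 n102440 = n67132 := (sb E75913 F226094)
theorem F316953 : act 6 n102440 = n67130 := (sb E75913 (iv6 D143304))
theorem F316954 : act 5 n47604 = n67132 := (sb E75914 (iv5 D143308))
theorem F316955 : act 4 n122866 = n67136 := (sb E75916 F226095)
theorem F316956 : act 7 n122866 = n67132 := (sb E75916 (iv7 D143309))
theorem F316957 : act 1 n55337 = n67135 := (sb E75917 (iv0 D143320))
theorem F316958 : act 1 n143321 = n73494 := (sb E75918 (iv0 D154937))
theorem F316959 : act 2 n143321 = n117878 := (sb E75918 F306935)
theorem F316960 : act 3 n143321 = n152318 := (sb E75918 (iv3 F243639))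
theorem F316961 : act 4 n143321 = n76572 := (sb E75918 F306936)
theorem F316962 : act 5 n143321 = n154801 := (sb E75918 F243634)
theorem F316963 : act 6 n143321 = n76570 := (sb E75918 F306937)
theorem F316964 : act 7 n143321 = n76621 := (sb E75918 F243638)
theorem F316965 : act 4 n127967 = n67135 := (sb E75919 (iv4 D143322))
theorem E79266 : n67149 = n60121 := ((((iv6 D127967)).symm.trans (sb E75919 F226098))).symm
theorem E79267 : n67147 = n26452 := ((D67147).symm.trans (sb E75920 F303868))
theorem F316966 : act 1 n31247 = n26436 := (sb E75920 (iv0 D54659))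
theorem E79268 : n67150 = n26454 := ((D67150).symm.trans (sb E75920 F190238))
theorem F316967 : act 0 n143323 = n117878 := (sb E75921 F306934)
theorem F316968 : act 1 n143323 = n76621 := (sb E75921 (iv0 F243485))
theorem F316969 : act 2 n143323 = n73494 := (sb E75921 F243481)
theorem F316970 : act 6 n143323 = n73798 := (sb E75921 F243482)
theorem F316971 : act 0 n117373 = n67083 := (sb E75923 (iv1 F225879))
theorem F316972 : act 1 n117373 = n67082 := (sb E75923 F225880)
theorem F316973 : act 2 n117373 = n67085 := (sb E75923 F225876)
theorem F316974 : act 6 n117373 = n67136 := (sb E75923 F225877)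
theorem F316975 : act 7 n117373 = n67023 := (sb E75923 (iv7 D143007))
theorem F316976 : act 5 n143004 = n146355 := (sb E75925 (iv5 F243642))
theorem F316977 : act 5 n143046 = n69027 := (sb E75926 (iv5 D147251))
theorem F316978 : act 6 n143046 = n73492 := (sb E75926 (iv6 F230841))
theorem F316979 : act 6 n143148 = n73493 := (sb E75927 (iv6 D154936))
theorem F316980 : act 5 n117326 = n67085 := (sb E75928 F226013)
theorem F316981 : act 5 n31227 = n54087 := (sb E75929 (iv5 D117368))
theorem F316982 : act 4 n124858 = n108108 := (sb E75930 F246229)
theorem F316983 : act 7 n124858 = n138746 := (sb E75930 F246228)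
theorem F316984 : act 0 n124859 = n138472 := (sb E75931 (iv1 F245661))
theorem F316985 : act 1 n124859 = n74355 := (sb E75931 (iv0 D156322))
theorem F316986 : act 2 n124859 = n138475 := (sb E75931 (iv2 F245855))
theorem F316987 : act 7 n124859 = n138474 := (sb E75931 F245857)
theorem F316988 : act 2 n124860 = n138751 := (sb E75932 F246236)
theorem F316989 : act 1 n147902 = n74455 := (sb E75933 (iv0 D156583))
theorem F316990 : act 0 n147899 = n74455 := (sb E75934 (iv1 D156584))
theorem E79269 : n150846 = n74460 := (((iv3 F237413)).symm.trans (sb E75935 F246252))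
theorem F316991 : act 7 n71119 = n74455 := (sb E75935 (iv7 D156586))
theorem E79273 : n138760 = n118314 := (((D118314).symm.trans (sb E75936 D138760))).symm
theorem F316992 : act 6 n54491 = n30590 := (sb E75936 (iv6 D65156))
theorem F316993 : act 0 n60156 = n74484 := (sb E75937 (iv1 F246340))
theorem F316994 : act 1 n60156 = n74483 := (sb E75937 F246341)
theorem E79274 : n138672 = n105937 := ((((iv3 F162673)).symm.trans (sb E75937 F246337))).symm
theorem F316995 : act 7 n60156 = n74478 := (sb E75937 (iv7 D156626))
theorem F316996 : act 2 n71121 = n74483 := (sb E75938 (iv2 D156635))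
theorem F316997 : act 7 n71121 = n74484 := (sb E75938 (iv7 F246353))
theorem F316998 : act 5 n148867 = n74483 := (sb E75939 (iv5 D156638))
theorem E79275 : n156639 = n66622 := (E75940).trans E75974
theorem E79276 : n142073 = n74483 := ((D142073).symm.trans (sb E79275 (iv6 D156639)))
theorem F316999 : act 2 n71120 = n74484 := (sb E75941 F246354)
theorem F317000 : act 7 n71120 = n74483 := (sb E75941 (iv7 D156640))
theorem F317001 : act 0 n156641 = n136615 := (sb E75942 (iv1 F312162))
theorem F317002 : act 1 n156641 = n76264 := (sb E75942 (iv0 D159430))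
theorem F317003 : act 2 n156641 = n179559 := (sb E75942 F279615)
theorem F317004 : act 7 n156641 = n150857 := (sb E75942 F279578)
theorem F317005 : act 1 n71121 = n74478 := (sb E75943 (iv0 D156623))
theorem F317006 : act 0 n71120 = n74478 := (sb E75944 (iv1 D156624))
theorem F317007 : act 4 n147440 = n74485 := (sb E75945 (iv4 D156647))
theorem F317008 : act 7 n68341 = n74485 := (sb E75946 F223068)
theorem F317009 : act 6 n111216 = n150758 := (sb E75950 F279104)
theorem F317010 : act 6 n71081 = n74517 := (sb E75951 (iv6 D156697))
theorem E79289 : n124877 = n108569 := ((((iv2 F167905)).symm.trans (sb E75956 D124877))).symm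
theorem F317011 : act 3 n50131 = n27789 := (sb E75956 (iv3 D58380))
theorem F317012 : act 4 n50131 = n27823 := (sb E75956 F92220)
theorem E79290 : n124878 = n108572 := (((D108572).symm.trans (sb E75956 D124878))).symm
theorem E79291 : n108573 = n33758 := ((D108573).symm.trans (sb E75956 F92221))
theorem E79293 : n138792 = n31072 := (((D31072).symm.trans (sb E75957 (iv3 F221927)))).symm
theorem E79294 : n124869 = n31073 := (((D31073).symm.trans (sb E75957 (iv4 F314701)))).symm
theorem E79295 : n31075 = n30596 := ((D31075).symm.trans (sb E75957 (iv6 D65175)))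
theorem E79297 : n138817 = n31080 := (((D31080).symm.trans (sb E75958 F246323))).symm
theorem E79298 : n149722 = n69491 := ((((iv1 F105797)).symm.trans (sb E75961 F290384))).symm
theorem E79299 : n140825 = n67286 := ((D140825).symm.trans (sb E75961 (tr F290410 E78621)))
theorem E79300 : n140826 = n52835 := ((D140826).symm.trans (sb E75961 (iv3 D114468)))
theorem E79301 : n116134 = n74908 := ((D116134).symm.trans (sb E75962 (iv1 D157459)))
theorem E79302 : n125081 = n108566 := ((F200951).symm.trans (sb E75963 F246652))
theorem F317013 : act 4 n58478 = n108564 := (sb E75963 (iv4 F246651))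
theorem E79305 : n178591 = n156118 := (((F246662).symm.trans (sb E75964 D178591))).symm
theorem F317014 : act 4 n74652 = n124759 := (sb E75964 (iv4 F200387))
theorem E79307 : n157007 = n119006 := ((D157007).symm.trans (sb E75964 (iv6 F187148)))
theorem E79308 : n116137 = n74471 := ((D116137).symm.trans (sb E75965 (iv7 D156613)))
theorem E79309 : n127538 = n116170 := (((D116170).symm.trans (sb E75966 (iv3 F204996)))).symm
theorem E79310 : n127562 = n116171 := (((D116171).symm.trans (sb E75966 D127562))).symm
theorem E79311 : n116172 = n28453 := ((D116172).symm.trans (sb E75966 (iv5 D59904)))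
theorem E79312 : n116173 = n32928 := ((D116173).symm.trans (sb E75966 F94385))
theorem E79313 : n80540 = n31053 := (((D31053).symm.trans (sb E75968 (iv6 D167821)))).symm
theorem E79315 : n80538 = n31087 := (((D31087).symm.trans (sb E75970 D80538))).symm
theorem E79316 : n80539 = n31088 := (((D31088).symm.trans (sb E75970 D80539))).symm
theorem E79317 : n116305 = n70143 := ((D116305).symm.trans (sb E75971 (iv6 D149375)))
theorem E79318 : n116306 = n80603 := ((D116306).symm.trans (sb E75972 (iv1 F123936)))
theorem E79319 : n116307 = n80602 := ((D116307).symm.trans (sb E75972 F123935))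
theorem E79320 : n150629 = n116253 := ((((iv4 F181211)).symm.trans (sb E75972 D150629))).symm
theorem E79321 : n116308 = n32883 := ((D116308).symm.trans (sb E75972 (iv5 D71004)))
theorem E79322 : n116309 = n80600 := ((D116309).symm.trans (sb E75972 (iv7 F123930)))
theorem E79323 : n142065 = n31087 := ((D142065).symm.trans (sb E75973 (tr (iv2 F201122) E79315)))
theorem E79324 : n150508 = n142066 := (((D142066).symm.trans (sb E75973 F236988))).symm
theorem E79325 : n150675 = n142067 := (((D142067).symm.trans (sb E75973 D150675))).symm
theorem E79326 : n142068 = n60346 := ((D142068).symm.trans (sb E75973 F188384))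
theorem E79327 : n150676 = n140921 := ((((iv6 F223958)).symm.trans (sb E75973 D150676))).symm
theorem E79329 : n150673 = n142070 := (((D142070).symm.trans (sb E75974 D150673))).symm
theorem E79330 : n150674 = n142071 := (((D142071).symm.trans (sb E75974 D150674))).symm
theorem E79331 : n142072 = n80551 := ((D142072).symm.trans (sb E75974 F201237))
theorem E79332 : n150678 = n141886 := (((D141886).symm.trans (sb E75975 F264251))).symm
theorem E79333 : n150677 = n141887 := (((D141887).symm.trans (sb E75975 F264252))).symm
theorem E79334 : n141889 = n128009 := ((D141889).symm.trans (sb E75975 F264250))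
theorem F317015 : act 5 n36740 = n31082 := (sb E75976 (iv5 D66623))
theorem E79336 : n142063 = n80537 := (((D80537).symm.trans (sb E75976 (iv6 F225076)))).symm
theorem F317016 : act 2 n60149 = n31090 := (sb E75977 F102560)
theorem F317017 : act 6 n60149 = n116150 := (sb E75977 (iv6 F180959))
theorem F317018 : act 7 n60149 = n31082 := (sb E75977 (iv7 D66624))
theorem E79337 : n116135 = n31341 := ((D116135).symm.trans (sb E75979 (iv0 D67438)))
theorem E79339 : n143938 = n116129 := ((((iv3 F180922)).symm.trans (sb E75979 D143938))).symm
theorem F317019 : act 0 n65180 = n31341 := (sb E75980 (iv1 D67439))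
theorem E79344 : n143943 = n138809 := ((((iv3 F221989)).symm.trans (sb E75980 D143943))).symm
theorem E79348 : n182998 = n54122 := ((D182998).symm.trans (sb E75981 (iv0 D117447)))
theorem F317020 : act 4 n87361 = n145905 := (sb E75981 F229081)
theorem E79349 : n183000 = n146013 := ((D183000).symm.trans (sb E75981 (iv7 F264375)))
theorem F317021 : act 0 n144912 = n70595 := (sb E75982 (iv1 D150050))
theorem F317022 : act 1 n144912 = n119055 := (sb E75982 F236070)
theorem F317023 : act 2 n68454 = n119055 := (sb E75983 F236071)
theorem E79350 : n146015 = n118650 := ((D146015).symm.trans (sb E75983 F236072))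
theorem E79351 : n146017 = n119049 := ((D146017).symm.trans (sb E75983 F236073))
theorem F317024 : act 7 n68454 = n70595 := (sb E75983 (iv7 D150051))
theorem F317025 : act 2 n68831 = n65235 := (sb E75984 F222115)
theorem F317026 : act 5 n68831 = n65224 := (sb E75984 (iv5 D138929))
theorem F317027 : act 1 n134525 = n75354 := (sb E75985 (iv0 D158206))
theorem F317028 : act 2 n134525 = n75754 := (sb E75985 (iv2 F249212))
theorem F317029 : act 6 n134525 = n82716 := (sb E75985 (iv6 F249215))
theorem F317030 : act 7 n134525 = n75478 := (sb E75985 F249214)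
theorem E79352 : n176536 = n129311 := ((((iv1 F212526)).symm.trans (sb E75987 F275860))).symm
theorem F317031 : act 5 n132447 = n75354 := (sb E75987 (iv5 D158208))
theorem F317032 : act 7 n132447 = n75756 := (sb E75987 F249222)
theorem E79353 : n173209 = n61790 := ((((iv1 F211031)).symm.trans (sb E75988 (iv1 F271506)))).symm
theorem E79354 : n173208 = n61785 := ((((iv0 D131668)).symm.trans (sb E75988 F271514))).symm
theorem F317033 : act 3 n131668 = n72004 := (sb E75988 F239837)
theorem F317034 : act 4 n131668 = n75754 := (sb E75988 F239838)
theorem F317035 : act 6 n131668 = n174391 := (sb E75988 (iv6 F273241))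
theorem E79355 : n84172 = n61972 := (((F96567).symm.trans (sb E75989 (iv1 F249992)))).symm
theorem F317036 : act 5 n60925 = n75754 := (sb E75989 (iv5 D158782))
theorem E79356 : n75367 = n54626 := ((((iv1 F86350)).symm.trans (sb E75990 (iv1 D158215)))).symm
theorem F317037 : act 3 n29899 = n16776 := (sb E75992 (iv3 D34623))
theorem E79358 : n75702 = n63271 := (((D63271).symm.trans (sb E75992 (iv4 F113562)))).symm
theorem E79359 : n75719 = n63273 := (((D63273).symm.trans (sb E75992 D75719))).symm
theorem F317038 : act 0 n118629 = n167594 := (sb E75993 F263850)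
theorem F317039 : act 1 n118629 = n167593 := (sb E75993 F263847)
theorem F317040 : act 3 n118629 = n167588 := (sb E75993 (iv3 F263840))
theorem F317041 : act 2 n130756 = n75756 := (sb E75997 F249993)
theorem F317042 : act 2 n134638 = n75757 := (sb E75998 F249994)
theorem F317043 : act 1 n132449 = n75756 := (sb E75999 (iv0 D158785))
theorem F317044 : act 0 n60776 = n75756 := (sb E76000 (iv1 D158786))
theorem F317045 : act 4 n131809 = n75756 := (sb E76001 (iv4 D158787))
theorem F317046 : act 5 n69313 = n66473 := (sb E76004 (iv5 D141770))
theorem F317047 : act 0 n85400 = n64993 := (sb E76007 (iv1 D138360))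
theorem F317048 : act 1 n85400 = n64998 := (sb E76007 F221599)
theorem F317049 : act 0 n117356 = n159865 := (sb E76008 (iv1 F252041))
theorem F317050 : act 1 n117356 = n69790 := (sb E76008 (iv0 D148885))
theorem F317051 : act 0 n146557 = n69790 := (sb E76009 (iv1 D148886))
theorem F317052 : act 1 n146557 = n159865 := (sb E76009 F252040)
theorem F317053 : act 0 n119953 = n159864 := (sb E76010 (iv1 F252034))
theorem F317054 : act 2 n119953 = n159865 := (sb E76010 (iv2 F252035))
theorem F317055 : act 3 n119953 = n78938 := (sb E76010 F290274)
theorem F317056 : act 7 n119953 = n69790 := (sb E76010 (iv7 D148887))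
theorem F317057 : act 4 n114714 = n68688 := (sb E76011 F229840)
theorem F317058 : act 7 n114714 = n68684 := (sb E76011 (iv7 D146524))
theorem E79361 : n114390 = n105414 := ((D114390).symm.trans (sb E76012 (iv1 F187257)))
theorem E79362 : n114391 = n54772 := ((D114391).symm.trans (sb E76012 (iv0 D119022)))
theorem E79363 : n121324 = n114395 := (((D114395).symm.trans (sb E76012 F193451))).symm
theorem F317059 : act 0 n71665 = n89321 := (sb E76013 F156882)
theorem E79364 : n151997 = n88842 := ((D151997).symm.trans (sb E76013 (iv0 F156883)))
theorem E79365 : n151998 = n89318 := ((D151998).symm.trans (sb E76013 F156396))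
theorem F317060 : act 4 n71665 = n77434 := (sb E76013 F303266)
theorem E79366 : n151999 = n89135 := ((D151999).symm.trans (sb E76013 (iv5 F156880)))
theorem F317061 : act 0 n28417 = n23011 := (sb E76014 (iv1 D47812))
theorem E79370 : n68980 = n23013 := (((D23013).symm.trans (sb E76015 F243317))).symm
theorem E79371 : n170290 = n84410 := ((F315255).symm.trans (sb E76016 (iv7 F276538)))
theorem F317062 : act 3 n106019 = n84410 := (sb E76022 (iv3 D177124))
theorem F317063 : act 5 n127938 = n84410 := (sb E76023 (iv5 D177125))
theorem F317064 : act 6 n127444 = n84410 := (sb E76024 (iv6 D177126))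
theorem F317065 : act 1 n127474 = n84408 := (sb E76025 (iv0 D177114))
theorem F317066 : act 0 n146156 = n84408 := (sb E76026 (iv1 D177115))
theorem E79372 : n114865 = n68684 := ((D114865).symm.trans (sb E76027 (iv1 D146522)))
theorem F317067 : act 4 n128316 = n114867 := (sb E76028 F276536)
theorem F317068 : act 7 n128316 = n84408 := (sb E76028 (iv7 D177117))
theorem E79373 : n147115 = n96981 := (((D96981).symm.trans (sb E76029 (iv2 F230658)))).symm
theorem E79374 : n96983 = n68800 := ((D96983).symm.trans (sb E76029 F204871))
theorem E79375 : n96985 = n59860 := ((D96985).symm.trans (sb E76029 (iv6 D127449)))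
theorem E79376 : n96981 = n44682 := (((F71443).symm.trans (sb E76030 (tr F231378 E79373)))).symm
theorem F317069 : act 4 n45341 = n60332 := (sb E76030 F206450)
theorem E79377 : n166649 = n162913 := (((iv1 F262281)).symm.trans (sb E76031 (iv1 F282115)))
theorem E79378 : n166648 = n133875 := ((F262288).symm.trans (sb E76031 (iv0 F313043)))
theorem E79379 : n166609 = n162841 := (((iv4 F262209)).symm.trans (sb E76031 F282102))
theorem F317070 : act 5 n79988 = n86497 := (sb E76031 (iv5 D181122))
theorem E79380 : n97170 = n60312 := ((D97170).symm.trans (sb E76032 (iv4 D128295)))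
theorem E79381 : n155399 = n97174 := (((D97174).symm.trans (sb E76033 (iv3 F244372)))).symm
theorem E79382 : n97175 = n60313 := ((D97175).symm.trans (sb E76033 (iv4 D128297)))
theorem E79383 : n97177 = n68592 := ((D97177).symm.trans (sb E76033 F206417))
theorem E79384 : n97179 = n59930 := ((D97179).symm.trans (sb E76034 (iv0 D127631)))
theorem F317071 : act 0 n78161 = n83117 := (sb E76035 F301149)
theorem F317072 : act 1 n78161 = n83126 := (sb E76035 F301150)
theorem F317073 : act 2 n78161 = n75691 := (sb E76035 F248879)
theorem F317074 : act 5 n78161 = n75251 := (sb E76035 (iv5 D157992))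
theorem F317075 : act 7 n78161 = n75687 := (sb E76035 F248880)
theorem F317076 : act 2 n162719 = n83090 := (sb E76036 F272326)
theorem F317077 : act 3 n162719 = n83100 := (sb E76036 F272327)
theorem F317078 : act 4 n162719 = n152239 := (sb E76036 F272328)
theorem F317079 : act 6 n162719 = n83089 := (sb E76036 (iv6 D173748))
theorem F317080 : act 0 n154158 = n83090 := (sb E76037 (iv1 D173750))
theorem F317081 : act 1 n70519 = n83090 := (sb E76038 (iv0 D173749))
theorem E79385 : n120213 = n118562 := ((D120213).symm.trans (sb E76039 F188577))
theorem E79386 : n120163 = n119112 := ((((iv2 F187389)).symm.trans (sb E76039 (iv2 F189795)))).symm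
theorem E79387 : n120215 = n55018 := ((D120215).symm.trans (sb E76039 (iv4 D119584)))
theorem E79390 : n158360 = n61085 := (E76756).trans E79054
theorem E79391 : n61090 = n45908 := ((F208615).symm.trans (sb E76040 (iv7 D98220)))
theorem F317082 : act 0 n83099 = n38718 := (sb E76042 (iv1 D84044))
theorem F317083 : act 1 n83099 = n84116 := (sb E76042 F301383)
theorem E79393 : n173626 = n119438 := ((((iv4 F188203)).symm.trans (sb E76042 (iv4 F272103)))).symm
theorem F317084 : act 0 n123217 = n69906 := (sb E76044 F302888)
theorem F317085 : act 1 n123217 = n57884 := (sb E76044 (iv0 D124175))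
theorem F317086 : act 3 n123217 = n73265 := (sb E76044 (iv3 F242513))
theorem F317087 : act 0 n73595 = n38817 := (sb E76045 (iv1 D84184))
theorem E79396 : n155054 = n128168 := (((iv3 F243832)).symm.trans (sb E76045 (iv3 F305636)))
theorem E79397 : n152600 = n114066 := ((((iv4 F177582)).symm.trans (sb E76045 (iv4 F303661)))).symm
theorem F317088 : act 3 n83101 = n53823 := (sb E76046 (iv3 D116819))
theorem E79400 : n173774 = n139278 := ((D173774).symm.trans (sb E76046 (iv5 F222458)))
theorem E79401 : n173775 = n69546 := ((D173775).symm.trans (sb E76046 F182404))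
theorem E79402 : n173769 = n143870 := (((iv7 F273675)).symm.trans (sb E76046 (iv7 F226489)))
theorem F317089 : act 1 n123529 = n67369 := (sb E76047 (iv0 D143843))
theorem F317090 : act 0 n73715 = n67369 := (sb E76048 (iv1 D143844))
theorem F317091 : act 2 n123531 = n67369 := (sb E76049 (iv2 D143845))
theorem F317092 : act 4 n123525 = n67369 := (sb E76050 (iv4 D143846))
theorem F317093 : act 0 n149037 = n83204 := (sb E76051 (iv1 D174031))
theorem F317094 : act 1 n149038 = n83204 := (sb E76052 (iv0 D174030))
theorem F317095 : act 1 n38498 = n61719 := (sb E76053 (iv0 D131516))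
theorem F317096 : act 0 n77437 = n61719 := (sb E76054 (iv1 D131517))
theorem F317097 : act 2 n77435 = n61719 := (sb E76055 (iv2 D131518))
theorem F317098 : act 4 n47040 = n61719 := (sb E76056 (iv4 D131519))
theorem F317099 : act 7 n47040 = n71665 := (sb E76056 F210781)
theorem F317100 : act 3 n83775 = n61720 := (sb E76057 F210782)
theorem E79403 : n172460 = n128712 := (((iv4 F270669)).symm.trans (sb E76057 (iv4 F210783)))
theorem F317101 : act 5 n83775 = n61719 := (sb E76057 (iv5 D131520))
theorem F317102 : act 0 n59863 = n44514 := (sb E76058 (iv1 D95292))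
theorem F317103 : act 1 n59863 = n95590 := (sb E76058 F147259)
theorem F317104 : act 4 n95294 = n68982 := (sb E76059 (iv4 D147132))
theorem E79404 : n170099 = n48039 := ((((iv1 F159178)).symm.trans (sb E76060 (iv1 F267587)))).symm
theorem F317105 : act 4 n103725 = n95596 := (sb E76060 F267227)
theorem F317106 : act 7 n103725 = n81434 := (sb E76060 (iv7 D169809))
theorem E79406 : n103034 = n68983 := ((D103034).symm.trans (sb E76061 F242973))
theorem E79407 : n103036 = n23013 := ((D103036).symm.trans (sb E76061 (tr F242974 E79370)))
theorem E79408 : n103037 = n74179 := ((D103037).symm.trans (sb E76062 (iv3 F110937)))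
theorem E79409 : n103038 = n32080 := ((D103038).symm.trans (sb E76062 F105153))
theorem E79410 : n136283 = n103039 := (((D103039).symm.trans (sb E76062 (iv5 F219344)))).symm
theorem E79411 : n103040 = n32079 := ((D103040).symm.trans (sb E76062 (iv6 D68967)))
theorem F317107 : act 4 n47771 = n54002 := (sb E76065 (iv4 D117171))
theorem E79412 : n97168 = n44723 := ((D97168).symm.trans (sb E76066 (iv2 D95760)))
theorem E79413 : n97173 = n44724 := ((D97173).symm.trans (sb E76066 (iv7 F147455)))
theorem F317108 : act 4 n71045 = n44723 := (sb E76067 (iv4 D95762))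
theorem F317109 : act 2 n95769 = n68592 := (sb E76069 F204940)
theorem F317110 : act 4 n95769 = n59882 := (sb E76069 (iv4 D127502))
theorem F317111 : act 5 n95770 = n59931 := (sb E76070 F205193)
theorem F317112 : act 7 n95770 = n59930 := (sb E76070 (iv7 D127634))
theorem F317113 : act 2 n95771 = n59930 := (sb E76071 F204983)
theorem F317114 : act 5 n81578 = n81579 := (sb E76073 (iv5 D170092))
theorem F317115 : act 5 n81577 = n83683 := (sb E76075 (iv5 D175220))
theorem E79414 : n97218 = n44754 := ((F316562).symm.trans (sb E76076 (iv7 F147530)))
theorem E79416 : n97202 = n69215 := ((D97202).symm.trans (sb E76082 F204789))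
theorem E79417 : n59890 = n44759 := ((((iv7 F290425)).symm.trans (sb E76082 F204790))).symm
theorem F317116 : act 4 n28396 = n44754 := (sb E76083 (iv4 D95847))
theorem F317117 : act 5 n32189 = n44754 := (sb E76084 (iv5 D95848))
theorem F317118 : act 2 n95849 = n59932 := (sb E76085 F204791)
theorem F317119 : act 4 n95849 = n59845 := (sb E76085 F204792)
theorem F317120 : act 1 n68457 = n44755 := (sb E76086 (iv0 D95850))
theorem F317121 : act 2 n95851 = n67886 := (sb E76087 (iv2 F169485))
theorem F317122 : act 4 n95851 = n67868 := (sb E76087 F169484)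
theorem E79418 : n95811 = n67884 := (((iv5 F147532)).symm.trans (sb E76087 F169483))
theorem F317123 : act 7 n95851 = n97223 := (sb E76087 (tr (iv7 F173540) E78852))
theorem F317124 : act 4 n32156 = n44755 := (sb E76088 (iv4 D95852))
theorem E79419 : n69121 = n47798 := ((D69121).symm.trans (sb E76088 F147533))
theorem E79420 : n112033 = n47799 := (((D47799).symm.trans (sb E76089 (iv7 F174140)))).symm
theorem F317125 : act 7 n51550 = n44755 := (sb E76090 (iv7 D95853))
theorem E79421 : n170365 = n44759 := (E78566).trans E79417
theorem F317126 : act 2 n95858 = n137292 := (sb E76094 (iv2 F220434))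
theorem F317127 : act 0 n54858 = n67997 := (sb E76096 F242912)
theorem F317128 : act 1 n54858 = n68002 := (sb E76096 F242913)
theorem F317129 : act 6 n54858 = n67966 := (sb E76096 (iv6 D144968))
theorem F317130 : act 0 n103689 = n68476 := (sb E76097 (iv1 D146042))
theorem F317131 : act 4 n103689 = n146513 := (sb E76097 (iv4 F232870))
theorem F317132 : act 3 n98285 = n61391 := (sb E76098 F207968)
theorem F317133 : act 4 n98285 = n60941 := (sb E76098 (iv4 D129746))
theorem F317134 : act 7 n98285 = n129291 := (sb E76098 F207969)
theorem F317135 : act 0 n59966 = n28953 := (sb E76100 (iv1 D61108))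
theorem F317136 : act 1 n59966 = n38665 := (sb E76100 F312955)
theorem F317137 : act 2 n59966 = n62363 := (sb E76100 F208933)
theorem F317138 : act 4 n61213 = n67367 := (sb E76105 F226476)
theorem E79428 : n137024 = n118905 := ((((iv4 F186955)).symm.trans (sb E76106 (iv4 F220159)))).symm
theorem F317139 : act 4 n14592 = n26480 := (sb E76107 F52590)
theorem F317140 : act 0 n29469 = n18862 := (sb E76111 (iv1 F302574))
theorem F317141 : act 1 n29469 = n54276 := (sb E76111 (iv0 F302609))
theorem E79432 : n79566 = n62277 := ((((iv3 F97095)).symm.trans (sb E76111 (iv3 F122196)))).symm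
theorem E79433 : n62284 = n17500 := ((D62284).symm.trans (sb E76111 (iv5 D36236)))
theorem F317142 : act 7 n29469 = n58703 := (sb E76111 (iv7 F302608))
theorem E79434 : n129904 = n86120 := (((D86120).symm.trans (sb E76112 (iv3 F208275)))).symm
theorem F317143 : act 4 n39862 = n29182 := (sb E76112 F95555)
theorem E79436 : n86121 = n62225 := ((D86121).symm.trans (sb E76112 (iv6 F96987)))
theorem F317144 : act 7 n39862 = n28924 := (sb E76112 (iv7 D61023))
theorem F317145 : act 5 n62716 = n60420 := (sb E76114 F184554)
theorem E79438 : n72281 = n53228 := ((((iv3 F111209)).symm.trans (sb E76119 (iv3 F108731)))).symm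
theorem F317146 : act 4 n25890 = n16105 := (sb E76119 F52592)
theorem F317147 : act 4 n30546 = n54745 := (sb E76121 F108647)
theorem E79440 : n71222 = n53873 := ((((iv3 F84921)).symm.trans (sb E76122 (iv3 F107704)))).symm
theorem F317148 : act 4 n31503 = n54486 := (sb E76123 F107608)
theorem F317149 : act 1 n75941 = n65150 := (sb E76126 F169655)
theorem F317150 : act 2 n75941 = n65577 := (sb E76126 F169652)
theorem F317151 : act 5 n75941 = n50585 := (sb E76126 (iv5 D109673))
theorem F317152 : act 7 n75941 = n65580 := (sb E76126 F169653)
theorem F317153 : act 3 n69610 = n67707 := (sb E76127 (iv3 D144488))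
theorem F317154 : act 1 n130087 = n75948 := (sb E76128 (iv0 D159031))
theorem F317155 : act 4 n130087 = n85782 := (sb E76128 F250365)
theorem E79442 : n175912 = n130087 := ((D175912).symm.trans (iv7 (sb E76128 (tr (iv7 F250367) E77366))))
theorem F317156 : act 0 n130082 = n128485 := (sb E76129 (iv1 F228861))
theorem F317157 : act 1 n130082 = n68329 := (sb E76129 (iv0 D145742))
theorem F317158 : act 4 n130082 = n68801 := (sb E76129 F228860)
theorem E79443 : n129612 = n117908 := ((F208552).symm.trans (sb E76129 F228859))
theorem F317159 : act 7 n130082 = n146162 := (sb E76129 (iv7 F229425))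
theorem F317160 : act 5 n69661 = n132823 := (sb E76130 (iv5 F213321))
theorem E79444 : n140956 = n62166 := ((E77685).symm.trans ((D148646).symm.trans (sb E76130 (iv6 D132509))))
theorem F317161 : act 0 n55230 = n67354 := (sb E76131 (iv1 D143799))
theorem E79448 : n151180 = n64188 := ((D151180).symm.trans (sb E76135 (iv3 D136537)))
theorem E79453 : n156882 = n32990 := (((D32990).symm.trans (sb E76139 (iv4 F246906)))).symm
theorem F317162 : act 0 n15888 = n14840 := (sb E76140 (iv1 F38049))
theorem F317163 : act 1 n15888 = n14839 := (sb E76140 (iv0 F38051))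
theorem F317164 : act 2 n15888 = n14841 := (sb E76140 F38046)
theorem E79454 : n49648 = n32992 := (((D32992).symm.trans (sb E76140 (iv3 F78411)))).symm
theorem F317165 : act 5 n15888 = n12343 := (sb E76140 F38047)
theorem F317166 : act 6 n15888 = n24374 := (sb E76140 (iv6 F38214))
theorem F317167 : act 7 n15888 = n11425 := (sb E76140 (iv7 D24275))
theorem F317168 : act 1 n70847 = n48929 := (sb E76144 (iv0 D105845))
theorem E79456 : n68531 = n17575 := (((F43816).symm.trans (sb E76147 (iv0 D146151)))).symm
theorem E79457 : n160082 = n155504 := (((D155504).symm.trans (sb E76148 F252633))).symm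
theorem E79458 : n160097 = n155506 := (((D155506).symm.trans (sb E76148 (iv2 F252673)))).symm
theorem F317169 : act 7 n73962 = n70242 := (sb E76148 (iv7 D149576))
theorem E79459 : n142108 = n70137 := (((iv3 F225145)).symm.trans (sb E76149 (iv3 D149366)))
theorem E79460 : n146613 = n114542 := ((D146613).symm.trans (sb E76153 F178953))
theorem E79461 : n146615 = n105427 := ((D146615).symm.trans (sb E76153 F178954))
theorem F317170 : act 7 n68710 = n53005 := (sb E76153 (iv7 D114871))
theorem F317171 : act 3 n32090 = n52955 := (sb E76156 F190340)
theorem F317172 : act 3 n95588 = n159446 := (sb E76157 F251081)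
theorem F317173 : act 4 n95588 = n58121 := (sb E76157 (iv4 D124529))
theorem E79464 : n157692 = n147601 := (((D147601).symm.trans (sb E76158 (iv1 F248498)))).symm
theorem E79465 : n157691 = n147602 := (((D147602).symm.trans (sb E76158 F248492))).symm
theorem E79466 : n147603 = n68805 := ((D147603).symm.trans (sb E76158 (iv5 D146757)))
theorem F317174 : act 7 n69178 = n128103 := (sb E76158 (iv7 F312504))
theorem E79467 : n175762 = n147285 := ((D175762).symm.trans (sb E76159 (iv4 F230905)))
theorem F317175 : act 4 n31897 = n62332 := (sb E76160 (iv4 D132820))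
theorem F317176 : act 0 n79891 = n62332 := (sb E76162 (iv1 F314968))
theorem F317177 : act 7 n79891 = n69746 := (sb E76162 (iv7 F229499))
theorem F317178 : act 4 n68799 = n84851 := (sb E76163 F234892)
theorem F317179 : act 0 n39259 = n68526 := (sb E76164 (iv1 F180397))
theorem F317180 : act 1 n39259 = n68522 := (sb E76164 (iv0 F180400))
theorem F317181 : act 4 n39259 = n32000 := (sb E76164 F104993)
theorem F317182 : act 7 n68809 = n84851 := (sb E76165 (iv7 D178301))
theorem E79470 : n153799 = n139715 := (((D139715).symm.trans (sb E76167 (iv2 F312395)))).symm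
theorem F317183 : act 6 n65576 = n95241 := (sb E76167 F267589)
theorem E79471 : n84841 = n69082 := (((D69082).symm.trans (sb E76169 (iv5 D178267)))).symm
theorem E79472 : n110674 = n78824 := ((((iv1 F119982)).symm.trans (sb E76170 D110674))).symm
theorem E79473 : n110675 = n58655 := (((F92648).symm.trans (sb E76170 D110675))).symm
theorem E79474 : n27099 = n24821 := ((F60215).symm.trans (sb E76170 (iv4 D51030)))
theorem F317184 : act 5 n39257 = n69081 := (sb E76170 (iv5 F171342))
theorem F317185 : act 7 n39257 = n51971 := (sb E76170 (iv7 F171309))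
theorem E79475 : n84842 = n26151 := (((F54576).symm.trans (sb E76171 (iv5 D178271)))).symm
theorem E79476 : n162972 = n110694 := (((F311877).symm.trans (sb E76172 F277974))).symm
theorem E79477 : n35715 = n24822 := ((((iv4 D51035)).symm.trans (sb E76173 (iv4 D78356)))).symm
theorem E79478 : n110695 = n35717 := ((D110695).symm.trans (sb E76173 F119572))
theorem F317186 : act 7 n51035 = n36387 := (sb E76173 F119573)
theorem F317187 : act 0 n51822 = n27917 := (sb E76174 F88516)
theorem F317188 : act 1 n51822 = n39906 := (sb E76174 F88517)
theorem F317189 : act 2 n51822 = n35856 := (sb E76174 (iv2 F119895))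
theorem E79480 : n26976 = n25158 := ((((iv4 D51822)).symm.trans (sb E76174 (iv4 D55940)))).symm
theorem E79481 : n121261 = n112333 := (((D112333).symm.trans (sb E76174 D121261))).symm
theorem E79482 : n121262 = n112334 := (((D112334).symm.trans (sb E76174 D121262))).symm
theorem F317190 : act 7 n51822 = n35851 := (sb E76174 (iv7 F119896))
theorem F317191 : act 0 n51827 = n39906 := (sb E76175 F88512)
theorem F317192 : act 1 n51827 = n27917 := (sb E76175 F88513)
theorem F317193 : act 2 n51827 = n35851 := (sb E76175 F119891)
theorem E79483 : n121252 = n112341 := (((D112341).symm.trans (sb E76175 D121252))).symm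
theorem E79484 : n26975 = n25159 := ((((iv4 D51827)).symm.trans (sb E76175 (iv4 D55936)))).symm
theorem E79485 : n112343 = n78758 := ((D112343).symm.trans (sb E76175 (iv6 F119915)))
theorem F317194 : act 7 n51827 = n35856 := (sb E76175 F119892)
theorem E79486 : n180540 = n50989 := (((iv1 F280989)).symm.trans (sb E76176 F169104))
theorem E79487 : n180539 = n108018 := ((F280997).symm.trans (sb E76176 F171145))
theorem E79488 : n180542 = n108016 := (((iv2 F280994)).symm.trans (sb E76176 F169983))
theorem E79489 : n180494 = n50371 := (((iv4 F280919)).symm.trans (sb E76176 (iv4 D109112)))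
theorem E79491 : n50625 = n27919 := ((((iv1 F45089)).symm.trans (sb E76177 F169111))).symm
theorem E79492 : n59070 = n27918 := (((F45088).symm.trans (sb E76177 F169955))).symm
theorem E79493 : n50372 = n39899 := ((((iv3 F60710)).symm.trans (sb E76177 (iv3 D109118)))).symm
theorem E79494 : n109601 = n18630 := (((F30123).symm.trans (sb E76177 (iv5 F169594)))).symm
theorem E79496 : n180553 = n110609 := ((D180553).symm.trans (sb E76179 F233923))
theorem E79497 : n180554 = n69197 := ((D180554).symm.trans (sb E76179 F233924))
theorem E79498 : n125403 = n113223 := (((iv2 F201679)).symm.trans (sb E76180 F202776))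
theorem E79499 : n125379 = n59076 := (((iv4 F201661)).symm.trans (sb E76180 F202777))
theorem E79500 : n27915 = n13386 := (((iv3 F45082)).symm.trans (sb E76181 (iv3 D28065)))
theorem E79503 : n110636 = n86268 := (((iv0 F171345)).symm.trans (sb E76183 (iv0 F132227)))
theorem F317195 : act 2 n51834 = n86271 := (sb E76183 (iv2 F132235))
theorem E79504 : n163196 = n28029 := (((F81854).symm.trans (sb E76183 (iv3 F257483)))).symm
theorem E79505 : n35749 = n25161 := ((((iv5 D51834)).symm.trans (sb E76183 (iv5 D78452)))).symm
theorem E79506 : n163232 = n112361 := (((D112361).symm.trans (sb E76183 (iv6 F257504)))).symm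
theorem F317196 : act 2 n68806 = n69178 := (sb E76184 F231385)
theorem F317197 : act 6 n68806 = n69175 := (sb E76184 (iv6 D147596))
theorem E79509 : n110025 = n85774 := ((F170777).symm.trans (sb E76189 (iv1 F313803)))
theorem E79510 : n110028 = n58550 := (((iv0 F170162)).symm.trans (sb E76189 (iv0 F313805)))
theorem E79511 : n110417 = n35747 := (((iv2 F170790)).symm.trans (sb E76189 F88395))
theorem E79512 : n121103 = n24762 := (((F80325).symm.trans (sb E76189 (iv3 F193130)))).symm
theorem F317198 : act 4 n50917 = n58415 := (sb E76189 (iv4 F311562))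
theorem E79513 : n26974 = n24761 := ((((iv5 D50917)).symm.trans (sb E76189 F88396))).symm
theorem E79514 : n110420 = n26954 := ((D110420).symm.trans (sb E76189 (iv6 D55882)))
theorem E79515 : n85325 = n52047 := ((((iv7 F82264)).symm.trans (sb E76189 (iv7 F313810)))).symm
theorem E79516 : n115350 = n85103 := ((((iv3 F183647)).symm.trans (sb E76190 (iv3 F179631)))).symm
theorem E79517 : n163896 = n148240 := ((D163896).symm.trans (sb E76191 (iv3 F232070)))
theorem E79518 : n121718 = n51945 := (((iv5 F194272)).symm.trans (sb E76191 (iv5 F173362)))
theorem E79520 : n51946 = n36398 := (((E77261).symm.trans ((D116922).symm.trans (sb E76192 (iv5 F105784))))).symm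
theorem E79522 : n50769 = n18881 := ((((iv5 D39923)).symm.trans (sb E76193 (iv5 D110079)))).symm
theorem E79523 : n59253 = n36405 := ((((iv3 F57149)).symm.trans (sb E76194 F170228))).symm
theorem F317199 : act 0 n54153 = n68718 := (sb E76195 F162437)
theorem F317200 : act 1 n54153 = n68630 := (sb E76195 F162438)
theorem F317201 : act 2 n54153 = n48911 := (sb E76195 F162435)
theorem F317202 : act 7 n54153 = n48914 := (sb E76195 F162436)
theorem F317203 : act 0 n69332 = n48911 := (sb E76196 (iv1 D105784))
theorem F317204 : act 1 n69332 = n48914 := (sb E76196 F162471)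
theorem F317205 : act 2 n69332 = n68630 := (sb E76196 (iv2 F162474))
theorem E79524 : n148024 = n54107 := ((D148024).symm.trans (sb E76196 F162473))
theorem F317206 : act 7 n69332 = n68718 := (sb E76196 F162472)
theorem F317207 : act 0 n124943 = n144876 := (sb E76197 F229696)
theorem E79525 : n144871 = n58404 := ((((iv0 D124943)).symm.trans (sb E76197 F229697))).symm
theorem F317208 : act 5 n124943 = n68630 := (sb E76197 (iv5 D146365))
theorem F317209 : act 6 n105783 = n146415 := (sb E76198 F248452)
theorem F317210 : act 3 n69310 = n68718 := (sb E76199 F227963)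
theorem E79526 : n119023 = n67981 := (((iv4 F316815)).symm.trans (sb E76199 (iv4 D145004)))
theorem F317211 : act 1 n124944 = n144876 := (sb E76200 F229934)
theorem F317212 : act 5 n124944 = n68718 := (sb E76200 (iv5 D146637))
theorem E79527 : n146616 = n68719 := ((D146616).symm.trans (sb E76201 F229935))
theorem F317213 : act 6 n68711 = n68718 := (sb E76201 (iv6 D146638))
theorem F317214 : act 3 n54162 = n48914 := (sb E76202 (iv3 D105795))
theorem E79528 : n146510 = n120038 := (((D120038).symm.trans (sb E76204 (iv1 F229833)))).symm
theorem E79529 : n120039 = n76584 := ((D120039).symm.trans (sb E76204 F162477))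
theorem F317215 : act 5 n55237 = n48911 := (sb E76204 (iv5 D105786))
theorem E79530 : n126411 = n120046 := ((((iv1 F189598)).symm.trans (sb E76205 (iv1 F203238)))).symm
theorem E79531 : n52062 = n36459 := ((((iv5 F316264)).symm.trans (sb E76205 (iv5 D112796)))).symm
theorem E79533 : n110523 = n18871 := ((((iv1 D39890)).symm.trans (sb E76206 (iv1 F171038)))).symm
theorem E79535 : n110537 = n86189 := (((D86189).symm.trans (sb E76206 D110537))).symm
theorem E79536 : n27111 = n24782 := (((iv4 F60703)).symm.trans (sb E76206 (iv4 D50966)))
theorem F317216 : act 0 n39256 = n68522 := (sb E76210 (iv1 F181342))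
theorem F317217 : act 1 n39256 = n68526 := (sb E76210 F180396)
theorem F317218 : act 4 n39256 = n26149 := (sb E76210 (iv4 D54061))
theorem E79543 : n31456 = n26551 := (((F43285).symm.trans (sb E76211 (iv5 D67755)))).symm
theorem E79546 : n120669 = n53772 := (E76214).trans E77309
theorem E79547 : n116679 = n31292 := (((iv3 F182063)).symm.trans (sb E79546 (tr (iv3 F230961) E77442)))
theorem E79548 : n116685 = n26082 := ((D116685).symm.trans (sb E79546 (tr F192358 E77997)))
theorem E79564 : n31457 = n26533 := ((D31457).symm.trans (sb E76218 F42479))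
theorem E79565 : n31458 = n26553 := ((D31458).symm.trans (sb E76218 F42508))
theorem E79566 : n33341 = n31383 := ((((iv4 F49647)).symm.trans (sb E76218 D33341))).symm
theorem F317219 : act 5 n14826 = n14899 := (sb E76218 F25603)
theorem E79567 : n117790 = n76634 := ((F205113).symm.trans (sb E76220 F235334))
theorem E79568 : n142380 = n119162 := ((D142380).symm.trans (sb E76222 F235343))
theorem F317220 : act 3 n32652 = n31133 := (sb E76223 F102639)
theorem E79572 : n116467 = n31296 := (((F314012).symm.trans (sb E76223 (iv7 F181746)))).symm
theorem E79575 : n139721 = n31450 := (((D31450).symm.trans (sb E76225 (tr (iv6 F230170) E77984)))).symm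
theorem E79576 : n70346 = n31452 := (((D31452).symm.trans (sb E76226 F237459))).symm
theorem E79582 : n180311 = n68555 := ((((iv2 F316739)).symm.trans (sb E76228 (iv2 F280604)))).symm
theorem F317221 : act 6 n121461 = n155372 := (sb E76228 (iv6 F262008))
theorem F317222 : act 2 n156957 = n85202 := (sb E76229 (iv2 D178804))
theorem E79583 : n178586 = n85202 := ((F315842).symm.trans (sb E76230 (iv3 D178805)))
theorem F317223 : act 4 n111224 = n85202 := (sb E76231 F274395)
theorem F317224 : act 5 n111224 = n83737 := (sb E76231 (iv5 D175349))
theorem E79584 : n178807 = n85188 := (E76232).trans E76264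
theorem E79585 : n178761 = n85203 := ((D178761).symm.trans (sb E79584 F278674))
theorem F317225 : act 5 n118539 = n69503 := (sb E76237 F232096)
theorem F317226 : act 3 n131185 = n86119 := (sb E76238 F232128)
theorem E79586 : n173952 = n76973 := (((iv1 F272607)).symm.trans (sb E76239 (iv1 F253622)))
theorem E79587 : n173951 = n76972 := ((F272610).symm.trans (sb E76239 (iv0 D160536)))
theorem F317227 : act 2 n83184 = n76976 := (sb E76239 (iv2 F253618))
theorem E79588 : n173963 = n159207 := (((iv3 F272614)).symm.trans (sb E76239 F253619))
theorem E79589 : n173968 = n125275 := ((D173968).symm.trans (sb E76239 F253620))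
theorem E79590 : n173928 = n76974 := (((iv7 F315007)).symm.trans (sb E76239 F253621))
theorem F317228 : act 5 n35165 = n38291 := (sb E76240 (iv5 D83179))
theorem F317229 : act 3 n83169 = n159284 := (sb E76243 F253628)
theorem E79593 : n172387 = n86116 := ((F270604).symm.trans (sb E76243 F253629))
theorem E79594 : n173949 = n86119 := ((D173949).symm.trans (sb E76244 F253630))
theorem E79597 : n172156 = n18861 := ((((iv5 D39861)).symm.trans (sb E76245 (iv5 F303504)))).symm
theorem F317230 : act 6 n39861 = n38291 := (sb E76245 (iv6 D83180))
theorem E79598 : n56068 = n39855 := (((D39855).symm.trans (sb E76246 F193787))).symm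
theorem F317231 : act 3 n66999 = n73721 := (sb E76254 (iv3 D155226))
theorem E79599 : n142985 = n124316 := ((D142985).symm.trans (sb E76254 (iv4 F244134)))
theorem F317232 : act 5 n53706 = n73721 := (sb E76255 (iv5 D155228))
theorem F317233 : act 6 n69502 = n73721 := (sb E76256 (iv6 D155229))
theorem F317234 : act 1 n54588 = n32276 := (sb E76257 (iv0 D69514))
theorem E79600 : n148321 = n118480 := ((((iv2 F186365)).symm.trans (sb E76257 D148321))).symm
theorem E79605 : n148326 = n118541 := (((D118541).symm.trans (sb E76257 D148326))).symm
theorem F317235 : act 1 n69515 = n118539 := (sb E76258 (iv0 F208267))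
theorem E79606 : n148327 = n61590 := ((D148327).symm.trans (sb E76258 F208264))
theorem E79607 : n148328 = n61015 := ((D148328).symm.trans (sb E76258 F208265))
theorem E79608 : n148329 = n120679 := ((D148329).symm.trans (sb E76258 (iv5 F208268)))
theorem E79609 : n148330 = n61014 := ((D148330).symm.trans (sb E76258 (iv6 D129900)))
theorem F317236 : act 0 n69502 = n118480 := (sb E76259 (iv1 F215010))
theorem F317237 : act 1 n69502 = n118541 := (sb E76259 F215009)
theorem F317238 : act 7 n69502 = n118539 := (sb E76259 F215008)
theorem E79610 : n148332 = n132990 := ((D148332).symm.trans (sb E76260 (iv0 F215012)))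
theorem F317239 : act 7 n69516 = n131185 := (sb E76260 F215011)
theorem F317240 : act 5 n61535 = n106095 := (sb E76261 (iv5 F163111))
theorem F317241 : act 0 n58654 = n62363 := (sb E76262 (iv1 F97242))
theorem F317242 : act 2 n58654 = n38665 := (sb E76262 (iv2 F310682))
theorem E79616 : n130158 = n125292 := ((((iv3 F201504)).symm.trans (sb E76262 (iv3 F208686)))).symm
theorem F317243 : act 4 n58654 = n29138 := (sb E76262 F95620)
theorem F317244 : act 7 n58654 = n28953 := (sb E76262 (iv7 D61110))
theorem E79621 : n178759 = n74653 := ((D178759).symm.trans (sb E76264 F247047))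
theorem E79623 : n178762 = n111159 := ((D178762).symm.trans (sb E76264 F247039))
theorem E79624 : n178763 = n138373 := ((D178763).symm.trans (sb E76264 (iv5 F247043)))
theorem E79625 : n138625 = n118332 := ((D138625).symm.trans (sb E76265 F279108))
theorem E79626 : n138686 = n118334 := ((D138686).symm.trans (sb E76266 F264602))
theorem E79627 : n150312 = n138689 := (((D138689).symm.trans (sb E76266 F264603))).symm
theorem E79628 : n138690 = n80602 := ((D138690).symm.trans (sb E76266 (iv6 D167919)))
theorem E79629 : n138670 = n118333 := (((D118333).symm.trans (sb E76267 (iv1 F221826)))).symm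
theorem E79630 : n138669 = n118334 := (((D118334).symm.trans (sb E76267 F221829))).symm
theorem F317245 : act 7 n54500 = n30576 := (sb E76267 (iv7 D65123))
theorem E79631 : n68576 = n30995 := (((D30995).symm.trans (sb E76268 (iv6 D146246)))).symm
theorem E79632 : n138660 = n30986 := (((D30986).symm.trans (sb E76269 (iv3 F221822)))).symm
theorem E79633 : n138662 = n30987 := (((D30987).symm.trans (sb E76269 (iv4 F221823)))).symm
theorem E79634 : n30989 = n30573 := ((D30989).symm.trans (sb E76269 (iv6 D65113)))
theorem E79635 : n116836 = n30984 := (((D30984).symm.trans (sb E76270 (tr F246526 E77406)))).symm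
theorem E79637 : n128184 = n83110 := ((D128184).symm.trans (sb E76275 (iv1 F128120)))
theorem E79638 : n128185 = n35650 := ((D128185).symm.trans (sb E76275 (iv0 D78198)))
theorem E79639 : n128183 = n75776 := (((iv2 F206325)).symm.trans (sb E76275 F300781))
theorem F317246 : act 5 n60263 = n45891 := (sb E76275 F300782)
theorem F317247 : act 7 n60263 = n75786 := (sb E76275 F300783)
theorem F317248 : act 3 n154136 = n77370 := (sb E76276 F254837)
theorem F317249 : act 5 n154136 = n77369 := (sb E76276 (iv5 D161161))
theorem E79643 : n128188 = n83355 := ((D128188).symm.trans (sb E76277 F250010))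
theorem E79644 : n128189 = n84148 := ((D128189).symm.trans (sb E76277 F271492))
theorem E79645 : n114448 = n75765 := (((iv3 F178503)).symm.trans (sb E76277 F250009))
theorem F317250 : act 5 n60264 = n75764 := (sb E76277 (iv5 D158805))
theorem F317252 : act 4 n124683 = n75786 := (sb E76279 (iv4 D158836))
theorem F317253 : act 6 n101467 = n75786 := (sb E76280 (iv6 D158837))
theorem E79646 : n180716 = n173662 := (((D173662).symm.trans (sb E76281 D180716))).symm
theorem E79648 : n173664 = n77023 := ((D173664).symm.trans (sb E76281 F132286))
theorem E79649 : n152403 = n38221 := ((((iv3 D83054)).symm.trans (sb E76281 (iv3 F239595)))).symm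
theorem E79650 : n173665 = n80423 := ((D173665).symm.trans (sb E76281 F132287))
theorem E79651 : n173666 = n39939 := ((D173666).symm.trans (sb E76281 (iv6 D86319)))
theorem E79652 : n180719 = n38675 := (((F128002).symm.trans (sb E76281 D180719))).symm
theorem E79655 : n119128 = n98540 := ((((iv2 F268274)).symm.trans (sb E76282 (iv2 F187452)))).symm
theorem F317254 : act 3 n77641 = n155077 := (sb E76282 (iv3 F243890))
theorem E79656 : n161655 = n149842 := ((D161655).symm.trans (sb E76282 (iv4 F235693)))
theorem E79657 : n161689 = n161656 := (((D161656).symm.trans (sb E76282 D161689))).symm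
theorem E79658 : n161657 = n35458 := ((D161657).symm.trans (sb E76282 (iv6 D77664)))
theorem F317255 : act 1 n153243 = n82984 := (sb E76283 (iv0 D173414))
theorem E79660 : n135098 = n22724 := (((D22724).symm.trans (sb E76284 F238954))).symm
theorem F317256 : act 3 n47249 = n71643 := (sb E76287 F238956)
theorem F317257 : act 3 n47250 = n71644 := (sb E76288 F238957)
theorem E79661 : n173346 = n38216 := ((((iv1 D83043)).symm.trans (sb E76289 (iv1 F271798)))).symm
theorem E79662 : n173345 = n38639 := (((F127981).symm.trans (sb E76289 F271803))).symm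
theorem E79663 : n173348 = n38637 := ((((iv2 F279263)).symm.trans (sb E76289 (iv2 F271801)))).symm
theorem F317258 : act 3 n83043 = n120130 := (sb E76289 (iv3 F314267))
theorem E79664 : n174762 = n173633 := (((D173633).symm.trans (sb E76289 (iv5 F273582)))).symm
theorem E79665 : n173634 = n173353 := ((D173634).symm.trans (sb E76289 (iv6 F271813)))
theorem F317259 : act 7 n83043 = n38494 := (sb E76289 (iv7 D83495))
theorem F317260 : act 5 n29481 = n38642 := (sb E76290 (iv5 D83910))
theorem E79667 : n175793 = n62317 := (((D62317).symm.trans (sb E76290 (iv6 F275210)))).symm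
theorem F317261 : act 2 n83907 = n62328 := (sb E76291 F213256)
theorem F317262 : act 0 n124678 = n58339 := (sb E76292 (iv1 D124778))
theorem F317263 : act 1 n128182 = n63624 := (sb E76294 (iv0 D135347))
theorem E79668 : n185745 = n129297 := (((iv5 F288042)).symm.trans (sb E76294 F217595))
theorem F317264 : act 6 n177045 = n86362 := (sb E76297 (iv6 D180818))
theorem F317265 : act 6 n40046 = n84381 := (sb E76299 (iv6 D177049))
theorem F317266 : act 3 n33836 = n22741 := (sb E76301 (iv3 D47319))
theorem E79672 : n101806 = n73632 := (((D73632).symm.trans (sb E76301 (iv4 F156771)))).symm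
theorem E79673 : n101820 = n73633 := (((D73633).symm.trans (sb E76301 D101820))).symm
theorem F317267 : act 2 n82562 = n61678 := (sb E76305 (iv2 D131413))
theorem F317268 : act 3 n82562 = n132959 := (sb E76305 (iv3 F213588))
theorem E79675 : n98940 = n61674 := (((iv3 F152482)).symm.trans (sb E76306 (iv3 D131400)))
theorem F317269 : act 4 n46296 = n61678 := (sb E76306 F210618)
theorem F317270 : act 0 n87544 = n69977 := (sb E76307 (iv1 D149112))
theorem F317271 : act 0 n170729 = n82989 := (sb E76308 (iv1 F270063))
theorem F317272 : act 2 n170729 = n82991 := (sb E76308 F270060)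
theorem F317273 : act 6 n170729 = n82981 := (sb E76308 F270061)
theorem F317274 : act 7 n170729 = n82386 := (sb E76308 (iv7 D172011))
theorem F317275 : act 7 n101258 = n82989 := (sb E76309 (iv7 F271892))
theorem F317276 : act 2 n38465 = n82989 := (sb E76314 F271893)
theorem F317277 : act 3 n38562 = n82989 := (sb E76315 (iv3 D173433))
theorem F317278 : act 4 n101262 = n82989 := (sb E76316 (iv4 D173434))
theorem F317279 : act 2 n173435 = n83450 := (sb E76317 F273492)
theorem F317280 : act 3 n173435 = n83641 := (sb E76317 F273493)
theorem F317281 : act 0 n173436 = n98961 := (sb E76318 F303460)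
theorem E79676 : n176394 = n83008 := (E76728).trans E77388
theorem E79677 : n173503 = n173436 := ((D173503).symm.trans (iv1 (sb E76318 (tr F275674 E79676))))
theorem F317282 : act 2 n173436 = n83451 := (sb E76318 F273494)
theorem F317283 : act 3 n173436 = n83642 := (sb E76318 F273495)
theorem F317284 : act 4 n173436 = n85827 := (sb E76318 F303461)
theorem F317285 : act 7 n173436 = n88074 := (sb E76318 F303462)
theorem F317286 : act 0 n101258 = n82991 := (sb E76319 (iv1 F270062))
theorem F317287 : act 1 n101258 = n82386 := (sb E76319 (iv0 D172008))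
theorem F317288 : act 0 n38465 = n82386 := (sb E76320 (iv1 D172009))
theorem F317289 : act 1 n38465 = n82991 := (sb E76320 F270058)
theorem E79678 : n124537 = n96183 := (((F270055).symm.trans (sb E76321 F273488))).symm
theorem F317290 : act 1 n173417 = n83555 := (sb E76325 (iv0 F273491))
theorem E79679 : n174429 = n98520 := ((((iv4 F315044)).symm.trans (sb E76325 F273490))).symm
theorem E79680 : n129693 = n80275 := ((D129693).symm.trans (sb E76328 (iv5 D167217)))
theorem F317291 : act 1 n119233 = n62152 := (sb E76331 (iv0 D132474))
theorem F317292 : act 5 n132475 = n119565 := (sb E76332 (iv5 F278586))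
theorem F317293 : act 6 n132475 = n178514 := (sb E76332 (iv6 F278189))
theorem F317294 : act 0 n132476 = n84898 := (sb E76333 F250260)
theorem F317295 : act 3 n117661 = n62160 := (sb E76334 F212602)
theorem F317296 : act 7 n117661 = n62152 := (sb E76334 (iv7 D132477))
theorem E79687 : n150648 = n25950 := ((((iv4 F41014)).symm.trans (sb E76347 (iv4 F237189)))).symm
theorem F317297 : act 4 n12317 = n17729 := (sb E76351 (iv4 D36781))
theorem E79690 : n70973 = n67795 := ((D70973).symm.trans (sb E76355 F227499))
theorem E79697 : n15870 = n14832 := ((((iv6 D31484)).symm.trans (sb E76358 F52098))).symm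
theorem F317298 : act 4 n7065 = n3402 := (sb E76359 (iv4 D7441))
theorem E79698 : n150748 = n108071 := (((iv3 F237304)).symm.trans (sb E76364 F245923))
theorem E79699 : n67829 = n54478 := (((F185782).symm.trans (sb E76366 F226560))).symm
theorem F317299 : act 0 n26368 = n53835 := (sb E76369 F100816)
theorem F317300 : act 1 n26368 = n53843 := (sb E76369 F100811)
theorem F317301 : act 4 n26368 = n14838 := (sb E76369 F49798)
theorem E79705 : n142222 = n58612 := ((((iv2 F92580)).symm.trans (sb E76370 (iv2 F225210)))).symm
theorem E79707 : n58619 = n31096 := ((D58619).symm.trans (sb E76370 (iv5 D66675)))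
theorem F317302 : act 0 n14701 = n17729 := (sb E76371 F45016)
theorem F317303 : act 2 n14701 = n18807 := (sb E76371 F45015)
theorem F317304 : act 5 n14701 = n13294 := (sb E76371 (iv5 D27884))
theorem E79715 : n142250 = n85955 := ((((iv2 F131904)).symm.trans (sb E76373 (iv2 F225220)))).symm
theorem E79717 : n80544 = n31101 := (((iv5 F123814)).symm.trans (sb E76373 (iv5 D66683)))
theorem F317305 : act 1 n14702 = n17729 := (sb E76374 F57624)
theorem F317306 : act 5 n14702 = n18808 := (sb E76374 F57626)
theorem F317307 : act 7 n14702 = n18807 := (sb E76374 F57625)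
theorem E79722 : n156190 = n39489 := (((D39489).symm.trans (sb E76379 (iv0 F247044)))).symm
theorem F317308 : act 3 n24266 = n34779 := (sb E76385 (iv3 D76140))
theorem E79737 : n148692 = n49769 := (((D49769).symm.trans (sb E76385 (iv4 F315071)))).symm
theorem E79742 : n107734 = n60950 := (E76390).trans E79191
theorem E79743 : n129777 = n49770 := (((iv3 F208122)).symm.trans (sb E79742 F166366))
theorem E79744 : n59607 = n28900 := ((((iv5 D60950)).symm.trans (sb E79742 F166367))).symm
theorem E79747 : n120051 = n59597 := (((D59597).symm.trans (sb E76391 (iv6 F189623)))).symm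
theorem E79750 : n152697 = n59601 := (((D59601).symm.trans (sb E76392 (iv6 F239908)))).symm
theorem E79751 : n149758 = n59604 := (((D59604).symm.trans (sb E76393 (iv1 F235545)))).symm
theorem E79752 : n179217 = n59605 := (((D59605).symm.trans (sb E76393 D179217))).symm
theorem E79755 : n78401 = n59698 := (((D59698).symm.trans (sb E76394 F313857))).symm
theorem E79756 : n59699 = n58456 := ((D59699).symm.trans (sb E76394 (iv0 D125031)))
theorem E79757 : n74095 = n59702 := (((D59702).symm.trans (sb E76394 (iv6 F234879)))).symm
theorem E79759 : n59706 = n31158 := ((D59706).symm.trans (sb E76395 F102349))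
theorem E79760 : n65648 = n59707 := (((D59707).symm.trans (sb E76395 F313731))).symm
theorem E79761 : n59709 = n28702 := ((D59709).symm.trans (sb E76396 (iv1 D60437)))
theorem E79762 : n59710 = n31013 := ((D59710).symm.trans (sb E76396 F314546))
theorem E79763 : n128499 = n59696 := ((((iv3 F94091)).symm.trans (sb E76396 D128499))).symm
theorem E79764 : n74169 = n59712 := (((D59712).symm.trans (sb E76396 F110902))).symm
theorem E79765 : n150401 = n59722 := (((D59722).symm.trans (sb E76397 (iv6 F236748)))).symm
theorem E79766 : n59724 = n54347 := ((D59724).symm.trans (sb E76398 (iv6 D117975)))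
theorem E79767 : n59725 = n31096 := ((D59725).symm.trans (sb E76399 (tr (iv1 F200013) E79707)))
theorem E79768 : n127764 = n59726 := (((D59726).symm.trans (sb E76399 (iv0 F205387)))).symm
theorem E79769 : n127974 = n59719 := ((((iv3 F94107)).symm.trans (sb E76399 (iv3 F205949)))).symm
theorem E79770 : n59727 = n32834 := ((D59727).symm.trans (sb E76399 (iv5 D70852)))
theorem E79771 : n59728 = n32866 := ((D59728).symm.trans (sb E76399 F110559))
theorem F317309 : act 0 n14633 = n13521 := (sb E76400 (iv1 D28341))
theorem E79772 : n59746 = n30905 := ((((iv3 F49354)).symm.trans (sb E76400 D59746))).symm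
theorem F317310 : act 2 n23856 = n30911 := (sb E76402 (iv2 F182733))
theorem E79778 : n143379 = n79764 := (((D79764).symm.trans (sb E76404 F226141))).symm
theorem E79780 : n138713 = n125202 := ((D138713).symm.trans (sb E76413 (iv5 F201294)))
theorem F317311 : act 5 n58558 = n30578 := (sb E76415 (iv5 D65129))
theorem F317312 : act 7 n58558 = n74494 := (sb E76415 (iv7 F111823))
theorem F317313 : act 3 n59995 = n30579 := (sb E76416 (iv3 D65130))
theorem E79787 : n138719 = n74139 := ((((iv4 F110859)).symm.trans (sb E76416 D138719))).symm
theorem E79788 : n138720 = n66450 := ((((iv5 F316366)).symm.trans (sb E76416 D138720))).symm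
theorem F317314 : act 7 n59995 = n74491 := (sb E76416 (iv7 F111816))
theorem E79791 : n138723 = n66448 := ((D138723).symm.trans (sb E76418 (tr (iv6 F131563) E77232)))
theorem F317315 : act 7 n65131 = n39644 := (sb E76418 F107643)
theorem E79795 : n138874 = n31659 := (((D31659).symm.trans (sb E76419 D138874))).symm
theorem F317316 : act 6 n14887 = n31009 := (sb E76419 F100959)
theorem F317317 : act 0 n14896 = n11425 := (sb E76420 (iv1 D24274))
theorem F317318 : act 1 n14896 = n14841 := (sb E76420 F38042)
theorem F317319 : act 2 n14896 = n14840 := (sb E76420 F76943)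
theorem E79796 : n49786 = n31683 := (((D31683).symm.trans (sb E76420 D49786))).symm
theorem F317320 : act 5 n14896 = n14840 := (sb E76420 F38043)
theorem F317321 : act 6 n14896 = n13508 := (sb E76420 (iv6 F38044))
theorem F317322 : act 7 n14896 = n14839 := (sb E76420 F76944)
theorem F317323 : act 4 n24272 = n26376 := (sb E76421 F86179)
theorem E79802 : n118415 = n49647 := (((D49647).symm.trans (sb E76422 (iv4 F186081)))).symm
theorem E79804 : n85507 = n49750 := (((D49750).symm.trans (sb E76424 (iv3 D179174)))).symm
theorem F317324 : act 5 n14669 = n15049 := (sb E76427 (iv5 D31904))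
theorem F317325 : act 1 n53556 = n59708 := (sb E76429 F220553)
theorem E79805 : n116210 = n65633 := ((D116210).symm.trans (sb E76429 F102310))
theorem E79806 : n141577 = n25935 := ((((iv4 D53556)).symm.trans (sb E76429 D141577))).symm
theorem E79807 : n116211 = n31419 := (E77517).trans E77727
theorem F317326 : act 7 n53556 = n59704 := (sb E76429 (iv7 F204430))
theorem E79810 : n65673 = n31019 := ((D65673).symm.trans (sb E76430 F102353))
theorem F317327 : act 4 n101560 = n63520 := (sb E76431 (iv4 D135174))
theorem F317328 : act 5 n108078 = n85958 := (sb E76432 (iv5 D179898))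
theorem F317329 : act 6 n118180 = n67701 := (sb E76433 (iv6 D144473))
theorem F317330 : act 0 n68003 = n68283 := (sb E76434 (iv1 D145672))
theorem F317331 : act 1 n67998 = n68283 := (sb E76435 (iv0 D145671))
theorem F317332 : act 0 n125179 = n132514 := (sb E76436 (iv1 F228718))
theorem F317333 : act 1 n125179 = n132513 := (sb E76436 F228719)
theorem F317334 : act 2 n125179 = n68283 := (sb E76436 F228715)
theorem F317335 : act 3 n108022 = n85963 := (sb E76437 (iv3 D179901))
theorem F317336 : act 5 n108021 = n85963 := (sb E76438 (iv5 D179902))
theorem F317337 : act 6 n144468 = n85963 := (sb E76439 (iv6 D179903))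
theorem F317338 : act 5 n144466 = n131485 := (sb E76440 F280192)
theorem F317339 : act 5 n68100 = n67700 := (sb E76441 (iv5 D144469))
theorem F317340 : act 0 n118241 = n67699 := (sb E76442 (iv1 D144464))
theorem F317341 : act 1 n118241 = n67703 := (sb E76442 F227288)
theorem F317342 : act 2 n118241 = n67701 := (sb E76442 (iv2 F227290))
theorem F317343 : act 7 n118241 = n67700 := (sb E76442 F227289)
theorem F317344 : act 5 n68101 = n67701 := (sb E76443 (iv5 D144472))
theorem F317345 : act 0 n108235 = n65128 := (sb E76444 (iv1 D138710))
theorem E79812 : n159442 = n145670 := (E76458).trans E78524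
theorem E79813 : n117114 = n65645 := (((iv1 F183173)).symm.trans (sb E76445 (iv1 D139852)))
theorem F317346 : act 2 n67972 = n108249 := (sb E76445 F223055)
theorem F317347 : act 5 n67972 = n108235 := (sb E76445 (iv5 F223054))
theorem E79814 : n141347 = n114625 := ((D141347).symm.trans (sb E76447 (iv0 F311535)))
theorem E79815 : n145088 = n141341 := ((((iv3 F224367)).symm.trans (sb E76447 D145088))).symm
theorem E79816 : n145089 = n141343 := ((((iv4 F224372)).symm.trans (sb E76447 D145089))).symm
theorem E79817 : n141335 = n69921 := ((D141335).symm.trans (sb E76448 (iv6 D149066)))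
theorem F317348 : act 2 n54453 = n48870 := (sb E76449 F173679)
theorem E79820 : n118214 = n115642 := (((iv3 F185751)).symm.trans (sb E76449 (iv3 F180007)))
theorem E79821 : n141334 = n118223 := (((D118223).symm.trans (sb E76449 (iv4 F224353)))).symm
theorem F317349 : act 6 n54453 = n30972 := (sb E76449 (iv6 D66302))
theorem F317350 : act 2 n28473 = n32513 := (sb E76450 F106362)
theorem E79824 : n149067 = n59957 := (((D59957).symm.trans (sb E76450 (iv3 F234434)))).symm
theorem E79825 : n149068 = n59958 := (((D59958).symm.trans (sb E76450 (iv4 F234437)))).symm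
theorem E79827 : n59960 = n32470 := ((D59960).symm.trans (sb E76450 (iv6 D69925)))
theorem E79829 : n149253 = n59954 := (((D59954).symm.trans (sb E76451 (iv4 F234636)))).symm
theorem F317351 : act 7 n28472 = n32513 := (sb E76451 (iv7 D70057))
theorem E79830 : n96530 = n59920 := ((F290458).symm.trans (sb E76452 F162332))
theorem F317352 : act 1 n95865 = n59919 := (sb E76452 F162333)
theorem F317353 : act 2 n95865 = n48874 := (sb E76452 F162330)
theorem F317354 : act 4 n95865 = n48871 := (sb E76452 (iv4 D105717))
theorem F317355 : act 3 n28474 = n30911 := (sb E76453 (iv3 D66110))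
theorem F317356 : act 2 n108247 = n65128 := (sb E76455 (iv2 D138711))
theorem E79834 : n105714 = n66681 := ((E76469).symm.trans ((F315153).symm.trans (sb E76455 F221861)))
theorem F317357 : act 0 n54466 = n74493 := (sb E76457 (iv1 D156660))
theorem F317358 : act 0 n145670 = n108235 := (sb E79812 (iv1 F315137))
theorem F317359 : act 5 n145670 = n146018 := (sb E79812 (iv5 F251071))
theorem F317360 : act 7 n145670 = n108247 := (sb E79812 (iv7 F315154))
theorem F317361 : act 7 n145665 = n85973 := (sb E79193 (iv7 D179927))
theorem F317362 : act 1 n59991 = n108249 := (sb E76460 (iv0 F223017))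
theorem E79835 : n127760 = n65634 := ((D127760).symm.trans (sb E76460 (iv5 D139820)))
theorem F317363 : act 0 n67970 = n108249 := (sb E76461 (iv1 F223058))
theorem F317364 : act 3 n67970 = n65653 := (sb E76461 F223056)
theorem F317365 : act 5 n67970 = n65646 := (sb E76461 F223057)
theorem F317366 : act 0 n108250 = n145670 := (sb E76462 (tr (iv1 F246387) E78524))
theorem F317367 : act 1 n108250 = n65128 := (sb E76462 (iv0 D138709))
theorem E79838 : n70254 = n70064 := ((E78697).symm.trans ((D141564).symm.trans (sb E76464 (iv6 F234616))))
theorem E79839 : n178539 = n142509 := ((((iv4 F225407)).symm.trans (sb E76465 (iv4 F278240)))).symm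
theorem F317368 : act 6 n105706 = n70039 := (sb E76465 (iv6 D149221))
theorem F317369 : act 6 n105711 = n70040 := (sb E76466 (iv6 D149224))
theorem F317370 : act 6 n32501 = n48869 := (sb E76467 (iv6 D105712))
theorem F317371 : act 1 n39765 = n48870 := (sb E76468 (iv0 D105713))
theorem E79840 : n167828 = n66681 := (E76469).trans E79834
theorem E79841 : n116346 = n85985 := ((F181344).symm.trans (sb E79840 F264320))
theorem E79842 : n116356 = n59726 := (((iv3 F181363)).symm.trans (sb E79840 (tr F264316 E79768)))
theorem F317372 : act 6 n66681 = n108247 := (sb E79840 (iv6 F315153))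
theorem E79843 : n116348 = n85954 := (((iv7 F181346)).symm.trans (sb E79840 F264319))
theorem F317373 : act 1 n105707 = n142070 := (sb E76470 (tr (iv0 F280251) E79329))
theorem E79844 : n178714 = n142359 := ((((iv4 F225279)).symm.trans (sb E76470 F280250))).symm
theorem F317374 : act 5 n105707 = n114613 := (sb E76470 F280248)
theorem F317375 : act 7 n105707 = n118231 := (sb E76470 F280249)
theorem F317376 : act 7 n105710 = n118236 := (sb E76471 F280253)
theorem F317377 : act 5 n54440 = n48870 := (sb E76472 (iv5 D105715))
theorem F317378 : act 7 n54458 = n48870 := (sb E76473 (iv7 D105716))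
theorem E79847 : n149240 = n116688 := ((((iv2 F182082)).symm.trans (sb E76474 (iv2 F234626)))).symm
theorem F317379 : act 3 n69201 = n32513 := (sb E76474 F106441)
theorem E79848 : n146993 = n32183 := ((((iv4 D69201)).symm.trans (sb E76474 (iv4 F230396)))).symm
theorem E79849 : n145099 = n67690 := (((F162354).symm.trans (sb E76474 (iv5 F228059)))).symm
theorem E79850 : n147659 = n32508 := ((D147659).symm.trans (sb E76474 (iv6 D70050)))
theorem E79851 : n149250 = n142739 := ((D149250).symm.trans (sb E76475 (iv1 F225647)))
theorem E79852 : n149251 = n143021 := ((D149251).symm.trans (sb E76475 (iv0 F225890)))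
theorem E79853 : n149249 = n50681 := (((iv3 F234635)).symm.trans (sb E76475 F162337))
theorem E79854 : n149252 = n51564 := ((D149252).symm.trans (sb E76475 (iv5 F162356)))
theorem E79855 : n145104 = n67691 := (((D67691).symm.trans (sb E76476 (iv4 F228072)))).symm
theorem F317380 : act 5 n31438 = n32513 := (sb E76476 F104132)
theorem E79856 : n67693 = n31650 := ((D67693).symm.trans (sb E76476 (iv6 D68015)))
theorem E79857 : n59955 = n48873 := ((((iv2 F105493)).symm.trans (sb E76479 F162362))).symm
theorem F317381 : act 1 n95497 = n48874 := (sb E76480 (iv0 D105724))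
theorem E79858 : n70051 = n67164 := ((F147130).symm.trans (sb E76480 F205116))
theorem F317382 : act 7 n95497 = n59919 := (sb E76480 (iv7 F205118))
theorem F317383 : act 0 n70012 = n59961 := (sb E76482 (iv1 D127715))
theorem F317384 : act 1 n70012 = n59965 := (sb E76482 F205318)
theorem E79859 : n149159 = n147684 := (((iv3 F234538)).symm.trans (sb E76482 F231443))
theorem F317385 : act 3 n127717 = n79770 := (sb E76483 F210601)
theorem F317386 : act 5 n127717 = n61667 := (sb E76483 (iv5 D131393))
theorem F317387 : act 6 n127717 = n79768 := (sb E76483 F210602)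
theorem F317388 : act 4 n34169 = n71307 := (sb E76488 F238023)
theorem F317389 : act 1 n34838 = n74491 := (sb E76491 (iv0 D156652))
theorem F317390 : act 0 n58530 = n74491 := (sb E76492 (iv1 D156653))
theorem F317391 : act 2 n59996 = n74491 := (sb E76493 (iv2 D156654))
theorem E79867 : n148662 = n108228 := ((D148662).symm.trans (sb E76494 F246375))
theorem F317392 : act 4 n69673 = n74491 := (sb E76494 (iv4 D156655))
theorem E79868 : n148664 = n116357 := ((D148664).symm.trans (sb E76494 F246376))
theorem F317393 : act 5 n68466 = n74491 := (sb E76495 (iv5 D156656))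
theorem E79869 : n116354 = n32861 := ((D116354).symm.trans (sb E76496 (iv1 D70944)))
theorem F317394 : act 5 n53625 = n39643 := (sb E76496 F199832)
theorem F317395 : act 1 n65595 = n39644 := (sb E76498 (iv0 F122602))
theorem E79872 : n146136 = n139745 := ((((iv3 F222922)).symm.trans (sb E76498 (iv3 F229390)))).symm
theorem E79873 : n139747 = n31879 := ((D139747).symm.trans (sb E76498 (iv6 D68527)))
theorem F317396 : act 0 n65589 = n39644 := (sb E76499 (iv1 F311513))
theorem E79874 : n161537 = n139739 := ((((iv3 F222919)).symm.trans (sb E76499 D161537))).symm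
theorem E79875 : n139740 = n35406 := ((D139740).symm.trans (sb E76499 (iv4 D77559)))
theorem F317397 : act 1 n49992 = n74493 := (sb E76502 (iv0 D156659))
theorem F317398 : act 4 n77659 = n74494 := (sb E76504 (iv4 D156664))
theorem E79876 : n116067 = n58553 := (((F131953).symm.trans (sb E76505 F246397))).symm
theorem F317399 : act 6 n86018 = n74494 := (sb E76505 (iv6 D156665))
theorem F317400 : act 0 n39771 = n30922 := (sb E76506 (iv1 F84405))
theorem F317401 : act 1 n39771 = n25913 := (sb E76506 (iv0 D53495))
theorem E79878 : n85994 = n68264 := (((iv4 F131922)).symm.trans (sb E76506 (iv4 F104411)))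
theorem F317402 : act 5 n39771 = n68302 := (sb E76506 (iv5 F104479))
theorem F317403 : act 3 n48937 = n31423 := (sb E76507 F103669)
theorem F317404 : act 6 n108405 = n65653 := (sb E76508 (iv6 D139866))
theorem F317405 : act 0 n68343 = n112081 := (sb E76509 (iv1 F222915))
theorem E79881 : n145768 = n111892 := ((D145768).symm.trans (sb E76509 F222912))
theorem F317406 : act 7 n68343 = n74495 := (sb E76509 F222916)
theorem F317407 : act 3 n34174 = n32920 := (sb E76510 (iv3 D71092))
theorem E79885 : n150789 = n74523 := (((D74523).symm.trans (sb E76510 D150789))).symm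
theorem E79886 : n118330 = n74524 := (((D74524).symm.trans (sb E76510 (iv7 F185938)))).symm
theorem E79892 : n150812 = n52185 := ((((iv3 F111460)).symm.trans (sb E76531 D150812))).symm
theorem E79907 : n127346 = n74555 := (((D74555).symm.trans (sb E76536 (iv4 F204589)))).symm
theorem F317408 : act 4 n12305 = n15206 := (sb E76537 (iv4 D32238))
theorem E79909 : n33354 = n25810 := (((F111208).symm.trans (sb E76538 (iv3 F52588)))).symm
theorem F317409 : act 4 n12287 = n7518 := (sb E76538 F25616)
theorem E79911 : n145120 = n67834 := (((iv3 F228093)).symm.trans (sb E76542 (iv3 D144753)))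
theorem E79920 : n67840 = n34004 := (((D34004).symm.trans (sb E76549 (iv3 D144760)))).symm
theorem E79926 : n116960 = n49755 := ((((iv0 F162017)).symm.trans (sb E76551 D116960))).symm
theorem E79950 : n151272 = n108221 := ((((iv4 F167334)).symm.trans (sb E76561 (iv4 F237997)))).symm
theorem F317410 : act 3 n31402 = n32974 := (sb E76564 (iv3 D71244))
theorem E79962 : n151171 = n67612 := (((D67612).symm.trans (sb E76564 D151171))).symm
theorem E79963 : n118428 = n67613 := (((D67613).symm.trans (sb E76564 (iv7 F186226)))).symm
theorem E79976 : n71198 = n14795 := ((((iv4 F24445)).symm.trans (sb E76568 D71198))).symm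
theorem E79978 : n32964 = n14836 := (((D14836).symm.trans (sb E76572 (iv3 F52129)))).symm
theorem F317411 : act 4 n7066 = n12576 := (sb E76572 F25339)
theorem F317412 : act 4 n7068 = n12635 := (sb E76573 F42062)
theorem E79983 : n86001 = n48823 := (((F166103).symm.trans (sb E76575 D86001))).symm
theorem F317413 : act 4 n23822 = n18807 := (sb E76575 (iv4 D39772))
theorem E79985 : n149482 = n59693 := (((F102527).symm.trans (sb E76576 (iv2 F235099)))).symm
theorem E79986 : n181761 = n67017 := (((F103000).symm.trans (sb E76576 (iv4 F282928)))).symm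
theorem E79987 : n116138 = n40241 := ((D116138).symm.trans (sb E76576 (iv6 D86807)))
theorem E79988 : n116140 = n74474 := ((D116140).symm.trans (sb E76577 (iv6 D156616)))
theorem F317414 : act 6 n34155 = n25928 := (sb E76578 (iv6 D53534))
theorem E79993 : n116168 = n68593 := ((D116168).symm.trans (sb E76586 F183371))
theorem F317415 : act 0 n31909 = n31005 := (sb E76587 (iv1 F84463))
theorem F317416 : act 1 n31909 = n31004 := (sb E76587 F84464)
theorem F317417 : act 2 n31909 = n31007 := (sb E76587 F84459)
theorem F317418 : act 4 n31909 = n26176 := (sb E76587 F84460)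
theorem F317419 : act 7 n31909 = n25932 := (sb E76587 (iv7 D53548))
theorem E79994 : n116285 = n74530 := ((D116285).symm.trans (sb E76590 (iv6 D156720)))
theorem F317420 : act 6 n34178 = n25954 := (sb E76591 (iv6 D53602))
theorem E80001 : n138658 = n30984 := (E77406).trans E79635
theorem E80002 : n116303 = n74537 := ((D116303).symm.trans (sb E76592 (iv7 D156731)))
theorem E80003 : n116248 = n58452 := ((D116248).symm.trans (sb E76593 (iv6 D125021)))
theorem E80004 : n150646 = n116258 := (((D116258).symm.trans (sb E76594 D150646))).symm
theorem E80005 : n150647 = n116259 := (((D116259).symm.trans (sb E76594 D150647))).symm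
theorem E80006 : n150649 = n116260 := (((D116260).symm.trans (sb E76594 D150649))).symm
theorem E80007 : n116261 = n80604 := ((D116261).symm.trans (sb E76594 (iv7 F123937)))
theorem E80008 : n116323 = n70144 := ((D116323).symm.trans (sb E76597 (iv6 D149379)))
theorem F317421 : act 6 n32540 = n25957 := (sb E76598 (iv6 D53613))
theorem E80012 : n116328 = n80603 := ((D116328).symm.trans (sb E76599 (iv2 F191354)))
theorem E80013 : n150535 = n116329 := (((D116329).symm.trans (sb E76599 (iv3 F237025)))).symm
theorem E80014 : n150642 = n116330 := (((D116330).symm.trans (sb E76599 D150642))).symm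
theorem E80015 : n116331 = n70490 := ((D116331).symm.trans (sb E76599 (iv5 F194693)))
theorem E80016 : n150643 = n116332 := (((D116332).symm.trans (sb E76599 D150643))).symm
theorem E80017 : n116333 = n80602 := ((D116333).symm.trans (sb E76599 F191358))
theorem E80018 : n150644 = n116334 := (((D116334).symm.trans (sb E76600 D150644))).symm
theorem E80019 : n150645 = n116335 := (((D116335).symm.trans (sb E76600 D150645))).symm
theorem E80020 : n116336 = n70491 := ((D116336).symm.trans (sb E76600 (iv5 F194699)))
theorem E80021 : n118334 = n116337 := (((D116337).symm.trans (sb E76600 F194702))).symm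
theorem F317422 : act 5 n15835 = n25958 := (sb E76601 (iv5 D53616))
theorem F317423 : act 6 n36779 = n30999 := (sb E76602 F84575)
theorem F317424 : act 7 n36779 = n25958 := (sb E76602 (iv7 D53617))
theorem E80026 : n116347 = n48870 := (((F317371).symm.trans (sb E76605 D116347))).symm
theorem E80029 : n143947 = n74909 := ((D143947).symm.trans (sb E76609 F248085))
theorem F317425 : act 7 n67440 = n74908 := (sb E76609 (iv7 D157461))
theorem E80030 : n143925 = n75030 := ((D143925).symm.trans (sb E76610 (iv5 D157615)))
theorem F317426 : act 5 n61828 = n31341 := (sb E76611 (iv5 D67441))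
theorem E80035 : n150856 = n143953 := (((D143953).symm.trans (sb E76612 F280282))).symm
theorem E80036 : n143954 = n140921 := ((D143954).symm.trans (sb E76612 (tr (iv0 F280281) E79327)))
theorem F317427 : act 3 n67403 = n74908 := (sb E76614 F309456)
theorem E80039 : n143871 = n85503 := ((D143871).symm.trans (sb E76615 (iv1 D179165)))
theorem F317428 : act 3 n105436 = n66877 := (sb E76616 F225560)
theorem F317429 : act 6 n105436 = n66876 := (sb E76616 (iv6 D142672))
theorem E80041 : n59723 = n31159 := ((D59723).symm.trans (sb E76617 F102350))
theorem E80045 : n141559 = n7079 := (((F24358).symm.trans (sb E76621 (iv4 F224589)))).symm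
theorem E80047 : n141620 = n31003 := (((D31003).symm.trans (sb E76621 (iv6 F224691)))).symm
theorem E80048 : n32877 = n31418 := (((D31418).symm.trans (sb E78665 (iv0 D70983)))).symm
theorem E80049 : n150596 = n31411 := ((((iv4 F49683)).symm.trans (sb E78665 D150596))).symm
theorem E80050 : n68580 = n31003 := ((D68580).symm.trans (sb E76623 (tr D141620 E80047)))
theorem F317430 : act 6 n139840 = n70237 := (sb E76625 (iv6 D149566))
theorem E80054 : n141582 = n15049 := ((((iv4 D31903)).symm.trans (sb E76626 (iv4 F224648)))).symm
theorem F317431 : act 6 n31903 = n31002 := (sb E76626 (iv6 D66409))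
theorem F317432 : act 0 n116034 = n118655 := (sb E76627 F315203)
theorem F317433 : act 1 n116034 = n69658 := (sb E76627 (iv0 D148640))
theorem F317434 : act 3 n116034 = n70087 := (sb E76627 F315204)
theorem F317435 : act 5 n116034 = n151749 := (sb E76627 F315205)
theorem F317436 : act 7 n116034 = n127306 := (sb E76627 (iv7 F314078))
theorem F317437 : act 0 n73738 = n65742 := (sb E76628 (iv1 D140047))
theorem F317438 : act 0 n68581 = n68386 := (sb E76629 F310944)
theorem F317439 : act 1 n68581 = n32853 := (sb E76629 (iv0 D70906))
theorem F317440 : act 4 n68581 = n53810 := (sb E76629 (iv4 F311123))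
theorem E80067 : n118416 = n48048 := ((D118416).symm.trans (sb E76632 (iv5 F295944)))
theorem F317441 : act 6 n54529 = n34204 := (sb E76632 (iv6 D74602))
theorem F317442 : act 2 n79778 = n68529 := (sb E76643 F183600)
theorem F317443 : act 4 n79778 = n54060 := (sb E76643 F183256)
theorem F317444 : act 7 n79778 = n68528 := (sb E76643 (iv7 F183599))
theorem F317445 : act 2 n79780 = n68528 := (sb E76644 (iv2 F183601))
theorem F317446 : act 4 n79780 = n54059 := (sb E76644 F183253)
theorem F317447 : act 7 n79780 = n68529 := (sb E76644 F183602)
theorem E80072 : n166184 = n68338 := ((D166184).symm.trans (sb E76645 (iv1 D145757)))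
theorem E80073 : n166185 = n156650 := ((D166185).symm.trans (sb E76645 (iv0 F313116)))
theorem F317448 : act 4 n79791 = n75933 := (sb E76645 F228892)
theorem F317449 : act 5 n26174 = n53668 := (sb E76647 F181639)
theorem F317450 : act 0 n72000 = n62432 := (sb E76653 F213699)
theorem F317451 : act 7 n72000 = n131668 := (sb E76653 (iv7 F213698))
theorem F317452 : act 3 n61790 = n84909 := (sb E76654 (iv3 D178441))
theorem F317453 : act 2 n119374 = n84908 := (sb E76655 (iv2 D178436))
theorem F317454 : act 7 n119374 = n84909 := (sb E76655 (iv7 F278042))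
theorem F317455 : act 0 n145942 = n90144 := (sb E76656 (iv1 F233601))
theorem F317456 : act 2 n145942 = n90247 := (sb E76656 F233597)
theorem F317457 : act 3 n145942 = n78980 := (sb E76656 F233598)
theorem F317458 : act 5 n145942 = n90133 := (sb E76656 F233599)
theorem F317459 : act 7 n145942 = n69730 := (sb E76656 (iv7 D148786))
theorem E80075 : n159510 = n52936 := ((((iv1 F316444)).symm.trans (sb E76657 D159510))).symm
theorem F317460 : act 2 n68440 = n52933 := (sb E76657 F290303)
theorem E80077 : n145963 = n34863 := (((iv3 F229200)).symm.trans (sb E76657 (iv3 D76309)))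
theorem E80078 : n159514 = n145967 := (((D145967).symm.trans (sb E76657 D159514))).symm
theorem E80079 : n159515 = n31847 := ((((iv6 D68440)).symm.trans (sb E76657 D159515))).symm
theorem F317461 : act 7 n68440 = n34928 := (sb E76657 F153449)
theorem F317462 : act 6 n54011 = n52933 := (sb E76658 (iv6 D114688))
theorem F317463 : act 2 n145940 = n90140 := (sb E76659 F251636)
theorem F317464 : act 4 n145940 = n76408 := (sb E76659 (iv4 D159708))
theorem F317465 : act 5 n93017 = n68431 := (sb E76660 (iv5 D145944))
theorem E80080 : n119206 = n67957 := ((D119206).symm.trans (sb E76661 (iv4 D144957)))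
theorem F317466 : act 1 n71786 = n83692 := (sb E76662 (iv0 D175255))
theorem F317467 : act 0 n173464 = n83692 := (sb E76663 (iv1 D175256))
theorem F317468 : act 2 n55068 = n83692 := (sb E76664 (iv2 D175257))
theorem F317469 : act 4 n55049 = n83692 := (sb E76665 (iv4 D175258))
theorem E80081 : n178889 = n83695 := ((D178889).symm.trans (sb E76666 F274284))
theorem F317470 : act 6 n85290 = n83692 := (sb E76666 (iv6 D175260))
theorem F317471 : act 3 n54333 = n83693 := (sb E76667 (iv3 D175261))
theorem F317472 : act 5 n68433 = n83693 := (sb E76668 (iv5 D175262))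
theorem F317473 : act 6 n131339 = n83693 := (sb E76669 (iv6 D175263))
theorem F317474 : act 3 n74361 = n118291 := (sb E76670 F240222)
theorem E80082 : n144836 = n97127 := (E76673).trans E76955
theorem F317475 : act 4 n97127 = n67885 := (sb E80082 F227752)
theorem F317476 : act 6 n97127 = n67884 := (sb E80082 (iv6 D144836))
theorem E80083 : n170434 = n127936 := (((D127936).symm.trans (sb E76674 F267894))).symm
theorem F317477 : act 7 n144844 = n81661 := (sb E76680 (iv7 D170272))
theorem F317478 : act 4 n44685 = n67888 := (sb E76681 (iv4 D144845))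
theorem F317479 : act 2 n53895 = n81693 := (sb E76682 (iv2 D170363))
theorem F317480 : act 7 n59902 = n81693 := (sb E76683 (iv7 D170368))
theorem F317481 : act 1 n68001 = n81692 := (sb E76688 (iv0 D170359))
theorem F317482 : act 7 n59896 = n81692 := (sb E76689 (iv7 D170362))
theorem E80084 : n127547 = n44940 := ((((iv1 F70638)).symm.trans (sb E76690 D127547))).symm
theorem F317483 : act 4 n44602 = n28453 := (sb E76690 F94384)
theorem E80088 : n116174 = n81695 := ((D116174).symm.trans (sb E76691 (iv7 D170376)))
theorem F317484 : act 5 n61001 = n45879 := (sb E76692 F300796)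
theorem E80089 : n176228 = n129865 := (((D129865).symm.trans (sb E76692 D176228))).symm
theorem F317485 : act 1 n37348 = n81656 := (sb E76693 (iv0 D170261))
theorem F317486 : act 0 n150626 = n81656 := (sb E76694 (iv1 D170262))
theorem F317487 : act 7 n96741 = n81716 := (sb E76695 (iv7 D170455))
theorem E80090 : n158343 = n157983 := (((F267773).symm.trans (sb E76696 F267903))).symm
theorem F317488 : act 7 n161016 = n81656 := (sb E76699 (iv7 D170264))
theorem F317489 : act 4 n61749 = n83388 := (sb E76700 (iv4 D174469))
theorem E80091 : n84116 = n63232 := ((((iv2 F98478)).symm.trans (sb E76701 D84116))).symm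
theorem F317490 : act 3 n29893 = n18428 := (sb E76701 (iv3 D38758))
theorem F317491 : act 4 n29893 = n38239 := (sb E76701 (iv4 F300724))
theorem E80093 : n84118 = n63248 := (((D63248).symm.trans (sb E76701 D84118))).symm
theorem F317492 : act 7 n29893 = n38718 := (sb E76701 (iv7 F298733))
theorem F317493 : act 5 n29891 = n18428 := (sb E76703 (iv5 D38759))
theorem E80094 : n84119 = n63243 := (((D63243).symm.trans (sb E76703 D84119))).symm
theorem F317494 : act 0 n75355 = n60855 := (sb E76706 (iv1 D129510))
theorem F317495 : act 3 n75355 = n132447 := (sb E76706 F212528)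
theorem E80095 : n158210 = n133519 := ((D158210).symm.trans (sb E76706 F214720))
theorem F317496 : act 1 n75368 = n60855 := (sb E76707 F214731)
theorem E80096 : n158217 = n60755 := (((iv3 F249243)).symm.trans (sb E76707 (iv3 D129250)))
theorem E80097 : n158219 = n133518 := ((D158219).symm.trans (sb E76707 (iv4 F214718)))
theorem F317497 : act 2 n75720 = n60855 := (sb E76708 (iv2 D129511))
theorem F317498 : act 5 n132078 = n83075 := (sb E76709 F270522)
theorem F317499 : act 5 n115207 = n83084 := (sb E76710 F249185)
theorem F317500 : act 5 n134585 = n167770 := (sb E76711 (iv5 F303739))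
theorem F317501 : act 1 n38798 = n63238 := (sb E76712 (iv0 F211572))
theorem F317502 : act 7 n38798 = n63240 := (sb E76712 (iv7 F211600))
theorem F317503 : act 3 n61351 = n34624 := (sb E76713 F113573)
theorem F317504 : act 0 n75722 = n61360 := (sb E76714 (iv1 F209351))
theorem F317505 : act 1 n75722 = n61355 := (sb E76714 (iv0 D130777))
theorem F317506 : act 0 n75758 = n61355 := (sb E76715 (iv1 D130778))
theorem F317507 : act 1 n75758 = n61360 := (sb E76715 F209347)
theorem E80102 : n158793 = n133441 := ((D158793).symm.trans (sb E76715 F214569))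
theorem F317508 : act 5 n83921 = n62643 := (sb E76716 (iv5 F213053))
theorem F317509 : act 2 n129513 = n158744 := (sb E76717 F275717)
theorem F317510 : act 5 n129513 = n173301 := (sb E76717 F275718)
theorem F317511 : act 1 n131424 = n77667 := (sb E76720 (iv0 D161700))
theorem F317512 : act 4 n131469 = n77667 := (sb E76721 (iv4 D161702))
theorem F317513 : act 0 n88074 = n62379 := (sb E76722 (iv1 D132924))
theorem F317514 : act 3 n88074 = n130292 := (sb E76722 (iv3 F213547))
theorem E80103 : n135313 = n41128 := (((F135070).symm.trans (sb E76722 F217552))).symm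
theorem E80104 : n184711 = n133531 := ((D184711).symm.trans (sb E76722 (iv5 F214791)))
theorem F317515 : act 0 n88949 = n129291 := (sb E76723 F213546)
theorem F317516 : act 4 n88949 = n62379 := (sb E76723 (iv4 D132925))
theorem F317517 : act 5 n88949 = n152046 := (sb E76723 F239067)
theorem F317518 : act 3 n98961 = n62392 := (sb E76724 F213549)
theorem F317519 : act 5 n98961 = n62381 := (sb E76724 F213550)
theorem F317520 : act 7 n98961 = n62379 := (sb E76724 (iv7 D132927))
theorem F317521 : act 5 n61057 = n38653 := (sb E76727 (iv5 D83926))
theorem E80107 : n175846 = n130009 := (((D130009).symm.trans (sb E76727 D175846))).symm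
theorem E80108 : n173504 = n84104 := ((D173504).symm.trans (sb E79676 (iv0 D176394)))
theorem F317522 : act 5 n62668 = n84104 := (sb E76729 (iv5 D176397))
theorem E80109 : n133535 = n83917 := ((D133535).symm.trans (sb E76730 (iv5 D175819)))
theorem E80110 : n133537 = n132287 := ((D133537).symm.trans (sb E76731 (iv1 F306714)))
theorem E80111 : n133539 = n122333 := ((D133539).symm.trans (sb E76731 (iv5 F298182)))
theorem E80112 : n158594 = n115164 := ((((iv3 F179307)).symm.trans (sb E76732 D158594))).symm
theorem E80113 : n133470 = n38681 := ((D133470).symm.trans (sb E76732 (iv5 F113512)))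
theorem E80117 : n158598 = n133543 := (((D133543).symm.trans (sb E76733 D158598))).symm
theorem F317523 : act 0 n130780 = n83073 := (sb E76734 F272087)
theorem F317524 : act 1 n130780 = n83084 := (sb E76734 F272088)
theorem F317525 : act 4 n130780 = n83038 := (sb E76734 (iv4 D173618))
theorem E80119 : n133521 = n83914 := (((iv7 F214775)).symm.trans (sb E76734 F272086))
theorem F317526 : act 5 n82425 = n61357 := (sb E76736 (iv5 D130790))
theorem E80120 : n133526 = n124634 := ((D133526).symm.trans (sb E76737 F275694))
theorem F317527 : act 1 n63629 = n39684 := (sb E76738 (iv0 D85825))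
theorem E80121 : n135317 = n101546 := (((iv2 F217554)).symm.trans (sb E76738 (iv2 F199599)))
theorem E80122 : n179679 = n135363 := (((D135363).symm.trans (sb E76738 D179679))).symm
theorem E80126 : n135277 = n122335 := (((iv7 F217494)).symm.trans (sb E76738 (iv7 F199601)))
theorem F317528 : act 0 n63613 = n39684 := (sb E76739 (iv1 D85826))
theorem F317529 : act 3 n63613 = n101539 := (sb E76739 (iv3 F199597))
theorem E80127 : n179683 = n135315 := (((D135315).symm.trans (sb E76739 D179683))).symm
theorem E80128 : n135316 = n123095 := ((D135316).symm.trans (sb E76739 (iv6 F305154)))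
theorem F317530 : act 0 n130800 = n83084 := (sb E76740 F272078)
theorem F317531 : act 1 n130800 = n83073 := (sb E76740 F272079)
theorem F317532 : act 4 n130800 = n83037 := (sb E76740 (iv4 D173615))
theorem F317533 : act 5 n83453 = n61362 := (sb E76741 (iv5 D130806))
theorem E80129 : n172276 = n128878 := ((((iv3 F207123)).symm.trans (sb E76743 D172276))).symm
theorem F317534 : act 4 n61058 = n37880 := (sb E76743 (iv4 D82510))
theorem E80130 : n172272 = n130012 := (((D130012).symm.trans (sb E76743 (iv6 F270517)))).symm
theorem F317535 : act 5 n115174 = n83955 := (sb E76744 F249805)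
theorem F317536 : act 6 n132858 = n81819 := (sb E76748 F249807)
theorem F317537 : act 0 n84049 = n62344 := (sb E76750 (iv1 F213350))
theorem F317538 : act 1 n84049 = n62339 := (sb E76750 (iv0 D132830))
theorem F317539 : act 5 n132831 = n83059 := (sb E76751 F249818)
theorem F317540 : act 5 n38222 = n62339 := (sb E76752 (iv5 D132832))
theorem E80131 : n98218 = n62447 := (((F208572).symm.trans (sb E79390 (iv1 F249512)))).symm
theorem E80132 : n98217 = n28979 := (((F208573).symm.trans (sb E79390 F249513))).symm
theorem F317541 : act 6 n61085 = n75684 := (sb E79390 F307507)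
theorem E80133 : n75527 = n62308 := ((((iv7 F208605)).symm.trans (sb E79390 (iv7 D158360)))).symm
theorem E80134 : n130001 = n98219 := ((F213364).symm.trans (sb E76757 F249508))
theorem E80135 : n132839 = n29479 := ((((iv5 D62308)).symm.trans (iv5 (sb E76757 (tr (iv5 D158359) E80133))))).symm
theorem E80136 : n158359 = n29479 := (E76757).trans E80135
theorem E80137 : n75627 = n62309 := (((D62309).symm.trans (sb E80136 F306781))).symm
theorem F317542 : act 5 n132843 = n75323 := (sb E76761 (iv5 D158151))
theorem F317543 : act 5 n115184 = n84000 := (sb E76762 F249190)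
theorem F317544 : act 5 n38688 = n62344 := (sb E76763 (iv5 D132844))
theorem E80138 : n129988 = n62309 := (E78959).trans E80137
theorem F317545 : act 1 n61220 = n62346 := (sb E76765 (iv0 D132848))
theorem F317546 : act 2 n132849 = n62474 := (sb E76766 (iv2 D133159))
theorem F317547 : act 3 n132849 = n75624 := (sb E76766 F310733)
theorem F317548 : act 5 n132849 = n83878 := (sb E76766 F310724)
theorem F317549 : act 6 n132849 = n141787 := (sb E76766 (iv6 F224806))
theorem F317550 : act 7 n132849 = n75624 := (sb E76766 F310725)
theorem F317551 : act 5 n34487 = n62346 := (sb E76767 (iv5 D132850))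
theorem F317552 : act 3 n132851 = n152581 := (sb E76768 F310728)
theorem F317553 : act 5 n132851 = n75331 := (sb E76768 F310729)
theorem F317554 : act 5 n83162 = n62350 := (sb E76769 (iv5 D132861))
theorem F317555 : act 0 n45878 = n29891 := (sb E76770 F207715)
theorem F317556 : act 3 n45878 = n29441 := (sb E76770 (iv3 D62203))
theorem F317557 : act 4 n45878 = n62351 := (sb E76770 F97229)
theorem E80139 : n132577 = n83201 := ((((iv6 F128280)).symm.trans (sb E76770 D132577))).symm
theorem F317558 : act 7 n45878 = n61001 := (sb E76770 (iv7 F207705))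
theorem F317559 : act 5 n84067 = n62351 := (sb E76771 (iv5 D132864))
theorem F317560 : act 2 n132867 = n83956 := (sb E76774 F272124)
theorem F317561 : act 4 n132867 = n83048 := (sb E76774 F272125)
theorem F317562 : act 6 n132889 = n83772 := (sb E76777 (iv6 D175433))
theorem E80140 : n175662 = n130045 := (((D130045).symm.trans (sb E76778 (iv5 F275250)))).symm
theorem E80141 : n175986 = n130050 := (((D130050).symm.trans (sb E76779 (iv5 F275315)))).symm
theorem E80144 : n180060 = n38219 := ((((iv2 F61161)).symm.trans (sb E76781 (iv2 F280447)))).symm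
theorem E80146 : n39809 = n38672 := (((D38672).symm.trans (sb E76781 (iv5 D86041)))).symm
theorem F317563 : act 5 n18834 = n38665 := (sb E76782 (iv5 D83953))
theorem E80149 : n175911 = n39811 := (((D39811).symm.trans (sb E76782 (iv6 F275286)))).symm
theorem F317564 : act 5 n128149 = n78152 := (sb E78902 F256932)
theorem F317565 : act 7 n128149 = n78151 := (sb E78902 (iv7 D162696))
theorem E80152 : n132900 = n35675 := (((F57696).symm.trans (sb E76787 F213823))).symm
theorem F317566 : act 5 n36786 = n77615 := (sb E76787 F306593)
theorem E80153 : n132899 = n36225 := (((F301055).symm.trans (sb E76787 (iv7 F213826)))).symm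
theorem F317567 : act 3 n61124 = n75611 := (sb E76791 (iv3 D158495))
theorem E80154 : n175145 = n130211 := (((D130211).symm.trans (sb E76791 F274129))).symm
theorem F317568 : act 4 n129689 = n75611 := (sb E76792 (iv4 D158496))
theorem F317569 : act 3 n118430 = n107005 := (sb E76803 F246746)
theorem F317570 : act 7 n118430 = n74573 := (sb E76803 (iv7 D156804))
theorem F317571 : act 2 n39938 = n83988 := (sb E76804 F249840)
theorem E80155 : n83056 = n71897 := ((((iv5 F108392)).symm.trans (sb E76804 F249841))).symm
theorem F317572 : act 6 n39938 = n75687 := (sb E76804 (iv6 D158678))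
theorem F317573 : act 3 n77020 = n83988 := (sb E76805 F275328)
theorem E80156 : n83983 = n68357 := (((F307978).symm.trans (sb E76805 (iv5 D176017)))).symm
theorem F317574 : act 4 n57258 = n83988 := (sb E76806 (iv4 D176039))
theorem E80157 : n83986 = n71385 := ((D83986).symm.trans (sb E76807 (iv1 F107874)))
theorem E80158 : n83987 = n25644 := ((D83987).symm.trans (sb E76807 (iv0 D52830)))
theorem E80159 : n83985 = n54788 := (((iv4 F128962)).symm.trans (sb E76807 F86688))
theorem E80161 : n83989 = n71917 := ((D83989).symm.trans (sb E76807 (iv7 F108427)))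
theorem F317575 : act 7 n57609 = n83988 := (sb E76808 (iv7 D176040))
theorem F317576 : act 1 n83925 = n92461 := (sb E76809 (iv0 F142264))
theorem F317577 : act 2 n83925 = n92796 := (sb E76809 (iv2 F143135))
theorem E80162 : n175840 = n43870 := ((D175840).symm.trans (sb E76809 F139414))
theorem E80163 : n175841 = n42399 := ((D175841).symm.trans (sb E76809 (iv5 D90578)))
theorem F317578 : act 7 n83925 = n43869 := (sb E76809 F139415)
theorem E80164 : n130053 = n92796 := (((iv1 F315838)).symm.trans (sb E76810 (iv1 F143140)))
theorem E80165 : n130052 = n43869 := (((iv0 F315837)).symm.trans (sb E76810 F138821))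
theorem F317579 : act 2 n83927 = n92461 := (sb E76810 (iv2 F142262))
theorem E80166 : n175833 = n42186 := (((iv4 F275235)).symm.trans (sb E76810 (iv4 D90254)))
theorem E80167 : n130009 = n47576 := ((E80107).symm.trans (((iv5 F275245)).symm.trans (sb E76810 F138820)))
theorem E80168 : n130007 = n88486 := (((iv1 F208453)).symm.trans (sb E76811 F142923))
theorem E80169 : n130006 = n88483 := ((F208456).symm.trans (sb E76811 F142924))
theorem E80170 : n130023 = n43366 := (((iv4 F208470)).symm.trans (sb E76811 (iv4 D92714)))
theorem F317580 : act 5 n61069 = n92461 := (sb E76811 F142921)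
theorem E80174 : n175829 = n92463 := (((D92463).symm.trans (sb E76812 (iv3 F275234)))).symm
theorem F317581 : act 4 n43247 = n38653 := (sb E76812 F128925)
theorem E80176 : n92465 = n38652 := ((D92465).symm.trans (sb E76812 (iv6 D83923)))
theorem E80177 : n130003 = n43364 := (((iv4 F208450)).symm.trans (sb E76813 (iv4 D92708)))
theorem E80178 : n130997 = n90576 := (E76815).trans E77014
theorem F317582 : act 1 n90576 = n61455 := (sb E80178 (iv0 D130997))
theorem F317583 : act 3 n117261 = n117983 := (sb E76822 F243777)
theorem F317584 : act 0 n36394 = n68795 := (sb E76824 (iv1 F183637))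
theorem F317585 : act 1 n36394 = n68794 := (sb E76824 F183638)
theorem F317586 : act 4 n36394 = n54062 := (sb E76824 F183636)
theorem F317587 : act 4 n69749 = n79891 := (sb E76825 F243784)
theorem F317588 : act 2 n31999 = n39256 := (sb E76829 (iv2 F60212))
theorem E80179 : n79874 = n68796 := (((D68796).symm.trans (sb E76829 (iv3 F122618)))).symm
theorem F317589 : act 5 n31999 = n17568 := (sb E76829 (iv5 D36386))
theorem F317590 : act 7 n31999 = n39259 := (sb E76829 (iv7 F60218))
theorem E80180 : n149572 = n74002 := (((iv1 F235187)).symm.trans (sb E76832 (iv1 F189243)))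
theorem E80181 : n149570 = n74001 := ((D149570).symm.trans (sb E76834 (iv1 F189248)))
theorem E80182 : n80568 = n74000 := ((F309508).symm.trans (sb E76834 F189246))
theorem F317591 : act 3 n70241 = n73865 := (sb E76834 F189244)
theorem F317592 : act 5 n33962 = n62781 := (sb E76836 F106699)
theorem F317593 : act 7 n33962 = n32605 := (sb E76836 (iv7 D70245))
theorem F317594 : act 0 n53006 = n68710 := (sb E76837 (iv1 F229893))
theorem F317595 : act 1 n53007 = n68710 := (sb E76838 F243205)
theorem E80183 : n114879 = n76539 := ((D114879).symm.trans (sb E76838 F229813))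
theorem E80184 : n114881 = n68673 := ((D114881).symm.trans (sb E76838 (iv6 D146486)))
theorem F317596 : act 2 n53009 = n68710 := (sb E76841 F247768)
theorem F317597 : act 4 n53009 = n68647 := (sb E76841 (iv4 D146414))
theorem F317598 : act 4 n106304 = n73865 := (sb E76844 F244288)
theorem F317599 : act 3 n94126 = n73803 := (sb E76845 F244289)
theorem F317600 : act 3 n106310 = n55202 := (sb E76846 (iv3 D119951))
theorem F317601 : act 4 n106310 = n55208 := (sb E76846 F189371)
theorem F317602 : act 1 n92450 = n73803 := (sb E76847 (iv0 F244281))
theorem F317603 : act 5 n92450 = n69561 := (sb E76847 (iv5 D148448))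
theorem F317604 : act 0 n41818 = n73803 := (sb E76848 F231778)
theorem F317605 : act 5 n41818 = n69317 := (sb E76848 (iv5 D147965))
theorem F317606 : act 4 n154811 = n73803 := (sb E76849 (iv4 D155334))
theorem F317607 : act 6 n41560 = n73803 := (sb E76850 (iv6 D155335))
theorem F317608 : act 0 n52943 = n60414 := (sb E76851 (iv1 D128458))
theorem F317609 : act 4 n52943 = n73323 := (sb E76851 (iv4 F240734))
theorem F317610 : act 5 n60103 = n73865 := (sb E76856 (iv5 D155412))
theorem F317611 : act 4 n93863 = n73864 := (sb E76857 (iv4 D155409))
theorem F317612 : act 5 n61593 = n55208 := (sb E76862 (iv5 D119973))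
theorem F317613 : act 6 n70226 = n55208 := (sb E76863 (iv6 D119974))
theorem E80186 : n79275 = n6556 := ((((iv5 D13779)).symm.trans (sb E76868 F303797))).symm
theorem E80189 : n127170 = n32608 := ((((iv2 F313545)).symm.trans (sb E76873 (iv2 F204448)))).symm
theorem F317614 : act 3 n33919 = n30763 := (sb E76873 F101399)
theorem F317615 : act 6 n33919 = n30761 := (sb E76873 (iv6 D65674))
theorem E80191 : n128423 = n31865 := ((((iv3 F50170)).symm.trans (sb E76874 F244361))).symm
theorem F317616 : act 0 n77614 = n58693 := (sb E76877 F131985)
theorem E80192 : n180048 = n72636 := ((((iv3 F301001)).symm.trans (sb E76877 (iv3 F280440)))).symm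
theorem F317617 : act 5 n77614 = n39808 := (sb E76877 (iv5 D86037))
theorem F317618 : act 1 n61669 = n73861 := (sb E76880 (iv0 D155396))
theorem F317619 : act 0 n70066 = n73861 := (sb E76881 (iv1 D155397))
theorem F317620 : act 2 n70237 = n73861 := (sb E76882 (iv2 D155398))
theorem E80194 : n146278 = n139840 := ((((iv6 F317430)).symm.trans (sb E76882 F244371))).symm
theorem F317621 : act 5 n133842 = n73861 := (sb E76883 (iv5 D155400))
theorem F317622 : act 5 n33961 = n28924 := (sb E76885 (iv5 D61022))
theorem E80198 : n28927 = n17457 := (((F298421).symm.trans (sb E76885 F95554))).symm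
theorem F317623 : act 1 n151970 = n73848 := (sb E76888 (iv0 D155378))
theorem F317624 : act 0 n35047 = n73848 := (sb E76889 (iv1 D155379))
theorem F317625 : act 3 n155380 = n76687 := (sb E76890 F252659)
theorem F317626 : act 7 n155380 = n76667 := (sb E76890 F252660)
theorem F317627 : act 1 n155374 = n76673 := (sb E76891 (iv0 F252661))
theorem F317628 : act 5 n151798 = n73848 := (sb E76892 (iv5 D155381))
theorem F317629 : act 2 n86097 = n77669 := (sb E76894 F306015)
theorem F317630 : act 4 n86097 = n71746 := (sb E76894 F305820)
theorem E80200 : n180219 = n135458 := ((D180219).symm.trans (sb E76894 F305822))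
theorem F317631 : act 7 n86097 = n77670 := (sb E76894 F306016)
theorem E80201 : n62163 = n39472 := ((F102346).symm.trans (sb E76896 (iv5 D85485)))
theorem F317632 : act 5 n142684 = n143700 := (sb E76897 (iv5 F244353))
theorem F317633 : act 6 n142684 = n73848 := (sb E76897 (iv6 D155382))
theorem E80202 : n141652 = n31297 := ((((iv0 D67301)).symm.trans (sb E76898 (iv0 F224716)))).symm
theorem E80203 : n140955 = n59656 := (((iv4 F224663)).symm.trans (sb E76898 (iv4 D127099)))
theorem F317634 : act 5 n67301 = n66882 := (sb E76898 F204343)
theorem F317635 : act 6 n33914 = n66882 := (sb E76899 (iv6 D142688))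
theorem F317636 : act 1 n35055 = n73856 := (sb E76900 (iv0 D155384))
theorem F317637 : act 0 n120679 = n73856 := (sb E76901 (iv1 D155385))
theorem F317638 : act 2 n120678 = n73856 := (sb E76902 (iv2 D155386))
theorem F317639 : act 5 n130892 = n73856 := (sb E76904 (iv5 D155387))
theorem F317640 : act 7 n130892 = n148364 := (sb E76904 F244359)
theorem F317642 : act 1 n116438 = n68896 := (sb E76905 F230358)
theorem F317643 : act 5 n116438 = n147031 := (sb E76905 (iv5 F314053))
theorem E80204 : n142062 = n60222 := ((((iv1 F188387)).symm.trans (sb E76906 (iv1 F225074)))).symm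
theorem E80205 : n142061 = n60170 := ((((iv0 F188382)).symm.trans (sb E76906 F225078))).symm
theorem E80206 : n142064 = n60219 := ((((iv2 F188346)).symm.trans (sb E76906 (iv2 F225077)))).symm
theorem F317644 : act 7 n32537 = n31086 := (sb E76906 (iv7 D66642))
theorem F317645 : act 3 n114666 = n117416 := (sb E76912 (iv3 F243227))
theorem F317646 : act 5 n114666 = n147840 := (sb E76912 (iv5 F252127))
theorem F317647 : act 6 n114663 = n147232 := (sb E76938 (iv6 F230819))
theorem F317648 : act 1 n114740 = n54786 := (sb E76914 (iv0 D119053))
theorem E80208 : n114741 = n114663 := (E76915).trans E76930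
theorem F317649 : act 5 n114663 = n52954 := (sb E80208 (iv5 D114741))
theorem F317650 : act 6 n69029 = n52954 := (sb E76916 (iv6 D114742))
theorem E80211 : n103032 = n23012 := ((D103032).symm.trans (sb E76917 (iv2 D47815)))
theorem E80212 : n103149 = n102268 := ((((iv3 F314182)).symm.trans (sb E76917 D103149))).symm
theorem E80213 : n103151 = n103035 := (((D103035).symm.trans (sb E76917 D103151))).symm
theorem E80214 : n103152 = n97303 := ((((iv6 F150043)).symm.trans (sb E76917 D103152))).symm
theorem E80215 : n155979 = n103153 := (((D103153).symm.trans (sb E76918 (iv1 F245018)))).symm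
theorem E80216 : n155978 = n103154 := (((D103154).symm.trans (sb E76918 F245021))).symm
theorem E80217 : n155980 = n103155 := (((D103155).symm.trans (sb E76918 (iv2 F245019)))).symm
theorem E80218 : n147171 = n103156 := (((D103156).symm.trans (sb E76918 F244999))).symm
theorem E80219 : n136290 = n103157 := (((D103157).symm.trans (sb E76918 F245000))).symm
theorem E80220 : n103159 = n74179 := ((D103159).symm.trans (sb E76918 (iv7 D155964)))
theorem E80221 : n103171 = n68592 := ((D103171).symm.trans (sb E76919 (iv1 D146270)))
theorem F317651 : act 4 n47819 = n69036 := (sb E76919 (iv4 F229592))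
theorem E80222 : n103173 = n69032 := ((D103173).symm.trans (sb E76919 F229593))
theorem E80223 : n103170 = n103039 := (((D103039).symm.trans (sb E76920 (iv5 F158437)))).symm
theorem F317652 : act 0 n114745 = n54786 := (sb E76921 (iv1 D119054))
theorem F317653 : act 5 n68959 = n52955 := (sb E76922 (iv5 D114746))
theorem F317654 : act 6 n32087 = n52955 := (sb E76923 (iv6 D114747))
theorem F317655 : act 3 n68508 = n47814 := (sb E76924 F158411)
theorem E80225 : n146099 = n103697 := ((D146099).symm.trans (sb E76924 (iv4 F159149)))
theorem E80226 : n146101 = n103697 := ((D146101).symm.trans (sb E76924 (iv6 F159150)))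
theorem F317656 : act 7 n68508 = n47810 := (sb E76924 (iv7 D103132))
theorem F317657 : act 1 n68507 = n47810 := (sb E76925 (iv0 D103129))
theorem F317658 : act 0 n48895 = n47810 := (sb E76926 (iv1 D103130))
theorem E80227 : n146102 = n103694 := (((D103694).symm.trans (sb E76927 (iv1 F229915)))).symm
theorem E80228 : n103695 = n68715 := ((D103695).symm.trans (sb E76927 (iv0 D146630)))
theorem E80229 : n146110 = n103694 := (((iv2 F282916)).symm.trans (sb E76928 (tr F229920 E80227)))
theorem F317659 : act 4 n144893 = n68716 := (sb E76928 F229921)
theorem E80230 : n146239 = n67913 := ((((iv6 D144893)).symm.trans (sb E76928 F229927))).symm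
theorem F317660 : act 7 n144893 = n68715 := (sb E76928 (iv7 D146633))
theorem E80232 : n146105 = n31874 := ((((iv4 D68509)).symm.trans (sb E76929 (iv4 F229343)))).symm
theorem E80233 : n146111 = n146104 := (((D146104).symm.trans (sb E76929 D146111))).symm
theorem F317661 : act 7 n68509 = n103693 := (sb E76929 (iv7 F313337))
theorem F317662 : act 2 n114663 = n52954 := (sb E76930 (iv2 D114738))
theorem F317663 : act 7 n114663 = n52955 := (sb E76930 (iv7 F178849))
theorem F317664 : act 0 n68959 = n52924 := (sb E76931 (iv1 D114664))
theorem F317665 : act 1 n68959 = n52957 := (sb E76931 F178774)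
theorem E80234 : n145903 = n52925 := (((D52925).symm.trans (sb E76932 (iv1 F229079)))).symm
theorem F317666 : act 4 n25709 = n31852 := (sb E76933 F104649)
theorem E80239 : n145898 = n52965 := (((D52965).symm.trans (sb E76934 (iv3 F229068)))).symm
theorem E80241 : n52968 = n31838 := ((D52968).symm.trans (sb E76934 (iv6 D68414)))
theorem F317667 : act 0 n114748 = n147840 := (sb E76936 (iv1 F231619))
theorem F317668 : act 2 n114748 = n147842 := (sb E76936 F231615)
theorem F317669 : act 3 n114748 = n69281 := (sb E76936 F231613)
theorem F317670 : act 5 n114748 = n69274 := (sb E76936 (iv5 D147841))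
theorem F317671 : act 6 n114748 = n159892 := (sb E76936 (iv6 F252124))
theorem F317672 : act 7 n114748 = n147832 := (sb E76936 (iv7 F231617))
theorem F317673 : act 0 n69274 = n52956 := (sb E76937 (iv1 D114749))
theorem E80245 : n164315 = n117108 := (((D117108).symm.trans (sb E76939 F258944))).symm
theorem E80246 : n164324 = n144997 := (((D144997).symm.trans (sb E76940 F258948))).symm
theorem E80248 : n164332 = n144998 := (((D144998).symm.trans (sb E76942 (iv6 F258953)))).symm
theorem E80250 : n164311 = n69272 := ((((iv0 F184632)).symm.trans (sb E76943 F258943))).symm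
theorem E80251 : n145000 = n35928 := ((D145000).symm.trans (sb E76943 (iv5 D78926)))
theorem E80252 : n164296 = n127738 := ((((iv7 F205347)).symm.trans (sb E76943 (iv7 F258927)))).symm
theorem E80253 : n157395 = n144975 := (((D144975).symm.trans (sb E76947 (iv6 F247874)))).symm
theorem F317674 : act 1 n67949 = n54802 := (sb E76949 (iv0 D119090))
theorem F317675 : act 0 n67938 = n54802 := (sb E76950 (iv1 D119091))
theorem F317676 : act 0 n119092 = n68430 := (sb E76951 (iv1 F229118))
theorem F317677 : act 1 n119092 = n68422 := (sb E76951 (iv0 D145922))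
theorem F317678 : act 2 n119092 = n144921 := (sb E76951 (iv2 F229119))
theorem F317679 : act 5 n119092 = n54803 := (sb E76953 F187354)
theorem F317680 : act 7 n119092 = n54802 := (sb E76953 (iv7 D119093))
theorem F317681 : act 3 n97127 = n45412 := (sb E76955 (iv3 D97169))
theorem F317682 : act 4 n97128 = n66401 := (sb E76956 F224611)
theorem F317683 : act 6 n97128 = n66400 := (sb E76956 (iv6 D141567))
theorem F317684 : act 4 n31559 = n45397 := (sb E76957 (iv4 D97129))
theorem F317685 : act 6 n31558 = n45397 := (sb E76959 (iv6 D97131))
theorem F317686 : act 4 n97132 = n67890 := (sb E76960 F227764)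
theorem F317687 : act 6 n97132 = n103736 := (sb E76960 (tr (iv6 F229249) E77002))
theorem F317688 : act 0 n62426 = n34486 := (sb E76961 (iv1 D75325))
theorem E80255 : n158158 = n133035 := (((D133035).symm.trans (sb E76961 (iv2 F249111)))).symm
theorem E80257 : n100092 = n71681 := (((F108162).symm.trans (sb E76961 (iv4 F306527)))).symm
theorem E80260 : n158153 = n61784 := ((((iv7 F217664)).symm.trans (sb E76961 F249110))).symm
theorem F317689 : act 0 n75324 = n132916 := (sb E76962 (iv1 F217687))
theorem E80261 : n158154 = n133049 := ((D158154).symm.trans (sb E76962 (iv3 F217678)))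
theorem E80262 : n158155 = n71680 := ((D158155).symm.trans (sb E76962 (iv4 F217682)))
theorem E80263 : n158156 = n133529 := ((D158156).symm.trans (sb E76962 F217685))
theorem F317690 : act 4 n62252 = n34583 := (sb E76963 (iv4 D75612))
theorem E80266 : n158473 = n132659 := (((D132659).symm.trans (sb E76963 (iv6 F249676)))).symm
theorem F317691 : act 3 n118563 = n69771 := (sb E76965 (iv3 D148857))
theorem F317692 : act 0 n156077 = n178653 := (sb E76967 (iv1 F278463))
theorem F317693 : act 1 n156077 = n178650 := (sb E76967 (iv0 F278458))
theorem F317694 : act 2 n156077 = n85190 := (sb E76967 F278343)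
theorem F317695 : act 7 n156077 = n85195 := (sb E76967 F278344)
theorem F317696 : act 2 n156951 = n85191 := (sb E76968 F278345)
theorem F317697 : act 4 n131686 = n81663 := (sb E76969 (iv4 D170280))
theorem E80267 : n120302 = n63653 := ((D120302).symm.trans (sb E76970 (iv1 F217628)))
theorem E80268 : n120303 = n63648 := ((D120303).symm.trans (sb E76970 (iv0 D135391)))
theorem F317698 : act 0 n134661 = n72377 := (sb E76973 F233852)
theorem F317699 : act 1 n134661 = n127892 := (sb E76973 F233853)
theorem F317700 : act 2 n134661 = n69776 := (sb E76973 F233850)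
theorem F317701 : act 4 n134661 = n69761 := (sb E76973 (iv4 D148838))
theorem F317702 : act 6 n134661 = n130330 := (sb E76973 (iv6 F305683))
theorem F317703 : act 7 n134661 = n69771 := (sb E76973 F233851)
theorem E80271 : n177229 = n74537 := (((F212044).symm.trans (sb E76974 (iv2 F276620)))).symm
theorem F317704 : act 3 n65108 = n38936 := (sb E76974 F129584)
theorem E80273 : n138657 = n38934 := ((D138657).symm.trans (sb E76974 (iv5 D84442)))
theorem E80274 : n176974 = n30984 := (((E80001).symm.trans ((D138658).symm.trans (sb E76974 (iv7 F276322))))).symm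
theorem E80275 : n176977 = n156794 := (((iv2 F276329)).symm.trans (sb E76975 (iv2 F246724)))
theorem F317705 : act 6 n84446 = n65258 := (sb E76975 (iv6 D139022))
theorem F317706 : act 4 n108839 = n84922 := (sb E76976 (iv4 D178467))
theorem F317707 : act 6 n52050 = n84922 := (sb E76977 (iv6 D178469))
theorem F317708 : act 4 n51933 = n54940 := (sb E76978 (iv4 D119387))
theorem E80278 : n141099 = n17694 := ((((iv2 F51323)).symm.trans (sb E76979 D141099))).symm
theorem E80279 : n35256 = n30933 := (((iv3 F55985)).symm.trans (sb E76979 (iv3 D66177)))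
theorem E80281 : n110312 = n17344 := ((((iv6 F28278)).symm.trans (sb E76979 F170534))).symm
theorem F317709 : act 3 n36705 = n68306 := (sb E76980 (iv3 D145710))
theorem E80283 : n141105 = n55829 := ((((iv6 F88307)).symm.trans (sb E76980 F228810))).symm
theorem E80284 : n112561 = n83620 := (((iv4 F175111)).symm.trans (sb E76981 (iv4 D175082)))
theorem E80285 : n83540 = n51004 := ((((iv4 F80460)).symm.trans (sb E76982 (iv4 D174890)))).symm
theorem F317710 : act 4 n107684 = n73638 := (sb E76984 F243962)
theorem E80286 : n162283 = n59321 := (((iv4 F256427)).symm.trans (iv4 (sb E76985 (tr (iv4 D178447) E77459))))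
theorem E80287 : n126153 = n121179 := (((D121179).symm.trans (iv3 (sb E76986 (tr F278047 E77464))))).symm
theorem E80288 : n178448 = n121179 := (E76986).trans E80287
theorem F317711 : act 5 n121179 = n84911 := (sb E80288 F278048)
theorem F317712 : act 3 n110616 = n160926 := (sb E76989 F264028)
theorem E80289 : n77814 = n14950 := ((((iv3 D31783)).symm.trans (sb E76990 (iv3 D162002)))).symm
theorem F317713 : act 5 n110382 = n163080 := (sb E76991 (iv5 F257410))
theorem E80291 : n78259 = n68298 := (((F170742).symm.trans (sb E76991 F193004))).symm
theorem F317714 : act 0 n83622 = n64465 := (sb E76992 F175361)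
theorem F317715 : act 1 n83622 = n52294 := (sb E76992 F175363)
theorem F317716 : act 2 n83622 = n64463 := (sb E76992 F175359)
theorem E80292 : n175086 = n52011 := ((D175086).symm.trans (sb E76992 (iv3 D112686)))
theorem E80293 : n110612 = n38555 := ((((iv4 D83622)).symm.trans (sb E76992 F175362))).symm
theorem E80294 : n175087 = n136457 := ((D175087).symm.trans (sb E76992 (iv5 F219568)))
theorem E80295 : n175076 = n113197 := (((iv6 F274051)).symm.trans (sb E76992 (iv6 F176359)))
theorem F317717 : act 7 n83622 = n64464 := (sb E76992 F175360)
theorem E80296 : n73628 = n63945 := ((((iv4 F99471)).symm.trans (sb E76993 (iv4 D155122)))).symm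
theorem E80297 : n119461 = n110615 := ((D119461).symm.trans (sb E76994 (iv1 F175090)))
theorem E80298 : n119462 = n51932 := ((D119462).symm.trans (sb E76994 (iv0 D112558)))
theorem F317718 : act 4 n54968 = n64463 := (sb E76994 F175088)
theorem E80299 : n119464 = n110613 := ((D119464).symm.trans (sb E76994 (iv7 F175089)))
theorem F317719 : act 4 n83623 = n64464 := (sb E76995 F175094)
theorem E80300 : n175089 = n110376 := ((D175089).symm.trans (sb E76995 (iv6 F175108)))
theorem E80301 : n73633 = n64458 := ((((iv4 F100388)).symm.trans (sb E76996 (iv4 D155130)))).symm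
theorem F317720 : act 4 n53670 = n59708 := (sb E76998 F204455)
theorem E80304 : n59703 = n29634 := (((iv4 F94097)).symm.trans (sb E76999 (iv4 D62679)))
theorem F317721 : act 6 n54314 = n53500 := (sb E77000 (iv6 D116080))
theorem F317722 : act 5 n72728 = n48039 := (sb E77001 (iv5 D103747))
theorem F317723 : act 0 n103736 = n120579 := (sb E77002 (iv1 F229250))
theorem F317724 : act 4 n103736 = n68461 := (sb E77002 F229248)
theorem F317725 : act 7 n103736 = n68458 := (sb E77002 (iv7 D146025))
theorem F317726 : act 1 n103737 = n120579 := (sb E77003 (iv0 F204842))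
theorem F317727 : act 2 n103737 = n68458 := (sb E77003 F204840)
theorem F317728 : act 4 n103737 = n59858 := (sb E77003 F204841)
theorem E80306 : n103186 = n59857 := (((iv6 F159184)).symm.trans (sb E77003 (iv6 D127441)))
theorem F317729 : act 1 n103717 = n68458 := (sb E77004 (iv0 D146023))
theorem F317730 : act 4 n103717 = n120556 := (sb E77004 F229245)
theorem F317731 : act 7 n103717 = n120579 := (sb E77004 F229246)
theorem F317732 : act 0 n103738 = n68458 := (sb E77005 F200467)
theorem F317733 : act 2 n103738 = n120579 := (sb E77005 F200465)
theorem F317734 : act 4 n103738 = n58350 := (sb E77005 (iv4 D124801))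
theorem E80307 : n176290 = n173921 := (((D173921).symm.trans (sb E77006 (iv1 F275586)))).symm
theorem E80308 : n176289 = n173922 := (((D173922).symm.trans (sb E77006 F275589))).symm
theorem F317735 : act 7 n83167 = n173728 := (sb E77006 (iv7 F275604))
theorem F317736 : act 0 n130992 = n146478 := (sb E77010 (iv1 F288097))
theorem E80315 : n146477 = n126464 := ((((iv0 F209692)).symm.trans (sb E77010 F288098))).symm
theorem F317737 : act 2 n130992 = n146480 := (sb E77010 F288093)
theorem E80316 : n146398 = n135609 := ((((iv5 F218087)).symm.trans (sb E77010 F288095))).symm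
theorem F317738 : act 6 n130992 = n88479 := (sb E77010 (iv6 D185773))
theorem E80317 : n133259 = n117411 := (((iv7 F214217)).symm.trans (sb E77010 F288096))
theorem F317739 : act 1 n90550 = n135345 := (sb E77011 (iv0 F217590))
theorem F317740 : act 5 n90550 = n61453 := (sb E77011 (iv5 D130993))
theorem E80318 : n146393 = n133260 := (((iv7 F229713)).symm.trans (sb E77011 (iv7 F214220)))
theorem F317741 : act 4 n41301 = n61455 := (sb E77012 F209693)
theorem F317742 : act 6 n41301 = n61453 := (sb E77012 (iv6 D130994))
theorem E80319 : n133261 = n92791 := ((D133261).symm.trans (sb E77013 F288106))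
theorem E80320 : n158519 = n90504 := ((((iv2 F139413)).symm.trans (sb E77014 F308597))).symm
theorem F317743 : act 3 n90576 = n60739 := (sb E77014 (iv3 D129212))
theorem E80321 : n92453 = n83866 := (((iv5 F142239)).symm.trans (sb E77014 F308598))
theorem F317744 : act 6 n90576 = n80365 := (sb E77014 F308612)
theorem E80322 : n132289 = n90501 := (((F139411).symm.trans (sb E77014 (iv7 F212077)))).symm
theorem F317745 : act 0 n90575 = n61455 := (sb E77015 (iv1 D130998))
theorem F317746 : act 5 n44065 = n61455 := (sb E77016 (iv5 D130999))
theorem E80323 : n133265 = n92790 := ((((iv6 F143119)).symm.trans (sb E77017 (iv6 F214226)))).symm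
theorem F317747 : act 7 n43414 = n61455 := (sb E77017 (iv7 D131000))
theorem E80325 : n106288 = n66920 := (((D66920).symm.trans (sb E77019 (iv4 F251374)))).symm
theorem F317748 : act 0 n46059 = n75118 := (sb E77021 (iv1 D157670))
theorem E80326 : n164531 = n98488 := (((D98488).symm.trans (sb E77021 F259346))).symm
theorem E80328 : n175906 = n68560 := (((D68560).symm.trans (sb E77023 D175906))).symm
theorem F317749 : act 4 n31896 = n38664 := (sb E77023 (iv4 D83949))
theorem E80330 : n175908 = n59711 := (((E79227).symm.trans ((D68563).symm.trans (sb E77023 D175908)))).symm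
theorem E80331 : n159034 = n112333 := (E78602).trans E79481
theorem F317750 : act 0 n132827 = n112333 := (sb E77024 (tr (iv1 F278836) E80331))
theorem F317751 : act 1 n132827 = n85326 := (sb E77024 (iv0 D178954))
theorem F317752 : act 4 n132827 = n86017 := (sb E77024 F278832)
theorem E80332 : n163378 = n132827 := (((iv7 F257667)).symm.trans (iv7 (sb E77024 (tr F278835 E78600))))
theorem E80333 : n129596 = n127762 := ((((iv5 F205382)).symm.trans (sb E77025 F208132))).symm
theorem F317753 : act 6 n125101 = n60953 := (sb E77025 (iv6 D129785))
theorem F317754 : act 0 n131037 = n78451 := (sb E77026 (iv1 D163231))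
theorem F317755 : act 1 n131037 = n148609 := (sb E77026 F313793)
theorem F317756 : act 5 n131037 = n85560 := (sb E77026 F313796)
theorem E80335 : n61469 = n31411 := (((iv6 D131037)).symm.trans (sb E77026 (tr F313797 E80049)))
theorem F317757 : act 7 n131037 = n127755 := (sb E77026 F313798)
theorem F317758 : act 1 n68830 = n65235 := (sb E77027 (iv0 D138973))
theorem F317759 : act 0 n54305 = n65235 := (sb E77028 (iv1 D138974))
theorem F317760 : act 7 n54032 = n65235 := (sb E77029 (iv7 D138976))
theorem E80336 : n145786 = n109409 := ((D145786).symm.trans (sb E77030 F222158))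
theorem F317761 : act 7 n68350 = n65242 := (sb E77030 (iv7 D138989))
theorem E80338 : n139683 = n117407 := ((((iv2 F237566)).symm.trans (sb E77031 (iv2 F222855)))).symm
theorem F317762 : act 3 n54206 = n30733 := (sb E77031 F101289)
theorem F317763 : act 0 n65582 = n68343 := (sb E77032 (iv1 D145767))
theorem E80340 : n180244 = n77645 := ((D180244).symm.trans (sb E77035 (iv1 F187441)))
theorem F317764 : act 1 n86105 = n77644 := (sb E77035 F187443)
theorem F317765 : act 2 n86105 = n77647 := (sb E77035 F187436)
theorem E80341 : n180243 = n54825 := (((iv3 F280569)).symm.trans (sb E77035 F187437))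
theorem F317766 : act 4 n86105 = n62912 := (sb E77035 F301242)
theorem E80342 : n169795 = n166151 := ((((iv5 F261633)).symm.trans (sb E77035 F298562))).symm
theorem E80343 : n180245 = n54818 := ((D180245).symm.trans (sb E77035 (iv7 D119126)))
theorem F317767 : act 5 n65567 = n117677 := (sb E77036 (iv5 F230469))
theorem F317768 : act 0 n53992 = n79780 := (sb E77040 (iv1 F122482))
theorem F317769 : act 1 n53992 = n79778 := (sb E77040 (iv0 F122478))
theorem E80344 : n121715 = n116500 := ((((iv3 F181819)).symm.trans (sb E77040 (iv3 F194266)))).symm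
theorem F317770 : act 4 n56249 = n31881 := (sb E77042 F104723)
theorem F317771 : act 5 n146732 = n84810 := (sb E77043 F261940)
theorem F317772 : act 5 n39215 = n68795 := (sb E77044 (iv5 D146733))
theorem F317773 : act 5 n146729 = n84811 := (sb E77048 F261936)
theorem E80347 : n166156 = n83852 := (E77161).trans E78940
theorem F317774 : act 5 n39217 = n68794 := (sb E77049 (iv5 D146730))
theorem F317775 : act 0 n146106 = n103131 := (sb E77051 (iv1 F277968))
theorem F317776 : act 1 n146107 = n103131 := (sb E77052 F277972)
theorem F317777 : act 3 n146100 = n103146 := (sb E77053 F277969)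
theorem F317778 : act 7 n146100 = n103131 := (sb E77053 F277971)
theorem F317779 : act 3 n146108 = n84869 := (sb E77054 (iv3 D178374))
theorem E80348 : n105850 = n60948 := (((F96993).symm.trans (iv2 (sb E77059 (tr F194308 E78679))))).symm
theorem E80349 : n121746 = n60948 := (E77059).trans E80348
theorem E80351 : n129772 = n56256 := ((D129772).symm.trans (sb E80349 (iv6 D121746)))
theorem E80352 : n130747 = n116919 := (((iv1 F209313)).symm.trans (iv1 (sb E77060 (tr (iv0 D166536) E78679))))
theorem E80353 : n130745 = n127734 := (((iv0 F209306)).symm.trans (iv0 (sb E77061 (tr (iv1 D166537) E78679))))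
theorem E80355 : n148383 = n45777 := ((D148383).symm.trans (sb E77063 (iv5 D98055)))
theorem F317780 : act 7 n117818 = n66767 := (sb E77064 (iv7 D142381))
theorem F317781 : act 0 n116473 = n54268 := (sb E77065 (iv1 D117819))
theorem F317782 : act 1 n116473 = n69533 := (sb E77065 F184503)
theorem E80356 : n148377 = n117818 := (((iv2 F232150)).symm.trans (sb E77067 (iv2 F315545)))
theorem E80357 : n148378 = n73532 := ((D148378).symm.trans (sb E77067 F243701))
theorem E80358 : n148380 = n75119 := ((D148380).symm.trans (sb E77067 (iv5 F243698)))
theorem E80359 : n148381 = n73530 := ((D148381).symm.trans (sb E77067 (iv6 F243699)))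
theorem E80360 : n148372 = n116473 := ((F232149).symm.trans (sb E77067 (iv7 F315550)))
theorem E80361 : n142378 = n117820 := ((D142378).symm.trans (sb E77068 (iv1 F184502)))
theorem E80362 : n142379 = n32281 := ((D142379).symm.trans (sb E77068 (iv0 D69531)))
theorem E80367 : n150541 = n148389 := (((D148389).symm.trans (sb E77069 (iv1 F300239)))).symm
theorem E80368 : n150398 = n148390 := (((D148390).symm.trans (sb E77069 (iv0 F300235)))).symm
theorem E80369 : n170645 = n148391 := (((D148391).symm.trans (sb E77069 (iv4 F299265)))).symm
theorem E80370 : n148392 = n45775 := ((D148392).symm.trans (sb E77069 (iv6 D98051)))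
theorem F317783 : act 6 n69534 = n73526 := (sb E77070 (iv6 D154984))
theorem F317784 : act 1 n75556 = n39852 := (sb E77071 F119469)
theorem E80371 : n162829 = n60137 := ((((iv3 F303596)).symm.trans (sb E77071 (iv3 F257098)))).symm
theorem F317785 : act 0 n75555 = n39852 := (sb E77072 (iv1 F304994))
theorem E80372 : n165614 = n158406 := (((D158406).symm.trans (sb E77072 (iv3 F260895)))).symm
theorem E80373 : n155718 = n133145 := ((((iv6 F304934)).symm.trans (sb E77072 (iv6 F313863)))).symm
theorem E80374 : n180187 = n45914 := ((D180187).symm.trans (sb E77073 (iv1 F151588)))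
theorem E80375 : n180188 = n45913 := ((D180188).symm.trans (sb E77073 F151589))
theorem E80376 : n180186 = n45916 := (((iv2 F280534)).symm.trans (sb E77073 F151585))
theorem E80377 : n180189 = n120412 := ((D180189).symm.trans (sb E77073 F300656))
theorem E80378 : n125320 = n45912 := (((iv7 F201570)).symm.trans (sb E77073 (iv7 D98232)))
theorem F317786 : act 4 n35431 = n32282 := (sb E77075 F92704)
theorem F317787 : act 7 n35431 = n39852 := (sb E77075 F92703)
theorem F317788 : act 6 n26415 = n32282 := (sb E77076 (iv6 D69537))
theorem E80382 : n127722 = n117205 := ((D127722).symm.trans (sb E77077 F234556))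
theorem E80383 : n127723 = n70012 := ((D127723).symm.trans (sb E77077 (iv7 D149183)))
theorem E80384 : n127726 = n61746 := ((D127726).symm.trans (sb E77078 (iv5 D131595)))
theorem E80385 : n127727 = n69914 := ((D127727).symm.trans (sb E77078 F210843))
theorem F317789 : act 3 n79764 = n69609 := (sb E77083 F233290)
theorem F317790 : act 5 n117885 = n133946 := (sb E77089 (iv5 F215806))
theorem F317791 : act 6 n117885 = n60212 := (sb E77089 (iv6 D128124))
theorem F317792 : act 3 n117884 = n166116 := (sb E77311 (iv3 F261563))
theorem F317793 : act 4 n117884 = n90153 := (sb E77311 (iv4 F290414))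
theorem F317794 : act 5 n117884 = n127930 := (sb E77311 (iv5 F234670))
theorem F317795 : act 0 n92470 = n148309 := (sb E77091 F233247)
theorem F317796 : act 4 n92470 = n69576 := (sb E77091 (iv4 D148485))
theorem F317797 : act 5 n61591 = n69576 := (sb E77092 (iv5 D148486))
theorem E80386 : n149296 = n115860 := (E78714).trans E78715
theorem F317798 : act 4 n115860 = n90262 := (sb E80386 F290411)
theorem F317799 : act 5 n115860 = n127931 := (sb E80386 F234665)
theorem F317800 : act 5 n148489 = n131262 := (sb E77094 F235090)
theorem F317801 : act 6 n148489 = n70196 := (sb E77094 (iv6 D149479))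
theorem F317802 : act 7 n148489 = n166116 := (sb E77094 (iv7 F261565))
theorem F317803 : act 4 n92518 = n69577 := (sb E77095 (iv4 D148490))
theorem F317804 : act 5 n61592 = n69577 := (sb E77096 (iv5 D148491))
theorem E80387 : n70196 = n66078 := (((D66078).symm.trans (sb E78711 F235092))).symm
theorem F317805 : act 1 n131615 = n69579 := (sb E77098 (iv0 D148495))
theorem F317806 : act 0 n148493 = n133950 := (sb E77099 (iv1 F305911))
theorem F317807 : act 1 n148493 = n133949 := (sb E77099 (iv0 F305910))
theorem F317808 : act 3 n148493 = n71006 := (sb E77099 (iv3 D150632))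
theorem F317809 : act 4 n148493 = n81786 := (sb E77099 F237178)
theorem F317810 : act 6 n148493 = n81671 := (sb E77099 F300215)
theorem F317811 : act 7 n148493 = n133946 := (sb E77099 (iv7 F305415))
theorem F317812 : act 0 n148497 = n81787 := (sb E77100 F306811)
theorem F317813 : act 1 n148497 = n81563 := (sb E77100 (iv0 F308398))
theorem F317814 : act 2 n148497 = n81786 := (sb E77100 F306812)
theorem F317815 : act 3 n148497 = n118525 := (sb E77100 F240802)
theorem F317817 : act 6 n148497 = n72397 := (sb E77100 (iv6 D153270))
theorem F317818 : act 7 n148497 = n81613 := (sb E77100 F306813)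
theorem F317819 : act 5 n62917 = n54297 := (sb E77101 (iv5 D117886))
theorem F317820 : act 7 n62917 = n69579 := (sb E77101 F184864)
theorem E80388 : n148488 = n115860 := (E77102).trans E78715
theorem E80389 : n69577 = n66081 := (((F180377).symm.trans (sb E80388 F233248))).symm
theorem F317821 : act 7 n115860 = n69576 := (sb E80388 (iv7 D148488))
theorem F317822 : act 2 n117884 = n69576 := (sb E77103 (iv2 D148483))
theorem E80390 : n140840 = n117884 := ((D140840).symm.trans (iv7 (sb E77103 (tr (iv7 F233245) E80389))))
theorem F317823 : act 6 n117873 = n70088 := (sb E77104 (iv6 D149295))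
theorem F317824 : act 3 n82583 = n58698 := (sb E77108 F201622)
theorem E80391 : n172495 = n58697 := ((D172495).symm.trans (sb E77108 (iv5 D125345)))
theorem F317825 : act 2 n59994 = n68581 := (sb E77111 (iv2 F105869))
theorem E80392 : n141599 = n120106 := ((((iv3 F313224)).symm.trans (sb E77111 (iv3 F224675)))).symm
theorem F317826 : act 5 n59994 = n31004 := (sb E77111 (iv5 D66417))
theorem F317827 : act 7 n59994 = n68595 := (sb E77111 (iv7 F105868))
theorem F317828 : act 0 n66422 = n31816 := (sb E77112 (iv1 D68385))
theorem F317829 : act 1 n66422 = n70909 := (sb E77112 F310984)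
theorem E80394 : n141609 = n141594 := (((iv3 F224686)).symm.trans (sb E77112 (iv3 F313214)))
theorem F317830 : act 4 n66422 = n32057 := (sb E77112 (iv4 F311579))
theorem F317831 : act 6 n66422 = n61758 := (sb E77112 (iv6 F104562))
theorem F317832 : act 5 n54020 = n53540 := (sb E77116 (iv5 D116167))
theorem F317833 : act 6 n54020 = n53543 := (sb E77116 F180981)
theorem F317834 : act 6 n31004 = n53556 := (sb E77117 F181046)
theorem F317835 : act 0 n146279 = n114570 := (sb E77118 F283766)
theorem F317836 : act 2 n146279 = n120111 := (sb E77118 F236919)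
theorem F317837 : act 4 n146279 = n114567 := (sb E77118 (iv4 F283764))
theorem E80395 : n141595 = n70037 := ((D141595).symm.trans (sb E77119 F278607))
theorem F317838 : act 3 n66412 = n68581 := (sb E77121 F229551)
theorem F317839 : act 6 n48937 = n68581 := (sb E77122 (iv6 D146257))
theorem F317840 : act 0 n95938 = n59929 := (sb E77123 (iv1 F204986))
theorem F317841 : act 2 n95938 = n59931 := (sb E77123 F204984)
theorem F317842 : act 4 n95938 = n59895 := (sb E77123 F204985)
theorem F317843 : act 7 n95938 = n59892 := (sb E77123 (iv7 D127527))
theorem F317844 : act 0 n28463 = n44780 := (sb E77124 (iv1 D95939))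
theorem F317845 : act 2 n69249 = n44780 := (sb E77125 F147581)
theorem F317846 : act 2 n95940 = n147800 := (sb E77127 (iv2 F231541))
theorem F317847 : act 0 n95941 = n59892 := (sb E77128 (iv1 D127525))
theorem F317848 : act 1 n95941 = n59931 := (sb E77128 F204980)
theorem F317849 : act 2 n95941 = n59929 := (sb E77128 (iv2 F204982))
theorem F317850 : act 4 n95941 = n146189 := (sb E77128 F229473)
theorem F317851 : act 7 n95521 = n44772 := (sb E77131 (iv7 D95910))
theorem F317852 : act 2 n95523 = n44779 := (sb E77132 F147576)
theorem F317853 : act 7 n95523 = n44774 := (sb E77132 (iv7 D95921))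
theorem F317854 : act 7 n95516 = n44777 := (sb E77133 F147560)
theorem F317855 : act 0 n95517 = n72927 := (sb E77134 F312749)
theorem F317856 : act 1 n95517 = n86407 := (sb E77134 F312750)
theorem F317857 : act 2 n95517 = n44773 := (sb E77134 F147561)
theorem F317858 : act 3 n95517 = n159892 := (sb E77134 F312751)
theorem F317859 : act 5 n95517 = n55515 := (sb E77134 F312752)
theorem F317860 : act 6 n95517 = n69281 := (sb E77134 F312753)
theorem F317861 : act 7 n95517 = n44778 := (sb E77134 F147562)
theorem F317862 : act 2 n95518 = n44774 := (sb E77135 F147563)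
theorem F317863 : act 7 n95518 = n44779 := (sb E77135 F147564)
theorem F317864 : act 2 n95519 = n44775 := (sb E77136 F147565)
theorem E80396 : n147108 = n96368 := (((D96368).symm.trans (sb E77137 D147108))).symm
theorem E80397 : n96369 = n32086 := ((D96369).symm.trans (sb E77137 (iv4 D68974)))
theorem E80398 : n147109 = n96370 := (((D96370).symm.trans (sb E77137 D147109))).symm
theorem E80399 : n147110 = n96371 := (((D96371).symm.trans (sb E77137 D147110))).symm
theorem E80400 : n147101 = n96373 := (((D96373).symm.trans (sb E77138 D147101))).symm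
theorem E80401 : n96374 = n32084 := ((D96374).symm.trans (sb E77138 (iv4 D68971)))
theorem E80402 : n147102 = n96375 := (((D96375).symm.trans (sb E77138 D147102))).symm
theorem E80403 : n147103 = n96376 := (((D96376).symm.trans (sb E77138 D147103))).symm
theorem E80404 : n96358 = n50678 := ((D96358).symm.trans (sb E77139 (iv1 D109886)))
theorem E80405 : n112111 = n96359 := (((D96359).symm.trans (sb E77139 F174320))).symm
theorem E80406 : n109549 = n96353 := ((((iv2 F148305)).symm.trans (sb E77139 F169896))).symm
theorem F317865 : act 4 n44994 = n54175 := (sb E77139 F169892)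
theorem E80407 : n96360 = n51567 := ((D96360).symm.trans (sb E77139 (iv5 F171334)))
theorem E80408 : n96361 = n59899 := ((D96361).symm.trans (sb E77139 F169893))
theorem E80409 : n127446 = n96377 := (((D96377).symm.trans (sb E77140 (iv1 F204858)))).symm
theorem E80410 : n127448 = n96378 := (((D96378).symm.trans (sb E77140 (iv0 F204870)))).symm
theorem E80411 : n96379 = n69082 := ((D96379).symm.trans (sb E77140 F173642))
theorem E80412 : n96380 = n59900 := ((D96380).symm.trans (sb E77140 F173644))
theorem F317866 : act 0 n28451 = n44531 := (sb E77141 (iv1 F70769))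
theorem F317867 : act 1 n28451 = n44530 := (sb E77141 F70770)
theorem F317868 : act 2 n28451 = n44533 := (sb E77141 F70766)
theorem F317869 : act 6 n28451 = n44602 := (sb E77141 F70767)
theorem F317870 : act 7 n28451 = n21485 := (sb E77141 (iv7 D45001))
theorem F317871 : act 6 n76046 = n79932 := (sb E77144 (iv6 D166544))
theorem F317872 : act 6 n54925 = n69533 := (sb E77147 (iv6 D148384))
theorem E80414 : n79897 = n68530 := (((D68530).symm.trans (sb E77156 (iv3 F122641)))).symm
theorem F317873 : act 7 n31880 = n56249 := (sb E77156 (iv7 F88970))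
theorem F317874 : act 0 n36400 = n68529 := (sb E77159 (iv1 F183261))
theorem F317875 : act 1 n36400 = n68528 := (sb E77159 (iv0 F183265))
theorem F317876 : act 4 n36400 = n53995 := (sb E77159 F183259)
theorem F317877 : act 6 n36400 = n68558 := (sb E77159 F183260)
theorem F317878 : act 7 n36400 = n53992 := (sb E77159 (iv7 D117155))
theorem E80416 : n175633 = n79781 := ((D175633).symm.trans (sb E80347 (iv5 D166156)))
theorem E80417 : n163933 = n77558 := (((F302736).symm.trans (sb E77162 F261640))).symm
theorem E80418 : n163556 = n38384 := ((((iv5 D83327)).symm.trans (sb E77162 F261639))).symm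
theorem E80419 : n158432 = n79784 := (((iv5 F298404)).symm.trans (sb E77164 (iv5 D166163)))
theorem F317879 : act 5 n58216 = n73526 := (sb E77166 (iv5 D154983))
theorem F317880 : act 1 n81774 = n69520 := (sb E77167 F184527)
theorem F317881 : act 0 n81796 = n69520 := (sb E77168 (iv1 F184523))
theorem F317882 : act 0 n148347 = n167897 := (sb E77169 (iv1 F264540))
theorem F317883 : act 1 n148347 = n167881 := (sb E77169 (iv0 F264514))
theorem F317884 : act 5 n148347 = n86386 := (sb E77169 F264430)
theorem F317885 : act 7 n148347 = n98062 := (sb E77169 F264429)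
theorem F317886 : act 5 n36758 = n69520 := (sb E77170 (iv5 D148348))
theorem F317887 : act 0 n45781 = n69519 := (sb E77171 (iv1 F184528))
theorem F317888 : act 1 n45781 = n69518 := (sb E77171 F184526)
theorem F317889 : act 3 n45781 = n69533 := (sb E77171 F184524)
theorem F317890 : act 7 n45781 = n69520 := (sb E77171 F184525)
theorem E80420 : n121465 = n66412 := ((D121465).symm.trans (sb E77172 (iv4 D141593)))
theorem E80421 : n67663 = n27048 := (((F88752).symm.trans (sb E77172 F224669))).symm
theorem E80422 : n80321 = n74585 := (((iv0 F123405)).symm.trans (sb E77173 (iv0 F111998)))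
theorem E80424 : n121402 = n30755 := ((D121402).symm.trans (sb E77173 (iv4 D65652)))
theorem E80425 : n110726 = n27024 := ((((iv5 D56015)).symm.trans (sb E77173 (iv5 F171384)))).symm
theorem E80427 : n69505 = n67332 := ((D69505).symm.trans (sb E77177 F226390))
theorem E80428 : n69508 = n68938 := ((D69508).symm.trans (sb E77177 F311578))
theorem E80429 : n69509 = n67316 := ((D69509).symm.trans (sb E77177 (iv7 D143734)))
theorem F317891 : act 2 n81774 = n69518 := (sb E77178 (iv2 D148337))
theorem F317892 : act 7 n81774 = n69519 := (sb E77178 (iv7 F232133))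
theorem F317893 : act 0 n148339 = n81749 := (sb E77179 F312550)
theorem F317894 : act 1 n148339 = n81560 := (sb E77179 F312551)
theorem F317895 : act 2 n148339 = n78942 := (sb E77179 F259016)
theorem F317896 : act 3 n148339 = n78969 := (sb E77179 F290491)
theorem F317897 : act 5 n148339 = n78940 := (sb E77179 (iv5 D164360))
theorem F317898 : act 7 n148339 = n81746 := (sb E77179 F312553)
theorem F317899 : act 5 n62714 = n69518 := (sb E77180 (iv5 D148340))
theorem F317900 : act 2 n81796 = n69519 := (sb E77181 F232134)
theorem F317901 : act 7 n81796 = n69518 := (sb E77181 (iv7 D148342))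
theorem F317902 : act 5 n148343 = n84473 := (sb E77182 (iv5 D177317))
theorem F317903 : act 7 n148343 = n170600 := (sb E77182 F276695)
theorem F317905 : act 5 n38958 = n69519 := (sb E77184 (iv5 D148345))
theorem E80430 : n69519 = n66921 := (((D66921).symm.trans (sb E77185 (iv6 D148346)))).symm
theorem F317906 : act 1 n81740 = n69521 := (sb E77186 (iv0 D148350))
theorem F317907 : act 0 n81743 = n69521 := (sb E77187 (iv1 D148351))
theorem F317908 : act 5 n98062 = n69521 := (sb E77188 (iv5 D148352))
theorem E80432 : n180868 = n59980 := ((D180868).symm.trans (sb E77189 F184529))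
theorem F317909 : act 7 n86386 = n69521 := (sb E77189 F184530)
theorem F317910 : act 5 n122685 = n119881 := (sb E77194 F232142)
theorem F317911 : act 0 n133324 = n67367 := (sb E77195 (iv1 D143840))
theorem F317912 : act 6 n133324 = n69525 := (sb E77195 (iv6 F226477))
theorem F317913 : act 3 n34572 = n58693 := (sb E77196 F201597)
theorem E80433 : n75576 = n58692 := (((iv5 F113424)).symm.trans (sb E77196 (iv5 D125332)))
theorem F317914 : act 7 n34567 = n58693 := (sb E77198 (iv7 F92730))
theorem F317915 : act 2 n65645 = n59991 := (sb E77200 (iv2 D127758))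
theorem F317916 : act 7 n65645 = n67970 := (sb E77200 F278604)
theorem E80436 : n121401 = n68350 := ((D121401).symm.trans (sb E77201 F228907))
theorem E80437 : n148557 = n69818 := ((D148557).symm.trans (sb E77202 (iv5 D148928)))
theorem F317917 : act 6 n69619 = n79760 := (sb E77202 F305419)
theorem F317918 : act 0 n116039 = n54284 := (sb E77203 (iv1 D117850))
theorem F317919 : act 1 n116039 = n69619 := (sb E77203 F184799)
theorem E80438 : n81742 = n65737 := (E77206).trans E77714
theorem F317920 : act 5 n116039 = n62780 := (sb E77203 F315617)
theorem F317921 : act 5 n61820 = n32319 := (sb E77205 (iv5 D69620))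
theorem E80445 : n140039 = n121939 := ((D140039).symm.trans (sb E80438 (iv5 F300305)))
theorem E80446 : n140040 = n117849 := ((D140040).symm.trans (sb E80438 (iv7 F315615)))
theorem E80447 : n148552 = n117849 := (((iv2 F233325)).symm.trans (sb E77207 (iv2 F315612)))
theorem E80448 : n148555 = n133710 := ((D148555).symm.trans (sb E77207 (iv5 F261580)))
theorem E80449 : n148547 = n116039 := ((F233323).symm.trans (sb E77207 (iv7 F315618)))
theorem F317922 : act 6 n69607 = n79764 := (sb E77208 (iv6 D166123))
theorem F317923 : act 0 n69647 = n48929 := (sb E77209 (iv1 D105846))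
theorem F317924 : act 2 n66113 = n48929 := (sb E77210 F162534)
theorem F317925 : act 3 n66113 = n59961 := (sb E77210 F162535)
theorem F317926 : act 4 n31670 = n48929 := (sb E77212 F162518)
theorem E80450 : n180240 = n54867 := ((D180240).symm.trans (sb E77213 F186959))
theorem E80451 : n180241 = n54866 := ((D180241).symm.trans (sb E77213 F186961))
theorem E80452 : n180236 = n54869 := (((iv2 F280566)).symm.trans (sb E77213 F186956))
theorem E80453 : n180242 = n54724 := ((D180242).symm.trans (sb E77213 (iv4 D118908)))
theorem E80454 : n125338 = n54826 := (((iv7 F201610)).symm.trans (sb E77213 F186958))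
theorem F317927 : act 2 n35460 = n39854 := (sb E77215 F92732)
theorem F317928 : act 7 n35460 = n39857 := (sb E77215 F92733)
theorem E80460 : n141442 = n68574 := (((D68574).symm.trans (sb E77219 (iv2 F224473)))).symm
theorem F317929 : act 6 n31902 = n30998 := (sb E77219 F102277)
theorem E80462 : n143654 = n32269 := (E77223).trans E77938
theorem E80463 : n67287 = n66893 := ((((iv0 F180375)).symm.trans (sb E80462 F226335))).symm
theorem F317930 : act 7 n66881 = n67301 := (sb E77225 F182202)
theorem E80464 : n116760 = n31452 := (E77226).trans E79576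
theorem E80465 : n65553 = n53799 := (((iv0 F180181)).symm.trans (sb E80464 (iv0 D116760)))
theorem E80466 : n67740 = n67301 := ((D67740).symm.trans (sb E80464 (iv2 F182203)))
theorem E80467 : n67302 = n53945 := ((((iv7 F183012)).symm.trans (sb E80464 (iv7 F182204)))).symm
theorem E80469 : n128424 = n31864 := (E77229).trans E79201
theorem E80470 : n144898 = n68474 := (((D68474).symm.trans (sb E80469 (iv0 F278941)))).symm
theorem E80471 : n68476 = n60386 := ((D68476).symm.trans (sb E80469 (iv6 D128424)))
theorem F317931 : act 5 n66448 = n39620 := (sb E77232 F131562)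
theorem F317932 : act 7 n66448 = n39619 := (sb E77232 (iv7 D85785))
theorem F317933 : act 2 n58120 = n47811 := (sb E77235 (iv2 D103133))
theorem F317934 : act 7 n58121 = n47811 := (sb E77236 (iv7 D103138))
theorem F317935 : act 0 n103136 = n117158 := (sb E77237 (iv1 F243305))
theorem F317936 : act 1 n103136 = n127437 := (sb E77237 F233918)
theorem F317937 : act 2 n103136 = n124525 := (sb E77237 (iv2 F315637))
theorem F317938 : act 3 n103136 = n105759 := (sb E77237 F233912)
theorem F317939 : act 4 n103136 = n146711 := (sb E77237 (iv4 F243010))
theorem F317940 : act 6 n103136 = n127484 := (sb E77237 F233914)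
theorem F317941 : act 7 n103136 = n69783 := (sb E77237 (iv7 D148872))
theorem F317942 : act 6 n75588 = n74805 := (sb E77238 (iv6 D157313))
theorem F317943 : act 1 n83382 = n63219 := (sb E77239 F213574)
theorem F317944 : act 3 n83382 = n60778 := (sb E77239 F207506)
theorem E80472 : n174441 = n132955 := (((iv4 F273317)).symm.trans (sb E77239 (iv4 F213581)))
theorem E80473 : n174444 = n60776 := ((D174444).symm.trans (sb E77239 (iv5 D129313)))
theorem F317945 : act 1 n134527 = n83075 := (sb E77240 F301501)
theorem F317946 : act 2 n134527 = n84170 := (sb E77240 (iv2 F303713))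
theorem F317947 : act 3 n134527 = n128182 := (sb E77240 F256796)
theorem E80474 : n172235 = n132956 := ((((iv4 F216512)).symm.trans (sb E77240 (iv4 F270501)))).symm
theorem F317948 : act 6 n134527 = n78063 := (sb E77240 (iv6 D162557))
theorem F317949 : act 7 n134527 = n84169 := (sb E77240 F301502)
theorem F317950 : act 2 n38797 = n63219 := (sb E77241 F211608)
theorem F317951 : act 2 n29888 = n38718 := (sb E77242 (iv2 D84045))
theorem F317952 : act 4 n29888 = n38739 := (sb E77242 F129002)
theorem F317953 : act 6 n29888 = n38739 := (sb E77242 (iv6 F302297))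
theorem F317954 : act 6 n83069 = n63219 := (sb E77244 (iv6 D134529))
theorem F317955 : act 0 n132095 = n84170 := (sb E77245 (iv1 F272262))
theorem F317956 : act 1 n132095 = n84169 := (sb E77245 F272260)
theorem F317957 : act 2 n132095 = n83075 := (sb E77245 (iv2 D173711))
theorem F317958 : act 6 n132095 = n176480 := (sb E77245 (iv6 F275784))
theorem E80476 : n176313 = n63235 := ((D176313).symm.trans (sb E77248 F216542))
theorem F317959 : act 5 n29885 = n38718 := (sb E77252 (iv5 D84046))
theorem E80481 : n116410 = n69139 := (((iv1 F181573)).symm.trans (sb E77255 F190325))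
theorem E80482 : n116409 = n69074 := ((F181579).symm.trans (sb E77255 (iv0 F190326)))
theorem E80483 : n116412 = n69136 := (((iv2 F181576)).symm.trans (sb E77255 F190202))
theorem F317960 : act 3 n31877 = n68509 := (sb E77259 (iv3 D146103))
theorem E80484 : n163899 = n32265 := (E77260).trans E77674
theorem E80485 : n79898 = n69480 := (((D69480).symm.trans (sb E80484 F258327))).symm
theorem E80486 : n180612 = n53765 := ((((iv7 F173376)).symm.trans (sb E80484 (iv7 F281119)))).symm
theorem F317961 : act 5 n36398 = n53885 := (sb E77261 (iv5 D116922))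
theorem F317962 : act 6 n114604 = n78729 := (sb E77263 (iv6 D163898))
theorem F317963 : act 6 n79858 = n75906 := (sb E77264 F233337)
theorem F317964 : act 1 n112834 = n68350 := (sb E77266 F237518)
theorem F317965 : act 3 n112834 = n67314 := (sb E77266 F205374)
theorem F317967 : act 6 n112834 = n155883 := (sb E77266 F244866)
theorem F317968 : act 7 n116907 = n65122 := (sb E77268 (iv7 D138699))
theorem F317969 : act 0 n116909 = n109662 := (sb E77269 (iv1 F221878))
theorem F317970 : act 1 n116909 = n109681 := (sb E77269 F221879)
theorem F317972 : act 7 n116909 = n65134 := (sb E77269 (iv7 D138727))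
theorem E80487 : n141346 = n31009 := ((D141346).symm.trans (sb E77270 (iv1 D66429)))
theorem E80488 : n141629 = n48865 := (((F173688).symm.trans (sb E77270 (iv2 F224695)))).symm
theorem F317973 : act 0 n66428 = n114625 := (sb E77271 (iv1 F311536))
theorem E80493 : n145085 = n141625 := (((D141625).symm.trans (sb E77271 D145085))).symm
theorem E80494 : n145086 = n141626 := (((D141626).symm.trans (sb E77271 D145086))).symm
theorem E80495 : n141628 = n85985 := ((D141628).symm.trans (sb E77271 F155445))
theorem F317974 : act 0 n60435 = n116197 := (sb E77272 (iv1 F181081))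
theorem E80496 : n105700 = n60435 := ((D105700).symm.trans (iv1 (sb E77272 (tr F181077 E77273))))
theorem F317975 : act 2 n60435 = n31009 := (sb E77272 (iv2 D66430))
theorem E80497 : n141634 = n128496 := ((((iv4 F206656)).symm.trans (sb E77272 D141634))).symm
theorem E80499 : n105701 = n53551 := ((D105701).symm.trans (sb E77273 (iv0 D116196)))
theorem F317976 : act 0 n105702 = n86016 := (sb E77275 (iv1 F228041))
theorem F317977 : act 6 n105702 = n54015 := (sb E77275 (iv6 D117199))
theorem F317978 : act 2 n116197 = n66428 := (sb E77277 (iv2 D141624))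
theorem F317979 : act 7 n116197 = n66307 := (sb E77278 (iv7 D141349))
theorem F317980 : act 5 n14884 = n31009 := (sb E77280 (iv5 D66432))
theorem E80508 : n167105 = n74073 := (((iv1 F263189)).symm.trans (sb E77281 (iv1 F189517)))
theorem E80509 : n167104 = n55232 := ((F263195).symm.trans (sb E77281 (iv0 D120023)))
theorem F317981 : act 2 n83567 = n74070 := (sb E77281 (iv2 F208063))
theorem E80510 : n174975 = n74166 := (((iv4 F273851)).symm.trans (sb E77281 (iv4 F207947)))
theorem E80511 : n174976 = n76152 := ((D174976).symm.trans (sb E77281 F309209))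
theorem E80512 : n74071 = n38525 := ((((iv7 D83567)).symm.trans (sb E77281 (iv7 F208057)))).symm
theorem E80513 : n178531 = n31143 := (E77282).trans E78063
theorem E80514 : n66861 = n66820 := (((D66820).symm.trans (sb E80513 (tr F278220 E77527)))).symm
theorem E80515 : n116449 = n53945 := (E77283).trans E80467
theorem E80516 : n117056 = n31297 := ((D117056).symm.trans (sb E80515 (tr (iv1 F224717) E80202)))
theorem E80517 : n117057 = n66881 := ((D117057).symm.trans (sb E80515 F181653))
theorem E80518 : n117058 = n62166 := ((D117058).symm.trans (sb E80515 F181654))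
theorem E80519 : n66817 = n53671 := ((F181600).symm.trans (sb E80515 (iv5 D116449)))
theorem E80520 : n68891 = n53729 := (((D53729).symm.trans (sb E78527 (iv6 D146969)))).symm
theorem E80521 : n62164 = n53716 := (((D53716).symm.trans (sb E78551 F212639))).symm
theorem E80522 : n66878 = n53717 := (((D53717).symm.trans (sb E78551 F212640))).symm
theorem F317982 : act 1 n26567 = n53693 := (sb E77286 (iv0 D116501))
theorem F317983 : act 0 n39313 = n53693 := (sb E77287 (iv1 D116502))
theorem F317984 : act 2 n39311 = n53693 := (sb E77288 F181778)
theorem F317985 : act 2 n116500 = n85005 := (sb E77289 F188008)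
theorem F317986 : act 7 n116500 = n73569 := (sb E77289 F188009)
theorem F317987 : act 5 n54729 = n53693 := (sb E77290 (iv5 D116503))
theorem F317988 : act 1 n116420 = n147897 := (sb E77297 (iv0 F231675))
theorem F317989 : act 2 n116420 = n69055 := (sb E77297 F190208)
theorem F317990 : act 4 n116420 = n114759 := (sb E77297 F190331)
theorem F317991 : act 5 n116420 = n54097 := (sb E77297 (iv5 D117394))
theorem F317992 : act 6 n116420 = n55092 := (sb E77297 F183848)
theorem F317993 : act 0 n142714 = n70088 := (sb E77299 F315709)
theorem F317994 : act 1 n142714 = n166272 := (sb E77299 F315710)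
theorem F317995 : act 3 n142714 = n105394 := (sb E77299 F315711)
theorem E80523 : n142715 = n72834 := ((D142715).symm.trans (sb E77301 F313301))
theorem E80524 : n142716 = n31305 := ((D142716).symm.trans (sb E77301 (iv0 D67334)))
theorem E80525 : n143748 = n116402 := ((((iv2 F181527)).symm.trans (sb E77301 D143748))).symm
theorem E80526 : n142717 = n133783 := ((D142717).symm.trans (sb E77301 (iv5 F315712)))
theorem E80527 : n143753 = n142718 := (((D142718).symm.trans (sb E77301 D143753))).symm
theorem E80528 : n146989 = n32270 := (((D32270).symm.trans (sb E77302 (iv4 F230383)))).symm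
theorem E80529 : n32272 = n32044 := ((D32272).symm.trans (sb E77302 (iv6 D68903)))
theorem F317996 : act 3 n26291 = n26006 := (sb E77305 (iv3 D53764))
theorem E80532 : n116672 = n54376 := ((D116672).symm.trans (sb E77306 (iv6 D118051)))
theorem F317997 : act 6 n26288 = n26006 := (sb E77307 (iv6 D53767))
theorem E80537 : n116683 = n31133 := ((D116683).symm.trans (sb E77309 (iv1 F181698)))
theorem E80538 : n116684 = n31128 := ((D116684).symm.trans (sb E77309 F181695))
theorem E80539 : n116742 = n116682 := ((((iv4 F182071)).symm.trans (sb E77309 D116742))).symm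
theorem E80540 : n116686 = n31283 := ((D116686).symm.trans (sb E77309 F84819))
theorem F317998 : act 1 n28620 = n31086 := (sb E77315 (iv0 D66639))
theorem E80541 : n142109 = n60170 := ((((iv2 F94718)).symm.trans (sb E77315 D142109))).symm
theorem E80546 : n142114 = n60222 := (((D60222).symm.trans (sb E77315 D142114))).symm
theorem E80547 : n151415 = n142115 := (((D142115).symm.trans (sb E77316 (iv3 F308741)))).symm
theorem E80548 : n166271 = n142116 := (((D142116).symm.trans (sb E77316 D166271))).symm
theorem E80549 : n142117 = n36368 := ((D142117).symm.trans (sb E77316 (iv5 D79841)))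
theorem E80550 : n160236 = n142118 := (((D142118).symm.trans (sb E77316 (iv6 F253001)))).symm
theorem E80551 : n142060 = n106327 := (((iv4 F225073)).symm.trans (sb E77317 F190906))
theorem E80552 : n142105 = n106284 := ((D142105).symm.trans (sb E77318 (iv1 F190364)))
theorem E80553 : n142106 = n106325 := ((D142106).symm.trans (sb E77318 (iv0 F190357)))
theorem F317999 : act 5 n36742 = n31086 := (sb E77319 (iv5 D66641))
theorem F318000 : act 5 n66382 = n54024 := (sb E77321 (iv5 D117222))
theorem F318001 : act 6 n66382 = n54350 := (sb E77321 F183402)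
theorem F318002 : act 2 n118128 = n66315 := (sb E77322 F224396)
theorem F318003 : act 5 n118128 = n66309 := (sb E77322 (iv5 D141353))
theorem F318004 : act 6 n118128 = n127716 := (sb E77322 F224398)
theorem F318005 : act 3 n128149 = n62363 := (sb E77323 (iv3 D132896))
theorem F318006 : act 3 n105758 = n58121 := (sb E77324 (iv3 D124528))
theorem F318007 : act 4 n105758 = n114869 := (sb E77324 (iv4 F199191))
theorem F318008 : act 5 n69783 = n58121 := (sb E77325 (iv5 D124530))
theorem F318009 : act 6 n28402 = n58121 := (sb E77326 (iv6 D124531))
theorem F318010 : act 6 n120602 = n84875 := (sb E77329 (iv6 D178396))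
theorem E80559 : n129215 = n116915 := (((iv1 F207435)).symm.trans (iv1 (sb E77331 (tr (iv0 D178388) E77911))))
theorem E80560 : n129213 = n127733 := (((iv0 F207432)).symm.trans (iv0 (sb E77332 (tr (iv1 D178389) E77911))))
theorem E80561 : n120607 = n62248 := ((((iv7 F97049)).symm.trans (iv7 (sb E77333 (tr (iv7 D178391) E77911))))).symm
theorem E80563 : n84838 = n69181 := ((D84838).symm.trans (sb E77335 F231055))
theorem E80566 : n110672 = n27098 := (((D27098).symm.trans (sb E77336 (iv3 F171282)))).symm
theorem F318011 : act 2 n84994 = n79932 := (sb E77337 (iv2 D166542))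
theorem E80569 : n178526 = n84832 := ((D178526).symm.trans (sb E77337 F262059))
theorem F318012 : act 4 n54930 = n79932 := (sb E77338 (iv4 D166543))
theorem E80570 : n79908 = n73569 := (((iv3 F122654)).symm.trans (sb E77345 F234912))
theorem F318013 : act 4 n31839 = n25710 := (sb E77348 (iv4 D52966))
theorem F318014 : act 0 n31849 = n25694 := (sb E77349 (iv1 D52926))
theorem F318015 : act 1 n31849 = n25711 := (sb E77349 F83636)
theorem F318016 : act 2 n31849 = n25710 := (sb E77349 F177847)
theorem E80572 : n114672 = n68445 := (((D68445).symm.trans (sb E77349 D114672))).symm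
theorem F318017 : act 7 n31849 = n25709 := (sb E77349 F177848)
theorem F318018 : act 0 n55056 = n38739 := (sb E77351 (iv1 F315657))
theorem F318019 : act 1 n84916 = n62277 := (sb E77358 (iv0 D132706))
theorem F318020 : act 0 n85133 = n62277 := (sb E77359 (iv1 D132707))
theorem E80574 : n175090 = n130219 := ((D175090).symm.trans (sb E77360 (iv1 F315335)))
theorem E80575 : n175091 = n38588 := ((D175091).symm.trans (sb E77360 (iv0 D83729)))
theorem E80580 : n175909 = n85326 := ((D175909).symm.trans (sb E77366 (iv1 F229503)))
theorem E80581 : n175910 = n112333 := ((D175910).symm.trans (sb E77366 (tr F250373 E80331)))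
theorem F318021 : act 0 n123232 = n162730 := (sb E77367 F272423)
theorem F318022 : act 4 n123232 = n83126 := (sb E77367 (iv4 D173830))
theorem F318023 : act 3 n83183 = n83117 := (sb E77368 F272406)
theorem E80582 : n173965 = n83116 := ((D173965).symm.trans (sb E77368 (iv5 D173819)))
theorem F318024 : act 1 n124681 = n162730 := (sb E77369 F272413)
theorem F318025 : act 4 n124681 = n83117 := (sb E77369 (iv4 D173822))
theorem F318026 : act 3 n124413 = n173927 := (sb E77370 F281250)
theorem E80583 : n173803 = n123048 := (((D123048).symm.trans (sb E77372 F306240))).symm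
theorem E80584 : n123049 = n78200 := ((D123049).symm.trans (sb E77372 F306241))
theorem F318027 : act 4 n57259 = n75687 := (sb E77372 (iv4 D158677))
theorem F318028 : act 6 n84009 = n75691 := (sb E77373 (iv6 D158686))
theorem E80585 : n79791 = n62240 := (((iv4 F317448)).symm.trans (sb E77374 (iv4 D132645)))
theorem F318029 : act 4 n128087 = n60778 := (sb E77375 (iv4 D129318))
theorem F318030 : act 7 n128087 = n129713 := (sb E77375 (iv7 F207904))
theorem F318031 : act 6 n54919 = n60778 := (sb E77376 (iv6 D129319))
theorem F318032 : act 2 n86008 = n129713 := (sb E77377 (iv2 F207903))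
theorem F318033 : act 4 n86008 = n60773 := (sb E77377 (iv4 D129303))
theorem F318034 : act 0 n111259 = n83737 := (sb E77379 (iv1 F274366))
theorem F318035 : act 1 n111259 = n83721 := (sb E77379 (iv0 D175316))
theorem F318036 : act 2 n111259 = n178634 := (sb E77379 (iv2 F278427))
theorem F318037 : act 4 n111259 = n176485 := (sb E77379 F275798)
theorem F318038 : act 5 n62143 = n84170 := (sb E77380 (iv5 D176541))
theorem F318039 : act 6 n123578 = n60773 := (sb E77381 (iv6 D129304))
theorem F318040 : act 1 n60939 = n38718 := (sb E77383 (iv0 F315658))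
theorem F318041 : act 2 n83730 = n120136 := (sb E77385 F216534)
theorem F318042 : act 4 n83730 = n63228 := (sb E77385 (iv4 D134553))
theorem F318043 : act 2 n83008 = n62379 := (sb E77388 F213535)
theorem F318044 : act 5 n83008 = n62377 := (sb E77388 (iv5 D132918))
theorem E80586 : n128840 = n75488 := ((F207175).symm.trans (sb E77389 F249445))
theorem F318045 : act 5 n128960 = n75481 := (sb E77389 (iv5 D158320))
theorem F318046 : act 6 n128960 = n75484 := (sb E77389 F249446)
theorem F318047 : act 3 n29862 = n38652 := (sb E77391 (iv3 D83922))
theorem E80590 : n175788 = n49760 := ((((iv4 F78619)).symm.trans (sb E77391 (iv4 F275207)))).symm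
theorem E80591 : n92463 = n63161 := (((D63161).symm.trans (sb E77391 (tr D175829 E80174)))).symm
theorem E80592 : n130054 = n42187 := ((((iv2 F67773)).symm.trans (sb E77392 (iv2 F208492)))).symm
theorem F318048 : act 2 n61068 = n38653 := (sb E77393 (iv2 F315367))
theorem F318049 : act 7 n61068 = n92461 := (sb E77393 (iv7 F142263))
theorem F318050 : act 5 n115108 = n173620 := (sb E77394 F275251)
theorem F318051 : act 1 n18390 = n38494 := (sb E77396 (iv0 D83492))
theorem F318052 : act 0 n83044 = n38494 := (sb E77397 (iv1 D83493))
theorem E80603 : n173628 = n173347 := (((D173347).symm.trans (sb E77398 D173628))).symm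
theorem E80605 : n174759 = n38675 := ((D174759).symm.trans (sb E77399 F278412))
theorem E80614 : n107283 = n74571 := ((D107283).symm.trans (sb E77401 (iv6 D156796)))
theorem F318053 : act 6 n74529 = n53599 := (sb E77402 (iv6 D116282))
theorem E80615 : n117791 = n76652 := (((iv1 F184481)).symm.trans (sb E77403 (iv1 D160062)))
theorem F318054 : act 0 n156949 = n178650 := (sb E77404 (iv1 F278459))
theorem F318055 : act 1 n156949 = n178653 := (sb E77404 (iv0 F278462))
theorem F318056 : act 2 n156949 = n85195 := (sb E77404 F278347)
theorem F318057 : act 7 n156949 = n85190 := (sb E77404 F278348)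
theorem F318058 : act 2 n156950 = n85196 := (sb E77405 F278349)
theorem E80616 : n156729 = n66340 := (((D66340).symm.trans (sb E80001 (iv1 F246535)))).symm
theorem E80617 : n66343 = n65108 := ((D66343).symm.trans (sb E80001 (iv7 D138658)))
theorem F318059 : act 0 n74537 = n53841 := (sb E77407 (iv1 D116837))
theorem E80618 : n67403 = n66340 := (((E80616).symm.trans ((D156729).symm.trans (sb E77407 F182438)))).symm
theorem F318060 : act 0 n150916 = n138367 := (sb E77408 (iv1 F246125))
theorem F318061 : act 1 n150916 = n138366 := (sb E77408 F246126)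
theorem F318062 : act 2 n150916 = n138369 := (sb E77408 F246122)
theorem F318063 : act 7 n150916 = n74431 := (sb E77408 (iv7 D156522))
theorem E80619 : n124962 = n49736 := ((D124962).symm.trans (sb E77409 (iv1 D107656)))
theorem F318064 : act 3 n64974 = n71051 := (sb E77410 (iv3 D150689))
theorem F318065 : act 5 n70916 = n66401 := (sb E77412 (iv5 D141570))
theorem F318066 : act 6 n70916 = n67702 := (sb E77412 F224613)
theorem E80620 : n50772 = n35847 := ((((iv1 F60747)).symm.trans (sb E77414 F81847))).symm
theorem E80621 : n50771 = n35846 := (((F60748).symm.trans (sb E77414 F81848))).symm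
theorem E80622 : n112348 = n86267 := ((((iv3 F132223)).symm.trans (sb E77414 D112348))).symm
theorem E80623 : n26956 = n25160 := ((F60744).symm.trans (sb E77414 (iv4 D51830)))
theorem F318067 : act 1 n16253 = n31181 := (sb E77415 (iv0 D66957))
theorem F318068 : act 0 n58309 = n31181 := (sb E77416 (iv1 D66958))
theorem F318069 : act 2 n58308 = n31181 := (sb E77417 F102882)
theorem E80635 : n142778 = n124729 := (((D124729).symm.trans (sb E77417 (iv4 F225681)))).symm
theorem E80637 : n149415 = n142852 := (((D142852).symm.trans (sb E77418 F234961))).symm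
theorem E80638 : n154051 = n142853 := (((D142853).symm.trans (sb E77418 F242078))).symm
theorem E80639 : n154055 = n142854 := (((D142854).symm.trans (sb E77418 D154055))).symm
theorem F318070 : act 7 n66956 = n52960 := (sb E77418 F177846)
theorem F318071 : act 5 n33308 = n31181 := (sb E77419 (iv5 D66959))
theorem F318072 : act 1 n31300 = n66783 := (sb E77421 (iv0 D142416))
theorem F318073 : act 0 n55069 = n66783 := (sb E77422 (iv1 D142417))
theorem F318074 : act 7 n116460 = n67311 := (sb E77423 (iv7 D143715))
theorem F318075 : act 3 n55082 = n66783 := (sb E77424 F225315)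
theorem F318076 : act 5 n72054 = n66783 := (sb E77426 (iv5 D142418))
theorem F318077 : act 7 n73530 = n66783 := (sb E77427 (iv7 D142419))
theorem F318078 : act 4 n79760 = n67210 := (sb E77428 (iv4 D143492))
theorem E80647 : n70195 = n54180 := ((((iv2 F177247)).symm.trans (sb E77429 F235055))).symm
theorem E80648 : n151314 = n67197 := (((D67197).symm.trans (sb E77429 (iv3 F238033)))).symm
theorem E80649 : n70187 = n67198 := (((D67198).symm.trans (sb E77429 F235056))).symm
theorem E80650 : n70186 = n67200 := (((D67200).symm.trans (sb E77429 (iv6 D149460)))).symm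
theorem E80651 : n54259 = n35038 := ((D54259).symm.trans (sb E77434 F114920))
theorem E80652 : n122646 = n54260 := (((D54260).symm.trans (sb E77434 (iv4 F196509)))).symm
theorem E80653 : n54262 = n35020 := ((D54262).symm.trans (sb E77434 (iv6 D76632)))
theorem E80654 : n149729 = n67029 := ((((iv0 F103021)).symm.trans (sb E77435 (iv0 F235479)))).symm
theorem E80655 : n67166 = n35028 := ((D67166).symm.trans (sb E77435 (iv6 D76638)))
theorem E80656 : n160043 = n54254 := (((F205096).symm.trans (sb E77435 D160043))).symm
theorem E80658 : n149481 = n67169 := (((D67169).symm.trans (sb E77436 (iv0 F253026)))).symm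
theorem E80659 : n160048 = n67170 := (((D67170).symm.trans (sb E77436 (iv3 F252557)))).symm
theorem E80661 : n67172 = n35032 := ((D67172).symm.trans (sb E77436 (iv6 D76644)))
theorem F318079 : act 6 n17006 = n14751 := (sb E77437 (iv6 D31265))
theorem E80665 : n67182 = n35023 := ((((iv7 F55604)).symm.trans (sb E77437 D67182))).symm
theorem E80666 : n149744 = n54257 := (((D54257).symm.trans (sb E77438 F235514))).symm
theorem E80667 : n67186 = n54257 := ((D67186).symm.trans (sb E77439 (tr F235510 E80666)))
theorem E80668 : n160064 = n67187 := (((D67187).symm.trans (sb E77439 (iv4 F252603)))).symm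
theorem E80669 : n160069 = n65602 := (((F103141).symm.trans (sb E77439 (iv5 F252612)))).symm
theorem E80670 : n67192 = n67105 := ((((iv1 F181669)).symm.trans (sb E77441 D67192))).symm
theorem E80671 : n67193 = n66755 := ((((iv0 F181271)).symm.trans (sb E77441 D67193))).symm
theorem E80672 : n67188 = n14752 := ((((iv3 D31267)).symm.trans (sb E77441 (iv3 F103148)))).symm
theorem E80674 : n67194 = n65602 := (((F103141).symm.trans (sb E77441 D67194))).symm
theorem F318080 : act 7 n31293 = n52877 := (sb E77443 (iv7 D114555))
theorem E80677 : n72735 = n14936 := (((D14936).symm.trans (sb E77444 (iv1 F187117)))).symm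
theorem E80678 : n72734 = n14937 := (((D14937).symm.trans (sb E77444 F187118))).symm
theorem F318081 : act 0 n160962 = n77794 := (sb E77449 (iv1 D161964))
theorem F318082 : act 1 n160962 = n173199 := (sb E77449 (iv0 F271475))
theorem F318083 : act 2 n160962 = n173200 := (sb E77449 F273985)
theorem F318084 : act 7 n160962 = n173201 := (sb E77449 F273983)
theorem F318085 : act 1 n83244 = n77223 := (sb E77450 (iv0 D160924))
theorem F318086 : act 5 n77691 = n74076 := (sb E77453 (iv5 D155722))
theorem F318087 : act 0 n77690 = n55244 := (sb E77454 F207453)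
theorem F318088 : act 1 n77690 = n74115 := (sb E77454 F207454)
theorem F318089 : act 2 n77690 = n74080 := (sb E77454 (iv2 F189581))
theorem E80679 : n161736 = n55234 := ((D161736).symm.trans (sb E77454 (iv4 D120033)))
theorem F318090 : act 7 n77690 = n74076 := (sb E77454 F189580)
theorem E80680 : n163568 = n119376 := ((((iv6 F188043)).symm.trans (sb E77457 (iv6 F257830)))).symm
theorem E80681 : n77229 = n24774 := ((((iv3 D50950)).symm.trans (sb E77458 (iv3 D160935)))).symm
theorem E80684 : n163569 = n39284 := ((D163569).symm.trans (sb E77459 (iv5 D84910)))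
theorem F318091 : act 6 n78592 = n39287 := (sb E77459 F130122)
theorem E80687 : n181814 = n35802 := (((D35802).symm.trans (sb E77460 (iv5 F283009)))).symm
theorem E80689 : n161622 = n121299 := ((((iv3 F193410)).symm.trans (sb E77461 (iv3 F255631)))).symm
theorem E80691 : n121302 = n35443 := (((iv5 F193419)).symm.trans (sb E77461 (iv5 D77626)))
theorem E80692 : n61027 = n35563 := (((F299680).symm.trans (sb E77461 F309527))).symm
theorem E80693 : n39403 = n35897 := ((((iv3 F56556)).symm.trans (sb E77462 F61244))).symm
theorem E80695 : n35900 = n19022 := ((D35900).symm.trans (sb E77462 (iv5 D40263)))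
theorem F318092 : act 5 n27166 = n35801 := (sb E77463 (iv5 D78593))
theorem E80700 : n121180 = n56438 := (((D56438).symm.trans (sb E77463 (iv7 F193265)))).symm
theorem E80701 : n161920 = n35670 := (((F88474).symm.trans (sb E77464 F302396))).symm
theorem E80704 : n129328 = n120741 := (((D120741).symm.trans (sb E77465 (iv2 F207520)))).symm
theorem E80706 : n120742 = n28837 := ((D120742).symm.trans (sb E77465 (iv5 D60788)))
theorem E80708 : n129390 = n8204 := (((F21356).symm.trans (sb E77466 D129390))).symm
theorem E80709 : n129391 = n12989 := ((((iv0 F21602)).symm.trans (sb E77466 D129391))).symm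
theorem E80711 : n112438 = n6101 := ((((iv5 D12865)).symm.trans (sb E77466 (iv5 F174920)))).symm
theorem E80713 : n129384 = n120738 := (((D120738).symm.trans (sb E77467 D129384))).symm
theorem E80714 : n129385 = n27021 := (((F88060).symm.trans (sb E77467 D129385))).symm
theorem E80715 : n79273 = n28925 := (((iv5 F121648)).symm.trans (sb E77467 F95372))
theorem E80717 : n129387 = n80107 := (((D80107).symm.trans (sb E77468 D129387))).symm
theorem E80719 : n79274 = n28926 := (((iv5 F121655)).symm.trans (sb E77468 F95373))
theorem E80721 : n35876 = n28839 := (((D28839).symm.trans (sb E77469 F299296))).symm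
theorem E80722 : n36278 = n28840 := (((D28840).symm.trans (sb E77469 F88069))).symm
theorem E80723 : n35594 = n6543 := (((F23000).symm.trans (sb E77469 F88067))).symm
theorem F318093 : act 5 n13746 = n26878 := (sb E77469 (iv5 D55662))
theorem E80724 : n35592 = n28842 := (((D28842).symm.trans (sb E77469 F88066))).symm
theorem F318094 : act 0 n15873 = n31334 := (sb E77473 (iv1 F94133))
theorem F318095 : act 1 n15873 = n31344 := (sb E77473 F94134)
theorem F318096 : act 4 n15873 = n26045 := (sb E77473 F53685)
theorem E80732 : n120006 = n62460 := ((((iv1 F97350)).symm.trans (sb E77474 F237065))).symm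
theorem E80733 : n155669 = n62462 := ((((iv2 F97353)).symm.trans (sb E77474 (iv2 F244700)))).symm
theorem E80734 : n130452 = n70961 := (((iv5 F208958)).symm.trans (sb E77474 (iv5 D150550)))
theorem E80736 : n70945 = n62461 := (((D62461).symm.trans (sb E77475 (iv5 D150533)))).symm
theorem F318097 : act 5 n74055 = n62459 := (sb E77476 (iv5 D133128))
theorem E80737 : n130447 = n33983 := ((((iv7 D74055)).symm.trans (sb E77476 F213819))).symm
theorem E80738 : n155661 = n130446 := (((D130446).symm.trans (sb E77477 (iv3 F244682)))).symm
theorem E80739 : n155670 = n29275 := (((F101354).symm.trans (sb E77477 D155670))).symm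
theorem E80740 : n130448 = n74072 := ((D130448).symm.trans (sb E77477 (iv6 F110818)))
theorem E80741 : n160784 = n159241 := (((iv3 F253930)).symm.trans (sb E77480 F253542))
theorem F318098 : act 0 n123014 = n173231 := (sb E77481 (iv1 F271553))
theorem F318099 : act 1 n123014 = n173225 := (sb E77481 (iv0 F271538))
theorem F318100 : act 2 n123014 = n160788 := (sb E77481 (iv2 F300920))
theorem F318101 : act 4 n123014 = n75670 := (sb E77481 (iv4 D158632))
theorem E80742 : n164834 = n130822 := (((D130822).symm.trans (sb E77482 D164834))).symm
theorem E80743 : n164835 = n130823 := (((D130823).symm.trans (sb E77482 D164835))).symm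
theorem E80744 : n164836 = n130810 := ((((iv2 F209364)).symm.trans (sb E77482 D164836))).symm
theorem E80745 : n130824 = n76806 := ((D130824).symm.trans (sb E77482 F120479))
theorem E80746 : n163382 = n29046 := ((((iv5 D61366)).symm.trans (sb E77482 (iv5 F301299)))).symm
theorem E80747 : n130825 = n79590 := ((D130825).symm.trans (sb E77482 (iv7 F122247)))
theorem E80748 : n130826 = n17144 := (((F55787).symm.trans (sb E77483 D130826))).symm
theorem F318102 : act 4 n35105 = n29049 := (sb E77483 (iv4 D61368))
theorem E80751 : n109980 = n17044 := ((((iv5 D35105)).symm.trans (sb E77483 (iv5 F170105)))).symm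
theorem F318103 : act 1 n17450 = n29049 := (sb E77484 F95568)
theorem E80753 : n129953 = n36060 := (((D36060).symm.trans (sb E77484 (iv3 F208333)))).symm
theorem E80754 : n36061 = n28930 := ((D36061).symm.trans (sb E77484 (iv5 D61037)))
theorem E80755 : n129955 = n18555 := ((((iv6 F299649)).symm.trans (sb E77484 D129955))).symm
theorem F318104 : act 0 n27114 = n29049 := (sb E77485 F95573)
theorem E80756 : n129961 = n56275 := (((D56275).symm.trans (sb E77485 (iv3 F208337)))).symm
theorem E80757 : n56276 = n28933 := ((D56276).symm.trans (sb E77485 (iv5 D61044)))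
theorem E80759 : n35769 = n28844 := ((((iv1 F79875)).symm.trans (sb E77486 (iv1 D78512)))).symm
theorem E80760 : n36265 = n28846 := ((((iv0 F79876)).symm.trans (sb E77486 F298614))).symm
theorem E80761 : n77406 = n6573 := (((F23088).symm.trans (sb E77486 (iv4 F299775)))).symm
theorem E80762 : n79591 = n29050 := (((D29050).symm.trans (sb E77486 F298617))).symm
theorem F318105 : act 7 n36247 = n29049 := (sb E77487 (iv7 D61369))
theorem F318106 : act 6 n77067 = n86089 := (sb E77492 (iv6 D180190))
theorem E80766 : n148036 = n67044 := (((F225915).symm.trans (sb E77494 F242776))).symm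
theorem F318107 : act 6 n143061 = n73323 := (sb E77494 (iv6 D154640))
theorem F318108 : act 6 n143217 = n73792 := (sb E77495 (iv6 D155311))
theorem E80767 : n67024 = n32224 := ((F103018).symm.trans (sb E77496 (iv0 D69336)))
theorem E80768 : n148037 = n67064 := ((((iv4 F103042)).symm.trans (sb E77496 D148037))).symm
theorem E80769 : n85427 = n67101 := (((D67101).symm.trans (sb E77496 (iv6 F232945)))).symm
theorem F318109 : act 6 n33897 = n67100 := (sb E77497 (iv6 D143218))
theorem E80771 : n148040 = n67019 := ((((iv4 F103008)).symm.trans (sb E77498 D148040))).symm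
theorem F318110 : act 5 n117325 = n67023 := (sb E77499 (iv5 D143006))
theorem F318111 : act 6 n117325 = n67026 := (sb E77499 F225875)
theorem E80772 : n142599 = n142459 := (((iv2 F225460)).symm.trans (iv2 (sb E77500 (tr (iv2 F278751) E78200))))
theorem E80773 : n178831 = n117075 := ((((iv5 F225374)).symm.trans (sb E77500 (iv5 F278700)))).symm
theorem F318112 : act 0 n85286 = n66842 := (sb E77501 (iv1 F225378))
theorem F318113 : act 2 n119573 = n66842 := (sb E77502 F225376)
theorem F318114 : act 6 n142608 = n73846 := (sb E77503 (iv6 D155376))
theorem F318115 : act 6 n33913 = n66842 := (sb E77504 (iv6 D142609))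
theorem F318116 : act 0 n116431 = n73283 := (sb E77508 (iv1 F230443))
theorem F318117 : act 2 n116431 = n144827 := (sb E77508 F230447)
theorem F318118 : act 3 n116431 = n124799 := (sb E77508 F230446)
theorem F318119 : act 5 n116431 = n74737 := (sb E77508 F314356)
theorem F318120 : act 6 n116431 = n68989 := (sb E77508 (iv6 F230444))
theorem F318121 : act 1 n116432 = n73283 := (sb E77509 F230448)
theorem F318122 : act 7 n116432 = n144827 := (sb E77509 F230449)
theorem F318123 : act 0 n116411 = n144827 := (sb E77510 (iv1 F230433))
theorem F318124 : act 6 n116411 = n68909 := (sb E77510 (iv6 D147000))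
theorem F318125 : act 7 n116411 = n73283 := (sb E77510 F230432)
theorem F318126 : act 5 n116433 = n147625 := (sb E77511 F231400)
theorem F318128 : act 5 n32047 = n53660 := (sb E77512 (iv5 D116419))
theorem F318129 : act 6 n32047 = n53663 := (sb E77512 F181617)
theorem F318130 : act 2 n31002 = n53556 := (sb E77514 (iv2 F84481))
theorem E80776 : n66408 = n14672 := ((D66408).symm.trans (sb E77514 (iv4 D31018)))
theorem E80777 : n141600 = n65633 := (E77516).trans E79805
theorem E80779 : n139817 = n66415 := ((D139817).symm.trans (sb E80777 (iv6 D141600)))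
theorem E80780 : n67626 = n60879 := (((iv4 F103644)).symm.trans (sb E79807 F181110))
theorem F318131 : act 5 n31419 = n53556 := (sb E79807 (iv5 D116211))
theorem E80781 : n60881 = n28288 := ((((iv4 F45788)).symm.trans (sb E77518 (iv4 D129601)))).symm
theorem E80782 : n60880 = n28286 := ((((iv4 F45785)).symm.trans (sb E77519 (iv4 D129598)))).symm
theorem E80783 : n84591 = n62678 := ((E78328).symm.trans (((iv1 F204139)).symm.trans (sb E77520 (iv1 F97770))))
theorem E80784 : n62677 = n39470 := (((E79021).symm.trans (((iv0 F102828)).symm.trans (sb E77520 F97769)))).symm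
theorem E80785 : n131018 = n106396 := ((((iv3 F163557)).symm.trans (sb E77520 (iv3 F209705)))).symm
theorem E80786 : n127132 = n29092 := ((D127132).symm.trans (sb E77520 F95952))
theorem E80788 : n29091 = n28334 := (((F94086).symm.trans (sb E77520 (iv7 D61464)))).symm
theorem F318132 : act 1 n59690 = n53556 := (sb E77521 (iv0 D116208))
theorem E80789 : n127136 = n53669 := ((D127136).symm.trans (sb E77521 F181100))
theorem E80790 : n127137 = n66411 := ((D127137).symm.trans (sb E77521 F313464))
theorem F318133 : act 1 n35074 = n66877 := (sb E77523 (iv0 D142673))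
theorem F318134 : act 0 n31996 = n66877 := (sb E77524 (iv1 D142674))
theorem F318135 : act 4 n54347 = n66877 := (sb E77525 F224757)
theorem F318136 : act 7 n67877 = n66877 := (sb E77526 (iv7 D142675))
theorem E80793 : n148639 = n66820 := (E77527).trans E80514
theorem E80794 : n142522 = n119698 := ((D142522).symm.trans (sb E80793 F237516))
theorem E80795 : n142523 = n116549 := ((D142523).symm.trans (sb E80793 (tr F237517 E78530)))
theorem E80796 : n146966 = n67731 := (((F183053).symm.trans (sb E80793 F237482))).symm
theorem E80797 : n142524 = n69657 := ((D142524).symm.trans (sb E80793 (iv5 D148639)))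
theorem E80798 : n117059 = n32334 := ((D117059).symm.trans (iv6 (sb E77528 (tr (iv6 D143703) E80467))))
theorem F318137 : act 2 n98959 = n129291 := (sb E77529 F217546)
theorem F318138 : act 4 n98959 = n63611 := (sb E77529 (iv4 D135310))
theorem F318139 : act 0 n141627 = n179993 := (sb E77530 F315932)
theorem F318140 : act 1 n141627 = n66445 := (sb E77530 (iv0 D141686))
theorem F318141 : act 2 n141627 = n128456 := (sb E77530 F315933)
theorem F318142 : act 4 n53557 = n59704 := (sb E77533 (iv4 D127169))
theorem E80801 : n141714 = n31418 := (E77965).trans E80048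
theorem E80802 : n141713 = n31417 := (((F49691).symm.trans (sb E77534 F224762))).symm
theorem E80804 : n65664 = n31039 := ((D65664).symm.trans (sb E77534 (iv4 D66487)))
theorem E80806 : n141453 = n68474 := ((D141453).symm.trans (sb E77537 (tr F274347 E80470)))
theorem E80807 : n159023 = n141557 := (((D141557).symm.trans (sb E77538 F279770))).symm
theorem F318143 : act 6 n35076 = n66879 := (sb E77542 (iv6 D142679))
theorem E80808 : n94239 = n73797 := (((iv1 F145306)).symm.trans (sb E77543 (iv1 F232939)))
theorem E80809 : n73792 = n34923 := ((((iv0 D76433)).symm.trans (sb E77543 F206437))).symm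
theorem F318144 : act 4 n76433 = n60326 := (sb E77543 (iv4 D128315))
theorem E80810 : n163540 = n38505 := ((((iv6 F59352)).symm.trans (sb E77546 (iv6 F257803)))).symm
theorem E80811 : n173340 = n76173 := ((D173340).symm.trans (sb E77547 (iv3 D159229)))
theorem E80812 : n167005 = n163541 := (((iv6 F262982)).symm.trans (sb E77547 (iv6 F257805)))
theorem E80813 : n167003 = n163538 := (((D163538).symm.trans (sb E77548 D167003))).symm
theorem E80814 : n167004 = n163539 := (((D163539).symm.trans (sb E77548 D167004))).symm
theorem E80815 : n163542 = n36514 := ((D163542).symm.trans (sb E77548 (iv5 D80169)))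
theorem F318145 : act 6 n78584 = n38178 := (sb E77548 F123107)
theorem E80820 : n161618 = n55961 := (((D55961).symm.trans (sb E77549 (iv5 F255628)))).symm
theorem E80822 : n167043 = n120961 := ((((iv3 F192912)).symm.trans (sb E77550 D167043))).symm
theorem E80823 : n120965 = n38772 := ((D120965).symm.trans (sb E77550 F300369))
theorem E80824 : n61111 = n26922 := ((((iv6 D55790)).symm.trans (sb E77550 F314172))).symm
theorem E80825 : n167046 = n35795 := ((((iv3 F56459)).symm.trans (sb E77551 D167046))).symm
theorem E80826 : n38227 = n35798 := (((D35798).symm.trans (sb E77551 F300365))).symm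
theorem E80829 : n163544 = n36519 := (((D36519).symm.trans (sb E77552 D163544))).symm
theorem F318146 : act 5 n17626 = n35796 := (sb E77552 (iv5 D78585))
theorem E80831 : n78878 = n36521 := (((D36521).symm.trans (sb E77552 (iv7 F120054)))).symm
theorem F318147 : act 0 n116842 = n71080 := (sb E77554 F243254)
theorem F318148 : act 1 n116842 = n138412 := (sb E77554 (iv0 F315883))
theorem F318149 : act 4 n116842 = n155604 := (sb E77554 F244633)
theorem F318150 : act 0 n116832 = n157457 := (sb E77556 (iv1 F248079))
theorem F318151 : act 1 n116832 = n60164 := (sb E77556 F243168)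
theorem F318152 : act 4 n116832 = n154690 := (sb E77556 (iv4 F243066))
theorem F318153 : act 6 n116832 = n116948 := (sb E77556 F186040)
theorem E80833 : n143919 = n69823 := ((D143919).symm.trans (sb E77557 F309050))
theorem E80834 : n143920 = n105943 := ((D143920).symm.trans (sb E77557 (iv0 F243400)))
theorem E80835 : n150756 = n143921 := (((D143921).symm.trans (sb E77557 (iv2 F243252)))).symm
theorem E80836 : n151143 = n143883 := ((((iv4 F226516)).symm.trans (sb E77557 D151143))).symm
theorem F318154 : act 5 n67414 = n84439 := (sb E77557 F309051)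
theorem F318155 : act 3 n96303 = n66317 := (sb E77558 (iv3 D141376))
theorem F318156 : act 5 n96303 = n116842 := (sb E77558 F224418)
theorem E80837 : n143963 = n118309 := ((D143963).symm.trans (sb E77559 (iv1 F243090)))
theorem E80838 : n143964 = n128017 := ((D143964).symm.trans (sb E77559 (iv0 F243081)))
theorem E80839 : n143965 = n128047 := ((D143965).symm.trans (sb E77559 (iv2 F248080)))
theorem E80840 : n151149 = n143935 := ((((iv4 F226578)).symm.trans (sb E77559 D151149))).symm
theorem F318157 : act 6 n98772 = n65589 := (sb E77560 (iv6 D139741))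
theorem F318158 : act 1 n83521 = n76162 := (sb E77561 (iv0 D159217))
theorem F318159 : act 0 n83520 = n76162 := (sb E77562 (iv1 D159218))
theorem F318160 : act 2 n83523 = n76162 := (sb E77563 (iv2 D159219))
theorem E80841 : n174851 = n162801 := ((D174851).symm.trans (sb E77563 (iv6 F257078)))
theorem E80842 : n149967 = n143271 := (((D143271).symm.trans (sb E77564 (iv1 F235905)))).symm
theorem E80843 : n143272 = n54780 := ((D143272).symm.trans (sb E77564 F190287))
theorem E80844 : n143242 = n72601 := (((iv2 F226062)).symm.trans (sb E77564 F190239))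
theorem E80845 : n143273 = n139763 := ((D143273).symm.trans (sb E77564 (iv4 F309506)))
theorem F318161 : act 6 n67119 = n139182 := (sb E77564 (iv6 F313493))
theorem E80846 : n143274 = n54698 := ((D143274).symm.trans (sb E77564 F190240))
theorem F318162 : act 2 n73470 = n54265 := (sb E77565 F184495)
theorem F318163 : act 7 n73470 = n54264 := (sb E77565 (iv7 D117809))
theorem F318164 : act 2 n117810 = n67218 := (sb E77566 F226149)
theorem F318165 : act 5 n117810 = n69805 := (sb E77566 F310179)
theorem F318166 : act 6 n117810 = n67154 := (sb E77566 (iv6 D143386))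
theorem F318167 : act 7 n117810 = n150623 := (sb E77566 F310180)
theorem F318168 : act 5 n71557 = n54265 := (sb E77567 (iv5 D117812))
theorem F318169 : act 6 n73407 = n54265 := (sb E77568 (iv6 D117813))
theorem F318170 : act 3 n119501 = n94240 := (sb E77571 F276516)
theorem F318171 : act 4 n119501 = n94245 := (sb E77571 F276517)
theorem F318172 : act 6 n119501 = n84402 := (sb E77571 (iv6 D177096))
theorem F318173 : act 2 n128275 = n94245 := (sb E77572 F252693)
theorem F318174 : act 3 n128275 = n89330 := (sb E77572 (iv3 F308364))
theorem F318175 : act 6 n128275 = n76675 := (sb E77572 (iv6 D160104))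
theorem E80847 : n97057 = n73245 := ((D97057).symm.trans (sb E77574 F206418))
theorem E80848 : n97062 = n73246 := ((D97062).symm.trans (sb E77575 (iv4 F240548)))
theorem E80849 : n147263 = n97064 := (((D97064).symm.trans (sb E77575 F230875))).symm
theorem F318176 : act 4 n45372 = n60190 := (sb E77578 (iv4 D128081))
theorem E80850 : n97127 = n44742 := (((iv3 F317681)).symm.trans (sb E77581 (iv3 D95808)))
theorem E80854 : n65787 = n15428 := ((((iv1 F24977)).symm.trans (sb E77597 D65787))).symm
theorem E80856 : n65790 = n26697 := (((D26697).symm.trans (sb E77597 D65790))).symm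
theorem E80857 : n32965 = n26043 := (((D26043).symm.trans (sb E77598 (iv3 F52131)))).symm
theorem F318177 : act 4 n12342 = n7442 := (sb E77598 F25344)
theorem E80860 : n65780 = n26342 := (((D26342).symm.trans (sb E77603 D65780))).symm
theorem F318178 : act 1 n52944 = n60414 := (sb E77609 (iv0 D128457))
theorem E80870 : n114715 = n73322 := ((D114715).symm.trans (sb E77609 F250250))
theorem F318179 : act 0 n128459 = n81723 := (sb E77610 (iv1 F313926))
theorem F318180 : act 1 n128459 = n81734 := (sb E77610 F312894)
theorem F318181 : act 2 n128459 = n167879 := (sb E77610 F312895)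
theorem F318182 : act 5 n128459 = n167879 := (sb E77610 F312896)
theorem F318183 : act 6 n128459 = n114676 := (sb E77610 F252741)
theorem F318184 : act 7 n128459 = n76698 := (sb E77610 (iv7 D160135))
theorem F318185 : act 1 n81564 = n60420 := (sb E77616 (iv0 D128467))
theorem F318186 : act 0 n81567 = n60420 := (sb E77617 (iv1 D128468))
theorem F318187 : act 2 n81764 = n60420 := (sb E77618 (iv2 D128469))
theorem E80871 : n83963 = n58678 := (((iv5 F128947)).symm.trans (sb E77619 (iv5 D125309)))
theorem E80872 : n132901 = n13304 := ((((iv4 D27901)).symm.trans (sb E77620 D132901))).symm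
theorem F318188 : act 5 n27901 = n29496 := (sb E77620 (iv5 D62364))
theorem E80873 : n35767 = n29499 := (((iv6 F92676)).symm.trans (sb E77620 F97244))
theorem F318189 : act 3 n66413 = n31005 := (sb E77626 (iv3 D66420))
theorem F318190 : act 0 n114552 = n67281 := (sb E77627 (iv1 F182107))
theorem F318191 : act 2 n114552 = n67284 := (sb E77627 (iv2 F182111))
theorem E80879 : n160243 = n114552 := ((D160243).symm.trans (iv4 (sb E77627 (tr (iv4 F223241) E78765))))
theorem F318192 : act 7 n114552 = n67283 := (sb E77627 (iv7 F182113))
theorem F318193 : act 1 n114553 = n67281 := (sb E77628 F182108)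
theorem F318194 : act 2 n114553 = n67283 := (sb E77628 F182112)
theorem F318195 : act 7 n114553 = n67284 := (sb E77628 F182110)
theorem F318196 : act 0 n106286 = n67284 := (sb E77629 F182103)
theorem F318197 : act 1 n106286 = n67283 := (sb E77629 F182104)
theorem F318198 : act 4 n106286 = n53785 := (sb E77629 (iv4 D116720))
theorem F318199 : act 7 n106286 = n67281 := (sb E77629 F182102)
theorem F318200 : act 0 n114554 = n142843 := (sb E77630 (iv1 F225737))
theorem F318201 : act 1 n114554 = n142846 := (sb E77630 (iv0 F225739))
theorem F318202 : act 4 n114554 = n142434 := (sb E77630 (iv4 F225331))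
theorem F318203 : act 7 n114554 = n67285 := (sb E77630 F182115)
theorem F318204 : act 2 n31640 = n52890 := (sb E77631 F290396)
theorem F318205 : act 7 n31640 = n52795 := (sb E77631 F161735)
theorem F318206 : act 4 n32107 = n52890 := (sb E77633 (iv4 D114578))
theorem E80881 : n114786 = n68413 := ((F178871).symm.trans (sb E77634 F183187))
theorem F318207 : act 1 n114579 = n54013 := (sb E77634 F183188)
theorem F318208 : act 2 n114579 = n67985 := (sb E77634 F183184)
theorem F318209 : act 4 n114579 = n117111 := (sb E77634 F183186)
theorem F318210 : act 7 n114579 = n67982 := (sb E77634 F183185)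
theorem F318211 : act 0 n114580 = n148695 := (sb E77635 (iv1 F315074))
theorem F318212 : act 1 n114580 = n59980 := (sb E77635 F232343)
theorem F318213 : act 2 n114580 = n67986 := (sb E77635 F183189)
theorem F318214 : act 4 n114580 = n69020 := (sb E77635 F183190)
theorem F318215 : act 2 n31639 = n52795 := (sb E77636 (iv2 D114403))
theorem F318216 : act 7 n31639 = n52890 := (sb E77636 F290395)
theorem F318217 : act 0 n114405 = n54013 := (sb E77638 F183196)
theorem F318218 : act 1 n114405 = n68413 := (sb E77638 F183197)
theorem F318219 : act 2 n114405 = n67982 := (sb E77638 F183193)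
theorem F318220 : act 4 n114405 = n117107 := (sb E77638 F183194)
theorem F318221 : act 7 n114405 = n67985 := (sb E77638 F183195)
theorem F318222 : act 2 n114406 = n67983 := (sb E77639 F183198)
theorem F318223 : act 4 n114406 = n68612 := (sb E77639 F183199)
theorem F318224 : act 1 n68436 = n52892 := (sb E77640 (iv0 D114586))
theorem F318225 : act 0 n68439 = n52892 := (sb E77641 (iv1 D114587))
theorem F318226 : act 4 n67955 = n52892 := (sb E77642 (iv4 D114588))
theorem E80882 : n144950 = n52897 := ((D144950).symm.trans (sb E77642 F178668))
theorem F318227 : act 7 n31641 = n52892 := (sb E77644 (iv7 D114589))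
theorem E80883 : n72733 = n49632 := ((((iv4 F78397)).symm.trans (sb E77645 (iv4 F109218)))).symm
theorem E80884 : n53856 = n16218 := ((D53856).symm.trans (sb E77645 (iv6 D33561)))
theorem E80885 : n53857 = n16183 := ((D53857).symm.trans (sb E77650 F54119))
theorem E80886 : n53858 = n16220 := ((D53858).symm.trans (sb E77650 F54120))
theorem E80887 : n54753 = n49633 := ((((iv4 F78404)).symm.trans (sb E77650 D54753))).symm
theorem F318228 : act 5 n26034 = n26063 := (sb E77650 F42359)
theorem F318229 : act 7 n26034 = n16096 := (sb E77650 F42360)
theorem F318230 : act 0 n70329 = n53769 := (sb E77652 (iv1 F181983))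
theorem E80888 : n69490 = n32645 := ((((iv0 D70329)).symm.trans (sb E77652 F181985))).symm
theorem F318231 : act 3 n70329 = n53648 := (sb E77652 F181483)
theorem E80889 : n124851 = n53646 := (((iv5 F235463)).symm.trans (sb E77652 (iv5 D116387)))
theorem F318232 : act 7 n70329 = n66893 := (sb E77652 F181484)
theorem F318233 : act 0 n52719 = n127260 := (sb E77653 (iv1 F204521))
theorem F318234 : act 4 n52719 = n53648 := (sb E77653 (iv4 D116391))
theorem F318235 : act 7 n52719 = n66904 := (sb E77653 F181502)
theorem E80890 : n84357 = n53649 := (((D53649).symm.trans (sb E77654 (iv6 D176994)))).symm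
theorem F318236 : act 6 n81796 = n53648 := (sb E77655 (iv6 D116392))
theorem F318237 : act 0 n116401 = n76349 := (sb E77657 (iv1 D159587))
theorem F318238 : act 3 n116401 = n114233 := (sb E77657 (iv3 F290566))
theorem E80891 : n149730 = n53847 := (((D53847).symm.trans (sb E77658 F248302))).symm
theorem F318239 : act 3 n26014 = n15217 := (sb E77673 (iv3 D32264))
theorem F318240 : act 3 n32265 = n53885 := (sb E77674 F182182)
theorem E80896 : n69481 = n53795 := ((D69481).symm.trans (sb E77674 (iv6 D116746)))
theorem F318241 : act 6 n30725 = n53952 := (sb E77675 F182185)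
theorem F318242 : act 2 n26013 = n53772 := (sb E77676 (iv2 F173390))
theorem F318243 : act 6 n26013 = n15217 := (sb E77676 (iv6 D32267))
theorem F318244 : act 6 n26680 = n53957 := (sb E77680 (iv6 D117091))
theorem F318245 : act 1 n76634 = n67292 := (sb E77681 (iv0 D143681))
theorem E80901 : n67292 = n67105 := ((((iv1 F181669)).symm.trans (sb E77682 (iv1 D143682)))).symm
theorem E80902 : n148646 = n62166 := (E77685).trans E79444
theorem E80903 : n116235 = n66116 := (((iv1 F181169)).symm.trans (sb E80902 (tr (iv1 F237120) E77732)))
theorem E80904 : n116226 = n70219 := (((iv0 F181150)).symm.trans (sb E80902 (iv0 F233402)))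
theorem F318246 : act 6 n62166 = n69661 := (sb E80902 (iv6 D148646))
theorem E80905 : n143700 = n115946 := (((F180707).symm.trans (iv1 (sb E77686 (tr F252614 E80669))))).symm
theorem E80906 : n155585 = n115946 := (E77686).trans E80905
theorem E80907 : n142683 = n65461 := ((((iv7 F183030)).symm.trans (sb E80906 (tr F252665 E78545)))).symm
theorem E80908 : n149515 = n59656 := (E77687).trans E80203
theorem E80909 : n179604 = n127100 := (((D127100).symm.trans (sb E80908 F279715))).symm
theorem F318248 : act 6 n124960 = n67301 := (sb E77688 (iv6 D143701))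
theorem E80912 : n116762 = n65668 := ((((iv5 F162514)).symm.trans (iv5 (sb E77690 (tr (iv5 F279145) E79752))))).symm
theorem E80913 : n150611 = n65668 := (E77690).trans E80912
theorem E80914 : n67625 = n66485 := (((iv7 F180176)).symm.trans (sb E80913 (tr (iv7 D150611) E79223)))
theorem E80918 : n48977 = n30777 := ((F77271).symm.trans (sb E77706 (iv5 D65731)))
theorem E80933 : n140130 = n32919 := (((F77101).symm.trans (sb E77710 D140130))).symm
theorem E80935 : n34823 = n30782 := (((D30782).symm.trans (sb E77711 F55056))).symm
theorem E80936 : n48979 = n30783 := (((D30783).symm.trans (sb E77711 F77277))).symm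
theorem E80937 : n54513 = n30695 := ((((iv4 F49141)).symm.trans (sb E77711 D54513))).symm
theorem F318249 : act 5 n14580 = n17033 := (sb E77711 F42058)
theorem E80938 : n140033 = n100416 := ((D140033).symm.trans (sb E77713 F252932))
theorem E80939 : n140037 = n117851 := ((D140037).symm.trans (sb E77714 (iv1 F184798)))
theorem E80940 : n140038 = n32319 := ((D140038).symm.trans (sb E77714 (iv0 D69617)))
theorem F318250 : act 0 n66067 = n76785 := (sb E77722 (iv1 F253023))
theorem F318251 : act 1 n66067 = n76784 := (sb E77722 F253024)
theorem E80948 : n159588 = n140804 := (E77943).trans E79162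
theorem F318252 : act 7 n66067 = n76781 := (sb E77722 (iv7 D160238))
theorem F318253 : act 0 n66086 = n76781 := (sb E77723 (iv1 D160237))
theorem E80949 : n140855 = n76785 := ((D140855).symm.trans (sb E77723 F253008))
theorem E80950 : n140859 = n79845 := ((D140859).symm.trans (sb E77723 (iv6 F253005)))
theorem E80951 : n140860 = n76784 := ((D140860).symm.trans (sb E77723 (iv7 F253012)))
theorem E80953 : n116064 = n67646 := (((D67646).symm.trans (sb E77726 D116064))).symm
theorem F318255 : act 6 n31417 = n25913 := (sb E77726 F84393)
theorem E80955 : n67624 = n67303 := ((D67624).symm.trans (sb E77728 (iv1 D143705)))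
theorem E80956 : n143704 = n31039 := ((((iv0 D66485)).symm.trans (iv0 (sb E77730 (tr F237134 E79223))))).symm
theorem E80957 : n150599 = n31039 := (E77730).trans E80956
theorem E80958 : n67303 = n66486 := (((D66486).symm.trans (sb E80957 (tr F237135 E78684)))).symm
theorem E80959 : n53577 = n30760 := (((iv2 F84522)).symm.trans (sb E80957 (tr F237132 E78660)))
theorem E80962 : n140928 = n55250 := (((D55250).symm.trans (sb E77733 (iv3 F223961)))).symm
theorem F318257 : act 6 n26696 = n30922 := (sb E77733 (iv6 D66146))
theorem E80966 : n165671 = n29467 := ((((iv3 F47245)).symm.trans (sb E77737 (iv3 F260946)))).symm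
theorem E80967 : n36290 = n6660 := ((((iv5 D14011)).symm.trans (sb E77737 F122199))).symm
theorem E80969 : n67749 = n34265 := ((D67749).symm.trans (sb E77739 (iv1 D74784)))
theorem E80970 : n157282 = n67750 := (((D67750).symm.trans (sb E77739 F247515))).symm
theorem E80972 : n85308 = n67743 := ((((iv3 F103778)).symm.trans (sb E77739 (iv3 F316032)))).symm
theorem E80976 : n116453 = n58451 := ((D116453).symm.trans (sb E77740 (iv6 D125017)))
theorem E80977 : n66230 = n65085 := ((D66230).symm.trans (sb E77742 (iv6 D138615)))
theorem F318258 : act 1 n69669 = n65224 := (sb E77743 (iv0 D138927))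
theorem F318259 : act 0 n71293 = n65224 := (sb E77744 (iv1 D138928))
theorem F318260 : act 0 n54885 = n65234 := (sb E77745 (iv1 F222118))
theorem F318261 : act 1 n54885 = n65233 := (sb E77745 F222119)
theorem F318262 : act 7 n54885 = n65224 := (sb E77745 (iv7 D138930))
theorem E80978 : n66772 = n65216 := ((D66772).symm.trans (sb E77751 (iv7 D138909)))
theorem F318263 : act 3 n18715 = n34215 := (sb E77752 F112059)
theorem E80983 : n116477 = n58464 := ((F181764).symm.trans (sb E77753 (iv0 D125047)))
theorem E80984 : n142385 = n74935 := ((D142385).symm.trans (sb E77754 (iv5 F200884)))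
theorem E80985 : n138906 = n116475 := (((D116475).symm.trans (iv0 (sb E77755 (tr (iv1 F313854) E77756))))).symm
theorem E80986 : n167716 = n116475 := (E77755).trans E80985
theorem F318264 : act 3 n116475 = n80484 := (sb E80986 F264020)
theorem F318265 : act 5 n116475 = n80483 := (sb E80986 (iv5 D167716))
theorem E80987 : n138907 = n116474 := (((D116474).symm.trans (sb E77756 F316048))).symm
theorem E80988 : n116468 = n58469 := (((iv3 F181749)).symm.trans (sb E77756 F200885))
theorem E80989 : n116476 = n73715 := ((D116476).symm.trans (sb E77756 F313855))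
theorem E80990 : n133355 = n61259 := ((D133355).symm.trans (sb E77758 F209146))
theorem E80991 : n133359 = n61258 := ((D133359).symm.trans (sb E77758 (iv7 D130565)))
theorem F318266 : act 2 n74776 = n53951 := (sb E77760 F183101)
theorem E80992 : n157266 = n53950 := ((D157266).symm.trans (sb E77760 (iv7 D117076)))
theorem F318267 : act 3 n130556 = n85279 := (sb E77761 (iv3 D178865))
theorem E80993 : n157263 = n53949 := ((D157263).symm.trans (sb E77763 (iv1 D117068)))
theorem F318268 : act 1 n74776 = n53953 := (sb E77763 F183091)
theorem F318269 : act 4 n39421 = n61258 := (sb E77764 (iv4 D130562))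
theorem F318270 : act 4 n130561 = n85316 := (sb E77767 F278741)
theorem F318271 : act 3 n130563 = n85282 := (sb E77768 F278742)
theorem F318272 : act 3 n130564 = n85283 := (sb E77769 F278743)
theorem F318273 : act 4 n130564 = n85317 := (sb E77769 F278744)
theorem F318274 : act 3 n49959 = n72195 := (sb E77770 F237287)
theorem F318275 : act 0 n115806 = n85095 := (sb E77771 (iv1 F239944))
theorem F318276 : act 1 n115806 = n72077 := (sb E77771 (iv0 D152745))
theorem F318277 : act 0 n68793 = n65150 := (sb E77772 F169659)
theorem F318278 : act 2 n68793 = n65580 := (sb E77772 F169657)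
theorem F318279 : act 5 n68793 = n50586 := (sb E77772 (iv5 D109675))
theorem F318280 : act 7 n68793 = n65577 := (sb E77772 F169658)
theorem F318281 : act 5 n30729 = n54206 := (sb E77773 (iv5 D117676))
theorem E80995 : n175396 = n156235 := (((D156235).symm.trans (sb E77779 (iv4 F274438)))).symm
theorem E81003 : n152719 = n53725 := ((((iv4 F84756)).symm.trans (sb E77782 (iv4 F239923)))).symm
theorem E81004 : n53735 = n33273 := ((D53735).symm.trans (sb E77782 (iv6 D72051)))
theorem E81005 : n178796 = n137063 := (((F220228).symm.trans (sb E77784 (iv1 F278665)))).symm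
theorem E81006 : n178795 = n156952 := (((D156952).symm.trans (sb E77784 F278664))).symm
theorem E81007 : n178784 = n156953 := (((D156953).symm.trans (sb E77784 F278658))).symm
theorem F318282 : act 4 n74632 = n39492 := (sb E77784 F130527)
theorem E81008 : n178802 = n112964 := ((((iv5 F245463)).symm.trans (sb E77784 (iv5 F278669)))).symm
theorem E81009 : n178803 = n156954 := (((D156954).symm.trans (sb E77784 D178803))).symm
theorem F318283 : act 7 n74632 = n39384 := (sb E77784 (iv7 D85201))
theorem F318284 : act 0 n74633 = n178595 := (sb E77785 (iv1 F278354))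
theorem E81011 : n175168 = n156958 := (((D156958).symm.trans (sb E77785 (iv4 F274183)))).symm
theorem F318285 : act 7 n74633 = n39385 := (sb E77785 (iv7 D85206))
theorem E81013 : n156961 = n152785 := ((D156961).symm.trans (sb E77786 (iv1 F239989)))
theorem E81014 : n156962 = n152784 := ((D156962).symm.trans (sb E77786 F239993))
theorem F318286 : act 2 n74634 = n152787 := (sb E77786 (iv2 F239990))
theorem E81016 : n156964 = n117680 := ((D156964).symm.trans (sb E77786 (iv7 F184274)))
theorem F318287 : act 1 n72096 = n34215 := (sb E77787 (iv0 D74641))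
theorem F318288 : act 2 n72096 = n156977 := (sb E77787 D156977)
theorem F318289 : act 3 n72096 = n156978 := (sb E77787 D156978)
theorem F318290 : act 0 n71304 = n34215 := (sb E77788 (iv1 D74642))
theorem F318291 : act 7 n71304 = n156977 := (sb E77788 F247082)
theorem F318292 : act 5 n54204 = n34215 := (sb E77789 (iv5 D74643))
theorem F318293 : act 7 n54207 = n34215 := (sb E77790 (iv7 D74644))
theorem F318294 : act 1 n74653 = n178595 := (sb E77791 D178595)
theorem F318295 : act 2 n74653 = n39385 := (sb E77791 F130404)
theorem E81027 : n175407 = n157008 := (((D157008).symm.trans (sb E77791 (iv4 F274458)))).symm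
theorem E81028 : n178596 = n157009 := (((D157009).symm.trans (sb E77791 D178596))).symm
theorem F318296 : act 6 n54763 = n34218 := (sb E77792 (iv6 D74654))
theorem E81047 : n156230 = n74861 := ((D156230).symm.trans (sb E77797 F185674))
theorem E81048 : n156231 = n117681 := ((D156231).symm.trans (sb E77797 F185675))
theorem F318297 : act 2 n74320 = n119619 := (sb E77797 F188672)
theorem F318298 : act 4 n74320 = n54436 := (sb E77797 (iv4 D118165))
theorem E81049 : n156232 = n152348 := ((D156232).symm.trans (sb E77797 (iv5 F239541)))
theorem E81050 : n156233 = n119618 := ((D156233).symm.trans (sb E77797 F188668))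
theorem F318299 : act 5 n74324 = n85098 := (sb E77798 (iv5 D178659))
theorem F318300 : act 5 n74325 = n85097 := (sb E77799 (iv5 D178655))
theorem E81051 : n53718 = n34000 := ((D53718).symm.trans (sb E77800 F110840))
theorem E81052 : n141699 = n53730 := (((D53730).symm.trans (sb E77801 F225563))).symm
theorem E81054 : n66461 = n53734 := (((D53734).symm.trans (sb E77802 (tr F185128 E78751)))).symm
theorem E81055 : n124753 = n53736 := (((D53736).symm.trans (sb E77803 F241444))).symm
theorem E81056 : n124849 = n53738 := (((D53738).symm.trans (sb E77803 F241441))).symm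
theorem E81057 : n72632 = n53741 := (((D53741).symm.trans (sb E77803 (iv6 D153603)))).symm
theorem E81058 : n55072 = n53746 := (((D53746).symm.trans (sb E77804 (iv6 D119701)))).symm
theorem E81059 : n152315 = n53748 := (((D53748).symm.trans (sb E77805 D152315))).symm
theorem E81060 : n152316 = n53744 := ((((iv4 F84768)).symm.trans (sb E77805 D152316))).symm
theorem E81061 : n53749 = n33208 := ((D53749).symm.trans (sb E77805 (iv5 D71858)))
theorem E81062 : n53750 = n33278 := ((D53750).symm.trans (sb E77805 F185120))
theorem E81063 : n156670 = n65302 := ((((iv1 F316915)).symm.trans (sb E77806 D156670))).symm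
theorem F318301 : act 2 n71308 = n156672 := (sb E77806 D156672)
theorem E81065 : n156667 = n151311 := (((D151311).symm.trans (sb E77806 (iv4 F246398)))).symm
theorem E81066 : n156673 = n85393 := (((F308233).symm.trans (sb E77806 D156673))).symm
theorem F318302 : act 6 n71308 = n53643 := (sb E77806 F111839)
theorem F318303 : act 7 n71308 = n65149 := (sb E77806 F111840)
theorem E81067 : n121485 = n65580 := ((F316427).symm.trans (sb E77807 F111843))
theorem E81068 : n121451 = n65577 := ((F316428).symm.trans (sb E77807 F111844))
theorem E81069 : n156674 = n77557 := (((F316429).symm.trans (sb E77807 D156674))).symm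
theorem E81070 : n161677 = n65150 := ((F316430).symm.trans (sb E77807 F111842))
theorem E81073 : n156679 = n117678 := (((F199966).symm.trans (sb E77808 D156679))).symm
theorem E81074 : n156131 = n151303 := (((D151303).symm.trans (sb E77808 (iv4 F245347)))).symm
theorem E81076 : n156977 = n65141 := ((F318291).symm.trans (sb E77808 F111860))
theorem E81079 : n179111 = n53683 := (((D53683).symm.trans (sb E77813 D179111))).symm
theorem E81081 : n85034 = n53694 := (((D53694).symm.trans (sb E77814 F130397))).symm
theorem E81082 : n85145 = n53695 := (((D53695).symm.trans (sb E77814 F130481))).symm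
theorem F318304 : act 5 n71766 = n53817 := (sb E77815 (iv5 D116807))
theorem F318305 : act 7 n71766 = n67353 := (sb E77815 F182377)
theorem F318306 : act 0 n116808 = n151283 := (sb E77816 (iv1 F278539))
theorem F318307 : act 2 n71769 = n67367 := (sb E77818 F182381)
theorem E81084 : n80484 = n67362 := ((F300159).symm.trans (sb E77819 (iv1 F182352)))
theorem E81085 : n156777 = n53812 := ((F316708).symm.trans (sb E77819 (iv0 D116795)))
theorem E81086 : n116796 = n31171 := (E77820).trans E78071
theorem E81087 : n66922 = n53812 := ((D66922).symm.trans (sb E81086 (iv1 D116796)))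
theorem E81088 : n67362 = n66923 := (((D66923).symm.trans (sb E81086 F182356))).symm
theorem E81089 : n67361 = n65253 := (((iv1 F182357)).symm.trans (sb E77821 (tr (iv1 F299630) E79036)))
theorem E81090 : n67360 = n53649 := ((F182355).symm.trans (sb E77821 (tr F299131 E80890)))
theorem F318308 : act 4 n116797 = n177210 := (sb E77821 F299132)
theorem F318309 : act 5 n116797 = n80459 := (sb E77821 (iv5 D167651))
theorem E81091 : n80484 = n66923 := (E81084).trans E81088
theorem F318310 : act 0 n107396 = n156794 := (sb E77822 (tr F300163 E80275))
theorem F318311 : act 1 n107396 = n176976 := (sb E77822 F300164)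
theorem F318312 : act 2 n107396 = n177210 := (sb E77822 F300165)
theorem E81092 : n177211 = n67363 := (((F165442).symm.trans (sb E77822 F300166))).symm
theorem F318313 : act 5 n36692 = n53812 := (sb E77823 (iv5 D116798))
theorem F318314 : act 7 n36692 = n67364 := (sb E77823 F182359)
theorem F318315 : act 3 n74212 = n85097 := (sb E77825 (iv3 D178654))
theorem F318316 : act 3 n64423 = n85138 := (sb E77829 F278536)
theorem F318317 : act 2 n141067 = n72118 := (sb E77832 F239530)
theorem E81093 : n145662 = n118258 := (((iv4 F228703)).symm.trans (sb E77832 F239531))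
theorem F318318 : act 6 n141067 = n71872 := (sb E77832 (iv6 D152340))
theorem F318319 : act 1 n116077 = n53952 := (sb E77835 (iv0 D117081))
theorem F318320 : act 2 n115805 = n53952 := (sb E77836 F183092)
theorem E81094 : n153623 = n68244 := ((F316902).symm.trans (sb E77836 F183093))
theorem F318321 : act 5 n115805 = n53949 := (sb E77836 (iv5 D117069))
theorem F318322 : act 7 n117083 = n72102 := (sb E77837 (iv7 D152803))
theorem F318323 : act 3 n33292 = n53957 := (sb E77838 F183102)
theorem F318324 : act 5 n33292 = n53953 := (sb E77838 F183103)
theorem F318325 : act 7 n33292 = n53952 := (sb E77838 (iv7 D117084))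
theorem F318326 : act 3 n72644 = n66160 := (sb E77839 (iv3 D141074))
theorem E81095 : n153621 = n140882 := (((iv4 F241503)).symm.trans (sb E77839 (iv4 F224075)))
theorem F318327 : act 2 n141075 = n72102 := (sb E77840 F239497)
theorem F318328 : act 6 n141075 = n71868 := (sb E77840 (iv6 D152331))
theorem E81096 : n141076 = n117070 := (E77841).trans E77864
theorem F318329 : act 5 n117070 = n66160 := (sb E81096 (iv5 D141076))
theorem F318330 : act 6 n33212 = n66160 := (sb E77842 F222848)
theorem E81097 : n65561 = n16079 := (((F52527).symm.trans (sb E77842 (iv7 D139678)))).symm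
theorem F318331 : act 1 n116808 = n66162 := (sb E77843 (iv0 D141078))
theorem F318332 : act 1 n141079 = n151283 := (sb E77844 F278542)
theorem F318333 : act 6 n141080 = n85144 := (sb E77845 F278543)
theorem F318334 : act 2 n116078 = n151283 := (sb E77846 F240011)
theorem E81101 : n150902 = n53467 := ((((iv4 F84367)).symm.trans (sb E77850 (iv4 F237620)))).symm
theorem F318335 : act 4 n6970 = n7439 := (sb E77852 (iv4 D15863))
theorem E81105 : n153622 = n68247 := (((D68247).symm.trans (sb E77854 F241507))).symm
theorem E81106 : n147900 = n68249 := (((D68249).symm.trans (sb E77854 (iv5 F240267)))).symm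
theorem E81107 : n147491 = n68250 := (((D68250).symm.trans (sb E77854 F240298))).symm
theorem E81108 : n68256 = n68247 := ((D68256).symm.trans (sb E77857 (tr (iv1 F241504) E81105)))
theorem E81109 : n68257 = n58363 := ((D68257).symm.trans (sb E77857 (iv0 D124830)))
theorem E81110 : n85416 = n68260 := (((D68260).symm.trans (sb E77860 (iv3 F130658)))).symm
theorem E81111 : n85437 = n66141 := ((((iv4 F101768)).symm.trans (sb E77860 (iv4 F130665)))).symm
theorem E81112 : n68261 = n58417 := ((D68261).symm.trans (sb E77860 (iv6 F92271)))
theorem F318336 : act 7 n31763 = n18696 := (sb E77860 (iv7 D39458))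
theorem F318337 : act 0 n27809 = n14942 := (sb E77861 (iv1 D31764))
theorem F318338 : act 1 n27809 = n53957 := (sb E77861 F85091)
theorem F318339 : act 3 n27809 = n68262 := (sb E77861 D68262)
theorem E81113 : n66142 = n58444 := ((((iv4 F92302)).symm.trans (sb E77861 (iv4 F101769)))).symm
theorem F318340 : act 5 n27809 = n53638 := (sb E77861 (iv5 F84631))
theorem F318341 : act 7 n27809 = n53954 := (sb E77861 (iv7 F85092))
theorem E81114 : n68265 = n58621 := ((D68265).symm.trans (sb E77862 F200802))
theorem F318342 : act 5 n117067 = n151305 := (sb E77863 (iv5 F238018))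
theorem E81116 : n142602 = n85287 := (((iv6 F225461)).symm.trans (sb E77863 (iv6 F200289)))
theorem E81117 : n67756 = n54746 := ((F183096).symm.trans (sb E77864 (iv6 D118962)))
theorem E81118 : n67553 = n54747 := ((F182955).symm.trans (sb E77865 (iv6 D118965)))
theorem E81119 : n67754 = n54527 := (((F86144).symm.trans (sb E77866 (iv1 F103781)))).symm
theorem F318343 : act 6 n26475 = n53953 := (sb E77866 (iv6 F85083))
theorem F318344 : act 7 n26475 = n14826 := (sb E77866 (iv7 D31460))
theorem F318345 : act 6 n117090 = n55214 := (sb E77869 F187093)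
theorem F318346 : act 6 n58467 = n66153 := (sb E77870 (iv6 D141059))
theorem F318347 : act 6 n55234 = n66152 := (sb E77871 (iv6 D141056))
theorem F318348 : act 6 n109832 = n117911 := (sb E77872 F240324)
theorem E81121 : n162313 = n50584 := (((D50584).symm.trans (sb E77877 (iv3 F256447)))).symm
theorem E81122 : n35575 = n25155 := ((((iv5 F39584)).symm.trans (sb E77877 (iv5 D77978)))).symm
theorem E81123 : n162317 = n29638 := (((F47617).symm.trans (sb E77877 (iv6 F256450)))).symm
theorem E81124 : n133327 = n85990 := ((D133327).symm.trans (sb E77885 F201433))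
theorem F318349 : act 3 n67842 = n55550 := (sb E77886 (iv3 D120616))
theorem F318350 : act 3 n31775 = n58621 := (sb E77887 F201438)
theorem E81127 : n72085 = n64700 := ((D72085).symm.trans (sb E77896 (iv3 D137635)))
theorem F318351 : act 4 n6968 = n3429 := (sb E77900 (iv4 D7517))
theorem E81145 : n152983 = n64135 := ((F305898).symm.trans (sb E77906 (iv3 D136415)))
theorem F318352 : act 5 n118797 = n137859 := (sb E77906 (iv5 F221068))
theorem F318353 : act 1 n26452 = n142956 := (sb E77907 D142956)
theorem E81157 : n178387 = n129798 := ((((iv3 F208147)).symm.trans (sb E77911 (iv3 F277941)))).symm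
theorem F318354 : act 4 n60962 = n54200 := (sb E77911 F315767)
theorem E81159 : n129800 = n39266 := ((D129800).symm.trans (sb E77911 (iv6 D84874)))
theorem F318355 : act 3 n74727 = n72190 := (sb E77912 F237281)
theorem E81162 : n156781 = n53651 := (((D53651).symm.trans (sb E77931 (iv3 F246694)))).symm
theorem E81163 : n156782 = n53652 := (((D53652).symm.trans (sb E77931 (iv4 F246696)))).symm
theorem E81164 : n53654 = n34193 := ((D53654).symm.trans (sb E77931 (iv6 D74566)))
theorem E81165 : n124844 = n53506 := (((F84421).symm.trans (sb E77932 (iv4 F200515)))).symm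
theorem E81166 : n66894 = n27787 := ((D66894).symm.trans (sb E77932 (iv6 D58372)))
theorem E81167 : n66900 = n65246 := ((D66900).symm.trans (sb E77933 (iv6 D138996)))
theorem E81168 : n66907 = n34194 := ((((iv1 F53811)).symm.trans (sb E77934 D66907))).symm
theorem F318356 : act 6 n30623 = n14726 := (sb E77934 (iv6 D31166))
theorem E81172 : n156779 = n53649 := (E79040).trans E80890
theorem E81174 : n66925 = n65253 := ((D66925).symm.trans (sb E77936 (iv7 D139009)))
theorem E81176 : n69492 = n32640 := ((D69492).symm.trans (sb E77938 (iv6 D70327)))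
theorem E81177 : n68207 = n67289 := (((D67289).symm.trans (sb E77939 F182056))).symm
theorem F318357 : act 1 n70330 = n53769 := (sb E77940 F181981)
theorem F318358 : act 2 n70330 = n66893 := (sb E77940 F181978)
theorem F318359 : act 3 n72906 = n66905 := (sb E77941 F225584)
theorem F318360 : act 6 n72906 = n66893 := (sb E77941 (iv6 D142691))
theorem F318361 : act 1 n49124 = n66904 := (sb E77942 (iv0 D142710))
theorem E81178 : n127260 = n66085 := ((((iv7 F316826)).symm.trans (sb E77942 (iv7 F225620)))).symm
theorem F318362 : act 3 n140804 = n151318 := (sb E80948 F251366)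
theorem F318363 : act 7 n140804 = n76349 := (sb E80948 (iv7 D159588))
theorem F318364 : act 3 n48724 = n66904 := (sb E77944 (iv3 D142712))
theorem F318365 : act 4 n122374 = n71764 := (sb E77945 F239250)
theorem F318366 : act 6 n122374 = n71762 := (sb E77945 (iv6 D152170))
theorem F318367 : act 3 n72614 = n65302 := (sb E77946 F222278)
theorem F318368 : act 7 n72614 = n65286 := (sb E77946 (iv7 D139090))
theorem F318369 : act 1 n79706 = n75955 := (sb E78444 F250376)
theorem E81179 : n166021 = n75949 := ((D166021).symm.trans (sb E78444 (iv4 D159035)))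
theorem E81180 : n67087 = n32224 := ((D67087).symm.trans (sb E77951 F105586))
theorem E81181 : n67088 = n53731 := ((D67088).symm.trans (sb E77951 (tr (iv3 F184278) E79177)))
theorem E81182 : n147951 = n67089 := (((D67089).symm.trans (sb E77951 D147951))).symm
theorem E81183 : n67090 = n32217 := ((D67090).symm.trans (sb E77951 (iv5 D69312)))
theorem E81184 : n67091 = n59815 := ((D67091).symm.trans (sb E77951 F105587))
theorem F318370 : act 0 n31229 = n66472 := (sb E77952 (iv1 F181131))
theorem E81185 : n67092 = n66473 := ((D67092).symm.trans (sb E77952 F181128))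
theorem F318371 : act 2 n31232 = n66472 := (sb E77953 F224798)
theorem F318372 : act 5 n119948 = n66472 := (sb E77954 (iv5 D141768))
theorem F318373 : act 6 n31248 = n66472 := (sb E79144 (iv6 D141769))
theorem F318374 : act 7 n31210 = n66472 := (sb E77956 (iv7 F224796))
theorem E81186 : n67025 = n66473 := ((D67025).symm.trans (sb E77957 F181130))
theorem E81187 : n148045 = n53561 := ((D148045).symm.trans (sb E77959 (iv3 D116214)))
theorem F318375 : act 7 n69338 = n64617 := (sb E77959 F181120)
theorem F318376 : act 2 n116375 = n152713 := (sb E77960 (iv2 F239918))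
theorem E81188 : n67651 = n66470 := ((D67651).symm.trans (sb E80801 F224765))
theorem F318377 : act 3 n74286 = n74861 := (sb E77972 F237382)
theorem E81189 : n119626 = n64416 := (((F111487).symm.trans (sb E77972 F237383))).symm
theorem E81194 : n71124 = n50121 := (((F79388).symm.trans (sb E77981 D71124))).symm
theorem E81196 : n71117 = n65163 := ((((iv4 F100941)).symm.trans (sb E77981 (iv4 F107638)))).symm
theorem E81200 : n146819 = n31450 := (E77984).trans E79575
theorem E81201 : n69656 = n53948 := (((F183027).symm.trans (sb E81200 F237464))).symm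
theorem E81202 : n68830 = n67735 := (((D67735).symm.trans (sb E81200 (iv5 D146819)))).symm
theorem F318378 : act 0 n117897 = n65579 := (sb E77985 (iv1 D139722))
theorem E81203 : n139723 = n117064 := (((D117064).symm.trans (iv0 (sb E77986 (tr (iv1 D148634) E81201))))).symm
theorem E81204 : n148634 = n117064 := (E77986).trans E81203
theorem F318379 : act 3 n117064 = n147493 := (sb E81204 (iv3 F243340))
theorem F318380 : act 5 n117064 = n117270 := (sb E81204 F237521)
theorem F318381 : act 6 n117064 = n85285 := (sb E81204 (iv6 F237519))
theorem F318382 : act 6 n54060 = n65580 := (sb E77988 (iv6 D139727))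
theorem F318383 : act 3 n81582 = n65577 := (sb E77989 F222890)
theorem F318384 : act 5 n81582 = n65576 := (sb E77989 (iv5 D139717))
theorem E81205 : n56129 = n25134 := ((((iv5 F39508)).symm.trans (sb E77990 (iv5 D121540)))).symm
theorem E81210 : n72110 = n65559 := (((D65559).symm.trans (sb E78001 (iv4 F108567)))).symm
theorem E81211 : n67738 = n32653 := (((F53313).symm.trans (sb E78002 (iv2 F180179)))).symm
theorem F318385 : act 3 n33974 = n53400 := (sb E78002 (iv3 D115800))
theorem F318386 : act 6 n115801 = n71870 := (sb E78003 (iv6 D152335))
theorem F318387 : act 6 n33213 = n53400 := (sb E78004 (iv6 D115802))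
theorem E81213 : n143653 = n115803 := (((iv6 F226331)).symm.trans (iv6 (sb E78005 (tr (iv6 F241512) E81094))))
theorem E81214 : n72121 = n65536 := ((((iv1 F179604)).symm.trans (sb E78007 F278594))).symm
theorem E81220 : n85379 = n67102 := (((D67102).symm.trans (sb E78017 (iv1 F232443)))).symm
theorem E81221 : n118808 = n67045 := ((((iv3 F103031)).symm.trans (sb E78017 (iv3 F186879)))).symm
theorem E81224 : n67106 = n27813 := ((D67106).symm.trans (sb E78018 (iv6 D58454)))
theorem E81225 : n125026 = n66224 := ((((iv7 F102981)).symm.trans (sb E78018 D125026))).symm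
theorem E81226 : n153548 = n67109 := ((((iv2 F103070)).symm.trans (sb E78019 F278991))).symm
theorem E81227 : n118829 = n67120 := (((D67120).symm.trans (sb E78019 F278994))).symm
theorem E81228 : n67101 = n66717 := (((D66717).symm.trans (sb E78257 (tr D85427 E80769)))).symm
theorem E81229 : n67102 = n66719 := (((D66719).symm.trans (sb E78257 (tr (iv2 F130643) E81220)))).symm
theorem E81230 : n85429 = n64689 := ((((iv4 F161305)).symm.trans (sb E78257 D85429))).symm
theorem F318388 : act 5 n31116 = n18694 := (sb E78257 (iv5 D39452))
theorem E81231 : n85427 = n66717 := (E80769).trans E81228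
theorem E81232 : n67143 = n53748 := ((D67143).symm.trans (sb E78021 (tr F307867 E81059)))
theorem E81233 : n85379 = n66719 := (E81220).trans E81229
theorem E81234 : n67137 = n66719 := ((F103097).symm.trans (sb E78021 (tr F307869 E81233)))
theorem F318389 : act 7 n71292 = n65228 := (sb E78024 (iv7 D138944))
theorem F318390 : act 2 n69669 = n65233 := (sb E78025 (iv2 D138963))
theorem F318391 : act 7 n69669 = n65234 := (sb E78025 (iv7 F222144))
theorem F318392 : act 5 n75874 = n65233 := (sb E78026 (iv5 D138966))
theorem F318393 : act 6 n72181 = n65233 := (sb E78027 (iv6 D138967))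
theorem F318394 : act 2 n71293 = n65234 := (sb E78028 F222145)
theorem F318395 : act 7 n71293 = n65233 := (sb E78028 (iv7 D138968))
theorem F318396 : act 3 n54314 = n65234 := (sb E78029 (iv3 D138969))
theorem F318397 : act 6 n116078 = n65234 := (sb E78030 (iv6 D138972))
theorem F318398 : act 1 n54207 = n65141 := (sb E78031 (iv0 D138732))
theorem F318399 : act 0 n72097 = n65141 := (sb E78032 (iv1 D138733))
theorem E81236 : n156978 = n156672 := ((F318289).symm.trans (sb E78033 (iv3 F246410)))
theorem E81237 : n66742 = n53748 := (((E81059).symm.trans (((iv6 F239457)).symm.trans (sb E78033 F221883)))).symm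
theorem F318400 : act 5 n75938 = n65141 := (sb E78034 (iv5 D138735))
theorem E81238 : n66740 = n33273 := ((D66740).symm.trans (sb E78035 (iv1 D72049)))
theorem F318401 : act 5 n31123 = n58442 := (sb E78035 F199961)
theorem E81242 : n144403 = n56127 := (((F316423).symm.trans (sb E78039 (iv1 F227183)))).symm
theorem E81243 : n144396 = n56051 := (((F316424).symm.trans (sb E78039 (iv0 F227165)))).symm
theorem F318402 : act 0 n54712 = n65149 := (sb E78041 (iv1 D138740))
theorem E81244 : n156672 = n65299 := ((((iv0 F316928)).symm.trans (sb E78041 F246415))).symm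
theorem F318403 : act 6 n75951 = n65150 := (sb E78045 (iv6 D138745))
theorem F318404 : act 3 n30592 = n54491 := (sb E78051 (iv3 D118313))
theorem E81249 : n33353 = n14389 := (((F111202).symm.trans (sb E78055 (iv3 F52586)))).symm
theorem F318405 : act 4 n6969 = n12638 := (sb E78055 F25611)
theorem F318406 : act 6 n18702 = n14714 := (sb E78059 (iv6 D31134))
theorem E81259 : n76687 = n66815 := (((D66815).symm.trans (sb E78062 (iv6 D160124)))).symm
theorem E81260 : n66829 = n33996 := ((D66829).symm.trans (sb E78065 F85489))
theorem E81261 : n117529 = n66830 := (((D66830).symm.trans (sb E78065 (iv3 F184129)))).symm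
theorem E81262 : n117555 = n66831 := (((D66831).symm.trans (sb E78065 D117555))).symm
theorem E81263 : n66832 = n26205 := ((D66832).symm.trans (sb E78065 (iv5 D54161)))
theorem E81264 : n66833 = n32989 := ((D66833).symm.trans (sb E78065 F85490))
theorem E81265 : n66834 = n66794 := ((D66834).symm.trans (sb E78065 (tr D117556 E79169)))
theorem E81266 : n66835 = n34001 := ((D66835).symm.trans (sb E78066 F110831))
theorem E81268 : n117494 = n66837 := (((D66837).symm.trans (sb E78066 (iv5 F184040)))).symm
theorem E81269 : n120018 = n66838 := (((D66838).symm.trans (sb E78066 (iv6 F189502)))).symm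
theorem E81270 : n84472 = n66916 := (((D66916).symm.trans (sb E78069 (iv6 D177314)))).symm
theorem E81271 : n84476 = n66919 := (((D66919).symm.trans (sb E78070 (iv6 D177325)))).symm
theorem E81272 : n66924 = n18495 := ((D66924).symm.trans (sb E78071 (iv5 D38957)))
theorem F318407 : act 6 n31173 = n58308 := (sb E78073 (iv6 D124730))
theorem E81273 : n66929 = n58366 := ((D66929).symm.trans (sb E78074 (iv1 F190132)))
theorem E81274 : n118939 = n66930 := (((D66930).symm.trans (sb E78074 F187030))).symm
theorem E81275 : n152891 = n66926 := ((((iv4 F102880)).symm.trans (sb E78074 D152891))).symm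
theorem E81276 : n66931 = n33305 := ((D66931).symm.trans (sb E78074 (iv5 D72146)))
theorem E81277 : n66932 = n33544 := ((D66932).symm.trans (sb E78074 F190105))
theorem E81282 : n157553 = n66952 := (((D66952).symm.trans (sb E78077 (iv6 F248286)))).symm
theorem E81283 : n66961 = n58366 := ((D66961).symm.trans (sb E78079 (iv2 F190837)))
theorem E81284 : n152723 = n66962 := (((D66962).symm.trans (sb E78079 (iv3 F240287)))).symm
theorem E81285 : n152903 = n66963 := (((D66963).symm.trans (sb E78079 D152903))).symm
theorem E81286 : n66964 = n58319 := ((D66964).symm.trans (sb E78079 F190120))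
theorem E81287 : n152904 = n66965 := (((D66965).symm.trans (sb E78079 D152904))).symm
theorem E81288 : n66966 = n66930 := ((D66966).symm.trans (sb E78079 (tr F190856 E81274)))
theorem E81289 : n152905 = n66967 := (((D66967).symm.trans (sb E78080 D152905))).symm
theorem E81291 : n66969 = n58367 := ((D66969).symm.trans (sb E78080 F190813))
theorem E81292 : n118432 = n66970 := (((D66970).symm.trans (sb E78080 F190869))).symm
theorem F318408 : act 5 n16083 = n14731 := (sb E78081 (iv5 D31184))
theorem E81296 : n66718 = n14747 := ((D66718).symm.trans (sb E78083 (iv0 D31245)))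
theorem E81298 : n67139 = n64689 := ((((iv4 F161305)).symm.trans (sb E78083 D67139))).symm
theorem E81300 : n67142 = n53643 := ((((iv7 F84640)).symm.trans (sb E78083 D67142))).symm
theorem F318409 : act 3 n58468 = n53780 := (sb E78084 (iv3 D116708))
theorem F318410 : act 5 n74942 = n53780 := (sb E78085 (iv5 D116710))
theorem F318411 : act 6 n74075 = n53780 := (sb E78086 (iv6 D116711))
theorem E81301 : n178785 = n156952 := ((D178785).symm.trans (sb E78087 (iv2 F247025)))
theorem E81302 : n178786 = n64427 := ((D178786).symm.trans (sb E78087 (iv3 D137059)))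
theorem E81303 : n178787 = n107670 := ((D178787).symm.trans (sb E78087 F220225))
theorem E81304 : n178788 = n130558 := ((D178788).symm.trans (sb E78087 F220224))
theorem E81305 : n178790 = n137063 := ((D178790).symm.trans (sb E78087 (iv7 F220227)))
theorem E81306 : n178798 = n74259 := ((D178798).symm.trans (sb E78088 (iv1 D156113)))
theorem E81307 : n178799 = n112965 := ((D178799).symm.trans (sb E78088 (iv0 F245310)))
theorem E81308 : n178797 = n112963 := (((iv2 F278666)).symm.trans (sb E78088 F247034))
theorem E81309 : n178800 = n113066 := ((D178800).symm.trans (sb E78088 (iv4 F245309)))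
theorem F318412 : act 1 n85203 = n156924 := (sb E78089 (iv0 F246974))
theorem E81310 : n178808 = n74276 := ((D178808).symm.trans (sb E78089 (iv3 D156136)))
theorem E81311 : n175319 = n111225 := (((iv4 F274393)).symm.trans (sb E78089 F245363))
theorem F318413 : act 7 n85203 = n156957 := (sb E78089 (iv7 F247052))
theorem F318414 : act 2 n74690 = n53781 := (sb E78090 F182099)
theorem F318415 : act 7 n74690 = n53780 := (sb E78090 (iv7 D116712))
theorem F318416 : act 2 n74691 = n53780 := (sb E78091 (iv2 D116707))
theorem F318417 : act 7 n74691 = n53781 := (sb E78091 (iv7 F182098))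
theorem E81312 : n83348 = n24643 := (((F38643).symm.trans (sb E78094 F313954))).symm
theorem E81313 : n77870 = n24671 := ((((iv5 F38665)).symm.trans (sb E78094 F313955))).symm
theorem F318418 : act 1 n37291 = n67364 := (sb E78099 (iv0 D143830))
theorem F318419 : act 0 n61490 = n67364 := (sb E78100 (iv1 D143831))
theorem F318420 : act 2 n36697 = n67364 := (sb E78101 F226468)
theorem F318421 : act 4 n36683 = n67364 := (sb E78102 (iv4 D143832))
theorem F318422 : act 3 n121941 = n67367 := (sb E78103 F226473)
theorem F318423 : act 6 n121941 = n67364 := (sb E78103 (iv6 D143833))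
theorem F318424 : act 1 n61414 = n67367 := (sb E78104 (iv0 D143839))
theorem F318425 : act 7 n120030 = n67367 := (sb E78105 (iv7 D143842))
theorem F318426 : act 1 n54846 = n67353 := (sb E78106 (iv0 D143794))
theorem F318427 : act 0 n70528 = n67353 := (sb E78107 (iv1 D143795))
theorem F318428 : act 2 n74935 = n67353 := (sb E78108 F226441)
theorem F318429 : act 5 n74935 = n67351 := (sb E78108 (iv5 D143788))
theorem F318430 : act 2 n143796 = n81975 := (sb E78109 (iv2 D171026))
theorem F318431 : act 3 n143796 = n100774 := (sb E78109 F268740)
theorem F318432 : act 7 n143796 = n100825 := (sb E78109 F268741)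
theorem F318433 : act 0 n143797 = n149797 := (sb E78110 (iv1 F267623))
theorem F318434 : act 1 n143797 = n120183 := (sb E78110 (iv0 F308205))
theorem F318435 : act 2 n143797 = n81591 := (sb E78110 (iv2 D170128))
theorem F318436 : act 7 n143797 = n149798 := (sb E78110 F267621)
theorem F318437 : act 6 n69665 = n66150 := (sb E78112 (iv6 D141051))
theorem E81315 : n72248 = n53392 := ((((iv6 F84250)).symm.trans (sb E78121 (iv6 D153058)))).symm
theorem E81318 : n68262 = n53951 := ((F318339).symm.trans (sb E78125 (iv3 D117077)))
theorem F318438 : act 6 n117078 = n58437 := (sb E78126 (iv6 D124998))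
theorem F318439 : act 6 n27806 = n53951 := (sb E78128 (iv6 D117080))
theorem F318440 : act 2 n117067 = n53950 := (sb E78129 (iv2 D117071))
theorem F318441 : act 7 n117067 = n53951 := (sb E78129 (iv7 F183100))
theorem F318442 : act 0 n30927 = n53952 := (sb E78130 (iv1 D117082))
theorem E81319 : n139885 = n53956 := (((D53956).symm.trans (sb E78131 (iv4 F223107)))).symm
theorem F318443 : act 6 n117083 = n65554 := (sb E78132 (iv6 D139670))
theorem F318444 : act 3 n117067 = n53954 := (sb E78134 (iv3 D117085))
theorem F318446 : act 6 n39426 = n53954 := (sb E78136 (iv6 D117086))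
theorem E81320 : n140964 = n68264 := (((iv2 F223984)).symm.trans (sb E78502 (tr F201440 E79878)))
theorem F318447 : act 7 n66121 = n58621 := (sb E78502 (iv7 D125267))
theorem F318448 : act 0 n39768 = n53956 := (sb E78141 F101767)
theorem F318449 : act 1 n39768 = n68268 := (sb E78141 F104416)
theorem E81322 : n141023 = n35255 := (((E78593).symm.trans ((D85993).symm.trans (sb E78141 D141023)))).symm
theorem F318450 : act 3 n124749 = n68243 := (sb E78144 (iv3 F223719))
theorem F318451 : act 4 n124749 = n65976 := (sb E78144 (iv4 D140593))
theorem F318452 : act 0 n145545 = n179965 := (sb E78145 F280274)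
theorem F318453 : act 1 n145545 = n72740 := (sb E78145 F280275)
theorem F318454 : act 6 n145545 = n108203 := (sb E78145 (iv6 F311285))
theorem E81324 : n145546 = n142880 := ((((iv3 F225765)).symm.trans (iv3 (sb E78146 (tr F240285 E81287))))).symm
theorem E81325 : n153000 = n142880 := (E78146).trans E81324
theorem E81326 : n145573 = n142880 := ((D145573).symm.trans (iv7 (sb E81325 (tr F240300 E81106))))
theorem F318455 : act 6 n49974 = n68243 := (sb E78147 (iv6 D145547))
theorem E81327 : n145555 = n145542 := (((iv2 F228605)).symm.trans (iv2 (sb E78151 (tr F240296 E81106))))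
theorem F318456 : act 6 n145542 = n124887 := (sb E78151 (iv6 F240295))
theorem F318457 : act 0 n145543 = n117713 := (sb E78152 (iv1 F242930))
theorem F318458 : act 1 n145543 = n147335 := (sb E78152 F240307)
theorem E81328 : n145556 = n145543 := (((iv2 F228607)).symm.trans (iv2 (sb E78152 (tr F240303 E81107))))
theorem F318459 : act 7 n145543 = n108210 := (sb E78152 (iv7 F311294))
theorem F318460 : act 6 n145376 = n72211 := (sb E78153 (iv6 D152987))
theorem F318461 : act 2 n72644 = n68259 := (sb E78154 F228595)
theorem F318462 : act 5 n72644 = n68245 := (sb E78154 F228596)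
theorem F318463 : act 6 n33334 = n68245 := (sb E78155 F182612)
theorem E81329 : n71189 = n49637 := ((((iv6 F78407)).symm.trans (sb E78158 (iv6 D151023)))).symm
theorem F318464 : act 6 n33335 = n68165 := (sb E78160 F165774)
theorem F318465 : act 1 n124749 = n68259 := (sb E78161 F225777)
theorem F318466 : act 0 n124832 = n68259 := (sb E78162 (iv1 F228597))
theorem F318467 : act 4 n128032 = n68259 := (sb E78163 F228633)
theorem F318468 : act 7 n128032 = n68258 := (sb E78163 (iv7 D145607))
theorem F318469 : act 6 n33744 = n68259 := (sb E78164 (iv6 D145608))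
theorem F318470 : act 6 n145635 = n70986 := (sb E78175 (iv6 D150603))
theorem F318471 : act 6 n32878 = n68268 := (sb E78177 (iv6 D145637))
theorem F318474 : act 6 n140980 = n78264 := (sb E78183 (iv6 D162810))
theorem F318475 : act 6 n109851 = n78587 := (sb E78184 (iv6 D163553))
theorem F318476 : act 6 n69666 = n66154 := (sb E78185 (iv6 D141061))
theorem F318477 : act 2 n63822 = n85099 := (sb E78189 (iv2 D178662))
theorem F318478 : act 3 n74331 = n72084 := (sb E78190 (iv3 D152756))
theorem E81340 : n116543 = n73382 := (((iv3 F181885)).symm.trans (sb E78191 (iv3 F230862)))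
theorem E81341 : n116553 = n72068 := ((D116553).symm.trans (sb E78191 F185127))
theorem E81348 : n61462 = n59698 := (((E79755).symm.trans (((iv4 F316309)).symm.trans (sb E78197 F207779)))).symm
theorem E81349 : n61461 = n58456 := ((((iv4 F92331)).symm.trans (sb E78198 F207778))).symm
theorem F318479 : act 0 n66839 = n119573 := (sb E78199 F259415)
theorem E81350 : n142594 = n85286 := ((D142594).symm.trans (sb E78199 F259412))
theorem E81351 : n151760 = n142595 := (((D142595).symm.trans (sb E78199 F259413))).symm
theorem E81352 : n142597 = n85248 := ((D142597).symm.trans (sb E78199 F259414))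
theorem E81353 : n142598 = n79045 := ((D142598).symm.trans (sb E78199 (iv6 D164566)))
theorem F318480 : act 1 n66840 = n119573 := (sb E78200 F278756)
theorem E81354 : n142600 = n85327 := ((D142600).symm.trans (sb E78200 F278752))
theorem E81355 : n151304 = n142603 := (((D142603).symm.trans (sb E78200 F278754))).symm
theorem F318481 : act 0 n66795 = n85286 := (sb E78201 (iv1 F244756))
theorem E81356 : n142447 = n117382 := (((iv6 F225365)).symm.trans (sb E78201 F244755))
theorem F318482 : act 7 n66795 = n119573 := (sb E78201 F244754)
theorem E81359 : n142549 = n117383 := (((D117383).symm.trans (sb E78202 D142549))).symm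
theorem F318483 : act 5 n54093 = n31145 := (sb E78202 (iv5 D66827))
theorem F318484 : act 6 n54093 = n31148 := (sb E78202 F102671)
theorem F318485 : act 3 n85431 = n49706 := (sb E78203 (iv3 D107596))
theorem E81360 : n179057 = n62985 := ((D179057).symm.trans (sb E78203 F165998))
theorem E81361 : n179060 = n49736 := ((D179060).symm.trans (sb E78203 F165999))
theorem F318486 : act 0 n107628 = n85989 := (sb E78204 (iv1 F201263))
theorem F318487 : act 1 n107628 = n85988 := (sb E78204 F201261)
theorem F318488 : act 2 n107628 = n58549 := (sb E78204 (iv2 D125189))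
theorem F318489 : act 5 n107628 = n179653 := (sb E78204 (iv5 F279789))
theorem F318490 : act 3 n107629 = n179653 := (sb E78205 (iv3 F279788))
theorem E81362 : n133438 = n86015 := (((iv3 F214564)).symm.trans (sb E78219 F250387))
theorem F318491 : act 3 n129502 = n75955 := (sb E78220 F250388)
theorem E81364 : n54475 = n53868 := (((F112177).symm.trans (sb E78227 F185777))).symm
theorem F318492 : act 3 n74396 = n54704 := (sb E78238 (iv3 D118852))
theorem E81367 : n54720 = n53436 := (((F111636).symm.trans (sb E78238 F186914))).symm
theorem E81373 : n116484 = n54726 := (((D54726).symm.trans (sb E78246 (iv2 F181781)))).symm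
theorem F318493 : act 5 n26465 = n25986 := (sb E78246 (iv5 D53696))
theorem F318494 : act 5 n26468 = n31185 := (sb E78247 F102908)
theorem F318495 : act 3 n74240 = n72087 := (sb E78248 F239975)
theorem E81382 : n140967 = n68268 := (((F318449).symm.trans (sb E78277 F228750))).symm
theorem F318496 : act 0 n14636 = n30914 := (sb E78278 F207807)
theorem E81384 : n139878 = n30921 := (((D30921).symm.trans (sb E78278 (iv4 F223096)))).symm
theorem F318497 : act 1 n32874 = n30914 := (sb E78279 (iv0 D66118))
theorem E81392 : n140965 = n68302 := ((((iv7 F315178)).symm.trans (sb E78280 F228767))).symm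
theorem F318498 : act 2 n39771 = n30914 := (sb E78281 (iv2 D66120))
theorem F318499 : act 3 n144466 = n85760 := (sb E78282 (iv3 D179605))
theorem E81393 : n131632 = n131485 := (((F317338).symm.trans (sb E78282 F279716))).symm
theorem E81394 : n85781 = n67656 := ((F162559).symm.trans (sb E78283 (iv1 F227146)))
theorem E81395 : n74162 = n67655 := (((iv0 F162560)).symm.trans (sb E78283 F227147))
theorem F318500 : act 3 n105854 = n139821 := (sb E78283 F227143)
theorem F318501 : act 2 n74797 = n59758 := (sb E78284 F204530)
theorem F318502 : act 7 n74797 = n59757 := (sb E78284 (iv7 D127298))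
theorem F318503 : act 3 n84435 = n59758 := (sb E78285 (iv3 D127299))
theorem F318504 : act 4 n78264 = n59758 := (sb E78286 (iv4 D127300))
theorem F318505 : act 5 n50039 = n59758 := (sb E78287 (iv5 D127301))
theorem F318506 : act 2 n74802 = n59757 := (sb E78288 (iv2 D127293))
theorem F318507 : act 7 n74802 = n59758 := (sb E78288 (iv7 F204529))
theorem F318508 : act 4 n78262 = n59757 := (sb E78289 (iv4 D127295))
theorem F318509 : act 5 n50040 = n59757 := (sb E78290 (iv5 D127296))
theorem F318510 : act 6 n60431 = n59757 := (sb E78291 (iv6 D127297))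
theorem F318511 : act 4 n55872 = n59685 := (sb E78292 F204234)
theorem F318512 : act 6 n55872 = n59592 := (sb E78292 (iv6 D126974))
theorem F318513 : act 0 n52216 = n85468 := (sb E78293 (iv1 D179113))
theorem E81396 : n128483 = n113131 := (((D113131).symm.trans (sb E78293 F279066))).symm
theorem F318514 : act 3 n85533 = n49714 := (sb E78294 F166041)
theorem E81397 : n179230 = n108034 := ((D179230).symm.trans (sb E78294 (iv4 F166974)))
theorem E81398 : n159125 = n115224 := (((iv5 F250533)).symm.trans (sb E78294 (iv5 F179435)))
theorem F318515 : act 0 n27883 = n25913 := (sb E78301 (iv1 D53496))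
theorem F318516 : act 1 n27883 = n30922 := (sb E78301 F84400)
theorem F318517 : act 5 n27883 = n31099 := (sb E78301 F84401)
theorem E81401 : n39842 = n34571 := ((D39842).symm.trans (sb E78302 F113403))
theorem F318518 : act 5 n18853 = n34567 := (sb E78302 (iv5 D75557))
theorem F318519 : act 3 n39694 = n71684 := (sb E78305 (iv3 D152049))
theorem F318520 : act 3 n152050 = n85837 := (sb E78307 F279915)
theorem F318521 : act 5 n120049 = n76971 := (sb E78308 (iv5 D160534))
theorem E81404 : n121010 = n59597 := (E78309).trans E79747
theorem E81405 : n116560 = n74105 := (((iv2 F181917)).symm.trans (sb E81404 (tr (iv2 F261018) E78447)))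
theorem E81406 : n180596 = n126978 := ((((iv3 F204237)).symm.trans (sb E81404 (iv3 F281107)))).symm
theorem E81407 : n126987 = n55807 := ((D126987).symm.trans (sb E81404 (iv5 D121010)))
theorem F318522 : act 5 n120064 = n78717 := (sb E78310 (iv5 D163867))
theorem F318523 : act 5 n120066 = n55932 := (sb E78311 (iv5 D121246))
theorem E81408 : n116465 = n58458 := (((iv4 F181735)).symm.trans (sb E78312 (iv4 D125039)))
theorem E81411 : n164995 = n126973 := ((((iv2 F204228)).symm.trans (sb E78315 (iv2 F260173)))).symm
theorem E81412 : n165979 = n28293 := (((F94017).symm.trans (sb E78315 (iv3 F261389)))).symm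
theorem E81413 : n127015 = n77975 := (((iv4 F204261)).symm.trans (sb E78315 F122372))
theorem E81414 : n127019 = n36287 := ((D127019).symm.trans (sb E78315 (iv6 D79695)))
theorem E81416 : n127006 = n127000 := ((D127006).symm.trans (iv6 (sb E78317 (tr F237149 E79751))))
theorem E81417 : n70934 = n64833 := (((D64833).symm.trans (sb E78318 (iv6 D150511)))).symm
theorem F318524 : act 1 n32861 = n127198 := (sb E78320 D127198)
theorem F318525 : act 2 n32861 = n28336 := (sb E78320 F94103)
theorem E81422 : n127168 = n62461 := (((E80736).symm.trans ((D70945).symm.trans (sb E78320 (iv4 F204446))))).symm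
theorem F318526 : act 6 n32861 = n28332 := (sb E78320 (iv6 D59713))
theorem E81424 : n127196 = n70857 := ((((iv7 F110568)).symm.trans (sb E78320 (iv7 F204462)))).symm
theorem E81425 : n155947 = n127131 := (((D127131).symm.trans (sb E78321 F282961))).symm
theorem E81428 : n127138 = n34022 := ((D127138).symm.trans (sb E78323 (iv1 D74170)))
theorem E81429 : n127139 = n60438 := ((D127139).symm.trans (sb E78323 F110903))
theorem F318527 : act 5 n59691 = n85783 := (sb E78323 F131553)
theorem E81430 : n127141 = n60436 := ((D127141).symm.trans (sb E78323 F110904))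
theorem E81431 : n126884 = n62678 := (E78328).trans E80783
theorem F318528 : act 1 n62678 = n59689 := (sb E81431 F204139)
theorem E81432 : n133561 = n59547 := ((D133561).symm.trans (sb E81431 (iv3 D126884)))
theorem E81433 : n116466 = n58459 := (((E78549).symm.trans (((iv4 F212636)).symm.trans (sb E81431 F204134)))).symm
theorem E81434 : n163381 = n29092 := (E78330).trans E80786
theorem E81437 : n78511 = n29561 := ((((iv6 F47426)).symm.trans (sb E81434 (iv6 D163381)))).symm
theorem F318529 : act 5 n120046 = n79202 := (sb E78424 F299784)
theorem F318530 : act 4 n120046 = n59691 := (sb E78332 F204386)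
theorem F318531 : act 6 n120046 = n59689 := (sb E78332 (iv6 D127133))
theorem F318532 : act 5 n120045 = n76193 := (sb E78333 (iv5 D159256))
theorem F318533 : act 5 n155759 = n80070 := (sb E78334 (iv5 D166813))
theorem F318534 : act 1 n83565 = n74070 := (sb E78336 F189519)
theorem E81438 : n174967 = n74073 := (((iv2 F273846)).symm.trans (sb E78336 F189514))
theorem E81439 : n174969 = n55235 := ((D174969).symm.trans (sb E78336 F189515))
theorem E81440 : n174970 = n74097 := ((D174970).symm.trans (sb E78336 F189516))
theorem E81441 : n174962 = n55232 := ((F273844).symm.trans (sb E78336 (iv7 D120026)))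
theorem E81445 : n174966 = n16440 := ((((iv6 D33991)).symm.trans (sb E78337 D174966))).symm
theorem E81446 : n167106 = n74167 := ((D167106).symm.trans (sb E78338 F207938))
theorem F318535 : act 7 n80222 = n74070 := (sb E78338 (iv7 F208060))
theorem F318536 : act 5 n76964 = n74094 := (sb E78340 (iv5 D155761))
theorem E81447 : n127166 = n79592 := ((D127166).symm.trans (iv5 (sb E78341 (tr (iv5 D155763) E79757))))
theorem F318537 : act 5 n163915 = n85317 := (sb E78342 (iv5 D178941))
theorem F318538 : act 5 n32870 = n60875 := (sb E78345 (iv5 D129585))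
theorem E81448 : n130903 = n120058 := ((D130903).symm.trans (sb E78348 F189705))
theorem E81449 : n144684 = n129584 := ((D144684).symm.trans (iv5 (sb E78349 (tr (iv5 D150570) E79690))))
theorem F318539 : act 6 n129584 = n155795 := (sb E78349 (iv6 F244800))
theorem E81450 : n155799 = n62573 := (((D62573).symm.trans (sb E78350 (iv6 F244805)))).symm
theorem F318540 : act 0 n74114 = n134705 := (sb E78351 F216712)
theorem E81451 : n155798 = n63670 := ((D155798).symm.trans (sb E78351 F217788))
theorem F318541 : act 6 n74114 = n60875 := (sb E78351 (iv6 D129586))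
theorem E81453 : n161377 = n120011 := ((((iv2 F189486)).symm.trans (sb E78352 (iv2 F310823)))).symm
theorem E81454 : n150565 = n119313 := ((D150565).symm.trans (sb E78352 (iv3 F310119)))
theorem E81456 : n150566 = n35471 := ((D150566).symm.trans (sb E78352 (iv5 D77711)))
theorem E81458 : n120008 = n119562 := (((iv7 F189461)).symm.trans (sb E78352 (iv7 F310821)))
theorem E81459 : n161779 = n150562 := (((D150562).symm.trans (sb E78353 (iv3 F255778)))).symm
theorem E81461 : n150563 = n35470 := ((D150563).symm.trans (sb E78353 (iv5 D77706)))
theorem F318542 : act 5 n55257 = n61413 := (sb E78354 (iv5 D130902))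
theorem F318543 : act 5 n161708 = n79560 := (sb E78355 (iv5 D165649))
theorem F318544 : act 7 n161708 = n180218 := (sb E78355 F306735)
theorem F318545 : act 5 n36234 = n77670 := (sb E78356 F306024)
theorem E81463 : n180211 = n45946 := ((D180211).symm.trans (sb E78357 (iv1 F151626)))
theorem E81464 : n180212 = n82584 := ((D180212).symm.trans (sb E78357 F151625))
theorem E81465 : n180205 = n54864 := (((iv2 F280543)).symm.trans (sb E78357 F151467))
theorem E81466 : n180213 = n170161 := ((D180213).symm.trans (sb E78357 (iv4 F267690)))
theorem E81467 : n180214 = n45875 := ((D180214).symm.trans (sb E78357 (iv6 D98180)))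
theorem F318546 : act 7 n86095 = n82583 := (sb E78357 (iv7 F151469))
theorem F318547 : act 6 n27042 = n39854 := (sb E78358 (iv6 D86098))
theorem E81472 : n170693 = n82542 := ((D170693).symm.trans (sb E78359 F309962))
theorem F318548 : act 5 n81828 = n82445 := (sb E78359 (iv5 D172149))
theorem E81473 : n82537 = n79557 := ((((iv7 F303311)).symm.trans (sb E78359 F309963))).symm
theorem F318549 : act 5 n36233 = n77669 := (sb E78362 F306018)
theorem E81476 : n159260 = n113171 := ((((iv2 F176333)).symm.trans (sb E78364 D159260))).symm
theorem E81477 : n110037 = n34804 := (((iv3 F170166)).symm.trans (sb E78364 (iv3 D76195)))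
theorem E81478 : n77512 = n28124 := (((F93429).symm.trans (sb E78364 (iv4 F303181)))).symm
theorem F318550 : act 5 n59223 = n60785 := (sb E78364 F315914)
theorem E81479 : n59021 = n55661 := ((F93430).symm.trans (sb E78364 F302153))
theorem F318551 : act 3 n60793 = n59222 := (sb E78365 F170165)
theorem E81480 : n158947 = n113171 := ((((iv1 F176336)).symm.trans (sb E78366 (iv1 F250284)))).symm
theorem E81481 : n119380 = n109748 := ((((iv2 F169733)).symm.trans (sb E78366 (iv2 F188065)))).symm
theorem E81482 : n178451 = n126325 := (((D126325).symm.trans (sb E78366 (iv3 F278051)))).symm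
theorem E81484 : n126326 = n39285 := ((D126326).symm.trans (sb E78366 (iv5 D84915)))
theorem E81487 : n173215 = n126327 := (((D126327).symm.trans (sb E78367 (iv3 F271520)))).symm
theorem E81489 : n126328 = n39286 := ((D126328).symm.trans (sb E78367 (iv5 D84920)))
theorem E81492 : n158311 = n132074 := (((F211559).symm.trans (sb E78368 (iv2 F249424)))).symm
theorem F318552 : act 5 n62270 = n38023 := (sb E78368 (iv5 D82721))
theorem E81494 : n172765 = n132690 := (((D132690).symm.trans (sb E78368 (iv6 F271030)))).symm
theorem E81495 : n132694 = n84907 := ((D132694).symm.trans (sb E78369 (iv5 D178434)))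
theorem F318553 : act 0 n129335 = n63667 := (sb E78370 (iv1 D135450))
theorem F318554 : act 1 n129335 = n119114 := (sb E78370 (iv0 F311319))
theorem F318555 : act 2 n129335 = n119120 := (sb E78370 (iv2 F314476))
theorem F318556 : act 5 n129335 = n120156 := (sb E78370 (iv5 F244051))
theorem E81496 : n132592 = n60783 := ((((iv6 D129335)).symm.trans (sb E78370 F244053))).symm
theorem F318557 : act 7 n129335 = n119011 := (sb E78370 (iv7 F314478))
theorem E81497 : n61004 = n29464 := (((F96873).symm.trans (sb E78371 (iv5 D129873)))).symm
theorem F318558 : act 6 n62149 = n119120 := (sb E78371 (iv6 F314477))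
theorem F318559 : act 0 n39450 = n67145 := (sb E78372 (iv1 F226125))
theorem F318560 : act 7 n39441 = n67145 := (sb E78373 F226106)
theorem F318561 : act 2 n39445 = n67145 := (sb E78377 F226123)
theorem F318562 : act 3 n124981 = n67145 := (sb E78378 F226126)
theorem F318563 : act 4 n39441 = n67145 := (sb E78379 (iv4 D143358))
theorem F318564 : act 6 n39439 = n67145 := (sb E78380 (iv6 D143359))
theorem F318565 : act 1 n71862 = n53636 := (sb E78387 (iv0 D116371))
theorem E81499 : n53747 = n53636 := ((D53747).symm.trans (sb E78388 (iv1 D116372)))
theorem F318566 : act 2 n72048 = n53636 := (sb E78389 (iv2 D116373))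
theorem F318567 : act 2 n115527 = n152712 := (sb E78390 (iv2 F239917))
theorem E81501 : n67103 = n53643 := ((D67103).symm.trans (sb E78399 (iv0 D116380)))
theorem E81502 : n167172 = n61009 := ((((iv2 F207722)).symm.trans (sb E78404 F272655))).symm
theorem E81503 : n132584 = n83198 := ((D132584).symm.trans (sb E78404 (iv5 D174012)))
theorem F318568 : act 5 n17711 = n14699 := (sb E78415 (iv5 D31089))
theorem E81515 : n126681 = n78416 := (((D78416).symm.trans (sb E78419 (iv2 F203854)))).symm
theorem F318569 : act 5 n35736 = n28294 := (sb E78419 (iv5 D59622))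
theorem F318576 : act 5 n74093 = n86187 := (sb E78429 (iv5 D180469))
theorem F318577 : act 5 n120044 = n78353 := (sb E78431 (iv5 D162965))
theorem F318578 : act 7 n120044 = n180476 := (sb E78431 (iv7 F280900))
theorem F318579 : act 5 n78270 = n61205 := (sb E78432 (iv5 D130444))
theorem E81521 : n133131 = n55225 := ((((iv7 F313999)).symm.trans (sb E78432 (iv7 F213832)))).symm
theorem F318580 : act 5 n161596 = n80611 := (sb E78433 (iv5 D167938))
theorem F318581 : act 7 n161596 = n158406 := (sb E78433 (tr (iv7 F305010) E80372))
theorem E81522 : n129605 = n53738 := ((F225566).symm.trans (sb E78434 (tr F241938 E81056)))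
theorem F318582 : act 6 n142678 = n72842 := (sb E78434 (iv6 D153928))
theorem F318583 : act 4 n58458 = n28875 := (sb E78435 (iv4 D60882))
theorem F318584 : act 5 n58458 = n66879 := (sb E78435 F102735)
theorem E81523 : n129589 = n119196 := ((((iv6 F187563)).symm.trans (sb E78435 (iv6 F207765)))).symm
theorem E81524 : n161317 = n35856 := ((((iv5 D78756)).symm.trans (sb E78436 F255538))).symm
theorem E81525 : n163914 = n159030 := ((((iv3 F250364)).symm.trans (sb E78437 (iv3 F258341)))).symm
theorem F318585 : act 5 n75948 = n35851 := (sb E78437 (iv5 D78745))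
theorem F318586 : act 5 n85326 = n51827 := (sb E78439 (iv5 D112342))
theorem F318587 : act 1 n146193 = n78727 := (sb E78440 F258314)
theorem E81528 : n166014 = n60955 := (((iv6 F261409)).symm.trans (sb E78441 (iv6 D129791)))
theorem F318591 : act 4 n78727 = n66448 := (sb E78442 (iv4 D141697))
theorem E81529 : n166146 = n56086 := (((F302270).symm.trans (sb E78443 (iv0 F261630)))).symm
theorem E81530 : n180581 = n77659 := (((F193813).symm.trans (sb E78443 (iv2 F281074)))).symm
theorem F318592 : act 6 n121450 = n78727 := (sb E78443 (iv6 D163894))
theorem F318593 : act 5 n78531 = n132637 := (sb E78445 (iv5 F212912))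
theorem E81531 : n61030 = n35775 := ((((iv6 D78531)).symm.trans (sb E78445 (iv6 D129949)))).symm
theorem F318594 : act 5 n129502 = n78722 := (sb E78446 (iv5 D163881))
theorem F318595 : act 7 n129502 = n180579 := (sb E78446 (iv7 F281070))
theorem F318597 : act 6 n74105 = n162480 := (sb E78447 F261019)
theorem F318598 : act 1 n75140 = n51834 := (sb E78448 F171343)
theorem E81532 : n56247 = n51014 := (((iv5 F316335)).symm.trans (sb E78448 (iv5 D110632)))
theorem F318599 : act 5 n27102 = n53992 := (sb E78449 (iv5 D117154))
theorem E81533 : n126867 = n78719 := ((D126867).symm.trans (sb E78451 (iv5 D163874)))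
theorem F318600 : act 5 n35844 = n66440 := (sb E78452 (iv5 D141672))
theorem E81534 : n166350 = n52295 := ((D166350).symm.trans (sb E78453 (iv0 F175273)))
theorem E81535 : n166344 = n69177 := (((iv2 F261933)).symm.trans (sb E78453 F175271))
theorem F318601 : act 5 n79875 = n69175 := (sb E78453 (iv5 F175274))
theorem F318602 : act 0 n78510 = n51971 := (sb E78454 (iv1 D112621))
theorem E81536 : n163375 = n110607 := (((iv3 F257665)).symm.trans (sb E78454 F175240))
theorem E81537 : n109417 = n43118 := (((F119694).symm.trans (sb E78454 F175237))).symm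
theorem F318603 : act 1 n39811 = n51971 := (sb E78455 (iv0 D112620))
theorem E81538 : n109394 = n18835 := (((F60638).symm.trans (sb E78455 F175231))).symm
theorem E81539 : n35777 = n11968 := ((F56448).symm.trans (sb E78456 (iv1 D25219)))
theorem E81540 : n33912 = n24823 := (((iv0 F53257)).symm.trans (sb E78456 F39727))
theorem E81541 : n51975 = n36384 := ((((iv3 F57138)).symm.trans (sb E78456 D51975))).symm
theorem E81543 : n120904 = n69192 := (((D69192).symm.trans (sb E78458 (iv6 F305016)))).symm
theorem E81544 : n51970 = n47686 := ((D51970).symm.trans (sb E78459 F119076))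
theorem E81545 : n26945 = n24781 := ((((iv5 F105477)).symm.trans (sb E78459 F299310))).symm
theorem E81546 : n51973 = n26911 := ((D51973).symm.trans (sb E78459 (iv6 D55758)))
theorem F318604 : act 6 n55757 = n51971 := (sb E78460 (iv6 D112622))
theorem E81547 : n84548 = n59045 := ((((iv3 F169959)).symm.trans (sb E78461 F276872))).symm
theorem F318605 : act 4 n52262 = n84612 := (sb E78461 F276873)
theorem E81548 : n113221 = n84542 := ((D113221).symm.trans (sb E78461 (iv6 D177455)))
theorem E81549 : n163927 = n113374 := ((D163927).symm.trans (sb E78462 (iv1 F176570)))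
theorem E81550 : n163928 = n59164 := ((D163928).symm.trans (sb E78462 (iv0 F170210)))
theorem E81551 : n163929 = n69212 := ((D163929).symm.trans (sb E78462 F170209))
theorem E81552 : n163921 = n126377 := (((iv4 F258352)).symm.trans (sb E78462 (iv4 F203208)))
theorem E81553 : n11694 = n8129 := ((((iv1 D17363)).symm.trans (sb E78463 (iv1 D24708)))).symm
theorem E81554 : n50765 = n35855 := (((D35855).symm.trans (sb E78463 D50765))).symm
theorem E81555 : n35857 = n24699 := ((D35857).symm.trans (sb E78463 (iv5 F81312)))
theorem E81556 : n50768 = n35858 := (((D35858).symm.trans (sb E78463 D50768))).symm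
theorem F318606 : act 3 n32188 = n35851 := (sb E78466 (iv3 D78744))
theorem E81560 : n163906 = n59862 := (((F94320).symm.trans (sb E78466 (iv4 F258333)))).symm
theorem E81561 : n159030 = n59876 := ((((iv5 F94348)).symm.trans (sb E78466 (tr D163914 E81525)))).symm
theorem E81562 : n163915 = n69214 := (((D69214).symm.trans (sb E78466 D163915))).symm
theorem E81563 : n50760 = n35850 := (((D35850).symm.trans (sb E78467 D50760))).symm
theorem E81564 : n35852 = n24698 := ((D35852).symm.trans (sb E78467 (iv5 F81308)))
theorem E81565 : n50763 = n35853 := (((D35853).symm.trans (sb E78467 D50763))).symm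
theorem E81567 : n111685 = n39913 := (((D39913).symm.trans (sb E78470 (iv3 F173259)))).symm
theorem E81568 : n51832 = n39914 := (((D39914).symm.trans (sb E78470 (iv4 F169948)))).symm
theorem E81569 : n59303 = n39915 := (((D39915).symm.trans (sb E78470 F169944))).symm
theorem E81570 : n38871 = n25145 := ((F255003).symm.trans (sb E78471 (iv3 D51789)))
theorem E81571 : n51833 = n39909 := (((D39909).symm.trans (sb E78471 F81853))).symm
theorem E81572 : n51722 = n39910 := (((D39910).symm.trans (sb E78471 F81783))).symm
theorem E81574 : n84549 = n13389 := ((((iv1 F169957)).symm.trans (sb E78472 D84549))).symm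
theorem E81575 : n84550 = n13387 := ((((iv0 F169958)).symm.trans (sb E78472 D84550))).symm
theorem E81576 : n84372 = n13385 := ((((iv2 D28059)).symm.trans (sb E78472 (iv2 F129476)))).symm
theorem F318607 : act 3 n28059 = n18559 := (sb E78472 F60012)
theorem E81577 : n50955 = n48517 := (((iv5 F170329)).symm.trans (sb E78472 (iv5 F76353)))
theorem E81578 : n59047 = n18506 := ((D59047).symm.trans (sb E78472 (iv6 D38999)))
theorem E81579 : n109602 = n18872 := ((((iv1 F44801)).symm.trans (sb E78473 (iv1 F173350)))).symm
theorem E81580 : n51604 = n18542 := ((((iv0 F44800)).symm.trans (sb E78473 F173356))).symm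
theorem E81581 : n78716 = n28137 := (((iv3 F119857)).symm.trans (sb E78475 F80145))
theorem F318608 : act 4 n35848 = n68782 := (sb E78475 F314980)
theorem E81582 : n24710 = n17361 := ((((iv5 D35848)).symm.trans (sb E78475 (iv5 D50773)))).symm
theorem F318609 : act 7 n35848 = n51834 := (sb E78475 (iv7 F81855))
theorem F318610 : act 3 n127755 = n67633 := (sb E78478 F227079)
theorem F318611 : act 6 n127755 = n138585 := (sb E78478 F227081)
theorem E81583 : n131037 = n67628 := (((iv7 F317757)).symm.trans (sb E78478 (iv7 D144341)))
theorem F318612 : act 5 n31420 = n48937 := (sb E78479 (iv5 D105857))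
theorem F318613 : act 7 n31420 = n59988 := (sb E78479 (iv7 F182281))
theorem E81584 : n67624 = n66486 := (E80955).trans E80958
theorem F318614 : act 3 n125266 = n68288 := (sb E78486 F228754)
theorem E81586 : n141012 = n140968 := (((D140968).symm.trans (sb E78487 D141012))).symm
theorem E81588 : n140762 = n116028 := ((((iv2 F180780)).symm.trans (sb E78489 F227110))).symm
theorem E81589 : n136823 = n116060 := (((D116060).symm.trans (sb E78489 F227112))).symm
theorem E81590 : n145563 = n140927 := ((((iv4 F223960)).symm.trans (sb E78493 (iv4 F228759)))).symm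
theorem E81593 : n67653 = n15831 := (((F42793).symm.trans (sb E78496 (iv7 D144373)))).symm
theorem F318616 : act 3 n31777 = n31099 := (sb E78499 F102584)
theorem F318617 : act 3 n65132 = n30915 := (sb E78501 F101755)
theorem F318618 : act 5 n65132 = n30914 := (sb E78501 (iv5 D66122))
theorem E81599 : n179033 = n115954 := ((((iv4 F180563)).symm.trans (sb E78505 (iv4 F278961)))).symm
theorem E81600 : n179035 = n115959 := (((D115959).symm.trans (sb E78506 (iv1 F278969)))).symm
theorem E81601 : n138307 = n115960 := (((D115960).symm.trans (sb E78506 (iv0 F315847)))).symm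
theorem E81602 : n116059 = n86798 := ((D116059).symm.trans (sb E78507 (iv0 F235104)))
theorem E81604 : n179070 = n116072 := (((D116072).symm.trans (sb E78508 D179070))).symm
theorem E81606 : n154684 = n140571 := ((((iv4 F223705)).symm.trans (sb E78511 (iv4 F242841)))).symm
theorem E81607 : n153746 = n140822 := ((((iv5 F223895)).symm.trans (sb E78511 (iv5 F241613)))).symm
theorem E81608 : n115855 = n54506 := (((iv6 F180342)).symm.trans (sb E78511 (iv6 D118347)))
theorem E81609 : n115777 = n54507 := (((iv6 F180151)).symm.trans (sb E78512 (iv6 D118349)))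
theorem E81610 : n153514 = n140927 := ((((iv4 F223960)).symm.trans (sb E78513 (iv4 F241268)))).symm
theorem E81611 : n115853 = n54487 := (((F86049).symm.trans (sb E78514 (iv1 F180337)))).symm
theorem F318620 : act 6 n26361 = n30909 := (sb E78514 F84278)
theorem F318621 : act 0 n66145 = n39455 := (sb E78515 F110782)
theorem F318622 : act 6 n60432 = n67445 := (sb E78516 F226597)
theorem E81615 : n138369 = n68721 := ((((iv1 F104910)).symm.trans (sb E78518 (iv1 F315002)))).symm
theorem E81616 : n105813 = n74431 := ((D105813).symm.trans (sb E78518 F312543))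
theorem E81617 : n105811 = n31669 := (((iv3 F162515)).symm.trans (sb E78518 F104177))
theorem E81618 : n145189 = n105814 := (((D105814).symm.trans (sb E78518 D145189))).symm
theorem E81619 : n154957 = n137949 := (((D137949).symm.trans (sb E78519 (iv4 F243663)))).symm
theorem E81620 : n137950 = n70282 := ((D137950).symm.trans (sb E78519 (iv6 D149653)))
theorem F318623 : act 6 n32617 = n59708 := (sb E78520 (iv6 D127181))
theorem E81623 : n133558 = n59700 := (((D59700).symm.trans (sb E78523 (iv3 F214834)))).symm
theorem E81624 : n59701 = n29635 := ((D59701).symm.trans (sb E78523 F97776))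
theorem F318624 : act 2 n145670 = n74493 := (sb E78524 (iv2 D156661))
theorem F318625 : act 4 n69672 = n68286 := (sb E78525 F228739)
theorem F318626 : act 6 n69672 = n68285 := (sb E78525 (iv6 D145677))
theorem F318627 : act 6 n72055 = n53730 := (sb E78529 (iv6 D116601))
theorem F318628 : act 3 n116549 = n147261 := (sb E78530 (iv3 F230858))
theorem F318629 : act 5 n116549 = n68836 := (sb E78530 (iv5 D146833))
theorem F318630 : act 7 n116549 = n68896 := (sb E78530 F230186)
theorem E81628 : n159005 = n129805 := ((((iv3 F208150)).symm.trans (sb E78531 (iv3 F250341)))).symm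
theorem F318631 : act 4 n60971 = n34702 := (sb E78531 F113821)
theorem E81630 : n129808 = n34701 := ((D129808).symm.trans (sb E78531 (iv6 D75931)))
theorem F318632 : act 1 n54348 = n66450 := (sb E78532 (iv0 D141701))
theorem F318633 : act 0 n54005 = n66450 := (sb E78533 (iv1 D141702))
theorem F318634 : act 4 n55642 = n66450 := (sb E78535 F224753)
theorem F318635 : act 6 n55642 = n66449 := (sb E78535 (iv6 D141700))
theorem F318636 : act 1 n145668 = n85973 := (sb E78536 (iv0 D179924))
theorem F318637 : act 5 n145668 = n145667 := (sb E78536 (tr F280204 E78537))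
theorem F318638 : act 6 n145668 = n131600 := (sb E78536 F280203)
theorem F318639 : act 0 n145667 = n85973 := (sb E78537 (iv1 D179925))
theorem F318640 : act 6 n145667 = n145128 := (sb E78537 F280205)
theorem F318641 : act 6 n145665 = n74493 := (sb E78538 F228807)
theorem F318642 : act 6 n66125 = n59758 := (sb E78539 (iv6 D127302))
theorem F318643 : act 5 n32052 = n66828 := (sb E78540 F225432)
theorem F318644 : act 5 n116435 = n117907 := (sb E78541 F315642)
theorem F318645 : act 6 n116435 = n66880 := (sb E78541 F225540)
theorem F318646 : act 4 n52963 = n54018 := (sb E78542 F183355)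
theorem F318647 : act 7 n52963 = n54014 := (sb E78542 (iv7 D117194))
theorem F318648 : act 3 n114833 = n81743 := (sb E78543 (iv3 D170533))
theorem F318649 : act 0 n32653 = n66881 := (sb E78544 (iv1 D142686))
theorem E81631 : n116240 = n70347 := (((D70347).symm.trans (sb E78544 F225580))).symm
theorem E81632 : n149753 = n65461 := (E78545).trans E80907
theorem E81633 : n139488 = n117906 := ((D139488).symm.trans (sb E81632 F235533))
theorem E81634 : n67646 = n66480 := ((((iv1 F102367)).symm.trans (sb E78546 (tr F235537 E78750)))).symm
theorem E81635 : n70982 = n66470 := ((((iv0 F102360)).symm.trans (sb E78546 (iv0 F235538)))).symm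
theorem F318650 : act 6 n54312 = n66881 := (sb E78547 (iv6 D142687))
theorem E81637 : n67741 = n60753 := ((D67741).symm.trans (iv4 (sb E78548 (tr (iv4 D149756) E79576))))
theorem E81638 : n178913 = n83562 := (((F308045).symm.trans (sb E78548 (iv6 F278794)))).symm
theorem E81639 : n129580 = n59594 := (((D59594).symm.trans (sb E78552 (iv3 F207760)))).symm
theorem E81640 : n59596 = n28876 := ((D59596).symm.trans (sb E78552 F95423))
theorem E81642 : n59598 = n28875 := ((D59598).symm.trans (sb E78552 (iv7 D60883)))
theorem F318651 : act 7 n116416 = n114759 := (sb E78553 F230439)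
theorem F318652 : act 0 n116417 = n69055 := (sb E78554 (iv1 F230437))
theorem F318653 : act 2 n116417 = n147897 := (sb E78554 (iv2 F241190))
theorem F318654 : act 5 n116417 = n97266 := (sb E78554 (iv5 F309623))
theorem F318655 : act 0 n81766 = n53660 := (sb E78555 (iv1 D116418))
theorem F318656 : act 0 n116408 = n147897 := (sb E78556 F231676)
theorem F318657 : act 5 n116408 = n68909 := (sb E78556 (iv5 D146999))
theorem F318658 : act 7 n116408 = n69055 := (sb E78556 F230430)
theorem E81643 : n139687 = n66828 := ((D139687).symm.trans (sb E78558 (iv1 F225367)))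
theorem E81644 : n139688 = n66792 := ((D139688).symm.trans (sb E78558 (iv0 D142445)))
theorem F318659 : act 0 n117479 = n66826 := (sb E78559 (iv1 F225368))
theorem F318660 : act 1 n117479 = n66825 := (sb E78559 F225369)
theorem F318661 : act 2 n117479 = n66828 := (sb E78559 F225366)
theorem F318662 : act 7 n117479 = n66792 := (sb E78559 (iv7 D142448))
theorem F318663 : act 6 n142536 = n73569 := (sb E78560 F230470)
theorem E81645 : n141447 = n54152 := ((D141447).symm.trans (sb E78582 (iv5 D117525)))
theorem F318664 : act 4 n48906 = n54153 := (sb E78562 F184125)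
theorem F318665 : act 6 n48906 = n54152 := (sb E78562 (iv6 D117526))
theorem F318666 : act 3 n14890 = n23853 := (sb E78563 (iv3 D48918))
theorem F318667 : act 4 n14890 = n23856 := (sb E78563 F77129)
theorem E81647 : n124555 = n105817 := (((D105817).symm.trans (sb E78564 (iv1 F309514)))).symm
theorem F318668 : act 3 n48920 = n31670 := (sb E78564 F104178)
theorem E81649 : n105819 = n55001 := ((D105819).symm.trans (sb E78564 F308010))
theorem F318669 : act 3 n48908 = n81693 := (sb E78565 (iv3 D170364))
theorem F318670 : act 4 n44759 = n81693 := (sb E79421 (iv4 D170365))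
theorem F318671 : act 4 n14889 = n28339 := (sb E78569 (iv4 D59738))
theorem F318672 : act 3 n53892 = n105816 := (sb E78570 (iv3 F162520))
theorem E81661 : n150778 = n141445 := (((D141445).symm.trans (sb E78577 (iv3 F237339)))).symm
theorem E81662 : n150781 = n141446 := (((D141446).symm.trans (sb E78577 (iv4 F237340)))).symm
theorem E81665 : n141444 = n30996 := ((D141444).symm.trans (sb E78576 (iv2 D66383)))
theorem E81666 : n141506 = n141445 := (((D141445).symm.trans (sb E78576 D141506))).symm
theorem E81667 : n141507 = n141446 := (((D141446).symm.trans (sb E78576 D141507))).symm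
theorem E81670 : n141448 = n30997 := ((D141448).symm.trans (sb E78576 (iv7 F102279)))
theorem E81671 : n150785 = n141192 := (((F224214).symm.trans (sb E78578 (iv0 F264621)))).symm
theorem E81672 : n144865 = n141195 := ((((iv4 F224213)).symm.trans (sb E78580 F229258))).symm
theorem E81673 : n141456 = n68472 := (((iv5 F224486)).symm.trans (sb E78580 (iv5 D146032)))
theorem E81675 : n144884 = n30953 := ((((iv4 F49385)).symm.trans (sb E78581 D144884))).symm
theorem E81676 : n31578 = n30998 := (((D30998).symm.trans (sb E78581 (iv5 D67911)))).symm
theorem E81678 : n141449 = n128382 := ((D141449).symm.trans (sb E79213 F313941))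
theorem E81679 : n141451 = n69738 := ((D141451).symm.trans (sb E79213 F229279))
theorem F318673 : act 3 n71423 = n47040 := (sb E78584 F155062)
theorem E81680 : n151503 = n101582 := ((D151503).symm.trans (sb E78584 (iv5 F156491)))
theorem F318674 : act 6 n71423 = n47037 := (sb E78584 (iv6 D100921))
theorem E81683 : n180115 = n123967 := ((((iv2 F315287)).symm.trans (sb E78589 (iv2 F280492)))).symm
theorem E81685 : n130157 = n39835 := ((D130157).symm.trans (sb E78589 (iv5 D86061)))
theorem E81687 : n130185 = n8825 := ((((iv4 D18848)).symm.trans (sb E78590 D130185))).symm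
theorem F318675 : act 5 n18848 = n28953 := (sb E78590 (iv5 D61109))
theorem E81688 : n35879 = n28956 := (((iv6 F56533)).symm.trans (sb E78590 F95619))
theorem F318676 : act 4 n75941 = n35455 := (sb E78592 (iv4 D77660))
theorem E81694 : n161679 = n50585 := (((F317151).symm.trans (sb E78592 D161679))).symm
theorem E81695 : n161671 = n130857 := ((((iv6 F209443)).symm.trans (sb E78592 (iv6 F255679)))).symm
theorem E81698 : n125266 = n36555 := (((F91303).symm.trans (sb E78593 (iv2 F201439)))).symm
theorem E81699 : n179957 = n34397 := (((F55984).symm.trans (sb E78593 (iv3 F280264)))).symm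
theorem E81701 : n77226 = n39768 := ((D77226).symm.trans (sb E78593 (iv5 D85993)))
theorem E81702 : n179962 = n36551 := ((((iv7 F91236)).symm.trans (sb E78593 D179962))).symm
theorem E81703 : n139719 = n56072 := ((((iv1 D121450)).symm.trans (sb E78594 (iv1 F222896)))).symm
theorem E81704 : n139726 = n56086 := (((F302270).symm.trans (sb E78594 (iv0 F222901)))).symm
theorem F318677 : act 4 n121450 = n65131 := (sb E78594 (iv4 D138722))
theorem E81705 : n166982 = n111892 := (((iv1 F262911)).symm.trans (sb E78596 (tr F250357 E79881)))
theorem F318678 : act 5 n80229 = n75940 := (sb E78596 (iv5 D159019))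
theorem E81706 : n85436 = n36546 := ((((iv6 D80229)).symm.trans (sb E78596 F250356))).symm
theorem E81707 : n139746 = n83327 := ((D139746).symm.trans (sb E78597 (iv4 F314190)))
theorem F318679 : act 6 n68526 = n83327 := (sb E78598 (iv6 D174345))
theorem F318680 : act 0 n125295 = n75948 := (sb E78600 (iv1 D159032))
theorem F318681 : act 4 n125295 = n85783 := (sb E78600 F250368)
theorem F318682 : act 0 n130087 = n78756 := (sb E78601 (iv1 F258345))
theorem E81708 : n132904 = n78824 := (((iv5 F213487)).symm.trans (sb E78601 F258343))
theorem E81709 : n105753 = n75951 := (((iv4 F174743)).symm.trans (sb E80331 F250372))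
theorem F318683 : act 7 n112333 = n75948 := (sb E80331 (iv7 D159034))
theorem F318684 : act 7 n85326 = n78756 := (sb E78603 F193333)
theorem E81711 : n84123 = n78873 := ((((iv6 F120039)).symm.trans (sb E78604 (iv6 D176437)))).symm
theorem F318685 : act 6 n56127 = n68795 := (sb E78605 (iv6 F315539))
theorem E81712 : n161562 = n30676 := (((F168262).symm.trans (sb E78607 (iv3 F255557)))).symm
theorem E81713 : n35420 = n24694 := ((((iv5 F38681)).symm.trans (sb E78607 (iv5 D77600)))).symm
theorem E81715 : n83349 = n5417 := ((((iv5 D11668)).symm.trans (sb E78608 F302590))).symm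
theorem E81716 : n80381 = n11926 := (((D11926).symm.trans (sb E78609 (iv1 D167498)))).symm
theorem E81717 : n83346 = n11908 := ((((iv0 F19616)).symm.trans (sb E78609 F263675))).symm
theorem E81718 : n80617 = n11925 := ((((iv4 F19665)).symm.trans (sb E78609 F300322))).symm
theorem E81720 : n83308 = n11927 := (((D11927).symm.trans (sb E78609 F263676))).symm
theorem F318686 : act 3 n43283 = n67939 := (sb E78611 F227889)
theorem E81721 : n92508 = n67937 := ((D92508).symm.trans (sb E78611 (iv6 D144920)))
theorem F318687 : act 5 n88690 = n67939 := (sb E78612 (iv5 D144925))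
theorem F318688 : act 7 n67286 = n70328 := (sb E78621 (iv7 D149727))
theorem F318689 : act 2 n68002 = n54855 := (sb E78622 (iv2 D119202))
theorem F318690 : act 7 n68002 = n54856 := (sb E78622 F187578)
theorem F318691 : act 2 n67997 = n54856 := (sb E78623 F187359)
theorem E81740 : n145061 = n52742 := ((D145061).symm.trans (sb E78623 (iv3 D114272)))
theorem F318692 : act 7 n67997 = n54855 := (sb E78623 F178120)
theorem F318693 : act 3 n152489 = n75140 := (sb E78624 F248521)
theorem F318694 : act 5 n152489 = n121716 := (sb E78624 F316333)
theorem F318695 : act 6 n152489 = n75139 := (sb E78624 (iv6 D157709))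
theorem E81741 : n148240 = n114605 := ((((iv7 F290473)).symm.trans (sb E78624 (tr F316334 E79517)))).symm
theorem F318696 : act 4 n68545 = n83941 := (sb E78625 (iv4 D175873))
theorem F318697 : act 2 n125295 = n83950 := (sb E78626 F275268)
theorem F318698 : act 6 n125295 = n83941 := (sb E78626 (iv6 D175874))
theorem E81742 : n179919 = n145648 := ((D179919).symm.trans (sb E78627 (iv1 F228670)))
theorem E81743 : n145647 = n118273 := ((((iv0 F233205)).symm.trans (sb E78627 F228666))).symm
theorem F318699 : act 2 n85970 = n66131 := (sb E78627 F224014)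
theorem E81744 : n179921 = n145649 := ((D179921).symm.trans (sb E78627 (iv7 F228668)))
theorem F318700 : act 1 n67698 = n39762 := (sb E78628 (iv0 D85971))
theorem F318701 : act 1 n54469 = n31772 := (sb E78629 (iv0 D68279))
theorem F318702 : act 2 n54469 = n66129 := (sb E78629 F167399)
theorem E81747 : n145663 = n118261 := ((((iv4 F185803)).symm.trans (sb E78629 D145663))).symm
theorem F318703 : act 5 n54469 = n145664 := (sb E78629 D145664)
theorem F318704 : act 7 n54469 = n65627 := (sb E78629 F167390)
theorem F318705 : act 3 n68281 = n39771 := (sb E78630 F131918)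
theorem F318706 : act 6 n68281 = n125179 := (sb E78630 (iv6 F201224))
theorem F318707 : act 7 n68281 = n39762 := (sb E78630 (iv7 D85974))
theorem E81749 : n144462 = n65627 := ((((iv2 F162349)).symm.trans (sb E78631 (iv2 F227282)))).symm
theorem E81751 : n145664 = n66129 := ((((iv7 F167398)).symm.trans (sb E78631 (iv7 F228709)))).symm
theorem F318708 : act 0 n140989 = n181746 := (sb E78633 F282923)
theorem F318709 : act 5 n140989 = n118258 := (sb E78633 F228082)
theorem F318710 : act 6 n140989 = n68020 := (sb E78633 (iv6 D145108))
theorem F318711 : act 6 n140990 = n68021 := (sb E78634 (iv6 D145111))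
theorem F318712 : act 6 n31655 = n66129 := (sb E78636 F223005)
theorem E81754 : n65631 = n26342 := (((F50646).symm.trans (sb E78636 (iv7 D139812)))).symm
theorem E81755 : n179963 = n66100 := (((D66100).symm.trans (sb E78637 D179963))).symm
theorem E81756 : n128350 = n66101 := (((D66101).symm.trans (sb E78637 (iv0 F253007)))).symm
theorem E81757 : n179964 = n66070 := ((((iv2 F101733)).symm.trans (sb E78637 D179964))).symm
theorem E81758 : n179965 = n66102 := (((D66102).symm.trans (sb E78637 D179965))).symm
theorem F318713 : act 0 n71143 = n53482 := (sb E78640 (iv1 D116027))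
theorem E81764 : n145384 = n66101 := (((E81756).symm.trans (((iv3 F206472)).symm.trans (sb E78640 (iv3 F228425))))).symm
theorem F318714 : act 1 n71144 = n53482 := (sb E78641 (iv0 D116026))
theorem E81765 : n150916 = n141555 := ((D150916).symm.trans (sb E78641 (iv6 F224588)))
theorem F318715 : act 0 n71138 = n53488 := (sb E78642 (iv1 F180786))
theorem F318716 : act 1 n71138 = n53487 := (sb E78642 F180787)
theorem F318717 : act 3 n71138 = n66071 := (sb E78642 F180783)
theorem E81766 : n65732 = n32939 := ((((iv6 D71138)).symm.trans (sb E78642 F180784))).symm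
theorem F318718 : act 7 n71138 = n53482 := (sb E78642 (iv7 D116029))
theorem E81767 : n65477 = n32940 := ((((iv6 D71142)).symm.trans (sb E78643 F180571))).symm
theorem F318719 : act 7 n71142 = n53462 := (sb E78643 (iv7 D115962))
theorem F318720 : act 7 n70977 = n53489 := (sb E78644 (iv7 D116061))
theorem E81768 : n65730 = n32915 := ((((iv1 F77274)).symm.trans (sb E78645 (iv1 F101438)))).symm
theorem E81769 : n65729 = n23896 := ((((iv0 F53311)).symm.trans (sb E78645 F101441))).symm
theorem F318721 : act 7 n15862 = n14580 := (sb E78645 (iv7 D30785))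
theorem E81770 : n150585 = n66186 := ((D150585).symm.trans (sb E78646 F180835))
theorem F318723 : act 7 n70979 = n53497 := (sb E78646 (iv7 D116073))
theorem F318724 : act 3 n85774 = n117096 := (sb E78648 F223991)
theorem F318725 : act 6 n85774 = n66121 := (sb E78648 (iv6 D140969))
theorem F318726 : act 6 n67414 = n48919 := (sb E78650 (iv6 D105815))
theorem F318727 : act 6 n67661 = n68039 := (sb E78651 (iv6 D145150))
theorem F318728 : act 1 n67662 = n58558 := (sb E78652 (iv0 F183280))
theorem F318729 : act 0 n67660 = n58558 := (sb E78653 F311516)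
theorem E81771 : n151384 = n144395 := ((((iv3 F227160)).symm.trans (sb E78653 F309859))).symm
theorem F318730 : act 6 n67660 = n70260 := (sb E78653 F309860)
theorem F318731 : act 5 n139819 = n68455 := (sb E78654 F228016)
theorem F318732 : act 6 n139819 = n67998 := (sb E78654 (iv6 D145067))
theorem F318733 : act 7 n139819 = n155905 := (sb E78654 (iv7 F244897))
theorem E81772 : n139902 = n130477 := ((((iv0 F209044)).symm.trans (iv0 (sb E78655 (tr (iv1 F279711) E80909))))).symm
theorem E81773 : n155665 = n130477 := (E78655).trans E81772
theorem F318734 : act 1 n130477 = n179603 := (sb E81773 F279708)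
theorem E81774 : n150558 = n133146 := ((((iv2 F213877)).symm.trans (sb E81773 F244687))).symm
theorem E81775 : n155716 = n61213 := ((((iv5 D130477)).symm.trans (sb E81773 F244728))).symm
theorem F318735 : act 6 n130477 = n74052 := (sb E81773 (iv6 D155665))
theorem F318736 : act 7 n130477 = n85312 := (sb E81773 F244689)
theorem F318737 : act 5 n61382 = n65676 := (sb E78656 (iv5 D139903))
theorem F318738 : act 2 n131634 = n65677 := (sb E78657 F223100)
theorem F318739 : act 3 n131634 = n144465 := (sb E78657 (iv3 F227292))
theorem F318740 : act 5 n131634 = n65666 := (sb E78657 (iv5 D139881))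
theorem F318741 : act 1 n85307 = n65670 := (sb E78659 (iv0 D139888))
theorem E81776 : n70347 = n65667 := (((D65667).symm.trans (sb E78660 F235130))).symm
theorem F318742 : act 1 n62928 = n65677 := (sb E78661 (iv0 D139905))
theorem F318743 : act 0 n131633 = n65677 := (sb E78662 (iv1 D139906))
theorem F318744 : act 4 n130476 = n65677 := (sb E78663 (iv4 D139907))
theorem E81777 : n70198 = n65655 := (((D65655).symm.trans (sb E78664 (iv3 F106654)))).symm
theorem E81778 : n70219 = n65656 := (((D65656).symm.trans (sb E78664 D70219))).symm
theorem F318745 : act 5 n30757 = n15427 := (sb E78664 (iv5 D32588))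
theorem E81779 : n65658 = n15428 := ((D65658).symm.trans (sb E78664 F51645))
theorem F318746 : act 3 n54462 = n74750 := (sb E78669 F221637)
theorem F318747 : act 3 n70975 = n74753 := (sb E78674 F221639)
theorem E81792 : n132627 = n117821 := ((((iv3 F184505)).symm.trans (sb E78678 (iv3 F212884)))).symm
theorem E81793 : n127735 = n29448 := ((D127735).symm.trans (sb E78678 (iv5 D62229)))
theorem E81795 : n166535 = n132620 := ((((iv3 F212870)).symm.trans (sb E78679 (iv3 F262057)))).symm
theorem F318748 : act 4 n62227 = n76143 := (sb E78679 F315542)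
theorem E81797 : n132622 = n36407 := ((D132622).symm.trans (sb E78679 (iv6 D79931)))
theorem E81798 : n143672 = n70329 := (((iv2 F226354)).symm.trans (sb E78681 F235459))
theorem E81800 : n143667 = n70330 := ((F226353).symm.trans (sb E78681 F235458))
theorem F318749 : act 2 n53769 = n31294 := (sb E78682 F103178)
theorem E81801 : n143650 = n116678 := (((D116678).symm.trans (sb E78682 (iv4 F226328)))).symm
theorem E81802 : n152809 = n143677 := (((D143677).symm.trans (sb E78683 (iv1 F240026)))).symm
theorem E81803 : n147896 = n143678 := (((D143678).symm.trans (sb E78683 (iv0 F235491)))).symm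
theorem F318750 : act 7 n67289 = n70331 := (sb E78683 (iv7 D149733))
theorem E81804 : n116240 = n65667 := (E81631).trans E81776
theorem F318751 : act 2 n69500 = n32274 := (sb E78686 (iv2 D69504))
theorem E81807 : n148279 = n148264 := (((D148264).symm.trans (sb E78686 D148279))).symm
theorem E81808 : n148280 = n148265 := (((D148265).symm.trans (sb E78686 D148280))).symm
theorem E81809 : n148281 = n148266 := (((D148266).symm.trans (sb E78686 D148281))).symm
theorem E81810 : n148282 = n148267 := (((D148267).symm.trans (sb E78686 D148282))).symm
theorem E81811 : n143722 = n32275 := (((iv7 F316509)).symm.trans (sb E78686 (iv7 F105806)))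
theorem F318752 : act 0 n143126 = n73962 := (sb E78688 (iv1 D155505))
theorem E81812 : n116450 = n67742 := ((((iv3 F103777)).symm.trans (sb E78690 (iv3 F313938)))).symm
theorem E81813 : n119879 = n67748 := (((D67748).symm.trans (sb E78690 (iv6 F316410)))).symm
theorem E81814 : n178530 = n116480 := (((D116480).symm.trans (sb E78691 (iv4 F278219)))).symm
theorem F318753 : act 6 n53684 = n39311 := (sb E78691 (iv6 D85007))
theorem E81815 : n81791 = n68209 := ((((iv3 F104378)).symm.trans (sb E78692 F313093))).symm
theorem E81816 : n81788 = n68221 := (((D68221).symm.trans (sb E78692 F313094))).symm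
theorem E81817 : n116595 = n85790 := (((iv4 F181954)).symm.trans (iv4 (sb E78694 (tr (iv4 D146968) E80520))))
theorem F318754 : act 1 n70066 = n66401 := (sb E78695 (iv0 D141568))
theorem F318755 : act 0 n61669 = n66401 := (sb E78696 (iv1 D141569))
theorem E81818 : n141564 = n70064 := (E78697).trans E79838
theorem E81819 : n149268 = n66401 := ((D149268).symm.trans (sb E81818 F224596))
theorem E81820 : n149269 = n32608 := ((D149269).symm.trans (sb E81818 (tr F224597 E80189)))
theorem F318756 : act 6 n70064 = n66399 := (sb E81818 (iv6 D141564))
theorem F318757 : act 7 n155508 = n76673 := (sb E78698 (iv7 D160101))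
theorem F318758 : act 5 n133778 = n74004 := (sb E78699 (iv5 D155557))
theorem E81821 : n128026 = n53383 := ((((iv4 F84231)).symm.trans (sb E78703 (iv4 F206027)))).symm
theorem E81822 : n53416 = n28598 := ((D53416).symm.trans (sb E78703 (iv6 D60158)))
theorem E81823 : n53421 = n28562 := ((((iv1 F54146)).symm.trans (sb E78709 D53421))).symm
theorem E81825 : n53385 = n32950 := (((D32950).symm.trans (sb E78709 (iv4 F84238)))).symm
theorem F318759 : act 6 n15865 = n12283 := (sb E78709 (iv6 D25878))
theorem F318760 : act 3 n115858 = n90265 := (sb E78713 F290379)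
theorem F318761 : act 6 n115858 = n90262 := (sb E78713 (iv6 F290380))
theorem F318762 : act 0 n115860 = n69578 := (sb E78715 (iv1 F184857))
theorem F318763 : act 1 n115860 = n54297 := (sb E78715 (iv0 D117883))
theorem E81826 : n127142 = n70197 := (((iv2 F204399)).symm.trans (sb E78716 F235094))
theorem F318764 : act 6 n115862 = n70120 := (sb E78716 (iv6 D149338))
theorem E81827 : n148231 = n70328 := (((iv1 F232062)).symm.trans (sb E78717 F235031))
theorem F318765 : act 3 n115865 = n70120 := (sb E78718 (iv3 D149335))
theorem F318766 : act 7 n115865 = n127321 := (sb E78718 (iv7 F315744))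
theorem E81832 : n150968 = n53411 := (((D53411).symm.trans (sb E78720 D150968))).symm
theorem E81833 : n150969 = n53412 := (((D53412).symm.trans (sb E78720 D150969))).symm
theorem E81834 : n81735 = n31084 := ((((iv5 F180303)).symm.trans (sb E78720 F312196))).symm
theorem E81835 : n65067 = n53414 := (((D53414).symm.trans (sb E78720 F312803))).symm
theorem E81839 : n67203 = n53486 := ((F180367).symm.trans (sb E78726 (iv0 D116044)))
theorem E81840 : n137894 = n116045 := ((F221126).symm.trans (iv1 (sb E78727 (tr (iv0 D149461) E80649))))
theorem F318767 : act 7 n116045 = n70197 := (sb E78727 F235097)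
theorem F318768 : act 0 n116025 = n70197 := (sb E78728 (iv1 F235062))
theorem E81841 : n117606 = n116025 := (((iv1 F184204)).symm.trans (iv1 (sb E78728 (tr F235063 E80387))))
theorem E81842 : n67202 = n54215 := ((D67202).symm.trans (sb E78729 F180796))
theorem E81843 : n67205 = n53485 := ((D67205).symm.trans (sb E78729 (iv6 D116043)))
theorem F318769 : act 1 n59921 = n95497 := (sb E78735 F290455)
theorem E81844 : n127521 = n45421 := (((iv3 F204974)).symm.trans (sb E78735 (iv3 D97195)))
theorem F318770 : act 7 n59921 = n95865 := (sb E78735 (iv7 F290428))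
theorem F318771 : act 0 n17042 = n23856 := (sb E78737 (iv1 D48927))
theorem F318772 : act 1 n17042 = n28339 := (sb E78737 F77142)
theorem F318773 : act 0 n25910 = n28339 := (sb E78741 (iv1 F77137))
theorem F318774 : act 1 n25910 = n23856 := (sb E78741 (iv0 D48926))
theorem F318775 : act 5 n25910 = n31417 := (sb E78741 (iv5 F169583))
theorem F318776 : act 2 n59993 = n31420 := (sb E78744 F103667)
theorem E81859 : n144335 = n127762 := (((D127762).symm.trans (sb E78744 (iv4 F227070)))).symm
theorem F318777 : act 6 n59993 = n31419 := (sb E78744 (iv6 D67654))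
theorem E81860 : n66088 = n65660 := (((D65660).symm.trans (sb E78745 (iv3 F101743)))).symm
theorem E81861 : n66116 = n65661 := (((D65661).symm.trans (sb E78745 D66116))).symm
theorem F318778 : act 5 n30758 = n14633 := (sb E78745 (iv5 D30912))
theorem F318779 : act 6 n30758 = n14636 := (sb E78745 F49357)
theorem F318780 : act 6 n67645 = n53489 := (sb E78749 F180799)
theorem E81862 : n116226 = n65656 := (E80904).trans E81778
theorem E81863 : n117706 = n53734 := (E78751).trans E81054
theorem E81864 : n116569 = n55240 := (((iv3 F181925)).symm.trans (sb E81863 F185130))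
theorem E81865 : n116615 = n71862 := ((D116615).symm.trans (sb E81863 F184324))
theorem E81866 : n116550 = n31025 := ((D116550).symm.trans (sb E78752 (iv1 D66462)))
theorem E81867 : n116551 = n116229 := ((D116551).symm.trans (sb E78752 F181157))
theorem E81874 : n116605 = n54211 := ((D116605).symm.trans (sb E79177 F184279))
theorem E81875 : n116606 = n54208 := ((D116606).symm.trans (sb E79177 (iv6 D117682)))
theorem F318781 : act 6 n66458 = n55041 := (sb E78754 F184325)
theorem F318782 : act 5 n26221 = n31025 := (sb E78755 (iv5 D66464))
theorem F318783 : act 5 n146143 = n121678 := (sb E78760 F261993)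
theorem F318784 : act 7 n146143 = n166150 := (sb E78760 F261994)
theorem F318785 : act 5 n56205 = n68529 := (sb E78761 (iv5 D146144))
theorem E81886 : n146145 = n121400 := ((((iv0 F302271)).symm.trans (iv0 (sb E78762 (tr F281075 E81530))))).symm
theorem F318786 : act 5 n146140 = n121679 := (sb E78763 F261989)
theorem F318787 : act 7 n146140 = n166145 := (sb E78763 F261990)
theorem F318788 : act 5 n56207 = n68528 := (sb E78764 (iv5 D146141))
theorem F318789 : act 2 n76784 = n65734 := (sb E78765 (iv2 D140031))
theorem E81888 : n160242 = n127695 := ((D160242).symm.trans (sb E78765 F223240))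
theorem E81889 : n160244 = n66326 := (E78766).trans E79113
theorem F318790 : act 5 n66326 = n76784 := (sb E81889 (iv5 D160244))
theorem F318791 : act 1 n59761 = n65742 := (sb E78767 (iv0 D140046))
theorem F318792 : act 0 n140042 = n178498 := (sb E78768 (iv1 F278149))
theorem F318793 : act 1 n140042 = n70022 := (sb E78768 (iv0 D149184))
theorem F318794 : act 2 n140042 = n166273 := (sb E78768 (iv2 F278143))
theorem F318795 : act 0 n140045 = n73469 := (sb E78769 (iv1 D154905))
theorem F318796 : act 1 n140045 = n73485 := (sb E78769 F243593)
theorem F318797 : act 5 n138394 = n65742 := (sb E78770 (iv5 D140048))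
theorem F318798 : act 0 n127716 = n61648 := (sb E78771 (iv1 F210398))
theorem F318799 : act 1 n127716 = n61670 := (sb E78771 F210397)
theorem F318800 : act 3 n127716 = n68106 := (sb E78771 F210395)
theorem F318801 : act 7 n127716 = n61667 := (sb E78771 F210396)
theorem F318802 : act 3 n105820 = n68069 := (sb E78773 F310024)
theorem F318803 : act 5 n105820 = n49008 := (sb E78773 (iv5 D106017))
theorem F318804 : act 2 n167733 = n83244 := (sb E78774 (iv2 D174135))
theorem F318805 : act 5 n167733 = n127868 := (sb E78774 (iv5 F298812))
theorem F318806 : act 0 n119372 = n160925 := (sb E78775 (iv1 F264049))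
theorem F318807 : act 2 n119372 = n80491 := (sb E78775 (iv2 D167734))
theorem F318808 : act 7 n119372 = n160926 := (sb E78775 F264046)
theorem E81891 : n131383 = n78596 := (((iv4 F314841)).symm.trans (sb E78776 F302538))
theorem F318809 : act 6 n80264 = n80491 := (sb E78776 F193249)
theorem F318810 : act 4 n26967 = n36571 := (sb E78777 (iv4 D80272))
theorem E81895 : n161722 = n55913 := (((D55913).symm.trans (sb E78777 (iv5 F255722)))).symm
theorem F318811 : act 1 n35901 = n36571 := (sb E78778 (iv0 D80270))
theorem E81897 : n78862 = n58433 := (((iv3 F120016)).symm.trans (sb E78778 (iv3 F302758)))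
theorem E81898 : n78866 = n39966 := (((iv5 F120019)).symm.trans (sb E78778 F299925))
theorem E81899 : n60797 = n17518 := (((F298629).symm.trans (sb E78778 F311728))).symm
theorem F318812 : act 0 n26982 = n36571 := (sb E78779 (iv1 D80271))
theorem E81900 : n85267 = n55954 := ((((iv3 F88545)).symm.trans (sb E78779 (iv3 F130572)))).symm
theorem E81901 : n55957 = n40258 := ((D55957).symm.trans (sb E78779 F299924))
theorem E81903 : n163895 = n36524 := ((((iv1 F116614)).symm.trans (sb E78780 (iv1 F258325)))).symm
theorem E81904 : n78597 = n36572 := (((D36572).symm.trans (sb E78780 F193252))).symm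
theorem E81905 : n167213 = n55830 := ((((iv6 F88312)).symm.trans (sb E78781 D167213))).symm
theorem F318813 : act 7 n35804 = n36571 := (sb E78781 (iv7 D80273))
theorem E81906 : n159267 = n113168 := ((((iv3 F176328)).symm.trans (sb E78784 F253598))).symm
theorem E81909 : n110019 = n34805 := ((((iv2 F55901)).symm.trans (sb E78785 (iv2 F170147)))).symm
theorem F318814 : act 3 n35164 = n28121 := (sb E78785 F80129)
theorem E81910 : n24702 = n17114 := (((F55900).symm.trans (sb E78785 F80130))).symm
theorem E81911 : n76971 = n24701 := ((D76971).symm.trans (sb E78785 (iv6 D50750)))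
theorem E81912 : n77239 = n6378 := (((F22326).symm.trans (sb E78786 F253603))).symm
theorem E81915 : n132328 = n55800 := (((D55800).symm.trans (sb E78788 (iv2 F212245)))).symm
theorem E81917 : n55801 = n29394 := ((D55801).symm.trans (sb E78788 (iv5 D62088)))
theorem E81920 : n132366 = n8236 := ((((iv0 F16805)).symm.trans (sb E78789 D132366))).symm
theorem E81922 : n110117 = n2572 := ((((iv5 D6108)).symm.trans (sb E78789 (iv5 F170247)))).symm
theorem E81925 : n36287 = n29470 := (((iv5 F57020)).symm.trans (sb E78790 F96767))
theorem E81927 : n132363 = n55796 := (((D55796).symm.trans (sb E78791 D132363))).symm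
theorem E81928 : n36288 = n29471 := (((iv5 F57022)).symm.trans (sb E78791 F96773))
theorem E81931 : n55803 = n29054 := ((((iv0 F80101)).symm.trans (sb E78792 D55803))).symm
theorem E81932 : n55804 = n6647 := (((F23297).symm.trans (sb E78792 D55804))).symm
theorem F318815 : act 5 n13981 = n12883 := (sb E78792 (iv5 D26927))
theorem E81933 : n55806 = n29399 := (((D29399).symm.trans (sb E78792 D55806))).symm
theorem F318816 : act 1 n58055 = n76191 := (sb E78800 (iv0 D159250))
theorem F318817 : act 0 n82906 = n76191 := (sb E78801 (iv1 D159251))
theorem F318818 : act 2 n83258 = n76191 := (sb E78802 (iv2 D159252))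
theorem E81935 : n174179 = n160514 := ((D174179).symm.trans (sb E78802 (iv3 F253566)))
theorem F318819 : act 0 n159246 = n83225 := (sb E78803 F300928)
theorem F318820 : act 1 n159246 = n83234 := (sb E78803 F300929)
theorem F318821 : act 2 n159246 = n174180 := (sb E78803 F300930)
theorem E81936 : n163769 = n133280 := (((D133280).symm.trans (sb E78805 F258124))).symm
theorem E81937 : n165716 = n133281 := (((D133281).symm.trans (sb E78805 D165716))).symm
theorem E81938 : n165717 = n133268 := ((((iv2 F214231)).symm.trans (sb E78805 D165717))).symm
theorem E81939 : n133282 = n78602 := ((D133282).symm.trans (sb E78805 F122254))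
theorem E81940 : n165718 = n29557 := ((((iv5 D62543)).symm.trans (sb E78805 D165718))).symm
theorem F318822 : act 6 n62543 = n76183 := (sb E78805 (iv6 F302524))
theorem E81941 : n133283 = n79200 := ((D133283).symm.trans (sb E78805 F122255))
theorem F318823 : act 4 n34800 = n29560 := (sb E78806 (iv4 D62545))
theorem E81943 : n112316 = n17880 := (((F55002).symm.trans (sb E78806 (iv5 F174696)))).symm
theorem F318824 : act 1 n17507 = n29560 := (sb E78807 F97137)
theorem E81945 : n132742 = n36249 := (((D36249).symm.trans (sb E78807 (iv3 F213115)))).symm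
theorem E81946 : n36250 = n29475 := ((D36250).symm.trans (sb E78807 (iv5 D62297)))
theorem F318825 : act 0 n17511 = n29560 := (sb E78808 F97158)
theorem E81948 : n132750 = n36257 := (((D36257).symm.trans (sb E78808 (iv3 F213135)))).symm
theorem E81949 : n36258 = n29478 := ((D36258).symm.trans (sb E78808 (iv5 D62304)))
theorem E81952 : n55789 = n29403 := ((((iv0 F79857)).symm.trans (sb E78809 F122259))).symm
theorem E81953 : n80112 = n6675 := (((F23425).symm.trans (sb E78809 (iv4 F122948)))).symm
theorem F318826 : act 7 n36058 = n29560 := (sb E78810 (iv7 D62546))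
theorem F318827 : act 0 n127885 = n178296 := (sb E78811 (iv1 F277861))
theorem E81955 : n178295 = n128293 := ((((iv0 F206413)).symm.trans (sb E78811 F277860))).symm
theorem F318828 : act 2 n127885 = n78361 := (sb E78811 (iv2 D162975))
theorem F318829 : act 7 n127885 = n178286 := (sb E78811 F277844)
theorem F318830 : act 1 n38518 = n76929 := (sb E78812 (iv0 D160478))
theorem F318831 : act 0 n38517 = n76929 := (sb E78813 (iv1 D160479))
theorem F318832 : act 2 n38520 = n76929 := (sb E78814 (iv2 D160480))
theorem E81956 : n159202 = n83547 := (((D83547).symm.trans (sb E78814 F253494))).symm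
theorem F318833 : act 0 n160476 = n77132 := (sb E78815 (iv1 D160772))
theorem F318834 : act 1 n160476 = n83542 := (sb E78815 F300903)
theorem F318835 : act 2 n160476 = n83546 := (sb E78815 F300904)
theorem F318836 : act 5 n160476 = n176843 := (sb E78815 F300906)
theorem F318837 : act 7 n160476 = n82954 := (sb E78815 F300907)
theorem E81957 : n159203 = n83591 := ((D159203).symm.trans (sb E78816 F271795))
theorem F318838 : act 0 n160492 = n83523 := (sb E78817 (iv1 F273594))
theorem F318839 : act 1 n160493 = n83523 := (sb E78818 F273587)
theorem F318840 : act 5 n160493 = n152463 := (sb E78818 (iv5 F298168))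
theorem F318841 : act 2 n38501 = n76947 := (sb E78819 (iv2 D160494))
theorem E81958 : n164183 = n83508 := ((((iv6 F128616)).symm.trans (sb E78819 (iv6 F258743)))).symm
theorem F318842 : act 2 n160490 = n83522 := (sb E78820 F273589)
theorem E81959 : n164177 = n161298 := (((iv6 F258734)).symm.trans (sb E78820 F273590))
theorem E81962 : n164184 = n35355 := ((((iv5 D77436)).symm.trans (sb E78821 D164184))).symm
theorem F318843 : act 6 n77436 = n76947 := (sb E78821 F120035)
theorem E81963 : n161299 = n78586 := ((D161299).symm.trans (sb E78821 F120036))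
theorem F318844 : act 4 n17380 = n35359 := (sb E78822 (iv4 D77447))
theorem E81965 : n161327 = n35904 := (((D35904).symm.trans (sb E78822 D161327))).symm
theorem F318845 : act 1 n35799 = n35359 := (sb E78823 F299933)
theorem E81967 : n84127 = n78583 := ((((iv3 F119756)).symm.trans (sb E78823 (iv3 F129155)))).symm
theorem E81968 : n78591 = n18438 := (((iv5 F119759)).symm.trans (sb E78823 (iv5 D38778)))
theorem E81969 : n60815 = n17513 := (((F297429).symm.trans (sb E78823 F311731))).symm
theorem F318846 : act 0 n26966 = n35359 := (sb E78824 (iv1 D77446))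
theorem E81970 : n161321 = n55907 := ((((iv3 F88454)).symm.trans (sb E78824 D161321))).symm
theorem E81971 : n55910 = n35432 := ((D55910).symm.trans (sb E78824 F299932))
theorem E81976 : n78587 = n35360 := (((D35360).symm.trans (sb E78825 F120038))).symm
theorem F318847 : act 7 n35797 = n35359 := (sb E78826 (iv7 D77448))
theorem F318848 : act 6 n38662 = n58654 := (sb E78828 (iv6 D125294))
theorem E81978 : n141397 = n69821 := ((D141397).symm.trans (iv5 (sb E78831 (tr (iv5 D143895) E80618))))
theorem F318849 : act 0 n123199 = n57375 := (sb E78835 (iv1 D123269))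
theorem F318850 : act 1 n123199 = n98500 := (sb E78835 (iv0 F308414))
theorem F318851 : act 1 n29229 = n59964 := (sb E78836 (iv0 D127728))
theorem F318852 : act 1 n127729 = n61667 := (sb E78837 F210394)
theorem F318853 : act 2 n127729 = n61670 := (sb E78837 (iv2 F210390))
theorem F318854 : act 5 n127729 = n70066 := (sb E78837 (iv5 F210391))
theorem F318855 : act 6 n127729 = n61683 := (sb E78837 (iv6 F210392))
theorem F318856 : act 7 n127729 = n61648 := (sb E78837 F210389)
theorem F318857 : act 0 n127730 = n131366 := (sb E78838 (iv1 F233104))
theorem F318858 : act 7 n127730 = n133751 := (sb E78838 (iv7 F215289))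
theorem F318859 : act 5 n59892 = n95771 := (sb E78843 F149968)
theorem E81979 : n127638 = n103731 := ((D127638).symm.trans (sb E78847 (iv5 F159179)))
theorem F318860 : act 0 n97209 = n64525 := (sb E78848 (iv1 D137290))
theorem F318861 : act 1 n97210 = n64525 := (sb E78849 (iv0 D137289))
theorem F318862 : act 0 n97211 = n64523 := (sb E78850 (iv1 F173590))
theorem F318863 : act 1 n97211 = n64522 := (sb E78850 F173588)
theorem F318864 : act 2 n97211 = n51557 := (sb E78850 (iv2 D111812))
theorem F318865 : act 7 n97211 = n64524 := (sb E78850 F173587)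
theorem F318866 : act 6 n59915 = n95858 := (sb E78851 F149966)
theorem F318867 : act 7 n59915 = n45426 := (sb E78851 (iv7 D97212))
theorem F318868 : act 0 n97223 = n51550 := (sb E78852 (iv1 D111799))
theorem F318869 : act 2 n97223 = n68457 := (sb E78852 (iv2 F173543))
theorem F318870 : act 4 n97223 = n68741 := (sb E78852 F173542)
theorem F318871 : act 0 n67886 = n45429 := (sb E78853 (iv1 D97224))
theorem F318872 : act 4 n69070 = n45429 := (sb E78854 (iv4 D97225))
theorem E81980 : n147323 = n48022 := ((D147323).symm.trans (sb E78854 F149973))
theorem F318873 : act 0 n59916 = n95851 := (sb E78855 (iv1 F149977))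
theorem F318874 : act 7 n59916 = n45429 := (sb E78855 (iv7 D97226))
theorem F318875 : act 3 n95312 = n143021 := (sb E78857 (iv3 F225886))
theorem F318876 : act 4 n95312 = n140841 := (sb E78857 (iv4 F223914))
theorem F318877 : act 5 n95307 = n109547 := (sb E78858 F205034)
theorem F318878 : act 2 n95313 = n109547 := (sb E78859 F176843)
theorem F318879 : act 4 n95313 = n52474 := (sb E78859 (iv4 D113653))
theorem F318880 : act 4 n95314 = n159871 := (sb E78860 (iv4 F252056))
theorem E81981 : n96367 = n44530 := ((D96367).symm.trans (sb E78861 (iv2 D95332)))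
theorem E81982 : n96372 = n44531 := ((D96372).symm.trans (sb E78861 (iv7 F146970)))
theorem F318881 : act 1 n95333 = n109535 := (sb E78862 (iv0 F205003))
theorem F318882 : act 4 n95333 = n68347 := (sb E78862 F205001)
theorem F318883 : act 5 n95333 = n112100 := (sb E78862 F205002)
theorem F318884 : act 7 n95333 = n96373 := (sb E78862 (tr (iv7 F230597) E80400))
theorem F318885 : act 4 n31893 = n44530 := (sb E78863 (iv4 D95334))
theorem F318886 : act 0 n95335 = n59862 := (sb E78864 (iv1 D127452))
theorem F318887 : act 1 n95335 = n59879 := (sb E78864 F204876)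
theorem F318888 : act 2 n95335 = n96370 := (sb E78864 (tr (iv2 F230640) E80398))
theorem F318889 : act 3 n95335 = n112100 := (sb E78864 (iv3 F204879))
theorem F318890 : act 4 n95335 = n125966 := (sb E78864 F204878)
theorem F318891 : act 7 n95335 = n96375 := (sb E78864 (tr (iv7 F230607) E80402))
theorem F318892 : act 0 n95336 = n59935 := (sb E78865 (iv1 F205201))
theorem F318893 : act 1 n95336 = n59940 := (sb E78865 (iv0 F205005))
theorem F318894 : act 2 n95336 = n96371 := (sb E78865 (tr (iv2 F230645) E80399))
theorem F318895 : act 4 n95336 = n68552 := (sb E78865 F205004)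
theorem F318896 : act 4 n95338 = n68826 := (sb E78867 F204999)
theorem F318897 : act 7 n95338 = n96368 := (sb E78867 (tr (iv7 F230639) E80396))
theorem F318898 : act 0 n95340 = n59879 := (sb E78868 (iv1 F204875))
theorem F318899 : act 1 n95340 = n59862 := (sb E78868 (iv0 D127451))
theorem F318900 : act 2 n95340 = n96375 := (sb E78868 (tr (iv2 F230605) E80402))
theorem F318901 : act 4 n95340 = n125965 := (sb E78868 F204874)
theorem F318902 : act 7 n95340 = n96370 := (sb E78868 (tr (iv7 F230642) E80398))
theorem F318903 : act 2 n95341 = n96376 := (sb E78869 (tr (iv2 F230615) E80403))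
theorem F318904 : act 4 n95341 = n68823 := (sb E78869 F205000)
theorem F318905 : act 1 n75069 = n44532 := (sb E78870 (iv0 D95342))
theorem F318906 : act 2 n95343 = n96378 := (sb E78871 (tr (iv2 F205009) E80410))
theorem F318907 : act 4 n95343 = n68992 := (sb E78871 F205008)
theorem E81983 : n95662 = n68977 := (((iv5 F147356)).symm.trans (sb E78871 F205007))
theorem F318908 : act 7 n95343 = n96377 := (sb E78871 (tr F205011 E80409))
theorem F318909 : act 4 n32175 = n44532 := (sb E78872 (iv4 D95344))
theorem E81984 : n69181 = n44542 := ((D69181).symm.trans (sb E78872 F146972))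
theorem F318910 : act 4 n95345 = n69085 := (sb E78874 F204948)
theorem F318911 : act 2 n70340 = n66755 := (sb E78875 (iv2 F184476))
theorem F318912 : act 4 n70340 = n65743 := (sb E78875 F184475)
theorem F318913 : act 2 n76654 = n67105 := (sb E78876 F181661)
theorem F318914 : act 3 n76654 = n53676 := (sb E78876 F181662)
theorem F318915 : act 4 n76654 = n65744 := (sb E78876 F181664)
theorem F318916 : act 5 n76654 = n53674 := (sb E78876 (iv5 D116452))
theorem F318917 : act 7 n76654 = n66755 := (sb E78876 F181663)
theorem F318918 : act 0 n147935 = n151316 := (sb E78877 (iv1 F252159))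
theorem F318919 : act 1 n147935 = n151315 := (sb E78877 F252160)
theorem F318920 : act 2 n147935 = n151318 := (sb E78877 F252155)
theorem F318921 : act 7 n147935 = n76549 := (sb E78877 (iv7 D159901))
theorem F318922 : act 0 n106131 = n69316 := (sb E78878 (iv1 D147962))
theorem F318923 : act 2 n71926 = n69316 := (sb E78879 (iv2 D147963))
theorem E81985 : n152487 = n145755 := ((D152487).symm.trans (sb E78879 F231775))
theorem E81986 : n145754 = n52833 := ((D145754).symm.trans (sb E78880 (iv0 D114462)))
theorem E81987 : n145756 = n89557 := ((D145756).symm.trans (sb E78880 F178518))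
theorem F318924 : act 3 n90758 = n68696 := (sb E78881 (iv3 D146560))
theorem F318925 : act 5 n90758 = n69316 := (sb E78881 F229867)
theorem F318926 : act 3 n41819 = n69317 := (sb E78882 F231776)
theorem F318927 : act 6 n41819 = n69316 := (sb E78882 (iv6 D147964))
theorem F318928 : act 0 n92451 = n54294 := (sb E78883 (iv1 D117872))
theorem F318929 : act 1 n92451 = n69558 := (sb E78883 F184843)
theorem F318930 : act 2 n92451 = n69561 := (sb E78883 (iv2 F205271))
theorem F318931 : act 4 n92451 = n73483 := (sb E78883 F308955)
theorem F318932 : act 7 n92451 = n69317 := (sb E78883 F205251)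
theorem E81988 : n152269 = n147362 := (((iv4 F239326)).symm.trans (sb E78885 (iv4 F231772)))
theorem E81989 : n152408 = n69493 := (((iv1 F290475)).symm.trans (sb E78887 F230977))
theorem E81990 : n152505 = n69067 := ((D152505).symm.trans (sb E78887 (iv3 D147316)))
theorem F318933 : act 3 n71933 = n68695 := (sb E78888 (iv3 D146558))
theorem F318934 : act 3 n71934 = n69315 := (sb E78889 F231773)
theorem F318935 : act 0 n147932 = n76550 := (sb E78890 (iv1 D159903))
theorem F318936 : act 1 n147933 = n76550 := (sb E78891 (iv0 D159902))
theorem F318937 : act 0 n140802 = n127954 := (sb E78892 (iv1 F252166))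
theorem F318938 : act 1 n140802 = n127953 := (sb E78892 F252167)
theorem F318939 : act 6 n140802 = n151318 := (sb E78892 F252164)
theorem F318940 : act 7 n140802 = n76550 := (sb E78892 (iv7 D159904))
theorem F318941 : act 3 n52852 = n68622 := (sb E78896 F229675)
theorem F318942 : act 3 n52853 = n68623 := (sb E78897 F229676)
theorem F318943 : act 5 n114953 = n68623 := (sb E78898 (iv5 D146344))
theorem E81991 : n98231 = n58684 := (((D58684).symm.trans (sb E78899 (iv3 F151583)))).symm
theorem F318944 : act 5 n27903 = n35431 := (sb E78899 (iv5 D77616))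
theorem E81993 : n58686 = n35434 := ((D58686).symm.trans (sb E78899 F116515))
theorem E81994 : n166603 = n86506 := (((iv4 F262204)).symm.trans (sb E78900 (iv4 D181146)))
theorem F318945 : act 5 n79984 = n162838 := (sb E78900 F282153)
theorem F318946 : act 4 n154155 = n78151 := (sb E78901 (iv4 D162695))
theorem F318947 : act 3 n85032 = n58703 := (sb E78908 (iv3 D125361))
theorem E81995 : n178567 = n73841 := ((D178567).symm.trans (sb E78908 F201630))
theorem F318948 : act 6 n56075 = n58703 := (sb E78909 (iv6 D125362))
theorem E81996 : n119146 = n58694 := (((D58694).symm.trans (sb E78913 (iv3 F187466)))).symm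
theorem F318949 : act 5 n27907 = n35460 := (sb E78913 (iv5 D77671))
theorem E81998 : n58696 = n35463 := ((D58696).symm.trans (sb E78913 F116565))
theorem E82001 : n155071 = n110617 := ((((iv2 F171202)).symm.trans (sb E78914 (iv2 F243867)))).symm
theorem E82002 : n155143 = n28322 := (((F166119).symm.trans (sb E78914 D155143))).symm
theorem E82003 : n126910 = n33837 := (((iv4 F204155)).symm.trans (sb E78914 (iv4 D73637)))
theorem F318950 : act 0 n155796 = n155090 := (sb E78915 F270594)
theorem F318951 : act 1 n155796 = n173290 := (sb E78915 F271676)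
theorem F318952 : act 5 n155796 = n82538 := (sb E78915 (iv5 D172363))
theorem E82005 : n83566 = n60432 := ((((iv1 F110898)).symm.trans (sb E78916 (iv1 D174972)))).symm
theorem F318953 : act 5 n134703 = n74115 := (sb E78917 F244806)
theorem F318954 : act 7 n134703 = n74114 := (sb E78917 (iv7 D155800))
theorem F318955 : act 3 n54920 = n74080 := (sb E78918 (iv3 D155723))
theorem E82006 : n80287 = n67368 := (((F316194).symm.trans (sb E78919 F263405))).symm
theorem F318956 : act 5 n36576 = n74080 := (sb E78920 (iv5 D155724))
theorem E82007 : n66133 = n35377 := ((((iv1 F299918)).symm.trans (sb E78921 (iv1 F224008)))).symm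
theorem E82008 : n66126 = n35487 := ((((iv0 F300392)).symm.trans (sb E78921 (iv0 D140982)))).symm
theorem E82010 : n109814 = n17645 := ((((iv5 D36579)).symm.trans (sb E78921 F224006))).symm
theorem F318957 : act 6 n36579 = n74080 := (sb E78921 F316192)
theorem E82012 : n121328 = n68684 := ((D121328).symm.trans (sb E78922 F183765))
theorem F318958 : act 4 n55972 = n54081 := (sb E78922 F183766)
theorem E82013 : n121331 = n54080 := ((D121331).symm.trans (sb E78922 (iv6 D117345)))
theorem E82014 : n139921 = n76781 := (((iv0 F223148)).symm.trans (sb E78923 (iv0 F316029)))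
theorem E82019 : n143658 = n81743 := ((D143658).symm.trans (sb E78924 (iv6 D170534)))
theorem E82020 : n84349 = n66328 := (((D66328).symm.trans (sb E78925 F267972))).symm
theorem F318959 : act 3 n37358 = n65737 := (sb E78926 F223246)
theorem F318960 : act 6 n37358 = n65734 := (sb E78926 (iv6 D140032))
theorem E82021 : n70980 = n67650 := (((iv5 F107532)).symm.trans (sb E78928 F169587))
theorem E82022 : n140807 = n115989 := ((D140807).symm.trans (sb E78929 F204518))
theorem E82023 : n140856 = n140041 := ((D140856).symm.trans (sb E78930 (iv3 F223252)))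
theorem E82024 : n140857 = n67283 := ((D140857).symm.trans (sb E78930 F204470))
theorem E82025 : n140858 = n59714 := ((D140858).symm.trans (sb E78930 (iv5 D127200)))
theorem E82026 : n99709 = n38496 := ((D99709).symm.trans (sb E78931 (iv1 D83501)))
theorem E82027 : n100758 = n99710 := (((D99710).symm.trans (sb E78931 F154855))).symm
theorem E82028 : n100756 = n99711 := (((D99711).symm.trans (sb E78931 (iv2 F185518)))).symm
theorem E82029 : n174778 = n99712 := (((D99712).symm.trans (sb E78931 D174778))).symm
theorem E82033 : n99689 = n72944 := (((D72944).symm.trans (sb E78932 (iv1 F156688)))).symm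
theorem F318961 : act 1 n33625 = n22740 := (sb E78932 (iv0 D47313))
theorem E82034 : n101791 = n72936 := ((((iv2 F109438)).symm.trans (sb E78932 D101791))).symm
theorem E82039 : n101796 = n72947 := (((D72947).symm.trans (sb E78932 D101796))).symm
theorem E82040 : n124422 = n101797 := (((D101797).symm.trans (sb E78933 F242105))).symm
theorem E82041 : n101798 = n72939 := ((D101798).symm.trans (sb E78933 F242101))
theorem E82042 : n101854 = n101799 := (((D101799).symm.trans (sb E78933 F287064))).symm
theorem E82043 : n101800 = n101021 := ((D101800).symm.trans (sb E78933 F242102))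
theorem E82044 : n99688 = n72936 := (((iv1 F156686)).symm.trans (sb E78934 (iv1 F190676)))
theorem E82045 : n99687 = n72947 := (((iv0 F156685)).symm.trans (sb E78934 (iv0 F190617)))
theorem E82046 : n101801 = n26314 := ((D101801).symm.trans (sb E78934 (iv4 D54411)))
theorem E82047 : n118114 = n101802 := (((D101802).symm.trans (sb E78934 D118114))).symm
theorem E82048 : n118115 = n101803 := (((D101803).symm.trans (sb E78934 D118115))).symm
theorem E82049 : n101804 = n26306 := ((D101804).symm.trans (sb E78935 (iv1 D54388)))
theorem E82050 : n101805 = n26315 := ((D101805).symm.trans (sb E78935 F85867))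
theorem E82051 : n101807 = n70608 := ((D101807).symm.trans (sb E78935 (iv5 F107077)))
theorem E82052 : n106082 = n101808 := (((D101808).symm.trans (sb E78935 (iv6 F185707)))).symm
theorem E82053 : n99690 = n26313 := (((iv7 F156691)).symm.trans (sb E78935 F155321))
theorem E82055 : n179935 = n101816 := (((D101816).symm.trans (sb E78937 (iv7 F280238)))).symm
theorem E82056 : n118108 = n99692 := (((D99692).symm.trans (sb E78938 D118108))).symm
theorem F318962 : act 3 n83852 = n68526 := (sb E78940 (iv3 D146137))
theorem E82057 : n175631 = n146572 := (((iv4 F274955)).symm.trans (sb E78940 (iv4 F229875)))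
theorem E82058 : n175634 = n146729 := ((D175634).symm.trans (sb E78940 (iv7 F230063)))
theorem E82059 : n83253 = n82981 := ((D83253).symm.trans (sb E78941 (iv1 F270074)))
theorem F318963 : act 1 n38332 = n82389 := (sb E78941 (iv0 D172014))
theorem F318964 : act 0 n119397 = n82389 := (sb E78942 (iv1 D172015))
theorem F318965 : act 1 n172012 = n160963 := (sb E78944 (iv0 F314129))
theorem E82060 : n155113 = n155078 := (((F270066).symm.trans (sb E78944 F272958))).symm
theorem F318966 : act 4 n62642 = n75720 := (sb E78948 (iv4 D158743))
theorem F318967 : act 5 n62642 = n83920 := (sb E78948 F249921)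
theorem F318968 : act 5 n83052 = n61315 := (sb E78949 (iv5 D130685))
theorem F318969 : act 6 n130820 = n83534 := (sb E78950 (iv6 D174873))
theorem F318970 : act 0 n63241 = n38687 := (sb E78951 (iv1 F113534))
theorem F318971 : act 1 n63241 = n34602 := (sb E78951 (iv0 D75678))
theorem E82061 : n158655 = n134586 := (((D134586).symm.trans (sb E78951 D158655))).symm
theorem E82062 : n134587 = n38791 := ((D134587).symm.trans (sb E78951 (iv5 F113533)))
theorem F318972 : act 7 n63241 = n84049 := (sb E78951 (iv7 F301394))
theorem E82064 : n158657 = n115201 := ((D158657).symm.trans (sb E78952 (iv3 F211591)))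
theorem F318973 : act 7 n75679 = n115207 := (sb E78952 F211594)
theorem F318974 : act 7 n75680 = n132831 := (sb E78953 (iv7 F213353))
theorem F318975 : act 2 n75626 = n132845 := (sb E78955 (iv2 F213385))
theorem F318976 : act 0 n75624 = n132851 := (sb E78956 (iv1 F213396))
theorem F318977 : act 1 n62474 = n132851 := (sb E78957 F213395)
theorem E82067 : n132849 = n132761 := (((D132761).symm.trans (sb E80138 (iv1 F213390)))).symm
theorem E82068 : n132851 = n61091 := (((F208606).symm.trans (sb E80138 (iv2 F213392)))).symm
theorem E82069 : n176073 = n115186 := ((D176073).symm.trans (sb E78960 (iv1 F179374)))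
theorem E82070 : n176074 = n53125 := ((D176074).symm.trans (sb E78960 (iv0 D115128)))
theorem E82071 : n176072 = n115185 := (((iv2 F275346)).symm.trans (sb E78960 F208443))
theorem F318978 : act 7 n83999 = n115184 := (sb E78960 F208441)
theorem F318980 : act 4 n84001 = n61054 := (sb E78962 F208447)
theorem F318981 : act 4 n130680 = n86330 := (sb E78964 (iv4 D180748))
theorem F318982 : act 3 n29028 = n38676 := (sb E78965 (iv3 D83972))
theorem E82075 : n175962 = n49768 := (((F79298).symm.trans (sb E78965 (iv4 F275305)))).symm
theorem E82076 : n175977 = n61319 := (((D61319).symm.trans (sb E78965 D175977))).symm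
theorem F318983 : act 5 n83970 = n61058 := (sb E78966 (iv5 D130011))
theorem F318984 : act 5 n83971 = n61059 := (sb E78967 (iv5 D130014))
theorem E82078 : n133472 = n38221 := ((((iv7 F114044)).symm.trans (sb E78968 (iv7 F214654)))).symm
theorem F318985 : act 0 n62645 = n83162 := (sb E78970 (iv1 F128222))
theorem F318986 : act 1 n62645 = n84067 := (sb E78970 (iv0 F129054))
theorem E82079 : n173668 = n133473 := (((D133473).symm.trans (sb E78970 D173668))).symm
theorem F318987 : act 7 n62645 = n38676 := (sb E78970 F128004)
theorem F318988 : act 6 n62675 = n38702 := (sb E78971 (iv6 D84032))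
theorem F318989 : act 0 n136695 = n120630 := (sb E78972 F280124)
theorem F318990 : act 2 n136695 = n123382 := (sb E78972 (iv2 F306465))
theorem F318991 : act 5 n136695 = n85903 := (sb E78972 (iv5 D179860))
theorem F318992 : act 7 n136695 = n124142 := (sb E78972 (iv7 F306496))
theorem F318993 : act 1 n136696 = n120630 := (sb E78973 (iv0 F280111))
theorem F318994 : act 2 n136696 = n124142 := (sb E78973 (iv2 F306495))
theorem F318995 : act 5 n136696 = n85902 := (sb E78973 (iv5 D179857))
theorem F318996 : act 7 n136696 = n123382 := (sb E78973 (iv7 F306466))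
theorem F318997 : act 2 n76085 = n64242 := (sb E78974 F218658)
theorem E82084 : n159145 = n64100 := ((D159145).symm.trans (sb E78974 F218659))
theorem E82085 : n159146 = n63916 := ((D159146).symm.trans (sb E78974 (iv6 D135936)))
theorem E82086 : n149094 = n59615 := ((D149094).symm.trans (sb E78975 (iv1 D127042)))
theorem F318998 : act 1 n69970 = n64912 := (sb E78975 F204281)
theorem E82087 : n76872 = n64051 := ((((iv1 D136246)).symm.trans (sb E78976 F304494))).symm
theorem F318999 : act 2 n136246 = n122835 := (sb E78976 (iv2 F305519))
theorem F319000 : act 3 n136246 = n153181 := (sb E78976 F304495)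
theorem F319001 : act 4 n136246 = n72951 := (sb E78976 (iv4 D154077))
theorem F319002 : act 6 n136246 = n108277 := (sb E78976 (iv6 F315117))
theorem F319004 : act 0 n57106 = n64243 := (sb E78977 (iv1 F219275))
theorem E82088 : n122835 = n64927 := (((iv1 F305518)).symm.trans (sb E78978 (iv1 F218662)))
theorem E82089 : n120365 = n64926 := (((iv0 F305037)).symm.trans (sb E78978 F218663))
theorem F319005 : act 2 n76086 = n64243 := (sb E78978 F218660)
theorem E82090 : n138240 = n34778 := (((F114076).symm.trans (sb E78978 (iv4 F221418)))).symm
theorem E82091 : n159147 = n63917 := ((D159147).symm.trans (sb E78978 (iv5 D135937)))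
theorem F319006 : act 2 n136662 = n76859 := (sb E78979 (iv2 D160347))
theorem F319007 : act 4 n70652 = n64243 := (sb E78980 (iv4 D136698))
theorem E82092 : n136247 = n70706 := ((((iv5 F107170)).symm.trans (sb E78980 F219826))).symm
theorem E82093 : n70492 = n64928 := ((F155255).symm.trans (sb E78980 F219825))
theorem E82094 : n88517 = n61430 := (((F95929).symm.trans (sb E78982 F288251))).symm
theorem F319008 : act 5 n60771 = n123579 := (sb E78982 F288252)
theorem E82095 : n129299 = n88516 := ((D129299).symm.trans (sb E78982 (iv6 D185843)))
theorem F319009 : act 0 n78930 = n128453 := (sb E78983 (iv1 F242784))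
theorem F319010 : act 1 n78930 = n128455 := (sb E78983 F242720)
theorem F319011 : act 2 n78930 = n73324 := (sb E78983 F242718)
theorem F319012 : act 4 n78930 = n73315 := (sb E78983 (iv4 D154622))
theorem F319013 : act 6 n78930 = n145942 := (sb E78983 F242719)
theorem F319014 : act 1 n78929 = n73324 := (sb E78984 (iv0 D154641))
theorem E82096 : n164339 = n128453 := (((iv2 F258970)).symm.trans (sb E78984 (iv2 F242780)))
theorem E82097 : n164341 = n106079 := ((D164341).symm.trans (sb E78984 F242781))
theorem E82098 : n164343 = n117202 := ((D164343).symm.trans (sb E78984 F242782))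
theorem E82099 : n164334 = n128455 := ((F258969).symm.trans (sb E78984 F242783))
theorem F319015 : act 0 n78928 = n73324 := (sb E78985 (iv1 D154642))
theorem E82100 : n164336 = n106078 := ((D164336).symm.trans (sb E78985 F242777))
theorem F319016 : act 3 n90261 = n73324 := (sb E78986 (iv3 D154643))
theorem F319017 : act 4 n90261 = n73341 := (sb E78986 F242785)
theorem F319018 : act 5 n78912 = n73324 := (sb E78987 (iv5 D154644))
theorem F319019 : act 3 n83370 = n80278 := (sb E78988 (iv3 D167229))
theorem F319020 : act 4 n69901 = n80278 := (sb E78989 (iv4 D167230))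
theorem F319021 : act 6 n131475 = n80278 := (sb E78990 (iv6 D167232))
theorem F319022 : act 1 n98890 = n83490 := (sb E78991 (iv0 D174744))
theorem F319023 : act 1 n174745 = n83889 := (sb E78992 (iv0 D175732))
theorem F319024 : act 2 n174745 = n177822 := (sb E78992 F281955)
theorem F319025 : act 3 n174745 = n86939 := (sb E78992 (iv3 F275167))
theorem F319026 : act 7 n174745 = n87394 := (sb E78992 (iv7 F281946))
theorem F319027 : act 0 n173344 = n87394 := (sb E78993 F275510)
theorem F319028 : act 1 n173344 = n177822 := (sb E78993 (iv0 F277348))
theorem F319029 : act 7 n173344 = n83889 := (sb E78993 F279275)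
theorem F319030 : act 3 n174746 = n151948 := (sb E78994 (iv3 F315930))
theorem F319031 : act 7 n173632 = n83490 := (sb E78996 (iv7 D174747))
theorem E82101 : n139692 = n73728 := ((D139692).symm.trans (sb E78997 F244141))
theorem E82102 : n139694 = n76736 := ((D139694).symm.trans (sb E78997 F244142))
theorem F319032 : act 6 n65568 = n73724 := (sb E78997 (iv6 D155241))
theorem F319033 : act 1 n58843 = n47795 := (sb E78998 (iv0 D103096))
theorem F319034 : act 1 n103097 = n111819 := (sb E78999 F173608)
theorem F319035 : act 2 n103097 = n111817 := (sb E78999 F173603)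
theorem F319036 : act 4 n103097 = n112716 := (sb E78999 F175438)
theorem F319037 : act 7 n103097 = n111816 := (sb E78999 F173598)
theorem F319038 : act 2 n51559 = n47795 := (sb E79000 F158375)
theorem E82103 : n111814 = n103671 := (((iv3 F173593)).symm.trans (sb E79000 (iv3 F159101)))
theorem E82104 : n111818 = n47792 := ((D111818).symm.trans (sb E79000 (iv5 D103086)))
theorem F319039 : act 4 n24621 = n47795 := (sb E79001 (iv4 D103098))
theorem E82105 : n112034 = n47796 := (((D47796).symm.trans (sb E79002 (iv7 F174141)))).symm
theorem F319040 : act 7 n51669 = n47795 := (sb E79003 (iv7 D103099))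
theorem E82106 : n148810 = n147624 := (((D147624).symm.trans (sb E79004 (iv1 F233660)))).symm
theorem E82107 : n147625 = n146751 := ((D147625).symm.trans (sb E79004 F230104))
theorem F319041 : act 2 n69184 = n54063 := (sb E79004 (iv2 D117301))
theorem F319042 : act 3 n48054 = n71833 := (sb E79006 (iv3 D152257))
theorem E82108 : n71835 = n23184 := ((((iv6 D48054)).symm.trans (sb E79006 F239315))).symm
theorem F319043 : act 0 n152258 = n138938 := (sb E79007 (iv1 F246858))
theorem F319044 : act 1 n152258 = n138937 := (sb E79007 F246857)
theorem F319045 : act 2 n152258 = n74601 := (sb E79007 F246855)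
theorem F319046 : act 7 n152258 = n138923 := (sb E79007 F246856)
theorem E82111 : n71836 = n23183 := ((D71836).symm.trans (sb E79008 (iv5 D48049)))
theorem F319047 : act 3 n112981 = n85457 := (sb E79012 (iv3 D179091))
theorem F319048 : act 1 n112976 = n85459 := (sb E79013 (iv0 D179094))
theorem F319049 : act 0 n52098 = n85459 := (sb E79014 (iv1 D179095))
theorem F319050 : act 2 n112975 = n85459 := (sb E79015 (iv2 D179096))
theorem F319051 : act 4 n112975 = n85472 := (sb E79015 F279034)
theorem E82113 : n116458 = n74588 := ((D116458).symm.trans (sb E79016 (iv6 D156842)))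
theorem F319052 : act 6 n34201 = n25981 := (sb E79017 (iv6 D53677))
theorem F319053 : act 2 n39471 = n25994 := (sb E79018 (iv2 D53715))
theorem E82118 : n116386 = n85479 := (((D85479).symm.trans (sb E79018 F181449))).symm
theorem F319054 : act 4 n39471 = n28284 := (sb E79018 F181450)
theorem E82119 : n116556 = n66446 := (((F316383).symm.trans (sb E79018 D116556))).symm
theorem E82120 : n116557 = n55241 := (((F113844).symm.trans (sb E79018 D116557))).symm
theorem F319055 : act 3 n39472 = n25998 := (sb E79019 F84751)
theorem F319056 : act 4 n39472 = n28285 := (sb E79019 F181454)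
theorem E82121 : n116570 = n72039 := ((((iv6 F185041)).symm.trans (sb E79019 D116570))).symm
theorem F319057 : act 7 n39472 = n25994 := (sb E79019 (iv7 D53719))
theorem F319058 : act 0 n27816 = n25994 := (sb E79020 (iv1 D53714))
theorem F319059 : act 3 n27816 = n31234 := (sb E79020 (iv3 F84748))
theorem F319060 : act 0 n39470 = n59689 := (sb E79021 F102828)
theorem E82123 : n142396 = n85473 := ((((iv3 F130689)).symm.trans (sb E79021 D142396))).symm
theorem F319061 : act 1 n39473 = n25994 := (sb E79023 F102803)
theorem F319062 : act 3 n39473 = n25982 := (sb E79023 (iv3 D53679))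
theorem E82130 : n142406 = n85459 := ((D142406).symm.trans (sb E79026 (iv6 D179098)))
theorem F319063 : act 6 n39465 = n31132 := (sb E79028 (iv6 D66781))
theorem F319064 : act 4 n58443 = n62591 := (sb E79030 (iv4 D133356))
theorem F319065 : act 1 n38719 = n61001 := (sb E79031 F211602)
theorem F319066 : act 3 n38719 = n29885 := (sb E79031 (iv3 D63212))
theorem F319067 : act 7 n38719 = n29891 := (sb E79031 F98462)
theorem F319068 : act 2 n65253 = n38976 := (sb E79036 F129438)
theorem E82136 : n161886 = n139003 := ((((iv3 F222180)).symm.trans (sb E79036 (iv3 F255875)))).symm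
theorem E82137 : n176999 = n139005 := ((((iv4 F222184)).symm.trans (sb E79036 D176999))).symm
theorem E82138 : n139008 = n38900 := ((D139008).symm.trans (sb E79036 (iv5 D84360)))
theorem F319069 : act 6 n84503 = n74559 := (sb E79037 (iv6 D156775))
theorem E82139 : n139007 = n116393 := (((D116393).symm.trans (sb E81172 (iv1 F246687)))).symm
theorem E82140 : n139006 = n116394 := (((D116394).symm.trans (sb E81172 F246688))).symm
theorem E82141 : n145584 = n74739 := ((D145584).symm.trans (sb E79041 (iv6 D157192)))
theorem E82142 : n145587 = n74740 := ((D145587).symm.trans (sb E79042 (iv6 D157193)))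
theorem F319070 : act 6 n34245 = n31760 := (sb E79044 (iv6 D68255))
theorem F319071 : act 2 n68243 = n31760 := (sb E79045 F104404)
theorem E82150 : n145562 = n124749 := ((((iv3 F318450)).symm.trans (sb E79045 (iv3 F228610)))).symm
theorem E82151 : n145568 = n145545 := (((D145545).symm.trans (sb E79045 (iv4 F228614)))).symm
theorem F319072 : act 7 n68243 = n31759 := (sb E79045 (iv7 D68251))
theorem F319073 : act 2 n68242 = n31759 := (sb E79046 (iv2 D68246))
theorem E82152 : n145553 = n145540 := (((D145540).symm.trans (sb E79046 D145553))).symm
theorem E82153 : n145554 = n145541 := (((D145541).symm.trans (sb E79046 D145554))).symm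
theorem F319074 : act 7 n68242 = n31760 := (sb E79046 (iv7 F104403))
theorem F319075 : act 3 n155983 = n85195 := (sb E79051 F278655)
theorem F319076 : act 3 n156143 = n85196 := (sb E79052 F278656)
theorem F319077 : act 0 n120161 = n119509 := (sb E79053 (iv1 F191410))
theorem F319078 : act 3 n120161 = n75684 := (sb E79053 F191408)
theorem F319079 : act 5 n120161 = n55313 := (sb E79053 F191409)
theorem F319080 : act 7 n120161 = n55312 := (sb E79053 (iv7 D120216))
theorem E82155 : n62341 = n28947 := ((((iv5 D61085)).symm.trans (sb E79054 (iv5 D132838)))).symm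
theorem F319081 : act 0 n62427 = n72000 := (sb E79055 (iv1 D152625))
theorem F319082 : act 7 n82887 = n133039 := (sb E79056 (iv7 F213703))
theorem F319083 : act 0 n110757 = n144506 := (sb E79057 (iv1 F227359))
theorem F319084 : act 1 n110757 = n144548 := (sb E79057 (iv0 F227411))
theorem F319085 : act 2 n110757 = n145026 := (sb E79057 F227979)
theorem F319086 : act 4 n110757 = n53688 := (sb E79057 (iv4 D116492))
theorem F319087 : act 7 n110757 = n66805 := (sb E79057 F181806)
theorem F319088 : act 0 n144947 = n71776 := (sb E79058 (iv1 D152181))
theorem F319089 : act 1 n144948 = n71776 := (sb E79059 (iv0 D152180))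
theorem F319090 : act 6 n144948 = n114716 := (sb E79059 F239266)
theorem F319091 : act 0 n142488 = n164503 := (sb E79060 (iv1 F259244))
theorem F319092 : act 1 n142488 = n164502 := (sb E79060 F259251)
theorem F319093 : act 6 n142488 = n164501 := (sb E79060 (iv6 F259240))
theorem F319094 : act 7 n142488 = n71776 := (sb E79060 (iv7 D152182))
theorem E82156 : n145028 = n119102 := ((D145028).symm.trans (sb E79061 (iv1 F187374)))
theorem E82157 : n145029 = n78895 := ((D145029).symm.trans (sb E79061 F178624))
theorem F319095 : act 4 n67990 = n52874 := (sb E79061 (iv4 D114549))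
theorem E82158 : n145031 = n133402 := ((D145031).symm.trans (sb E79061 (iv7 F214497)))
theorem F319096 : act 5 n135460 = n85307 := (sb E79062 (iv5 D178912))
theorem F319097 : act 1 n124959 = n66488 := (sb E79063 (iv0 D141811))
theorem F319098 : act 5 n124959 = n134705 := (sb E79063 F224819)
theorem F319099 : act 7 n124959 = n134704 := (sb E79063 (iv7 F224820))
theorem F319100 : act 5 n62225 = n68555 := (sb E79064 (iv5 D146192))
theorem F319101 : act 0 n142533 = n84082 := (sb E79065 (iv1 F272297))
theorem F319102 : act 2 n142533 = n83082 := (sb E79065 F272294)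
theorem F319103 : act 3 n142533 = n84150 := (sb E79065 F272295)
theorem F319104 : act 5 n142533 = n83081 := (sb E79065 (iv5 D173730))
theorem F319105 : act 7 n142533 = n84079 := (sb E79065 F272296)
theorem F319106 : act 0 n38740 = n66824 := (sb E79066 (iv1 D142534))
theorem F319107 : act 7 n142444 = n84082 := (sb E79067 (iv7 F275630))
theorem E82159 : n175339 = n66825 := (((D66825).symm.trans (sb E79068 F275633))).symm
theorem F319108 : act 2 n142536 = n84082 := (sb E79071 F275634)
theorem F319109 : act 0 n121725 = n60945 := (sb E79073 (iv1 D129763))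
theorem F319110 : act 2 n121725 = n68558 := (sb E79073 (iv2 F315688))
theorem F319111 : act 4 n121725 = n68533 := (sb E79073 F314987)
theorem F319112 : act 5 n121725 = n131094 := (sb E79073 (iv5 F209945))
theorem F319113 : act 7 n121725 = n68351 := (sb E79073 F314989)
theorem E82160 : n164528 = n101620 := (((D101620).symm.trans (sb E79076 (iv1 F259334)))).symm
theorem E82161 : n101621 = n71984 := ((D101621).symm.trans (sb E79076 (iv0 D152610)))
theorem F319114 : act 3 n74879 = n83683 := (sb E79077 (iv3 D175218))
theorem F319115 : act 6 n74877 = n83683 := (sb E79078 (iv6 D175221))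
theorem F319116 : act 2 n81683 = n60313 := (sb E79079 (iv2 F315995))
theorem F319117 : act 7 n81683 = n60312 := (sb E79079 (iv7 F315994))
theorem F319118 : act 0 n53544 = n81695 := (sb E79080 (iv1 D170374))
theorem F319119 : act 3 n45398 = n44724 := (sb E79081 (iv3 D95766))
theorem E82162 : n97134 = n84410 := ((D97134).symm.trans (sb E79081 F178266))
theorem F319120 : act 4 n81683 = n44724 := (sb E79082 (iv4 D95767))
theorem F319121 : act 0 n127503 = n81710 := (sb E79083 (iv1 F267889))
theorem F319122 : act 1 n127503 = n81705 := (sb E79083 (iv0 D170413))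
theorem F319123 : act 0 n127417 = n84421 := (sb E79086 (iv1 F276570))
theorem F319124 : act 1 n127417 = n84416 := (sb E79086 (iv0 D177150))
theorem F319125 : act 1 n52913 = n68634 := (sb E79087 (iv0 D146375))
theorem F319126 : act 0 n52894 = n68634 := (sb E79088 (iv1 D146376))
theorem F319127 : act 2 n52845 = n68634 := (sb E79089 (iv2 D146377))
theorem F319128 : act 5 n44051 = n68636 := (sb E79090 (iv5 D146383))
theorem E82163 : n147442 = n71927 := ((D147442).symm.trans (sb E79091 (iv2 F239343)))
theorem F319129 : act 4 n69116 = n71839 := (sb E79091 (iv4 D152272))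
theorem F319130 : act 7 n69116 = n71932 := (sb E79091 (iv7 F239341))
theorem F319131 : act 0 n66066 = n52757 := (sb E79092 F290371)
theorem F319132 : act 7 n66066 = n49129 := (sb E79092 (iv7 D106300))
theorem F319133 : act 0 n60000 = n30904 := (sb E79093 (iv1 D66083))
theorem F319134 : act 2 n60000 = n115866 := (sb E79093 F181486)
theorem E82165 : n140845 = n127773 := (((D127773).symm.trans (sb E79093 D140845))).symm
theorem F319135 : act 1 n67288 = n32269 := (sb E79094 (iv0 D69488))
theorem E82167 : n143673 = n117774 := ((D143673).symm.trans (sb E79094 F184456))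
theorem E82168 : n143674 = n115866 := ((D143674).symm.trans (sb E79094 (iv4 F180349)))
theorem E82169 : n143675 = n116089 := ((D143675).symm.trans (sb E79094 (iv5 F180872)))
theorem F319136 : act 0 n66082 = n49129 := (sb E79095 (iv1 D106298))
theorem F319137 : act 2 n66082 = n52757 := (sb E79095 F290368)
theorem E82171 : n140841 = n106133 := ((D140841).symm.trans (sb E79095 F290369))
theorem F319138 : act 4 n66082 = n70330 := (sb E79095 F235467)
theorem F319139 : act 0 n106623 = n106542 := (sb E79096 (iv1 F177658))
theorem F319140 : act 1 n106623 = n106539 := (sb E79096 (iv0 F177655))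
theorem F319141 : act 2 n106623 = n110777 := (sb E79096 (iv2 F171471))
theorem F319142 : act 4 n106623 = n49698 := (sb E79096 F165958)
theorem F319143 : act 6 n106623 = n106852 := (sb E79096 F165959)
theorem E82172 : n61951 = n49695 := ((F164236).symm.trans (sb E79096 (iv7 D107569)))
theorem F319144 : act 1 n107559 = n131300 := (sb E79098 F238982)
theorem F319145 : act 2 n107559 = n157357 := (sb E79098 F247672)
theorem F319146 : act 4 n107559 = n71650 := (sb E79098 (iv4 D151971))
theorem F319147 : act 7 n107559 = n157358 := (sb E79098 (iv7 F247674))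
theorem F319148 : act 4 n49209 = n49692 := (sb E79099 F165940)
theorem E82173 : n106492 = n49691 := ((D106492).symm.trans (sb E79099 (iv6 D107556)))
theorem E82174 : n113767 = n63756 := (((F214189).symm.trans (sb E79102 (iv1 F233548)))).symm
theorem E82175 : n135797 = n113766 := ((F218402).symm.trans (sb E79102 F233550))
theorem E82176 : n135799 = n113769 := ((F218408).symm.trans (sb E79102 F233543))
theorem E82177 : n131866 = n105316 := (((iv5 F214190)).symm.trans (sb E79102 F233545))
theorem F319149 : act 6 n133248 = n88527 := (sb E79102 F233546)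
theorem E82178 : n130977 = n69717 := ((F214188).symm.trans (sb E79102 (iv7 D148757)))
theorem F319150 : act 1 n92812 = n135829 := (sb E79103 (iv0 F218474))
theorem F319151 : act 5 n92812 = n62533 := (sb E79103 (iv5 D133249))
theorem E82179 : n130978 = n105313 := ((((iv7 F161488)).symm.trans (sb E79103 F214193))).symm
theorem F319152 : act 4 n41326 = n62535 := (sb E79104 F214195)
theorem F319153 : act 6 n41326 = n62533 := (sb E79104 (iv6 D133250))
theorem E82180 : n130979 = n69715 := ((D130979).symm.trans (sb E79105 (iv6 D148752)))
theorem F319154 : act 1 n90504 = n62535 := (sb E79106 (iv0 D133251))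
theorem F319155 : act 0 n90501 = n62535 := (sb E79107 (iv1 D133252))
theorem F319156 : act 5 n133245 = n93850 := (sb E79108 F288326)
theorem F319157 : act 7 n133245 = n90577 := (sb E79108 F288327)
theorem F319158 : act 5 n43869 = n62535 := (sb E79109 (iv5 D133253))
theorem E82181 : n130985 = n90571 := ((((iv6 F139403)).symm.trans (sb E79110 F214199))).symm
theorem F319159 : act 7 n42399 = n62535 := (sb E79110 (iv7 D133254))
theorem E82182 : n154333 = n132310 := (((iv2 F242424)).symm.trans (sb E79111 (iv2 F212125)))
theorem F319160 : act 5 n73119 = n60863 := (sb E79111 (iv5 D129544))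
theorem E82183 : n141408 = n108237 := ((((iv3 F313030)).symm.trans (sb E79112 (iv3 F224443)))).symm
theorem E82184 : n66935 = n65257 := ((((iv4 F313032)).symm.trans (sb E79112 F204473))).symm
theorem F319161 : act 6 n60347 = n59714 := (sb E79112 (iv6 D127201))
theorem E82187 : n177201 = n115622 := ((((iv3 F179961)).symm.trans (sb E79113 (iv3 F276589)))).symm
theorem E82188 : n177214 = n49568 := ((((iv4 F102825)).symm.trans (sb E79113 (iv4 F276608)))).symm
theorem E82189 : n141379 = n38931 := ((D141379).symm.trans (sb E79113 (iv6 D84437)))
theorem F319162 : act 3 n74106 = n53733 := (sb E79137 F181924)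
theorem F319163 : act 6 n116613 = n68890 := (sb E79138 (iv6 D146965))
theorem F319164 : act 6 n32039 = n53733 := (sb E79139 F181965)
theorem F319165 : act 0 n116614 = n178675 := (sb E79140 (iv1 F278486))
theorem F319166 : act 1 n116614 = n66874 := (sb E79140 F316204)
theorem F319167 : act 2 n116614 = n73959 := (sb E79140 F189190)
theorem F319168 : act 3 n116614 = n75949 := (sb E79140 F189191)
theorem F319169 : act 6 n116614 = n55162 := (sb E79140 (iv6 D119859))
theorem F319170 : act 0 n31034 = n14742 := (sb E79141 (iv1 D31230))
theorem E82192 : n67094 = n64617 := ((((iv4 F102074)).symm.trans (sb E79141 D67094))).symm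
theorem F319171 : act 6 n141766 = n67120 := (sb E79142 F225836)
theorem F319172 : act 7 n141766 = n67015 := (sb E79142 (iv7 D142991))
theorem F319173 : act 0 n141767 = n67062 := (sb E79143 (iv1 F225862))
theorem F319174 : act 1 n141767 = n67061 := (sb E79143 F225863)
theorem F319175 : act 2 n141767 = n67064 := (sb E79143 F225858)
theorem F319176 : act 6 n141767 = n67129 := (sb E79143 F225860)
theorem F319177 : act 7 n141767 = n67019 := (sb E79143 (iv7 D142999))
theorem E82195 : n141637 = n67035 := ((((iv4 F103025)).symm.trans (sb E79145 F224797))).symm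
theorem F319178 : act 5 n117366 = n67039 := (sb E79151 (iv5 D143045))
theorem F319179 : act 6 n117366 = n67043 := (sb E79151 F225908)
theorem F319180 : act 6 n117367 = n67099 := (sb E79152 F226012)
theorem E82196 : n149532 = n30893 := (((D30893).symm.trans (sb E79153 (iv5 F235152)))).symm
theorem E82197 : n86022 = n30894 := (((D30894).symm.trans (sb E79153 F314491))).symm
theorem F319181 : act 2 n69333 = n52790 := (sb E79156 (iv2 D114392))
theorem E82198 : n148027 = n52890 := ((D148027).symm.trans (sb E79156 F290406))
theorem E82199 : n148008 = n48735 := ((D148008).symm.trans (sb E79157 (iv3 D105404)))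
theorem F319182 : act 7 n69328 = n52790 := (sb E79157 F161745)
theorem F319183 : act 3 n48734 = n31640 := (sb E79158 (iv3 D67984))
theorem E82203 : n145015 = n105402 := (((D105402).symm.trans (sb E79158 D145015))).symm
theorem E82204 : n145016 = n105403 := (((D105403).symm.trans (sb E79158 D145016))).symm
theorem E82205 : n148424 = n76473 := ((D148424).symm.trans (sb E79159 F145293))
theorem E82206 : n148425 = n44050 := ((D148425).symm.trans (sb E79159 (iv5 D94233)))
theorem F319184 : act 0 n140804 = n66904 := (sb E79162 (iv1 D142711))
theorem F319185 : act 1 n140804 = n66920 := (sb E79162 F225621)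
theorem E82209 : n178976 = n142308 := ((((iv2 F225249)).symm.trans (sb E79163 (iv2 F278871)))).symm
theorem F319186 : act 5 n66721 = n39449 := (sb E79163 (iv5 D85415))
theorem F319187 : act 7 n151305 = n116375 := (sb E79164 F246435)
theorem F319188 : act 1 n32160 = n25975 := (sb E79165 (iv0 D53661))
theorem E82211 : n116421 = n69074 := ((((iv2 F105309)).symm.trans (sb E79165 D116421))).symm
theorem E82216 : n116426 = n69139 := (((D69139).symm.trans (sb E79165 D116426))).symm
theorem E82217 : n116429 = n69075 := ((D116429).symm.trans (sb E79166 F231016))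
theorem E82218 : n157430 = n116430 := (((D116430).symm.trans (sb E79166 (iv6 F247966)))).symm
theorem E82219 : n142456 = n54162 := ((D142456).symm.trans (sb E79169 F184169))
theorem F319189 : act 0 n33996 = n31149 := (sb E79170 (iv1 F102653))
theorem F319190 : act 1 n33996 = n31137 := (sb E79170 (iv0 D66793))
theorem F319191 : act 2 n33996 = n142449 := (sb E79170 D142449)
theorem F319192 : act 7 n33996 = n142454 := (sb E79170 D142454)
theorem F319193 : act 5 n66796 = n119573 := (sb E79171 (iv5 F188560))
theorem E82223 : n116485 = n54878 := (((iv6 F181785)).symm.trans (sb E79171 F184157))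
theorem E82224 : n116497 = n72183 := (((iv6 F181811)).symm.trans (sb E79172 F231885))
theorem E82225 : n116483 = n72181 := (((D72181).symm.trans (sb E79173 (iv1 F181780)))).symm
theorem E82226 : n116482 = n39370 := (((F130474).symm.trans (sb E79173 F181786))).symm
theorem F319194 : act 6 n33319 = n31149 := (sb E79173 F84713)
theorem F319195 : act 7 n33319 = n25986 := (sb E79173 (iv7 D53697))
theorem E82227 : n116602 = n31025 := ((D116602).symm.trans (sb E79175 (iv2 D66463)))
theorem E82228 : n141721 = n116604 := (((D116604).symm.trans (sb E79175 (iv4 F224768)))).symm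
theorem E82229 : n116607 = n116229 := ((D116607).symm.trans (sb E79175 (iv7 F181154)))
theorem F319196 : act 0 n53572 = n25997 := (sb E79176 (iv1 D53732))
theorem F319197 : act 5 n117108 = n78911 := (sb E79179 (iv5 D164273))
theorem E82234 : n137291 = n114232 := ((((iv1 F290559)).symm.trans (sb E79180 (iv1 F231308)))).symm
theorem F319198 : act 3 n106129 = n67966 := (sb E79181 F205068)
theorem F319199 : act 4 n106129 = n59915 := (sb E79181 (iv4 D127595))
theorem F319200 : act 1 n102040 = n54175 := (sb E79182 (iv0 D117594))
theorem F319201 : act 4 n102040 = n112488 := (sb E79182 F184192)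
theorem F319202 : act 0 n102036 = n54175 := (sb E79183 (iv1 D117595))
theorem F319203 : act 2 n89301 = n54175 := (sb E79184 (iv2 D117596))
theorem F319204 : act 4 n89301 = n96353 := (sb E79184 (tr F184193 E80406))
theorem F319205 : act 3 n47337 = n54177 := (sb E79185 F184194)
theorem E82235 : n109326 = n101861 := ((((iv4 F156816)).symm.trans (sb E79185 F184195))).symm
theorem F319206 : act 5 n47337 = n54175 := (sb E79185 (iv5 D117597))
theorem F319207 : act 6 n47334 = n54177 := (sb E79186 (iv6 D117600))
theorem F319208 : act 1 n141531 = n67405 := (sb E79187 (iv0 D143901))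
theorem F319209 : act 5 n141531 = n99592 := (sb E79187 F316861)
theorem E82236 : n138984 = n121493 := ((((iv1 F308703)).symm.trans (sb E79191 (iv1 F313138)))).symm
theorem E82237 : n129221 = n68348 := (((iv0 F207440)).symm.trans (sb E79191 (iv0 F114100)))
theorem F319210 : act 2 n60950 = n59971 := (sb E79191 (iv2 F130838))
theorem F319211 : act 4 n60950 = n34780 := (sb E79191 F114099)
theorem E82238 : n129780 = n34779 := ((D129780).symm.trans (sb E79191 (iv6 D76141)))
theorem E82255 : n141522 = n141450 := (((D141450).symm.trans (sb E79198 (iv4 F224576)))).symm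
theorem E82257 : n141531 = n141452 := (((D141452).symm.trans (sb E79198 D141531))).symm
theorem E82258 : n141223 = n76393 := (((iv5 F224242)).symm.trans (sb E79200 F229285))
theorem E82259 : n141454 = n31973 := (((F50326).symm.trans (sb E79201 (iv1 F224482)))).symm
theorem F319212 : act 5 n31864 = n30999 := (sb E79201 F102282)
theorem F319213 : act 3 n64537 = n34005 := (sb E79205 F110845)
theorem E82267 : n137312 = n121243 := ((D137312).symm.trans (sb E79205 (iv5 F313899)))
theorem E82268 : n120053 = n49761 := ((D120053).symm.trans (sb E79206 F166330))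
theorem F319214 : act 4 n55243 = n49753 := (sb E79206 (iv4 D107698))
theorem E82269 : n136726 = n55256 := ((((iv5 F87446)).symm.trans (sb E79206 (iv5 F219883)))).symm
theorem F319215 : act 4 n105552 = n120054 := (sb E79209 F247639)
theorem F319216 : act 3 n60357 = n30996 := (sb E79210 (iv3 D66384))
theorem E82273 : n141513 = n128379 := ((((iv4 F206498)).symm.trans (sb E79210 D141513))).symm
theorem F319217 : act 5 n48912 = n30996 := (sb E79211 (iv5 D66386))
theorem E82282 : n141521 = n118329 := (((D118329).symm.trans (sb E79212 (iv4 F224574)))).symm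
theorem F319218 : act 6 n54498 = n30996 := (sb E79212 (iv6 D66387))
theorem E82284 : n141536 = n105805 := (((D105805).symm.trans (sb E79214 (iv3 F224583)))).symm
theorem F319219 : act 5 n48917 = n30997 := (sb E79214 (iv5 D66391))
theorem E82287 : n144855 = n116149 := ((((iv3 F180956)).symm.trans (sb E79215 D144855))).symm
theorem E82288 : n141455 = n31572 := ((D141455).symm.trans (sb E79215 (iv4 D67898)))
theorem E82289 : n144857 = n68574 := (((E80460).symm.trans (((iv6 F224474)).symm.trans (sb E79215 D144857)))).symm
theorem E82290 : n141210 = n141192 := ((D141210).symm.trans (sb E79216 (tr (iv2 F237343) E81671)))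
theorem E82291 : n141212 = n55237 := ((D141212).symm.trans (sb E79216 F189587))
theorem E82292 : n141214 = n55236 := ((D141214).symm.trans (sb E79216 (iv6 D120037)))
theorem F319220 : act 1 n53536 = n81695 := (sb E79217 (iv0 D170373))
theorem F319221 : act 3 n142501 = n81695 := (sb E79218 F267848)
theorem F319222 : act 5 n142501 = n81692 := (sb E79218 (iv5 D170361))
theorem F319223 : act 6 n142501 = n84382 := (sb E79218 F267849)
theorem F319224 : act 2 n116147 = n53541 := (sb E79219 (iv2 D116169))
theorem F319225 : act 7 n116147 = n53542 := (sb E79219 (iv7 F180984))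
theorem E82294 : n150680 = n141917 := ((((iv5 F224957)).symm.trans (sb E79220 D150680))).symm
theorem F319226 : act 6 n53994 = n67662 := (sb E79222 (iv6 D144404))
theorem E82298 : n150609 = n141805 := (((D141805).symm.trans (sb E79223 (iv3 F237147)))).symm
theorem F319227 : act 4 n66485 = n33974 := (sb E79223 F107549)
theorem E82299 : n141806 = n32879 := ((D141806).symm.trans (sb E79223 (iv6 D70989)))
theorem F319228 : act 1 n53799 = n66881 := (sb E79224 (iv0 D142685))
theorem E82300 : n116241 = n65668 := (((E80912).symm.trans ((D116762).symm.trans (sb E79224 F225573)))).symm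
theorem F319229 : act 0 n86017 = n66448 := (sb E79226 (iv1 D141695))
theorem F319230 : act 0 n59711 = n39777 := (sb E79227 F110914)
theorem F319231 : act 2 n59711 = n85783 := (sb E79227 (iv2 F131554))
theorem E82301 : n146205 = n127149 := ((((iv3 F204408)).symm.trans (sb E79227 (iv3 F229494)))).symm
theorem E82302 : n127179 = n31896 := (((iv6 F204456)).symm.trans (sb E79227 (iv6 D68563)))
theorem F319232 : act 7 n59711 = n85782 := (sb E79227 F131552)
theorem F319233 : act 2 n86018 = n66448 := (sb E79228 (iv2 D141696))
theorem F319234 : act 0 n113132 = n179114 := (sb E79229 (iv1 F279065))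
theorem F319235 : act 1 n113132 = n60429 := (sb E79229 (iv0 D128481))
theorem F319236 : act 0 n113134 = n60429 := (sb E79230 (iv1 D128482))
theorem F319237 : act 1 n113134 = n179114 := (sb E79230 F279067)
theorem E82303 : n107610 = n85532 := ((D107610).symm.trans (sb E79231 (iv1 F200922)))
theorem E82304 : n107611 = n85531 := ((D107611).symm.trans (sb E79231 F200920))
theorem F319238 : act 2 n49712 = n58470 := (sb E79231 (iv2 D125065))
theorem F319239 : act 7 n49712 = n85533 := (sb E79231 F200919)
theorem F319240 : act 6 n59430 = n58470 := (sb E79232 (iv6 D125067))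
theorem F319241 : act 3 n156195 = n86823 := (sb E79234 (iv3 D181791))
theorem F319242 : act 4 n64156 = n86823 := (sb E79235 (iv4 D181792))
theorem F319243 : act 4 n64155 = n86824 := (sb E79236 (iv4 D181797))
theorem E82306 : n107689 = n39479 := (((F130705).symm.trans (sb E79238 F221782))).symm
theorem F319244 : act 2 n85503 = n156695 := (sb E79239 (iv2 F246471))
theorem F319245 : act 6 n71354 = n51309 := (sb E79240 (iv6 D111250))
theorem E82307 : n109687 = n76655 := ((D109687).symm.trans (sb E79242 (iv3 F114982)))
theorem E82308 : n118886 = n109688 := (((D109688).symm.trans (sb E79242 (iv4 F186943)))).symm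
theorem F319246 : act 6 n50591 = n26462 := (sb E79242 (iv6 D54717))
theorem E82309 : n144422 = n118184 := (((F185724).symm.trans (sb E79243 (iv2 F227219)))).symm
theorem E82310 : n118276 = n65636 := ((D118276).symm.trans (sb E79243 (iv6 D139826)))
theorem E82313 : n145100 = n116865 := ((((iv2 F205123)).symm.trans (sb E79244 (iv2 F228060)))).symm
theorem F319247 : act 6 n65597 = n33516 := (sb E79244 (iv6 D72616))
theorem F319248 : act 6 n65598 = n76649 := (sb E79245 F252569)
theorem F319249 : act 1 n30639 = n65149 := (sb E79254 (iv0 D138739))
theorem E82319 : n156978 = n65299 := (E81236).trans E81244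
theorem F319250 : act 0 n139125 = n146612 := (sb E79262 F252262)
theorem F319251 : act 2 n139125 = n85393 := (sb E79262 F308231)
theorem F319252 : act 3 n139125 = n146660 := (sb E79262 F252261)
theorem F319253 : act 6 n139125 = n76578 := (sb E79262 (iv6 D159947))
theorem E82320 : n143140 = n47606 := (((iv3 F225998)).symm.trans (sb E79264 F157855))
theorem E82321 : n143144 = n99826 := (((iv5 F226006)).symm.trans (sb E79264 F157856))
theorem F319254 : act 6 n67081 = n47605 := (sb E79264 (iv6 D102643))
theorem F319255 : act 2 n26453 = n31247 := (sb E79265 F103063)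
theorem E82324 : n143065 = n54693 := (((D54693).symm.trans (sb E79265 (iv3 F225918)))).symm
theorem F319256 : act 5 n26453 = n31233 := (sb E79265 (iv5 D67104))
theorem F319257 : act 4 n60121 = n31247 := (sb E79266 (iv4 D67149))
theorem E82331 : n142956 = n31247 := ((F318353).symm.trans (sb E79267 (iv0 D67147)))
theorem F319258 : act 5 n26454 = n31248 := (sb E79268 F103099)
theorem F319259 : act 7 n26454 = n31247 := (sb E79268 (iv7 D67150))
theorem F319260 : act 3 n74460 = n71119 := (sb E79269 F237413)
theorem F319261 : act 3 n118314 = n65162 := (sb E79273 F221896)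
theorem F319262 : act 0 n105937 = n65121 := (sb E79274 (iv1 F221830))
theorem F319263 : act 1 n105937 = n65120 := (sb E79274 F221831)
theorem F319264 : act 7 n105937 = n65115 := (sb E79274 (iv7 D138672))
theorem F319265 : act 6 n74483 = n66622 := (sb E79276 (iv6 D142073))
theorem F319266 : act 4 n108569 = n58476 := (sb E79289 F200557)
theorem F319267 : act 6 n108569 = n73392 := (sb E79289 F200558)
theorem F319268 : act 3 n108572 = n58381 := (sb E79290 F200559)
theorem F319269 : act 6 n33758 = n50131 := (sb E79291 (iv6 D108573))
theorem E82337 : n138936 = n31139 := (((F49493).symm.trans (sb E79293 (iv4 F222129)))).symm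
theorem E82338 : n66593 = n65172 := ((D66593).symm.trans (sb E79293 (iv6 D138792)))
theorem E82339 : n66599 = n58378 := ((D66599).symm.trans (sb E79294 (iv6 D124869)))
theorem E82340 : n66605 = n34156 := ((((iv1 F53643)).symm.trans (sb E79295 D66605))).symm
theorem E82342 : n66607 = n65062 := (((F222374).symm.trans (sb E79295 D66607))).symm
theorem F319270 : act 6 n30596 = n14695 := (sb E79295 (iv6 D31075))
theorem E82344 : n156611 = n66615 := (((D66615).symm.trans (sb E79297 (iv1 F246308)))).symm
theorem E82345 : n156610 = n66616 := (((D66616).symm.trans (sb E79297 F246312))).symm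
theorem E82346 : n66618 = n65180 := ((D66618).symm.trans (sb E79297 (iv7 D138817)))
theorem E82347 : n148233 = n79001 := ((D148233).symm.trans (sb E79298 F235451))
theorem E82348 : n148235 = n70326 := ((D148235).symm.trans (sb E79298 (iv6 D149722)))
theorem E82349 : n143663 = n66074 := ((D143663).symm.trans (sb E79299 (iv1 D140825)))
theorem E82350 : n143664 = n66079 := ((D143664).symm.trans (sb E79299 F223906))
theorem F319271 : act 3 n52835 = n66074 := (sb E79300 (iv3 D140826))
theorem E82351 : n143600 = n114469 := (((D114469).symm.trans (sb E79300 (iv4 F226284)))).symm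
theorem F319272 : act 1 n74908 = n53529 := (sb E79301 (iv0 D116134))
theorem F319273 : act 0 n108566 = n58475 := (sb E79302 (iv1 F200955))
theorem F319274 : act 1 n108566 = n58474 := (sb E79302 (iv0 D125081))
theorem F319275 : act 2 n108566 = n58478 := (sb E79302 (iv2 F200951))
theorem F319276 : act 3 n108566 = n85540 := (sb E79302 F200952)
theorem F319277 : act 5 n108566 = n75958 := (sb E79302 F200953)
theorem F319278 : act 7 n108566 = n58476 := (sb E79302 F200954)
theorem F319279 : act 3 n156118 = n85199 := (sb E79305 F278350)
theorem F319280 : act 6 n119006 = n74652 := (sb E79307 (iv6 D157007))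
theorem F319281 : act 7 n74471 = n53529 := (sb E79308 (iv7 D116137))
theorem F319282 : act 2 n116170 = n159414 := (sb E79309 (iv2 F251038))
theorem F319283 : act 5 n116170 = n59896 := (sb E79309 (iv5 D127538))
theorem F319284 : act 6 n116170 = n70583 := (sb E79309 F204997)
theorem F319285 : act 2 n116171 = n73389 := (sb E79310 F205019)
theorem F319286 : act 6 n116171 = n69303 := (sb E79310 F205020)
theorem F319287 : act 5 n28453 = n53541 := (sb E79311 (iv5 D116172))
theorem F319288 : act 6 n32928 = n53541 := (sb E79312 (iv6 D116173))
theorem E82352 : n167817 = n66529 := (((D66529).symm.trans (sb E79313 D167817))).symm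
theorem E82353 : n167818 = n66530 := (((D66530).symm.trans (sb E79313 D167818))).symm
theorem E82354 : n167820 = n66531 := (((D66531).symm.trans (sb E79313 D167820))).symm
theorem F319289 : act 0 n31087 = n60149 := (sb E79315 (iv1 F188337))
theorem E82355 : n167812 = n66644 := (((D66644).symm.trans (sb E79315 D167812))).symm
theorem E82356 : n167813 = n66645 := (((D66645).symm.trans (sb E79315 D167813))).symm
theorem E82357 : n78248 = n66646 := (((D66646).symm.trans (sb E79315 (iv5 F201136)))).symm
theorem E82358 : n167814 = n66647 := (((D66647).symm.trans (sb E79315 D167814))).symm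
theorem F319290 : act 1 n31088 = n60149 := (sb E79316 (iv0 F188336))
theorem E82359 : n167815 = n66649 := (((D66649).symm.trans (sb E79316 D167815))).symm
theorem E82360 : n167816 = n66650 := (((D66650).symm.trans (sb E79316 D167816))).symm
theorem E82361 : n78249 = n66651 := (((D66651).symm.trans (sb E79316 F201143))).symm
theorem E82362 : n71121 = n66652 := (((D66652).symm.trans (sb E79316 F201145))).symm
theorem F319291 : act 3 n70143 = n66620 := (sb E79317 F181304)
theorem F319292 : act 6 n70143 = n53608 := (sb E79317 (iv6 D116305))
theorem F319293 : act 1 n80603 = n53609 := (sb E79318 (iv0 D116306))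
theorem F319294 : act 0 n80602 = n53609 := (sb E79319 (iv1 D116307))
theorem E82363 : n167917 = n142815 := ((D167917).symm.trans (sb E79319 (iv3 F225712)))
theorem F319295 : act 0 n116253 = n167924 := (sb E79320 (iv1 F264615))
theorem F319296 : act 1 n116253 = n167923 := (sb E79320 F264614)
theorem F319297 : act 7 n116253 = n167913 := (sb E79320 (iv7 F264577))
theorem F319298 : act 5 n32883 = n53609 := (sb E79321 (iv5 D116308))
theorem F319299 : act 0 n80600 = n53615 := (sb E79322 (iv1 F181312))
theorem F319300 : act 1 n80600 = n53614 := (sb E79322 F181313)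
theorem F319301 : act 6 n80600 = n66364 := (sb E79322 F181310)
theorem F319302 : act 7 n80600 = n53609 := (sb E79322 (iv7 D116309))
theorem E82364 : n66643 = n66621 := ((D66643).symm.trans (sb E79323 (iv2 D142065)))
theorem E82365 : n66648 = n66622 := ((D66648).symm.trans (sb E79323 (iv7 F225081)))
theorem E82366 : n142066 = n137951 := (((D137951).symm.trans (iv1 (sb E79324 (tr (iv0 D150508) E81417))))).symm
theorem E82367 : n150508 = n137951 := (E79324).trans E82366
theorem F319303 : act 5 n137951 = n128345 := (sb E82367 F236987)
theorem F319304 : act 6 n137951 = n150911 := (sb E82367 (iv6 F237627))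
theorem E82368 : n142125 = n137951 := (((iv7 F225154)).symm.trans (iv7 (sb E82367 (tr (iv7 F264266) E82359))))
theorem F319305 : act 0 n142067 = n153610 := (sb E79325 (iv1 F241465))
theorem F319306 : act 1 n142067 = n153602 := (sb E79325 F241466)
theorem E82369 : n142126 = n142067 := (((iv2 F225155)).symm.trans (iv2 (sb E79325 (tr (iv2 F264259) E82356))))
theorem F319307 : act 5 n60346 = n66621 := (sb E79326 (iv5 D142068))
theorem E82370 : n142128 = n140921 := (((iv2 F225159)).symm.trans (iv2 (sb E79327 (tr (iv2 F264262) E82358))))
theorem F319308 : act 3 n140921 = n150911 := (sb E79327 (iv3 F237626))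
theorem F319309 : act 5 n142070 = n167837 := (sb E79329 (iv5 F264404))
theorem E82371 : n142135 = n142070 := ((D142135).symm.trans (iv7 (sb E79329 (tr (iv7 F264257) E82355))))
theorem F319310 : act 0 n142071 = n153602 := (sb E79330 (iv1 F241440))
theorem F319311 : act 1 n142071 = n153610 := (sb E79330 F264272)
theorem E82372 : n142141 = n142071 := (((iv2 F225167)).symm.trans (iv2 (sb E79330 (tr (iv2 F264269) E82360))))
theorem F319312 : act 5 n80551 = n66622 := (sb E79331 (iv5 D142072))
theorem E82373 : n141904 = n141886 := ((D141904).symm.trans (iv2 (sb E79332 (tr F264276 E82352))))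
theorem E82374 : n141909 = n141887 := (((iv2 F224954)).symm.trans (iv2 (sb E79333 (tr F264281 E82353))))
theorem F319313 : act 4 n141887 = n147903 := (sb E79333 (iv4 F264192))
theorem F319314 : act 6 n141887 = n147902 := (sb E79333 F264193)
theorem F319315 : act 2 n128009 = n66532 := (sb E79334 F224926)
theorem F319316 : act 7 n128009 = n66524 := (sb E79334 (iv7 D141889))
theorem F319317 : act 5 n80537 = n66620 := (sb E79336 (iv5 D142063))
theorem F319318 : act 0 n31341 = n53529 := (sb E79337 (iv1 D116135))
theorem E82375 : n143791 = n116491 := ((((iv4 F181805)).symm.trans (sb E79339 F226585))).symm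
theorem E82376 : n143548 = n139094 := ((((iv4 F222282)).symm.trans (sb E79344 (iv4 F226587)))).symm
theorem F319319 : act 0 n54122 = n87361 := (sb E79348 (iv1 D182998))
theorem E82377 : n122853 = n117448 := (((D117448).symm.trans (sb E79348 (iv0 F306476)))).symm
theorem E82378 : n117272 = n104240 := (((iv2 F183511)).symm.trans (sb E79348 (iv2 F290073)))
theorem E82379 : n117449 = n104235 := ((D117449).symm.trans (sb E79348 (iv5 F289753)))
theorem E82380 : n122850 = n117450 := (((D117450).symm.trans (sb E79348 (iv7 F306474)))).symm
theorem F319320 : act 2 n146013 = n117448 := (sb E79349 (tr (iv2 F306478) E82377))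
theorem F319321 : act 5 n146013 = n87362 := (sb E79349 F284591)
theorem F319322 : act 7 n146013 = n87361 := (sb E79349 (iv7 D183000))
theorem F319323 : act 3 n118650 = n68454 := (sb E79350 (iv3 D146015))
theorem F319324 : act 4 n119049 = n68455 := (sb E79351 F229237)
theorem F319325 : act 6 n119049 = n68454 := (sb E79351 (iv6 D146017))
theorem F319326 : act 5 n129311 = n84169 := (sb E79352 (iv5 D176536))
theorem F319327 : act 0 n61790 = n82887 := (sb E79353 (iv1 D173209))
theorem F319328 : act 1 n61785 = n82887 := (sb E79354 (iv0 D173208))
theorem F319329 : act 3 n61972 = n38798 := (sb E79355 F129208)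
theorem F319330 : act 5 n61972 = n38797 := (sb E79355 (iv5 D84172))
theorem E82382 : n176544 = n132077 := (((D132077).symm.trans (sb E79355 D176544))).symm
theorem F319331 : act 3 n54626 = n34499 := (sb E79356 (iv3 D75367))
theorem E82383 : n118634 = n80431 := ((D118634).symm.trans (sb E79356 (iv4 F123625)))
theorem E82384 : n158218 = n118636 := (((D118636).symm.trans (sb E79356 D158218))).symm
theorem E82390 : n134654 = n34617 := ((D134654).symm.trans (sb E79358 (iv3 D75702)))
theorem E82391 : n158703 = n134655 := (((D134655).symm.trans (sb E79358 D158703))).symm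
theorem E82392 : n158704 = n134656 := (((D134656).symm.trans (sb E79358 D158704))).symm
theorem F319332 : act 3 n63273 = n34625 := (sb E79359 F113574)
theorem E82396 : n158741 = n134660 := (((D134660).symm.trans (sb E79359 D158741))).symm
theorem F319333 : act 1 n105414 = n52790 := (sb E79361 (iv0 D114390))
theorem F319334 : act 0 n54772 = n52790 := (sb E79362 (iv1 D114391))
theorem E82397 : n114861 = n55969 := (((iv5 F178929)).symm.trans (sb E79363 (iv5 D121324)))
theorem F319335 : act 0 n88842 = n71665 := (sb E79364 (iv1 D151997))
theorem F319336 : act 2 n89318 = n71665 := (sb E79365 (iv2 D151998))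
theorem F319337 : act 3 n89135 = n71666 := (sb E79366 F239017)
theorem F319338 : act 5 n89135 = n71665 := (sb E79366 (iv5 D151999))
theorem E82398 : n147121 = n47821 := (((D47821).symm.trans (sb E79370 (iv3 F230676)))).symm
theorem F319339 : act 4 n23013 = n32090 := (sb E79370 F105186)
theorem E82399 : n147124 = n47823 := (((D47823).symm.trans (sb E79370 D147124))).symm
theorem E82400 : n47824 = n32089 := ((D47824).symm.trans (sb E79370 (iv6 D68980)))
theorem F319340 : act 2 n84410 = n67890 := (sb E79371 (iv2 F315257))
theorem F319341 : act 7 n84410 = n67885 := (sb E79371 (iv7 F315255))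
theorem E82401 : n146521 = n105432 := ((D146521).symm.trans (sb E79372 (iv1 F178945)))
theorem F319342 : act 1 n68684 = n53003 := (sb E79372 (iv0 D114865))
theorem E82402 : n147115 = n44682 := (E79373).trans E79376
theorem E82403 : n95660 = n68978 := ((D95660).symm.trans (sb E82402 F230659))
theorem F319343 : act 4 n68800 = n45338 := (sb E79374 (iv4 D96983))
theorem F319344 : act 6 n59860 = n45338 := (sb E79375 (iv6 D96985))
theorem E82404 : n95658 = n45338 := ((D95658).symm.trans (sb E79376 (iv2 D96981)))
theorem E82405 : n95663 = n45339 := ((D95663).symm.trans (sb E79376 (iv7 F149576)))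
theorem F319345 : act 0 n162913 = n79984 := (sb E79377 (iv1 D166649))
theorem F319346 : act 1 n162913 = n79988 := (sb E79377 F262281)
theorem F319347 : act 0 n133875 = n79988 := (sb E79378 (iv1 F262288))
theorem F319348 : act 1 n133875 = n79984 := (sb E79378 (iv0 D166648))
theorem F319349 : act 3 n162841 = n79966 := (sb E79379 F262208)
theorem F319350 : act 4 n162841 = n79988 := (sb E79379 F262209)
theorem F319351 : act 6 n162841 = n163613 := (sb E79379 F262210)
theorem E82406 : n166582 = n79961 := (((iv7 F262149)).symm.trans (sb E79379 (iv7 D166609)))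
theorem F319352 : act 4 n60312 = n45412 := (sb E79380 (iv4 D97170))
theorem F319353 : act 4 n97174 = n73861 := (sb E79381 (iv4 D155399))
theorem F319354 : act 6 n97174 = n146271 := (sb E79381 F244373)
theorem F319355 : act 4 n60313 = n45413 := (sb E79382 (iv4 D97175))
theorem E82407 : n146272 = n97270 := ((D146272).symm.trans (sb E79383 (iv5 F150026)))
theorem F319356 : act 6 n68592 = n45413 := (sb E79383 (iv6 D97177))
theorem F319357 : act 0 n59930 = n45414 := (sb E79384 (iv1 D97179))
theorem F319358 : act 1 n59930 = n95773 := (sb E79384 F149915)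
theorem F319359 : act 1 n118562 = n55312 := (sb E79385 (iv0 D120213))
theorem F319360 : act 4 n119112 = n55292 := (sb E79386 (iv4 D120163))
theorem F319361 : act 7 n119112 = n133596 := (sb E79386 (iv7 F214919))
theorem F319362 : act 4 n55018 = n55312 := (sb E79387 (iv4 D120215))
theorem E82408 : n130114 = n98215 := ((((iv3 F151557)).symm.trans (sb E79391 (iv3 F208631)))).symm
theorem E82409 : n130118 = n98216 := ((((iv4 F151558)).symm.trans (sb E79391 D130118))).symm
theorem E82410 : n98219 = n28948 := ((D98219).symm.trans (sb E79391 (iv5 D61090)))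
theorem F319363 : act 7 n45908 = n62313 := (sb E79391 (iv7 F208615))
theorem F319364 : act 0 n119438 = n83652 := (sb E79393 F275552)
theorem F319365 : act 1 n119438 = n83731 := (sb E79393 F275553)
theorem F319366 : act 7 n119438 = n83730 := (sb E79393 F279273)
theorem F319367 : act 2 n128168 = n77462 := (sb E79396 F243831)
theorem F319368 : act 3 n128168 = n73595 := (sb E79396 F243832)
theorem E82412 : n154565 = n153946 := ((F305637).symm.trans (sb E79396 F243833))
theorem F319369 : act 6 n128168 = n73593 := (sb E79396 (iv6 D155054))
theorem F319370 : act 0 n114066 = n83628 := (sb E79397 (iv1 F239798))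
theorem F319371 : act 1 n114066 = n71981 := (sb E79397 (iv0 D152600))
theorem E82413 : n114820 = n82960 := (((iv3 F178896)).symm.trans (sb E79397 (iv3 F261699)))
theorem F319372 : act 5 n139278 = n83101 := (sb E79400 (iv5 D173774))
theorem F319373 : act 6 n69546 = n83101 := (sb E79401 (iv6 D173775))
theorem F319374 : act 0 n143870 = n83100 := (sb E79402 (iv1 D173769))
theorem F319375 : act 1 n143870 = n83104 := (sb E79402 F272360)
theorem E82414 : n83185 = n83102 := ((F310286).symm.trans (sb E79402 F273674))
theorem F319376 : act 4 n143870 = n164553 := (sb E79402 (iv4 F272361))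
theorem F319377 : act 7 n143870 = n83101 := (sb E79402 F273675)
theorem F319378 : act 0 n128712 = n82570 := (sb E79403 (iv1 D172460))
theorem F319379 : act 4 n128712 = n83775 := (sb E79403 F270669)
theorem E82415 : n103726 = n81582 := (((iv1 F159174)).symm.trans (sb E79404 (iv1 D170099)))
theorem F319380 : act 3 n68983 = n114663 := (sb E79406 F190333)
theorem F319381 : act 4 n68983 = n47768 := (sb E79406 (iv4 D103034))
theorem F319382 : act 2 n23013 = n47769 := (sb E79407 F158276)
theorem F319383 : act 7 n23013 = n47768 := (sb E79407 (iv7 D103036))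
theorem F319384 : act 3 n74179 = n47769 := (sb E79408 (iv3 D103037))
theorem F319385 : act 4 n32080 = n47769 := (sb E79409 (iv4 D103038))
theorem F319386 : act 3 n103039 = n64073 := (sb E79410 F219343)
theorem F319387 : act 6 n103039 = n64070 := (sb E79410 (iv6 D136283))
theorem F319388 : act 6 n32079 = n47769 := (sb E79411 (iv6 D103040))
theorem F319389 : act 2 n44723 = n45412 := (sb E79412 (iv2 D97168))
theorem F319390 : act 7 n44723 = n45413 := (sb E79412 (iv7 F149912))
theorem F319391 : act 2 n44724 = n45413 := (sb E79413 F149914)
theorem F319392 : act 7 n44724 = n45412 := (sb E79413 (iv7 D97173))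
theorem F319393 : act 2 n44754 = n28464 := (sb E79414 (iv2 F316564))
theorem F319394 : act 7 n44754 = n28447 := (sb E79414 (iv7 F316562))
theorem E82416 : n147702 = n103753 := ((D147702).symm.trans (sb E79416 F290448))
theorem E82417 : n147703 = n95867 := ((D147703).symm.trans (sb E79416 (iv2 F290446)))
theorem F319395 : act 5 n69215 = n45422 := (sb E79416 (iv5 D97202))
theorem E82418 : n147704 = n104662 := ((D147704).symm.trans (sb E79416 (iv6 F160365)))
theorem E82419 : n127522 = n95862 := (((iv7 F204976)).symm.trans (sb E79416 F290445))
theorem F319396 : act 3 n44759 = n28447 := (sb E79417 (iv3 D59890))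
theorem E82422 : n127523 = n95863 := (((D95863).symm.trans (sb E79417 D127523))).symm
theorem F319397 : act 5 n67884 = n95851 := (sb E79418 F147532)
theorem E82425 : n103102 = n51944 := ((D103102).symm.trans (sb E79419 F105424))
theorem E82426 : n147455 = n89250 := ((((iv5 F293242)).symm.trans (sb E79419 D147455))).symm
theorem F319398 : act 6 n47798 = n32156 := (sb E79419 (iv6 D69121))
theorem E82427 : n147456 = n103104 := (((D103104).symm.trans (sb E79419 D147456))).symm
theorem F319399 : act 3 n47799 = n51669 := (sb E79420 (iv3 D112033))
theorem E82428 : n153159 = n64410 := (((iv3 F240463)).symm.trans (sb E79428 F220158))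
theorem E82438 : n165667 = n85136 := (((F315775).symm.trans (sb E79432 (iv2 F260945)))).symm
theorem E82440 : n132708 = n36235 := ((D132708).symm.trans (sb E79432 (iv5 D79566)))
theorem F319400 : act 5 n17500 = n29469 := (sb E79433 (iv5 D62284))
theorem E82443 : n180306 = n85130 := ((D180306).symm.trans (sb E79434 (iv2 F311867)))
theorem E82444 : n180307 = n118480 := ((D180307).symm.trans (sb E79434 F208276))
theorem E82445 : n180308 = n83160 := ((D180308).symm.trans (sb E79434 F311093))
theorem F319401 : act 7 n86120 = n61015 := (sb E79434 (iv7 D129904))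
theorem F319402 : act 6 n62225 = n39862 := (sb E79436 (iv6 D86121))
theorem E82452 : n152866 = n115378 := ((((iv4 F179657)).symm.trans (sb E79438 (iv4 F240071)))).symm
theorem E82456 : n116905 = n78444 := (((iv4 F182651)).symm.trans (sb E79440 F313762))
theorem F319403 : act 3 n130087 = n83960 := (sb E79442 F275287)
theorem F319404 : act 7 n130087 = n83950 := (sb E79442 (iv7 D175912))
theorem F319405 : act 5 n117908 = n130082 := (sb E79443 (iv5 F208552))
theorem F319406 : act 6 n117908 = n60885 := (sb E79443 (iv6 D129612))
theorem E82457 : n116235 = n65661 := (E80903).trans E81861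
theorem F319407 : act 3 n64188 = n71250 := (sb E79448 (iv3 D151180))
theorem E82459 : n103798 = n71290 := (((D71290).symm.trans (sb E79453 (iv3 F295859)))).symm
theorem E82460 : n71296 = n51181 := ((D71296).symm.trans (sb E79454 (iv1 F80736)))
theorem E82461 : n71297 = n51180 := ((D71297).symm.trans (sb E79454 F80741))
theorem E82462 : n71298 = n51183 := ((D71298).symm.trans (sb E79454 (iv2 F80739)))
theorem F319408 : act 5 n32992 = n24208 := (sb E79454 F78412)
theorem F319409 : act 6 n32992 = n49983 := (sb E79454 (iv6 F79066))
theorem F319410 : act 7 n32992 = n24207 := (sb E79454 (iv7 D49648))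
theorem E82463 : n146149 = n36396 := (((D36396).symm.trans (sb E79456 (iv3 F229396)))).symm
theorem F319411 : act 5 n17575 = n31880 := (sb E79456 (iv5 D68531))
theorem F319412 : act 0 n155504 = n76670 := (sb E79457 (iv1 F252634))
theorem F319413 : act 2 n155504 = n149574 := (sb E79457 F252631)
theorem F319414 : act 4 n155504 = n76662 := (sb E79457 (iv4 D160082))
theorem F319415 : act 7 n155504 = n139760 := (sb E79457 (iv7 F314020))
theorem F319416 : act 0 n155506 = n149574 := (sb E79458 (iv1 F252675))
theorem F319417 : act 1 n155506 = n139760 := (sb E79458 (iv0 F314018))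
theorem F319418 : act 7 n155506 = n76670 := (sb E79458 (iv7 D160097))
theorem F319419 : act 3 n70137 = n68702 := (sb E79459 F225145)
theorem F319420 : act 7 n70137 = n66638 := (sb E79459 (iv7 D142108))
theorem F319421 : act 3 n114542 = n68710 := (sb E79460 (iv3 D146613))
theorem F319422 : act 4 n105427 = n68712 := (sb E79461 F229906)
theorem F319423 : act 6 n105427 = n68710 := (sb E79461 (iv6 D146615))
theorem F319424 : act 0 n147601 = n75132 := (sb E79464 (iv1 D157692))
theorem F319425 : act 1 n147602 = n75132 := (sb E79465 (iv0 D157691))
theorem F319426 : act 3 n68805 = n69184 := (sb E79466 F231390)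
theorem F319427 : act 5 n68805 = n69178 := (sb E79466 (iv5 D147603))
theorem F319428 : act 2 n147285 = n83906 := (sb E79467 F275181)
theorem F319429 : act 4 n147285 = n83898 := (sb E79467 (iv4 D175762))
theorem F319430 : act 5 n139715 = n81434 := (sb E79470 F312396)
theorem F319431 : act 6 n139715 = n72756 := (sb E79470 (iv6 D153799))
theorem F319432 : act 7 n139715 = n147493 := (sb E79470 F241653)
theorem F319433 : act 3 n69082 = n39257 := (sb E79471 F130038)
theorem F319434 : act 4 n69082 = n176767 := (sb E79471 F302241)
theorem F319435 : act 6 n69082 = n39255 := (sb E79471 (iv6 D84841))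
theorem F319436 : act 0 n78824 = n51035 := (sb E79472 (iv1 F171290))
theorem E82470 : n59307 = n35884 := (((F119978).symm.trans (sb E79472 F171285))).symm
theorem F319437 : act 1 n58655 = n51035 := (sb E79473 F171286)
theorem E82471 : n125293 = n112565 := (((iv3 F201506)).symm.trans (sb E79473 F175125))
theorem E82472 : n112035 = n27894 := (((F92647).symm.trans (sb E79473 (iv4 F174147)))).symm
theorem E82473 : n25220 = n17523 := (((iv1 F39726)).symm.trans (sb E79474 F297261))
theorem E82474 : n40288 = n11760 := ((((iv0 D24821)).symm.trans (sb E79474 (iv0 F61318)))).symm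
theorem F319438 : act 2 n24821 = n17570 := (sb E79474 F43792)
theorem E82475 : n56239 = n51029 := (((D51029).symm.trans (sb E79474 (iv3 F88951)))).symm
theorem F319439 : act 4 n24821 = n39257 := (sb E79474 (iv4 F60215))
theorem E82476 : n25274 = n17601 := (((iv5 F171315)).symm.trans (sb E79474 F43793))
theorem F319440 : act 6 n24821 = n12981 := (sb E79474 (iv6 D27099))
theorem E82477 : n178264 = n54063 := (((D54063).symm.trans (sb E79475 (iv3 F277813)))).symm
theorem F319441 : act 6 n26151 = n39256 := (sb E79475 (iv6 D84842))
theorem F319442 : act 6 n110694 = n78361 := (sb E79476 F257330)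
theorem F319443 : act 7 n110694 = n79875 := (sb E79476 F257331)
theorem E82478 : n78317 = n51034 := (((D51034).symm.trans (sb E79477 (iv3 F119528)))).symm
theorem E82479 : n25275 = n17306 := (((iv5 F171314)).symm.trans (sb E79477 (iv5 D35715)))
theorem E82480 : n51037 = n17309 := ((D51037).symm.trans (sb E79477 F56405))
theorem F319444 : act 7 n24822 = n17570 := (sb E79477 F56406)
theorem F319445 : act 6 n35717 = n51035 := (sb E79478 (iv6 D110695))
theorem E82481 : n24709 = n12908 := (((iv1 F39590)).symm.trans (sb E79480 (iv1 D26976)))
theorem E82482 : n17324 = n11946 := ((((iv0 D25158)).symm.trans (sb E79480 F43532))).symm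
theorem F319446 : act 2 n25158 = n17363 := (sb E79480 F119883)
theorem E82483 : n55939 = n51821 := (((D51821).symm.trans (sb E79480 D55939))).symm
theorem E82484 : n35853 = n25167 := (((F81881).symm.trans (sb E79480 (iv5 F56512)))).symm
theorem E82485 : n55941 = n51824 := (((D51824).symm.trans (sb E79480 D55941))).symm
theorem F319447 : act 7 n25158 = n17362 := (sb E79480 (iv7 F119887))
theorem F319448 : act 2 n112333 = n78756 := (sb E79481 F193347)
theorem F319449 : act 0 n112334 = n78873 := (sb E79482 (iv1 F193354))
theorem E82486 : n112334 = n77621 := (((D77621).symm.trans (iv1 (sb E79482 (tr (iv0 F193353) E81993))))).symm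
theorem E82487 : n121262 = n77621 := (E79482).trans E82486
theorem E82488 : n78757 = n77443 := (((F302048).symm.trans (sb E82487 F193350))).symm
theorem E82489 : n161609 = n51824 := ((D161609).symm.trans (sb E82487 (tr F193351 E82485)))
theorem E82490 : n86076 = n75744 := (((F302050).symm.trans (sb E82487 F193352))).symm
theorem F319450 : act 6 n112341 = n163935 := (sb E79483 (iv6 F258370))
theorem F319451 : act 7 n112341 = n78755 := (sb E79483 F193331)
theorem F319452 : act 2 n25159 = n17362 := (sb E79484 (iv2 F119886))
theorem E82491 : n55935 = n51826 := (((D51826).symm.trans (sb E79484 D55935))).symm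
theorem E82492 : n55937 = n25168 := (((F81884).symm.trans (sb E79484 D55937))).symm
theorem E82493 : n51829 = n24699 := ((D51829).symm.trans (sb E79484 (tr (iv6 F56514) E81555)))
theorem F319453 : act 7 n25159 = n17363 := (sb E79484 F119885)
theorem F319454 : act 6 n78758 = n51827 := (sb E79485 (iv6 D112343))
theorem E82494 : n110581 = n86223 := ((D110581).symm.trans (sb E79486 (iv1 D180540)))
theorem F319455 : act 1 n50989 = n86227 := (sb E79486 F280989)
theorem F319456 : act 0 n108018 = n86227 := (sb E79487 (iv1 F280997))
theorem E82495 : n110582 = n86225 := (((iv1 F171149)).symm.trans (sb E79488 (iv1 F280998)))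
theorem E82496 : n86224 = n49885 := ((((iv0 D108016)).symm.trans (sb E79488 F280999))).symm
theorem F319457 : act 2 n108016 = n86227 := (sb E79488 F280994)
theorem F319458 : act 3 n108016 = n177598 := (sb E79488 F280995)
theorem F319459 : act 6 n108016 = n124480 := (sb E79488 F280996)
theorem E82497 : n86203 = n24557 := ((((iv3 D50371)).symm.trans (sb E79489 F280918))).symm
theorem F319460 : act 4 n50371 = n86227 := (sb E79489 F280919)
theorem E82498 : n124454 = n109114 := (((D109114).symm.trans (sb E79489 F280920))).symm
theorem E82499 : n109115 = n86197 := ((D109115).symm.trans (sb E79489 (iv7 D180494)))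
theorem E82500 : n58723 = n24656 := ((D58723).symm.trans (sb E79491 (iv3 D50625)))
theorem E82503 : n59282 = n57934 := (((F254963).symm.trans (sb E79492 F93512))).symm
theorem E82506 : n109116 = n81905 := ((((iv1 F126247)).symm.trans (sb E79493 D109116))).symm
theorem E82507 : n81904 = n51727 := ((F126251).symm.trans (sb E79493 (iv0 F170025)))
theorem E82508 : n81906 = n28060 := (((iv2 F126248)).symm.trans (sb E79493 F169967))
theorem E82509 : n109119 = n39190 := (((F60711).symm.trans (sb E79493 D109119))).symm
theorem E82512 : n50561 = n27913 := ((((iv1 F45075)).symm.trans (sb E79494 (iv1 D109601)))).symm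
theorem E82513 : n110410 = n27693 := ((((iv0 F44640)).symm.trans (sb E79494 F170780))).symm
theorem E82514 : n112794 = n39271 := ((((iv4 F60237)).symm.trans (sb E79494 (iv4 F175613)))).symm
theorem F319461 : act 1 n110609 = n86226 := (sb E79496 (iv0 D180553))
theorem F319462 : act 0 n69197 = n86226 := (sb E79497 (iv1 D180554))
theorem E82517 : n178352 = n112566 := (((F175131).symm.trans (sb E79497 (iv5 F281002)))).symm
theorem F319463 : act 0 n113223 = n177678 := (sb E79498 (iv1 F277113))
theorem F319464 : act 1 n113223 = n177677 := (sb E79498 F277112)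
theorem F319465 : act 2 n113223 = n58718 := (sb E79498 F201679)
theorem F319466 : act 5 n113223 = n178361 := (sb E79498 (iv5 F277923))
theorem F319467 : act 6 n113223 = n58717 := (sb E79498 (iv6 D125403))
theorem F319468 : act 7 n113223 = n177598 := (sb E79498 (iv7 F277062))
theorem E82518 : n58712 = n28066 := ((((iv3 D59076)).symm.trans (sb E79499 F201660))).symm
theorem F319469 : act 4 n59076 = n58718 := (sb E79499 F201661)
theorem E82519 : n126086 = n58710 := ((D126086).symm.trans (sb E79499 (iv6 D125379)))
theorem E82520 : n58713 = n6343 := ((((iv1 D13386)).symm.trans (sb E79500 D58713))).symm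
theorem E82521 : n58714 = n28058 := (((F45328).symm.trans (sb E79500 D58714))).symm
theorem E82522 : n45160 = n28064 := ((((iv2 F45330)).symm.trans (sb E79500 (iv2 F71162)))).symm
theorem F319470 : act 3 n13386 = n13313 := (sb E79500 F45082)
theorem E82523 : n28067 = n23670 := ((D28067).symm.trans (sb E79500 F45083))
theorem E82524 : n28068 = n13311 := ((D28068).symm.trans (sb E79500 (iv6 D27915)))
theorem F319471 : act 0 n86268 = n51834 := (sb E79503 F171345)
theorem E82531 : n79704 = n51015 := ((F303802).symm.trans (sb E79503 (iv5 D110636)))
theorem E82532 : n78441 = n13374 := ((((iv5 D28029)).symm.trans (sb E79504 (iv5 D163196)))).symm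
theorem F319472 : act 2 n25161 = n39924 := (sb E79505 (iv2 F60743))
theorem E82533 : n51835 = n17323 := ((D51835).symm.trans (sb E79505 (iv6 D35749)))
theorem F319473 : act 2 n112361 = n180619 := (sb E79506 (iv2 F281139))
theorem F319474 : act 5 n112361 = n78451 := (sb E79506 (iv5 D163232))
theorem F319475 : act 7 n112361 = n79935 := (sb E79506 F257505)
theorem E82534 : n112758 = n78450 := (((F313802).symm.trans (sb E79509 (iv1 F175561)))).symm
theorem F319476 : act 1 n85774 = n50917 := (sb E79509 (iv0 F170777))
theorem E82535 : n112414 = n78448 := (((F313804).symm.trans (sb E79509 (iv2 F174899)))).symm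
theorem E82536 : n121009 = n50747 := (((iv5 F316265)).symm.trans (sb E79509 (iv5 D110025)))
theorem E82537 : n112411 = n39616 := ((((iv7 D85774)).symm.trans (sb E79509 (iv7 F174893)))).symm
theorem F319477 : act 0 n58550 = n50917 := (sb E79510 F170162)
theorem E82538 : n86239 = n50748 := (((iv5 F316266)).symm.trans (sb E79510 (iv5 D110028)))
theorem F319478 : act 2 n35747 = n50917 := (sb E79511 F170790)
theorem E82539 : n50916 = n17360 := (((F56421).symm.trans (sb E79511 (iv5 D110417)))).symm
theorem E82540 : n55930 = n11722 := ((((iv5 D24762)).symm.trans (sb E79512 F193131))).symm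
theorem E82541 : n55877 = n50922 := (((D50922).symm.trans (sb E79512 (iv6 D121103)))).symm
theorem E82542 : n55931 = n50914 := (((D50914).symm.trans (sb E79513 D55931))).symm
theorem E82543 : n55932 = n50915 := (((D50915).symm.trans (sb E79513 D55932))).symm
theorem E82544 : n12986 = n11733 := (((F38755).symm.trans (sb E79513 F43530))).symm
theorem E82545 : n50918 = n12907 := ((D50918).symm.trans (sb E79513 (iv6 D26974)))
theorem E82546 : n55933 = n25264 := ((((iv7 F39863)).symm.trans (sb E79513 D55933))).symm
theorem F319479 : act 6 n26954 = n50917 := (sb E79514 (iv6 D110420))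
theorem F319480 : act 4 n52047 = n39424 := (sb E79515 (iv4 D85325))
theorem E82548 : n148609 = n112761 := (((D112761).symm.trans (sb E79515 (iv6 F233369)))).symm
theorem E82549 : n178673 = n53213 := ((D178673).symm.trans (sb E79516 (iv4 D115350)))
theorem E82550 : n163896 = n114605 := (E79517).trans E81741
theorem F319481 : act 3 n114605 = n78729 := (sb E82550 (iv3 D163896))
theorem E82551 : n73842 = n51016 := ((((iv1 F82033)).symm.trans (sb E79518 (iv1 F194274)))).symm
theorem E82552 : n78531 = n25205 := ((((iv0 D51945)).symm.trans (sb E79518 F194275))).symm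
theorem E82553 : n109418 = n58086 := ((F173361).symm.trans (sb E79518 F194271))
theorem F319482 : act 5 n51945 = n78729 := (sb E79518 F194272)
theorem E82554 : n112580 = n58088 := ((D112580).symm.trans (sb E79518 F194273))
theorem E82555 : n51671 = n18621 := (((F57144).symm.trans (sb E79520 (iv4 F82034)))).symm
theorem E82557 : n110078 = n39920 := ((((iv3 F60739)).symm.trans (sb E79522 D110078))).symm
theorem E82561 : n112120 = n79925 := ((((iv2 F122665)).symm.trans (sb E79523 (iv2 F174331)))).symm
theorem E82564 : n126356 = n79929 := (((D79929).symm.trans (sb E79523 D126356))).symm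
theorem F319483 : act 4 n54107 = n69332 := (sb E79524 (iv4 D148024))
theorem E82565 : n124915 = n105766 := (((iv2 F200633)).symm.trans (sb E79525 F227816))
theorem E82566 : n75946 = n67905 := (((iv5 F113839)).symm.trans (sb E79525 (iv5 D144871)))
theorem E82567 : n124945 = n105754 := ((D124945).symm.trans (sb E79525 F227817))
theorem E82568 : n145001 = n54772 := ((D145001).symm.trans (sb E79526 (iv1 D119023)))
theorem E82569 : n145002 = n105414 := ((D145002).symm.trans (sb E79526 F187252))
theorem E82570 : n145003 = n69328 := ((D145003).symm.trans (sb E79526 F316814))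
theorem F319484 : act 4 n67981 = n69310 := (sb E79526 F316815)
theorem F319485 : act 7 n67981 = n69333 := (sb E79526 F316816)
theorem F319486 : act 4 n68719 = n68711 := (sb E79527 (iv4 D146616))
theorem F319487 : act 0 n120038 = n105796 := (sb E79528 F229832)
theorem F319488 : act 2 n120038 = n159962 := (sb E79528 (iv2 F252304))
theorem F319489 : act 4 n120038 = n159926 := (sb E79528 (iv4 F252190))
theorem F319490 : act 5 n120038 = n68680 := (sb E79528 (iv5 D146510))
theorem F319491 : act 7 n120038 = n121374 := (sb E79528 F229831)
theorem F319492 : act 0 n76584 = n55237 := (sb E79529 (iv1 D120039))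
theorem E82571 : n79202 = n59306 := ((F318529).symm.trans (sb E79530 (iv5 D126411)))
theorem E82572 : n112795 = n80070 := (((D80070).symm.trans (sb E79531 D112795))).symm
theorem E82574 : n50961 = n39889 := (((F60698).symm.trans (sb E79531 F171060))).symm
theorem E82575 : n112728 = n39888 := ((((iv3 F60694)).symm.trans (sb E79533 F175477))).symm
theorem E82576 : n180472 = n113146 := ((D180472).symm.trans (sb E79535 (iv1 F176291)))
theorem E82577 : n180473 = n108819 := ((D180473).symm.trans (sb E79535 (iv0 F171085)))
theorem E82578 : n112804 = n78353 := (((F132149).symm.trans (sb E79535 (iv7 F175638)))).symm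
theorem E82579 : n25276 = n17580 := ((F39897).symm.trans (sb E79536 F43823))
theorem E82580 : n56270 = n50965 := (((D50965).symm.trans (sb E79536 D56270))).symm
theorem F319493 : act 4 n24782 = n39890 := (sb E79536 F60703)
theorem F319494 : act 5 n24782 = n17570 := (sb E79536 (iv5 F43825))
theorem E82581 : n50968 = n17498 := ((D50968).symm.trans (sb E79536 (iv6 F298411)))
theorem F319495 : act 2 n26551 = n14826 := (sb E79543 F49768)
theorem E82583 : n67545 = n54886 := (((D54886).symm.trans (sb E79543 (iv4 F103438)))).symm
theorem F319496 : act 6 n26551 = n14825 := (sb E79543 (iv6 D31456))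
theorem F319497 : act 3 n31292 = n53772 := (sb E79547 F182063)
theorem F319498 : act 6 n31292 = n53769 := (sb E79547 (iv6 D116679))
theorem F319499 : act 5 n26082 = n53772 := (sb E79548 (iv5 D116685))
theorem F319500 : act 1 n26533 = n14826 := (sb E79564 (iv0 D31457))
theorem F319501 : act 0 n26553 = n14826 := (sb E79565 (iv1 D31458))
theorem E82594 : n72229 = n67550 := (((D67550).symm.trans (sb E79566 D72229))).symm
theorem E82596 : n72231 = n67552 := (((D67552).symm.trans (sb E79566 D72231))).symm
theorem F319502 : act 0 n76634 = n66755 := (sb E79567 (iv1 F205113))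
theorem E82597 : n74019 = n67717 := ((F114929).symm.trans (sb E79567 F205115))
theorem F319503 : act 5 n119162 = n66767 := (sb E79568 (iv5 D142380))
theorem F319504 : act 6 n119162 = n66771 := (sb E79568 F225300)
theorem F319505 : act 3 n31296 = n53681 := (sb E79572 F181745)
theorem E82598 : n67734 = n65579 := ((D67734).symm.trans (sb E79575 (iv0 D139721)))
theorem F319506 : act 0 n68555 = n121725 := (sb E79582 F280606)
theorem F319507 : act 3 n85202 = n74630 := (sb E79583 (iv3 F315842))
theorem F319508 : act 7 n85202 = n85188 := (sb E79583 F278346)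
theorem F319509 : act 2 n85203 = n85188 := (sb E79585 (iv2 D178761))
theorem F319510 : act 1 n76973 = n83184 := (sb E79586 F272607)
theorem F319511 : act 0 n76972 = n83184 := (sb E79587 (iv1 F272610))
theorem F319512 : act 3 n159207 = n83184 := (sb E79588 F272614)
theorem F319513 : act 5 n159207 = n83182 := (sb E79588 (iv5 D173963))
theorem F319514 : act 6 n125275 = n83184 := (sb E79589 (iv6 D173968))
theorem F319515 : act 5 n76974 = n83169 := (sb E79590 (iv5 D173928))
theorem F319516 : act 7 n76974 = n83184 := (sb E79590 F315007)
theorem E82599 : n82545 = n39860 := ((((iv5 D86116)).symm.trans (sb E79593 (iv5 D172387)))).symm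
theorem F319517 : act 6 n86116 = n83169 := (sb E79593 (iv6 F270604))
theorem F319518 : act 6 n86119 = n83178 := (sb E79594 (iv6 D173949))
theorem E82600 : n82532 = n39858 := (((D39858).symm.trans (sb E79597 F303503))).symm
theorem E82601 : n82447 = n39859 := (((D39859).symm.trans (sb E79597 (iv0 D172156)))).symm
theorem E82602 : n86079 = n77326 := (((iv1 F132039)).symm.trans (sb E79598 (iv1 F299928)))
theorem E82603 : n86081 = n77450 := (((iv0 F132038)).symm.trans (sb E79598 (iv0 F299929)))
theorem E82604 : n121441 = n86096 := ((((iv3 F132049)).symm.trans (sb E79598 (iv3 F193782)))).symm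
theorem E82606 : n86099 = n27043 := ((D86099).symm.trans (sb E79598 (iv5 D56068)))
theorem F319519 : act 2 n124316 = n67236 := (sb E79599 F225830)
theorem F319520 : act 4 n124316 = n66999 := (sb E79599 (iv4 D142985))
theorem F319521 : act 7 n118480 = n69515 := (sb E79600 (iv7 F232124))
theorem F319522 : act 2 n118541 = n69515 := (sb E79605 F232125)
theorem F319523 : act 3 n61590 = n69515 := (sb E79606 (iv3 D148327))
theorem F319524 : act 4 n61015 = n69515 := (sb E79607 (iv4 D148328))
theorem F319525 : act 5 n120679 = n69515 := (sb E79608 (iv5 D148329))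
theorem F319526 : act 6 n61014 = n69515 := (sb E79609 (iv6 D148330))
theorem F319527 : act 0 n132990 = n69516 := (sb E79610 (iv1 D148332))
theorem F319528 : act 2 n125292 = n83046 := (sb E79616 F311100)
theorem F319529 : act 6 n125292 = n83044 := (sb E79616 F311101)
theorem F319530 : act 7 n125292 = n61102 := (sb E79616 (iv7 D130158))
theorem E82608 : n178595 = n85188 := ((F318294).symm.trans (sb E79621 (iv0 D178759)))
theorem F319531 : act 4 n111159 = n85188 := (sb E79623 (iv4 D178762))
theorem F319532 : act 3 n138373 = n85190 := (sb E79624 F278640)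
theorem F319533 : act 5 n138373 = n85188 := (sb E79624 (iv5 D178763))
theorem F319534 : act 3 n118332 = n65095 := (sb E79625 F221792)
theorem F319535 : act 7 n118332 = n65088 := (sb E79625 (iv7 D138625))
theorem E82609 : n138686 = n116337 := (E79626).trans E80021
theorem F319536 : act 2 n116337 = n65120 := (sb E82609 (iv2 D138686))
theorem F319537 : act 7 n116337 = n65121 := (sb E82609 (iv7 F221850))
theorem F319538 : act 6 n138689 = n70778 := (sb E79627 (iv6 D150312))
theorem F319539 : act 6 n80602 = n65120 := (sb E79628 (iv6 D138690))
theorem F319540 : act 0 n118333 = n65115 := (sb E79629 (iv1 D138670))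
theorem E82610 : n138669 = n116337 := (E79630).trans E80021
theorem F319541 : act 1 n116337 = n65115 := (sb E82610 (iv0 D138669))
theorem E82613 : n146237 = n66360 := ((((iv2 F102264)).symm.trans (sb E79631 (iv2 F229535)))).symm
theorem F319542 : act 5 n30995 = n31902 := (sb E79631 (iv5 D68576))
theorem E82615 : n85191 = n66347 := (((D66347).symm.trans (sb E79632 F315028))).symm
theorem E82616 : n66349 = n65110 := ((D66349).symm.trans (sb E79632 (iv6 D138660)))
theorem E82617 : n66352 = n65111 := ((D66352).symm.trans (sb E79633 (iv6 D138662)))
theorem E82618 : n66355 = n14503 := ((((iv1 D30573)).symm.trans (sb E79634 D66355))).symm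
theorem F319543 : act 6 n30573 = n14663 := (sb E79634 (iv6 D30989))
theorem E82621 : n66341 = n53841 := ((D66341).symm.trans (sb E79635 (iv0 D116836)))
theorem F319544 : act 1 n83110 = n60263 := (sb E79637 (iv0 D128184))
theorem F319545 : act 0 n35650 = n60263 := (sb E79638 (iv1 D128185))
theorem F319546 : act 2 n75776 = n60263 := (sb E79639 F206325)
theorem E82622 : n158820 = n154162 := (((iv3 F250053)).symm.trans (sb E79639 (iv3 F242272)))
theorem E82623 : n158823 = n124679 := ((D158823).symm.trans (sb E79639 F206326))
theorem E82624 : n158824 = n60262 := ((D158824).symm.trans (sb E79639 (iv6 D128183)))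
theorem F319547 : act 1 n83355 = n60264 := (sb E79643 (iv0 D128188))
theorem F319548 : act 0 n84148 = n60264 := (sb E79644 (iv1 D128189))
theorem F319549 : act 3 n75765 = n60264 := (sb E79645 F178503)
theorem E82625 : n52825 = n38685 := (((F113622).symm.trans (sb E79645 F178504))).symm
theorem E82626 : n158806 = n52824 := ((D158806).symm.trans (sb E79645 (iv6 D114448)))
theorem E82627 : n160632 = n83966 := ((((iv1 F272154)).symm.trans (sb E79646 (iv1 F281261)))).symm
theorem E82628 : n160630 = n83890 := ((D160630).symm.trans (sb E79648 F278414))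
theorem F319550 : act 2 n77023 = n83054 := (sb E79648 (iv2 D173664))
theorem E82629 : n160625 = n83980 := (((iv3 F253732)).symm.trans (sb E79648 F272155))
theorem F319551 : act 4 n38221 = n71898 := (sb E79649 F239596)
theorem F319552 : act 4 n80423 = n83054 := (sb E79650 (iv4 D173665))
theorem E82630 : n167571 = n83967 := ((D167571).symm.trans (sb E79650 F272160))
theorem F319553 : act 6 n39939 = n83054 := (sb E79651 (iv6 D173666))
theorem F319554 : act 1 n38675 = n160629 := (sb E79652 F281263)
theorem E82631 : n160597 = n83969 := (((D83969).symm.trans (sb E79652 F281260))).symm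
theorem F319555 : act 4 n98540 = n175178 := (sb E79655 (iv4 F274218))
theorem F319556 : act 6 n98540 = n54819 := (sb E79655 (iv6 D119128))
theorem F319557 : act 4 n149842 = n77641 := (sb E79656 (iv4 D161655))
theorem F319558 : act 6 n161656 = n84903 := (sb E79657 F255695)
theorem F319559 : act 6 n35458 = n77641 := (sb E79658 (iv6 D161657))
theorem E82632 : n63493 = n43582 := (((F295146).symm.trans (sb E79660 (iv4 D135098)))).symm
theorem F319560 : act 0 n38216 = n82957 := (sb E79661 (iv1 D173346))
theorem F319561 : act 1 n38639 = n82957 := (sb E79662 (iv0 D173345))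
theorem E82633 : n83891 = n83487 := ((D83891).symm.trans (sb E79663 F271802))
theorem F319562 : act 7 n38637 = n82957 := (sb E79663 (iv7 D173348))
theorem F319563 : act 7 n173633 = n83494 := (sb E79664 (iv7 D174762))
theorem F319564 : act 6 n173353 = n83043 := (sb E79665 (iv6 D173634))
theorem F319565 : act 5 n62317 = n83907 := (sb E79667 (iv5 D175793))
theorem E82634 : n88468 = n62506 := (((F207495).symm.trans (sb E79668 F288041))).symm
theorem F319566 : act 5 n129297 = n128182 := (sb E79668 F288042)
theorem F319567 : act 6 n129297 = n88467 := (sb E79668 (iv6 D185745))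
theorem F319568 : act 3 n73632 = n47316 := (sb E79672 (iv3 D101806))
theorem E82635 : n101820 = n64458 := (E79673).trans E80301
theorem E82636 : n137112 = n47320 := (((iv3 F220284)).symm.trans (sb E82635 F156776))
theorem F319570 : act 3 n61674 = n46296 := (sb E79675 F152482)
theorem E82637 : n131402 = n46293 := ((D131402).symm.trans (sb E79675 (iv6 D98940)))
theorem F319571 : act 1 n173436 = n83008 := (sb E79677 (iv0 D173503))
theorem F319572 : act 0 n96183 = n58125 := (sb E79678 (iv1 D124537))
theorem F319573 : act 0 n98520 = n83380 := (sb E79679 (iv1 F273309))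
theorem F319574 : act 1 n98520 = n83375 := (sb E79679 (iv0 D174429))
theorem F319575 : act 5 n80275 = n60924 := (sb E79680 (iv5 D129693))
theorem E82641 : n167925 = n53590 := (((D53590).symm.trans (sb E79687 (iv7 F264617)))).symm
theorem E82645 : n150569 = n107650 := ((((iv2 F166259)).symm.trans (sb E79690 D150569))).symm
theorem F319576 : act 3 n67795 = n32870 := (sb E79690 (iv3 D70973))
theorem E82646 : n32880 = n31483 := ((((iv6 D67795)).symm.trans (sb E79690 F107519))).symm
theorem E82671 : n32961 = n28244 := (((F111381).symm.trans (sb E79697 D32961))).symm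
theorem E82672 : n32962 = n28211 := ((((iv0 F111384)).symm.trans (sb E79697 D32962))).symm
theorem F319577 : act 3 n108071 = n118248 := (sb E79698 F237304)
theorem E82676 : n144719 = n118285 := ((((iv4 F185831)).symm.trans (sb E79699 (iv4 F227559)))).symm
theorem E82677 : n66673 = n66134 := (((F311135).symm.trans (sb E79705 (iv5 D142222)))).symm
theorem E82678 : n70857 = n66671 := (((D66671).symm.trans (sb E79707 F200012))).symm
theorem E82679 : n125261 = n66674 := (((D66674).symm.trans (sb E79707 D125261))).symm
theorem F319578 : act 5 n31096 = n27881 := (sb E79707 (iv5 D58619))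
theorem F319579 : act 6 n31096 = n31777 := (sb E79707 (iv6 F313904))
theorem F319580 : act 5 n85955 = n66681 := (sb E79715 (iv5 D142250))
theorem E82681 : n66679 = n54453 := ((D66679).symm.trans (sb E79717 (iv1 F155428)))
theorem E82682 : n66680 = n54458 := ((D66680).symm.trans (sb E79717 (iv0 F155195)))
theorem E82683 : n167829 = n66682 := (((D66682).symm.trans (sb E79717 D167829))).symm
theorem F319581 : act 5 n31101 = n39766 := (sb E79717 F123814)
theorem F319582 : act 7 n31101 = n39765 := (sb E79717 F123816)
theorem E82684 : n107701 = n85547 := (((D85547).symm.trans (sb E79722 (iv3 F245451)))).symm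
theorem E82685 : n85548 = n74300 := ((D85548).symm.trans (sb E79722 (iv4 D156190)))
theorem E82686 : n107741 = n69684 := ((D107741).symm.trans (sb E79737 (iv3 D148692)))
theorem F319583 : act 3 n49770 = n60950 := (sb E79743 F208122)
theorem E82687 : n60949 = n28292 := (((F78628).symm.trans (sb E79743 (iv5 D129777)))).symm
theorem E82688 : n132620 = n107745 := (((D107745).symm.trans (sb E79743 (iv7 F212871)))).symm
theorem E82692 : n60951 = n28287 := ((D60951).symm.trans (sb E79744 (iv6 D59607)))
theorem E82694 : n126985 = n55246 := ((D126985).symm.trans (sb E79747 (iv1 F189626)))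
theorem E82695 : n126986 = n66440 := ((D126986).symm.trans (sb E79747 F316872))
theorem E82696 : n126988 = n74100 := ((D126988).symm.trans (sb E79747 F189624))
theorem E82697 : n126996 = n66674 := ((D126996).symm.trans (sb E79750 (tr F239909 E82679)))
theorem E82698 : n155886 = n126997 := (((D126997).symm.trans (sb E79750 F244878))).symm
theorem E82699 : n163048 = n127151 := (((D127151).symm.trans (sb E79755 (iv3 F257395)))).symm
theorem F319584 : act 4 n59698 = n39473 := (sb E79755 F316309)
theorem E82700 : n127152 = n79603 := ((D127152).symm.trans (sb E79755 F304744))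
theorem E82701 : n127153 = n35731 := ((D127153).symm.trans (sb E79755 (iv6 D78401)))
theorem F319585 : act 7 n59698 = n39470 := (sb E79755 (iv7 F313859))
theorem F319586 : act 0 n58456 = n28329 := (sb E79756 (iv1 D59699))
theorem F319587 : act 1 n58456 = n28334 := (sb E79756 F94094)
theorem E82702 : n126637 = n125030 := ((((iv3 F200849)).symm.trans (sb E79756 F203726))).symm
theorem E82705 : n127164 = n33998 := ((D127164).symm.trans (sb E79757 (iv1 D74095)))
theorem E82706 : n127165 = n86190 := ((D127165).symm.trans (sb E79757 F316310))
theorem F319588 : act 2 n59702 = n120046 := (sb E79757 F189608)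
theorem E82708 : n127167 = n120045 := ((D127167).symm.trans (sb E79757 (iv7 F189607)))
theorem E82709 : n127171 = n53672 := ((((iv1 F84684)).symm.trans (sb E79759 D127171))).symm
theorem F319589 : act 4 n31158 = n28330 := (sb E79759 (iv4 D59706))
theorem E82713 : n127175 = n31543 := (((F311330).symm.trans (sb E79759 D127175))).symm
theorem E82714 : n127177 = n30753 := ((D127177).symm.trans (sb E79760 (iv1 D65648)))
theorem E82715 : n127178 = n66413 := ((D127178).symm.trans (sb E79760 F102326))
theorem E82716 : n139857 = n127146 := ((((iv3 F204407)).symm.trans (sb E79760 D139857))).symm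
theorem E82717 : n127180 = n66410 := ((D127180).symm.trans (sb E79760 F200172))
theorem F319590 : act 1 n28702 = n28331 := (sb E79761 (iv0 D59709))
theorem F319591 : act 0 n31013 = n28331 := (sb E79762 (iv1 D59710))
theorem E82728 : n159392 = n127147 := (((D127147).symm.trans (sb E79763 F252892))).symm
theorem E82729 : n159420 = n127148 := (((D127148).symm.trans (sb E79763 F252894))).symm
theorem E82730 : n148044 = n64803 := ((((iv4 F102783)).symm.trans (sb E79763 F231848))).symm
theorem E82731 : n155946 = n127150 := (((D127150).symm.trans (sb E79763 (iv7 F244959)))).symm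
theorem F319592 : act 5 n59712 = n85782 := (sb E79764 (iv5 F131551))
theorem E82732 : n127196 = n66671 := (E81424).trans E82678
theorem E82733 : n148658 = n127219 := (((D127219).symm.trans (sb E79765 F236750))).symm
theorem E82738 : n127209 = n117974 := (((D117974).symm.trans (sb E79766 (iv3 F204490)))).symm
theorem F319593 : act 6 n54347 = n28335 := (sb E79766 (iv6 D59724))
theorem E82742 : n66672 = n28336 := ((D66672).symm.trans (sb E79767 (iv0 D59725)))
theorem E82743 : n127229 = n66134 := (((E82677).symm.trans ((D66673).symm.trans (sb E79767 D127229)))).symm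
theorem E82748 : n127234 = n53625 := ((((iv7 F84598)).symm.trans (sb E79767 D127234))).symm
theorem E82749 : n127236 = n126997 := ((D127236).symm.trans (sb E79768 (tr (iv4 F244875) E82698)))
theorem E82750 : n127237 = n85817 := ((D127237).symm.trans (sb E79768 F205385))
theorem E82751 : n127238 = n59996 := ((D127238).symm.trans (sb E79768 (iv6 D127764)))
theorem E82752 : n142815 = n127211 := (((D127211).symm.trans (sb E79769 (tr F264598 E82363)))).symm
theorem E82753 : n153655 = n127203 := ((((iv2 F204476)).symm.trans (sb E79769 (iv2 F241529)))).symm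
theorem E82754 : n127212 = n60126 := ((D127212).symm.trans (sb E79769 (iv5 D127974)))
theorem E82755 : n127213 = n70956 := ((D127213).symm.trans (sb E79769 F205950))
theorem F319594 : act 5 n32834 = n28336 := (sb E79770 (iv5 D59727))
theorem F319595 : act 0 n32866 = n127198 := (sb E79771 (iv1 F204466))
theorem F319596 : act 7 n32866 = n28336 := (sb E79771 (iv7 D59728))
theorem F319597 : act 1 n30905 = n65734 := (sb E79772 F204471)
theorem E82768 : n166119 = n67213 := ((D166119).symm.trans (sb E79778 (iv1 F226139)))
theorem E82769 : n166120 = n67153 := ((D166120).symm.trans (sb E79778 (iv0 D143379)))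
theorem F319598 : act 5 n125202 = n65128 := (sb E79780 (iv5 D138713))
theorem F319599 : act 7 n125202 = n156663 := (sb E79780 (iv7 F246393))
theorem E82770 : n155882 = n107683 := ((D155882).symm.trans (sb E79787 F221866))
theorem F319600 : act 3 n66450 = n65131 := (sb E79788 F221867)
theorem F319601 : act 6 n66448 = n65131 := (sb E79791 (iv6 D138723))
theorem E82771 : n107766 = n68025 := (((D68025).symm.trans (sb E79795 F222028))).symm
theorem F319602 : act 6 n31659 = n66431 := (sb E79795 F222029)
theorem E82772 : n68085 = n28243 := ((D68085).symm.trans (sb E79796 F162102))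
theorem E82773 : n68086 = n49937 := ((D68086).symm.trans (sb E79796 F162103))
theorem E82774 : n68087 = n49936 := ((D68087).symm.trans (sb E79796 F101889))
theorem F319603 : act 5 n31683 = n31509 := (sb E79796 F78695)
theorem F319604 : act 6 n31683 = n28302 := (sb E79796 F78696)
theorem F319605 : act 7 n31683 = n31505 := (sb E79796 F78697)
theorem F319606 : act 3 n49647 = n54529 := (sb E79802 (iv3 D118415))
theorem E82779 : n125029 = n107688 := (((D107688).symm.trans (sb E79804 (iv1 F200846)))).symm
theorem E82780 : n179173 = n107690 := (((D107690).symm.trans (sb E79804 D179173))).symm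
theorem E82784 : n179178 = n107601 := ((((iv7 F166014)).symm.trans (sb E79804 D179178))).symm
theorem F319607 : act 3 n65633 = n53556 := (sb E79805 (iv3 D116210))
theorem E82785 : n116563 = n53554 := (((D53554).symm.trans (sb E79806 F224631))).symm
theorem F319608 : act 3 n31019 = n31864 := (sb E79810 F101398)
theorem F319609 : act 4 n31019 = n30761 := (sb E79810 (iv4 D65673))
theorem E82787 : n139851 = n53974 := ((D139851).symm.trans (sb E79813 (iv1 D117114)))
theorem F319610 : act 1 n65645 = n67972 := (sb E79813 F183173)
theorem F319611 : act 0 n114625 = n66307 := (sb E79814 (iv1 D141347))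
theorem F319612 : act 4 n141341 = n155739 := (sb E79815 F244750)
theorem F319613 : act 0 n141343 = n154725 := (sb E79816 F242911)
theorem F319614 : act 6 n69921 = n66301 := (sb E79817 (iv6 D141335))
theorem F319615 : act 0 n115642 = n167920 := (sb E79820 F264609)
theorem F319616 : act 2 n115642 = n152665 := (sb E79820 (iv2 F239877))
theorem F319617 : act 3 n115642 = n54453 := (sb E79820 F185751)
theorem F319618 : act 5 n115642 = n54451 := (sb E79820 (iv5 D118214))
theorem F319619 : act 7 n115642 = n152681 := (sb E79820 (iv7 F239900))
theorem F319620 : act 2 n118223 = n105710 := (sb E79821 F224352)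
theorem F319621 : act 6 n118223 = n66300 := (sb E79821 (iv6 D141334))
theorem E82788 : n184479 = n127706 := (((D127706).symm.trans (sb E79824 (iv4 F286402)))).symm
theorem E82789 : n118264 = n65629 := ((((iv5 F101367)).symm.trans (sb E79824 F234435))).symm
theorem E82790 : n127707 = n69923 := ((D127707).symm.trans (sb E79824 (iv6 D149067)))
theorem F319622 : act 2 n59958 = n70054 := (sb E79825 F234436)
theorem E82791 : n127709 = n69924 := ((D127709).symm.trans (sb E79825 (iv6 D149068)))
theorem F319623 : act 6 n32470 = n28473 := (sb E79827 (iv6 D59960))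
theorem F319624 : act 7 n59954 = n70054 := (sb E79829 (iv7 D149253))
theorem F319625 : act 1 n59920 = n95865 := (sb E79830 (iv0 F290458))
theorem F319626 : act 2 n59920 = n95497 := (sb E79830 F148691)
theorem E82797 : n109608 = n100750 := ((F182586).symm.trans (sb E79830 (iv3 F154846)))
theorem E82798 : n127610 = n45076 := ((D127610).symm.trans (sb E79830 (iv6 D96530)))
theorem F319627 : act 3 n65634 = n59993 := (sb E79835 F205380)
theorem F319628 : act 5 n65634 = n59991 := (sb E79835 (iv5 D127760))
theorem E82802 : n131776 = n131593 := ((((iv5 F210841)).symm.trans (sb E79838 (iv5 F211141)))).symm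
theorem E82803 : n149271 = n73861 := ((D149271).symm.trans (sb E79838 F316005))
theorem F319629 : act 6 n142509 = n85009 := (sb E79839 (iv6 D178539))
theorem F319630 : act 0 n85985 = n66681 := (sb E79841 (iv1 F181344))
theorem E82804 : n127235 = n66681 := ((D127235).symm.trans (sb E79842 F181363))
theorem F319631 : act 7 n85954 = n66681 := (sb E79843 F181346)
theorem F319632 : act 0 n142359 = n85144 := (sb E79844 (iv1 D178714))
theorem F319633 : act 1 n142359 = n152929 := (sb E79844 F278548)
theorem F319634 : act 6 n116688 = n70047 := (sb E79847 (iv6 D149240))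
theorem E82805 : n69202 = n68905 := ((D69202).symm.trans (sb E79848 (iv6 D146993)))
theorem E82806 : n144450 = n68012 := ((D144450).symm.trans (sb E79849 (iv6 D145099)))
theorem F319635 : act 6 n32508 = n69201 := (sb E79850 (iv6 D147659))
theorem F319636 : act 1 n142739 = n70054 := (sb E79851 (iv0 D149250))
theorem F319637 : act 0 n143021 = n70054 := (sb E79852 (iv1 D149251))
theorem F319638 : act 3 n50681 = n70054 := (sb E79853 F234635)
theorem E82807 : n109895 = n70053 := ((D109895).symm.trans (sb E79853 (iv6 D149249)))
theorem F319639 : act 5 n51564 = n70054 := (sb E79854 (iv5 D149252))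
theorem E82808 : n144454 = n68014 := ((D144454).symm.trans (sb E79855 (iv6 D145104)))
theorem F319640 : act 6 n31650 = n31438 := (sb E79856 (iv6 D67693))
theorem E82812 : n127696 = n105721 := (((D105721).symm.trans (sb E79857 (iv3 F205295)))).symm
theorem E82813 : n127699 = n105722 := (((D105722).symm.trans (sb E79857 (iv4 F205304)))).symm
theorem F319641 : act 6 n48873 = n28472 := (sb E79857 (iv6 D59955))
theorem F319642 : act 3 n67164 = n76634 := (sb E79858 (iv3 F114928))
theorem F319643 : act 4 n67164 = n95497 := (sb E79858 (iv4 F147130))
theorem E82816 : n143390 = n32510 := ((D143390).symm.trans (sb E79858 (iv6 D70051)))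
theorem E82817 : n149248 = n117775 := ((((iv7 F205107)).symm.trans (sb E79858 D149248))).symm
theorem F319644 : act 3 n147684 = n70012 := (sb E79859 F234538)
theorem F319645 : act 6 n147684 = n70000 := (sb E79859 (iv6 D149159))
theorem F319646 : act 3 n108228 = n69673 := (sb E79867 (iv3 D148662))
theorem F319647 : act 2 n116357 = n126997 := (sb E79868 (tr (iv2 F244874) E82698))
theorem F319648 : act 6 n116357 = n69673 := (sb E79868 (iv6 D148664))
theorem E82818 : n127198 = n53625 := ((F318524).symm.trans (sb E79869 (iv0 D116354)))
theorem F319649 : act 4 n139745 = n146574 := (sb E79872 (iv4 F229876))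
theorem F319650 : act 6 n139745 = n68525 := (sb E79872 (iv6 D146136))
theorem F319651 : act 6 n31879 = n65595 := (sb E79873 (iv6 D139747))
theorem F319652 : act 0 n139739 = n148867 := (sb E79874 F311519)
theorem F319653 : act 4 n139739 = n160713 := (sb E79874 (iv4 F298395))
theorem F319654 : act 4 n35406 = n65589 := (sb E79875 (iv4 D139740))
theorem E82819 : n112079 = n17176 := ((((iv5 D35406)).symm.trans (sb E79875 F222920))).symm
theorem E82820 : n145627 = n78448 := ((((iv4 F311443)).symm.trans (sb E79876 (iv4 F228644)))).symm
theorem E82821 : n179958 = n145625 := (((D145625).symm.trans (sb E79878 (iv3 F280265)))).symm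
theorem F319655 : act 4 n68264 = n39771 := (sb E79878 F131922)
theorem E82822 : n145626 = n36551 := ((D145626).symm.trans (sb E79878 (tr (iv5 F280266) E81702)))
theorem F319656 : act 7 n68264 = n39768 := (sb E79878 (iv7 D85994))
theorem F319657 : act 5 n111892 = n68343 := (sb E79881 (iv5 D145768))
theorem F319658 : act 3 n74523 = n71093 := (sb E79885 F237346)
theorem F319659 : act 3 n74524 = n54499 := (sb E79886 (iv3 D118330))
theorem E82824 : n151269 = n110993 := ((((iv4 F172061)).symm.trans (sb E79892 F237993))).symm
theorem F319660 : act 3 n74555 = n59817 := (sb E79907 (iv3 D127346))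
theorem E82844 : n72126 = n53227 := (((D53227).symm.trans (sb E79909 (iv4 F108578)))).symm
theorem F319661 : act 3 n67834 = n68027 := (sb E79911 F228093)
theorem E82845 : n107609 = n74116 := (((D74116).symm.trans (sb E79920 F166037))).symm
theorem E82846 : n107718 = n74117 := (((D74117).symm.trans (sb E79920 F166357))).symm
theorem E82847 : n107700 = n74118 := (((D74118).symm.trans (sb E79920 (iv2 F166343)))).symm
theorem F319662 : act 4 n34004 = n31509 := (sb E79920 (iv4 D67840))
theorem E82848 : n136768 = n34013 := ((((iv5 F53337)).symm.trans (sb E79920 (iv5 F219962)))).symm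
theorem F319663 : act 6 n34004 = n64537 := (sb E79920 F103872)
theorem E82849 : n155696 = n107697 := ((((iv4 F166328)).symm.trans (sb E79926 (iv4 F244719)))).symm
theorem F319664 : act 3 n108221 = n71292 := (sb E79950 F237996)
theorem F319665 : act 3 n67612 = n71245 := (sb E79962 F237863)
theorem F319666 : act 3 n67613 = n54537 := (sb E79963 (iv3 D118428))
theorem E82872 : n118377 = n31391 := (((D31391).symm.trans (sb E79976 (iv7 F186011)))).symm
theorem E82875 : n71217 = n31496 := (((D31496).symm.trans (sb E79978 (iv2 F107694)))).symm
theorem E82876 : n71220 = n31497 := (((D31497).symm.trans (sb E79978 D71220))).symm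
theorem E82880 : n179942 = n105603 := (((D105603).symm.trans (sb E79983 (iv4 F280260)))).symm
theorem E82881 : n127143 = n85673 := ((D127143).symm.trans (sb E79985 (iv6 F235100)))
theorem E82882 : n142993 = n86805 := ((D142993).symm.trans (sb E79986 (iv6 D181761)))
theorem F319667 : act 6 n40241 = n53531 := (sb E79987 (iv6 D116138))
theorem F319668 : act 6 n74474 = n53532 := (sb E79988 (iv6 D116140))
theorem F319669 : act 7 n68593 = n53540 := (sb E79993 (iv7 D116168))
theorem F319670 : act 6 n74530 = n53600 := (sb E79994 (iv6 D116285))
theorem F319671 : act 7 n74537 = n53607 := (sb E80002 (iv7 D116303))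
theorem F319672 : act 6 n58452 = n53581 := (sb E80003 (iv6 D116248))
theorem F319673 : act 0 n116258 = n167913 := (sb E80004 (iv1 F264579))
theorem F319674 : act 2 n116258 = n167924 := (sb E80004 (iv2 F278287))
theorem F319675 : act 7 n116258 = n167923 := (sb E80004 F278288)
theorem F319676 : act 1 n116259 = n167913 := (sb E80005 F264578)
theorem F319677 : act 2 n116259 = n167923 := (sb E80005 F278286)
theorem F319678 : act 4 n116259 = n133739 := (sb E80005 (iv4 F314123))
theorem F319679 : act 7 n116259 = n167924 := (sb E80005 (iv7 F278285))
theorem F319680 : act 7 n116260 = n167926 := (sb E80006 (iv7 F264618))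
theorem F319681 : act 6 n80604 = n66240 := (sb E80007 F181219)
theorem F319682 : act 7 n80604 = n53585 := (sb E80007 (iv7 D116261))
theorem F319683 : act 3 n70144 = n54043 := (sb E80008 F181322)
theorem F319684 : act 6 n70144 = n53612 := (sb E80008 (iv6 D116323))
theorem F319685 : act 2 n80603 = n53614 := (sb E80012 (iv2 D116328))
theorem F319686 : act 7 n80603 = n53615 := (sb E80012 (iv7 F181328))
theorem F319687 : act 0 n116329 = n70956 := (sb E80013 (iv1 D150535))
theorem F319688 : act 1 n116329 = n127203 := (sb E80013 (tr (iv0 F241532) E82753))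
theorem F319689 : act 5 n116329 = n123753 := (sb E80013 (iv5 F237024))
theorem E82883 : n167917 = n127211 := (E82363).trans E82752
theorem F319690 : act 7 n116329 = n127211 := (sb E80013 (tr (iv7 F264595) E82883))
theorem F319691 : act 2 n116330 = n167921 := (sb E80014 (iv2 F264610))
theorem F319692 : act 7 n116330 = n167918 := (sb E80014 (iv7 F264601))
theorem F319693 : act 5 n70490 = n53614 := (sb E80015 (iv5 D116331))
theorem F319694 : act 2 n116332 = n167922 := (sb E80016 (iv2 F264612))
theorem F319695 : act 5 n116332 = n150579 := (sb E80016 F237187)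
theorem F319696 : act 2 n80602 = n53615 := (sb E80017 F181329)
theorem F319697 : act 7 n80602 = n53614 := (sb E80017 (iv7 D116333))
theorem F319698 : act 0 n116334 = n152665 := (sb E80018 F280220)
theorem F319699 : act 1 n116334 = n152681 := (sb E80018 F280221)
theorem F319700 : act 5 n116334 = n149918 := (sb E80018 F237188)
theorem F319701 : act 7 n116334 = n167920 := (sb E80018 (iv7 F264607))
theorem F319702 : act 2 n116335 = n167918 := (sb E80019 (iv2 F264600))
theorem F319703 : act 7 n116335 = n167921 := (sb E80019 (iv7 F264611))
theorem F319704 : act 5 n70491 = n53615 := (sb E80020 (iv5 D116336))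
theorem F319705 : act 0 n116337 = n54500 := (sb E80021 (iv1 D118334))
theorem F319706 : act 1 n48870 = n66681 := (sb E80026 F181348)
theorem F319707 : act 5 n74909 = n67440 := (sb E80029 (iv5 D143947))
theorem E82885 : n157614 = n67431 := ((D157614).symm.trans (sb E80030 F226562))
theorem F319708 : act 5 n75030 = n67430 := (sb E80030 (iv5 D143925))
theorem E82886 : n143953 = n140916 := (((D140916).symm.trans (iv5 (sb E80035 (tr F280268 E81755))))).symm
theorem E82887 : n150856 = n140916 := (E80035).trans E82886
theorem F319709 : act 6 n140916 = n71120 := (sb E82887 (iv6 D150856))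
theorem E82888 : n142149 = n140916 := ((D142149).symm.trans (iv7 (sb E82887 (tr (iv7 F264263) E82358))))
theorem F319710 : act 0 n140921 = n67442 := (sb E80036 (iv1 D143954))
theorem F319711 : act 1 n85503 = n67393 := (sb E80039 (iv0 D143871))
theorem E82889 : n127222 = n66876 := (((D66876).symm.trans (sb E80041 D127222))).symm
theorem F319712 : act 4 n31159 = n28335 := (sb E80041 (iv4 D59723))
theorem E82891 : n66395 = n14867 := ((((iv3 F24521)).symm.trans (sb E80045 (iv3 D141559)))).symm
theorem F319713 : act 5 n31418 = n17042 := (sb E80048 F52053)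
theorem F319714 : act 3 n31003 = n31903 := (sb E80050 (iv3 D68580))
theorem E82896 : n67912 = n31902 := (((D31902).symm.trans (sb E80054 F224647))).symm
theorem F319715 : act 5 n48048 = n54529 := (sb E80067 (iv5 D118416))
theorem E82897 : n103613 = n71291 := (((iv7 F158965)).symm.trans (sb E80067 F186084))
theorem E82898 : n132290 = n68338 := (((iv1 F212081)).symm.trans (iv1 (sb E80072 (tr (iv0 D166184) E80585))))
theorem E82899 : n156650 = n132288 := ((((iv0 F212074)).symm.trans (iv0 (sb E80073 (tr (iv1 D166185) E80585))))).symm
theorem E82900 : n114654 = n76458 := (((iv1 F178752)).symm.trans (sb E80075 (iv1 F251217)))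
theorem F319716 : act 3 n34863 = n68440 := (sb E80077 F229200)
theorem E82901 : n76312 = n68438 := ((D76312).symm.trans (sb E80077 (iv6 D145963)))
theorem F319717 : act 3 n145967 = n76311 := (sb E80078 F251229)
theorem F319718 : act 4 n145967 = n102528 := (sb E80078 F251231)
theorem F319719 : act 7 n145967 = n76460 := (sb E80078 F251230)
theorem E82903 : n115005 = n54012 := ((((iv7 F85206)).symm.trans (sb E80079 (iv7 F251239)))).symm
theorem F319720 : act 4 n67957 = n54856 := (sb E80080 (iv4 D119206))
theorem F319721 : act 3 n83695 = n85290 := (sb E80081 (iv3 D178889))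
theorem F319722 : act 4 n83695 = n131339 := (sb E80081 (iv4 F307125))
theorem F319723 : act 5 n127936 = n81711 := (sb E80083 (iv5 D170434))
theorem E82904 : n96359 = n96262 := (((D96262).symm.trans (sb E80084 F314853))).symm
theorem E82905 : n96263 = n69110 := ((D96263).symm.trans (sb E80084 F243185))
theorem E82906 : n79730 = n53542 := ((F301074).symm.trans (sb E80088 F180985))
theorem F319724 : act 7 n81695 = n53541 := (sb E80088 (iv7 D116174))
theorem F319725 : act 5 n129865 = n172313 := (sb E80089 F303582)
theorem F319726 : act 0 n157983 = n82608 := (sb E80090 (iv1 F249481))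
theorem F319727 : act 1 n157983 = n75519 := (sb E80090 (iv0 D158343))
theorem F319728 : act 0 n63232 = n83099 := (sb E80091 (iv1 F317083))
theorem F319729 : act 1 n63232 = n60939 := (sb E80091 F315819)
theorem F319730 : act 4 n63232 = n83081 := (sb E80091 (iv4 F303524))
theorem E82908 : n176424 = n134564 := (((D134564).symm.trans (sb E80091 D176424))).symm
theorem E82913 : n176429 = n134608 := (((D134608).symm.trans (sb E80093 D176429))).symm
theorem E82914 : n176430 = n134609 := (((D134609).symm.trans (sb E80093 D176430))).symm
theorem F319731 : act 3 n63248 = n38760 := (sb E80093 F129138)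
theorem F319732 : act 4 n63248 = n83083 := (sb E80093 (iv4 F303525))
theorem E82915 : n172485 = n134610 := (((D134610).symm.trans (sb E80093 (iv5 F270682)))).symm
theorem E82916 : n134611 = n83083 := ((D134611).symm.trans (sb E80093 F129139))
theorem E82919 : n172486 = n134594 := (((D134594).symm.trans (sb E80094 (iv5 F270683)))).symm
theorem F319733 : act 2 n133519 = n75722 := (sb E80095 F249224)
theorem F319734 : act 4 n133519 = n75355 := (sb E80095 (iv4 D158210))
theorem F319735 : act 5 n133519 = n83058 := (sb E80095 F249226)
theorem F319736 : act 7 n133519 = n75758 := (sb E80095 F249225)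
theorem F319737 : act 3 n60755 = n75368 := (sb E80096 F249243)
theorem F319738 : act 2 n133518 = n75758 := (sb E80097 F249246)
theorem F319739 : act 4 n133518 = n75368 := (sb E80097 (iv4 D158219))
theorem F319740 : act 5 n133518 = n83057 := (sb E80097 F249247)
theorem F319741 : act 7 n133518 = n75722 := (sb E80097 F249248)
theorem F319743 : act 3 n133441 = n75758 := (sb E80102 (iv3 D158793))
theorem F319744 : act 5 n133441 = n83991 := (sb E80102 F249998)
theorem F319745 : act 0 n41128 = n63613 := (sb E80103 (iv1 D135313))
theorem F319746 : act 1 n41128 = n63629 := (sb E80103 F217551)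
theorem F319747 : act 5 n133531 = n88074 := (sb E80104 (iv5 D184711))
theorem E82921 : n175846 = n47576 := (E80107).trans E80167
theorem F319748 : act 5 n47576 = n83927 := (sb E82921 F275245)
theorem F319749 : act 0 n84104 = n83008 := (sb E80108 (iv1 D173504))
theorem F319750 : act 2 n83917 = n130780 := (sb E80109 F214812)
theorem F319751 : act 5 n83917 = n62669 := (sb E80109 (iv5 D133535))
theorem F319752 : act 7 n83917 = n130800 := (sb E80109 F214813)
theorem F319753 : act 0 n132287 = n130791 := (sb E80110 (iv1 F214820))
theorem F319754 : act 1 n132287 = n62671 := (sb E80110 (iv0 D133537))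
theorem F319755 : act 5 n122333 = n62671 := (sb E80111 (iv5 D133539))
theorem F319756 : act 5 n115164 = n83984 := (sb E80112 F249780)
theorem F319757 : act 2 n38681 = n62645 := (sb E80113 F214648)
theorem F319758 : act 5 n38681 = n62644 := (sb E80113 (iv5 D133470))
theorem F319759 : act 6 n133543 = n75655 := (sb E80117 F249783)
theorem F319760 : act 2 n83914 = n130800 := (sb E80119 (iv2 F214787))
theorem F319761 : act 5 n83914 = n62664 := (sb E80119 (iv5 D133521))
theorem F319762 : act 7 n83914 = n130780 := (sb E80119 F214775)
theorem F319763 : act 5 n124634 = n62666 := (sb E80120 (iv5 D133526))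
theorem F319764 : act 2 n101546 = n63629 := (sb E80121 F217554)
theorem F319765 : act 4 n101546 = n63615 := (sb E80121 F217555)
theorem F319766 : act 7 n101546 = n63613 := (sb E80121 (iv7 D135317))
theorem F319767 : act 2 n135363 = n124808 := (sb E80122 F279892)
theorem F319768 : act 4 n135363 = n123210 := (sb E80122 F279893)
theorem F319769 : act 2 n122335 = n63613 := (sb E80126 F217493)
theorem F319770 : act 4 n122335 = n63597 := (sb E80126 (iv4 D135277))
theorem F319771 : act 7 n122335 = n63629 := (sb E80126 F217494)
theorem F319772 : act 0 n135315 = n120304 := (sb E80127 (iv1 F302436))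
theorem F319773 : act 4 n123095 = n63614 := (sb E80128 F217553)
theorem F319774 : act 6 n123095 = n63613 := (sb E80128 (iv6 D135316))
theorem F319775 : act 5 n128878 = n175971 := (sb E80129 (iv5 F275309))
theorem F319776 : act 0 n130012 = n158539 := (sb E80130 F272754)
theorem F319777 : act 1 n130012 = n133160 := (sb E80130 (iv0 F310734))
theorem F319778 : act 4 n130012 = n82507 := (sb E80130 (iv4 D172272))
theorem F319779 : act 0 n62447 = n45908 := (sb E80131 (iv1 D98218))
theorem F319780 : act 1 n28979 = n45908 := (sb E80132 (iv0 D98217))
theorem F319781 : act 2 n62308 = n45908 := (sb E80133 F113367)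
theorem E82922 : n158355 = n132753 := ((((iv3 F213187)).symm.trans (sb E80133 (iv3 F249503)))).symm
theorem E82923 : n158356 = n132759 := (((D132759).symm.trans (sb E80133 (iv4 F249506)))).symm
theorem E82924 : n132760 = n34556 := ((D132760).symm.trans (sb E80133 (iv6 D75527)))
theorem E82925 : n130001 = n28948 := (E80134).trans E82410
theorem E82928 : n61054 = n29480 := ((((iv7 F208609)).symm.trans (sb E82925 (iv7 D130001)))).symm
theorem E82931 : n132762 = n61220 := ((D132762).symm.trans (sb E80137 F308628))
theorem E82932 : n158474 = n132754 := ((((iv3 F213190)).symm.trans (sb E80137 (iv3 F249677)))).symm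
theorem E82933 : n158550 = n132758 := ((((iv4 F213209)).symm.trans (sb E80137 (iv4 F249733)))).symm
theorem E82934 : n132763 = n34588 := ((D132763).symm.trans (sb E80137 F113467))
theorem E82935 : n132764 = n34587 := ((D132764).symm.trans (sb E80137 (iv7 D75627)))
theorem F319782 : act 3 n83201 = n62206 := (sb E80139 F212804)
theorem F319783 : act 4 n83201 = n132865 := (sb E80139 (iv4 F213435))
theorem F319784 : act 1 n130045 = n83866 := (sb E80140 (iv0 D175662))
theorem F319785 : act 6 n130050 = n83974 := (sb E80141 (iv6 D175986))
theorem E82936 : n86040 = n83049 := (((D83049).symm.trans (sb E80144 (iv5 D180060)))).symm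
theorem F319786 : act 3 n38672 = n18834 := (sb E80146 (iv3 D39809))
theorem E82939 : n86031 = n83962 := (((D83962).symm.trans (sb E80146 (iv4 F131974)))).symm
theorem E82940 : n86042 = n83959 := ((((iv6 F128943)).symm.trans (sb E80146 D86042))).symm
theorem F319787 : act 5 n39811 = n83950 := (sb E80149 (iv5 D175911))
theorem F319788 : act 5 n35675 = n75556 := (sb E80152 F304935)
theorem F319789 : act 5 n36225 = n75555 := (sb E80153 F304932)
theorem F319790 : act 3 n130211 = n83654 := (sb E80154 F274128)
theorem F319791 : act 6 n130211 = n83652 := (sb E80154 (iv6 D175145))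
theorem F319792 : act 2 n71897 = n38683 := (sb E80155 F128005)
theorem E82943 : n133473 = n33223 := ((((iv4 D71897)).symm.trans (sb E80155 (tr (iv4 F272164) E82079)))).symm
theorem F319793 : act 6 n71897 = n38221 := (sb E80155 (iv6 D83056))
theorem E82944 : n173671 = n52831 := (((F108391).symm.trans (sb E80155 D173671))).symm
theorem E82947 : n176007 = n77021 := ((((iv2 F307306)).symm.trans (sb E80156 (iv2 F275325)))).symm
theorem F319794 : act 3 n68357 = n38683 := (sb E80156 F128961)
theorem E82948 : n176012 = n31809 := ((((iv4 D68357)).symm.trans (sb E80156 (iv4 F275327)))).symm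
theorem E82949 : n145808 = n38680 := ((D145808).symm.trans (sb E80156 (iv6 D83983)))
theorem F319795 : act 1 n71385 = n38683 := (sb E80157 (iv0 D83986))
theorem F319796 : act 0 n25644 = n38683 := (sb E80158 (iv1 D83987))
theorem E82964 : n176022 = n55990 := ((((iv3 F88611)).symm.trans (sb E80159 (iv3 F275330)))).symm
theorem F319797 : act 4 n54788 = n38683 := (sb E80159 F128962)
theorem E82966 : n119057 = n38681 := ((D119057).symm.trans (sb E80159 (iv6 D83985)))
theorem E82968 : n173661 = n152462 := (((D152462).symm.trans (sb E80161 (iv6 F272150)))).symm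
theorem F319798 : act 7 n71917 = n38683 := (sb E80161 (iv7 D83989))
theorem F319799 : act 4 n43870 = n83925 := (sb E80162 (iv4 D175840))
theorem F319800 : act 5 n42399 = n83925 := (sb E80163 (iv5 D175841))
theorem F319801 : act 0 n92796 = n61068 := (sb E80164 (iv1 D130053))
theorem F319802 : act 1 n92796 = n83927 := (sb E80164 F315838)
theorem F319803 : act 0 n43869 = n83927 := (sb E80165 F315837)
theorem F319804 : act 1 n43869 = n61068 := (sb E80165 (iv0 D130052))
theorem F319805 : act 4 n42186 = n83927 := (sb E80166 F275235)
theorem E82969 : n88531 = n61067 := (((iv1 F135584)).symm.trans (sb E80167 (iv1 F208457)))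
theorem E82970 : n88534 = n61066 := (((iv0 F135583)).symm.trans (sb E80167 F208458))
theorem F319806 : act 2 n47576 = n61069 := (sb E80167 F208455)
theorem E82971 : n132782 = n102576 := (((D102576).symm.trans (sb E80167 (iv3 F213259)))).symm
theorem E82972 : n132859 = n102577 := (((D102577).symm.trans (sb E80167 (iv6 F213414)))).symm
theorem F319807 : act 7 n47576 = n61057 := (sb E80167 (iv7 D130009))
theorem F319808 : act 0 n88486 = n61057 := (sb E80168 (iv1 D130007))
theorem F319809 : act 1 n88486 = n61069 := (sb E80168 F208453)
theorem F319810 : act 0 n88483 = n61069 := (sb E80169 (iv1 F208456))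
theorem F319811 : act 1 n88483 = n61057 := (sb E80169 (iv0 D130006))
theorem E82973 : n92712 = n63165 := (((iv3 F142915)).symm.trans (sb E80170 F208469))
theorem F319812 : act 4 n43366 = n61069 := (sb E80170 F208470)
theorem E82974 : n132871 = n92715 := (((D92715).symm.trans (sb E80170 (iv6 F213441)))).symm
theorem E82975 : n61061 = n42356 := (((F68117).symm.trans (sb E80170 (iv7 D130023)))).symm
theorem E82976 : n90258 = n83039 := ((((iv2 F127967)).symm.trans (sb E80176 F142275))).symm
theorem E82977 : n90499 = n28937 := (((F315828).symm.trans (sb E80176 F142276))).symm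
theorem F319813 : act 6 n38652 = n43247 := (sb E80176 (iv6 D92465))
theorem F319814 : act 4 n43364 = n61057 := (sb E80177 F208450)
theorem E82978 : n92709 = n61055 := ((D92709).symm.trans (sb E80177 (iv6 D130003)))
theorem E82979 : n166345 = n146735 := (((D146735).symm.trans (sb E80179 D166345))).symm
theorem E82980 : n166346 = n146736 := (((D146736).symm.trans (sb E80179 D166346))).symm
theorem E82981 : n166343 = n146737 := (((D146737).symm.trans (sb E80179 (iv2 F261932)))).symm
theorem E82982 : n166347 = n146631 := ((((iv4 F229918)).symm.trans (sb E80179 D166347))).symm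
theorem F319815 : act 5 n68796 = n36385 := (sb E80179 (iv5 D79874))
theorem F319816 : act 7 n68796 = n84849 := (sb E80179 (iv7 F130057))
theorem F319817 : act 0 n74002 = n70244 := (sb E80180 (iv1 F235186))
theorem F319818 : act 1 n74002 = n70243 := (sb E80180 F235187)
theorem F319819 : act 5 n74002 = n133712 := (sb E80180 F235184)
theorem F319820 : act 7 n74002 = n70241 := (sb E80180 (iv7 D149572))
theorem F319821 : act 1 n74001 = n70241 := (sb E80181 (iv0 D149570))
theorem E82983 : n155544 = n70243 := (((iv2 F244562)).symm.trans (sb E80181 F309955))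
theorem E82984 : n155547 = n71003 := ((D155547).symm.trans (sb E80181 F307966))
theorem E82985 : n155539 = n70244 := ((F244561).symm.trans (sb E80181 F309956))
theorem F319822 : act 0 n74000 = n70241 := (sb E80182 (iv1 F309508))
theorem E82986 : n155540 = n36767 := ((D155540).symm.trans (sb E80182 F123874))
theorem E82987 : n167867 = n155541 := (((D155541).symm.trans (sb E80182 D167867))).symm
theorem E82988 : n155542 = n36766 := ((D155542).symm.trans (sb E80182 (iv5 D80568)))
theorem E82989 : n167868 = n155543 := (((D155543).symm.trans (sb E80182 D167868))).symm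
theorem F319823 : act 4 n76539 = n53007 := (sb E80183 (iv4 D114879))
theorem F319824 : act 6 n68673 = n53007 := (sb E80184 (iv6 D114881))
theorem E82992 : n164992 = n13778 := (((D13778).symm.trans (sb E80186 (iv3 F260167)))).symm
theorem E82994 : n36084 = n13780 := (((D13780).symm.trans (sb E80186 (iv6 D79275)))).symm
theorem F319825 : act 6 n32608 = n59704 := (sb E80189 (iv6 D127170))
theorem E82996 : n119551 = n68478 := (((D68478).symm.trans (sb E80191 (iv0 F206554)))).symm
theorem E82997 : n153608 = n86036 := ((D153608).symm.trans (sb E80192 (iv5 D180048)))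
theorem F319826 : act 0 n139840 = n141596 := (sb E80194 (iv1 F229604))
theorem E82998 : n149217 = n139840 := ((D149217).symm.trans (iv1 (sb E80194 (tr F229602 E80395))))
theorem F319827 : act 2 n139840 = n68594 := (sb E80194 (iv2 D146278))
theorem E82999 : n141597 = n65642 := ((((iv7 D139840)).symm.trans (sb E80194 F229601))).symm
theorem E83002 : n61028 = n20338 := (((F296841).symm.trans (sb E80198 D61028))).symm
theorem F319829 : act 5 n135458 = n120059 := (sb E80200 (iv5 F316287))
theorem F319830 : act 6 n135458 = n86097 := (sb E80200 (iv6 D180219))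
theorem E83004 : n29424 = n28285 := (((F319056).symm.trans (sb E80201 (iv4 D62163)))).symm
theorem F319831 : act 5 n39472 = n66449 := (sb E80201 (iv5 F102346))
theorem E83006 : n77738 = n14942 := (((F49574).symm.trans (sb E80202 F309892))).symm
theorem F319832 : act 4 n59656 = n67301 := (sb E80203 F224663)
theorem F319833 : act 0 n60222 = n66620 := (sb E80204 (iv1 D142062))
theorem F319834 : act 1 n60170 = n66620 := (sb E80205 (iv0 D142061))
theorem F319835 : act 0 n60219 = n66640 := (sb E80206 (iv1 F225079))
theorem F319836 : act 7 n60219 = n66620 := (sb E80206 (iv7 D142064))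
theorem F319837 : act 2 n23012 = n47768 := (sb E80211 (iv2 D103032))
theorem F319838 : act 7 n23012 = n47769 := (sb E80211 (iv7 F158275))
theorem F319839 : act 2 n102268 = n164468 := (sb E80212 (iv2 F259126))
theorem E83007 : n164466 = n49058 := (((F314183).symm.trans (sb E80212 (iv4 F259125)))).symm
theorem F319840 : act 7 n102268 = n47821 := (sb E80212 F158419)
theorem F319841 : act 2 n103035 = n47818 := (sb E80213 F158422)
theorem F319842 : act 7 n103035 = n47823 := (sb E80213 F158423)
theorem F319843 : act 2 n97303 = n47819 := (sb E80214 F158424)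
theorem F319844 : act 0 n103153 = n74186 := (sb E80215 (iv1 D155979))
theorem F319845 : act 1 n103154 = n74186 := (sb E80216 (iv0 D155978))
theorem F319846 : act 0 n103155 = n155963 := (sb E80217 (iv1 F245022))
theorem F319847 : act 1 n103155 = n155962 := (sb E80217 F245023)
theorem F319848 : act 5 n103155 = n136310 := (sb E80217 F245020)
theorem F319849 : act 7 n103155 = n74186 := (sb E80217 (iv7 D155980))
theorem F319850 : act 3 n103156 = n69004 := (sb E80218 F230753)
theorem F319851 : act 7 n103156 = n68997 := (sb E80218 (iv7 D147171))
theorem F319852 : act 0 n103157 = n136309 := (sb E80219 (iv1 F219368))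
theorem F319853 : act 1 n103157 = n136308 := (sb E80219 F219370)
theorem F319854 : act 2 n103157 = n136310 := (sb E80219 (iv2 F219369))
theorem F319855 : act 7 n103157 = n64073 := (sb E80219 (iv7 D136290))
theorem F319856 : act 7 n74179 = n47816 := (sb E80220 (iv7 D103159))
theorem F319857 : act 1 n68592 = n47819 := (sb E80221 (iv0 D103171))
theorem F319858 : act 7 n69032 = n47819 := (sb E80222 (iv7 D103173))
theorem F319859 : act 2 n103039 = n47823 := (sb E80223 F158436)
theorem F319860 : act 7 n103039 = n47818 := (sb E80223 (iv7 D103170))
theorem F319861 : act 0 n103697 = n117414 := (sb E80225 (iv1 F229914))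
theorem F319862 : act 2 n103697 = n68509 := (sb E80225 F229336)
theorem F319863 : act 4 n103697 = n68508 := (sb E80225 (iv4 D146099))
theorem F319864 : act 1 n103697 = n144893 := (sb E80226 F250982)
theorem F319865 : act 6 n103697 = n68508 := (sb E80226 (iv6 D146101))
theorem F319866 : act 0 n103694 = n68509 := (sb E80227 (iv1 D146102))
theorem F319867 : act 4 n103694 = n117417 := (sb E80227 (iv4 F229340))
theorem F319868 : act 7 n103694 = n117414 := (sb E80227 F229339)
theorem F319869 : act 0 n68715 = n48027 := (sb E80228 (iv1 D103695))
theorem F319870 : act 2 n103694 = n144893 := (sb E80229 F282916)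
theorem F319871 : act 5 n103694 = n159431 := (sb E80229 (iv5 F282914))
theorem F319872 : act 6 n103694 = n144858 := (sb E80229 F282917)
theorem E83008 : n68575 = n31579 := ((((iv0 D67913)).symm.trans (sb E80230 (iv0 D146239)))).symm
theorem E83009 : n146634 = n144891 := (((D144891).symm.trans (sb E80230 F229926))).symm
theorem E83010 : n144883 = n144859 := ((((iv7 F230324)).symm.trans (sb E80230 (iv7 F229928)))).symm
theorem F319873 : act 6 n31874 = n68509 := (sb E80232 (iv6 D146105))
theorem F319874 : act 3 n146104 = n68518 := (sb E80233 F229345)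
theorem F319875 : act 6 n146104 = n125197 := (sb E80233 F229346)
theorem F319876 : act 7 n146104 = n155936 := (sb E80233 (iv7 F244927))
theorem F319877 : act 4 n52925 = n68417 := (sb E80234 F229075)
theorem E83011 : n114776 = n68530 := ((D114776).symm.trans (sb E80239 F229069))
theorem E83012 : n114778 = n68412 := ((D114778).symm.trans (sb E80239 (iv6 D145898)))
theorem F319878 : act 6 n31838 = n25710 := (sb E80241 (iv6 D52968))
theorem E83016 : n78923 = n78911 := (((F319197).symm.trans (sb E80245 F258942))).symm
theorem E83017 : n147833 = n78921 := (((iv7 F231607)).symm.trans (sb E80245 (iv7 D164315)))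
theorem F319879 : act 5 n144997 = n78924 := (sb E80246 (iv5 D164324))
theorem F319880 : act 0 n144998 = n159605 := (sb E80248 F258954)
theorem F319881 : act 1 n144998 = n164219 := (sb E80248 (iv0 F258955))
theorem F319882 : act 5 n144998 = n78927 := (sb E80248 (iv5 D164332))
theorem E83018 : n164253 = n147835 := (((D147835).symm.trans (sb E80250 F258939))).symm
theorem F319883 : act 5 n35928 = n67977 := (sb E80251 (iv5 D145000))
theorem F319884 : act 5 n127738 = n78918 := (sb E80252 (iv5 D164296))
theorem F319885 : act 1 n144975 = n74852 := (sb E80253 (iv0 D157395))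
theorem F319886 : act 7 n133035 = n75324 := (sb E80255 (iv7 D158158))
theorem E83019 : n152041 = n46731 := ((D152041).symm.trans (sb E80257 F154028))
theorem E83020 : n152042 = n98979 := ((D152042).symm.trans (sb E80257 (iv5 F154029)))
theorem E83021 : n152043 = n46728 := ((D152043).symm.trans (sb E80257 (iv6 D100092)))
theorem F319887 : act 2 n61784 = n75324 := (sb E80260 (iv2 D158153))
theorem F319888 : act 3 n133049 = n75324 := (sb E80261 (iv3 D158154))
theorem F319889 : act 4 n133049 = n159078 := (sb E80261 F250443)
theorem F319890 : act 4 n71680 = n75324 := (sb E80262 (iv4 D158155))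
theorem F319891 : act 5 n133529 = n75324 := (sb E80263 (iv5 D158156))
theorem F319893 : act 4 n132659 = n75598 := (sb E80266 (iv4 D158473))
theorem F319894 : act 1 n63653 = n55364 := (sb E80267 (iv0 D120302))
theorem F319895 : act 0 n63648 = n55364 := (sb E80268 (iv1 D120303))
theorem E83022 : n156730 = n84440 := ((D156730).symm.trans (sb E80271 (iv5 D177229)))
theorem F319896 : act 5 n38934 = n65108 := (sb E80273 (iv5 D138657))
theorem E83023 : n84348 = n66342 := (((D66342).symm.trans (sb E80274 (iv5 D176974)))).symm
theorem F319897 : act 0 n156794 = n167718 := (sb E80275 (iv1 F300186))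
theorem F319898 : act 2 n156794 = n84446 := (sb E80275 F276329)
theorem F319899 : act 4 n156794 = n84350 := (sb E80275 (iv4 D176977))
theorem F319900 : act 7 n156794 = n84436 := (sb E80275 F276330)
theorem E83027 : n145707 = n26936 := ((((iv3 F300115)).symm.trans (sb E80278 (iv3 F228799)))).symm
theorem E83028 : n51595 = n35382 := (((iv1 F81440)).symm.trans (sb E80279 (iv1 F302258)))
theorem E83029 : n35386 = n14645 := ((((iv0 D30933)).symm.trans (sb E80279 (iv0 F303288)))).symm
theorem E83030 : n35508 = n31780 := ((((iv2 F78684)).symm.trans (sb E80279 (iv2 F302535)))).symm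
theorem F319901 : act 3 n30933 = n17111 := (sb E80279 F55985)
theorem E83031 : n66178 = n17109 := ((D66178).symm.trans (sb E80279 (iv5 D35256)))
theorem E83032 : n50861 = n35568 := ((F80220).symm.trans (sb E80279 (iv6 F91280)))
theorem E83033 : n35507 = n31784 := (((F78686).symm.trans (sb E80279 F300881))).symm
theorem E83035 : n50859 = n35802 := (((D35802).symm.trans (sb E80281 (iv5 D110312)))).symm
theorem F319902 : act 3 n55829 = n110382 := (sb E80283 F224088)
theorem E83038 : n145702 = n35670 := (((F88308).symm.trans (sb E80283 (iv7 F228793)))).symm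
theorem F319903 : act 4 n83620 = n51935 := (sb E80284 F175111)
theorem E83039 : n175083 = n52054 := ((D175083).symm.trans (sb E80284 F175112))
theorem E83040 : n110610 = n38518 := (((iv3 F171195)).symm.trans (sb E80285 (iv3 D83540)))
theorem E83041 : n110614 = n71695 := ((D110614).symm.trans (sb E80285 F128632))
theorem E83043 : n77961 = n28160 := (((F93540).symm.trans (sb E80286 (iv3 D162283)))).symm
theorem F319904 : act 4 n59321 = n78592 := (sb E80286 F256427)
theorem F319905 : act 1 n121179 = n112601 := (sb E80287 (iv0 F228796))
theorem F319906 : act 4 n121179 = n59114 := (sb E80287 (iv4 D126153))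
theorem E83044 : n161896 = n7120 := ((((iv1 D14950)).symm.trans (sb E80289 (iv1 F255886)))).symm
theorem E83045 : n121557 = n24776 := (((F38783).symm.trans (sb E80289 F302906))).symm
theorem E83052 : n162797 = n145703 := (((D145703).symm.trans (sb E80291 D162797))).symm
theorem F319907 : act 6 n68298 = n121179 := (sb E80291 (iv6 F193262))
theorem F319908 : act 3 n52011 = n83622 := (sb E80292 (iv3 D175086))
theorem F319909 : act 1 n38555 = n51004 := (sb E80293 (iv0 D110612))
theorem E83053 : n155139 = n109749 := (((F219569).symm.trans (sb E80294 F274067))).symm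
theorem E83054 : n155135 = n113163 := ((((iv0 F219840)).symm.trans (sb E80294 F274066))).symm
theorem F319910 : act 5 n136457 = n83622 := (sb E80294 (iv5 D175087))
theorem F319911 : act 4 n113197 = n83608 := (sb E80295 (iv4 D175076))
theorem F319912 : act 6 n113197 = n83622 := (sb E80295 F274051)
theorem E83055 : n155120 = n117093 := ((((iv1 F183125)).symm.trans (sb E80296 D155120))).symm
theorem E83057 : n155064 = n30350 := (((F99470).symm.trans (sb E80296 (iv2 F243852)))).symm
theorem E83058 : n155115 = n135995 := ((((iv3 F218792)).symm.trans (sb E80296 (iv3 F243931)))).symm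
theorem E83059 : n135996 = n33835 := ((D135996).symm.trans (sb E80296 (iv5 D73628)))
theorem E83061 : n155067 = n117094 := ((((iv7 F183129)).symm.trans (sb E80296 (iv7 F243862)))).symm
theorem F319913 : act 0 n110615 = n83623 := (sb E80297 (iv1 F188241))
theorem F319914 : act 1 n110615 = n54968 := (sb E80297 (iv0 D119461))
theorem F319915 : act 2 n110615 = n83620 := (sb E80297 F191386)
theorem F319916 : act 3 n110615 = n82952 := (sb E80297 (iv3 F190999))
theorem F319917 : act 5 n110615 = n73646 := (sb E80297 (iv5 F191000))
theorem F319918 : act 0 n51932 = n54968 := (sb E80298 (iv1 D119462))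
theorem F319919 : act 1 n51932 = n83623 := (sb E80298 F188237)
theorem E83062 : n112560 = n73658 := ((D112560).symm.trans (sb E80298 (iv5 F190995)))
theorem F319920 : act 7 n51932 = n83620 := (sb E80298 (iv7 F191385))
theorem F319921 : act 1 n110613 = n83620 := (sb E80299 F188243)
theorem F319922 : act 2 n110613 = n83623 := (sb E80299 F188239)
theorem F319923 : act 5 n110613 = n54969 := (sb E80299 F188240)
theorem F319924 : act 7 n110613 = n54968 := (sb E80299 (iv7 D119464))
theorem F319925 : act 6 n110376 = n83623 := (sb E80300 (iv6 D175089))
theorem E83063 : n137116 = n33836 := (((iv5 F220287)).symm.trans (sb E80301 (iv5 D73633)))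
theorem E83066 : n64829 = n62675 := ((((iv3 F97763)).symm.trans (sb E80304 F102772))).symm
theorem F319926 : act 4 n29634 = n28332 := (sb E80304 F94097)
theorem F319927 : act 7 n29634 = n28329 := (sb E80304 (iv7 D59703))
theorem F319928 : act 5 n59857 = n97223 := (sb E80306 F158443)
theorem F319929 : act 6 n59857 = n103737 := (sb E80306 F159184)
theorem F319930 : act 0 n173921 = n84072 := (sb E80307 (iv1 D176290))
theorem F319931 : act 1 n173922 = n84072 := (sb E80308 (iv0 D176289))
theorem F319932 : act 1 n126464 = n68669 := (sb E80315 (iv0 D146477))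
theorem E83068 : n135776 = n68668 := (((iv1 F218352)).symm.trans (sb E80316 (iv1 F229721)))
theorem F319933 : act 2 n135609 = n68670 := (sb E80316 F229717)
theorem F319934 : act 3 n135609 = n90550 := (sb E80316 F229718)
theorem F319935 : act 6 n135609 = n90536 := (sb E80316 F229719)
theorem F319936 : act 7 n135609 = n68642 := (sb E80316 (iv7 D146398))
theorem F319937 : act 1 n117411 = n126542 := (sb E80317 (iv0 F214218))
theorem F319938 : act 3 n117411 = n62538 := (sb E80317 (iv3 D133259))
theorem F319939 : act 7 n117411 = n130992 := (sb E80317 F214217)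
theorem F319940 : act 3 n133260 = n68642 := (sb E80318 F229712)
theorem F319941 : act 6 n133260 = n68640 := (sb E80318 (iv6 D146393))
theorem F319942 : act 7 n133260 = n90550 := (sb E80318 F229713)
theorem F319943 : act 4 n92791 = n62539 := (sb E80319 F214222)
theorem F319944 : act 6 n92791 = n62538 := (sb E80319 (iv6 D133261))
theorem E83070 : n173588 = n90251 := (((F139296).symm.trans (sb E80320 (iv5 F272033)))).symm
theorem F319945 : act 6 n90504 = n75617 := (sb E80320 (iv6 D158519))
theorem E83071 : n182280 = n130045 := ((((iv1 F319784)).symm.trans (sb E80321 (iv1 F283743)))).symm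
theorem E83072 : n175663 = n102943 := ((D175663).symm.trans (sb E80321 (iv0 F293277)))
theorem E83073 : n175661 = n43241 := (((iv4 F275049)).symm.trans (sb E80321 (iv4 D92453)))
theorem F319946 : act 5 n83866 = n90576 := (sb E80321 F142239)
theorem E83074 : n175665 = n89557 := ((D175665).symm.trans (sb E80321 F142238))
theorem F319947 : act 3 n90501 = n62063 := (sb E80322 (iv3 D132289))
theorem F319948 : act 6 n90501 = n129214 := (sb E80322 F212076)
theorem E83075 : n130983 = n113672 := ((((iv1 F176862)).symm.trans (sb E80323 (iv1 F214228)))).symm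
theorem F319949 : act 7 n92790 = n62539 := (sb E80323 (iv7 D133265))
theorem F319950 : act 1 n66920 = n49124 := (sb E80325 (iv0 D106288))
theorem F319951 : act 2 n66920 = n52719 := (sb E80325 F290345)
theorem F319952 : act 3 n66920 = n106127 := (sb E80325 F290293)
theorem E83077 : n142753 = n114163 := ((D142753).symm.trans (sb E80325 (iv6 F290285)))
theorem F319953 : act 1 n98488 = n157669 := (sb E80326 F259347)
theorem F319954 : act 2 n98488 = n120233 := (sb E80326 F259344)
theorem F319955 : act 4 n98488 = n79018 := (sb E80326 (iv4 D164531))
theorem F319956 : act 7 n98488 = n118087 := (sb E80326 (iv7 F305770))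
theorem E83078 : n146203 = n83955 := ((D146203).symm.trans (sb E80328 F275283))
theorem E83079 : n127194 = n83950 := ((D127194).symm.trans (sb E80330 F275284))
theorem E83080 : n130192 = n78510 := ((F213331).symm.trans (sb E80332 (iv5 D163378)))
theorem F319957 : act 7 n132827 = n125295 := (sb E80332 F257667)
theorem F319958 : act 6 n127762 = n60879 := (sb E80333 (iv6 D129596))
theorem E83081 : n131036 = n14808 := ((((iv3 D31411)).symm.trans (sb E80335 (iv3 F209739)))).symm
theorem E83082 : n67627 = n29094 := ((D67627).symm.trans (sb E80335 (iv5 D61469)))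
theorem F319959 : act 5 n109409 = n68350 := (sb E80336 (iv5 D145786))
theorem F319960 : act 3 n117407 = n139132 := (sb E80338 F222856)
theorem F319961 : act 5 n117407 = n65563 := (sb E80338 (iv5 D139683))
theorem F319962 : act 1 n77645 = n86105 := (sb E80340 (iv0 D180244))
theorem F319963 : act 3 n54825 = n86105 := (sb E80341 F280569)
theorem F319964 : act 6 n54825 = n86104 := (sb E80341 (iv6 D180243))
theorem F319965 : act 0 n166151 = n149620 := (sb E80342 F267217)
theorem F319966 : act 1 n166151 = n118027 := (sb E80342 F267218)
theorem F319967 : act 2 n166151 = n146142 := (sb E80342 (iv2 F310161))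
theorem F319968 : act 3 n166151 = n95585 := (sb E80342 F267214)
theorem F319969 : act 4 n166151 = n81430 := (sb E80342 (iv4 D169795))
theorem F319970 : act 7 n166151 = n119125 := (sb E80342 (iv7 F303495))
theorem F319971 : act 7 n54818 = n86105 := (sb E80343 (iv7 D180245))
theorem F319972 : act 5 n116500 = n56245 := (sb E80344 (iv5 D121715))
theorem E83083 : n129770 = n69534 := (((iv3 F208120)).symm.trans (sb E80348 F162545))
theorem F319973 : act 4 n60948 = n48933 := (sb E80348 (iv4 D105850))
theorem F319974 : act 7 n60948 = n59971 := (sb E80348 F162546)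
theorem F319975 : act 6 n56256 = n60948 := (sb E80351 (iv6 D129772))
theorem F319976 : act 1 n116919 = n62227 := (sb E80352 F209313)
theorem F319977 : act 5 n116919 = n61342 := (sb E80352 (iv5 D130747))
theorem F319978 : act 0 n127734 = n62227 := (sb E80353 F209306)
theorem F319979 : act 5 n127734 = n61341 := (sb E80353 (iv5 D130745))
theorem F319980 : act 2 n45777 = n69535 := (sb E80355 F232152)
theorem F319981 : act 5 n45777 = n69533 := (sb E80355 (iv5 D148383))
theorem F319982 : act 2 n117818 = n69532 := (sb E80356 F232150)
theorem F319983 : act 3 n73532 = n69532 := (sb E80357 (iv3 D148378))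
theorem F319984 : act 5 n75119 = n69532 := (sb E80358 (iv5 D148380))
theorem F319985 : act 6 n73530 = n69532 := (sb E80359 (iv6 D148381))
theorem F319986 : act 7 n116473 = n69532 := (sb E80360 (iv7 F232149))
theorem F319987 : act 1 n117820 = n66767 := (sb E80361 (iv0 D142378))
theorem F319988 : act 0 n32281 = n66767 := (sb E80362 (iv1 D142379))
theorem F319989 : act 0 n148389 = n80554 := (sb E80367 F300238)
theorem F319990 : act 2 n148389 = n70958 := (sb E80367 (iv2 D150541))
theorem F319991 : act 3 n148389 = n105919 := (sb E80367 F300240)
theorem F319992 : act 4 n148389 = n118192 := (sb E80367 (iv4 F302996))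
theorem F319993 : act 7 n148389 = n98054 := (sb E80367 F300241)
theorem F319994 : act 1 n148390 = n80554 := (sb E80368 F300236)
theorem F319995 : act 2 n148390 = n98054 := (sb E80368 F300237)
theorem F319996 : act 3 n148390 = n70851 := (sb E80368 (iv3 D150398))
theorem F319997 : act 4 n148390 = n153418 := (sb E80368 (iv4 F240974))
theorem F319998 : act 7 n148390 = n70958 := (sb E80368 F236740)
theorem F319999 : act 0 n148391 = n122621 := (sb E80369 (iv1 F268096))
theorem F320000 : act 1 n148391 = n122620 := (sb E80369 F268095)
theorem F320001 : act 2 n148391 = n81798 := (sb E80369 (iv2 D170645))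
theorem F320002 : act 3 n148391 = n98158 := (sb E80369 F299264)
theorem F320003 : act 6 n148391 = n81971 := (sb E80369 F299266)
theorem F320004 : act 7 n148391 = n122619 := (sb E80369 F268094)
theorem F320005 : act 6 n45775 = n69535 := (sb E80370 (iv6 D148392))
theorem E83089 : n127997 = n78269 := ((D127997).symm.trans (sb E80371 (iv5 D162829)))
theorem F320006 : act 5 n158406 = n79546 := (sb E80372 (iv5 D165614))
theorem E83090 : n178923 = n130478 := (((F213872).symm.trans (sb E80373 (iv0 F278803)))).symm
theorem F320007 : act 1 n45914 = n86089 := (sb E80374 (iv0 D180187))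
theorem F320008 : act 0 n45913 = n86089 := (sb E80375 (iv1 D180188))
theorem F320009 : act 2 n45916 = n86089 := (sb E80376 F280534)
theorem E83091 : n98246 = n86088 := (((iv5 F151593)).symm.trans (sb E80376 (iv5 D180186)))
theorem F320010 : act 4 n120412 = n86089 := (sb E80377 (iv4 D180189))
theorem F320011 : act 7 n45912 = n86089 := (sb E80378 F201570)
theorem F320012 : act 6 n117205 = n59962 := (sb E80382 (iv6 D127722))
theorem F320013 : act 2 n70012 = n59963 := (sb E80383 F205325)
theorem F320014 : act 7 n70012 = n59962 := (sb E80383 (iv7 D127723))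
theorem F320015 : act 5 n61746 = n59963 := (sb E80384 (iv5 D127726))
theorem F320016 : act 6 n69914 = n59963 := (sb E80385 (iv6 D127727))
theorem F320017 : act 1 n66078 = n32580 := (sb E80387 (iv0 D70196))
theorem E83092 : n148489 = n140833 := (((D140833).symm.trans (sb E80387 (iv6 F317801)))).symm
theorem E83093 : n140837 = n32302 := ((D140837).symm.trans (sb E80389 (iv1 D69577)))
theorem E83094 : n140838 = n117885 := ((D140838).symm.trans (sb E80389 F184862))
theorem E83095 : n140836 = n92518 := (((iv4 F223912)).symm.trans (sb E80389 (iv4 F317803)))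
theorem E83096 : n140839 = n61592 := ((D140839).symm.trans (sb E80389 (iv5 F317804)))
theorem F320018 : act 7 n117884 = n66081 := (sb E80390 (iv7 D140840))
theorem F320019 : act 5 n58697 = n82583 := (sb E80391 (iv5 D172495))
theorem F320020 : act 5 n120106 = n66415 := (sb E80392 (iv5 D141599))
theorem F320021 : act 7 n120106 = n146279 := (sb E80392 (iv7 F229606))
theorem F320022 : act 3 n141594 = n66422 := (sb E80394 F224686)
theorem F320023 : act 1 n70037 = n66415 := (sb E80395 (iv0 D141595))
theorem F320024 : act 4 n96368 = n117235 := (sb E80396 F230638)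
theorem F320025 : act 4 n32086 = n44998 := (sb E80397 (iv4 D96369))
theorem F320026 : act 0 n96370 = n127421 := (sb E80398 F230643)
theorem F320027 : act 1 n96370 = n109881 := (sb E80398 F230644)
theorem F320028 : act 4 n96370 = n68998 := (sb E80398 F230641)
theorem F320029 : act 0 n96371 = n127530 := (sb E80399 (iv1 F233826))
theorem F320030 : act 1 n96371 = n127534 := (sb E80399 (iv0 F230648))
theorem F320031 : act 4 n96371 = n68975 := (sb E80399 F230646)
theorem F320032 : act 7 n96371 = n127650 := (sb E80399 (iv7 F230647))
theorem F320033 : act 0 n96373 = n127708 := (sb E80400 F230598)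
theorem F320034 : act 1 n96373 = n109893 := (sb E80400 (iv0 F230599))
theorem F320035 : act 4 n96373 = n116916 := (sb E80400 F230596)
theorem F320036 : act 5 n96373 = n109871 := (sb E80400 (iv5 F230600))
theorem F320037 : act 4 n32084 = n44999 := (sb E80401 (iv4 D96374))
theorem F320038 : act 0 n96375 = n109881 := (sb E80402 F230609)
theorem F320039 : act 1 n96375 = n127421 := (sb E80402 F230610)
theorem F320040 : act 3 n96375 = n109871 := (sb E80402 F230606)
theorem F320041 : act 4 n96375 = n68999 := (sb E80402 F230608)
theorem F320042 : act 4 n96376 = n68972 := (sb E80403 F230616)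
theorem F320043 : act 1 n50678 = n44994 := (sb E80404 (iv0 D96358))
theorem E83097 : n112111 = n96262 := (E80405).trans E82904
theorem F320044 : act 1 n96262 = n109885 := (sb E83097 F174319)
theorem F320045 : act 2 n96262 = n51703 := (sb E83097 F174317)
theorem F320046 : act 5 n96262 = n51702 := (sb E83097 (iv5 D112111))
theorem F320047 : act 7 n96262 = n109883 := (sb E83097 F174318)
theorem F320048 : act 0 n96353 = n109883 := (sb E80406 (iv1 F169887))
theorem F320049 : act 1 n96353 = n51703 := (sb E80406 F169888)
theorem F320050 : act 5 n96353 = n50540 := (sb E80406 (iv5 D109549))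
theorem F320051 : act 7 n96353 = n109885 := (sb E80406 F169897)
theorem F320052 : act 3 n51567 = n45000 := (sb E80407 F148317)
theorem F320053 : act 5 n51567 = n44994 := (sb E80407 (iv5 D96360))
theorem E83098 : n111834 = n44996 := ((D111834).symm.trans (sb E80407 F148318))
theorem F320054 : act 6 n59899 = n95462 := (sb E80408 F148320)
theorem F320055 : act 7 n59899 = n44994 := (sb E80408 (iv7 D96361))
theorem F320056 : act 2 n96377 = n75069 := (sb E80409 F204856)
theorem F320057 : act 4 n96377 = n69119 := (sb E80409 F204857)
theorem F320058 : act 5 n96377 = n59859 := (sb E80409 (iv5 D127446))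
theorem F320059 : act 3 n96378 = n111821 := (sb E80410 F204867)
theorem F320060 : act 4 n96378 = n69120 := (sb E80410 F204868)
theorem F320061 : act 5 n96378 = n59860 := (sb E80410 (iv5 D127448))
theorem F320062 : act 7 n96378 = n75069 := (sb E80410 F204869)
theorem E83099 : n176767 = n45000 := ((F319434).symm.trans (sb E80411 (iv4 D96379)))
theorem E83100 : n45010 = n39255 := (((F319435).symm.trans (sb E80411 F148332))).symm
theorem F320063 : act 0 n59900 = n95343 := (sb E80412 (iv1 F148336))
theorem F320064 : act 2 n59900 = n95345 := (sb E80412 F148333)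
theorem F320065 : act 7 n59900 = n45000 := (sb E80412 (iv7 D96380))
theorem E83103 : n166409 = n146148 := (((D146148).symm.trans (sb E80414 (iv2 F261980)))).symm
theorem F320066 : act 4 n68530 = n166417 := (sb E80414 D166417)
theorem F320067 : act 7 n68530 = n121723 := (sb E80414 (iv7 F194286))
theorem F320068 : act 5 n79781 = n83852 := (sb E80416 (iv5 D175633))
theorem E83108 : n166157 = n83855 := ((D166157).symm.trans (sb E80416 F274956))
theorem F320069 : act 6 n77558 = n78756 := (sb E80417 (iv6 D163933))
theorem E83109 : n78588 = n35435 := ((((iv6 F300363)).symm.trans (sb E80418 (iv6 D163556)))).symm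
theorem E83110 : n166161 = n98256 := ((D166161).symm.trans (sb E80419 F249627))
theorem F320070 : act 5 n79784 = n80085 := (sb E80419 F298404)
theorem F320071 : act 4 n66412 = n56076 := (sb E80420 (iv4 D121465))
theorem E83111 : n56090 = n31423 := (((F102321).symm.trans (sb E80420 F193821))).symm
theorem E83112 : n116917 = n56088 := (((D56088).symm.trans (sb E80421 (iv1 F316831)))).symm
theorem E83113 : n65242 = n56089 := (((D56089).symm.trans (sb E80421 F103683))).symm
theorem E83115 : n112835 = n12960 := ((((iv5 D27048)).symm.trans (sb E80421 (iv5 F175684)))).symm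
theorem E83116 : n112834 = n56091 := (((D56091).symm.trans (sb E80421 (iv7 F175680)))).symm
theorem F320072 : act 0 n74585 = n56015 := (sb E80422 F123405)
theorem E83117 : n167353 = n156836 := (((D156836).symm.trans (sb E80422 (iv3 F263486)))).symm
theorem E83118 : n167368 = n34199 := ((((iv4 D74585)).symm.trans (sb E80422 D167368))).symm
theorem E83119 : n109651 = n36591 := (((iv5 F169633)).symm.trans (sb E80422 (iv5 D80321)))
theorem F320073 : act 4 n30755 = n56015 := (sb E80424 (iv4 D121402))
theorem E83122 : n181855 = n65653 := (((D65653).symm.trans (sb E80424 F303106))).symm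
theorem E83123 : n109657 = n17192 := (((F297957).symm.trans (sb E80425 (iv1 F171385)))).symm
theorem E83124 : n109654 = n56014 := (((D56014).symm.trans (sb E80425 F171386))).symm
theorem E83125 : n51046 = n12949 := (((F43666).symm.trans (sb E80425 F171383))).symm
theorem E83126 : n51045 = n40284 := ((((iv7 F299420)).symm.trans (sb E80425 (iv7 D110726)))).symm
theorem F320074 : act 3 n67332 = n32274 := (sb E80427 (iv3 D69505))
theorem E83130 : n148287 = n54849 := (((F309344).symm.trans (sb E80427 D148287))).symm
theorem E83135 : n148267 = n117482 := ((((iv2 F188828)).symm.trans (sb E80428 (tr (iv2 F232107) E81810)))).symm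
theorem E83136 : n148294 = n147026 := (((D147026).symm.trans (sb E80428 (iv4 F232112)))).symm
theorem F320075 : act 6 n68938 = n32274 := (sb E80428 (iv6 D69508))
theorem E83139 : n148295 = n143726 := ((((iv4 F226387)).symm.trans (sb E80429 (iv4 F232114)))).symm
theorem E83140 : n148300 = n143733 := (((D143733).symm.trans (sb E80429 (iv5 F232118)))).symm
theorem F320076 : act 7 n67316 = n32274 := (sb E80429 (iv7 D69509))
theorem E83142 : n142754 = n32278 := ((D142754).symm.trans (sb E80430 (iv1 D69519)))
theorem E83143 : n142755 = n45781 := ((D142755).symm.trans (sb E80430 (iv0 F317887)))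
theorem F320077 : act 2 n66921 = n81796 := (sb E80430 (iv2 F317900))
theorem E83144 : n148343 = n142740 := ((((iv3 F225655)).symm.trans (sb E80430 D148343))).symm
theorem E83145 : n142756 = n38958 := ((D142756).symm.trans (sb E80430 (iv5 F317905)))
theorem E83146 : n142757 = n81774 := ((D142757).symm.trans (sb E80430 (iv7 F317892)))
theorem F320078 : act 3 n59980 = n86386 := (sb E80432 (iv3 D180868))
theorem E83147 : n125329 = n45928 := ((D125329).symm.trans (sb E80433 (iv1 F113426)))
theorem E83148 : n125330 = n45927 := ((D125330).symm.trans (sb E80433 F113428))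
theorem E83149 : n125331 = n45930 := ((D125331).symm.trans (sb E80433 F113423))
theorem E83150 : n125327 = n98254 := (((iv4 F201588)).symm.trans (sb E80433 (iv4 F151602)))
theorem F320079 : act 5 n58692 = n34572 := (sb E80433 F113424)
theorem F320080 : act 1 n68350 = n56015 := (sb E80436 (iv0 D121401))
theorem E83159 : n166954 = n109409 := ((((iv5 F319959)).symm.trans (sb E80436 (iv5 F262822)))).symm
theorem F320081 : act 5 n69818 = n69619 := (sb E80437 (iv5 D148557))
theorem F320082 : act 5 n121939 = n65737 := (sb E80445 (iv5 D140039))
theorem F320083 : act 7 n117849 = n65737 := (sb E80446 (iv7 D140040))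
theorem F320084 : act 2 n117849 = n69618 := (sb E80447 F233325)
theorem F320085 : act 5 n133710 = n69618 := (sb E80448 (iv5 D148555))
theorem F320086 : act 7 n116039 = n69618 := (sb E80449 (iv7 F233323))
theorem F320087 : act 1 n54867 = n86104 := (sb E80450 (iv0 D180240))
theorem F320088 : act 0 n54866 = n86104 := (sb E80451 (iv1 D180241))
theorem F320089 : act 2 n54869 = n86104 := (sb E80452 F280566)
theorem E83160 : n119237 = n86102 := (((iv5 F187670)).symm.trans (sb E80452 (iv5 D180236)))
theorem F320090 : act 4 n54724 = n86104 := (sb E80453 (iv4 D180242))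
theorem F320091 : act 7 n54826 = n86104 := (sb E80454 F201610)
theorem F320092 : act 6 n68574 = n66363 := (sb E80460 F224474)
theorem F320093 : act 1 n66893 = n31294 := (sb E80463 (iv0 D67287))
theorem F320094 : act 0 n53799 = n31452 := (sb E80465 F180181)
theorem F320095 : act 3 n53799 = n30725 := (sb E80465 (iv3 D65553))
theorem F320096 : act 2 n67301 = n31452 := (sb E80466 (iv2 D67740))
theorem E83167 : n139868 = n59656 := ((((iv4 F319832)).symm.trans (sb E80466 (iv4 F223075)))).symm
theorem E83168 : n144537 = n124960 := ((((iv6 F318248)).symm.trans (sb E80466 D144537))).symm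
theorem F320097 : act 1 n53945 = n33974 := (sb E80467 F316021)
theorem E83169 : n138368 = n67910 := ((((iv2 F104675)).symm.trans (sb E80470 F312544))).symm
theorem E83170 : n146037 = n67914 := ((D146037).symm.trans (sb E80470 (iv6 D144898)))
theorem E83171 : n146041 = n105955 := ((((iv1 F191353)).symm.trans (sb E80471 D146041))).symm
theorem E83172 : n105951 = n103689 := (((iv0 F191351)).symm.trans (sb E80471 (iv0 F317130)))
theorem E83173 : n146033 = n106039 := ((((iv2 F191328)).symm.trans (sb E80471 (iv2 F229261)))).symm
theorem F320098 : act 4 n60386 = n31865 := (sb E80471 F104677)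
theorem F320099 : act 6 n60386 = n31864 := (sb E80471 (iv6 D68476))
theorem E83175 : n146044 = n106040 := ((((iv7 F191336)).symm.trans (sb E80471 D146044))).symm
theorem F320100 : act 2 n132955 = n176535 := (sb E80472 F275862)
theorem F320101 : act 3 n132955 = n85265 := (sb E80472 F273316)
theorem F320102 : act 4 n132955 = n83382 := (sb E80472 F273317)
theorem F320103 : act 6 n132955 = n83380 := (sb E80472 (iv6 D174441))
theorem F320104 : act 7 n132955 = n176540 := (sb E80472 (iv7 F275851))
theorem F320105 : act 5 n60776 = n83382 := (sb E80473 (iv5 D174444))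
theorem F320106 : act 3 n132956 = n154169 := (sb E80474 F270500)
theorem F320107 : act 6 n132956 = n82496 := (sb E80474 (iv6 D172235))
theorem E83176 : n134523 = n84084 := (((iv2 F216494)).symm.trans (sb E80476 F275627))
theorem F320108 : act 6 n63235 = n84079 := (sb E80476 (iv6 D176313))
theorem F320109 : act 0 n69139 = n53656 := (sb E80481 (iv1 D116410))
theorem F320110 : act 1 n69139 = n53664 := (sb E80481 F181573)
theorem F320111 : act 0 n69074 = n53664 := (sb E80482 (iv1 F181579))
theorem F320112 : act 1 n69074 = n53656 := (sb E80482 (iv0 D116409))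
theorem F320113 : act 0 n69136 = n53662 := (sb E80483 (iv1 F181580))
theorem F320114 : act 2 n69136 = n53664 := (sb E80483 F181576)
theorem F320115 : act 3 n69136 = n66796 := (sb E80483 F181577)
theorem F320116 : act 7 n69136 = n53656 := (sb E80483 (iv7 D116412))
theorem E83179 : n166410 = n116681 := ((((iv2 F182066)).symm.trans (sb E80485 (iv2 F261981)))).symm
theorem F320117 : act 3 n69480 = n36398 := (sb E80485 F122642)
theorem E83180 : n166414 = n112039 := ((((iv4 F174156)).symm.trans (sb E80485 (iv4 F261985)))).symm
theorem E83181 : n148211 = n36396 := ((D148211).symm.trans (sb E80485 (iv6 D79898)))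
theorem E83182 : n166015 = n110635 := (((F173396).symm.trans (sb E80485 (iv7 F303801)))).symm
theorem F320118 : act 3 n53765 = n86268 := (sb E80486 (iv3 D180612))
theorem F320119 : act 1 n31009 = n66307 := (sb E80487 (iv0 D141346))
theorem F320120 : act 7 n48865 = n66428 := (sb E80488 (iv7 D141629))
theorem F320121 : act 6 n141625 = n152681 := (sb E80493 F239901)
theorem F320122 : act 6 n141626 = n179937 := (sb E80494 (iv6 F280246))
theorem F320123 : act 6 n85985 = n66428 := (sb E80495 (iv6 D141628))
theorem F320124 : act 1 n60435 = n48865 := (sb E80496 (iv0 D105700))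
theorem F320125 : act 2 n128496 = n66431 := (sb E80497 F224696)
theorem F320126 : act 0 n53551 = n48865 := (sb E80499 (iv1 D105701))
theorem F320127 : act 0 n74073 = n80222 := (sb E80508 (iv1 D167105))
theorem F320128 : act 1 n74073 = n83567 := (sb E80508 F263189)
theorem F320129 : act 5 n74073 = n133145 := (sb E80508 (iv5 F304933))
theorem F320130 : act 0 n55232 = n83567 := (sb E80509 (iv1 F263195))
theorem F320131 : act 1 n55232 = n80222 := (sb E80509 (iv0 D167104))
theorem F320132 : act 4 n74166 = n83567 := (sb E80510 F273851)
theorem F320133 : act 6 n76152 = n83567 := (sb E80511 (iv6 D174976))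
theorem E83183 : n161185 = n78264 := ((((iv7 F119462)).symm.trans (sb E80511 F273853))).symm
theorem F320134 : act 0 n38525 = n33991 := (sb E80512 (iv1 D74071))
theorem E83186 : n143962 = n35323 := (((F59360).symm.trans (sb E80512 (iv6 F316196)))).symm
theorem E83190 : n142519 = n31154 := (((iv3 F225417)).symm.trans (sb E80514 (iv3 D66861)))
theorem E83191 : n142640 = n142521 := ((((iv4 F225418)).symm.trans (sb E80514 D142640))).symm
theorem E83192 : n142525 = n116438 := ((D142525).symm.trans (sb E80514 (iv7 F181631)))
theorem F320135 : act 1 n31297 = n53945 := (sb E80516 (iv0 D117056))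
theorem F320136 : act 2 n66881 = n53945 := (sb E80517 (iv2 D117057))
theorem E83193 : n126790 = n60885 := (((F102736).symm.trans (sb E80517 (iv4 F204043)))).symm
theorem E83194 : n116562 = n31160 := ((((iv5 D66881)).symm.trans (sb E80517 F183070))).symm
theorem F320137 : act 4 n62166 = n53945 := (sb E80518 (iv4 D117058))
theorem F320138 : act 3 n53671 = n31143 := (sb E80519 (iv3 D66817))
theorem F320139 : act 5 n53671 = n53945 := (sb E80519 (iv5 F181600))
theorem E83195 : n116597 = n67731 := ((D116597).symm.trans (sb E80520 (tr D146966 E80796)))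
theorem E83197 : n116564 = n65573 := (((iv3 F181921)).symm.trans (sb E80520 F316513))
theorem F320140 : act 5 n53729 = n32039 := (sb E80520 (iv5 D68891))
theorem E83198 : n119698 = n116600 := (((D116600).symm.trans (sb E80520 F188843))).symm
theorem E83199 : n132491 = n116558 := (((D116558).symm.trans (sb E80521 (iv3 F212606)))).symm
theorem E83200 : n116559 = n29425 := ((D116559).symm.trans (sb E80521 F96904))
theorem F320141 : act 7 n53717 = n66449 := (sb E80522 (iv7 F102731))
theorem F320142 : act 1 n72834 = n66905 := (sb E80523 (iv0 D142715))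
theorem F320143 : act 0 n31305 = n66905 := (sb E80524 (iv1 D142716))
theorem F320144 : act 7 n116402 = n67335 := (sb E80525 (iv7 F226420))
theorem F320145 : act 5 n133783 = n66905 := (sb E80526 (iv5 D142717))
theorem F320146 : act 2 n142718 = n67335 := (sb E80527 F226421)
theorem E83202 : n69495 = n68902 := ((D69495).symm.trans (sb E80528 (iv6 D146989)))
theorem F320147 : act 6 n32044 = n15218 := (sb E80529 (iv6 D32272))
theorem F320148 : act 6 n54376 = n53765 := (sb E80532 (iv6 D116672))
theorem F320149 : act 1 n31133 = n53772 := (sb E80537 (iv0 D116683))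
theorem F320150 : act 0 n31128 = n53772 := (sb E80538 (iv1 D116684))
theorem F320151 : act 0 n116682 = n67250 := (sb E80539 F182170)
theorem F320152 : act 1 n116682 = n67249 := (sb E80539 F182172)
theorem F320153 : act 3 n116682 = n157708 := (sb E80539 (iv3 F248515))
theorem F320154 : act 5 n116682 = n68544 := (sb E80539 (iv5 F182171))
theorem F320155 : act 7 n116682 = n67247 := (sb E80539 F182169)
theorem F320156 : act 7 n31283 = n53772 := (sb E80540 (iv7 D116686))
theorem F320157 : act 7 n60170 = n66640 := (sb E80541 (iv7 F225147))
theorem F320158 : act 2 n60222 = n66640 := (sb E80546 F225148)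
theorem F320159 : act 0 n142115 = n149459 := (sb E80547 F308738)
theorem F320160 : act 1 n142115 = n117972 := (sb E80547 F308739)
theorem F320161 : act 2 n142115 = n149321 := (sb E80547 F308740)
theorem F320162 : act 4 n142115 = n143307 := (sb E80547 (iv4 F316949))
theorem F320163 : act 5 n142115 = n71371 := (sb E80547 (iv5 D151415))
theorem F320164 : act 6 n142115 = n79753 := (sb E80547 F308743)
theorem F320165 : act 7 n142115 = n76752 := (sb E80547 F308744)
theorem F320166 : act 0 n142116 = n128128 := (sb E80548 F261785)
theorem F320167 : act 1 n142116 = n128127 := (sb E80548 F261784)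
theorem F320168 : act 2 n142116 = n128130 := (sb E80548 F261781)
theorem F320169 : act 6 n142116 = n142853 := (sb E80548 (tr F261782 E80638))
theorem F320170 : act 7 n142116 = n128051 := (sb E80548 F261783)
theorem F320171 : act 5 n36368 = n66640 := (sb E80549 (iv5 D142117))
theorem F320172 : act 0 n142118 = n117974 := (sb E80550 (iv1 F253002))
theorem F320173 : act 1 n142118 = n149416 := (sb E80550 F253003)
theorem F320174 : act 2 n142118 = n128131 := (sb E80550 F252997)
theorem F320175 : act 3 n142118 = n79753 := (sb E80550 F252998)
theorem F320176 : act 4 n142118 = n142853 := (sb E80550 (tr F252999 E80638))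
theorem F320177 : act 5 n142118 = n79751 := (sb E80550 F253000)
theorem F320178 : act 7 n142118 = n76780 := (sb E80550 (iv7 D160236))
theorem F320179 : act 2 n106327 = n66638 := (sb E80551 F225072)
theorem F320180 : act 4 n106327 = n66620 := (sb E80551 F225073)
theorem F320181 : act 6 n106327 = n66619 := (sb E80551 (iv6 D142060))
theorem F320182 : act 1 n106284 = n66638 := (sb E80552 (iv0 D142105))
theorem F320183 : act 0 n106325 = n66638 := (sb E80553 (iv1 D142106))
theorem F320184 : act 0 n116915 = n60971 := (sb E80559 F207434)
theorem F320185 : act 1 n116915 = n60962 := (sb E80559 F207435)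
theorem F320186 : act 5 n116915 = n60740 := (sb E80559 (iv5 D129215))
theorem F320187 : act 0 n127733 = n60962 := (sb E80560 F207432)
theorem F320188 : act 1 n127733 = n60971 := (sb E80560 F207433)
theorem F320189 : act 3 n127733 = n83866 := (sb E80560 F312937)
theorem F320190 : act 5 n127733 = n60739 := (sb E80560 (iv5 D129213))
theorem E83207 : n80372 = n65134 := (((F313280).symm.trans (sb E80560 F308613))).symm
theorem F320191 : act 4 n62248 = n55546 := (sb E80561 F192184)
theorem E83208 : n132654 = n55545 := ((D132654).symm.trans (sb E80561 (iv6 D120607)))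
theorem E83214 : n84838 = n44542 := (E80563).trans E81984
theorem E83215 : n95366 = n79887 := ((D95366).symm.trans (sb E83214 (iv1 F130033)))
theorem E83216 : n89862 = n79886 := (((iv0 F137936)).symm.trans (sb E83214 F130031))
theorem E83217 : n95367 = n79873 := ((D95367).symm.trans (sb E83214 F130029))
theorem E83218 : n178254 = n21181 := ((((iv4 D44542)).symm.trans (sb E83214 D178254))).symm
theorem E83219 : n178255 = n89253 := ((((iv5 F292807)).symm.trans (sb E83214 D178255))).symm
theorem E83220 : n95369 = n79888 := ((D95369).symm.trans (sb E83214 F130030))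
theorem E83221 : n56238 = n44996 := ((D56238).symm.trans (sb E80566 (tr (iv4 F173647) E83098)))
theorem F320192 : act 5 n84832 = n84994 := (sb E80569 (iv5 D178526))
theorem E83226 : n166440 = n119361 := ((((iv2 F188001)).symm.trans (sb E80570 (iv2 F262000)))).symm
theorem F320193 : act 3 n73569 = n36400 := (sb E80570 F122654)
theorem E83228 : n155006 = n36399 := ((D155006).symm.trans (sb E80570 (iv5 D79908)))
theorem F320194 : act 2 n68445 = n52967 := (sb E80572 F178790)
theorem E83229 : n145973 = n144771 := (((iv6 F229211)).symm.trans (sb E80572 (iv6 F227649)))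
theorem F320195 : act 7 n68445 = n52962 := (sb E80572 F178791)
theorem F320196 : act 1 n130219 = n83624 := (sb E80574 (iv0 D175090))
theorem F320197 : act 0 n38588 = n83624 := (sb E80575 (iv1 D175091))
theorem F320198 : act 1 n85326 = n83950 := (sb E80580 (iv0 D175909))
theorem F320199 : act 0 n112333 = n83950 := (sb E80581 (iv1 D175910))
theorem F320200 : act 5 n83116 = n83183 := (sb E80582 (iv5 D173965))
theorem F320201 : act 0 n123048 = n158685 := (sb E80583 (iv1 F306239))
theorem F320202 : act 2 n123048 = n121044 := (sb E80583 F272387)
theorem F320203 : act 4 n123048 = n83110 := (sb E80583 (iv4 D173803))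
theorem F320204 : act 5 n123048 = n162762 := (sb E80583 F272389)
theorem F320205 : act 7 n123048 = n162709 := (sb E80583 F272388)
theorem F320206 : act 0 n78200 = n57259 := (sb E80584 (iv1 D123049))
theorem E83230 : n166180 = n132644 := ((((iv3 F212928)).symm.trans (sb E80585 (iv3 F261653)))).symm
theorem F320207 : act 4 n62240 = n75933 := (sb E80585 F317448)
theorem E83232 : n132646 = n36337 := ((D132646).symm.trans (sb E80585 (iv6 D79791)))
theorem F320208 : act 3 n75488 = n128960 := (sb E80586 (iv3 F207175))
theorem E83233 : n158333 = n60590 := ((D158333).symm.trans (sb E80586 (iv4 D128840)))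
theorem E83234 : n107714 = n83906 := (((iv3 F166354)).symm.trans (sb E80590 (iv3 D175788)))
theorem E83235 : n134466 = n43274 := ((D134466).symm.trans (sb E80591 F142269))
theorem E83236 : n134467 = n52650 := ((D134467).symm.trans (sb E80591 F142270))
theorem E83237 : n115111 = n52649 := (((iv2 F179257)).symm.trans (sb E80591 F142458))
theorem F320209 : act 3 n63161 = n43247 := (sb E80591 (iv3 D92463))
theorem E83238 : n134468 = n88198 := ((D134468).symm.trans (sb E80591 F142267))
theorem E83239 : n134469 = n52648 := ((D134469).symm.trans (sb E80591 (iv7 F142457)))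
theorem F320210 : act 4 n42187 = n61068 := (sb E80592 (iv4 D130054))
theorem F320211 : act 7 n173347 = n83890 := (sb E80603 F279277)
theorem E83240 : n160629 = n83494 := ((F319554).symm.trans (sb E80605 (iv0 D174759)))
theorem F320212 : act 6 n74571 = n49569 := (sb E80614 (iv6 D107283))
theorem F320213 : act 0 n76652 = n116037 := (sb E80615 F184480)
theorem F320214 : act 1 n76652 = n116032 := (sb E80615 F184481)
theorem F320215 : act 0 n66340 = n74537 := (sb E80616 (iv1 D156729))
theorem F320216 : act 0 n65108 = n116301 := (sb E80617 (iv1 F181292))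
theorem F320217 : act 1 n65108 = n116300 := (sb E80617 F181296)
theorem E83241 : n141383 = n38936 := (((F317704).symm.trans (sb E80617 (iv3 F224425)))).symm
theorem E83242 : n141393 = n138654 := ((((iv4 F221818)).symm.trans (sb E80617 (iv4 F224436)))).symm
theorem E83243 : n141407 = n38934 := ((((iv5 F319896)).symm.trans (sb E80617 (iv5 F224441)))).symm
theorem F320218 : act 7 n65108 = n30984 := (sb E80617 (iv7 D66343))
theorem E83244 : n141394 = n31330 := ((D141394).symm.trans (sb E80618 (iv2 D67403)))
theorem E83245 : n141395 = n74908 := ((D141395).symm.trans (sb E80618 F317427))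
theorem E83246 : n143873 = n141396 := (((D141396).symm.trans (sb E80618 (iv4 F226490)))).symm
theorem E83247 : n143896 = n141398 := (((D141398).symm.trans (sb E80618 D143896))).symm
theorem E83248 : n141399 = n116838 := ((D141399).symm.trans (sb E80618 (iv7 F182436)))
theorem E83249 : n107655 = n85433 := ((D107655).symm.trans (sb E80619 (iv1 F200693)))
theorem F320219 : act 1 n49736 = n58413 := (sb E80619 (iv0 D124962))
theorem E83250 : n110088 = n78726 := (((D78726).symm.trans (sb E80620 D110088))).symm
theorem E83251 : n110089 = n78727 := (((D78727).symm.trans (sb E80620 D110089))).symm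
theorem E83253 : n110085 = n78722 := (((D78722).symm.trans (sb E80621 D110085))).symm
theorem E83256 : n180585 = n126348 := (((iv1 F281083)).symm.trans (sb E80622 (iv1 F203164)))
theorem E83257 : n180584 = n126347 := ((F281091).symm.trans (sb E80622 F203163))
theorem E83258 : n180587 = n58973 := (((iv2 F281088)).symm.trans (sb E80622 F174772))
theorem E83259 : n159270 = n110017 := (((iv4 F304718)).symm.trans (sb E80622 F174773))
theorem F320220 : act 0 n25160 = n17363 := (sb E80623 (iv1 F43492))
theorem F320221 : act 1 n25160 = n17362 := (sb E80623 F43493)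
theorem F320222 : act 4 n25160 = n39924 := (sb E80623 (iv4 F60744))
theorem E83261 : n51831 = n12897 := ((D51831).symm.trans (sb E80623 (iv6 D26956)))
theorem F320223 : act 2 n124729 = n66956 := (sb E80635 F225680)
theorem F320224 : act 6 n124729 = n66927 := (sb E80635 (iv6 D142778))
theorem F320225 : act 0 n142852 = n72931 := (sb E80637 F234962)
theorem F320226 : act 2 n142852 = n114550 := (sb E80637 F234957)
theorem F320227 : act 3 n142852 = n76306 := (sb E80637 F234958)
theorem F320228 : act 4 n142852 = n70160 := (sb E80637 F234959)
theorem F320229 : act 6 n142852 = n70159 := (sb E80637 (iv6 D149415))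
theorem F320230 : act 7 n142852 = n114756 := (sb E80637 F234960)
theorem F320231 : act 1 n142853 = n72931 := (sb E80638 (iv0 D154051))
theorem F320232 : act 2 n142853 = n114756 := (sb E80638 (iv2 F242077))
theorem F320233 : act 7 n142853 = n114550 := (sb E80638 F242079)
theorem F320234 : act 7 n142854 = n114758 := (sb E80639 F242093)
theorem E83266 : n117701 = n117609 := (((D117609).symm.trans (sb E80647 (iv3 F309445)))).symm
theorem F320235 : act 4 n54180 = n32580 := (sb E80647 F106653)
theorem E83268 : n117611 = n32579 := ((D117611).symm.trans (sb E80647 (iv6 D70195)))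
theorem E83269 : n151556 = n143457 := (((D143457).symm.trans (sb E80648 (iv2 F238429)))).symm
theorem E83270 : n143458 = n71315 := ((D143458).symm.trans (sb E80648 F238034))
theorem E83271 : n143460 = n71314 := ((D143460).symm.trans (sb E80648 (iv6 D151314)))
theorem F320236 : act 2 n67198 = n32580 := (sb E80649 F106633)
theorem E83272 : n149462 = n115840 := (((F180238).symm.trans (sb E80649 D149462))).symm
theorem E83273 : n143461 = n32574 := ((D143461).symm.trans (sb E80649 (iv6 D70187)))
theorem E83274 : n143464 = n76641 := ((D143464).symm.trans (sb E80650 (iv1 F114961)))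
theorem E83275 : n143465 = n70301 := ((D143465).symm.trans (sb E80650 (iv0 F106749)))
theorem E83276 : n143466 = n76679 := ((D143466).symm.trans (sb E80650 (iv5 F115028)))
theorem E83277 : n143467 = n76753 := ((D143467).symm.trans (sb E80650 (iv7 F115134)))
theorem F320237 : act 3 n35038 = n26235 := (sb E80651 (iv3 D54259))
theorem F320238 : act 7 n35038 = n31267 := (sb E80651 F205086)
theorem E83279 : n117793 = n56974 := ((D117793).symm.trans (sb E80652 F196508))
theorem E83280 : n117795 = n56972 := ((D117795).symm.trans (sb E80652 (iv6 D122646)))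
theorem F320239 : act 6 n35020 = n26235 := (sb E80653 (iv6 D54262))
theorem F320240 : act 3 n67029 = n70330 := (sb E80654 (iv3 D149729))
theorem F320241 : act 6 n35028 = n31262 := (sb E80655 (iv6 D67166))
theorem E83287 : n117776 = n117775 := ((D117776).symm.trans (sb E80656 (tr F252530 E82817)))
theorem E83288 : n143511 = n143397 := (((D143397).symm.trans (sb E80658 (iv6 F314562)))).symm
theorem E83289 : n143399 = n123245 := ((D143399).symm.trans (sb E80659 F252556))
theorem E83290 : n143401 = n76643 := ((D143401).symm.trans (sb E80659 (iv6 D160048)))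
theorem F320242 : act 6 n35032 = n31263 := (sb E80661 (iv6 D67172))
theorem E83305 : n117787 = n76634 := (((D76634).symm.trans (sb E80665 (iv6 F205171)))).symm
theorem E83306 : n117784 = n76654 := ((D117784).symm.trans (sb E80666 (iv1 F235511)))
theorem E83307 : n117785 = n70340 := ((D117785).symm.trans (sb E80666 (iv0 D149744)))
theorem E83308 : n155586 = n117786 := (((D117786).symm.trans (sb E80666 (iv5 F244601)))).symm
theorem F320243 : act 2 n54257 = n31267 := (sb E80667 (iv2 D67186))
theorem E83309 : n143423 = n117782 := ((((iv4 F184470)).symm.trans (sb E80667 D143423))).symm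
theorem E83310 : n117786 = n117041 := ((D117786).symm.trans (sb E80667 (iv5 F205082)))
theorem E83312 : n143425 = n123253 := ((D143425).symm.trans (sb E80668 F252602))
theorem F320244 : act 7 n67187 = n76652 := (sb E80668 (iv7 D160064))
theorem E83313 : n155586 = n117041 := (E83308).trans E83310
theorem E83314 : n155591 = n139754 := (((D139754).symm.trans (sb E80669 F252613))).symm
theorem F320245 : act 3 n67105 = n143442 := (sb E80670 D143442)
theorem F320246 : act 7 n67105 = n143446 := (sb E80670 D143446)
theorem E83319 : n143446 = n70340 := ((((iv2 F318911)).symm.trans (sb E80671 (iv2 F226196)))).symm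
theorem E83326 : n143427 = n31268 := (((D31268).symm.trans (sb E80672 (iv4 F226189)))).symm
theorem F320247 : act 6 n14752 = n31267 := (sb E80672 (iv6 D67188))
theorem E83335 : n143452 = n31447 := (((F180708).symm.trans (sb E80674 D143452))).symm
theorem E83337 : n139756 = n139754 := (((D139754).symm.trans (sb E80674 (iv6 F222931)))).symm
theorem E83340 : n143677 = n31749 := (((D31749).symm.trans (sb E80677 (tr F240028 E81802)))).symm
theorem E83342 : n139783 = n31752 := (((D31752).symm.trans (sb E80677 (iv6 F313623)))).symm
theorem E83345 : n153737 = n31757 := (((D31757).symm.trans (sb E80678 D153737))).symm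
theorem F320248 : act 4 n55234 = n77690 := (sb E80679 (iv4 D161736))
theorem E83346 : n77765 = n66152 := (((F318347).symm.trans (sb E80679 F304777))).symm
theorem F320249 : act 2 n119376 = n78592 := (sb E80680 (iv2 D163568))
theorem E83347 : n84466 = n14952 := ((((iv1 F38782)).symm.trans (sb E80681 (iv1 F302729)))).symm
theorem E83348 : n160934 = n11729 := ((((iv0 D24774)).symm.trans (sb E80681 D160934))).symm
theorem F320250 : act 5 n39284 = n78592 := (sb E80684 (iv5 D163569))
theorem E83351 : n158775 = n78147 := ((((iv1 F119321)).symm.trans (sb E80687 (iv1 F303248)))).symm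
theorem E83352 : n161316 = n35858 := (((F88470).symm.trans (sb E80687 (iv0 F303245)))).symm
theorem F320251 : act 0 n121299 = n152630 := (sb E80689 F303122)
theorem F320252 : act 1 n121299 = n83175 := (sb E80689 F303123)
theorem F320253 : act 2 n121299 = n152628 := (sb E80689 F303124)
theorem F320254 : act 5 n121299 = n77625 := (sb E80689 (iv5 D161622))
theorem E83354 : n78863 = n40261 := (((F91582).symm.trans (sb E80691 F193421))).symm
theorem F320255 : act 5 n35443 = n55958 := (sb E80691 F193419)
theorem E83357 : n129940 = n77946 := (((D77946).symm.trans (sb E80692 D129940))).symm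
theorem E83359 : n60795 = n17370 := (((F297536).symm.trans (sb E80692 (iv7 F95559)))).symm
theorem E83360 : n85261 = n78859 := (((D78859).symm.trans (sb E80693 D85261))).symm
theorem E83361 : n85262 = n78860 := (((D78860).symm.trans (sb E80693 D85262))).symm
theorem E83362 : n85245 = n78858 := ((((iv2 F120014)).symm.trans (sb E80693 (iv2 F130553)))).symm
theorem E83364 : n78861 = n18675 := ((D78861).symm.trans (sb E80693 (iv5 D39403)))
theorem F320256 : act 5 n19022 = n17379 := (sb E80695 (iv5 D35900))
theorem F320257 : act 5 n56438 = n55915 := (sb E80700 (iv5 D121180))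
theorem E83373 : n78260 = n77762 := ((D78260).symm.trans (sb E80701 (iv5 D161920)))
theorem F320258 : act 5 n120741 = n60781 := (sb E80704 (iv5 D129328))
theorem F320259 : act 5 n28837 = n55661 := (sb E80706 (iv5 D120742))
theorem E83374 : n78025 = n60789 := (((D60789).symm.trans (sb E80706 F192517))).symm
theorem E83375 : n110563 = n3699 := ((((iv5 D8204)).symm.trans (sb E80708 F207562))).symm
theorem E83376 : n110562 = n6169 := ((((iv5 D12989)).symm.trans (sb E80709 F207566))).symm
theorem E83377 : n109476 = n8392 := (((F16911).symm.trans (sb E80711 (iv1 F174921)))).symm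
theorem E83378 : n109484 = n12864 := (((D12864).symm.trans (sb E80711 F174922))).symm
theorem E83379 : n51864 = n3639 := (((F9479).symm.trans (sb E80711 F174919))).symm
theorem E83381 : n164994 = n61024 := (((iv5 F260170)).symm.trans (sb E80713 F207554))
theorem E83382 : n109492 = n12946 := ((((iv5 D27021)).symm.trans (sb E80714 F207555))).symm
theorem E83383 : n36291 = n29473 := ((((iv1 F47257)).symm.trans (sb E80715 (iv1 F121650)))).symm
theorem E83384 : n36487 = n14251 := (((F80121).symm.trans (sb E80715 F121649))).symm
theorem F320260 : act 5 n28925 = n55660 := (sb E80715 F121648)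
theorem E83385 : n126973 = n61025 := (((D61025).symm.trans (sb E80715 (tr D164995 E81411)))).symm
theorem E83387 : n164996 = n61026 := (((iv5 F260175)).symm.trans (sb E80717 F207558))
theorem E83389 : n56009 = n14252 := (((F80117).symm.trans (sb E80719 F121656))).symm
theorem F320261 : act 5 n28926 = n36483 := (sb E80719 F121655)
theorem E83390 : n78802 = n60794 := (((D60794).symm.trans (sb E80721 (iv3 F119955)))).symm
theorem E83391 : n56152 = n14041 := (((F80087).symm.trans (sb E80721 (iv4 F301297)))).symm
theorem E83392 : n79661 = n60796 := (((D60796).symm.trans (sb E80722 (iv3 F122360)))).symm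
theorem E83396 : n56168 = n13748 := (((D13748).symm.trans (sb E80723 (iv0 F88846)))).symm
theorem E83397 : n78019 = n13736 := ((((iv3 F22980)).symm.trans (sb E80723 (iv3 F119221)))).symm
theorem E83398 : n17243 = n6380 := (((F10609).symm.trans (sb E80723 F56269))).symm
theorem F320262 : act 5 n28842 = n36245 := (sb E80724 (iv5 F56966))
theorem E83400 : n78026 = n29425 := ((((iv6 F47151)).symm.trans (sb E80724 D78026))).symm
theorem E83407 : n133132 = n120025 := ((D133132).symm.trans (sb E80732 (iv6 F189513)))
theorem E83408 : n150405 = n133136 := ((((iv5 F213847)).symm.trans (sb E80733 (iv5 F244699)))).symm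
theorem E83409 : n150531 = n133134 := (((iv1 F237019)).symm.trans (sb E80734 (iv1 F213839)))
theorem E83410 : n141083 = n133133 := (((iv0 F313618)).symm.trans (sb E80734 F213843))
theorem F320263 : act 5 n70961 = n61208 := (sb E80734 F208958)
theorem F320264 : act 7 n70961 = n61207 := (sb E80734 (iv7 D130452))
theorem F320265 : act 4 n62461 = n32861 := (sb E80736 (iv4 D70945))
theorem F320266 : act 5 n33983 = n61206 := (sb E80737 (iv5 D130447))
theorem F320267 : act 5 n130446 = n74051 := (sb E80738 (iv5 D155661))
theorem F320268 : act 6 n130446 = n155708 := (sb E80738 (iv6 F244723))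
theorem E83412 : n155717 = n61764 := (((D61764).symm.trans (sb E80739 (iv6 F244729)))).symm
theorem E83413 : n155715 = n133147 := ((D155715).symm.trans (sb E80740 F213883))
theorem F320269 : act 6 n74072 = n61206 := (sb E80740 (iv6 D130448))
theorem F320270 : act 7 n74072 = n133145 := (sb E80740 (iv7 F213875))
theorem F320271 : act 3 n159241 = n77148 := (sb E80741 F253930)
theorem F320272 : act 5 n159241 = n77147 := (sb E80741 (iv5 D160784))
theorem F320273 : act 0 n130822 = n165710 := (sb E80742 (iv1 F261044))
theorem F320274 : act 1 n130823 = n165710 := (sb E80743 F261046)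
theorem F320275 : act 0 n130810 = n165709 := (sb E80744 (iv1 F261045))
theorem F320276 : act 1 n130810 = n165708 := (sb E80744 F261040)
theorem F320277 : act 4 n130810 = n160265 := (sb E80744 F259879)
theorem F320278 : act 7 n130810 = n165710 := (sb E80744 (iv7 F261043))
theorem F320279 : act 4 n76806 = n61366 := (sb E80745 (iv4 D130824))
theorem E83414 : n165711 = n61367 := (((D61367).symm.trans (sb E80746 F301300))).symm
theorem F320280 : act 7 n79590 = n61366 := (sb E80747 (iv7 D130825))
theorem E83415 : n111938 = n8030 := ((((iv5 D17144)).symm.trans (sb E80748 F209373))).symm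
theorem E83417 : n109504 = n8076 := (((F28309).symm.trans (sb E80751 (iv1 F170106)))).symm
theorem E83419 : n50718 = n17431 := ((((iv4 F28432)).symm.trans (sb E80751 F170104))).symm
theorem E83421 : n79209 = n61036 := ((D79209).symm.trans (sb E80753 (iv5 D129953)))
theorem F320281 : act 5 n28930 = n17450 := (sb E80754 (iv5 D36061))
theorem E83426 : n133562 = n39069 := (((D39069).symm.trans (sb E80755 (iv5 F214843)))).symm
theorem E83427 : n121799 = n61043 := ((D121799).symm.trans (sb E80756 (iv5 D129961)))
theorem E83428 : n77518 = n13782 := ((((iv4 D28933)).symm.trans (sb E80757 (iv4 F116405)))).symm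
theorem F320282 : act 5 n28933 = n27114 := (sb E80757 (iv5 D56276))
theorem E83429 : n78504 = n60807 := (((D60807).symm.trans (sb E80759 (iv3 F119689)))).symm
theorem E83430 : n60808 = n17332 := ((D60808).symm.trans (sb E80759 (iv5 D35769)))
theorem E83431 : n79634 = n60814 := (((D60814).symm.trans (sb E80760 (iv3 F122344)))).symm
theorem E83433 : n35566 = n13823 := (((D13823).symm.trans (sb E80761 F116217))).symm
theorem E83434 : n35555 = n13824 := (((D13824).symm.trans (sb E80761 F116218))).symm
theorem E83435 : n161242 = n13815 := ((((iv3 F23074)).symm.trans (sb E80761 (iv3 F255057)))).symm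
theorem E83436 : n35343 = n5603 := (((F10633).symm.trans (sb E80761 (iv5 D77406)))).symm
theorem F320283 : act 5 n29050 = n36247 := (sb E80762 (iv5 D79591))
theorem E83439 : n143028 = n73377 := ((F225895).symm.trans (sb E80766 (iv0 F231844)))
theorem E83440 : n143062 = n72608 := ((D143062).symm.trans (sb E80766 F231843))
theorem F320284 : act 0 n32224 = n31232 := (sb E80767 (iv1 F103018))
theorem F320285 : act 1 n32224 = n31210 := (sb E80767 (iv0 D67024))
theorem F320286 : act 2 n32224 = n143008 := (sb E80767 D143008)
theorem E83446 : n179048 = n143120 := (((D143120).symm.trans (sb E80768 (iv6 F278989)))).symm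
theorem E83447 : n142298 = n72608 := ((D142298).symm.trans (sb E81231 F232943))
theorem E83448 : n143120 = n142299 := (((D142299).symm.trans (sb E81231 (tr D179048 E83446)))).symm
theorem E83449 : n142300 = n54660 := ((D142300).symm.trans (sb E81231 F232944))
theorem E83450 : n159417 = n142996 := (((D142996).symm.trans (sb E80771 F252069))).symm
theorem F320287 : act 2 n142459 = n66840 := (sb E80772 F225460)
theorem F320288 : act 7 n142459 = n66839 := (sb E80772 (iv7 D142599))
theorem F320289 : act 0 n117075 = n85285 := (sb E80773 (iv1 F278701))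
theorem F320290 : act 1 n117075 = n85284 := (sb E80773 F278702)
theorem F320291 : act 2 n117075 = n85287 := (sb E80773 F278699)
theorem F320292 : act 7 n117075 = n85248 := (sb E80773 (iv7 D178831))
theorem F320293 : act 4 n14672 = n31002 := (sb E80776 (iv4 D66408))
theorem F320294 : act 6 n66415 = n65633 := (sb E80779 (iv6 D139817))
theorem F320295 : act 2 n60879 = n31411 := (sb E80780 (iv2 D67626))
theorem E83451 : n129595 = n126701 := (((iv3 F207774)).symm.trans (sb E80780 (iv3 F203902)))
theorem F320296 : act 4 n60879 = n31419 := (sb E80780 F103644)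
theorem E83454 : n62287 = n59608 := ((((iv5 F94018)).symm.trans (sb E80781 (iv5 F97112)))).symm
theorem E83456 : n129597 = n59430 := ((((iv3 F93807)).symm.trans (sb E80782 D129597))).symm
theorem E83457 : n62230 = n59603 := (((D59603).symm.trans (sb E80782 F97001))).symm
theorem E83459 : n177588 = n59547 := (((E81432).symm.trans ((D133561).symm.trans (sb E80783 (iv3 F277043))))).symm
theorem F320297 : act 4 n62678 = n58459 := (sb E80783 (iv4 F313832))
theorem F320298 : act 1 n39470 = n29634 := (sb E80784 (iv0 D62677))
theorem E83460 : n133559 = n85473 := ((((iv3 F130689)).symm.trans (sb E80784 D133559))).symm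
theorem E83461 : n85476 = n60972 := ((D85476).symm.trans (sb E80784 F97766))
theorem F320299 : act 5 n106396 = n61460 := (sb E80785 F209706)
theorem E83463 : n61459 = n59720 := ((((iv7 F163558)).symm.trans (sb E80785 (iv7 D131018)))).symm
theorem F320300 : act 5 n29092 = n59689 := (sb E80786 (iv5 D127132))
theorem E83464 : n59721 = n13848 := ((((iv7 D29092)).symm.trans (sb E80786 F204384))).symm
theorem F320301 : act 2 n28334 = n29634 := (sb E80788 (iv2 F47599))
theorem E83465 : n61207 = n59722 := (((D59722).symm.trans (sb E80788 (iv6 F95680)))).symm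
theorem E83466 : n159955 = n116444 := (((D116444).symm.trans (sb E80789 (iv3 F252293)))).symm
theorem F320302 : act 4 n53669 = n59690 := (sb E80789 (iv4 D127136))
theorem F320303 : act 2 n66411 = n59707 := (sb E80790 F204391)
theorem F320304 : act 6 n66411 = n59690 := (sb E80790 (iv6 D127137))
theorem E83467 : n142522 = n116600 := (E80794).trans E83198
theorem F320305 : act 0 n116600 = n144520 := (sb E83467 (iv1 F227383))
theorem F320306 : act 1 n116600 = n66820 := (sb E83467 (iv0 D142522))
theorem F320307 : act 0 n116549 = n66820 := (sb E80795 (iv1 D142523))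
theorem F320308 : act 1 n116549 = n144520 := (sb E80795 F227382)
theorem E83468 : n144517 = n68896 := ((D144517).symm.trans (sb E80796 (iv1 F230356)))
theorem E83469 : n146820 = n144519 := (((D144519).symm.trans (sb E80796 F230355))).symm
theorem F320309 : act 5 n69657 = n66820 := (sb E80797 (iv5 D142524))
theorem E83470 : n117065 = n32332 := ((((iv6 D69657)).symm.trans (sb E80797 F225419))).symm
theorem F320310 : act 6 n32334 = n53945 := (sb E80798 (iv6 D117059))
theorem E83471 : n77809 = n25913 := (((F318255).symm.trans (sb E80802 F310721))).symm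
theorem E83472 : n136703 = n66484 := ((((iv3 F102369)).symm.trans (sb E80804 (iv3 F219843)))).symm
theorem F320311 : act 4 n31039 = n30759 := (sb E80804 (iv4 D65664))
theorem E83474 : n139880 = n66488 := (((D66488).symm.trans (sb E80804 D139880))).symm
theorem F320312 : act 1 n68474 = n66363 := (sb E80806 (iv0 D141453))
theorem E83475 : n141557 = n31576 := ((((iv4 D67905)).symm.trans (iv4 (sb E80807 (tr F250360 E82566))))).symm
theorem E83476 : n159023 = n31576 := (E80807).trans E83475
theorem E83477 : n75945 = n67906 := (((D67906).symm.trans (sb E83476 (iv6 D159023)))).symm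
theorem E83478 : n155308 = n44052 := (((iv1 F244246)).symm.trans (sb E80808 (iv1 D94239)))
theorem F320313 : act 1 n73797 = n76433 := (sb E80808 F145306)
theorem E83479 : n119941 = n76314 := (((iv2 F232935)).symm.trans (sb E80808 (iv2 F153441)))
theorem E83480 : n155318 = n76458 := ((D155318).symm.trans (sb E80808 F145305))
theorem E83481 : n119946 = n76435 := (((iv7 F232934)).symm.trans (sb E80808 F145303))
theorem E83483 : n76436 = n33897 := ((D76436).symm.trans (sb E80809 (iv4 D73792)))
theorem E83485 : n143217 = n76438 := (((D76438).symm.trans (sb E80809 (iv6 F318108)))).symm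
theorem E83486 : n164195 = n83534 := (((D83534).symm.trans (sb E80810 (iv1 F258785)))).symm
theorem E83487 : n164194 = n83535 := (((D83535).symm.trans (sb E80810 F258780))).symm
theorem F320314 : act 2 n38505 = n78584 := (sb E80810 (iv2 D163540))
theorem E83488 : n164196 = n83537 := (((D83537).symm.trans (sb E80810 (iv7 F258783)))).symm
theorem F320315 : act 3 n76173 = n82954 := (sb E80811 (iv3 D173340))
theorem F320316 : act 0 n163541 = n174055 := (sb E80812 (iv1 F273777))
theorem F320317 : act 1 n163541 = n174058 := (sb E80812 (iv0 F272865))
theorem F320318 : act 2 n163541 = n83536 := (sb E80812 F262981)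
theorem F320319 : act 6 n163541 = n82954 := (sb E80812 F262982)
theorem F320321 : act 5 n163538 = n83761 := (sb E80813 F311741)
theorem F320322 : act 7 n163538 = n83535 := (sb E80813 F262988)
theorem F320324 : act 3 n163539 = n152247 := (sb E80814 F308854)
theorem F320325 : act 5 n163539 = n83760 := (sb E80814 F308855)
theorem F320326 : act 7 n163539 = n83534 := (sb E80814 (iv7 F262992))
theorem F320327 : act 5 n36514 = n78584 := (sb E80815 (iv5 D163542))
theorem E83489 : n164197 = n80170 := (((D80170).symm.trans (sb E80815 (iv7 F258788)))).symm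
theorem E83490 : n79783 = n77624 := (((iv4 F122486)).symm.trans (sb E80820 F255627))
theorem E83491 : n77623 = n27904 := (((F88562).symm.trans (sb E80820 (iv7 D161618)))).symm
theorem F320328 : act 5 n120961 = n84120 := (sb E80822 F303148)
theorem E83492 : n78589 = n27031 := (((F91418).symm.trans (sb E80823 F302192))).symm
theorem F320329 : act 5 n38772 = n55790 := (sb E80823 (iv5 D120965))
theorem E83494 : n62367 = n35882 := (((F297204).symm.trans (sb E80824 (iv1 F97255)))).symm
theorem E83497 : n164551 = n78580 := (((D78580).symm.trans (sb E80825 F274206))).symm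
theorem E83498 : n83061 = n78582 := (((D78582).symm.trans (sb E80825 F303143))).symm
theorem E83499 : n78590 = n18263 := ((D78590).symm.trans (sb E80826 (iv4 D38227)))
theorem E83500 : n125323 = n77622 := ((((iv5 F302054)).symm.trans (sb E80829 F257810))).symm
theorem F320330 : act 5 n36521 = n35906 := (sb E80831 (iv5 D78878))
theorem F320331 : act 1 n69823 = n67414 := (sb E80833 (iv0 D143919))
theorem F320332 : act 0 n105943 = n67414 := (sb E80834 (iv1 D143920))
theorem F320333 : act 0 n143921 = n138412 := (sb E80835 (iv1 F315884))
theorem F320334 : act 1 n143921 = n71080 := (sb E80835 (iv0 D150756))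
theorem F320335 : act 4 n143921 = n155603 := (sb E80835 (iv4 F244636))
theorem F320336 : act 6 n143921 = n105777 := (sb E80835 (iv6 F316387))
theorem F320337 : act 0 n143883 = n155606 := (sb E80836 F244639)
theorem F320338 : act 1 n143883 = n151369 := (sb E80836 (iv0 F238084))
theorem F320339 : act 2 n143883 = n155603 := (sb E80836 F244635)
theorem F320340 : act 6 n143883 = n105814 := (sb E80836 (tr F237815 E81618))
theorem F320341 : act 7 n143883 = n155604 := (sb E80836 (iv7 F244634))
theorem F320342 : act 1 n118309 = n67446 := (sb E80837 (iv0 D143963))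
theorem F320343 : act 0 n128017 = n67446 := (sb E80838 (iv1 D143964))
theorem F320344 : act 2 n128047 = n67446 := (sb E80839 (iv2 D143965))
theorem F320345 : act 6 n128047 = n139738 := (sb E80839 F226603)
theorem F320346 : act 0 n143935 = n147910 := (sb E80840 (iv1 F243080))
theorem F320347 : act 1 n143935 = n154693 := (sb E80840 (iv0 F243079))
theorem F320348 : act 2 n143935 = n154691 := (sb E80840 F248081)
theorem F320349 : act 7 n143935 = n154690 := (sb E80840 F243067)
theorem F320350 : act 6 n162801 = n83523 := (sb E80841 (iv6 D174851))
theorem F320351 : act 0 n143271 = n118827 := (sb E80842 (iv1 F235904))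
theorem F320352 : act 2 n143271 = n118826 := (sb E80842 F235899)
theorem F320353 : act 3 n143271 = n70541 := (sb E80842 F235900)
theorem F320354 : act 4 n143271 = n71006 := (sb E80842 F235901)
theorem F320355 : act 5 n143271 = n120001 := (sb E80842 F235902)
theorem F320356 : act 6 n143271 = n76591 := (sb E80842 F303019)
theorem F320357 : act 7 n143271 = n70538 := (sb E80842 (iv7 D149967))
theorem F320358 : act 0 n54780 = n67119 := (sb E80843 (iv1 D143272))
theorem F320359 : act 2 n72601 = n67119 := (sb E80844 F226062)
theorem F320360 : act 4 n139763 = n67119 := (sb E80845 (iv4 D143273))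
theorem F320361 : act 7 n54698 = n67119 := (sb E80846 (iv7 D143274))
theorem F320362 : act 4 n73245 = n45369 := (sb E80847 (iv4 D97057))
theorem F320363 : act 4 n73246 = n45370 := (sb E80848 (iv4 D97062))
theorem F320364 : act 0 n97064 = n127458 := (sb E80849 (iv1 F230868))
theorem F320365 : act 1 n97064 = n127494 := (sb E80849 (iv0 F230865))
theorem F320366 : act 2 n97064 = n146973 := (sb E80849 F230864)
theorem F320367 : act 4 n97064 = n69034 := (sb E80849 (iv4 D147263))
theorem E83504 : n95807 = n45397 := ((D95807).symm.trans (sb E80850 (iv2 D97127)))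
theorem F320368 : act 3 n44742 = n45412 := (sb E80850 F317681)
theorem E83505 : n95809 = n67885 := ((D95809).symm.trans (sb E80850 F317475))
theorem F320369 : act 6 n44742 = n67884 := (sb E80850 F317476)
theorem E83506 : n95812 = n45398 := ((D95812).symm.trans (sb E80850 (iv7 F149858)))
theorem F320370 : act 6 n15428 = n140199 := (sb E80854 D140199)
theorem E83519 : n55251 = n53872 := ((D55251).symm.trans (sb E80856 F101467))
theorem E83522 : n71215 = n53870 := (((D53870).symm.trans (sb E80857 F107692))).symm
theorem F320371 : act 6 n26342 = n140178 := (sb E80860 D140178)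
theorem F320372 : act 4 n73322 = n52944 := (sb E80870 (iv4 D114715))
theorem E83537 : n125306 = n56791 := ((D125306).symm.trans (sb E80871 (iv1 F128948)))
theorem E83538 : n125307 = n75520 := ((D125307).symm.trans (sb E80871 F128949))
theorem E83539 : n125308 = n81819 := ((D125308).symm.trans (sb E80871 F128946))
theorem E83540 : n172488 = n125304 := ((((iv4 F201537)).symm.trans (sb E80871 (iv4 F270692)))).symm
theorem F320373 : act 5 n58678 = n38673 := (sb E80871 F128947)
theorem E83541 : n78506 = n62360 := (((iv6 F119691)).symm.trans (sb E80871 (iv6 F315309)))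
theorem F320374 : act 7 n58678 = n38672 := (sb E80871 (iv7 D83963))
theorem E83542 : n62366 = n20339 := ((((iv6 F32275)).symm.trans (sb E80872 F213481))).symm
theorem F320375 : act 6 n29499 = n27901 := (sb E80873 F92676)
theorem F320376 : act 4 n114552 = n76784 := (sb E80879 (iv4 D160243))
theorem F320377 : act 1 n68413 = n114579 := (sb E80881 (iv0 F178871))
theorem F320378 : act 2 n52897 = n67990 := (sb E80882 F227918)
theorem F320379 : act 6 n52897 = n67955 := (sb E80882 (iv6 D144950))
theorem E83548 : n153727 = n51167 := ((((iv3 F80714)).symm.trans (sb E80883 (iv3 F241594)))).symm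
theorem E83550 : n107454 = n33559 := ((D107454).symm.trans (sb E80883 (iv6 D72733)))
theorem F320380 : act 2 n16218 = n26034 := (sb E80884 F84888)
theorem F320381 : act 6 n16218 = n26033 := (sb E80884 (iv6 D53856))
theorem F320382 : act 1 n16183 = n26034 := (sb E80885 (iv0 D53857))
theorem F320383 : act 0 n16220 = n26034 := (sb E80886 (iv1 D53858))
theorem E83561 : n118975 = n107455 := (((D107455).symm.trans (sb E80887 D118975))).symm
theorem E83562 : n118976 = n107456 := (((D107456).symm.trans (sb E80887 D118976))).symm
theorem E83563 : n118977 = n107457 := (((D107457).symm.trans (sb E80887 D118977))).symm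
theorem F320384 : act 7 n49633 = n33335 := (sb E80887 F86605)
theorem F320385 : act 2 n32645 = n32269 := (sb E80888 (iv2 D69490))
theorem E83564 : n116851 = n70331 := (((D70331).symm.trans (sb E80888 (iv5 F182459)))).symm
theorem F320386 : act 5 n53646 = n70329 := (sb E80889 F235463)
theorem E83566 : n176991 = n116388 := ((((iv3 F181490)).symm.trans (sb E80890 (iv3 F276362)))).symm
theorem E83567 : n176993 = n116390 := ((((iv4 F181500)).symm.trans (sb E80890 D176993))).symm
theorem E83568 : n116395 = n38897 := ((D116395).symm.trans (sb E80890 (iv5 D84357)))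
theorem E83569 : n116396 = n38976 := ((D116396).symm.trans (sb E80890 F129430))
theorem E83570 : n143678 = n115761 := ((((iv2 F182509)).symm.trans (sb E80891 (tr (iv2 F241183) E81803)))).symm
theorem E83571 : n147063 = n116853 := (((D116853).symm.trans (sb E80891 F235481))).symm
theorem E83572 : n152809 = n31749 := (E81802).trans E83340
theorem F320387 : act 2 n53795 = n116682 := (sb E80896 (iv2 F182070))
theorem F320388 : act 6 n53795 = n32265 := (sb E80896 (iv6 D69481))
theorem F320389 : act 0 n67105 = n76634 := (sb E80901 (iv1 F318245))
theorem E83598 : n143442 = n31295 := ((F320245).symm.trans (sb E80901 (iv3 D67292)))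
theorem E83599 : n143684 = n116040 := (((F181670).symm.trans (sb E80901 D143684))).symm
theorem E83600 : n143233 = n73468 := ((D143233).symm.trans (sb E80901 F316019))
theorem F320390 : act 1 n65661 = n62166 := (sb E82457 F181169)
theorem E83601 : n139877 = n53575 := ((D139877).symm.trans (sb E82457 (iv5 D116235)))
theorem E83602 : n77492 = n30921 := (((E81384).symm.trans ((D139878).symm.trans (sb E82457 F308632)))).symm
theorem F320391 : act 0 n65656 = n62166 := (sb E81862 F181150)
theorem E83603 : n139870 = n53565 := ((D139870).symm.trans (sb E81862 (iv5 D116226)))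
theorem F320392 : act 3 n115946 = n67301 := (sb E80905 (iv3 D143700))
theorem E83604 : n142684 = n141478 := ((((iv5 F224540)).symm.trans (sb E80905 (iv5 F317632)))).symm
theorem F320393 : act 3 n65461 = n66881 := (sb E80907 F225570)
theorem E83605 : n67113 = n66880 := (((iv5 F181592)).symm.trans (sb E80907 (iv5 D142683)))
theorem F320394 : act 0 n127100 = n85759 := (sb E80909 (iv1 D179604))
theorem F320395 : act 4 n127100 = n124960 := (sb E80909 F279713)
theorem E83606 : n148614 = n83557 := (((F307729).symm.trans (sb E80909 F279712))).symm
theorem F320396 : act 4 n65668 = n53799 := (sb E80912 (iv4 D116762))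
theorem F320397 : act 0 n66485 = n31411 := (sb E80914 (iv1 D67625))
theorem E83607 : n144332 = n141805 := (((D141805).symm.trans (sb E80914 D144332))).symm
theorem E83608 : n127000 = n59647 := (((F102370).symm.trans (sb E80914 (iv5 F204247)))).symm
theorem E83610 : n74022 = n65469 := ((((iv4 F101167)).symm.trans (sb E80918 (iv4 F110762)))).symm
theorem F320398 : act 5 n30777 = n35080 := (sb E80918 (iv5 F77271))
theorem F320399 : act 6 n32919 = n66361 := (sb E80933 F223306)
theorem E83611 : n65751 = n23896 := ((D65751).symm.trans (sb E80935 F55053))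
theorem E83612 : n65752 = n28578 := ((D65752).symm.trans (sb E80935 F55054))
theorem E83613 : n76241 = n65753 := (((D65753).symm.trans (sb E80935 D76241))).symm
theorem E83614 : n65754 = n16876 := ((D65754).symm.trans (sb E80935 (iv5 D34823)))
theorem E83615 : n65755 = n65007 := ((D65755).symm.trans (sb E80935 F315872))
theorem E83616 : n65756 = n32915 := ((D65756).symm.trans (sb E80935 F55055))
theorem E83617 : n105906 = n65757 := (((D65757).symm.trans (sb E80936 (iv3 F162639)))).symm
theorem E83619 : n65759 = n23897 := ((D65759).symm.trans (sb E80936 F77276))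
theorem E83620 : n105943 = n65760 := (((D65760).symm.trans (sb E80936 D105943))).symm
theorem E83621 : n65474 = n55222 := ((D65474).symm.trans (sb E80937 (iv1 F87378)))
theorem E83622 : n71350 = n65475 := (((D65475).symm.trans (sb E80937 (iv0 F107843)))).symm
theorem E83623 : n118362 = n65476 := (((D65476).symm.trans (sb E80937 D118362))).symm
theorem F320400 : act 0 n100416 = n65735 := (sb E80938 (iv1 D140033))
theorem F320401 : act 1 n100416 = n65740 := (sb E80938 F223247)
theorem F320402 : act 7 n100416 = n117782 := (sb E80938 (tr (iv7 F226182) E83309))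
theorem F320403 : act 1 n117851 = n65737 := (sb E80939 (iv0 D140037))
theorem F320404 : act 0 n32319 = n65737 := (sb E80940 (iv1 D140038))
theorem F320405 : act 2 n76785 = n66086 := (sb E80949 (iv2 D140855))
theorem F320406 : act 6 n79845 = n66086 := (sb E80950 (iv6 D140859))
theorem F320407 : act 7 n76784 = n66086 := (sb E80951 (iv7 D140860))
theorem E83624 : n116064 = n66480 := (E80953).trans E81634
theorem E83625 : n53497 = n35504 := ((((iv6 F308706)).symm.trans (sb E83624 F180814))).symm
theorem F320409 : act 1 n66486 = n31411 := (sb E81584 (iv0 D67624))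
theorem E83626 : n144330 = n141807 := (((D141807).symm.trans (sb E81584 D144330))).symm
theorem E83627 : n127001 = n59654 := (((F102373).symm.trans (sb E81584 (iv5 F204253)))).symm
theorem E83628 : n143706 = n141807 := (((D141807).symm.trans (sb E80958 D143706))).symm
theorem F320410 : act 4 n66486 = n31297 := (sb E80958 (iv4 D67303))
theorem E83630 : n35477 = n31765 := ((F307882).symm.trans (sb E80958 F103189))
theorem F320411 : act 2 n30760 = n31039 := (sb E80959 F84522)
theorem E83631 : n116239 = n26029 := (((F49215).symm.trans (sb E80959 (iv3 F181172)))).symm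
theorem E83632 : n65669 = n25946 := ((D65669).symm.trans (sb E80959 (iv5 D53577)))
theorem E83633 : n116243 = n65670 := (((D65670).symm.trans (sb E80959 D116243))).symm
theorem F320412 : act 6 n55250 = n66103 := (sb E80962 (iv6 D140928))
theorem E83634 : n79693 = n14010 := ((((iv5 D29467)).symm.trans (sb E80966 F260947))).symm
theorem E83638 : n17521 = n14012 := (((D14012).symm.trans (sb E80967 (iv6 D36290)))).symm
theorem E83640 : n117054 = n74783 := (((D74783).symm.trans (sb E80969 (iv1 F183063)))).symm
theorem F320414 : act 1 n34265 = n31455 := (sb E80969 (iv0 D67749))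
theorem E83641 : n144561 = n74782 := ((((iv2 F112225)).symm.trans (sb E80969 D144561))).symm
theorem E83646 : n144566 = n74786 := (((D74786).symm.trans (sb E80969 D144566))).symm
theorem E83647 : n144567 = n139785 := ((D144567).symm.trans (sb E80970 F247513))
theorem E83648 : n144542 = n39415 := ((D144542).symm.trans (sb E80972 (iv1 D85308)))
theorem E83649 : n144543 = n120009 := ((D144543).symm.trans (sb E80972 F189481))
theorem E83650 : n144539 = n83562 := (((iv4 F227397)).symm.trans (sb E80972 (tr D178913 E81638)))
theorem E83651 : n144544 = n133324 := ((D144544).symm.trans (sb E80972 (iv5 F214308)))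
theorem E83652 : n144545 = n117901 := ((D144545).symm.trans (sb E80972 F184908))
theorem F320415 : act 6 n58451 = n53674 := (sb E80976 (iv6 D116453))
theorem E83655 : n141185 = n138614 := (((D138614).symm.trans (sb E80977 (iv3 F224205)))).symm
theorem F320416 : act 6 n65085 = n30950 := (sb E80977 (iv6 D66230))
theorem E83658 : n142356 = n85498 := ((((iv3 F314655)).symm.trans (sb E80978 (iv3 F225275)))).symm
theorem E83659 : n142372 = n138899 := ((((iv4 F222061)).symm.trans (sb E80978 (iv4 F225292)))).symm
theorem F320417 : act 7 n65216 = n31129 := (sb E80978 (iv7 D66772))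
theorem F320418 : act 0 n58464 = n66770 := (sb E80983 (iv1 F181764))
theorem F320419 : act 1 n58464 = n66769 := (sb E80983 F181765)
theorem F320420 : act 7 n58464 = n53682 := (sb E80983 (iv7 D116477))
theorem E83662 : n67351 = n66769 := ((F318429).symm.trans (sb E80984 (iv5 D142385)))
theorem F320421 : act 1 n116475 = n65216 := (sb E80985 (iv0 D138906))
theorem F320422 : act 0 n116474 = n65216 := (sb E80987 (iv1 D138907))
theorem F320423 : act 3 n58469 = n53682 := (sb E80988 F181749)
theorem E83663 : n155210 = n66771 := ((D155210).symm.trans (sb E80989 F181760))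
theorem F320424 : act 5 n73715 = n53682 := (sb E80989 (iv5 D116476))
theorem F320425 : act 2 n61259 = n62591 := (sb E80990 (iv2 D133355))
theorem E83664 : n130561 = n62592 := ((F209145).symm.trans (sb E80990 (iv7 F214412)))
theorem F320426 : act 7 n61258 = n62591 := (sb E80991 (iv7 D133359))
theorem F320427 : act 7 n53950 = n74776 := (sb E80992 (iv7 D157266))
theorem F320428 : act 1 n53949 = n74776 := (sb E80993 (iv0 D157263))
theorem F320429 : act 5 n156235 = n83754 := (sb E80995 (iv5 D175396))
theorem E83666 : n116590 = n72050 := ((D116590).symm.trans (sb E81003 (iv6 D152719)))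
theorem F320430 : act 1 n33273 = n116617 := (sb E81004 D116617)
theorem F320431 : act 2 n33273 = n26002 := (sb E81004 F84762)
theorem F320432 : act 6 n33273 = n25998 := (sb E81004 (iv6 D53735))
theorem F320433 : act 0 n137063 = n85199 := (sb E81005 (iv1 D178796))
theorem F320434 : act 1 n156952 = n85199 := (sb E81006 (iv0 D178795))
theorem F320435 : act 0 n156953 = n85198 := (sb E81007 (iv1 F278661))
theorem F320436 : act 1 n156953 = n85197 := (sb E81007 (iv0 D178784))
theorem F320437 : act 4 n156953 = n85540 := (sb E81007 F278659)
theorem F320438 : act 7 n156953 = n85199 := (sb E81007 F278660)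
theorem F320439 : act 7 n112964 = n85200 := (sb E81008 (iv7 D178802))
theorem F320440 : act 4 n156954 = n85558 := (sb E81009 F278671)
theorem F320441 : act 7 n156954 = n155879 := (sb E81009 F278672)
theorem F320442 : act 2 n156958 = n83756 := (sb E81011 F274182)
theorem F320443 : act 5 n156958 = n83662 := (sb E81011 (iv5 D175168))
theorem F320444 : act 7 n156958 = n85204 := (sb E81011 (iv7 F274184))
theorem F320445 : act 1 n152785 = n74634 := (sb E81013 (iv0 D156961))
theorem F320446 : act 0 n152784 = n74634 := (sb E81014 (iv1 D156962))
theorem F320447 : act 7 n117680 = n74634 := (sb E81016 (iv7 D156964))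
theorem F320448 : act 2 n157008 = n85204 := (sb E81027 F274457)
theorem F320449 : act 5 n157008 = n83757 := (sb E81027 F274459)
theorem F320450 : act 7 n157008 = n83756 := (sb E81027 (iv7 D175407))
theorem F320451 : act 2 n157009 = n85205 := (sb E81028 F278355)
theorem F320452 : act 1 n74861 = n74320 := (sb E81047 (iv0 D156230))
theorem F320453 : act 0 n117681 = n74320 := (sb E81048 (iv1 D156231))
theorem F320454 : act 3 n152348 = n156180 := (sb E81049 F245537)
theorem F320455 : act 5 n152348 = n74320 := (sb E81049 (iv5 D156232))
theorem F320456 : act 6 n152348 = n156174 := (sb E81049 F245538)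
theorem F320457 : act 3 n119618 = n156181 := (sb E81050 F245539)
theorem F320458 : act 7 n119618 = n74320 := (sb E81050 (iv7 D156233))
theorem F320459 : act 3 n34000 = n25997 := (sb E81051 F84750)
theorem F320460 : act 6 n34000 = n25994 := (sb E81051 (iv6 D53718))
theorem F320461 : act 3 n53730 = n66449 := (sb E81052 (iv3 D141699))
theorem E83671 : n141731 = n116589 := ((((iv4 F181943)).symm.trans (sb E81054 D141731))).symm
theorem E83674 : n139076 = n31212 := (((F84764).symm.trans (sb E81055 F316127))).symm
theorem E83675 : n138748 = n31049 := (((F84763).symm.trans (sb E81055 F316128))).symm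
theorem F320462 : act 5 n53736 = n70330 := (sb E81055 F199676)
theorem E83676 : n116620 = n58320 := ((D116620).symm.trans (sb E81055 (iv6 D124753)))
theorem E83677 : n153272 = n116622 := (((D116622).symm.trans (sb E81056 (iv6 F240811)))).symm
theorem E83678 : n153600 = n116629 := (((D116629).symm.trans (sb E81057 D153600))).symm
theorem E83679 : n153601 = n116630 := (((D116630).symm.trans (sb E81057 D153601))).symm
theorem E83680 : n153602 = n116625 := ((((iv4 F181996)).symm.trans (sb E81057 D153602))).symm
theorem E83681 : n116631 = n33521 := ((D116631).symm.trans (sb E81057 (iv5 D72632)))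
theorem E83682 : n116632 = n72062 := ((D116632).symm.trans (sb E81057 F190313))
theorem E83683 : n116645 = n26616 := ((D116645).symm.trans (sb E81058 (iv1 D55072)))
theorem E83684 : n119370 = n116646 := (((D116646).symm.trans (sb E81058 F188025))).symm
theorem F320463 : act 2 n53746 = n72055 := (sb E81058 (iv2 F185122))
theorem E83685 : n119699 = n116628 := ((((iv3 F182002)).symm.trans (sb E81058 D119699))).symm
theorem E83686 : n119700 = n116644 := ((((iv4 F182012)).symm.trans (sb E81058 D119700))).symm
theorem E83687 : n116647 = n71859 := ((D116647).symm.trans (sb E81058 (iv5 F108320)))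
theorem E83688 : n119652 = n116648 := (((D116648).symm.trans (sb E81058 (iv7 F188728)))).symm
theorem E83689 : n124981 = n116657 := (((D116657).symm.trans (sb E81059 (iv5 F239455)))).symm
theorem E83690 : n116658 = n72096 := ((D116658).symm.trans (sb E81059 F239457))
theorem E83691 : n116649 = n72048 := ((F182014).symm.trans (sb E81059 F239454))
theorem E83692 : n116641 = n72067 := ((D116641).symm.trans (sb E81060 F239459))
theorem F320464 : act 5 n33208 = n26002 := (sb E81061 (iv5 D53749))
theorem F320465 : act 0 n33278 = n116617 := (sb E81062 (iv1 F181976))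
theorem F320466 : act 7 n33278 = n26002 := (sb E81062 (iv7 D53750))
theorem E83697 : n139071 = n138741 := (((iv1 F222252)).symm.trans (sb E81063 (iv1 F246409)))
theorem F320467 : act 3 n151311 = n74499 := (sb E81065 (iv3 D156667))
theorem F320468 : act 6 n151311 = n116378 := (sb E81065 F246399)
theorem F320469 : act 7 n151311 = n136505 := (sb E81065 F246400)
theorem F320470 : act 7 n85393 = n138742 := (sb E81066 F246417)
theorem F320471 : act 0 n65580 = n71306 := (sb E81067 (iv1 F316433))
theorem F320472 : act 1 n65580 = n55549 := (sb E81067 (iv0 F316427))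
theorem E83698 : n162390 = n30732 := ((((iv5 D65580)).symm.trans (sb E81067 F303168))).symm
theorem F320473 : act 0 n65577 = n55549 := (sb E81068 (iv1 F316428))
theorem F320474 : act 1 n65577 = n71306 := (sb E81068 (iv0 F316432))
theorem E83699 : n138744 = n121431 := (((F193760).symm.trans (sb E81069 F246419))).symm
theorem F320475 : act 2 n65150 = n71306 := (sb E81070 (iv2 F316434))
theorem F320476 : act 7 n65150 = n55549 := (sb E81070 (iv7 F316430))
theorem F320477 : act 3 n117678 = n138741 := (sb E81073 F246427)
theorem F320478 : act 3 n151303 = n74270 := (sb E81074 (iv3 D156131))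
theorem F320479 : act 7 n151303 = n138729 := (sb E81074 F245348)
theorem F320480 : act 2 n65141 = n72096 := (sb E81076 (iv2 F318288))
theorem F320481 : act 7 n65141 = n71304 := (sb E81076 (iv7 F318291))
theorem E83700 : n178712 = n116479 := (((D116479).symm.trans (sb E81079 F279061))).symm
theorem E83701 : n116505 = n39370 := ((D116505).symm.trans (sb E81081 F130396))
theorem E83702 : n178561 = n116506 := (((D116506).symm.trans (sb E81081 (iv3 F278280)))).symm
theorem E83703 : n178570 = n116507 := (((D116507).symm.trans (sb E81081 D178570))).symm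
theorem E83704 : n116508 = n39323 := ((D116508).symm.trans (sb E81081 (iv5 D85034)))
theorem E83705 : n141077 = n116509 := (((D116509).symm.trans (sb E81081 (iv6 F316906)))).symm
theorem E83706 : n116510 = n72181 := ((D116510).symm.trans (sb E81081 (iv7 F130477)))
theorem E83707 : n116511 = n69671 := ((D116511).symm.trans (sb E81082 (iv3 F200216)))
theorem E83708 : n178717 = n116512 := (((D116512).symm.trans (sb E81082 (iv4 F278550)))).symm
theorem E83709 : n116513 = n39371 := ((D116513).symm.trans (sb E81082 F130480))
theorem E83710 : n116514 = n69669 := ((D116514).symm.trans (sb E81082 (iv6 F200088)))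
theorem E83711 : n142764 = n116475 := ((D142764).symm.trans (sb E81091 (iv3 F318264)))
theorem E83712 : n167718 = n142765 := (((D142765).symm.trans (sb E81091 D167718))).symm
theorem E83713 : n142766 = n36697 := ((D142766).symm.trans (sb E81091 (iv5 D80484)))
theorem F320482 : act 0 n53812 = n38976 := (sb E81085 (iv1 F316708))
theorem F320483 : act 1 n53812 = n31171 := (sb E81087 (iv0 D66922))
theorem E83715 : n142758 = n116797 := (((D116797).symm.trans (sb E81087 D142758))).symm
theorem E83719 : n142762 = n116799 := (((D116799).symm.trans (sb E81087 D142762))).symm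
theorem E83720 : n142763 = n31315 := (((F101323).symm.trans (sb E81087 D142763))).symm
theorem E83721 : n116805 = n116475 := (((E83711).symm.trans ((D142764).symm.trans (sb E81088 (iv3 F182369))))).symm
theorem E83722 : n143823 = n142765 := (((D142765).symm.trans (sb E81088 D143823))).symm
theorem E83723 : n143825 = n142767 := (((D142767).symm.trans (sb E81088 D143825))).symm
theorem E83724 : n116394 = n31315 := ((E82140).symm.trans ((D139006).symm.trans (sb E81089 (iv1 D67361))))
theorem E83725 : n116797 = n116393 := (((E82139).symm.trans ((D139007).symm.trans (sb E81089 F182357)))).symm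
theorem F320484 : act 7 n65253 = n143813 := (sb E81089 F226465)
theorem E83731 : n143813 = n31171 := (((F102856).symm.trans (sb E81090 D143813))).symm
theorem E83736 : n143826 = n84436 := ((D143826).symm.trans (sb E81092 (iv1 D177211)))
theorem E83737 : n143827 = n84446 := ((D143827).symm.trans (sb E81092 F276605))
theorem F320485 : act 4 n118258 = n141067 := (sb E81093 F228703)
theorem F320486 : act 7 n118258 = n139799 := (sb E81093 F228702)
theorem F320487 : act 0 n68244 = n124832 := (sb E81094 (iv1 F241513))
theorem F320488 : act 1 n68244 = n124749 := (sb E81094 F241514)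
theorem F320489 : act 3 n68244 = n115805 := (sb E81094 (iv3 F316902))
theorem F320490 : act 7 n68244 = n72644 := (sb E81094 (iv7 D153623))
theorem F320491 : act 2 n140882 = n128032 := (sb E81095 F241502)
theorem F320492 : act 4 n140882 = n72644 := (sb E81095 F241503)
theorem F320493 : act 6 n140882 = n72643 := (sb E81095 (iv6 D153621))
theorem E83740 : n139672 = n33293 := (((D33293).symm.trans (sb E81097 (iv3 F222845)))).symm
theorem E83741 : n139674 = n33294 := (((D33294).symm.trans (sb E81097 (iv4 F222846)))).symm
theorem F320494 : act 6 n16079 = n30726 := (sb E81097 (iv6 D65561))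
theorem F320495 : act 3 n53467 = n71142 := (sb E81101 F237619)
theorem E83744 : n71140 = n30700 := (((F84368).symm.trans (sb E81101 (iv6 D150902)))).symm
theorem E83747 : n145557 = n72644 := ((D145557).symm.trans (sb E81105 (iv1 D153622)))
theorem E83748 : n145559 = n124832 := ((D145559).symm.trans (sb E81105 (iv2 F241506)))
theorem E83749 : n145561 = n124800 := ((D145561).symm.trans (sb E81105 (iv6 F241508)))
theorem E83750 : n145572 = n69293 := ((D145572).symm.trans (sb E81106 (iv6 D147900)))
theorem E83751 : n145574 = n69129 := ((D145574).symm.trans (sb E81107 (iv1 D147491)))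
theorem E83752 : n145575 = n69134 := ((D145575).symm.trans (sb E81107 F231279))
theorem E83753 : n145577 = n74737 := ((D145577).symm.trans (sb E81107 F314357))
theorem E83754 : n145558 = n31761 := ((D145558).symm.trans (sb E81108 (iv0 D68256)))
theorem F320496 : act 0 n58363 = n31761 := (sb E81109 (iv1 D68257))
theorem E83765 : n145609 = n118882 := ((D145609).symm.trans (sb E81110 (iv1 F233204)))
theorem E83766 : n145610 = n139754 := ((D145610).symm.trans (sb E81110 (tr F244613 E83314)))
theorem E83767 : n155590 = n145611 := (((D145611).symm.trans (sb E81110 F244611))).symm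
theorem E83768 : n145612 = n115959 := ((D145612).symm.trans (sb E81110 (tr (iv4 F278967) E81600)))
theorem E83769 : n145613 = n105754 := ((D145613).symm.trans (sb E81110 (tr (iv6 F200676) E82567)))
theorem F320497 : act 7 n68260 = n39449 := (sb E81110 (iv7 D85416))
theorem F320498 : act 0 n66141 = n70979 := (sb E81111 (iv1 F130666))
theorem E83772 : n141030 = n124500 := ((D141030).symm.trans (sb E81111 (iv6 F313779)))
theorem F320499 : act 7 n66141 = n39455 := (sb E81111 (iv7 D85437))
theorem F320500 : act 6 n58417 = n31763 := (sb E81112 (iv6 D68261))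
theorem F320501 : act 0 n58444 = n30921 := (sb E81113 (iv1 D66142))
theorem E83777 : n141032 = n125007 := (((D125007).symm.trans (sb E81113 D141032))).symm
theorem F320502 : act 7 n58444 = n116070 := (sb E81113 F180827)
theorem F320503 : act 0 n58621 = n31765 := (sb E81114 (iv1 D68265))
theorem F320504 : act 1 n58621 = n117090 := (sb E81114 F183113)
theorem F320505 : act 5 n85287 = n66840 := (sb E81116 (iv5 D142602))
theorem F320506 : act 6 n85287 = n117067 := (sb E81116 F225461)
theorem E83780 : n118961 = n48063 := ((D118961).symm.trans (sb E81117 F306957))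
theorem F320507 : act 6 n54746 = n117070 := (sb E81117 (iv6 F183096))
theorem E83782 : n114619 = n103081 := (((iv0 F178724)).symm.trans (sb E81118 F306951))
theorem E83783 : n144202 = n118964 := (((D118964).symm.trans (sb E81118 (iv5 F226898)))).symm
theorem F320508 : act 6 n54747 = n117016 := (sb E81118 (iv6 F182955))
theorem F320509 : act 7 n54747 = n31383 := (sb E81118 (iv7 D67553))
theorem E83785 : n139533 = n33013 := (((F86141).symm.trans (sb E81119 F222702))).symm
theorem E83794 : n77974 = n51468 := (((F163919).symm.trans (sb E81121 (iv5 D162313)))).symm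
theorem E83795 : n77976 = n24741 := (((F39583).symm.trans (sb E81122 D77976))).symm
theorem E83796 : n77977 = n30585 := ((((iv0 F49001)).symm.trans (sb E81122 D77977))).symm
theorem E83797 : n51813 = n17238 := (((iv4 F81823)).symm.trans (sb E81122 F56256))
theorem E83798 : n17237 = n11943 := ((((iv6 D25155)).symm.trans (sb E81122 (iv6 D35575)))).symm
theorem E83799 : n77975 = n29881 := ((((iv5 F48026)).symm.trans (sb E81123 (iv5 D162317)))).symm
theorem F320510 : act 3 n85990 = n62575 := (sb E81124 (iv3 D133327))
theorem E83800 : n179912 = n156035 := (((iv4 F280195)).symm.trans (sb E81124 (iv4 F245156)))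
theorem E83801 : n179954 = n126815 := ((D179954).symm.trans (sb E81124 F214329))
theorem F320511 : act 7 n85990 = n107628 := (sb E81124 F214330)
theorem E83805 : n152762 = n74238 := ((((iv2 F111104)).symm.trans (sb E81127 D152762))).symm
theorem F320512 : act 3 n64700 = n33282 := (sb E81127 (iv3 D72085))
theorem E83806 : n152763 = n137636 := (((D137636).symm.trans (sb E81127 D152763))).symm
theorem E83807 : n33299 = n30806 := (((F111233).symm.trans (sb E81127 F108543))).symm
theorem F320513 : act 3 n64135 = n118797 := (sb E81145 (iv3 F305898))
theorem F320514 : act 6 n129798 = n84873 := (sb E81157 (iv6 D178387))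
theorem F320515 : act 6 n39266 = n60962 := (sb E81159 (iv6 D129800))
theorem E83839 : n116399 = n74563 := ((D116399).symm.trans (sb E81162 (iv6 D156781)))
theorem E83840 : n116400 = n74564 := ((D116400).symm.trans (sb E81163 (iv6 D156782)))
theorem F320516 : act 6 n34193 = n25972 := (sb E81164 (iv6 D53654))
theorem E83845 : n116091 = n58370 := ((D116091).symm.trans (sb E81165 (iv6 D124844)))
theorem F320517 : act 6 n27787 = n31163 := (sb E81166 (iv6 D66894))
theorem E83852 : n142704 = n138994 := (((D138994).symm.trans (sb E81167 (iv3 F225616)))).symm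
theorem F320518 : act 6 n65246 = n31164 := (sb E81167 (iv6 D66900))
theorem E83859 : n142723 = n72730 := ((((iv6 F313641)).symm.trans (sb E81168 D142723))).symm
theorem E83869 : n139006 = n31315 := (E82140).trans E83724
theorem E83870 : n142744 = n139003 := ((((iv3 F222180)).symm.trans (sb E81174 (iv3 F225657)))).symm
theorem E83871 : n142750 = n139005 := ((((iv4 F222184)).symm.trans (sb E81174 (iv4 F225660)))).symm
theorem E83873 : n147896 = n115761 := (E81803).trans E83570
theorem F320519 : act 6 n32640 = n32269 := (sb E81176 (iv6 D69492))
theorem E83879 : n143679 = n66036 := ((D143679).symm.trans (sb E81177 (iv4 F180220)))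
theorem F320520 : act 0 n66085 = n116401 := (sb E81178 F204520)
theorem F320521 : act 1 n66085 = n52719 := (sb E81178 (iv0 F318233))
theorem F320522 : act 4 n75949 = n79706 := (sb E81179 (iv4 D166021))
theorem E83883 : n143008 = n31229 := ((F320286).symm.trans (sb E81180 (iv2 D67087)))
theorem E83891 : n116603 = n31229 := ((D116603).symm.trans (sb E81181 (iv3 D67088)))
theorem E83896 : n143185 = n76260 := ((D143185).symm.trans (sb E81182 F231767))
theorem F320523 : act 5 n32217 = n31229 := (sb E81183 (iv5 D67090))
theorem F320524 : act 6 n59815 = n31229 := (sb E81184 (iv6 D67091))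
theorem F320525 : act 7 n66473 = n31229 := (sb E81185 (iv7 D67092))
theorem F320526 : act 0 n66473 = n31210 := (sb E81186 (iv1 D67025))
theorem F320527 : act 1 n66473 = n31232 := (sb E81186 F103014)
theorem F320528 : act 3 n53561 = n69338 := (sb E81187 (iv3 D148045))
theorem F320529 : act 2 n66470 = n65656 := (sb E81188 F177257)
theorem E83912 : n141758 = n126719 := (((iv3 F224795)).symm.trans (sb E81188 (iv3 F203938)))
theorem F320530 : act 4 n66470 = n31418 := (sb E81188 (iv4 D67651))
theorem E83914 : n144369 = n141759 := (((D141759).symm.trans (sb E81188 D144369))).symm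
theorem F320531 : act 7 n66470 = n65661 := (sb E81188 F177252)
theorem F320532 : act 3 n64416 = n55041 := (sb E81189 (iv3 D119626))
theorem E83921 : n150867 = n108544 := (((D108544).symm.trans (sb E81194 D150867))).symm
theorem F320533 : act 3 n65163 = n32930 := (sb E81196 (iv3 D71117))
theorem E83927 : n150845 = n138776 := ((((iv5 F221914)).symm.trans (sb E81196 D150845))).symm
theorem E83928 : n117063 = n109672 := ((D117063).symm.trans (sb E81201 (iv1 F316636)))
theorem F320534 : act 3 n53948 = n32334 := (sb E81201 F106005)
theorem E83930 : n117897 = n117066 := (((D117066).symm.trans (sb E81201 (iv7 F184893)))).symm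
theorem E83931 : n144531 = n32015 := ((D144531).symm.trans (sb E81202 (iv1 D68830)))
theorem E83932 : n144532 = n65235 := ((D144532).symm.trans (sb E81202 F317758))
theorem E83933 : n144495 = n117317 := (((iv3 F227338)).symm.trans (sb E81202 (iv3 F247755)))
theorem E83934 : n146818 = n144533 := (((D144533).symm.trans (sb E81202 D146818))).symm
theorem E83935 : n144534 = n117231 := ((D144534).symm.trans (sb E81202 (iv7 F237513)))
theorem F320535 : act 2 n117064 = n65579 := (sb E81203 (iv2 D139723))
theorem E83936 : n121539 = n51447 := ((((iv3 F168242)).symm.trans (sb E81205 D121539))).symm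
theorem E83937 : n51760 = n27058 := (((iv4 F81727)).symm.trans (sb E81205 (iv4 D56129)))
theorem E83938 : n77395 = n11936 := ((((iv6 D25134)).symm.trans (sb E81205 F301957))).symm
theorem E83941 : n152815 = n115328 := ((((iv3 F179621)).symm.trans (sb E81210 (iv3 F240035)))).symm
theorem F320536 : act 1 n32653 = n31452 := (sb E81211 (iv0 D67738))
theorem F320537 : act 2 n115803 = n67289 := (sb E81213 F226330)
theorem F320538 : act 6 n115803 = n68244 := (sb E81213 F226331)
theorem E83944 : n152343 = n115311 := (((F179596).symm.trans (sb E81214 (iv2 F239538)))).symm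
theorem E83945 : n152843 = n139635 := (((D139635).symm.trans (sb E81214 (iv3 F240058)))).symm
theorem E83946 : n139636 = n33298 := ((D139636).symm.trans (sb E81214 (iv6 D72121)))
theorem F320539 : act 3 n66719 = n72048 := (sb E81233 (iv3 F200236))
theorem F320540 : act 5 n66719 = n39441 := (sb E81233 (iv5 D85379))
theorem E83953 : n143063 = n124817 := ((D143063).symm.trans (sb E81221 F233169))
theorem E83954 : n142734 = n72603 := (((iv2 F225636)).symm.trans (sb E81221 F190288))
theorem E83955 : n179941 = n105632 := ((((iv4 F162233)).symm.trans (sb E81221 F280258))).symm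
theorem F320541 : act 6 n27813 = n31234 := (sb E81224 (iv6 D67106))
theorem F320542 : act 5 n66224 = n70340 := (sb E81225 F200841)
theorem E83961 : n141178 = n85506 := ((D141178).symm.trans (sb E81225 F200842))
theorem E83962 : n143240 = n116506 := ((D143240).symm.trans (sb E81226 (tr (iv1 F278282) E83702)))
theorem F320543 : act 5 n67109 = n72601 := (sb E81226 (iv5 D153548))
theorem F320544 : act 5 n67120 = n54698 := (sb E81227 (iv5 D118829))
theorem F320545 : act 0 n66717 = n31246 := (sb E81228 (iv1 F103059))
theorem E83963 : n142297 = n31248 := ((D142297).symm.trans (sb E81228 F103057))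
theorem E83964 : n142301 = n31232 := ((D142301).symm.trans (sb E81228 (iv6 D67101)))
theorem E83965 : n142302 = n31233 := ((D142302).symm.trans (sb E81228 F103058))
theorem F320546 : act 0 n66719 = n31248 := (sb E81229 (iv1 F103061))
theorem F320547 : act 1 n66719 = n31233 := (sb E81229 (iv0 D67102))
theorem F320548 : act 7 n66719 = n143225 := (sb E81229 D143225)
theorem E83972 : n150510 = n137618 := (((D137618).symm.trans (sb E81230 (iv0 F236989)))).symm
theorem E83978 : n116655 = n31246 := ((D116655).symm.trans (sb E81232 (iv3 D67143)))
theorem E83983 : n143327 = n137619 := ((((iv4 F220771)).symm.trans (sb E81234 D143327))).symm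
theorem E83985 : n143225 = n31246 := ((F320548).symm.trans (sb E81234 (iv7 F103097)))
theorem F320549 : act 3 n65299 = n72096 := (sb E82319 (iv3 F318289))
theorem E83986 : n116654 = n31123 := (((iv2 F182015)).symm.trans (sb E81237 (iv2 D66742)))
theorem E83987 : n142324 = n116656 := (((D116656).symm.trans (sb E81237 (iv4 F225254)))).symm
theorem E83988 : n116617 = n31123 := ((F320430).symm.trans (sb E81238 (iv0 D66740)))
theorem F320550 : act 4 n56127 = n67662 := (sb E81242 (iv4 D144403))
theorem F320551 : act 4 n56051 = n67660 := (sb E81243 (iv4 D144396))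
theorem F320552 : act 2 n65299 = n71308 := (sb E81244 (iv2 F318301))
theorem F320553 : act 7 n65299 = n138741 := (sb E81244 F246412)
theorem E84018 : n72279 = n30328 := (((D30328).symm.trans (sb E81249 D72279))).symm
theorem E84032 : n142514 = n120679 := ((D142514).symm.trans (sb E81259 (iv1 F192383)))
theorem E84033 : n142515 = n35055 := ((D142515).symm.trans (sb E81259 (iv0 D76687)))
theorem E84034 : n155380 = n142508 := ((((iv3 F225406)).symm.trans (sb E81259 (iv3 F317625)))).symm
theorem E84037 : n142517 = n120678 := ((D142517).symm.trans (sb E81259 F237542))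
theorem E84040 : n142449 = n31146 := ((F319191).symm.trans (sb E81260 (iv2 D66829)))
theorem E84042 : n142554 = n74087 := ((((iv4 F110830)).symm.trans (sb E81260 D142554))).symm
theorem E84043 : n142555 = n54140 := ((((iv5 F85455)).symm.trans (sb E81260 D142555))).symm
theorem E84045 : n142454 = n31147 := ((F319192).symm.trans (sb E81260 (iv7 F102673)))
theorem E84046 : n142559 = n55237 := ((D142559).symm.trans (sb E81261 F184128))
theorem E84047 : n142560 = n54153 := ((D142560).symm.trans (sb E81261 (iv5 D117529)))
theorem E84048 : n142561 = n54650 := ((D142561).symm.trans (sb E81261 F184130))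
theorem E84049 : n142567 = n71287 := ((D142567).symm.trans (sb E81262 F184167))
theorem E84050 : n142569 = n54159 := (((D54159).symm.trans (sb E81263 D142569))).symm
theorem E84051 : n142570 = n54160 := (((D54160).symm.trans (sb E81263 D142570))).symm
theorem F320554 : act 5 n26205 = n31146 := (sb E81263 (iv5 D66832))
theorem E84054 : n142573 = n54162 := (((D54162).symm.trans (sb E81263 D142573))).symm
theorem F320555 : act 6 n32989 = n31146 := (sb E81264 (iv6 D66833))
theorem E84058 : n142562 = n141217 := (((F224240).symm.trans (sb E81265 (iv3 F225443)))).symm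
theorem E84059 : n142568 = n142455 := (((D142455).symm.trans (sb E81265 (iv4 F225447)))).symm
theorem E84060 : n142578 = n142457 := (((D142457).symm.trans (sb E81265 D142578))).symm
theorem F320556 : act 3 n34001 = n31147 := (sb E81266 (iv3 D66835))
theorem E84065 : n142583 = n69736 := ((((iv5 F106122)).symm.trans (sb E81266 D142583))).symm
theorem E84066 : n142584 = n55235 := ((((iv6 F87404)).symm.trans (sb E81266 D142584))).symm
theorem E84067 : n142589 = n54169 := ((D142589).symm.trans (sb E81268 F184041))
theorem E84068 : n142590 = n132647 := ((D142590).symm.trans (sb E81269 (iv1 F313663)))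
theorem E84069 : n142592 = n120140 := ((D142592).symm.trans (sb E81269 (iv5 F189772)))
theorem E84070 : n142593 = n55230 := ((D142593).symm.trans (sb E81269 (iv7 D120018)))
theorem E84073 : n177309 = n142735 := ((((iv2 F225639)).symm.trans (sb E81270 (iv2 F276685)))).symm
theorem E84075 : n142743 = n38956 := ((D142743).symm.trans (sb E81270 (iv5 D84472)))
theorem E84076 : n177206 = n142747 := (((D142747).symm.trans (sb E81271 (iv1 F276600)))).symm
theorem E84077 : n177208 = n142748 := (((D142748).symm.trans (sb E81271 (iv0 F276601)))).symm
theorem E84079 : n177287 = n142749 := (((D142749).symm.trans (sb E81271 (iv5 F276663)))).symm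
theorem F320557 : act 5 n18495 = n31171 := (sb E81272 (iv5 D66924))
theorem F320558 : act 0 n58366 = n31185 := (sb E81273 (iv1 F102886))
theorem F320559 : act 1 n58366 = n31174 := (sb E81273 (iv0 D66929))
theorem F320560 : act 2 n58366 = n142783 := (sb E81273 D142783)
theorem E84084 : n142785 = n124833 := (((D124833).symm.trans (sb E81273 D142785))).symm
theorem F320561 : act 7 n58366 = n142788 := (sb E81273 D142788)
theorem E84086 : n141911 = n116630 := ((F224955).symm.trans (sb E81274 (tr (iv3 F241435) E83679)))
theorem E84087 : n142790 = n81816 := ((D142790).symm.trans (sb E81274 F190857))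
theorem E84088 : n142791 = n72729 := ((D142791).symm.trans (sb E81274 F190860))
theorem E84089 : n142775 = n72708 := ((D142775).symm.trans (sb E81275 F240105))
theorem F320562 : act 5 n33305 = n31174 := (sb E81276 (iv5 D66931))
theorem F320563 : act 0 n33544 = n31183 := (sb E81277 (iv1 F102887))
theorem F320564 : act 1 n33544 = n31182 := (sb E81277 F102888)
theorem F320565 : act 2 n33544 = n31185 := (sb E81277 F102885)
theorem F320566 : act 7 n33544 = n31174 := (sb E81277 (iv7 D66932))
theorem E84091 : n142838 = n120689 := ((D142838).symm.trans (sb E81282 (iv1 F248287)))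
theorem E84092 : n142839 = n74998 := ((D142839).symm.trans (sb E81282 (iv0 D157553)))
theorem E84093 : n142840 = n81787 := ((D142840).symm.trans (sb E81282 F313091))
theorem E84094 : n142841 = n120688 := ((D142841).symm.trans (sb E81282 F248296))
theorem E84097 : n142783 = n31182 := ((F320560).symm.trans (sb E81283 (iv2 D66961)))
theorem E84098 : n142872 = n124817 := ((((iv3 F200488)).symm.trans (sb E81283 D142872))).symm
theorem E84099 : n142873 = n124833 := (((D124833).symm.trans (sb E81283 D142873))).symm
theorem E84101 : n142875 = n124831 := ((((iv6 F200494)).symm.trans (sb E81283 D142875))).symm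
theorem E84102 : n142788 = n31183 := ((F320561).symm.trans (sb E81283 (iv7 F102905)))
theorem E84103 : n142876 = n72062 := ((D142876).symm.trans (sb E81284 (iv1 D152723)))
theorem E84104 : n142877 = n116622 := ((D142877).symm.trans (sb E81284 (tr (iv0 F240810) E83677)))
theorem E84105 : n142878 = n116629 := ((D142878).symm.trans (sb E81284 (tr F241428 E83678)))
theorem E84106 : n142879 = n124744 := ((D142879).symm.trans (sb E81284 F240289))
theorem E84107 : n142881 = n116630 := ((D142881).symm.trans (sb E81284 (tr (iv7 F241432) E83679)))
theorem E84108 : n150536 = n142882 := (((D142882).symm.trans (sb E81285 F240128))).symm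
theorem F320567 : act 5 n58319 = n31182 := (sb E81286 (iv5 D66964))
theorem F320568 : act 5 n66965 = n124749 := (sb E81287 F240130)
theorem E84114 : n142887 = n142789 := (((D142789).symm.trans (sb E81288 (iv4 F225770)))).symm
theorem E84115 : n142897 = n72729 := (((E84088).symm.trans ((D142791).symm.trans (sb E81288 D142897)))).symm
theorem E84116 : n142898 = n72603 := ((D142898).symm.trans (sb E81289 (iv1 F241351)))
theorem E84117 : n142899 = n72608 := ((D142899).symm.trans (sb E81289 F241352))
theorem E84118 : n142902 = n124818 := ((D142902).symm.trans (sb E81289 F240131))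
theorem F320569 : act 5 n58367 = n31183 := (sb E81291 (iv5 D66969))
theorem E84121 : n142909 = n54538 := ((D142909).symm.trans (sb E81292 (iv1 D118432)))
theorem E84122 : n142910 = n72730 := ((D142910).symm.trans (sb E81292 F186231))
theorem E84123 : n142912 = n72728 := ((D142912).symm.trans (sb E81292 (iv7 F190871)))
theorem F320570 : act 0 n14747 = n31116 := (sb E81296 (iv1 D66718))
theorem E84146 : n143337 = n137617 := (((D137617).symm.trans (sb E81298 D143337))).symm
theorem E84147 : n143338 = n137618 := (((D137618).symm.trans (sb E81298 D143338))).symm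
theorem E84151 : n143342 = n116378 := ((((iv7 F181424)).symm.trans (sb E81298 D143342))).symm
theorem F320571 : act 2 n53643 = n31246 := (sb E81300 F103098)
theorem F320572 : act 2 n156952 = n85197 := (sb E81301 (iv2 D178785))
theorem F320573 : act 7 n156952 = n85198 := (sb E81301 (iv7 F278662))
theorem F320574 : act 3 n64427 = n85197 := (sb E81302 (iv3 D178786))
theorem F320575 : act 4 n107670 = n85197 := (sb E81303 (iv4 D178787))
theorem F320576 : act 5 n130558 = n85197 := (sb E81304 (iv5 D178788))
theorem F320577 : act 2 n137063 = n85198 := (sb E81305 F278663)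
theorem F320578 : act 7 n137063 = n85197 := (sb E81305 (iv7 D178790))
theorem F320579 : act 1 n74259 = n85200 := (sb E81306 (iv0 D178798))
theorem F320580 : act 0 n112965 = n85200 := (sb E81307 (iv1 D178799))
theorem F320581 : act 2 n112963 = n85200 := (sb E81308 F278666)
theorem F320582 : act 5 n112963 = n85199 := (sb E81308 (iv5 D178797))
theorem F320583 : act 4 n113066 = n85200 := (sb E81309 (iv4 D178800))
theorem F320584 : act 3 n74276 = n85203 := (sb E81310 (iv3 D178808))
theorem F320585 : act 4 n111225 = n85203 := (sb E81311 F274393)
theorem F320586 : act 5 n111225 = n83721 := (sb E81311 (iv5 D175319))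
theorem E84155 : n174368 = n50558 := ((((iv3 F79927)).symm.trans (sb E81312 (iv3 F273203)))).symm
theorem E84157 : n38399 = n11669 := (((F38639).symm.trans (sb E81312 (iv5 D83348)))).symm
theorem E84159 : n77598 = n34166 := (((F53711).symm.trans (sb E81313 F302577))).symm
theorem E84160 : n77597 = n25190 := ((((iv0 F39631)).symm.trans (sb E81313 F302578))).symm
theorem E84161 : n162081 = n50313 := ((((iv3 F163920)).symm.trans (sb E81313 (iv3 F256157)))).symm
theorem E84162 : n50663 = n35535 := (((iv4 F80017)).symm.trans (sb E81313 F119085))
theorem E84167 : n153057 = n115794 := ((((iv5 F180168)).symm.trans (sb E81315 D153057))).symm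
theorem F320587 : act 3 n53951 = n27809 := (sb E81318 (iv3 F318339))
theorem F320588 : act 5 n53951 = n116375 := (sb E81318 F181415)
theorem F320589 : act 0 n53956 = n66121 := (sb E81319 F223108)
theorem F320590 : act 6 n53956 = n65668 := (sb E81319 (iv6 D139885))
theorem F320591 : act 2 n68264 = n66121 := (sb E81320 F223984)
theorem E84183 : n112195 = n36580 := (((F116637).symm.trans (sb E81322 F224029))).symm
theorem F320592 : act 5 n142880 = n68243 := (sb E81324 (iv5 D145546))
theorem F320593 : act 2 n142880 = n68254 := (sb E81326 F228618)
theorem F320594 : act 7 n142880 = n68249 := (sb E81326 (iv7 D145573))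
theorem F320595 : act 2 n145542 = n68249 := (sb E81327 F228605)
theorem F320596 : act 7 n145542 = n68254 := (sb E81327 F228606)
theorem F320597 : act 2 n145543 = n68250 := (sb E81328 F228607)
theorem F320598 : act 3 n49637 = n33335 := (sb E81329 F107680)
theorem E84187 : n151022 = n107462 := ((((iv5 F165778)).symm.trans (sb E81329 D151022))).symm
theorem F320599 : act 3 n73382 = n53712 := (sb E81340 F181885)
theorem E84212 : n154740 = n142010 := ((D154740).symm.trans (sb E81340 (iv4 F225042)))
theorem F320600 : act 6 n73382 = n53709 := (sb E81340 (iv6 D116543))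
theorem F320601 : act 1 n72068 = n53731 := (sb E81341 F181901)
theorem F320602 : act 2 n72068 = n53734 := (sb E81341 F181897)
theorem F320603 : act 7 n72068 = n53712 := (sb E81341 (iv7 D116553))
theorem F320604 : act 2 n59698 = n62678 := (sb E81348 F97773)
theorem E84213 : n131021 = n127151 := (((D127151).symm.trans (sb E81348 D131021))).symm
theorem E84214 : n79603 = n62298 := ((E82700).symm.trans ((D127152).symm.trans (sb E81348 (iv5 F97141))))
theorem E84216 : n131019 = n125030 := ((((iv3 F200849)).symm.trans (sb E81349 D131019))).symm
theorem E84217 : n125033 = n62249 := ((D125033).symm.trans (sb E81349 F97053))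
theorem F320605 : act 7 n58456 = n62678 := (sb E81349 (iv7 F97771))
theorem F320606 : act 2 n85286 = n66839 := (sb E81350 (iv2 D142594))
theorem F320607 : act 7 n85286 = n66840 := (sb E81350 (iv7 F225459))
theorem E84219 : n142595 = n48904 := (((F103983).symm.trans (iv2 (sb E81351 (tr F238668 E82566))))).symm
theorem E84220 : n151760 = n48904 := (E81351).trans E84219
theorem E84221 : n105767 = n71536 := ((D105767).symm.trans (sb E84220 (iv6 D151760)))
theorem F320608 : act 5 n85248 = n66839 := (sb E81352 (iv5 D142597))
theorem F320609 : act 6 n79045 = n66839 := (sb E81353 (iv6 D142598))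
theorem F320610 : act 3 n85327 = n66840 := (sb E81354 (iv3 D142600))
theorem F320611 : act 3 n142603 = n71306 := (sb E81355 F238014)
theorem F320612 : act 5 n142603 = n71304 := (sb E81355 (iv5 D151304))
theorem F320613 : act 7 n142603 = n75938 := (sb E81355 F238015)
theorem F320614 : act 5 n117382 = n66792 := (sb E81356 (iv5 D142447))
theorem F320615 : act 6 n117382 = n66795 := (sb E81356 F225365)
theorem F320616 : act 6 n117383 = n66841 := (sb E81359 F225430)
theorem F320617 : act 4 n62985 = n85431 := (sb E81360 (iv4 D179057))
theorem E84222 : n107657 = n85432 := ((D107657).symm.trans (sb E81361 F279001))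
theorem F320618 : act 7 n49736 = n85431 := (sb E81361 (iv7 D179060))
theorem F320619 : act 3 n86015 = n62629 := (sb E81362 F214564)
theorem E84223 : n179991 = n62628 := ((D179991).symm.trans (sb E81362 (iv5 D133438)))
theorem E84224 : n130643 = n125201 := ((((iv7 F201292)).symm.trans (sb E81362 F214565))).symm
theorem F320620 : act 3 n53868 = n26343 := (sb E81364 (iv3 D54475))
theorem E84228 : n118280 = n116901 := (((D116901).symm.trans (sb E81364 D118280))).symm
theorem F320621 : act 3 n53436 = n26463 := (sb E81367 (iv3 D54720))
theorem E84242 : n118899 = n115904 := (((D115904).symm.trans (sb E81367 D118899))).symm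
theorem F320622 : act 5 n54726 = n53685 := (sb E81373 (iv5 D116484))
theorem F320623 : act 1 n68268 = n66121 := (sb E81382 (iv0 D140967))
theorem F320624 : act 3 n68302 = n145665 := (sb E81392 (iv3 F228711))
theorem F320625 : act 3 n131485 = n61764 := (sb E81393 F210862)
theorem E84255 : n61761 = n61705 := ((((iv6 D131485)).symm.trans (sb E81393 (iv6 D131632)))).symm
theorem F320626 : act 1 n67656 = n105854 := (sb E81394 (iv0 F162559))
theorem E84256 : n144383 = n68518 := (((iv2 F227149)).symm.trans (sb E81394 F131545))
theorem E84257 : n144384 = n84426 := ((D144384).symm.trans (sb E81394 (iv3 F311440)))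
theorem E84258 : n179641 = n144385 := (((D144385).symm.trans (sb E81394 (iv4 F279749)))).symm
theorem E84259 : n144386 = n54005 := ((D144386).symm.trans (sb E81394 F131503))
theorem E84260 : n144387 = n39618 := ((D144387).symm.trans (sb E81394 (iv6 D85781)))
theorem E84261 : n144378 = n70276 := ((F227148).symm.trans (sb E81394 F309224))
theorem F320627 : act 0 n67655 = n105854 := (sb E81395 F162560)
theorem E84262 : n155936 = n144379 := (((D144379).symm.trans (sb E81395 (iv3 F244925)))).symm
theorem E84263 : n144380 = n84622 := ((D144380).symm.trans (sb E81395 (iv4 F311375)))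
theorem E84264 : n144381 = n54348 := ((D144381).symm.trans (sb E81395 (iv5 F311065)))
theorem E84265 : n144382 = n34016 := ((D144382).symm.trans (sb E81395 (iv6 D74162)))
theorem F320628 : act 1 n113131 = n179112 := (sb E81396 F279062)
theorem F320629 : act 2 n113131 = n60429 := (sb E81396 (iv2 D128483))
theorem F320630 : act 3 n113131 = n86825 := (sb E81396 F206634)
theorem F320631 : act 6 n113131 = n60441 := (sb E81396 F206635)
theorem F320632 : act 7 n113131 = n179114 := (sb E81396 (iv7 F279064))
theorem F320633 : act 2 n108034 = n85534 := (sb E81397 F279150)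
theorem F320634 : act 4 n108034 = n85533 := (sb E81397 (iv4 D179230))
theorem F320635 : act 2 n115224 = n76046 := (sb E81398 (iv2 D159125))
theorem F320636 : act 4 n115224 = n84995 := (sb E81398 F315586)
theorem F320637 : act 5 n115224 = n85533 := (sb E81398 F250533)
theorem F320638 : act 6 n115224 = n84994 := (sb E81398 F315587)
theorem E84266 : n146981 = n107613 := (((F179436).symm.trans (sb E81398 F315588))).symm
theorem E84267 : n86069 = n75573 := (((D75573).symm.trans (sb E81401 D86069))).symm
theorem F320639 : act 3 n34571 = n18853 := (sb E81401 (iv3 D39842))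
theorem E84270 : n86064 = n75575 := (((D75575).symm.trans (sb E81401 (iv4 F132002)))).symm
theorem E84271 : n86073 = n75561 := ((((iv6 F113410)).symm.trans (sb E81401 D86073))).symm
theorem F320640 : act 7 n34571 = n58692 := (sb E81401 (iv7 F92727))
theorem E84273 : n162480 = n53716 := ((F318597).symm.trans (sb E81405 (iv6 D116560)))
theorem F320642 : act 5 n126978 = n86263 := (sb E81406 (iv5 D180596))
theorem F320643 : act 5 n55807 = n59597 := (sb E81407 (iv5 D126987))
theorem F320644 : act 3 n58458 = n53738 := (sb E81408 F181734)
theorem E84276 : n79694 = n59619 := (((D59619).symm.trans (sb E81412 (iv6 D165979)))).symm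
theorem E84277 : n127015 = n29881 := (E81413).trans E83799
theorem E84278 : n64039 = n63094 := ((((iv3 F163915)).symm.trans (sb E84277 F204260))).symm
theorem E84279 : n59606 = n30014 := ((((iv7 F48217)).symm.trans (sb E84277 (iv7 D127015)))).symm
theorem E84280 : n127019 = n29470 := (E81414).trans E81925
theorem E84281 : n62286 = n59619 := ((D62286).symm.trans (sb E84280 F204263))
theorem E84283 : n127006 = n59647 := (E81416).trans E83608
theorem E84284 : n105670 = n59604 := (((iv6 F162273)).symm.trans (sb E84283 (iv6 D127006)))
theorem E84285 : n150509 = n137952 := (((D137952).symm.trans (sb E81417 D150509))).symm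
theorem E84286 : n137906 = n127964 := (((iv2 F221162)).symm.trans (sb E81417 (iv2 F205932)))
theorem F320645 : act 3 n64833 = n32861 := (sb E81417 F107482)
theorem E84287 : n137618 = n30481 := (((F100675).symm.trans (sb E81417 (tr D150510 E83972)))).symm
theorem E84288 : n137953 = n32859 := ((D137953).symm.trans (sb E81417 (iv5 D70934)))
theorem E84289 : n137954 = n127966 := ((D137954).symm.trans (sb E81417 (iv7 F205936)))
theorem E84290 : n137942 = n38702 := ((((iv3 F316631)).symm.trans (sb E81422 (iv3 F221201)))).symm
theorem F320646 : act 0 n66671 = n59726 := (sb E82732 (iv1 F204463))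
theorem E84291 : n142212 = n127966 := ((D142212).symm.trans (sb E82732 (tr (iv3 F221217) E84289)))
theorem E84292 : n142215 = n59712 := ((D142215).symm.trans (sb E82732 (iv6 D127196)))
theorem F320647 : act 0 n127131 = n127692 := (sb E81425 F279760)
theorem F320648 : act 1 n127131 = n128382 := (sb E81425 F279761)
theorem F320649 : act 5 n127131 = n179643 := (sb E81425 (iv5 F279758))
theorem F320650 : act 7 n127131 = n128380 := (sb E81425 F244961)
theorem F320651 : act 0 n34022 = n59712 := (sb E81428 (iv1 F204396))
theorem F320652 : act 1 n34022 = n59691 := (sb E81428 (iv0 D127138))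
theorem F320653 : act 0 n60438 = n59691 := (sb E81429 (iv1 D127139))
theorem F320654 : act 1 n60438 = n59712 := (sb E81429 F204392)
theorem F320655 : act 2 n60436 = n59712 := (sb E81430 F204394)
theorem F320656 : act 7 n60436 = n59691 := (sb E81430 (iv7 D127141))
theorem F320657 : act 3 n59547 = n62678 := (sb E81432 (iv3 D133561))
theorem E84293 : n129954 = n126885 := (((D126885).symm.trans (sb E81432 F214840))).symm
theorem F320658 : act 3 n58459 = n66224 := (sb E81433 F181739)
theorem E84296 : n163379 = n62544 := ((((iv3 F97508)).symm.trans (sb E81437 D163379))).symm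
theorem F320659 : act 5 n29561 = n36058 := (sb E81437 F297606)
theorem F320660 : act 2 n74073 = n83565 := (sb E81438 F273846)
theorem F320661 : act 4 n55235 = n83565 := (sb E81439 (iv4 D174969))
theorem F320662 : act 6 n74097 = n83565 := (sb E81440 (iv6 D174970))
theorem F320663 : act 7 n55232 = n83565 := (sb E81441 (iv7 F273844))
theorem E84297 : n162053 = n16436 := (((F25917).symm.trans (sb E81445 F273845))).symm
theorem F320664 : act 4 n74167 = n80222 := (sb E81446 (iv4 D167106))
theorem F320665 : act 5 n79592 = n59702 := (sb E81447 (iv5 D127166))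
theorem F320666 : act 0 n120058 = n135460 := (sb E81448 (iv1 F217795))
theorem F320667 : act 1 n120058 = n63288 := (sb E81448 F216709)
theorem F320668 : act 4 n120058 = n61414 := (sb E81448 F209488)
theorem F320669 : act 6 n120058 = n61413 := (sb E81448 (iv6 D130903))
theorem F320670 : act 7 n120058 = n135458 := (sb E81448 (iv7 F217787))
theorem F320671 : act 0 n129584 = n126656 := (sb E81449 F227510)
theorem F320672 : act 1 n129584 = n126972 := (sb E81449 F227511)
theorem F320673 : act 2 n129584 = n126970 := (sb E81449 F227508)
theorem F320674 : act 5 n129584 = n67795 := (sb E81449 (iv5 D144684))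
theorem E84299 : n130893 = n126969 := (((iv7 F209477)).symm.trans (sb E81449 F227509))
theorem F320675 : act 4 n62573 = n74114 := (sb E81450 (iv4 D155799))
theorem F320676 : act 0 n63670 = n74114 := (sb E81451 (iv1 D155798))
theorem E84300 : n150564 = n135459 := (((D135459).symm.trans (sb E81451 (iv5 F244804)))).symm
theorem F320677 : act 5 n120011 = n77468 := (sb E81453 (iv5 D161377))
theorem F320678 : act 3 n119313 = n70972 := (sb E81454 (iv3 D150565))
theorem F320679 : act 6 n119313 = n85309 := (sb E81454 F237084)
theorem F320680 : act 5 n35471 = n70972 := (sb E81456 (iv5 D150566))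
theorem F320681 : act 0 n119562 = n70975 := (sb E81458 F189462)
theorem F320682 : act 1 n119562 = n55257 := (sb E81458 F189491)
theorem F320683 : act 2 n119562 = n70971 := (sb E81458 (iv2 F189474))
theorem F320684 : act 4 n119562 = n55226 := (sb E81458 (iv4 D120008))
theorem F320685 : act 7 n119562 = n70972 := (sb E81458 F189461)
theorem F320686 : act 5 n150562 = n77704 := (sb E81459 (iv5 D161779))
theorem F320687 : act 5 n35470 = n70971 := (sb E81461 (iv5 D150563))
theorem F320688 : act 1 n45946 = n86095 := (sb E81463 (iv0 D180211))
theorem F320689 : act 0 n82584 = n86095 := (sb E81464 (iv1 D180212))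
theorem F320690 : act 2 n54864 = n86095 := (sb E81465 F280543)
theorem E84301 : n119221 = n86093 := ((D119221).symm.trans (sb E81465 (iv5 D180205)))
theorem F320691 : act 4 n170161 = n86095 := (sb E81466 (iv4 D180213))
theorem F320692 : act 6 n45875 = n86095 := (sb E81467 (iv6 D180214))
theorem E84302 : n172357 = n165634 := (((iv1 F270589)).symm.trans (sb E81472 (iv1 F305503)))
theorem E84303 : n172356 = n165633 := ((F270592).symm.trans (sb E81472 (iv0 F305502)))
theorem F320693 : act 2 n82542 = n81828 := (sb E81472 (iv2 D170693))
theorem E84304 : n172369 = n165647 := (((iv3 F270598)).symm.trans (sb E81472 (iv3 F306733)))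
theorem E84305 : n172374 = n124473 := ((D172374).symm.trans (sb E81472 F268198))
theorem E84306 : n172154 = n165635 := (((iv7 F314496)).symm.trans (sb E81472 (iv7 F305506)))
theorem F320694 : act 5 n79557 = n37892 := (sb E81473 (iv5 D82537))
theorem F320695 : act 3 n113171 = n120924 := (sb E81476 (iv3 F303780))
theorem F320696 : act 3 n34804 = n59223 := (sb E81477 F170166)
theorem E84309 : n50754 = n17590 := (((F55008).symm.trans (sb E81477 F170167))).symm
theorem E84310 : n112421 = n26878 := (((F299298).symm.trans (sb E81477 (iv6 F174910)))).symm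
theorem E84313 : n161455 = n59218 := ((((iv2 F93420)).symm.trans (sb E81478 D161455))).symm
theorem E84314 : n35390 = n13427 := (((F45440).symm.trans (sb E81478 (iv3 D77512)))).symm
theorem E84316 : n35396 = n28050 := (((F45442).symm.trans (sb E81478 F116385))).symm
theorem E84317 : n125973 = n120739 := (((D120739).symm.trans (sb E81479 F202653))).symm
theorem E84318 : n120740 = n112264 := ((D120740).symm.trans (sb E81479 (iv0 F174615)))
theorem E84319 : n125999 = n120741 := (((D120741).symm.trans (sb E81479 (iv2 F202682)))).symm
theorem E84320 : n126015 = n28837 := ((((iv5 F320259)).symm.trans (sb E81479 (iv5 F202710)))).symm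
theorem F320697 : act 6 n55661 = n59223 := (sb E81479 (iv6 F93430))
theorem E84321 : n79585 = n28047 := (((iv7 F122235)).symm.trans (sb E81479 (iv7 D59021)))
theorem F320698 : act 5 n113171 = n75866 := (sb E81480 (iv5 D158947))
theorem F320699 : act 5 n109748 = n54938 := (sb E81481 (iv5 D119380))
theorem F320700 : act 5 n126325 = n84913 := (sb E81482 (iv5 D178451))
theorem F320701 : act 5 n39285 = n59220 := (sb E81484 (iv5 D126326))
theorem F320703 : act 5 n126327 = n82889 := (sb E81487 (iv5 D173215))
theorem F320704 : act 5 n39286 = n59221 := (sb E81489 (iv5 D126328))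
theorem F320705 : act 5 n132074 = n75478 := (sb E81492 (iv5 D158311))
theorem F320706 : act 6 n132074 = n174404 := (sb E81492 (iv6 F273277))
theorem F320707 : act 2 n132690 = n174404 := (sb E81494 (iv2 F273276))
theorem F320708 : act 5 n132690 = n82718 := (sb E81494 (iv5 D172765))
theorem F320709 : act 5 n84907 = n62272 := (sb E81495 (iv5 D132694))
theorem E84322 : n62211 = n28892 := (((F96878).symm.trans (sb E81496 (iv5 D132592)))).symm
theorem E84325 : n129865 = n62268 := (((D62268).symm.trans (sb E81497 (iv3 F208214)))).symm
theorem E84326 : n129870 = n59395 := (((F93725).symm.trans (sb E81497 (iv4 F208219)))).symm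
theorem E84327 : n62269 = n28919 := ((D62269).symm.trans (sb E81497 (iv6 D61004)))
theorem F320710 : act 1 n53636 = n26002 := (sb E81499 (iv0 D53747))
theorem F320711 : act 0 n53643 = n31233 := (sb E81501 (iv1 D67103))
theorem F320712 : act 1 n53643 = n31248 := (sb E81501 F103062)
theorem E84341 : n129880 = n80255 := ((D129880).symm.trans (sb E81502 (iv5 D167172)))
theorem F320713 : act 5 n83198 = n62206 := (sb E81503 (iv5 D132584))
theorem F320714 : act 5 n78416 = n59435 := (sb E81515 (iv5 D126681))
theorem E84355 : n120972 = n64900 := (((iv6 F302559)).symm.trans (sb E81515 F203855))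
theorem F320715 : act 5 n55225 = n62460 := (sb E81521 (iv5 D133131))
theorem E84360 : n142678 = n116621 := (((D116621).symm.trans (sb E81522 (iv5 F225566)))).symm
theorem F320716 : act 4 n119196 = n60876 := (sb E81523 (iv4 D129589))
theorem E84361 : n161610 = n51822 := ((((iv2 F317189)).symm.trans (sb E81524 (iv2 F304618)))).symm
theorem F320717 : act 6 n60955 = n79706 := (sb E81528 F261409)
theorem E84364 : n121486 = n79778 := ((D121486).symm.trans (sb E81529 (iv6 D166146)))
theorem E84365 : n161675 = n86247 := ((D161675).symm.trans (sb E81530 (iv6 D180581)))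
theorem E84366 : n129918 = n78529 := (((D78529).symm.trans (sb E81531 (iv3 F208281)))).symm
theorem E84368 : n56174 = n28928 := (((iv5 F299305)).symm.trans (sb E81531 F95563))
theorem E84369 : n51947 = n36292 := (((iv1 F82038)).symm.trans (sb E81532 F299815))
theorem E84370 : n86860 = n24813 := ((((iv0 D51014)).symm.trans (sb E81532 (iv0 F133231)))).symm
theorem F320718 : act 2 n51014 = n36398 := (sb E81532 F88966)
theorem E84371 : n121716 = n110630 := (((D110630).symm.trans (sb E81532 (iv3 F194268)))).symm
theorem E84372 : n110631 = n27745 := ((D110631).symm.trans (sb E81532 F88967))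
theorem F320719 : act 5 n51014 = n75140 := (sb E81532 F316335)
theorem E84373 : n110633 = n27102 := ((D110633).symm.trans (sb E81532 (iv6 D56247)))
theorem E84374 : n163872 = n137314 := ((D163872).symm.trans (sb E81533 (iv2 F220473)))
theorem F320720 : act 5 n78719 = n59535 := (sb E81533 (iv5 D126867))
theorem F320721 : act 0 n52295 = n79875 := (sb E81534 (iv1 D166350))
theorem F320722 : act 2 n69177 = n79875 := (sb E81535 F261933)
theorem E84375 : n147600 = n79873 := ((D147600).symm.trans (sb E81535 (iv6 D166344)))
theorem F320723 : act 3 n110607 = n78510 := (sb E81536 F257665)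
theorem F320724 : act 4 n110607 = n124246 := (sb E81536 F301305)
theorem F320725 : act 6 n110607 = n78508 := (sb E81536 (iv6 D163375))
theorem E84376 : n50480 = n39053 := (((F67526).symm.trans (sb E81537 (iv1 D109417)))).symm
theorem E84377 : n111904 = n27643 := ((((iv3 F297625)).symm.trans (sb E81537 (iv3 F173867)))).symm
theorem E84379 : n50474 = n39803 := ((((iv3 F60629)).symm.trans (sb E81538 (iv3 D109394)))).symm
theorem F320726 : act 1 n11968 = n17570 := (sb E81539 (iv0 F56448))
theorem E84381 : n35340 = n5640 := ((((iv3 D11968)).symm.trans (sb E81539 (iv3 F299014)))).symm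
theorem E84382 : n36246 = n11948 := (((F19752).symm.trans (sb E81539 F297200))).symm
theorem E84383 : n25221 = n17334 := ((D25221).symm.trans (sb E81539 (iv6 D35777)))
theorem F320727 : act 0 n24823 = n17570 := (sb E81540 F53257)
theorem E84384 : n51038 = n16393 := ((D51038).symm.trans (sb E81540 (iv6 D33912)))
theorem E84385 : n112627 = n44507 := (((F296830).symm.trans (sb E81541 D112627))).symm
theorem E84386 : n79870 = n51875 := ((D79870).symm.trans (sb E81541 F175239))
theorem E84388 : n112629 = n79867 := ((((iv4 F122616)).symm.trans (sb E81541 D112629))).symm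
theorem F320728 : act 3 n69192 = n55757 := (sb E81543 (iv3 D120904))
theorem E84389 : n186088 = n127546 := ((((iv4 F205013)).symm.trans (sb E81543 (iv4 F288763)))).symm
theorem E84390 : n147646 = n79890 := ((D147646).symm.trans (sb E81543 F305017))
theorem E84391 : n110120 = n78109 := (((F297225).symm.trans (sb E81544 (iv1 F170256)))).symm
theorem E84392 : n110203 = n22954 := ((((iv0 D47686)).symm.trans (sb E81544 (iv0 F170376)))).symm
theorem E84393 : n110208 = n89645 := (((F137430).symm.trans (sb E81544 F171305))).symm
theorem F320729 : act 3 n47686 = n25218 := (sb E81544 (iv3 D51970))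
theorem E84394 : n102820 = n50541 := ((D102820).symm.trans (sb E81544 F82081))
theorem E84395 : n55852 = n50960 := ((F297226).symm.trans (sb E81544 F105476))
theorem E84397 : n50963 = n12892 := ((D50963).symm.trans (sb E81545 (iv6 D26945)))
theorem F320730 : act 6 n26911 = n25218 := (sb E81546 (iv6 D51973))
theorem E84401 : n177466 = n125766 := ((((iv1 F202285)).symm.trans (sb E81547 D177466))).symm
theorem E84402 : n163926 = n110008 := ((((iv0 F170141)).symm.trans (sb E81547 (iv0 F296338)))).symm
theorem E84403 : n166618 = n28061 := (((F93234).symm.trans (sb E81547 (iv2 F297581)))).symm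
theorem E84405 : n126024 = n38998 := ((D126024).symm.trans (sb E81547 (iv6 D84548)))
theorem F320731 : act 6 n84542 = n52262 := (sb E81548 (iv6 D113221))
theorem F320732 : act 1 n113374 = n78755 := (sb E81549 (iv0 D163927))
theorem F320733 : act 0 n59164 = n78755 := (sb E81550 (iv1 D163928))
theorem F320734 : act 2 n69212 = n78755 := (sb E81551 (iv2 D163929))
theorem E84406 : n78752 = n59287 := ((((iv3 D126377)).symm.trans (sb E81552 (iv3 D163921)))).symm
theorem F320735 : act 4 n126377 = n78755 := (sb E81552 F258352)
theorem E84407 : n17244 = n5428 := (((iv3 F28196)).symm.trans (sb E81553 (iv3 D11694)))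
theorem E84409 : n110068 = n36415 := (((F255036).symm.trans (sb E81554 D110068))).symm
theorem E84410 : n78275 = n24718 := (((iv0 F255037)).symm.trans (sb E81554 F170036))
theorem E84411 : n110069 = n78537 := ((((iv2 F255038)).symm.trans (sb E81554 D110069))).symm
theorem E84412 : n78753 = n50741 := ((D78753).symm.trans (sb E81554 F81313))
theorem E84414 : n35262 = n11692 := ((((iv1 D24699)).symm.trans (sb E81555 F61319))).symm
theorem E84415 : n26929 = n25169 := (((F39612).symm.trans (sb E81555 (iv0 F297191)))).symm
theorem E84416 : n78758 = n50742 := (((D50742).symm.trans (sb E81555 D78758))).symm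
theorem F320736 : act 5 n24699 = n17363 := (sb E81555 (iv5 D35857))
theorem E84420 : n110077 = n78638 := (((F119880).symm.trans (sb E81556 D110077))).symm
theorem E84421 : n78741 = n51701 := (((F94319).symm.trans (sb E81560 (iv3 D163906)))).symm
theorem F320737 : act 3 n59876 = n75948 := (sb E81561 F250364)
theorem E84422 : n127481 = n75947 := ((D127481).symm.trans (sb E81561 (iv6 D159030)))
theorem F320738 : act 3 n69214 = n78746 := (sb E81562 F258342)
theorem E84423 : n147699 = n85317 := ((D147699).symm.trans (sb E81562 F318537))
theorem E84424 : n163920 = n147700 := (((D147700).symm.trans (sb E81562 (iv7 F258351)))).symm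
theorem E84425 : n77204 = n50846 := (((iv1 F254939)).symm.trans (sb E81563 (iv1 F170056)))
theorem E84426 : n51896 = n36440 := ((((iv0 F254940)).symm.trans (sb E81563 (iv0 F170438)))).symm
theorem E84427 : n77202 = n51894 := (((iv2 F254936)).symm.trans (sb E81563 (iv2 F105372)))
theorem E84428 : n78742 = n50736 := ((D78742).symm.trans (sb E81563 F81310))
theorem E84429 : n110059 = n78743 := (((D78743).symm.trans (sb E81563 D110059))).symm
theorem E84430 : n78748 = n50737 := (((D50737).symm.trans (sb E81564 D78748))).symm
theorem F320739 : act 5 n24698 = n17362 := (sb E81564 (iv5 D35852))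
theorem E84431 : n78147 = n50739 := (((D50739).symm.trans (sb E81564 F119323))).symm
theorem E84432 : n50763 = n25167 := (E81565).trans E82484
theorem E84435 : n78743 = n51844 := (((D51844).symm.trans (sb E84432 (tr (iv3 F170181) E84429)))).symm
theorem E84436 : n110066 = n25158 := ((((iv5 F81881)).symm.trans (sb E84432 D110066))).symm
theorem E84439 : n51507 = n35139 := ((((iv1 F254948)).symm.trans (sb E81567 (iv1 F173261)))).symm
theorem E84440 : n57936 = n51502 := (((iv0 F254949)).symm.trans (sb E81567 (iv0 D111685)))
theorem E84441 : n57935 = n51793 := (((iv2 F254968)).symm.trans (sb E81567 (iv2 F173258)))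
theorem E84442 : n110255 = n86244 := (((D86244).symm.trans (sb E81567 F173257))).symm
theorem E84443 : n59049 = n39897 := (((F299536).symm.trans (sb E81567 F173256))).symm
theorem F320740 : act 1 n39914 = n25161 := (sb E81568 (iv0 D51832))
theorem E84447 : n111686 = n34803 := (((F60727).symm.trans (sb E81569 F173266))).symm
theorem E84448 : n76965 = n28153 := ((F115682).symm.trans (sb E81569 (iv0 D59303)))
theorem E84449 : n78724 = n51855 := (((iv4 F119862)).symm.trans (sb E81569 F93527))
theorem E84451 : n38370 = n24658 := ((((iv1 F39561)).symm.trans (sb E81570 (iv1 F59902)))).symm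
theorem E84452 : n18471 = n11941 := ((((iv0 D25145)).symm.trans (sb E81570 (iv0 D38871)))).symm
theorem E84453 : n75296 = n24657 := ((((iv2 F169998)).symm.trans (sb E81570 (iv2 F255018)))).symm
theorem F320741 : act 3 n25145 = n18877 := (sb E81570 (iv3 F255003))
theorem E84454 : n84292 = n51790 := (((D51790).symm.trans (sb E81570 D84292))).symm
theorem E84455 : n84293 = n25118 := (((F81766).symm.trans (sb E81570 D84293))).symm
theorem E84456 : n84294 = n51791 := (((D51791).symm.trans (sb E81570 D84294))).symm
theorem F320742 : act 0 n39909 = n25161 := (sb E81571 (iv1 D51833))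
theorem E84460 : n86240 = n51856 := ((D86240).symm.trans (sb E81572 F81893))
theorem E84461 : n112147 = n39846 := (((F60722).symm.trans (sb E81572 D112147))).symm
theorem E84463 : n177470 = n28016 := ((((iv4 F45278)).symm.trans (sb E81574 D177470))).symm
theorem E84464 : n91670 = n6381 := (((F22254).symm.trans (sb E81574 (iv5 F296407)))).symm
theorem E84465 : n86067 = n28076 := (((D28076).symm.trans (sb E81574 (iv6 F201670)))).symm
theorem E84468 : n91671 = n28071 := (((D28071).symm.trans (sb E81575 (iv5 F296409)))).symm
theorem E84469 : n96430 = n28062 := (((D28062).symm.trans (sb E81576 (iv5 F148465)))).symm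
theorem E84470 : n38906 = n28063 := (((D28063).symm.trans (sb E81576 (iv6 D84372)))).symm
theorem E84471 : n96429 = n24779 := (((iv1 F148458)).symm.trans (sb E81577 (iv1 D50955)))
theorem E84472 : n38979 = n31791 := (((iv0 F76355)).symm.trans (sb E81577 F80400))
theorem E84473 : n110505 = n104974 := ((((iv4 F160854)).symm.trans (sb E81577 D110505))).symm
theorem F320743 : act 5 n48517 = n28059 := (sb E81577 F170329)
theorem E84474 : n110506 = n27726 := (((F76354).symm.trans (sb E81577 D110506))).symm
theorem E84477 : n126027 = n8697 := (((F29686).symm.trans (sb E81578 D126027))).symm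
theorem F320744 : act 6 n18506 = n28059 := (sb E81578 (iv6 D59047))
theorem E84480 : n52044 = n35844 := ((((iv4 F88492)).symm.trans (sb E81579 (iv4 F173347)))).symm
theorem E84481 : n38352 = n25067 := (((iv3 F117686)).symm.trans (sb E81580 (iv3 D51604)))
theorem E84482 : n52045 = n35843 := (((F56506).symm.trans (sb E81580 F82257))).symm
theorem E84486 : n163680 = n51705 := ((((iv2 F81644)).symm.trans (sb E81581 (iv2 F258007)))).symm
theorem F320745 : act 3 n28137 = n35848 := (sb E81581 F119857)
theorem E84487 : n163862 = n51692 := ((((iv4 F81613)).symm.trans (sb E81581 D163862))).symm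
theorem E84488 : n35842 = n13429 := ((((iv5 D28137)).symm.trans (sb E81581 (iv5 D78716)))).symm
theorem F320746 : act 6 n28137 = n36405 := (sb E81581 F119858)
theorem F320747 : act 7 n17361 = n25161 := (sb E81582 (iv7 F39597))
theorem E84490 : n144338 = n78451 := ((D144338).symm.trans (sb E81583 F317754))
theorem E84491 : n144339 = n112761 := ((D144339).symm.trans (sb E81583 (tr F317755 E82548)))
theorem E84492 : n144340 = n85560 := ((D144340).symm.trans (sb E81583 F317756))
theorem F320748 : act 7 n67628 = n127755 := (sb E81583 F317757)
theorem E84493 : n140968 = n35327 := ((((iv0 F116638)).symm.trans (iv0 (sb E81586 (tr (iv1 F224025) E84183))))).symm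
theorem F320749 : act 6 n116028 = n66051 := (sb E81588 (iv6 D140762))
theorem F320750 : act 0 n116060 = n64501 := (sb E81589 F227113)
theorem F320751 : act 6 n116060 = n64325 := (sb E81589 (iv6 D136823))
theorem F320752 : act 0 n140927 = n68253 := (sb E81590 (iv1 F228615))
theorem F320753 : act 1 n140927 = n68248 := (sb E81590 (iv0 D145563))
theorem E84496 : n144367 = n32875 := (((D32875).symm.trans (sb E81593 (iv3 F227125)))).symm
theorem E84497 : n141759 = n32876 := (((D32876).symm.trans (sb E81593 (tr (iv4 F227130) E83914)))).symm
theorem F320754 : act 6 n15831 = n31418 := (sb E81593 (iv6 D67653))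
theorem F320755 : act 0 n115954 = n150906 := (sb E81599 (iv1 F278965))
theorem F320756 : act 1 n115954 = n85412 := (sb E81599 (iv0 D179033))
theorem F320757 : act 7 n115954 = n150893 := (sb E81599 F278962)
theorem F320758 : act 0 n115959 = n150893 := (sb E81600 (iv1 F278968))
theorem F320759 : act 2 n115959 = n150906 := (sb E81600 F278966)
theorem F320760 : act 7 n115959 = n85412 := (sb E81600 (iv7 D179035))
theorem F320761 : act 1 n115960 = n150893 := (sb E81601 F315848)
theorem F320762 : act 2 n115960 = n85412 := (sb E81601 F315849)
theorem F320763 : act 4 n115960 = n85376 := (sb E81601 F315850)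
theorem F320764 : act 6 n115960 = n64965 := (sb E81601 (iv6 D138307))
theorem F320765 : act 7 n115960 = n150906 := (sb E81601 F315851)
theorem F320766 : act 0 n86798 = n53489 := (sb E81602 (iv1 D116059))
theorem F320767 : act 7 n116072 = n150584 := (sb E81604 F279005)
theorem F320768 : act 6 n140571 = n73356 := (sb E81606 (iv6 D154684))
theorem F320769 : act 3 n140822 = n127971 := (sb E81607 F241611)
theorem F320770 : act 4 n140822 = n72740 := (sb E81607 F241612)
theorem F320771 : act 6 n140822 = n72738 := (sb E81607 (iv6 D153746))
theorem F320772 : act 6 n54506 = n66071 := (sb E81608 F180342)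
theorem F320773 : act 3 n54507 = n53392 := (sb E81609 F180149)
theorem F320774 : act 6 n54507 = n65978 := (sb E81609 F180151)
theorem F320775 : act 2 n140927 = n72740 := (sb E81610 F241267)
theorem F320776 : act 6 n140927 = n72579 := (sb E81610 (iv6 D153514))
theorem E84500 : n144196 = n114620 := ((((iv3 F178727)).symm.trans (sb E81611 (iv3 F226896)))).symm
theorem E84501 : n156520 = n146646 := (((D146646).symm.trans (sb E81615 (iv1 F246120)))).symm
theorem E84502 : n141555 = n117413 := ((((iv2 F183897)).symm.trans (sb E81615 (tr (iv2 F318062) E81765)))).symm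
theorem E84503 : n150912 = n146648 := (((D146648).symm.trans (sb E81615 (iv6 F313386)))).symm
theorem E84504 : n144882 = n64995 := (((iv7 F227842)).symm.trans (sb E81615 (iv7 D138369)))
theorem F320778 : act 0 n74431 = n48919 := (sb E81616 (iv1 D105813))
theorem E84505 : n156518 = n146484 := (((iv4 F246119)).symm.trans (sb E81616 (iv4 F229810)))
theorem F320779 : act 5 n74431 = n68474 := (sb E81616 F162519)
theorem E84506 : n150916 = n117413 := (E81765).trans E84502
theorem F320780 : act 3 n31669 = n48919 := (sb E81617 F162515)
theorem F320781 : act 6 n137949 = n73502 := (sb E81619 (iv6 D154957))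
theorem F320782 : act 6 n70282 = n64832 := (sb E81620 (iv6 D137950))
theorem E84510 : n113672 = n62676 := ((F176988).symm.trans (sb E81623 F214835))
theorem E84512 : n127160 = n28878 := (((F47604).symm.trans (sb E81624 D127160))).symm
theorem E84513 : n127161 = n14077 := (((F47601).symm.trans (sb E81624 D127161))).symm
theorem F320783 : act 5 n29635 = n28329 := (sb E81624 (iv5 D59701))
theorem F320784 : act 6 n129805 = n75930 := (sb E81628 (iv6 D159005))
theorem F320785 : act 6 n34701 = n60971 := (sb E81630 (iv6 D129808))
theorem F320786 : act 0 n65667 = n60879 := (sb E81804 (iv1 F181174))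
theorem F320787 : act 2 n65667 = n66485 := (sb E81804 (iv2 F181175))
theorem F320788 : act 7 n65667 = n66486 := (sb E81804 (iv7 F181176))
theorem F320789 : act 2 n117906 = n67720 := (sb E81633 F222677)
theorem F320790 : act 4 n117906 = n65463 := (sb E81633 F222678)
theorem F320791 : act 6 n117906 = n65461 := (sb E81633 (iv6 D139488))
theorem F320792 : act 2 n66480 = n65661 := (sb E81634 F177253)
theorem E84515 : n136899 = n101646 := ((((iv3 F312971)).symm.trans (sb E81634 F220077))).symm
theorem F320793 : act 4 n66480 = n31417 := (sb E81634 (iv4 D67646))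
theorem F320794 : act 7 n66480 = n65656 := (sb E81634 (iv7 F177256))
theorem E84516 : n150592 = n126719 := (((E83912).symm.trans (((iv3 F224795)).symm.trans (sb E81635 (iv3 F237112))))).symm
theorem E84517 : n144538 = n129239 := ((((iv3 F207450)).symm.trans (sb E81637 D144538))).symm
theorem F320795 : act 4 n60753 = n31452 := (sb E81637 (iv4 D67741))
theorem E84518 : n174943 = n85312 := (((iv1 F273835)).symm.trans (sb E81638 F278795))
theorem E84519 : n179603 = n167098 := ((((iv7 F307721)).symm.trans (sb E81638 F279710))).symm
theorem E84520 : n126977 = n60873 := ((D126977).symm.trans (sb E81639 F207761))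
theorem E84521 : n126979 = n60872 := ((D126979).symm.trans (sb E81639 (iv7 D129580)))
theorem F320796 : act 5 n28876 = n28284 := (sb E81640 (iv5 D59596))
theorem F320797 : act 0 n28875 = n28286 := (sb E81642 F181467)
theorem F320798 : act 1 n28875 = n28288 := (sb E81642 F181468)
theorem F320799 : act 7 n28875 = n28284 := (sb E81642 (iv7 D59598))
theorem F320800 : act 1 n66828 = n65567 := (sb E81643 (iv0 D139687))
theorem F320801 : act 0 n66792 = n65567 := (sb E81644 (iv1 D139688))
theorem F320802 : act 5 n54152 = n66361 := (sb E81645 (iv5 D141447))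
theorem F320803 : act 3 n105817 = n58134 := (sb E81647 (iv3 D124555))
theorem F320804 : act 5 n105817 = n62847 := (sb E81647 F309515)
theorem F320805 : act 5 n55001 = n48920 := (sb E81649 (iv5 D105819))
theorem F320806 : act 6 n141445 = n71088 := (sb E81661 (iv6 D150778))
theorem F320807 : act 6 n141446 = n71089 := (sb E81662 (iv6 D150781))
theorem F320808 : act 2 n30996 = n66361 := (sb E81665 (iv2 D141444))
theorem F320809 : act 7 n30996 = n66362 := (sb E81665 (iv7 F224479))
theorem F320810 : act 7 n141445 = n66389 := (sb E81666 F224562)
theorem F320811 : act 2 n141446 = n66385 := (sb E81667 F224563)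
theorem F320812 : act 7 n141446 = n66390 := (sb E81667 F224564)
theorem F320813 : act 2 n30997 = n66362 := (sb E81670 F224480)
theorem F320814 : act 7 n30997 = n66361 := (sb E81670 (iv7 D141448))
theorem F320815 : act 6 n141192 = n71091 := (sb E81671 (iv6 D150785))
theorem F320816 : act 5 n141195 = n67903 := (sb E81672 (iv5 D144865))
theorem E84526 : n66394 = n54109 := (((F104667).symm.trans (sb E81673 (iv1 F224488)))).symm
theorem E84527 : n67910 = n66393 := ((F104668).symm.trans (sb E81673 F224489))
theorem F320817 : act 5 n68472 = n66364 := (sb E81673 F224486)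
theorem F320818 : act 7 n68472 = n66363 := (sb E81673 (iv7 D141456))
theorem E84528 : n159676 = n66239 := (((D66239).symm.trans (sb E81675 (iv5 F251544)))).symm
theorem F320819 : act 7 n30998 = n31864 := (sb E81676 (iv7 F50169))
theorem F320820 : act 3 n128382 = n66362 := (sb E81678 (iv3 D141449))
theorem F320821 : act 4 n128382 = n107286 := (sb E81678 F224481)
theorem F320822 : act 5 n69738 = n66362 := (sb E81679 (iv5 D141451))
theorem F320823 : act 0 n101582 = n107904 := (sb E81680 F238362)
theorem F320824 : act 1 n101582 = n107920 := (sb E81680 F238363)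
theorem F320825 : act 2 n101582 = n71672 := (sb E81680 F238360)
theorem F320826 : act 5 n101582 = n71423 := (sb E81680 (iv5 D151503))
theorem F320827 : act 7 n101582 = n71666 := (sb E81680 F238361)
theorem E84529 : n170679 = n86060 := ((F303386).symm.trans (sb E81683 (iv5 D180115)))
theorem F320828 : act 5 n39835 = n61102 := (sb E81685 (iv5 D130157))
theorem E84530 : n78813 = n61105 := (((iv6 F119963)).symm.trans (sb E81685 F208685))
theorem E84531 : n61113 = n17371 := ((((iv6 F28323)).symm.trans (sb E81687 F208693))).symm
theorem F320829 : act 0 n28956 = n26922 := (sb E81688 (iv1 F297205))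
theorem E84532 : n61112 = n26919 := ((D61112).symm.trans (sb E81688 F296844))
theorem F320830 : act 6 n28956 = n18848 := (sb E81688 F56533)
theorem E84533 : n61114 = n35768 := ((D61114).symm.trans (sb E81688 (iv7 F92680)))
theorem E84535 : n162118 = n25281 := (((F79948).symm.trans (sb E81694 (iv4 F302613)))).symm
theorem F320831 : act 4 n130857 = n77646 := (sb E81695 (iv4 D161671))
theorem E84536 : n80236 = n68288 := ((D80236).symm.trans (sb E81698 F318614))
theorem E84537 : n77737 = n58621 := (((iv5 F300391)).symm.trans (sb E81698 (iv5 D125266)))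
theorem E84538 : n85991 = n75114 := (((D75114).symm.trans (sb E81699 (iv5 D179957)))).symm
theorem E84539 : n77473 = n53956 := (((F318448).symm.trans (sb E81701 (iv1 F302728)))).symm
theorem E84540 : n77478 = n68268 := (((F318449).symm.trans (sb E81701 (iv0 F302733)))).symm
theorem F320832 : act 5 n39768 = n35255 := (sb E81701 (iv5 D77226))
theorem E84543 : n77736 = n68264 := ((((iv7 F319656)).symm.trans (sb E81701 F302376))).symm
theorem F320833 : act 4 n56072 = n65577 := (sb E81703 (iv4 D139719))
theorem E84544 : n110723 = n27044 := ((((iv5 D56072)).symm.trans (sb E81703 F222894))).symm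
theorem F320834 : act 4 n56086 = n65580 := (sb E81704 (iv4 D139726))
theorem E84545 : n110722 = n27047 := ((((iv5 D56086)).symm.trans (sb E81704 F222900))).symm
theorem F320835 : act 0 n111892 = n80180 := (sb E81705 F304619)
theorem F320836 : act 1 n111892 = n80229 := (sb E81705 F262911)
theorem E84546 : n109387 = n80373 := ((F173825).symm.trans (sb E81705 F262907))
theorem E84547 : n80155 = n51602 := ((((iv4 D111892)).symm.trans (sb E81705 F262908))).symm
theorem E84549 : n109669 = n80152 := ((F173827).symm.trans (sb E81705 (iv7 D166982)))
theorem E84552 : n125007 = n35322 := (((F113030).symm.trans (sb E81706 (iv2 F200792)))).symm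
theorem E84553 : n179068 = n80227 := (((D80227).symm.trans (sb E81706 (iv3 F279003)))).symm
theorem E84555 : n77808 = n39455 := (((iv5 F302386)).symm.trans (sb E81706 (iv5 D85436)))
theorem F320837 : act 4 n83327 = n65595 := (sb E81707 (iv4 D139746))
theorem F320838 : act 5 n78824 = n130087 := (sb E81708 F213487)
theorem E84559 : n159026 = n48894 := (((iv3 F250361)).symm.trans (sb E81709 (iv3 D105753)))
theorem F320839 : act 4 n75951 = n112333 := (sb E81709 F174743)
theorem E84560 : n164188 = n158426 := ((D164188).symm.trans (sb E81711 (iv3 F249614)))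
theorem E84561 : n121171 = n38776 := (((iv5 F193235)).symm.trans (sb E81711 (iv5 D84123)))
theorem E84562 : n77599 = n50337 := ((((iv5 F79712)).symm.trans (sb E81712 (iv5 D161562)))).symm
theorem E84563 : n50728 = n17179 := (((iv4 F80077)).symm.trans (sb E81713 (iv4 D35420)))
theorem E84565 : n56140 = n11667 := (((D11667).symm.trans (sb E81715 (iv1 F128465)))).symm
theorem E84566 : n56135 = n11637 := ((((iv0 F18981)).symm.trans (sb E81715 F128466))).symm
theorem E84568 : n38400 = n11666 := ((((iv4 F19004)).symm.trans (sb E81715 F128464))).symm
theorem E84570 : n167499 = n24995 := ((((iv3 F79381)).symm.trans (sb E81716 D167499))).symm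
theorem E84571 : n36627 = n25107 := (((D25107).symm.trans (sb E81716 (iv4 D80381)))).symm
theorem E84573 : n77494 = n25064 := ((((iv6 F39344)).symm.trans (sb E81716 (iv6 F302586)))).symm
theorem E84575 : n56025 = n25066 := ((((iv4 F39351)).symm.trans (sb E81717 F128458))).symm
theorem E84578 : n38398 = n24829 := ((((iv1 F38858)).symm.trans (sb E81718 F297946))).symm
theorem E84579 : n38397 = n24780 := ((((iv0 F38794)).symm.trans (sb E81718 F297947))).symm
theorem E84580 : n37796 = n25103 := ((((iv3 F39450)).symm.trans (sb E81718 (iv3 F126155)))).symm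
theorem E84581 : n36791 = n25104 := (((D25104).symm.trans (sb E81718 (iv5 D80617)))).symm
theorem E84582 : n165692 = n5594 := ((((iv6 D11925)).symm.trans (sb E81718 (iv6 F298645)))).symm
theorem E84583 : n38375 = n25105 := (((D25105).symm.trans (sb E81718 F297949))).symm
theorem E84586 : n174285 = n25098 := ((((iv3 F39435)).symm.trans (sb E81720 D174285))).symm
theorem E84588 : n144918 = n90143 := ((D144918).symm.trans (sb E81721 F142429))
theorem E84589 : n144919 = n88691 := ((D144919).symm.trans (sb E81721 (iv5 F290714)))
theorem F320840 : act 6 n67937 = n43283 := (sb E81721 (iv6 D92508))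
theorem F320841 : act 3 n52742 = n67997 := (sb E81740 (iv3 D145061))
theorem F320842 : act 5 n114605 = n111461 := (sb E81741 (iv5 F232071))
theorem F320843 : act 1 n145648 = n85970 := (sb E81742 (iv0 D179919))
theorem F320844 : act 1 n118273 = n68274 := (sb E81743 (iv0 D145647))
theorem F320845 : act 7 n145649 = n85970 := (sb E81744 (iv7 D179921))
theorem F320846 : act 0 n118261 = n145582 := (sb E81747 F228706)
theorem F320847 : act 2 n118261 = n140990 := (sb E81747 F228704)
theorem F320848 : act 7 n118261 = n139803 := (sb E81747 F228705)
theorem F320849 : act 5 n65627 = n67698 := (sb E81749 (iv5 D144462))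
theorem F320850 : act 5 n66129 = n54469 := (sb E81751 (iv5 F318703))
theorem E84592 : n139805 = n54470 := (((D54470).symm.trans (sb E81754 (iv3 F223000)))).symm
theorem E84593 : n139808 = n54471 := (((D54471).symm.trans (sb E81754 (iv4 F223003)))).symm
theorem E84595 : n140178 = n30748 := ((F320371).symm.trans (sb E81754 (iv6 D65631)))
theorem E84596 : n140919 = n71143 := ((D140919).symm.trans (sb E81756 F206472))
theorem E84597 : n157157 = n140920 := (((D140920).symm.trans (sb E81756 F313378))).symm
theorem E84598 : n140922 = n60345 := ((D140922).symm.trans (sb E81756 (iv6 D128350)))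
theorem E84599 : n153751 = n140821 := (((D140821).symm.trans (sb E81757 (iv4 F280270)))).symm
theorem E84600 : n153749 = n140923 := (((D140923).symm.trans (sb E81758 (iv1 F280276)))).symm
theorem E84601 : n145545 = n140924 := (((D140924).symm.trans (sb E81758 (iv0 F318452)))).symm
theorem E84602 : n140920 = n68163 := ((D140920).symm.trans (sb E81764 (iv4 D145384)))
theorem E84603 : n138367 = n105816 := (((F183899).symm.trans (sb E84506 F318060))).symm
theorem E84604 : n138366 = n105777 := (((F183900).symm.trans (sb E84506 F318061))).symm
theorem F320851 : act 6 n117413 = n71144 := (sb E84506 (iv6 D150916))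
theorem F320852 : act 7 n117413 = n74431 := (sb E84506 F318063)
theorem F320853 : act 0 n32939 = n30783 := (sb E81766 (iv1 F101442))
theorem F320854 : act 1 n32939 = n30782 := (sb E81766 F101443)
theorem E84605 : n139511 = n71137 := (((D71137).symm.trans (sb E81766 (iv4 F222688)))).symm
theorem F320855 : act 7 n32939 = n30777 := (sb E81766 (iv7 D65732))
theorem E84606 : n139509 = n33972 := (((F53310).symm.trans (sb E81767 (iv1 F222685)))).symm
theorem E84607 : n139508 = n71139 := (((D71139).symm.trans (sb E81767 F222689))).symm
theorem E84608 : n139539 = n71141 := (((D71141).symm.trans (sb E81767 (iv5 F222704)))).symm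
theorem F320856 : act 7 n32940 = n30695 := (sb E81767 (iv7 D65477))
theorem F320857 : act 0 n32915 = n30777 := (sb E81768 (iv1 D65730))
theorem F320858 : act 2 n32915 = n140022 := (sb E81768 (iv2 F223230))
theorem E84609 : n140023 = n59948 := ((((iv3 F94425)).symm.trans (sb E81768 D140023))).symm
theorem F320859 : act 7 n32915 = n140017 := (sb E81768 F223228)
theorem F320860 : act 1 n23896 = n30777 := (sb E81769 (iv0 D65729))
theorem F320861 : act 2 n23896 = n140017 := (sb E81769 D140017)
theorem F320862 : act 7 n23896 = n140022 := (sb E81769 D140022)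
theorem F320863 : act 5 n66186 = n70979 := (sb E81770 (iv5 D150585))
theorem F320864 : act 2 n144395 = n177066 := (sb E81771 (iv2 F276490))
theorem F320865 : act 4 n144395 = n71357 := (sb E81771 F238100)
theorem F320866 : act 6 n144395 = n71356 := (sb E81771 (iv6 D151384))
theorem F320867 : act 4 n130477 = n65676 := (sb E81772 (iv4 D139902))
theorem F320868 : act 4 n133146 = n70968 := (sb E81774 F237077)
theorem F320869 : act 6 n133146 = n70967 := (sb E81774 (iv6 D150558))
theorem F320870 : act 7 n133146 = n85759 := (sb E81774 F237078)
theorem F320871 : act 0 n61213 = n74072 := (sb E81775 (iv1 D155716))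
theorem E84616 : n149757 = n139882 := (((D139882).symm.trans (sb E81776 D149757))).symm
theorem F320872 : act 4 n65667 = n32653 := (sb E81776 (iv4 D70347))
theorem E84617 : n139883 = n32655 := ((D139883).symm.trans (sb E81776 F106820))
theorem E84619 : n149484 = n115841 := (((F180298).symm.trans (sb E81777 D149484))).symm
theorem E84620 : n118895 = n109593 := (((F169572).symm.trans (sb E81777 (iv4 F186946)))).symm
theorem F320873 : act 5 n65655 = n32580 := (sb E81777 (iv5 D70198))
theorem E84621 : n139867 = n32583 := ((D139867).symm.trans (sb E81777 F106655))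
theorem E84622 : n149516 = n139869 := (((D139869).symm.trans (sb E81778 D149516))).symm
theorem E84623 : n139871 = n32590 := ((D139871).symm.trans (sb E81778 F106677))
theorem E84625 : n140199 = n30757 := ((F320370).symm.trans (sb E81779 (iv6 D65658)))
theorem F320874 : act 5 n117821 = n62228 := (sb E81792 (iv5 D132627))
theorem F320875 : act 5 n29448 = n59971 := (sb E81793 (iv5 D127735))
theorem E84626 : n166535 = n107745 := (E81795).trans E82688
theorem F320876 : act 6 n107745 = n79930 := (sb E84626 (iv6 D166535))
theorem F320877 : act 6 n36407 = n62227 := (sb E81797 (iv6 D132622))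
theorem F320878 : act 2 n70329 = n67288 := (sb E81798 F226354)
theorem F320879 : act 7 n70330 = n67288 := (sb E81800 (iv7 F226353))
theorem F320880 : act 2 n116678 = n67286 := (sb E81801 F226327)
theorem F320881 : act 6 n116678 = n67281 := (sb E81801 (iv6 D143650))
theorem E84628 : n81794 = n68210 := (((D68210).symm.trans (sb E83572 F313097))).symm
theorem F320882 : act 6 n115761 = n69291 := (sb E83873 (iv6 D147896))
theorem F320883 : act 7 n148264 = n69510 := (sb E81807 F232102)
theorem F320884 : act 2 n148265 = n69506 := (sb E81808 F232103)
theorem F320885 : act 7 n148265 = n69511 := (sb E81808 F232104)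
theorem F320886 : act 2 n148266 = n69507 := (sb E81809 F232105)
theorem F320887 : act 7 n148266 = n69512 := (sb E81809 F232106)
theorem F320888 : act 2 n32275 = n67316 := (sb E81811 F226386)
theorem E84629 : n69513 = n67313 := ((D69513).symm.trans (sb E81811 (iv6 D143722)))
theorem F320889 : act 7 n32275 = n69500 := (sb E81811 F316509)
theorem F320890 : act 0 n67742 = n66879 := (sb E81812 (iv1 F181657))
theorem F320891 : act 2 n67742 = n66882 := (sb E81812 F181655)
theorem E84630 : n144541 = n55170 := ((D144541).symm.trans (sb E81812 F316217))
theorem F320892 : act 7 n67742 = n53671 := (sb E81812 (iv7 D116450))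
theorem E84631 : n144557 = n76689 := ((D144557).symm.trans (sb E81813 F316407))
theorem E84632 : n144558 = n55624 := ((D144558).symm.trans (sb E81813 F316408))
theorem E84633 : n148364 = n144559 := (((D144559).symm.trans (sb E81813 (iv5 F232144)))).symm
theorem E84634 : n144560 = n73856 := ((D144560).symm.trans (sb E81813 F189229))
theorem F320893 : act 6 n116480 = n85005 := (sb E81814 (iv6 D178530))
theorem E84637 : n170071 = n140547 := ((((iv2 F223688)).symm.trans (sb E81815 (iv2 F267562)))).symm
theorem E84638 : n78943 = n66636 := (((F166903).symm.trans (sb E81815 (iv4 F313095)))).symm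
theorem E84639 : n145465 = n37396 := ((D145465).symm.trans (sb E81815 (iv6 D81791)))
theorem E84641 : n145485 = n131256 := ((D145485).symm.trans (sb E81816 (iv1 F313088)))
theorem E84642 : n145486 = n55629 := ((D145486).symm.trans (sb E81816 (iv0 F313089)))
theorem E84643 : n145484 = n52653 := (((iv4 F228539)).symm.trans (sb E81816 (iv4 F313092)))
theorem E84644 : n145487 = n37395 := ((D145487).symm.trans (sb E81816 (iv5 D81788)))
theorem E84645 : n157554 = n145488 := (((D145488).symm.trans (sb E81816 F310844))).symm
theorem F320894 : act 4 n85790 = n53729 := (sb E81817 F181954)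
theorem E84646 : n179644 = n53728 := (((iv6 F279762)).symm.trans (sb E81817 (iv6 D116595)))
theorem F320895 : act 2 n66401 = n70064 := (sb E81819 (iv2 D149268))
theorem E84647 : n70237 = n70065 := ((F316514).symm.trans (sb E81819 (iv7 F234653)))
theorem F320896 : act 3 n32608 = n70064 := (sb E81820 (iv3 D149269))
theorem E84648 : n115769 = n60157 := ((D115769).symm.trans (sb E81821 (iv6 D128026)))
theorem F320897 : act 3 n28598 = n30777 := (sb E81822 F84270)
theorem F320898 : act 6 n28598 = n25876 := (sb E81822 (iv6 D53416))
theorem E84650 : n115875 = n52905 := ((((iv3 F83602)).symm.trans (sb E81823 D115875))).symm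
theorem F320899 : act 3 n32950 = n25868 := (sb E81825 F84237)
theorem E84660 : n115776 = n71164 := (((D71164).symm.trans (sb E81825 D115776))).symm
theorem F320900 : act 6 n32950 = n25866 := (sb E81825 (iv6 D53385))
theorem F320901 : act 2 n70197 = n115862 := (sb E81826 F204399)
theorem E84661 : n149480 = n140823 := ((D149480).symm.trans (sb E81826 (iv3 F223899)))
theorem F320902 : act 4 n70197 = n67169 := (sb E81826 F204401)
theorem F320903 : act 5 n70197 = n59693 := (sb E81826 (iv5 D127142))
theorem E84662 : n149725 = n115858 := ((D149725).symm.trans (sb E81827 F232061))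
theorem F320904 : act 1 n70328 = n115863 := (sb E81827 F232062)
theorem F320905 : act 2 n70328 = n69491 := (sb E81827 F232058)
theorem E84663 : n149580 = n66631 := (((F180302).symm.trans (sb E81832 (iv5 F237676)))).symm
theorem E84664 : n149732 = n115825 := ((((iv1 F180222)).symm.trans (sb E81833 F237673))).symm
theorem E84667 : n170509 = n66632 := (((D66632).symm.trans (sb E81834 (iv4 F267955)))).symm
theorem E84668 : n66634 = n37355 := ((D66634).symm.trans (sb E81834 (iv6 D81735)))
theorem E84670 : n115846 = n30559 := ((D115846).symm.trans (sb E81835 (iv1 D65067)))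
theorem E84671 : n115847 = n81477 := ((D115847).symm.trans (sb E81835 (iv0 F312804)))
theorem E84672 : n138566 = n115843 := ((((iv3 F180319)).symm.trans (sb E81835 D138566))).symm
theorem E84673 : n138567 = n115845 := ((((iv4 F180323)).symm.trans (sb E81835 D138567))).symm
theorem E84674 : n115848 = n37356 := ((D115848).symm.trans (sb E81835 (iv5 F312850)))
theorem E84675 : n115849 = n86023 := ((D115849).symm.trans (sb E81835 (iv7 F312835)))
theorem F320906 : act 0 n53486 = n115862 := (sb E81839 (iv1 F180367))
theorem F320907 : act 4 n53486 = n31272 := (sb E81839 (iv4 D67203))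
theorem F320908 : act 5 n53486 = n67645 := (sb E81839 F169582)
theorem F320909 : act 1 n116045 = n67198 := (sb E81840 (iv0 F221126))
theorem F320910 : act 2 n116045 = n66078 := (sb E81840 F221121)
theorem F320911 : act 3 n116045 = n127704 := (sb E81840 F221122)
theorem F320912 : act 4 n116045 = n117779 := (sb E81840 F221125)
theorem F320913 : act 5 n116045 = n64810 := (sb E81840 (iv5 D137894))
theorem F320914 : act 1 n116025 = n66078 := (sb E81841 F184204)
theorem F320915 : act 4 n116025 = n54179 := (sb E81841 (iv4 D117606))
theorem F320916 : act 5 n116025 = n66051 := (sb E81841 F184203)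
theorem F320917 : act 7 n116025 = n67198 := (sb E81841 F184202)
theorem F320918 : act 3 n54215 = n31272 := (sb E81842 (iv3 D67202))
theorem E84681 : n143472 = n117700 := (((D117700).symm.trans (sb E81842 D143472))).symm
theorem E84685 : n117608 = n116024 := ((((iv2 F180773)).symm.trans (sb E81843 (iv2 F184207)))).symm
theorem F320919 : act 6 n53485 = n31272 := (sb E81843 (iv6 D67205))
theorem F320920 : act 3 n45421 = n59921 := (sb E81844 F204974)
theorem F320921 : act 2 n127762 = n67628 := (sb E81859 F227069)
theorem E84690 : n140867 = n116855 := ((((iv4 F182476)).symm.trans (sb E81860 D140867))).symm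
theorem F320922 : act 5 n65660 = n30905 := (sb E81860 (iv5 D66088))
theorem F320923 : act 6 n65660 = n30908 := (sb E81860 F101744)
theorem E84691 : n140957 = n136738 := ((((iv3 F219906)).symm.trans (sb E81861 D140957))).symm
theorem F320924 : act 6 n65661 = n30921 := (sb E81861 F101752)
theorem F320925 : act 3 n55240 = n53734 := (sb E81864 F181925)
theorem F320926 : act 0 n71862 = n53748 := (sb E81865 (iv1 F181973))
theorem F320927 : act 6 n71862 = n53734 := (sb E81865 (iv6 D116615))
theorem F320928 : act 0 n31025 = n53734 := (sb E81866 (iv1 F181899))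
theorem F320929 : act 1 n31025 = n53712 := (sb E81866 (iv0 D116550))
theorem F320930 : act 0 n116229 = n53712 := (sb E81867 (iv1 D116551))
theorem F320931 : act 1 n116229 = n53734 := (sb E81867 F181895)
theorem F320932 : act 5 n54211 = n53731 := (sb E81874 (iv5 D116605))
theorem F320933 : act 6 n54208 = n53731 := (sb E81875 (iv6 D116606))
theorem F320934 : act 4 n121400 = n68793 := (sb E81886 F229394)
theorem F320935 : act 6 n121400 = n68529 := (sb E81886 (iv6 D146145))
theorem F320936 : act 3 n127695 = n76784 := (sb E81888 (iv3 D160242))
theorem E84698 : n163577 = n61679 := ((D163577).symm.trans (sb E81891 (iv1 F210593)))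
theorem E84699 : n163578 = n61664 := ((D163578).symm.trans (sb E81891 (iv0 D131383)))
theorem E84700 : n163579 = n149035 := ((D163579).symm.trans (sb E81891 (iv2 F234350)))
theorem F320937 : act 4 n78596 = n80264 := (sb E81891 F314841)
theorem E84701 : n163580 = n61699 := ((D163580).symm.trans (sb E81891 F210592))
theorem F320938 : act 7 n78596 = n80264 := (sb E81891 F314843)
theorem E84704 : n161612 = n78638 := ((((iv1 F119805)).symm.trans (sb E81895 (iv1 F255723)))).symm
theorem E84705 : n121177 = n77686 := ((D121177).symm.trans (sb E81895 F255721))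
theorem E84706 : n77685 = n35629 := (((F88469).symm.trans (sb E81895 (iv7 D161722)))).symm
theorem E84707 : n164147 = n124983 := (((D124983).symm.trans (sb E81897 (iv1 F258693)))).symm
theorem E84708 : n164146 = n124984 := (((D124984).symm.trans (sb E81897 F258696))).symm
theorem E84709 : n164149 = n124978 := ((((iv2 F200738)).symm.trans (sb E81897 (iv2 F258695)))).symm
theorem F320939 : act 3 n58433 = n35901 := (sb E81897 F120016)
theorem E84710 : n164101 = n124985 := (((D124985).symm.trans (sb E81897 (iv4 F258634)))).symm
theorem E84711 : n164163 = n27805 := ((((iv5 D58433)).symm.trans (sb E81897 (iv5 F258702)))).symm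
theorem E84712 : n124986 = n36277 := ((D124986).symm.trans (sb E81897 F301308))
theorem F320940 : act 7 n58433 = n35897 := (sb E81897 (iv7 D78862))
theorem F320941 : act 5 n39966 = n35901 := (sb E81898 F120019)
theorem F320942 : act 5 n17518 = n28840 := (sb E81899 (iv5 D60797))
theorem E84717 : n121296 = n72003 := ((D121296).symm.trans (sb E81900 F155417))
theorem E84718 : n173940 = n121297 := (((D121297).symm.trans (sb E81900 F272593))).symm
theorem E84719 : n173938 = n121295 := ((((iv2 F193406)).symm.trans (sb E81900 (iv2 F272586)))).symm
theorem E84720 : n178855 = n121273 := ((((iv4 F193384)).symm.trans (sb E81900 D178855))).symm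
theorem E84721 : n121298 = n39404 := ((D121298).symm.trans (sb E81900 (iv5 D85267)))
theorem F320943 : act 5 n40258 = n26982 := (sb E81901 (iv5 D55957))
theorem E84724 : n78728 = n77683 := ((((iv5 F300356)).symm.trans (sb E81903 (iv5 D163895)))).symm
theorem F320944 : act 5 n36572 = n35804 := (sb E81904 (iv5 D78597))
theorem E84727 : n161403 = n78411 := ((((iv5 F119608)).symm.trans (sb E81905 F303244))).symm
theorem F320945 : act 0 n113168 = n120923 := (sb E81906 (iv1 F303778))
theorem F320946 : act 1 n113168 = n120922 := (sb E81906 (iv0 F303777))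
theorem F320947 : act 2 n113168 = n76198 := (sb E81906 (iv2 D159267))
theorem F320948 : act 7 n113168 = n120924 := (sb E81906 (iv7 F303781))
theorem E84728 : n50746 = n17591 := (((F55009).symm.trans (sb E81909 F170148))).symm
theorem E84729 : n76200 = n50745 := ((D76200).symm.trans (sb E81909 (iv6 D110019)))
theorem E84732 : n35261 = n11693 := ((D35261).symm.trans (sb E81910 F38684))
theorem E84734 : n120049 = n50749 := (((D50749).symm.trans (sb E81911 (iv5 F318521)))).symm
theorem F320949 : act 6 n24701 = n35164 := (sb E81911 (iv6 D76971))
theorem E84736 : n35542 = n13425 := (((D13425).symm.trans (sb E81912 F299764))).symm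
theorem E84737 : n35541 = n13426 := (((D13426).symm.trans (sb E81912 (iv0 F300314)))).symm
theorem E84741 : n120993 = n62081 := ((D120993).symm.trans (sb E81915 (iv5 D132328)))
theorem E84742 : n120994 = n62086 := (((D62086).symm.trans (sb E81917 D120994))).symm
theorem E84743 : n120995 = n62087 := (((D62087).symm.trans (sb E81917 D120995))).symm
theorem E84744 : n120996 = n62039 := ((((iv4 F96678)).symm.trans (sb E81917 D120996))).symm
theorem F320950 : act 5 n29394 = n26926 := (sb E81917 (iv5 D55801))
theorem E84745 : n86262 = n62089 := (((D62089).symm.trans (sb E81917 (iv7 F132218)))).symm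
theorem E84747 : n109486 = n3707 := ((((iv5 D8236)).symm.trans (sb E81920 F212364))).symm
theorem E84748 : n109974 = n6106 := (((D6106).symm.trans (sb E81922 (iv1 F170248)))).symm
theorem E84749 : n109972 = n6107 := (((D6107).symm.trans (sb E81922 F170249))).symm
theorem F320951 : act 5 n29470 = n26924 := (sb E81925 F57020)
theorem E84753 : n79696 = n62288 := (((iv5 F122373)).symm.trans (sb E81927 F212353))
theorem E84754 : n35346 = n14194 := (((F80108).symm.trans (sb E81928 (iv4 F57023)))).symm
theorem F320952 : act 5 n29471 = n26925 := (sb E81928 F57022)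
theorem E84756 : n121000 = n61380 := (((D61380).symm.trans (sb E81931 D121000))).symm
theorem F320953 : act 5 n29054 = n35563 := (sb E81931 F88270)
theorem E84758 : n35591 = n13982 := (((D13982).symm.trans (sb E81932 F88275))).symm
theorem E84759 : n35590 = n13983 := (((D13983).symm.trans (sb E81932 F88276))).symm
theorem E84761 : n35341 = n6342 := (((F10785).symm.trans (sb E81932 F88274))).symm
theorem F320954 : act 5 n29399 = n26928 := (sb E81933 F88280)
theorem F320955 : act 3 n160514 = n83258 := (sb E81935 (iv3 D174179))
theorem F320956 : act 0 n133280 = n164827 := (sb E81936 (iv1 F259874))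
theorem F320957 : act 2 n133280 = n164826 := (sb E81936 F261069)
theorem F320958 : act 3 n133280 = n78679 := (sb E81936 (iv3 D163769))
theorem F320959 : act 7 n133280 = n121215 := (sb E81936 F258123)
theorem F320960 : act 1 n133281 = n164827 := (sb E81937 F261066)
theorem F320961 : act 2 n133281 = n121215 := (sb E81937 (iv2 F261067))
theorem F320962 : act 7 n133281 = n164826 := (sb E81937 (iv7 F261068))
theorem F320963 : act 0 n133268 = n164826 := (sb E81938 (iv1 F261070))
theorem F320964 : act 1 n133268 = n121215 := (sb E81938 F261065)
theorem F320965 : act 4 n133268 = n163593 := (sb E81938 F261063)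
theorem F320966 : act 7 n133268 = n164827 := (sb E81938 F261064)
theorem F320967 : act 4 n78602 = n62543 := (sb E81939 (iv4 D133282))
theorem E84764 : n166786 = n62541 := (((D62541).symm.trans (sb E81940 F281105))).symm
theorem F320968 : act 7 n79200 = n62543 := (sb E81941 (iv7 D133283))
theorem E84767 : n51805 = n16712 := ((((iv4 F296176)).symm.trans (sb E81943 F174695))).symm
theorem E84769 : n79599 = n62296 := ((D79599).symm.trans (sb E81945 (iv5 D132742)))
theorem E84770 : n78509 = n28957 := (((F79853).symm.trans (sb E81946 F299571))).symm
theorem F320969 : act 5 n29475 = n17507 := (sb E81946 (iv5 D36250))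
theorem E84772 : n79620 = n62303 := ((D79620).symm.trans (sb E81948 (iv5 D132750)))
theorem F320970 : act 5 n29478 = n17511 := (sb E81949 (iv5 D36258))
theorem E84775 : n120960 = n62108 := (((D62108).symm.trans (sb E81952 (iv3 F192910)))).symm
theorem F320971 : act 5 n29403 = n26922 := (sb E81952 (iv5 D55789))
theorem E84777 : n166877 = n14035 := ((((iv3 F23414)).symm.trans (sb E81953 (iv3 F262698)))).symm
theorem F320972 : act 1 n128293 = n84850 := (sb E81955 (iv0 D178295))
theorem E84779 : n174911 = n162806 := ((D174911).symm.trans (sb E81956 (iv1 F257087)))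
theorem E84780 : n174912 = n162805 := ((D174912).symm.trans (sb E81956 F257084))
theorem F320973 : act 2 n83547 = n76151 := (sb E81956 (iv2 D159202))
theorem F320974 : act 3 n83547 = n162801 := (sb E81956 (iv3 F257077))
theorem E84781 : n174881 = n162807 := (((iv7 F273782)).symm.trans (sb E81956 (iv7 F257085)))
theorem F320975 : act 3 n83591 = n76152 := (sb E81957 F250697)
theorem F320976 : act 5 n83591 = n76151 := (sb E81957 (iv5 D159203))
theorem E84782 : n175006 = n162809 := (((iv7 F273914)).symm.trans (sb E81957 (iv7 F257092)))
theorem E84783 : n163548 = n158421 := ((((iv1 F305497)).symm.trans (sb E81958 (iv1 F258747)))).symm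
theorem E84784 : n163547 = n131548 := ((((iv0 F315651)).symm.trans (sb E81958 F258745))).symm
theorem E84785 : n174799 = n163549 := ((D174799).symm.trans (sb E81958 F258744))
theorem F320977 : act 3 n161298 = n78869 := (sb E81959 (iv3 D164177))
theorem F320978 : act 6 n161298 = n160490 := (sb E81959 F258734)
theorem F320979 : act 7 n161298 = n163478 := (sb E81959 (iv7 F299563))
theorem E84786 : n163551 = n77437 := (((D77437).symm.trans (sb E81962 F258749))).symm
theorem F320980 : act 7 n78586 = n77436 := (sb E81963 (iv7 D161299))
theorem E84788 : n161614 = n58687 := (((F92709).symm.trans (sb E81965 F255617))).symm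
theorem E84791 : n176443 = n163523 := ((((iv2 F257795)).symm.trans (sb E81967 (iv2 F275745)))).symm
theorem E84793 : n163537 = n38777 := (((iv5 F257802)).symm.trans (sb E81967 (iv5 D84127)))
theorem E84794 : n129405 = n36264 := (((F299578).symm.trans (sb E81967 (iv6 F311729)))).symm
theorem F320981 : act 5 n18438 = n35799 := (sb E81968 F119759)
theorem F320982 : act 7 n18438 = n35798 := (sb E81968 (iv7 D78591))
theorem F320983 : act 1 n17513 = n29499 := (sb E81969 F95379)
theorem F320984 : act 5 n17513 = n28846 := (sb E81969 (iv5 D60815))
theorem E84798 : n121169 = n77618 := ((D121169).symm.trans (sb E81970 F302764))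
theorem F320985 : act 2 n35432 = n35798 := (sb E81971 F88456)
theorem F320986 : act 5 n35432 = n26966 := (sb E81971 (iv5 D55910))
theorem F320987 : act 6 n35432 = n35798 := (sb E81971 F88457)
theorem F320988 : act 5 n35360 = n35797 := (sb E81976 (iv5 D78587))
theorem E84802 : n109851 = n36548 := ((((iv6 F57412)).symm.trans (sb E81976 (iv6 F318475)))).symm
theorem E84804 : n140120 = n61614 := (((F307426).symm.trans (sb E81978 F224438))).symm
theorem F320989 : act 5 n69821 = n66340 := (sb E81978 (iv5 D141397))
theorem F320990 : act 5 n103731 = n59932 := (sb E81979 (iv5 D127638))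
theorem F320991 : act 6 n48022 = n69070 := (sb E81980 (iv6 D147323))
theorem F320992 : act 2 n44530 = n44998 := (sb E81981 (iv2 D96367))
theorem F320993 : act 7 n44530 = n44999 := (sb E81981 (iv7 F148327))
theorem F320994 : act 2 n44531 = n44999 := (sb E81982 F148329)
theorem F320995 : act 7 n44531 = n44998 := (sb E81982 (iv7 D96372))
theorem F320996 : act 5 n68977 = n95343 := (sb E81983 F147356)
theorem F320997 : act 6 n68977 = n44682 := (sb E81983 (iv6 D95662))
theorem E84807 : n147612 = n89253 := ((((iv5 F292807)).symm.trans (sb E81984 D147612))).symm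
theorem F320998 : act 6 n44542 = n32175 := (sb E81984 (iv6 D69181))
theorem E84809 : n148880 = n114465 := (((iv1 F233932)).symm.trans (sb E81985 F239667))
theorem E84810 : n148877 = n114440 := ((F233925).symm.trans (sb E81985 (iv0 F239668)))
theorem F320999 : act 4 n145755 = n71926 := (sb E81985 (iv4 D152487))
theorem F321000 : act 6 n145755 = n92459 := (sb E81985 F239665)
theorem F321001 : act 7 n145755 = n114463 := (sb E81985 F239666)
theorem F321002 : act 0 n52833 = n68337 := (sb E81986 (iv1 D145754))
theorem E84811 : n145739 = n114464 := (((D114464).symm.trans (sb E81986 (iv5 F233933)))).symm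
theorem F321003 : act 3 n89557 = n68338 := (sb E81987 F228890)
theorem F321004 : act 6 n89557 = n68337 := (sb E81987 (iv6 D145756))
theorem F321005 : act 0 n147362 = n71922 := (sb E81988 (iv1 F239328))
theorem F321006 : act 1 n147362 = n71921 := (sb E81988 F239330)
theorem F321007 : act 2 n147362 = n71924 := (sb E81988 F239325)
theorem F321008 : act 4 n147362 = n71842 := (sb E81988 F239326)
theorem F321009 : act 7 n147362 = n71838 := (sb E81988 (iv7 D152269))
theorem F321010 : act 1 n69493 = n71932 := (sb E81989 F290475)
theorem F321011 : act 2 n69493 = n114605 := (sb E81989 F239600)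
theorem E84812 : n148242 = n71900 := ((D148242).symm.trans (sb E81989 (iv6 D152408)))
theorem F321012 : act 3 n69067 = n71932 := (sb E81990 (iv3 D152505))
theorem E84813 : n125317 = n83268 := ((D125317).symm.trans (sb E81991 F311759))
theorem E84814 : n174821 = n125318 := (((D125318).symm.trans (sb E81991 (iv0 F273698)))).symm
theorem E84815 : n125319 = n45915 := ((D125319).symm.trans (sb E81991 F151582))
theorem F321013 : act 5 n58684 = n45912 := (sb E81991 (iv5 D98231))
theorem E84816 : n125321 = n77612 := ((D125321).symm.trans (sb E81991 F151584))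
theorem F321014 : act 2 n35434 = n39844 := (sb E81993 F92705)
theorem F321015 : act 6 n35434 = n27903 := (sb E81993 (iv6 D58686))
theorem F321016 : act 4 n86506 = n79984 := (sb E81994 F262204)
theorem E84817 : n181147 = n79959 := ((D181147).symm.trans (sb E81994 (iv6 D166603)))
theorem E84818 : n155368 = n119232 := ((D155368).symm.trans (sb E81995 (iv1 F278529)))
theorem E84819 : n155369 = n119229 := ((D155369).symm.trans (sb E81995 F278305))
theorem E84820 : n155370 = n85135 := ((D155370).symm.trans (sb E81995 F278304))
theorem F321017 : act 5 n73841 = n85032 := (sb E81995 (iv5 D178567))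
theorem E84821 : n125336 = n54868 := ((D125336).symm.trans (sb E81996 F187465))
theorem F321018 : act 5 n58694 = n54826 := (sb E81996 (iv5 D119146))
theorem E84822 : n125339 = n77667 := ((D125339).symm.trans (sb E81996 F187467))
theorem E84823 : n125326 = n77684 := (((D77684).symm.trans (sb E81998 (iv0 F201586)))).symm
theorem F321019 : act 2 n35463 = n39855 := (sb E81998 F92735)
theorem F321020 : act 6 n35463 = n27907 := (sb E81998 (iv6 D58696))
theorem F321021 : act 4 n110617 = n73598 := (sb E82001 (iv4 D155071))
theorem E84824 : n77770 = n31099 := ((((iv4 F53698)).symm.trans (sb E82002 F243959))).symm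
theorem F321022 : act 4 n33837 = n59560 := (sb E82003 F204155)
theorem E84825 : n73623 = n59558 := (((iv6 F110325)).symm.trans (sb E82003 (iv6 D126910)))
theorem E84827 : n174973 = n128375 := ((((iv3 F211146)).symm.trans (sb E82005 D174973))).symm
theorem F321023 : act 4 n60432 = n38525 := (sb E82005 (iv4 D83566))
theorem E84829 : n77376 = n67445 := (((F318622).symm.trans (sb E82005 F128649))).symm
theorem E84830 : n161174 = n50665 := (((F103236).symm.trans (sb E82006 (iv1 F255889)))).symm
theorem F321024 : act 4 n67368 = n36579 := (sb E82006 (iv4 D80287))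
theorem E84834 : n77760 = n66153 := (((F103235).symm.trans (sb E82006 (iv7 F303220)))).symm
theorem E84835 : n140983 = n77480 := (((D77480).symm.trans (sb E82007 (iv1 F224009)))).symm
theorem E84836 : n68293 = n17202 := (((F56078).symm.trans (sb E82007 (iv2 F104465)))).symm
theorem E84837 : n141001 = n77465 := ((((iv3 F116285)).symm.trans (sb E82007 D141001))).symm
theorem E84838 : n77482 = n30918 := ((D77482).symm.trans (sb E82007 (iv4 D66133)))
theorem E84840 : n141002 = n77469 := ((((iv6 F116289)).symm.trans (sb E82007 D141002))).symm
theorem E84841 : n77483 = n68285 := ((D77483).symm.trans (sb E82007 (iv7 F104450)))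
theorem E84843 : n77772 = n30915 := (((iv4 F117142)).symm.trans (sb E82008 (iv4 D66126)))
theorem E84844 : n51841 = n17203 := (((F56173).symm.trans (sb E82008 F101762))).symm
theorem E84845 : n77773 = n74139 := ((D77773).symm.trans (sb E82008 F316504))
theorem E84846 : n50640 = n17441 := (((F28722).symm.trans (sb E82010 (iv4 D109814)))).symm
theorem E84847 : n114850 = n105432 := (((E82401).symm.trans ((D146521).symm.trans (sb E82012 (iv1 F193457))))).symm
theorem F321025 : act 2 n68684 = n55972 := (sb E82012 (iv2 D121328))
theorem E84849 : n146519 = n114840 := (((iv3 F229839)).symm.trans (sb E82012 F193453))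
theorem E84850 : n114851 = n114714 := ((((iv7 F317058)).symm.trans (sb E82012 F193454))).symm
theorem E84851 : n117343 = n55975 := ((D117343).symm.trans (sb E82013 F193461))
theorem E84852 : n117344 = n114507 := ((D117344).symm.trans (sb E82013 (iv5 F193462)))
theorem F321026 : act 6 n54080 = n55972 := (sb E82013 (iv6 D121331))
theorem F321027 : act 0 n76781 = n65734 := (sb E82014 F223148)
theorem F321028 : act 3 n76781 = n67198 := (sb E82014 F223146)
theorem E84853 : n127982 = n65691 := (((iv5 F205965)).symm.trans (sb E82014 (iv5 D139921)))
theorem F321029 : act 6 n81743 = n67284 := (sb E82019 (iv6 D143658))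
theorem E84854 : n141380 = n80466 := ((D141380).symm.trans (sb E82020 F299767))
theorem E84855 : n141381 = n80469 := ((D141381).symm.trans (sb E82020 F299768))
theorem E84856 : n176976 = n66938 := ((((iv4 F102892)).symm.trans (sb E82020 D176976))).symm
theorem E84857 : n141382 = n38891 := ((D141382).symm.trans (sb E82020 (iv5 D84349)))
theorem F321030 : act 5 n67650 = n35096 := (sb E82021 F107532)
theorem F321031 : act 5 n115989 = n66067 := (sb E82022 (iv5 D140807))
theorem F321032 : act 6 n115989 = n66070 := (sb E82022 F223882)
theorem F321033 : act 3 n140041 = n66086 := (sb E82023 (iv3 D140856))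
theorem F321034 : act 4 n67283 = n66086 := (sb E82024 (iv4 D140857))
theorem F321035 : act 5 n59714 = n66086 := (sb E82025 (iv5 D140858))
theorem E84861 : n83500 = n47292 := ((D83500).symm.trans (sb E82026 F156708))
theorem F321036 : act 1 n38496 = n46584 := (sb E82026 (iv0 D99709))
theorem F321038 : act 4 n99710 = n83499 := (sb E82027 F154853)
theorem F321039 : act 7 n99710 = n46984 := (sb E82027 (iv7 D100758))
theorem E84862 : n47291 = n46984 := ((F156710).symm.trans (sb E82028 (iv1 D100756)))
theorem E84863 : n83503 = n47290 := (((F156711).symm.trans (sb E82028 F154848))).symm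
theorem F321040 : act 4 n99711 = n119382 := (sb E82028 (iv4 F188068))
theorem F321041 : act 1 n99712 = n178449 := (sb E82029 F278049)
theorem F321042 : act 2 n99712 = n119382 := (sb E82029 F273601)
theorem F321043 : act 3 n99712 = n173205 := (sb E82029 F273603)
theorem E84865 : n173212 = n47293 := (((F156714).symm.trans (sb E82029 F273602))).symm
theorem F321044 : act 0 n72944 = n47314 := (sb E82033 F156687)
theorem F321045 : act 2 n72944 = n46579 := (sb E82033 (iv2 D99689))
theorem F321046 : act 7 n72944 = n47315 := (sb E82033 F156690)
theorem F321047 : act 7 n72936 = n47314 := (sb E82034 (iv7 F156766))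
theorem F321048 : act 2 n72947 = n47314 := (sb E82039 F156767)
theorem F321049 : act 0 n101797 = n58019 := (sb E82040 (iv1 D124422))
theorem F321050 : act 4 n101797 = n154164 := (sb E82040 (iv4 F242277))
theorem F321051 : act 6 n101797 = n72759 := (sb E82040 F306757)
theorem F321052 : act 7 n101797 = n81865 := (sb E82040 F242107)
theorem F321053 : act 4 n72939 = n47314 := (sb E82041 (iv4 D101798))
theorem F321054 : act 0 n101799 = n47334 := (sb E82042 (iv1 D101854))
theorem F321055 : act 1 n101799 = n154072 := (sb E82042 F287062)
theorem F321058 : act 6 n101021 = n47314 := (sb E82043 (iv6 D101800))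
theorem F321059 : act 0 n72936 = n46579 := (sb E82044 (iv1 D99688))
theorem F321060 : act 1 n72936 = n47315 := (sb E82044 F156686)
theorem F321061 : act 0 n72947 = n47315 := (sb E82045 F156685)
theorem F321062 : act 1 n72947 = n46579 := (sb E82045 (iv0 D99687))
theorem F321063 : act 2 n26314 = n47316 := (sb E82046 F156768)
theorem F321064 : act 4 n26314 = n47315 := (sb E82046 (iv4 D101801))
theorem F321065 : act 7 n101802 = n154068 := (sb E82047 (iv7 F242120))
theorem F321066 : act 1 n101803 = n153869 := (sb E82048 F280240)
theorem F321067 : act 4 n101803 = n54412 := (sb E82048 F185564)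
theorem F321068 : act 1 n26306 = n47316 := (sb E82049 (iv0 D101804))
theorem F321069 : act 0 n26315 = n47316 := (sb E82050 (iv1 D101805))
theorem F321070 : act 5 n70608 = n47316 := (sb E82051 (iv5 D101807))
theorem F321071 : act 0 n101808 = n131503 := (sb E82052 F210768)
theorem F321072 : act 1 n101808 = n49026 := (sb E82052 (iv0 D106082))
theorem F321073 : act 2 n101808 = n54412 := (sb E82052 F185706)
theorem F321074 : act 3 n101808 = n155129 := (sb E82052 (iv3 F243951))
theorem F321075 : act 5 n101808 = n148969 := (sb E82052 (iv5 F234110))
theorem F321076 : act 7 n101808 = n85979 := (sb E82052 F185708)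
theorem F321077 : act 4 n26313 = n46579 := (sb E82053 (iv4 D99690))
theorem F321078 : act 7 n26313 = n47316 := (sb E82053 F156691)
theorem F321080 : act 0 n101816 = n153869 := (sb E82055 F280239)
theorem F321081 : act 4 n101816 = n85979 := (sb E82055 F280237)
theorem F321082 : act 6 n101816 = n85977 := (sb E82055 (iv6 D179935))
theorem F321083 : act 0 n99692 = n124810 := (sb E82056 F200486)
theorem F321084 : act 2 n99692 = n85982 := (sb E82056 F185555)
theorem F321085 : act 4 n99692 = n54408 := (sb E82056 F185556)
theorem F321086 : act 5 n99692 = n153545 := (sb E82056 F241342)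
theorem F321087 : act 7 n99692 = n85977 := (sb E82056 (iv7 F185557))
theorem F321088 : act 4 n146572 = n83852 := (sb E82057 F274955)
theorem F321089 : act 6 n146572 = n83851 := (sb E82057 (iv6 D175631))
theorem F321090 : act 0 n146729 = n83919 := (sb E82058 (iv1 F274957))
theorem F321091 : act 7 n146729 = n83852 := (sb E82058 (iv7 D175634))
theorem F321092 : act 0 n82981 = n119397 := (sb E82059 (iv1 F188119))
theorem F321093 : act 1 n82981 = n38332 := (sb E82059 (iv0 D83253))
theorem E84866 : n174162 = n173388 := ((((iv3 F271873)).symm.trans (sb E82059 D174162))).symm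
theorem E84867 : n174163 = n173393 := ((((iv4 F271874)).symm.trans (sb E82059 D174163))).symm
theorem F321094 : act 0 n155078 = n73626 := (sb E82060 (iv1 D155113))
theorem F321095 : act 5 n134586 = n84160 := (sb E82061 F249811)
theorem F321097 : act 5 n38791 = n63241 := (sb E82062 (iv5 D134587))
theorem F321098 : act 3 n115201 = n75679 := (sb E82064 (iv3 D158657))
theorem F321099 : act 5 n115201 = n84095 := (sb E82064 F249813)
theorem E84870 : n130123 = n62346 := (((iv1 F213217)).symm.trans (sb E82067 (iv1 D132849)))
theorem F321102 : act 2 n132761 = n62474 := (sb E82067 F317546)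
theorem F321103 : act 3 n132761 = n75624 := (sb E82067 F317547)
theorem F321104 : act 5 n132761 = n83878 := (sb E82067 F317548)
theorem F321105 : act 6 n132761 = n141787 := (sb E82067 F317549)
theorem F321106 : act 7 n132761 = n75624 := (sb E82067 F317550)
theorem E84871 : n130120 = n62474 := ((D130120).symm.trans (sb E82068 (iv1 F318977)))
theorem E84872 : n130121 = n75624 := ((D130121).symm.trans (sb E82068 (iv0 F318976)))
theorem E84873 : n152581 = n130115 := ((((iv3 F208632)).symm.trans (sb E82068 F317552))).symm
theorem E84874 : n130122 = n75331 := ((D130122).symm.trans (sb E82068 F317553))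
theorem F321107 : act 1 n115186 = n83999 := (sb E82069 (iv0 D176073))
theorem F321108 : act 0 n53125 = n83999 := (sb E82070 (iv1 D176074))
theorem F321109 : act 2 n115185 = n83999 := (sb E82071 F275346)
theorem F321110 : act 5 n115185 = n83998 := (sb E82071 (iv5 D176072))
theorem E84875 : n107739 = n83967 := ((D107739).symm.trans (sb E82075 (iv3 D175962)))
theorem F321111 : act 3 n61319 = n83973 := (sb E82076 F275312)
theorem E84876 : n71898 = n62645 := ((F319551).symm.trans (sb E82078 (iv4 D133472)))
theorem F321113 : act 4 n64100 = n76085 := (sb E82084 (iv4 D159145))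
theorem E84877 : n135927 = n76090 := (((iv3 F218642)).symm.trans (sb E82085 F250579))
theorem F321114 : act 6 n63916 = n76085 := (sb E82085 (iv6 D159146))
theorem F321115 : act 1 n59615 = n69970 := (sb E82086 (iv0 D149094))
theorem E84878 : n127040 = n84671 := (((iv3 F204280)).symm.trans (sb E82086 F264643))
theorem E84879 : n160368 = n127043 := (((D127043).symm.trans (sb E82086 (iv5 F304499)))).symm
theorem F321116 : act 0 n64051 = n57106 := (sb E82087 (iv1 F253305))
theorem E84880 : n136212 = n35128 := (((iv3 F219233)).symm.trans (sb E82087 (iv3 D76872)))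
theorem F321117 : act 7 n64051 = n76086 := (sb E82087 (iv7 F303339))
theorem F321118 : act 1 n64927 = n76086 := (sb E82088 F305518)
theorem E84882 : n138233 = n136246 := (((iv2 F221413)).symm.trans (sb E82088 (iv2 F318999)))
theorem E84883 : n138235 = n119775 := ((D138235).symm.trans (sb E82088 F305520))
theorem E84884 : n136811 = n118096 := (((iv5 F220018)).symm.trans (sb E82088 F305521))
theorem E84885 : n138236 = n107952 := ((D138236).symm.trans (sb E82088 (iv6 F312683)))
theorem E84886 : n138229 = n57106 := ((F221410).symm.trans (sb E82088 (iv7 D122835)))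
theorem F321119 : act 0 n64926 = n76086 := (sb E82089 F305037)
theorem E84887 : n138230 = n72301 := ((D138230).symm.trans (sb E82089 F191728))
theorem E84888 : n138231 = n71542 := ((D138231).symm.trans (sb E82089 F191729))
theorem E84889 : n137027 = n118097 := (((iv5 F220161)).symm.trans (sb E82089 F305039))
theorem E84890 : n138232 = n55406 := ((D138232).symm.trans (sb E82089 (iv6 D120365)))
theorem E84891 : n138238 = n70707 := ((((iv1 F155378)).symm.trans (sb E82090 (iv1 F221419)))).symm
theorem E84892 : n138237 = n70608 := ((((iv0 F155383)).symm.trans (sb E82090 F221420))).symm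
theorem E84893 : n135928 = n76093 := (((iv3 F218644)).symm.trans (sb E82091 F250580))
theorem F321120 : act 5 n63917 = n76086 := (sb E82091 (iv5 D159147))
theorem F321121 : act 4 n70706 = n64051 := (sb E82092 (iv4 D136247))
theorem F321122 : act 2 n64928 = n70706 := (sb E82093 (iv2 F155258))
theorem E84894 : n138239 = n32707 := ((D138239).symm.trans (sb E82093 (iv3 D70492)))
theorem F321123 : act 5 n64928 = n34778 := (sb E82093 F106943)
theorem E84895 : n148992 = n138203 := ((((iv6 F221368)).symm.trans (sb E82093 (iv6 F234171)))).symm
theorem F321124 : act 7 n64928 = n70652 := (sb E82093 (iv7 F155255))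
theorem E84898 : n185841 = n62501 := (((F97447).symm.trans (sb E82094 (iv3 F288243)))).symm
theorem E84899 : n92755 = n62500 := ((((iv5 F97448)).symm.trans (sb E82094 (iv5 F143042)))).symm
theorem E84900 : n130933 = n41321 := ((D130933).symm.trans (sb E82094 (iv6 D88517)))
theorem E84901 : n185846 = n62507 := ((((iv7 F97463)).symm.trans (sb E82094 D185846))).symm
theorem E84902 : n185842 = n60774 := ((D185842).symm.trans (sb E82095 F207497))
theorem F321125 : act 6 n88516 = n60771 := (sb E82095 (iv6 D129299))
theorem F321126 : act 2 n128453 = n78929 := (sb E82096 F258970)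
theorem F321127 : act 7 n128453 = n78928 := (sb E82096 (iv7 D164339))
theorem F321128 : act 4 n106079 = n78929 := (sb E82097 (iv4 D164341))
theorem F321129 : act 6 n117202 = n78929 := (sb E82098 (iv6 D164343))
theorem F321130 : act 2 n128455 = n78928 := (sb E82099 (iv2 D164334))
theorem F321131 : act 7 n128455 = n78929 := (sb E82099 (iv7 F258969))
theorem F321132 : act 4 n106078 = n78928 := (sb E82100 (iv4 D164336))
theorem F321133 : act 3 n73728 = n65568 := (sb E82101 (iv3 D139692))
theorem F321134 : act 5 n76736 = n65568 := (sb E82102 (iv5 D139694))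
theorem F321135 : act 3 n103671 = n51559 := (sb E82103 F173593)
theorem F321136 : act 4 n103671 = n113330 := (sb E82103 (iv4 F176534))
theorem F321137 : act 6 n103671 = n51557 := (sb E82103 (iv6 D111814))
theorem F321138 : act 5 n47792 = n51559 := (sb E82104 (iv5 D111818))
theorem F321139 : act 5 n47796 = n51669 := (sb E82105 (iv5 D112034))
theorem F321140 : act 0 n147624 = n69745 := (sb E82106 (iv1 D148810))
theorem F321141 : act 0 n146751 = n69184 := (sb E82107 (iv1 D147625))
theorem E84903 : n116433 = n68803 := ((((iv5 D146751)).symm.trans (sb E82107 (iv5 F318126)))).symm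
theorem F321142 : act 3 n23184 = n33200 := (sb E82108 (iv3 D71835))
theorem E84907 : n151160 = n48053 := (((D48053).symm.trans (sb E82108 (iv4 F237845)))).symm
theorem E84909 : n119250 = n47990 := ((((iv7 F75375)).symm.trans (sb E82108 (iv7 F187693)))).symm
theorem E84910 : n151274 = n48046 := (((D48046).symm.trans (sb E82111 (iv1 F238000)))).symm
theorem E84911 : n151273 = n48005 := (((F177392).symm.trans (sb E82111 F237999))).symm
theorem E84912 : n151229 = n22523 := ((((iv4 F62959)).symm.trans (sb E82111 (iv4 F237961)))).symm
theorem F321143 : act 5 n23183 = n33200 := (sb E82111 (iv5 D71836))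
theorem E84914 : n119251 = n47989 := ((((iv7 F75373)).symm.trans (sb E82111 (iv7 F187695)))).symm
theorem F321144 : act 6 n74588 = n53675 := (sb E82113 (iv6 D116458))
theorem F321145 : act 0 n85479 = n53646 := (sb E82118 (iv1 D116386))
theorem F321146 : act 1 n85479 = n53736 := (sb E82118 F181441)
theorem F321147 : act 2 n85479 = n53709 := (sb E82118 (iv2 F181447))
theorem E84915 : n179139 = n116130 := ((D179139).symm.trans (sb E82118 F181444))
theorem E84916 : n145464 = n141690 := ((((iv5 F316382)).symm.trans (sb E82118 (iv5 F228504)))).symm
theorem F321148 : act 7 n85479 = n53738 := (sb E82118 F181442)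
theorem F321149 : act 2 n66446 = n53717 := (sb E82119 F181910)
theorem F321150 : act 4 n55241 = n59597 := (sb E82120 F181912)
theorem F321151 : act 4 n72039 = n59601 := (sb E82121 F181927)
theorem E84917 : n179127 = n126881 := (((iv2 F279075)).symm.trans (sb E82123 F225304))
theorem F321152 : act 4 n85473 = n66779 := (sb E82123 F225305)
theorem E84919 : n127152 = n62298 := (E82700).trans E84214
theorem F321153 : act 6 n85459 = n66779 := (sb E82130 (iv6 D142406))
theorem F321155 : act 5 n139003 = n77747 := (sb E82136 (iv5 D161886))
theorem F321156 : act 2 n139005 = n84503 := (sb E82137 F276384)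
theorem F321157 : act 5 n38900 = n65253 := (sb E82138 (iv5 D139008))
theorem F321158 : act 0 n116393 = n65253 := (sb E82139 (iv1 D139007))
theorem F321159 : act 1 n31315 = n65253 := (sb E83869 (iv0 D139006))
theorem F321160 : act 6 n74739 = n68252 := (sb E82141 (iv6 D145584))
theorem F321161 : act 6 n74740 = n68253 := (sb E82142 (iv6 D145587))
theorem F321162 : act 7 n124749 = n68247 := (sb E82150 (iv7 D145562))
theorem E84920 : n145568 = n140924 := (E82151).trans E84601
theorem F321163 : act 2 n140924 = n68253 := (sb E84920 F228613)
theorem F321164 : act 7 n140924 = n68248 := (sb E84920 (iv7 D145568))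
theorem F321165 : act 7 n145540 = n68252 := (sb E82152 F228602)
theorem F321166 : act 2 n145541 = n68248 := (sb E82153 F228603)
theorem F321167 : act 7 n145541 = n68253 := (sb E82153 F228604)
theorem E84921 : n132829 = n61083 := (((D61083).symm.trans (sb E82155 (iv3 F213346)))).symm
theorem E84922 : n132833 = n61084 := (((D61084).symm.trans (sb E82155 (iv4 F213358)))).symm
theorem E84923 : n61086 = n29490 := ((D61086).symm.trans (sb E82155 (iv6 D62341)))
theorem F321168 : act 1 n119102 = n67990 := (sb E82156 (iv0 D145028))
theorem F321169 : act 0 n78895 = n67990 := (sb E82157 (iv1 D145029))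
theorem F321170 : act 7 n133402 = n67990 := (sb E82158 (iv7 D145031))
theorem E84924 : n142539 = n83733 := ((D142539).symm.trans (sb E82159 (iv4 D175339)))
theorem F321171 : act 0 n101620 = n152611 := (sb E82160 (iv1 F259333))
theorem F321172 : act 2 n101620 = n152613 := (sb E82160 F259330)
theorem F321173 : act 3 n101620 = n175113 := (sb E82160 (iv3 F274081))
theorem F321174 : act 5 n101620 = n79014 := (sb E82160 F259331)
theorem F321175 : act 7 n101620 = n79013 := (sb E82160 (iv7 D164528))
theorem F321176 : act 0 n71984 = n47268 := (sb E82161 (iv1 D101621))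
theorem F321177 : act 4 n84410 = n45398 := (sb E82162 (iv4 D97134))
theorem F321178 : act 1 n71927 = n69493 := (sb E82163 F231228)
theorem F321179 : act 2 n71927 = n69116 := (sb E82163 (iv2 D147442))
theorem F321180 : act 0 n127773 = n66637 := (sb E82165 F223916)
theorem F321181 : act 3 n117774 = n67288 := (sb E82167 (iv3 D143673))
theorem F321182 : act 4 n115866 = n67288 := (sb E82168 (iv4 D143674))
theorem F321183 : act 5 n116089 = n67288 := (sb E82169 (iv5 D143675))
theorem F321184 : act 3 n106133 = n66082 := (sb E82171 (iv3 D140841))
theorem F321185 : act 4 n106133 = n95312 := (sb E82171 (iv4 F318876))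
theorem E84926 : n132019 = n106761 := ((((iv0 F177833)).symm.trans (sb E82172 D132019))).symm
theorem E84927 : n132016 = n51069 := ((((iv2 F80534)).symm.trans (sb E82172 (iv2 F211512)))).symm
theorem E84928 : n107565 = n29346 := (((iv3 F165956)).symm.trans (sb E82172 F96548))
theorem E84929 : n107568 = n29345 := ((D107568).symm.trans (sb E82172 (iv5 D61951)))
theorem F321186 : act 7 n49695 = n106623 := (sb E82172 (iv7 F164236))
theorem E84931 : n133714 = n107548 := ((((iv2 F165924)).symm.trans (sb E82173 (iv2 F215212)))).symm
theorem E84932 : n107554 = n49211 := ((D107554).symm.trans (sb E82173 F163741))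
theorem E84933 : n159331 = n107555 := (((D107555).symm.trans (sb E82173 (iv5 F250826)))).symm
theorem F321187 : act 6 n49691 = n49209 := (sb E82173 (iv6 D106492))
theorem E84934 : n135587 = n52526 := ((D135587).symm.trans (sb E82174 (iv1 D113767)))
theorem F321188 : act 0 n113766 = n133248 := (sb E82175 (iv1 F218402))
theorem F321189 : act 2 n113766 = n63855 := (sb E82175 F218398)
theorem F321190 : act 3 n113766 = n135607 := (sb E82175 F218399)
theorem F321191 : act 4 n113766 = n129424 := (sb E82175 (iv4 F218401))
theorem F321192 : act 5 n113766 = n63854 := (sb E82175 (iv5 D135797))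
theorem F321193 : act 7 n113766 = n135585 := (sb E82175 F218400)
theorem E84935 : n148756 = n135585 := (((iv1 F233540)).symm.trans (sb E82176 (iv1 F218409)))
theorem E84936 : n148755 = n63855 := ((F233547).symm.trans (sb E82176 (iv0 D135799)))
theorem F321194 : act 2 n113769 = n133248 := (sb E82176 (iv2 F218408))
theorem E84937 : n61878 = n52525 := ((((iv1 F161494)).symm.trans (sb E82177 (iv1 D131866)))).symm
theorem F321195 : act 5 n105316 = n133248 := (sb E82177 F214190)
theorem F321196 : act 3 n69717 = n61448 := (sb E82178 (iv3 D130977))
theorem E84938 : n148754 = n132229 := (((iv4 F233539)).symm.trans (sb E82178 (iv4 F211861)))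
theorem F321197 : act 7 n69717 = n133248 := (sb E82178 (iv7 F214188))
theorem F321198 : act 0 n105313 = n135345 := (sb E82179 (iv1 F217592))
theorem F321199 : act 2 n105313 = n133260 := (sb E82179 (iv2 F214219))
theorem F321200 : act 5 n105313 = n61448 := (sb E82179 (iv5 D130978))
theorem E84939 : n136914 = n61450 := (((iv4 F220087)).symm.trans (sb E82180 F209683))
theorem F321201 : act 6 n69715 = n61448 := (sb E82180 (iv6 D130979))
theorem E84940 : n133263 = n113738 := ((((iv1 F176981)).symm.trans (sb E82181 (iv1 F214223)))).symm
theorem E84941 : n133262 = n113740 := ((((iv0 F176987)).symm.trans (sb E82181 F214227))).symm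
theorem F321202 : act 2 n132310 = n73119 := (sb E82182 F242424)
theorem F321203 : act 3 n132310 = n78070 := (sb E82182 F242425)
theorem F321204 : act 4 n132310 = n123094 := (sb E82182 F242426)
theorem F321205 : act 6 n132310 = n73118 := (sb E82182 (iv6 D154333))
theorem F321206 : act 6 n108237 = n66346 := (sb E82183 (iv6 D141408))
theorem E84945 : n142796 = n139017 := (((D139017).symm.trans (sb E82184 (iv3 F225701)))).symm
theorem F321207 : act 6 n65257 = n31175 := (sb E82184 (iv6 D66935))
theorem F321208 : act 6 n115622 = n84430 := (sb E82187 (iv6 D177201))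
theorem E84948 : n107280 = n84436 := ((D107280).symm.trans (sb E82188 (iv6 D177214)))
theorem F321209 : act 2 n38931 = n66328 := (sb E82189 F224422)
theorem F321210 : act 6 n38931 = n66326 := (sb E82189 (iv6 D141379))
theorem E84956 : n143181 = n137465 := (((D137465).symm.trans (sb E82192 F226037))).symm
theorem E84966 : n143036 = n66431 := ((D143036).symm.trans (sb E82195 (iv1 D141637)))
theorem E84967 : n70224 = n66044 := (((D66044).symm.trans (sb E82196 (iv6 D149532)))).symm
theorem E84968 : n66046 = n40134 := ((D66046).symm.trans (sb E82197 F300078))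
theorem E84969 : n66047 = n39798 := ((D66047).symm.trans (sb E82197 (iv0 D86022)))
theorem E84970 : n180005 = n66033 := ((((iv3 F101713)).symm.trans (sb E82197 D180005))).symm
theorem E84971 : n180006 = n66039 := ((((iv4 F101717)).symm.trans (sb E82197 D180006))).symm
theorem E84972 : n75995 = n66048 := (((D66048).symm.trans (sb E82197 (iv5 F148169)))).symm
theorem E84973 : n66049 = n65066 := ((D66049).symm.trans (sb E82197 F312842))
theorem F321211 : act 3 n52890 = n69333 := (sb E82198 (iv3 D148027))
theorem F321212 : act 3 n48735 = n69328 := (sb E82199 (iv3 D148008))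
theorem F321213 : act 3 n105402 = n67985 := (sb E82203 F227967)
theorem F321214 : act 4 n105402 = n143973 := (sb E82203 (iv4 F227968))
theorem F321215 : act 3 n105403 = n67986 := (sb E82204 F227969)
theorem F321216 : act 3 n76473 = n69550 := (sb E82205 (iv3 D148424))
theorem F321217 : act 5 n44050 = n69550 := (sb E82206 (iv5 D148425))
theorem F321218 : act 3 n142308 = n152713 := (sb E82209 F278872)
theorem F321219 : act 5 n142308 = n85376 := (sb E82209 (iv5 D178976))
theorem F321220 : act 7 n69074 = n53662 := (sb E82211 (iv7 F181620))
theorem F321221 : act 2 n69139 = n53662 := (sb E82216 F181621)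
theorem F321222 : act 5 n69075 = n53662 := (sb E82217 (iv5 D116429))
theorem F321223 : act 0 n116430 = n129801 := (sb E82218 (iv1 F314521))
theorem F321224 : act 1 n116430 = n131609 := (sb E82218 F247968)
theorem F321225 : act 2 n116430 = n96662 := (sb E82218 (iv2 F308541))
theorem F321226 : act 5 n116430 = n74883 := (sb E82218 F247965)
theorem F321227 : act 7 n116430 = n74882 := (sb E82218 (iv7 D157430))
theorem F321228 : act 5 n54162 = n66794 := (sb E82219 (iv5 D142456))
theorem F321229 : act 0 n54878 = n53695 := (sb E82223 (iv1 F181787))
theorem F321230 : act 1 n54878 = n53694 := (sb E82223 F181788)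
theorem F321231 : act 6 n54878 = n66796 := (sb E82223 F181785)
theorem F321232 : act 7 n54878 = n53685 := (sb E82223 (iv7 D116485))
theorem E84974 : n152931 = n142132 := ((D152931).symm.trans (sb E82224 (iv0 F225160)))
theorem F321233 : act 3 n72183 = n59668 := (sb E82224 F181809)
theorem F321234 : act 6 n72183 = n66810 := (sb E82224 F181811)
theorem F321235 : act 7 n72183 = n53689 := (sb E82224 (iv7 D116497))
theorem F321236 : act 0 n72181 = n53685 := (sb E82225 (iv1 D116483))
theorem F321237 : act 1 n39370 = n53685 := (sb E82226 (iv0 D116482))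
theorem F321238 : act 2 n31025 = n53731 := (sb E82227 (iv2 D116602))
theorem F321239 : act 2 n116604 = n66458 := (sb E82228 (iv2 D141721))
theorem F321240 : act 7 n116229 = n53731 := (sb E82229 (iv7 D116607))
theorem F321241 : act 4 n114232 = n64525 := (sb E82234 (iv4 D137291))
theorem F321242 : act 0 n101861 = n109716 := (sb E82235 (iv1 F171338))
theorem F321243 : act 1 n101861 = n51773 := (sb E82235 F171321)
theorem F321244 : act 2 n101861 = n109719 := (sb E82235 (iv2 F171078))
theorem F321245 : act 5 n101861 = n50449 := (sb E82235 (iv5 D109326))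
theorem F321246 : act 7 n101861 = n109718 := (sb E82235 F171077)
theorem F321247 : act 2 n121493 = n127734 := (sb E82236 F313139)
theorem F321248 : act 4 n121493 = n65239 := (sb E82236 (iv4 D138984))
theorem F321249 : act 7 n121493 = n116919 := (sb E82236 F313140)
theorem F321250 : act 0 n68348 = n60950 := (sb E82237 F207440)
theorem F321251 : act 1 n68348 = n60948 := (sb E82237 F207441)
theorem E84975 : n145780 = n60746 := ((D145780).symm.trans (sb E82237 (iv5 D129221)))
theorem F321252 : act 6 n34779 = n60950 := (sb E82238 (iv6 D129780))
theorem F321253 : act 2 n141450 = n66390 := (sb E82255 F224575)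
theorem F321254 : act 7 n141450 = n66385 := (sb E82255 (iv7 D141522))
theorem F321255 : act 1 n141452 = n67405 := (sb E82257 F319208)
theorem F321256 : act 2 n141452 = n66392 := (sb E82257 F224582)
theorem F321257 : act 5 n141452 = n99592 := (sb E82257 F319209)
theorem F321258 : act 7 n141452 = n71087 := (sb E82257 F316862)
theorem E84976 : n159675 = n66261 := ((D159675).symm.trans (sb E82258 F224241))
theorem F321259 : act 5 n76393 = n66240 := (sb E82258 F224242)
theorem F321260 : act 0 n31973 = n66363 := (sb E82259 (iv1 D141454))
theorem E84977 : n116052 = n68721 := (((D68721).symm.trans (sb E82259 (iv5 F224483)))).symm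
theorem F321261 : act 2 n121243 = n126864 := (sb E82267 F220470)
theorem F321262 : act 5 n121243 = n64537 := (sb E82267 (iv5 D137312))
theorem F321263 : act 0 n49761 = n55243 := (sb E82268 (iv1 D120053))
theorem E84978 : n136770 = n120091 := (((D120091).symm.trans (sb E82269 (iv1 F219972)))).symm
theorem E84979 : n120092 = n64260 := ((D120092).symm.trans (sb E82269 (iv0 D136726)))
theorem F321264 : act 0 n128379 = n107288 := (sb E82273 F224568)
theorem F321265 : act 1 n128379 = n107284 := (sb E82273 (iv0 F224569))
theorem F321266 : act 6 n118329 = n66385 := (sb E82282 (iv6 D141521))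
theorem F321267 : act 5 n105805 = n66389 := (sb E82284 (iv5 D141536))
theorem F321268 : act 4 n116149 = n127440 := (sb E82287 F227787)
theorem F321269 : act 7 n116149 = n146031 := (sb E82287 (iv7 F229255))
theorem F321270 : act 4 n31572 = n66363 := (sb E82288 (iv4 D141455))
theorem E84981 : n159946 = n105770 := ((((iv1 F191366)).symm.trans (sb E82289 F252259))).symm
theorem E84982 : n146236 = n67899 := ((D146236).symm.trans (sb E82289 F227791))
theorem F321271 : act 2 n141192 = n66237 := (sb E82290 (iv2 D141210))
theorem F321272 : act 7 n141192 = n66238 := (sb E82290 (iv7 F224238))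
theorem F321273 : act 4 n55237 = n66237 := (sb E82291 (iv4 D141212))
theorem F321274 : act 6 n55236 = n66237 := (sb E82292 (iv6 D141214))
theorem F321275 : act 0 n141917 = n154706 := (sb E82294 (iv1 F242877))
theorem F321276 : act 6 n141805 = n70988 := (sb E82298 (iv6 D150609))
theorem F321277 : act 6 n32879 = n66485 := (sb E82299 (iv6 D141806))
theorem F321278 : act 1 n65668 = n60879 := (sb E82300 F181177)
theorem F321279 : act 2 n65668 = n66486 := (sb E82300 (iv2 F181180))
theorem E84983 : n62489 = n59605 := (((F162514).symm.trans (sb E82300 F181179))).symm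
theorem F321280 : act 7 n65668 = n66485 := (sb E82300 F181178)
theorem F321281 : act 6 n127149 = n68560 := (sb E82301 (iv6 D146205))
theorem F321282 : act 7 n127149 = n179642 := (sb E82301 (iv7 F279756))
theorem F321283 : act 5 n31896 = n59707 := (sb E82302 (iv5 D127179))
theorem F321284 : act 6 n31896 = n59711 := (sb E82302 F204456)
theorem F321285 : act 1 n85532 = n49712 := (sb E82303 (iv0 D107610))
theorem F321286 : act 0 n85531 = n49712 := (sb E82304 (iv1 D107611))
theorem F321287 : act 0 n39479 = n49750 := (sb E82306 (iv1 D107689))
theorem E84984 : n160066 = n65461 := ((D160066).symm.trans (sb E82307 F180641))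
theorem E84985 : n160067 = n53940 := ((D160067).symm.trans (sb E82307 F182978))
theorem F321288 : act 3 n76655 = n50591 := (sb E82307 (iv3 D109687))
theorem E84986 : n160068 = n115994 := ((D160068).symm.trans (sb E82307 (iv4 F180619)))
theorem F321289 : act 7 n76655 = n65602 := (sb E82307 F205134)
theorem F321290 : act 6 n109688 = n54716 := (sb E82308 (iv6 D118886))
theorem F321291 : act 6 n118184 = n67676 := (sb E82309 (iv6 D144422))
theorem F321292 : act 6 n65636 = n54474 := (sb E82310 (iv6 D118276))
theorem F321293 : act 6 n116865 = n68013 := (sb E82313 (iv6 D145100))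
theorem E84987 : n109557 = n102645 := (((D102645).symm.trans (sb E82320 (iv0 F226000)))).symm
theorem F321294 : act 3 n47606 = n67081 := (sb E82320 F225998)
theorem E84988 : n109931 = n89446 := ((((iv4 F137110)).symm.trans (sb E82320 F225999))).symm
theorem E84989 : n102646 = n67078 := ((D102646).symm.trans (sb E82320 (iv7 D143140)))
theorem F321295 : act 2 n99826 = n67131 := (sb E82321 F226005)
theorem F321296 : act 5 n99826 = n67081 := (sb E82321 F226006)
theorem F321297 : act 7 n99826 = n67079 := (sb E82321 (iv7 D143144))
theorem F321298 : act 5 n54693 = n67045 := (sb E82324 (iv5 D143065))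
theorem F321299 : act 0 n31247 = n26452 := (sb E82331 (iv1 F318353))
theorem E84990 : n156871 = n53686 := (((F102516).symm.trans (sb E82337 (iv2 F246882)))).symm
theorem E84991 : n66802 = n65226 := ((D66802).symm.trans (sb E82337 (iv6 D138936)))
theorem E84994 : n142003 = n108252 := ((((iv2 F221941)).symm.trans (sb E82338 (iv2 F225030)))).symm
theorem F321300 : act 6 n65172 = n31072 := (sb E82338 (iv6 D66593))
theorem E84999 : n142015 = n124867 := (((D124867).symm.trans (sb E82339 (iv3 F225055)))).symm
theorem F321301 : act 6 n58378 = n31073 := (sb E82339 (iv6 D66599))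
theorem E85005 : n142024 = n74477 := (((D74477).symm.trans (sb E82340 D142024))).symm
theorem E85006 : n142025 = n74478 := (((D74478).symm.trans (sb E82340 D142025))).symm
theorem E85015 : n140831 = n138546 := (((D138546).symm.trans (sb E82342 (iv6 F223910)))).symm
theorem F321302 : act 0 n66615 = n74471 := (sb E82344 (iv1 D156611))
theorem F321303 : act 1 n66616 = n74471 := (sb E82345 (iv0 D156610))
theorem E85017 : n142038 = n138809 := ((((iv3 F221989)).symm.trans (sb E82346 (iv3 F225063)))).symm
theorem E85018 : n142043 = n124874 := ((((iv4 F314713)).symm.trans (sb E82346 (iv4 F225064)))).symm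
theorem E85019 : n142057 = n138816 := (((D138816).symm.trans (sb E82346 (iv5 F225069)))).symm
theorem F321304 : act 7 n65180 = n31080 := (sb E82346 (iv7 D66618))
theorem F321305 : act 3 n79001 = n69491 := (sb E82347 (iv3 D148233))
theorem F321306 : act 4 n79001 = n69493 := (sb E82347 F232064)
theorem F321307 : act 6 n70326 = n69491 := (sb E82348 (iv6 D148235))
theorem F321308 : act 1 n66074 = n67286 := (sb E82349 (iv0 D143663))
theorem F321309 : act 0 n66079 = n67286 := (sb E82350 (iv1 D143664))
theorem F321310 : act 3 n114469 = n67250 := (sb E82351 (iv3 D143600))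
theorem F321311 : act 0 n66529 = n128009 := (sb E82352 (iv1 F264275))
theorem E85020 : n141906 = n116629 := ((D141906).symm.trans (sb E82352 (tr F264274 E83678)))
theorem F321312 : act 1 n66530 = n128009 := (sb E82353 F264278)
theorem E85021 : n150850 = n141913 := (((D141913).symm.trans (sb E82353 (iv6 F264282)))).symm
theorem E85022 : n153618 = n141915 := (((D141915).symm.trans (sb E82354 F264286))).symm
theorem E85023 : n142129 = n118231 := ((D142129).symm.trans (sb E82355 F278530))
theorem E85024 : n142133 = n83736 := ((D142133).symm.trans (sb E82355 F264256))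
theorem E85025 : n152724 = n142136 := (((D142136).symm.trans (sb E82356 F264261))).symm
theorem E85026 : n142142 = n80553 := ((D142142).symm.trans (sb E82357 (iv1 F123839)))
theorem E85027 : n142143 = n35662 := ((D142143).symm.trans (sb E82357 (iv0 D78248)))
theorem E85028 : n142127 = n60346 := (((iv2 F225157)).symm.trans (sb E82357 F201134))
theorem E85029 : n142144 = n130266 := ((D142144).symm.trans (sb E82357 (iv4 F310693)))
theorem E85030 : n142145 = n58525 := ((D142145).symm.trans (sb E82357 F201137))
theorem E85031 : n142146 = n80551 := ((D142146).symm.trans (sb E82357 (iv7 F201235)))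
theorem E85032 : n142151 = n127964 := ((D142151).symm.trans (sb E82359 F264267))
theorem E85033 : n142152 = n127966 := ((D142152).symm.trans (sb E82359 F264268))
theorem E85034 : n142153 = n137952 := ((D142153).symm.trans (sb E82359 (tr (iv2 F278909) E84285)))
theorem E85035 : n151359 = n142155 := (((D142155).symm.trans (sb E82359 (iv5 F307636)))).symm
theorem E85036 : n150857 = n142156 := (((D142156).symm.trans (sb E82359 F264265))).symm
theorem E85037 : n147905 = n142159 := (((D142159).symm.trans (sb E82360 F264270))).symm
theorem E85038 : n142160 = n130313 := ((D142160).symm.trans (sb E82361 (iv4 F315322)))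
theorem E85039 : n142161 = n85787 := ((D142161).symm.trans (sb E82361 F201144))
theorem E85040 : n142162 = n32931 := ((D142162).symm.trans (sb E82362 (iv1 D71121)))
theorem E85041 : n142163 = n74478 := ((D142163).symm.trans (sb E82362 F317005))
theorem E85042 : n142150 = n74483 := (((iv2 F225174)).symm.trans (sb E82362 F316996))
theorem E85043 : n150859 = n142164 := (((D142164).symm.trans (sb E82362 D150859))).symm
theorem E85044 : n142165 = n74484 := ((D142165).symm.trans (sb E82362 F316997))
theorem F321313 : act 1 n127211 = n127976 := (sb E82883 (iv0 F264597))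
theorem F321314 : act 2 n127211 = n150534 := (sb E82883 F264599)
theorem F321315 : act 3 n127211 = n80602 := (sb E82883 (iv3 D167917))
theorem F321316 : act 2 n66621 = n31087 := (sb E82364 (iv2 D66643))
theorem F321317 : act 7 n66621 = n31088 := (sb E82364 (iv7 F102572))
theorem F321318 : act 2 n66622 = n31088 := (sb E82365 F102573)
theorem F321319 : act 7 n66622 = n31087 := (sb E82365 (iv7 D66648))
theorem F321320 : act 3 n137951 = n66621 := (sb E82366 (iv3 D142066))
theorem F321321 : act 7 n137951 = n66649 := (sb E82368 F225154)
theorem F321322 : act 2 n142067 = n66645 := (sb E82369 F225155)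
theorem F321323 : act 7 n142067 = n66650 := (sb E82369 F225156)
theorem F321324 : act 2 n140921 = n66647 := (sb E82370 F225159)
theorem F321325 : act 7 n142070 = n66644 := (sb E82371 (iv7 D142135))
theorem F321326 : act 2 n142071 = n66650 := (sb E82372 F225167)
theorem F321327 : act 7 n142071 = n66645 := (sb E82372 (iv7 D142141))
theorem F321328 : act 2 n141886 = n66529 := (sb E82373 (iv2 D141904))
theorem F321329 : act 7 n141886 = n66530 := (sb E82373 (iv7 F224953))
theorem F321330 : act 2 n141887 = n66530 := (sb E82374 F224954)
theorem F321331 : act 7 n141887 = n66529 := (sb E82374 (iv7 D141909))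
theorem F321332 : act 0 n116491 = n67352 := (sb E82375 (iv1 D143791))
theorem F321333 : act 0 n139094 = n67231 := (sb E82376 (iv1 F226258))
theorem F321334 : act 1 n139094 = n67226 := (sb E82376 (iv0 D143548))
theorem F321335 : act 1 n117448 = n95389 := (sb E82377 F306477)
theorem F321336 : act 3 n117448 = n57122 := (sb E82377 F196851)
theorem F321337 : act 5 n117448 = n70666 := (sb E82377 F306479)
theorem F321338 : act 7 n117448 = n57114 := (sb E82377 (iv7 D122853))
theorem F321339 : act 1 n104240 = n146013 := (sb E82378 (iv0 F229234))
theorem F321340 : act 2 n104240 = n54122 := (sb E82378 F183511)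
theorem F321341 : act 4 n104240 = n54046 := (sb E82378 (iv4 D117272))
theorem F321342 : act 6 n104240 = n54048 := (sb E82378 F183512)
theorem F321343 : act 5 n104235 = n54122 := (sb E82379 (iv5 D117449))
theorem F321344 : act 1 n117450 = n57114 := (sb E82380 (iv0 D122850))
theorem F321345 : act 2 n117450 = n95389 := (sb E82380 F306473)
theorem F321346 : act 3 n132077 = n84173 := (sb E82382 F275872)
theorem F321347 : act 5 n132077 = n173699 := (sb E82382 F275873)
theorem F321348 : act 2 n80431 = n63266 := (sb E82383 F216653)
theorem F321349 : act 4 n80431 = n54626 := (sb E82383 (iv4 D118634))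
theorem F321350 : act 7 n80431 = n63271 := (sb E82383 F216654)
theorem F321351 : act 3 n118636 = n75369 := (sb E82384 F249245)
theorem F321352 : act 4 n118636 = n75775 := (sb E82384 (iv4 F299491))
theorem F321353 : act 7 n118636 = n77127 := (sb E82384 F298786)
theorem F321354 : act 3 n34617 = n63271 := (sb E82390 (iv3 D134654))
theorem F321355 : act 3 n134655 = n75703 := (sb E82391 F249861)
theorem F321356 : act 7 n134655 = n167596 := (sb E82391 (iv7 F263858))
theorem F321357 : act 3 n134656 = n75704 := (sb E82392 F249862)
theorem F321358 : act 5 n134656 = n162607 := (sb E82392 (iv5 F256838))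
theorem F321360 : act 3 n134660 = n75727 := (sb E82396 F249917)
theorem F321361 : act 5 n134660 = n166226 := (sb E82396 F300900)
theorem F321362 : act 6 n134660 = n77127 := (sb E82396 F300901)
theorem E85047 : n121322 = n53000 := ((D121322).symm.trans (sb E82397 (iv3 D114861)))
theorem F321363 : act 5 n55969 = n114395 := (sb E82397 F178929)
theorem E85048 : n121345 = n121316 := (((F193449).symm.trans (sb E82397 (iv7 F193559)))).symm
theorem E85049 : n155975 = n103177 := (((D103177).symm.trans (sb E82398 (iv2 F245011)))).symm
theorem E85050 : n103180 = n68979 := ((D103180).symm.trans (sb E82398 (iv6 D147121)))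
theorem E85051 : n136279 = n103185 := (((D103185).symm.trans (sb E82399 F230679))).symm
theorem F321364 : act 6 n32089 = n23013 := (sb E82400 (iv6 D47824))
theorem F321365 : act 1 n105432 = n68684 := (sb E82401 (iv0 D146521))
theorem F321366 : act 4 n68978 = n44682 := (sb E82403 (iv4 D95660))
theorem F321367 : act 2 n45338 = n44682 := (sb E82404 (iv2 D95658))
theorem E85054 : n96986 = n44683 := ((D96986).symm.trans (sb E82404 (iv7 F147355)))
theorem F321368 : act 7 n45339 = n44682 := (sb E82405 (iv7 D95663))
theorem E85055 : n177356 = n166607 := (((D166607).symm.trans (sb E82406 (iv0 F276743)))).symm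
theorem F321369 : act 2 n79961 = n86506 := (sb E82406 F262148)
theorem E85056 : n166608 = n79951 := ((D166608).symm.trans (sb E82406 (iv5 D166582)))
theorem F321370 : act 7 n79961 = n162841 := (sb E82406 F262149)
theorem F321371 : act 5 n97270 = n68592 := (sb E82407 (iv5 D146272))
theorem F321372 : act 0 n98215 = n133858 := (sb E82408 (iv1 F215574))
theorem F321373 : act 1 n98215 = n61173 := (sb E82408 F215568)
theorem E85057 : n158440 = n133857 := (((iv2 F249638)).symm.trans (sb E82408 (iv2 F215567)))
theorem E85058 : n158226 = n134640 := (((iv4 F249271)).symm.trans (sb E82408 (iv4 F216607)))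
theorem F321374 : act 5 n98215 = n61088 := (sb E82408 (iv5 D130114))
theorem F321375 : act 7 n98215 = n132766 := (sb E82408 (iv7 F213226))
theorem F321376 : act 0 n98216 = n87785 := (sb E82409 F315088)
theorem F321377 : act 1 n98216 = n152166 := (sb E82409 (iv0 F239242))
theorem F321378 : act 7 n98216 = n132770 := (sb E82409 (iv7 F213237))
theorem F321379 : act 5 n28948 = n45908 := (sb E82410 (iv5 D98219))
theorem E85059 : n73266 = n72858 := (((F241966).symm.trans (sb E82412 (iv3 D154565)))).symm
theorem F321380 : act 4 n153946 = n128168 := (sb E82412 (iv4 F305637))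
theorem E85060 : n173354 = n123598 := ((D173354).symm.trans (sb E82413 (iv2 F198016)))
theorem F321381 : act 3 n82960 = n114066 := (sb E82413 F178896)
theorem E85061 : n173357 = n52983 := ((D173357).symm.trans (sb E82413 (iv6 D114820)))
theorem F321382 : act 2 n83102 = n143870 := (sb E82414 (iv2 F310286))
theorem E85064 : n173964 = n173777 := (((D173777).symm.trans (sb E82414 (iv3 F272615)))).symm
theorem E85065 : n173966 = n119441 := ((((iv4 F273680)).symm.trans (sb E82414 (iv4 F272616)))).symm
theorem E85067 : n173780 = n38292 := ((D173780).symm.trans (sb E82414 (iv6 D83185)))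
theorem F321383 : act 0 n81582 = n48034 := (sb E82415 (iv1 D103726))
theorem F321384 : act 1 n81582 = n48039 := (sb E82415 F159174)
theorem F321385 : act 0 n103753 = n69215 := (sb E82416 (iv1 D147702))
theorem F321386 : act 3 n103753 = n113453 := (sb E82416 (iv3 F231452))
theorem F321387 : act 4 n103753 = n109691 := (sb E82416 (iv4 F231451))
theorem F321388 : act 2 n95867 = n69215 := (sb E82417 (iv2 D147703))
theorem F321389 : act 3 n104662 = n69216 := (sb E82418 F231453)
theorem F321390 : act 6 n104662 = n69215 := (sb E82418 (iv6 D147704))
theorem F321391 : act 3 n95862 = n59891 := (sb E82419 F204975)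
theorem F321392 : act 7 n95862 = n69215 := (sb E82419 F204976)
theorem F321393 : act 3 n95863 = n59892 := (sb E82422 F204977)
theorem F321394 : act 3 n51944 = n47798 := (sb E82425 (iv3 D103102))
theorem F321395 : act 3 n89250 = n112579 := (sb E82426 F231247)
theorem F321396 : act 6 n89250 = n69124 := (sb E82426 F231248)
theorem F321397 : act 3 n103104 = n112032 := (sb E82427 F231249)
theorem F321398 : act 3 n64410 = n118905 := (sb E82428 F240463)
theorem E85069 : n178700 = n79565 := (((iv5 F278533)).symm.trans (sb E82438 (iv5 D165667)))
theorem F321399 : act 5 n36235 = n62277 := (sb E82440 (iv5 D132708))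
theorem E85072 : n181863 = n178689 := (((D178689).symm.trans (sb E82443 (iv5 F283107)))).symm
theorem F321401 : act 4 n118480 = n86120 := (sb E82444 (iv4 D180307))
theorem F321402 : act 6 n83160 = n86120 := (sb E82445 (iv6 D180308))
theorem F321403 : act 3 n115378 = n72132 := (sb E82452 F240070)
theorem E85073 : n163208 = n136725 := ((D163208).symm.trans (sb E82456 (iv2 F219881)))
theorem F321404 : act 4 n78444 = n53873 := (sb E82456 F182651)
theorem E85074 : n157220 = n121105 := ((((iv7 F193135)).symm.trans (sb E82456 (iv7 F247411)))).symm
theorem E85075 : n151268 = n110994 := ((D151268).symm.trans (sb E82459 F295857))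
theorem E85076 : n151270 = n48059 := ((D151270).symm.trans (sb E82459 F159231))
theorem E85077 : n151271 = n48058 := ((D151271).symm.trans (sb E82459 (iv5 D103798)))
theorem F321405 : act 6 n71290 = n108221 := (sb E82459 F295861)
theorem F321406 : act 7 n71290 = n49647 := (sb E82459 F295862)
theorem F321407 : act 1 n51181 = n32992 := (sb E82460 (iv0 D71296))
theorem F321408 : act 0 n51180 = n32992 := (sb E82461 (iv1 D71297))
theorem F321409 : act 2 n51183 = n32992 := (sb E82462 (iv2 D71298))
theorem F321410 : act 5 n36396 = n68530 := (sb E82463 (iv5 D146149))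
theorem E85088 : n42064 = n28155 := ((F297387).symm.trans (sb E82470 F93530))
theorem F321411 : act 3 n112565 = n58655 := (sb E82471 F201506)
theorem F321412 : act 6 n112565 = n58653 := (sb E82471 (iv6 D125293))
theorem E85090 : n109616 = n57557 := ((((iv3 F299814)).symm.trans (sb E82472 (iv3 F174145)))).symm
theorem F321413 : act 0 n17523 = n24822 := (sb E82473 (iv1 F39728))
theorem F321414 : act 1 n17523 = n24821 := (sb E82473 F39726)
theorem F321415 : act 2 n17523 = n11968 := (sb E82473 (iv2 D25220))
theorem E85091 : n24783 = n8267 := (((F28521).symm.trans (sb E82473 F39723))).symm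
theorem F321416 : act 7 n17523 = n24823 := (sb E82473 F39725)
theorem E85093 : n77399 = n5497 := ((((iv3 D11760)).symm.trans (sb E82474 (iv3 F301723)))).symm
theorem E85094 : n24824 = n19039 := ((D24824).symm.trans (sb E82474 (iv6 D40288)))
theorem E85095 : n50817 = n41870 := (((iv1 F171276)).symm.trans (sb E82475 F296277))
theorem E85096 : n110669 = n47688 := ((D110669).symm.trans (sb E82475 (iv0 F297233)))
theorem E85097 : n109548 = n47687 := (((iv2 F171336)).symm.trans (sb E82475 (iv2 F297229)))
theorem E85098 : n84274 = n51567 := (((F81389).symm.trans (sb E82475 (iv4 F297262)))).symm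
theorem E85099 : n52061 = n36458 := (((iv5 F171320)).symm.trans (sb E82475 (iv5 F88952)))
theorem F321417 : act 6 n51029 = n27098 := (sb E82475 (iv6 D56239))
theorem F321418 : act 7 n51029 = n47686 := (sb E82475 (iv7 F297227))
theorem E85100 : n27107 = n12000 := ((F43821).symm.trans (sb E82476 (iv0 D25274)))
theorem F321419 : act 2 n17601 = n24782 := (sb E82476 (iv2 F171058))
theorem F321420 : act 5 n17601 = n24821 := (sb E82476 F171315)
theorem F321421 : act 7 n17601 = n24781 := (sb E82476 (iv7 F171063))
theorem F321422 : act 6 n54063 = n84840 := (sb E82477 (iv6 D178264))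
theorem E85102 : n110690 = n86710 := ((D110690).symm.trans (sb E82478 F132975))
theorem E85103 : n109372 = n44984 := ((F171299).symm.trans (sb E82478 F296342))
theorem E85104 : n110691 = n95273 := ((D110691).symm.trans (sb E82478 (iv2 F296827)))
theorem E85105 : n162918 = n110692 := (((D110692).symm.trans (sb E82478 D162918))).symm
theorem E85106 : n52066 = n35698 := ((F171303).symm.trans (sb E82478 (iv5 D78317)))
theorem E85107 : n110693 = n35701 := ((D110693).symm.trans (sb E82478 F119529))
theorem F321423 : act 7 n51034 = n36384 := (sb E82478 F119530)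
theorem F321424 : act 2 n17306 = n24781 := (sb E82479 F171064)
theorem F321425 : act 5 n17306 = n24822 := (sb E82479 F171314)
theorem F321426 : act 7 n17306 = n24782 := (sb E82479 F171065)
theorem F321427 : act 6 n17309 = n24822 := (sb E82480 (iv6 D51037))
theorem F321428 : act 0 n12908 = n25159 := (sb E82481 (iv1 F39594))
theorem F321429 : act 1 n12908 = n25158 := (sb E82481 F39590)
theorem F321430 : act 7 n12908 = n25160 := (sb E82481 (iv7 F39592))
theorem E85115 : n25162 = n8110 := ((D25162).symm.trans (sb E82482 (iv6 D17324)))
theorem F321431 : act 7 n11946 = n8129 := (sb E82482 F28254)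
theorem E85116 : n35241 = n25182 := (((F105374).symm.trans (sb E82483 (iv1 F254930)))).symm
theorem E85117 : n110263 = n80003 := ((F170481).symm.trans (sb E82483 (iv0 F254931)))
theorem E85118 : n110200 = n80002 := (((iv2 F170361)).symm.trans (sb E82483 (iv2 F254942)))
theorem E85119 : n121258 = n50676 := (((F81843).symm.trans (sb E82483 D121258))).symm
theorem E85120 : n121259 = n112331 := (((D112331).symm.trans (sb E82483 D121259))).symm
theorem F321432 : act 7 n51821 = n35850 := (sb E82483 F119897)
theorem E85121 : n78746 = n51845 := (((D51845).symm.trans (sb E82484 (iv4 F119902)))).symm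
theorem E85122 : n51847 = n17362 := ((D51847).symm.trans (sb E82484 (iv6 D35853)))
theorem E85123 : n112335 = n55913 := ((D112335).symm.trans (sb E82485 (iv1 F88519)))
theorem E85124 : n112336 = n35822 := ((D112336).symm.trans (sb E82485 (iv0 F88518)))
theorem F321433 : act 2 n51824 = n35858 := (sb E82485 (iv2 F119882))
theorem E85126 : n112338 = n50739 := ((D112338).symm.trans (sb E82485 (tr F119893 E84431)))
theorem F321434 : act 0 n77621 = n78873 := (sb E82486 F319449)
theorem E85127 : n147381 = n131530 := ((((iv3 F314725)).symm.trans (sb E82486 (iv3 F231098)))).symm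
theorem F321435 : act 1 n77443 = n39844 := (sb E82488 F122490)
theorem E85128 : n163931 = n161314 := ((((iv3 F255135)).symm.trans (sb E82488 (iv3 F258365)))).symm
theorem F321436 : act 6 n77443 = n35856 := (sb E82488 (iv6 D78757))
theorem F321437 : act 4 n51824 = n77621 := (sb E82489 (iv4 D161609))
theorem E85129 : n158775 = n50739 := (E83351).trans E84431
theorem F321438 : act 0 n75744 = n39844 := (sb E82490 (iv1 D86076))
theorem E85130 : n180162 = n133062 := ((((iv3 F312345)).symm.trans (sb E82490 D180162))).symm
theorem E85131 : n158776 = n50737 := ((D158776).symm.trans (sb E82490 (tr (iv6 F132013) E84430)))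
theorem E85132 : n79947 = n50792 := ((((iv1 F170118)).symm.trans (sb E82491 F255041))).symm
theorem E85133 : n50796 = n35779 := ((F170134).symm.trans (sb E82491 (iv0 F255042)))
theorem E85134 : n79945 = n50791 := (((F105373).symm.trans (sb E82491 (iv2 F255033)))).symm
theorem E85135 : n121250 = n112339 := (((D112339).symm.trans (sb E82491 D121250))).symm
theorem E85136 : n95284 = n51849 := ((((iv5 F81885)).symm.trans (sb E82491 (iv5 F296326)))).symm
theorem E85137 : n112340 = n50741 := ((D112340).symm.trans (sb E82491 (tr F119911 E84412)))
theorem F321439 : act 7 n51826 = n35855 := (sb E82491 F119890)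
theorem E85138 : n121254 = n51850 := (((D51850).symm.trans (sb E82492 D121254))).symm
theorem E85139 : n78638 = n51852 := (((D51852).symm.trans (sb E82492 F119807))).symm
theorem E85143 : n50744 = n25159 := ((D50744).symm.trans (sb E82493 (iv6 D51829)))
theorem F321440 : act 0 n86223 = n108018 := (sb E82494 (iv1 F171143))
theorem F321441 : act 1 n86223 = n50989 := (sb E82494 (iv0 D110581))
theorem F321442 : act 3 n86223 = n113223 := (sb E82494 F176413)
theorem F321443 : act 7 n86223 = n108016 := (sb E82494 F171144)
theorem F321444 : act 1 n86225 = n108016 := (sb E82495 F171149)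
theorem E85145 : n180548 = n50989 := (((iv2 F281001)).symm.trans (sb E82495 (iv2 D110582)))
theorem E85146 : n180549 = n69205 := ((D180549).symm.trans (sb E82495 F171146))
theorem E85147 : n180550 = n108915 := ((D180550).symm.trans (sb E82495 F171147))
theorem E85148 : n180551 = n148879 := ((D180551).symm.trans (sb E82495 F233928))
theorem E85149 : n180543 = n108018 := ((F281000).symm.trans (sb E82495 F171148))
theorem F321445 : act 1 n49885 = n39903 := (sb E82496 (iv0 D86224))
theorem E85154 : n170841 = n50369 := (((D50369).symm.trans (sb E82497 (iv1 F268440)))).symm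
theorem E85156 : n170843 = n50370 := (((D50370).symm.trans (sb E82497 (iv2 F268445)))).symm
theorem F321446 : act 4 n24557 = n39899 := (sb E82497 F132162)
theorem E85157 : n180510 = n50373 := (((D50373).symm.trans (sb E82497 (iv5 F280928)))).symm
theorem E85158 : n58040 = n50374 := (((D50374).symm.trans (sb E82497 F132163))).symm
theorem E85159 : n50375 = n39896 := ((D50375).symm.trans (sb E82497 (iv7 D86203)))
theorem F321447 : act 4 n109114 = n58102 := (sb E82498 F199044)
theorem F321448 : act 7 n109114 = n58038 := (sb E82498 (iv7 D124454))
theorem F321449 : act 7 n86197 = n50371 := (sb E82499 (iv7 D109115))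
theorem E85160 : n34473 = n25147 := ((((iv1 F39565)).symm.trans (sb E82500 (iv1 F255014)))).symm
theorem E85161 : n38873 = n11676 := ((((iv0 D24656)).symm.trans (sb E82500 (iv0 F255015)))).symm
theorem E85162 : n38872 = n25146 := ((((iv2 F170003)).symm.trans (sb E82500 F254997))).symm
theorem F321450 : act 3 n24656 = n27919 := (sb E82500 (iv3 D58723))
theorem E85163 : n125415 = n50626 := (((D50626).symm.trans (sb E82500 D125415))).symm
theorem E85164 : n51791 = n24683 := ((((iv5 F81877)).symm.trans (sb E82500 (tr F255010 E84456)))).symm
theorem E85165 : n125324 = n50628 := (((D50628).symm.trans (sb E82500 (iv6 F201580)))).symm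
theorem E85166 : n84294 = n24683 := (E84456).trans E85164
theorem E85169 : n57441 = n28148 := (((iv1 F91658)).symm.trans (sb E82503 (iv1 D59282)))
theorem E85170 : n110274 = n27646 := ((((iv0 D57934)).symm.trans (sb E82503 F170512))).symm
theorem E85171 : n76902 = n50630 := (((iv2 F254961)).symm.trans (sb E82503 F169993))
theorem E85172 : n124267 = n51879 := ((D124267).symm.trans (sb E82503 (iv4 F169979)))
theorem E85173 : n126371 = n39897 := (((F299645).symm.trans (sb E82503 D126371))).symm
theorem E85175 : n50377 = n37506 := ((((iv1 D81905)).symm.trans (sb E82506 (iv1 F169115)))).symm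
theorem E85176 : n50703 = n39898 := ((((iv2 F280939)).symm.trans (sb E82506 (iv2 F170028)))).symm
theorem E85177 : n170848 = n108991 := ((D170848).symm.trans (sb E82506 F169108))
theorem F321451 : act 0 n51727 = n39899 := (sb E82507 (iv1 F126251))
theorem E85178 : n84298 = n25119 := ((((iv3 D51727)).symm.trans (sb E82507 F297484))).symm
theorem E85179 : n170845 = n110122 := (((F170261).symm.trans (sb E82507 D170845))).symm
theorem E85180 : n112156 = n50630 := ((D112156).symm.trans (sb E82507 (tr (iv6 F299535) E85171)))
theorem F321452 : act 2 n28060 = n39899 := (sb E82508 F126248)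
theorem E85181 : n59051 = n57890 := ((D59051).symm.trans (sb E82508 F297485))
theorem E85182 : n59052 = n57892 := ((D59052).symm.trans (sb E82508 F297486))
theorem E85184 : n58023 = n51676 := (((iv0 F91788)).symm.trans (sb E82509 (iv0 F173313)))
theorem E85185 : n84808 = n66018 := (((iv4 F130013)).symm.trans (sb E82509 (iv4 F169596)))
theorem E85187 : n58709 = n24631 := ((D58709).symm.trans (sb E82512 (iv3 D50561)))
theorem E85189 : n109618 = n57423 := ((((iv3 F121103)).symm.trans (sb E82513 (iv3 F170778)))).symm
theorem E85190 : n110385 = n84872 := ((((iv3 F130077)).symm.trans (sb E82514 F175615))).symm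
theorem F321453 : act 6 n112566 = n84864 := (sb E82517 (iv6 D178352))
theorem E85193 : n96343 = n59059 := ((((iv2 F93245)).symm.trans (sb E82518 (iv2 F148283)))).symm
theorem E85195 : n59078 = n27914 := ((D59078).symm.trans (sb E82518 (iv6 D58712)))
theorem E85196 : n125377 = n113225 := ((D125377).symm.trans (sb E82519 F202790))
theorem F321454 : act 6 n58710 = n59076 := (sb E82519 (iv6 D126086))
theorem E85198 : n125386 = n13367 := ((((iv4 F22237)).symm.trans (sb E82520 D125386))).symm
theorem E85201 : n125393 = n59041 := (((D59041).symm.trans (sb E82521 D125393))).symm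
theorem E85202 : n50954 = n45025 := (((iv5 F170326)).symm.trans (sb E82522 F71164))
theorem E85203 : n59069 = n21558 := ((D59069).symm.trans (sb E82522 (iv6 D45160)))
theorem E85204 : n48515 = n14953 := ((D48515).symm.trans (sb E82523 (iv1 F170981)))
theorem E85205 : n50956 = n48516 := (((D48516).symm.trans (sb E82523 (iv0 F170982)))).symm
theorem E85206 : n59079 = n48514 := ((((iv4 F76350)).symm.trans (sb E82523 D59079))).symm
theorem F321455 : act 5 n23670 = n13386 := (sb E82523 (iv5 D28067))
theorem F321456 : act 6 n13311 = n13386 := (sb E82524 (iv6 D28068))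
theorem F321457 : act 5 n51015 = n86268 := (sb E82531 (iv5 F303802))
theorem E85212 : n110637 = n39055 := ((D110637).symm.trans (sb E82531 (iv6 F302671)))
theorem F321458 : act 7 n51015 = n36398 := (sb E82531 (iv7 F301334))
theorem E85215 : n163115 = n28025 := ((((iv2 F45293)).symm.trans (sb E82532 (iv2 F257430)))).symm
theorem E85217 : n35743 = n28030 := (((D28030).symm.trans (sb E82532 (iv6 D78441)))).symm
theorem F321459 : act 6 n17323 = n25161 := (sb E82533 (iv6 D51835))
theorem F321460 : act 2 n78450 = n52047 := (sb E82534 F175558)
theorem E85222 : n52046 = n35845 := (((F119636).symm.trans (sb E82534 (iv5 D112758)))).symm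
theorem F321461 : act 0 n78448 = n52047 := (sb E82535 F174901)
theorem E85223 : n55807 = n51853 := ((((iv1 F81888)).symm.trans (sb E82536 (iv1 D121009)))).symm
theorem F321462 : act 4 n50747 = n58721 := (sb E82536 F302145)
theorem F321463 : act 5 n50747 = n85774 := (sb E82536 F316265)
theorem E85224 : n110026 = n77684 := ((D110026).symm.trans (sb E82536 (tr F302147 E84823)))
theorem F321464 : act 1 n39616 = n52047 := (sb E82537 F174895)
theorem E85225 : n180569 = n110027 := (((D110027).symm.trans (sb E82538 (iv3 F281052)))).symm
theorem F321465 : act 4 n50748 = n39911 := (sb E82538 F132196)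
theorem F321466 : act 5 n50748 = n58550 := (sb E82538 F316266)
theorem E85226 : n110029 = n39909 := ((D110029).symm.trans (sb E82538 (iv6 D86239)))
theorem F321467 : act 2 n17360 = n24761 := (sb E82539 (iv2 D50916))
theorem E85227 : n110354 = n35841 := ((((iv3 F56503)).symm.trans (sb E82539 (iv3 F170620)))).symm
theorem E85231 : n121225 = n24749 := ((((iv2 F38738)).symm.trans (sb E82540 (iv2 F193300)))).symm
theorem E85232 : n121239 = n5453 := ((((iv4 D11722)).symm.trans (sb E82540 (iv4 F193311)))).symm
theorem E85233 : n26973 = n24763 := (((D24763).symm.trans (sb E82540 (iv6 D55930)))).symm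
theorem E85234 : n121242 = n11994 := ((((iv7 F19832)).symm.trans (sb E82540 D121242))).symm
theorem E85237 : n121099 = n110357 := ((((iv2 F170623)).symm.trans (sb E82541 (iv2 F193128)))).symm
theorem F321468 : act 3 n50922 = n26954 := (sb E82541 F88382)
theorem E85239 : n110433 = n26953 := ((D110433).symm.trans (sb E82541 (iv5 D55877)))
theorem E85240 : n121104 = n110434 := (((D110434).symm.trans (sb E82541 D121104))).symm
theorem E85241 : n121243 = n108861 := (((F168865).symm.trans (sb E82542 D121243))).symm
theorem F321469 : act 4 n50914 = n27693 := (sb E82542 (iv4 F88490))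
theorem E85242 : n110411 = n34005 := ((D110411).symm.trans (sb E82542 (iv5 F313900)))
theorem E85243 : n110412 = n27692 := ((D110412).symm.trans (sb E82542 F88488))
theorem E85244 : n121245 = n110414 := (((D110414).symm.trans (sb E82543 D121245))).symm
theorem F321470 : act 4 n50915 = n27913 := (sb E82543 (iv4 F88499))
theorem E85245 : n120066 = n110415 := (((D110415).symm.trans (sb E82543 (iv5 F318523)))).symm
theorem E85246 : n110416 = n36233 := ((D110416).symm.trans (sb E82543 F304036))
theorem E85247 : n27076 = n5457 := ((((iv3 D11733)).symm.trans (sb E82544 (iv3 F43735)))).symm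
theorem F321471 : act 5 n11733 = n8129 := (sb E82544 F21586)
theorem E85248 : n24784 = n6166 := ((D24784).symm.trans (sb E82544 (iv6 D12986)))
theorem F321472 : act 6 n12907 = n24761 := (sb E82545 (iv6 D50918))
theorem E85253 : n52048 = n27106 := ((D52048).symm.trans (sb E82546 F88506))
theorem F321473 : act 1 n112761 = n163230 := (sb E82548 (iv0 F313787))
theorem F321474 : act 2 n112761 = n146724 := (sb E82548 F233368)
theorem F321475 : act 4 n112761 = n69648 := (sb E82548 (iv4 D148609))
theorem F321476 : act 5 n112761 = n121750 := (sb E82548 (iv5 F312485))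
theorem F321477 : act 4 n53213 = n85103 := (sb E82549 (iv4 D178673))
theorem F321478 : act 0 n51016 = n36398 := (sb E82551 (iv1 F110627))
theorem E85254 : n155371 = n110589 := ((((iv3 F171156)).symm.trans (sb E82551 (iv3 F244344)))).symm
theorem E85255 : n155372 = n110638 := (((D110638).symm.trans (sb E82551 D155372))).symm
theorem E85256 : n110639 = n33911 := ((D110639).symm.trans (sb E82551 (iv6 D73842)))
theorem F321479 : act 1 n25205 = n36398 := (sb E82552 F141824)
theorem E85257 : n163405 = n11961 := ((((iv3 D25205)).symm.trans (sb E82552 (iv3 F257688)))).symm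
theorem E85258 : n132637 = n51948 := (((D51948).symm.trans (sb E82552 F318593))).symm
theorem E85259 : n51949 = n35775 := ((D51949).symm.trans (sb E82552 (iv6 D78531)))
theorem E85260 : n112046 = n39883 := (((F299549).symm.trans (sb E82553 (iv3 F174170)))).symm
theorem F321480 : act 4 n58086 = n51945 := (sb E82553 (iv4 F173361))
theorem F321481 : act 6 n58088 = n51945 := (sb E82554 (iv6 D112580))
theorem E85261 : n38475 = n25100 := (((iv3 F117754)).symm.trans (sb E82555 (iv3 D51671)))
theorem E85263 : n125951 = n86264 := (((D86264).symm.trans (sb E82557 (iv1 F202452)))).symm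
theorem E85264 : n125950 = n86265 := (((D86265).symm.trans (sb E82557 F202451))).symm
theorem E85265 : n86259 = n59247 := (((iv2 F132212)).symm.trans (sb E82557 F170213))
theorem E85266 : n112403 = n86263 := ((((iv4 F132220)).symm.trans (sb E82557 (iv4 F174872)))).symm
theorem E85267 : n166514 = n51706 := ((D166514).symm.trans (sb E82561 F174332))
theorem E85269 : n166530 = n125970 := ((D166530).symm.trans (sb E82564 F203178))
theorem F321482 : act 0 n105766 = n148025 := (sb E82565 F247801)
theorem F321483 : act 2 n105766 = n58404 := (sb E82565 F200633)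
theorem F321484 : act 3 n105766 = n85248 := (sb E82565 F200634)
theorem F321485 : act 6 n105766 = n58395 := (sb E82565 (iv6 D124915))
theorem F321486 : act 3 n67905 = n34708 := (sb E82566 F113838)
theorem F321487 : act 5 n67905 = n58404 := (sb E82566 F113839)
theorem E85272 : n144872 = n34706 := ((D144872).symm.trans (sb E82566 (iv6 D75946)))
theorem F321488 : act 1 n105754 = n148025 := (sb E82567 (iv0 F282913))
theorem F321489 : act 3 n105754 = n58417 := (sb E82567 F200675)
theorem F321490 : act 7 n105754 = n58404 := (sb E82567 (iv7 D124945))
theorem F321491 : act 1 n54772 = n67981 := (sb E82568 (iv0 D145001))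
theorem F321492 : act 0 n105414 = n67981 := (sb E82569 (iv1 D145002))
theorem F321493 : act 2 n69328 = n67981 := (sb E82570 (iv2 D145003))
theorem E85273 : n112387 = n79592 := ((F174840).symm.trans (sb E82571 (iv2 F122252)))
theorem E85274 : n164829 = n113484 := ((((iv3 F176674)).symm.trans (sb E82571 (iv3 F259876)))).symm
theorem F321494 : act 5 n59306 = n120046 := (sb E82571 (iv5 F318529))
theorem E85275 : n126412 = n36058 := ((D126412).symm.trans (sb E82571 (iv6 D79202)))
theorem E85276 : n112386 = n76964 := ((F174836).symm.trans (sb E82571 (iv7 F299785)))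
theorem E85277 : n166808 = n109329 := (((iv4 F262521)).symm.trans (sb E82572 F175620))
theorem F321495 : act 4 n39889 = n24781 := (sb E82574 (iv4 D50961))
theorem E85280 : n86185 = n52032 := ((D86185).symm.trans (sb E82575 (iv1 D112728)))
theorem E85281 : n110386 = n86186 := (((D86186).symm.trans (sb E82575 F175482))).symm
theorem F321496 : act 0 n113146 = n162958 := (sb E82576 (iv1 F280891))
theorem F321497 : act 1 n113146 = n86189 := (sb E82576 (iv0 D180472))
theorem F321498 : act 0 n108819 = n86189 := (sb E82577 (iv1 D180473))
theorem F321499 : act 1 n108819 = n162958 := (sb E82577 F280895)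
theorem E85283 : n162964 = n52224 := ((D162964).symm.trans (sb E82578 (iv0 F175639)))
theorem F321500 : act 0 n17580 = n24782 := (sb E82579 (iv1 F39897))
theorem F321501 : act 1 n17580 = n24781 := (sb E82579 F39895)
theorem F321502 : act 3 n17580 = n24823 := (sb E82579 F39892)
theorem F321503 : act 5 n17580 = n25160 := (sb E82579 F39893)
theorem E85285 : n110533 = n35783 := ((D110533).symm.trans (sb E82580 F119056))
theorem E85286 : n86545 = n50794 := (((F171080).symm.trans (sb E82580 (iv0 F132779)))).symm
theorem E85287 : n110534 = n86724 := ((D110534).symm.trans (sb E82580 (iv2 F133015)))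
theorem E85288 : n121791 = n110535 := (((D110535).symm.trans (sb E82580 D121791))).symm
theorem F321504 : act 5 n50965 = n36384 := (sb E82580 F88998)
theorem E85289 : n110536 = n36224 := ((D110536).symm.trans (sb E82580 (iv6 F296824)))
theorem F321505 : act 6 n17498 = n24782 := (sb E82581 (iv6 D50968))
theorem F321506 : act 2 n54886 = n31383 := (sb E82583 F103437)
theorem E85294 : n119256 = n44794 := ((D119256).symm.trans (sb E82583 F302679))
theorem E85295 : n119257 = n44789 := ((D119257).symm.trans (sb E82583 (iv5 F305023)))
theorem F321507 : act 6 n54886 = n31381 := (sb E82583 (iv6 D67545))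
theorem E85337 : n153016 = n144190 := (((D144190).symm.trans (sb E82594 D153016))).symm
theorem E85338 : n144191 = n76251 := ((D144191).symm.trans (sb E82594 (iv4 F114282)))
theorem E85339 : n152949 = n144193 := (((D144193).symm.trans (sb E82594 F240193))).symm
theorem E85340 : n144194 = n118963 := ((D144194).symm.trans (sb E82594 (iv7 F187083)))
theorem E85343 : n153019 = n144199 := (((D144199).symm.trans (sb E82596 D153019))).symm
theorem E85344 : n153020 = n144200 := (((D144200).symm.trans (sb E82596 D153020))).symm
theorem E85345 : n153021 = n87551 := ((((iv4 F308756)).symm.trans (sb E82596 D153021))).symm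
theorem F321508 : act 2 n67717 = n76655 := (sb E82597 (iv2 F114981))
theorem E85347 : n155583 = n65697 := (((F182489).symm.trans (sb E82597 (iv4 F244600)))).symm
theorem F321509 : act 5 n67717 = n76634 := (sb E82597 (iv5 F114929))
theorem E85348 : n144491 = n33970 := ((D144491).symm.trans (sb E82597 (iv6 D74019)))
theorem F321510 : act 0 n65579 = n31450 := (sb E82598 (iv1 D67734))
theorem E85349 : n144526 = n117064 := ((((iv2 F320535)).symm.trans (sb E82598 (iv2 F227385)))).symm
theorem E85354 : n144521 = n109672 := ((((iv7 F169651)).symm.trans (sb E82598 F227384))).symm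
theorem E85355 : n86020 = n37894 := (((iv1 F131959)).symm.trans (sb E82599 (iv1 D82545)))
theorem E85356 : n172145 = n86019 := (((F131956).symm.trans (sb E82599 (iv0 F303489)))).symm
theorem E85363 : n86106 = n37894 := ((D86106).symm.trans (sb E82600 F127176))
theorem E85364 : n158316 = n86107 := (((D86107).symm.trans (sb E82600 (iv3 F249438)))).symm
theorem E85366 : n86109 = n37891 := ((D86109).symm.trans (sb E82600 (iv5 D82532)))
theorem E85367 : n119655 = n86110 := (((D86110).symm.trans (sb E82600 (iv6 F188736)))).symm
theorem E85368 : n86111 = n86019 := ((D86111).symm.trans (sb E82600 (tr (iv7 F303491) E85356)))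
theorem E85369 : n86112 = n37829 := ((D86112).symm.trans (sb E82601 F127022))
theorem E85371 : n86114 = n37825 := ((D86114).symm.trans (sb E82601 (iv5 D82447)))
theorem E85372 : n152360 = n86115 := (((D86115).symm.trans (sb E82601 (iv6 F239561)))).symm
theorem F321511 : act 1 n77326 = n39855 := (sb E82602 F132039)
theorem E85373 : n180164 = n75898 := (((F116130).symm.trans (sb E82602 D180164))).symm
theorem E85374 : n161112 = n39845 := ((D161112).symm.trans (sb E82602 (iv4 D86079)))
theorem E85375 : n161113 = n39914 := ((D161113).symm.trans (sb E82602 F132036))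
theorem F321512 : act 0 n77450 = n39855 := (sb E82603 F132038)
theorem E85376 : n180165 = n161333 := ((((iv3 F255153)).symm.trans (sb E82603 D180165))).symm
theorem E85380 : n181813 = n163574 := ((((iv7 F257839)).symm.trans (sb E82604 (iv7 F283007)))).symm
theorem E85381 : n161612 = n51852 := (E84704).trans E85139
theorem F321513 : act 5 n27043 = n39855 := (sb E82606 (iv5 D86099))
theorem F321514 : act 0 n85188 = n74653 := (sb E82608 (iv1 F318294))
theorem F321515 : act 1 n85188 = n74633 := (sb E82608 (iv0 F318284))
theorem F321516 : act 5 n66360 = n68574 := (sb E82613 (iv5 D146237))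
theorem E85385 : n156951 = n53721 := (((F102802).symm.trans (sb E82615 (iv2 F317696)))).symm
theorem E85386 : n178764 = n141409 := (((D141409).symm.trans (sb E82615 (iv3 F278641)))).symm
theorem E85388 : n141411 = n39382 := ((D141411).symm.trans (sb E82615 (iv6 D85191)))
theorem F321517 : act 6 n65110 = n30986 := (sb E82616 (iv6 D66349))
theorem E85395 : n141417 = n111159 := ((((iv3 F172410)).symm.trans (sb E82617 (iv3 F224461)))).symm
theorem F321518 : act 6 n65111 = n30987 := (sb E82617 (iv6 D66352))
theorem E85402 : n141427 = n30576 := (((D30576).symm.trans (sb E82618 D141427))).symm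
theorem F321519 : act 0 n53841 = n30984 := (sb E82621 (iv1 D66341))
theorem F321520 : act 3 n154162 = n75776 := (sb E82622 F250053)
theorem F321521 : act 5 n154162 = n75775 := (sb E82622 (iv5 D158820))
theorem F321522 : act 4 n124679 = n75776 := (sb E82623 (iv4 D158823))
theorem F321523 : act 6 n60262 = n75776 := (sb E82624 (iv6 D158824))
theorem E85412 : n114449 = n18401 := ((((iv1 D38685)).symm.trans (sb E82625 D114449))).symm
theorem E85414 : n105397 = n83058 := ((((iv2 F151391)).symm.trans (sb E82625 (iv2 F161732)))).symm
theorem E85415 : n114445 = n83994 := (((D83994).symm.trans (sb E82625 (iv3 F178490)))).symm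
theorem E85416 : n114451 = n75722 := ((((iv5 F113581)).symm.trans (sb E82625 D114451))).symm
theorem E85417 : n83995 = n25642 := ((D83995).symm.trans (sb E82625 (iv6 D52825)))
theorem E85418 : n114452 = n83057 := ((((iv7 F151390)).symm.trans (sb E82625 D114452))).symm
theorem F321524 : act 6 n52824 = n75765 := (sb E82626 (iv6 D158806))
theorem E85419 : n175957 = n160728 := ((D175957).symm.trans (sb E82627 (iv4 F253885)))
theorem E85420 : n175959 = n158984 := ((D175959).symm.trans (sb E82627 (iv6 F311545)))
theorem F321525 : act 7 n83966 = n77023 := (sb E82627 (iv7 D160632))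
theorem F321526 : act 0 n83890 = n77023 := (sb E82628 (iv1 D160630))
theorem F321527 : act 3 n83980 = n77023 := (sb E82629 F253732)
theorem E85421 : n175960 = n160726 := ((D175960).symm.trans (sb E82630 (iv1 F263834)))
theorem E85422 : n175961 = n160725 := ((D175961).symm.trans (sb E82630 F263835))
theorem F321528 : act 3 n83967 = n152412 := (sb E82630 F263831)
theorem E85423 : n175964 = n83108 := ((D175964).symm.trans (sb E82630 F263832))
theorem F321529 : act 7 n83967 = n80423 := (sb E82630 (iv7 D167571))
theorem E85424 : n180729 = n175967 := (((D175967).symm.trans (sb E82631 (iv1 F281307)))).symm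
theorem E85425 : n180728 = n175968 := (((D175968).symm.trans (sb E82631 F281313))).symm
theorem E85426 : n175970 = n76996 := ((D175970).symm.trans (sb E82631 (iv7 D160597)))
theorem E85429 : n135094 = n42637 := (((F68499).symm.trans (sb E82632 (iv2 F217313)))).symm
theorem E85430 : n93141 = n29988 := (((iv3 F143645)).symm.trans (sb E82632 F98817))
theorem E85431 : n46110 = n29987 := ((F294938).symm.trans (sb E82632 (iv5 D63493)))
theorem E85436 : n175331 = n174719 := ((((iv3 F273562)).symm.trans (sb E82633 (iv3 F274378)))).symm
theorem E85437 : n175735 = n174723 := ((((iv4 F273563)).symm.trans (sb E82633 (iv4 F275163)))).symm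
theorem F321530 : act 6 n83487 = n38637 := (sb E82633 (iv6 D83891))
theorem E85442 : n131880 = n105311 := ((F211314).symm.trans (sb E82634 (iv3 F161481)))
theorem E85443 : n130136 = n90455 := (((iv5 F208657)).symm.trans (sb E82634 (iv5 F139214)))
theorem E85444 : n133206 = n41295 := ((D133206).symm.trans (sb E82634 (iv6 D88468)))
theorem E85445 : n105308 = n61429 := ((((iv7 F97468)).symm.trans (sb E82634 (iv7 F161478)))).symm
theorem F321531 : act 3 n47320 = n64458 := (sb E82636 F220284)
theorem E85446 : n136009 = n101822 := (((D101822).symm.trans (sb E82636 F220285))).symm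
theorem E85447 : n136718 = n101823 := (((D101823).symm.trans (sb E82636 F220286))).symm
theorem E85448 : n99697 = n64455 := (((iv7 F156696)).symm.trans (sb E82636 (iv7 D137112)))
theorem E85449 : n98938 = n61675 := ((D98938).symm.trans (sb E82637 F210623))
theorem F321532 : act 6 n46293 = n61674 := (sb E82637 (iv6 D131402))
theorem F321533 : act 3 n53590 = n80604 := (sb E82641 (iv3 D167925))
theorem E85450 : n70992 = n59475 := (((F166260).symm.trans (sb E82645 F237086))).symm
theorem F321534 : act 3 n31483 = n15832 := (sb E82646 (iv3 D32880))
theorem E85453 : n67794 = n34002 := ((D67794).symm.trans (sb E82646 (iv5 F53331)))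
theorem E85454 : n71205 = n53870 := ((((iv2 F101930)).symm.trans (sb E82671 D71205))).symm
theorem E85456 : n71207 = n59472 := ((((iv4 F93870)).symm.trans (sb E82671 D71207))).symm
theorem E85460 : n71211 = n24871 := (((F45646).symm.trans (sb E82672 D71211))).symm
theorem E85461 : n71212 = n59407 := ((((iv4 F93756)).symm.trans (sb E82672 D71212))).symm
theorem F321535 : act 3 n118285 = n67821 := (sb E82676 F227558)
theorem F321536 : act 2 n66134 = n31096 := (sb E82677 (iv2 D66673))
theorem E85465 : n142211 = n32866 := ((D142211).symm.trans (sb E82678 F110567))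
theorem E85466 : n142213 = n133136 := ((D142213).symm.trans (sb E82678 (tr D150405 E83408)))
theorem E85467 : n142214 = n32835 := ((D142214).symm.trans (sb E82678 (iv5 D70857)))
theorem E85468 : n142216 = n32861 := ((D142216).symm.trans (sb E82678 F110568))
theorem E85469 : n155770 = n142224 := (((D142224).symm.trans (sb E82679 F244777))).symm
theorem E85470 : n66674 = n35472 := ((((iv6 F56169)).symm.trans (iv6 (sb E82679 (tr F313910 E84836))))).symm
theorem F321537 : act 1 n54453 = n31101 := (sb E82681 (iv0 D66679))
theorem F321538 : act 0 n54458 = n31101 := (sb E82682 (iv1 D66680))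
theorem E85481 : n153551 = n142251 := (((D142251).symm.trans (sb E82683 F264381))).symm
theorem E85482 : n153557 = n142252 := (((D142252).symm.trans (sb E82683 (iv0 F264382)))).symm
theorem F321539 : act 7 n66682 = n85987 := (sb E82683 F264380)
theorem E85483 : n179275 = n49756 := ((D179275).symm.trans (sb E82684 (iv0 D107701)))
theorem E85484 : n179259 = n34089 := ((((iv1 D74300)).symm.trans (sb E82685 (iv1 F279182)))).symm
theorem E85485 : n179258 = n156000 := (((F245084).symm.trans (sb E82685 F279186))).symm
theorem E85486 : n179263 = n156188 := ((((iv2 F245450)).symm.trans (sb E82685 (iv2 F279184)))).symm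
theorem F321540 : act 4 n74300 = n39489 := (sb E82685 (iv4 D85548))
theorem E85489 : n179282 = n156192 := (((D156192).symm.trans (sb E82685 D179282))).symm
theorem E85490 : n179248 = n156183 := (((F245448).symm.trans (sb E82685 (iv7 F279173)))).symm
theorem F321541 : act 3 n69684 = n49769 := (sb E82686 (iv3 D107741))
theorem E85491 : n148694 = n53132 := ((D148694).symm.trans (sb E82686 F166375))
theorem E85492 : n120644 = n53131 := (((iv7 F313146)).symm.trans (sb E82686 F166376))
theorem E85493 : n129773 = n59616 := (((D59616).symm.trans (sb E82687 D129773))).symm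
theorem E85495 : n129775 = n59434 := ((((iv2 F93817)).symm.trans (sb E82687 D129775))).symm
theorem F321542 : act 3 n28292 = n28900 := (sb E82687 (iv3 D60949))
theorem E85496 : n129776 = n59615 := ((((iv4 F94028)).symm.trans (sb E82687 D129776))).symm
theorem E85498 : n62226 = n59618 := (((D59618).symm.trans (sb E82687 (iv7 F96992)))).symm
theorem F321543 : act 3 n107745 = n62227 := (sb E82688 F212870)
theorem F321544 : act 6 n28287 = n28900 := (sb E82692 (iv6 D60951))
theorem F321545 : act 1 n55246 = n59597 := (sb E82694 (iv0 D126985))
theorem F321546 : act 0 n66440 = n59597 := (sb E82695 (iv1 D126986))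
theorem F321547 : act 7 n74100 = n59597 := (sb E82696 (iv7 D126988))
theorem E85499 : n126996 = n35472 := (E82697).trans E85470
theorem E85500 : n62159 = n59601 := (((iv0 F307878)).symm.trans (sb E85499 (iv0 D126996)))
theorem F321548 : act 1 n126997 = n142224 := (sb E82698 (tr (iv0 F244877) E85469))
theorem F321549 : act 6 n126997 = n74140 := (sb E82698 (iv6 D155886))
theorem E85501 : n132493 = n126997 := (((iv7 F306857)).symm.trans (iv7 (sb E82698 (tr (iv7 F311463) E84840))))
theorem F321550 : act 6 n127151 = n78399 := (sb E82699 (iv6 D163048))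
theorem F321551 : act 7 n127151 = n85473 := (sb E82699 F313858)
theorem F321552 : act 5 n62298 = n59698 := (sb E84919 (iv5 D127152))
theorem F321553 : act 6 n35731 = n59698 := (sb E82701 (iv6 D127153))
theorem F321554 : act 0 n125030 = n59414 := (sb E82702 (iv1 D126637))
theorem F321555 : act 1 n125030 = n59548 := (sb E82702 F203732)
theorem F321556 : act 2 n125030 = n59546 := (sb E82702 F203730)
theorem F321557 : act 4 n125030 = n116246 := (sb E82702 (iv4 F203727))
theorem F321558 : act 7 n125030 = n59547 := (sb E82702 F203728)
theorem F321559 : act 1 n33998 = n59702 := (sb E82705 (iv0 D127164))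
theorem F321560 : act 0 n86190 = n59702 := (sb E82706 (iv1 D127165))
theorem F321561 : act 4 n120045 = n59712 := (sb E82708 F204444)
theorem F321562 : act 7 n120045 = n59702 := (sb E82708 (iv7 D127167))
theorem F321563 : act 4 n53672 = n67742 := (sb E82709 F204449)
theorem F321564 : act 4 n31543 = n59707 := (sb E82713 F204453)
theorem F321565 : act 1 n30753 = n59707 := (sb E82714 (iv0 D127177))
theorem F321566 : act 0 n66413 = n59707 := (sb E82715 (iv1 D127178))
theorem F321567 : act 4 n127146 = n158954 := (sb E82716 (iv4 F250296))
theorem F321568 : act 5 n127146 = n68560 := (sb E82716 F315566)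
theorem F321569 : act 7 n127146 = n141587 := (sb E82716 (iv7 F224653))
theorem F321570 : act 7 n66410 = n59707 := (sb E82717 (iv7 D127180))
theorem F321571 : act 2 n127147 = n76259 := (sb E82728 F250972)
theorem F321572 : act 3 n127147 = n116147 := (sb E82728 (iv3 F316875))
theorem F321573 : act 5 n127147 = n76534 := (sb E82728 F250974)
theorem F321574 : act 6 n127147 = n76245 := (sb E82728 (iv6 D159392))
theorem F321575 : act 7 n127148 = n76259 := (sb E82729 (iv7 D159420))
theorem E85502 : n137876 = n69338 := ((D137876).symm.trans (sb E82730 (iv1 D148044)))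
theorem E85503 : n137902 = n76259 := ((F221159).symm.trans (sb E82731 (iv0 F244960)))
theorem F321576 : act 5 n127150 = n179642 := (sb E82731 (iv5 F279754))
theorem E85504 : n130450 = n127219 := (((iv1 F213848)).symm.trans (iv1 (sb E82733 (tr (iv0 F236761) E83408))))
theorem F321577 : act 4 n127219 = n69671 := (sb E82733 F233422)
theorem F321578 : act 6 n127219 = n69670 := (sb E82733 (iv6 D148658))
theorem F321579 : act 6 n117974 = n59718 := (sb E82738 (iv6 D127209))
theorem F321580 : act 0 n28336 = n31096 := (sb E82742 (iv1 D66672))
theorem F321581 : act 7 n66134 = n59726 := (sb E82743 (iv7 F204498))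
theorem F321582 : act 2 n53625 = n59726 := (sb E82748 F204499)
theorem F321583 : act 4 n126997 = n59726 := (sb E82749 (iv4 D127236))
theorem F321584 : act 5 n85817 = n59726 := (sb E82750 (iv5 D127237))
theorem F321585 : act 6 n59996 = n59726 := (sb E82751 (iv6 D127238))
theorem F321586 : act 4 n127211 = n66940 := (sb E82752 (iv4 D142815))
theorem F321587 : act 1 n127203 = n150534 := (sb E82753 F241533)
theorem F321588 : act 5 n127203 = n72659 := (sb E82753 (iv5 D153655))
theorem F321589 : act 7 n127203 = n127976 := (sb E82753 F241531)
theorem F321590 : act 5 n60126 = n59719 := (sb E82754 (iv5 D127212))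
theorem F321591 : act 7 n70956 = n59719 := (sb E82755 (iv7 D127213))
theorem E85509 : n143495 = n143380 := ((((iv1 F226135)).symm.trans (sb E82768 (iv1 F314575)))).symm
theorem F321592 : act 1 n67213 = n79764 := (sb E82768 (iv0 D166119))
theorem F321593 : act 0 n67153 = n79764 := (sb E82769 (iv1 D166120))
theorem F321594 : act 3 n107683 = n74139 := (sb E82770 (iv3 D155882))
theorem F321595 : act 5 n107683 = n143726 := (sb E82770 (iv5 F244868))
theorem E85510 : n145116 = n64305 := ((D145116).symm.trans (sb E82771 F166524))
theorem E85511 : n145117 = n108128 := ((D145117).symm.trans (sb E82771 F167216))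
theorem E85512 : n145118 = n108117 := ((D145118).symm.trans (sb E82771 (iv2 F167199)))
theorem F321596 : act 6 n68025 = n59645 := (sb E82771 F166522)
theorem F321597 : act 7 n68025 = n67834 := (sb E82771 F166523)
theorem F321598 : act 1 n28243 = n31683 := (sb E82772 (iv0 D68085))
theorem F321599 : act 0 n49937 = n31683 := (sb E82773 (iv1 D68086))
theorem F321600 : act 2 n49936 = n31683 := (sb E82774 (iv2 D68087))
theorem F321601 : act 0 n107688 = n85508 := (sb E82779 (iv1 F200848))
theorem F321602 : act 2 n107688 = n58455 := (sb E82779 (iv2 D125029))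
theorem F321603 : act 3 n107688 = n85472 := (sb E82779 F200844)
theorem F321604 : act 7 n107688 = n85509 := (sb E82779 F200845)
theorem F321605 : act 7 n107690 = n85508 := (sb E82780 (iv7 F279121))
theorem F321606 : act 2 n107601 = n85508 := (sb E82784 F279122)
theorem F321607 : act 4 n53554 = n53717 := (sb E82785 (iv4 D116563))
theorem F321608 : act 1 n53974 = n65645 := (sb E82787 (iv0 D139851))
theorem E85523 : n146992 = n142374 := (((F225298).symm.trans (sb E82788 F286401))).symm
theorem F321609 : act 6 n127706 = n87977 := (sb E82788 (iv6 D184479))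
theorem E85524 : n119268 = n117045 := ((((iv4 F182988)).symm.trans (sb E82789 (iv4 F187732)))).symm
theorem F321610 : act 6 n69923 = n59957 := (sb E82790 (iv6 D127707))
theorem F321611 : act 6 n69924 = n59958 := (sb E82791 (iv6 D127709))
theorem F321612 : act 0 n100750 = n112488 := (sb E82797 (iv1 F174966))
theorem F321613 : act 2 n100750 = n111909 := (sb E82797 (iv2 F173880))
theorem F321614 : act 3 n100750 = n59920 := (sb E82797 (iv3 F182586))
theorem F321615 : act 4 n100750 = n67170 := (sb E82797 F182587)
theorem F321616 : act 5 n100750 = n50562 := (sb E82797 (iv5 D109608))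
theorem F321617 : act 7 n100750 = n111898 := (sb E82797 (iv7 F173851))
theorem F321618 : act 6 n45076 = n59920 := (sb E82798 (iv6 D127610))
theorem F321619 : act 3 n131593 = n61824 := (sb E82802 (iv3 D131776))
theorem F321620 : act 7 n131593 = n133842 := (sb E82802 F215499)
theorem F321621 : act 7 n73861 = n70064 := (sb E82803 (iv7 D149271))
theorem F321622 : act 3 n66681 = n59726 := (sb E82804 (iv3 D127235))
theorem E85527 : n117487 = n116689 := ((F184014).symm.trans (sb E82805 (iv2 F182086)))
theorem E85528 : n119148 = n112557 := (((iv3 F298363)).symm.trans (sb E82805 (iv3 F175086)))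
theorem F321623 : act 6 n68905 = n32183 := (sb E82805 (iv6 D69202))
theorem E85531 : n145098 = n139969 := (((iv2 F228051)).symm.trans (sb E82806 F227247))
theorem F321624 : act 6 n68012 = n67690 := (sb E82806 (iv6 D144450))
theorem E85532 : n109537 = n96202 := ((((iv2 F147944)).symm.trans (sb E82807 F169907))).symm
theorem F321625 : act 6 n70053 = n50681 := (sb E82807 (iv6 D109895))
theorem F321626 : act 6 n68014 = n67691 := (sb E82808 (iv6 D144454))
theorem E85533 : n147653 = n140713 := ((((iv2 F223801)).symm.trans (sb E82812 (iv2 F231421)))).symm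
theorem E85534 : n142373 = n116690 := (((iv4 F225293)).symm.trans (sb E82812 F205296))
theorem F321627 : act 6 n105721 = n59953 := (sb E82812 (iv6 D127696))
theorem F321628 : act 3 n105722 = n109543 := (sb E82813 F205303)
theorem F321629 : act 6 n105722 = n59954 := (sb E82813 (iv6 D127699))
theorem F321630 : act 6 n32510 = n67164 := (sb E82816 (iv6 D143390))
theorem F321631 : act 0 n53625 = n32861 := (sb E82818 (iv1 F318524))
theorem F321632 : act 1 n53625 = n32866 := (sb E82818 (iv0 F319595))
theorem E85535 : n51687 = n35404 := (((D35404).symm.trans (sb E82819 (iv1 D112079)))).symm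
theorem E85537 : n52076 = n8060 := (((F28136).symm.trans (sb E82819 F174226))).symm
theorem F321633 : act 6 n78448 = n68264 := (sb E82820 (iv6 D145627))
theorem E85538 : n145625 = n120231 := ((((iv7 F191431)).symm.trans (iv7 (sb E82821 (tr (iv7 D179958) E84538))))).symm
theorem E85539 : n68308 = n17636 := ((((iv4 D36551)).symm.trans (sb E82822 F228640))).symm
theorem F321634 : act 0 n110993 = n71290 := (sb E82824 (iv1 D151269))
theorem F321635 : act 3 n53227 = n33301 := (sb E82844 F108577)
theorem E85554 : n152865 = n115377 := (((D115377).symm.trans (sb E82844 (iv5 F240069)))).symm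
theorem E85555 : n155801 = n49761 := ((D155801).symm.trans (sb E82845 F166035))
theorem E85556 : n155803 = n50430 := ((D155803).symm.trans (sb E82845 F166036))
theorem E85557 : n155804 = n144680 := ((D155804).symm.trans (sb E82845 (iv5 F227502)))
theorem E85558 : n155805 = n49711 := ((D155805).symm.trans (sb E82845 (iv6 D107609)))
theorem F321636 : act 4 n74117 = n108504 := (sb E82846 (iv4 F167745))
theorem E85559 : n155809 = n144681 := ((D155809).symm.trans (sb E82846 F227507))
theorem E85560 : n155810 = n136455 := ((D155810).symm.trans (sb E82846 (iv6 F219561)))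
theorem F321637 : act 0 n74118 = n49761 := (sb E82847 F166345)
theorem F321638 : act 4 n74118 = n49754 := (sb E82847 (iv4 D107700))
theorem E85561 : n136727 = n74149 := ((((iv5 F110867)).symm.trans (sb E82847 F219884))).symm
theorem F321639 : act 6 n74118 = n59531 := (sb E82847 F166344)
theorem E85562 : n74147 = n64294 := ((D74147).symm.trans (sb E82848 (iv1 D136768)))
theorem E85563 : n136729 = n74148 := (((D74148).symm.trans (sb E82848 F219961))).symm
theorem F321640 : act 3 n107697 = n74066 := (sb E82849 (iv3 D155696))
theorem F321641 : act 3 n31391 = n54747 := (sb E82872 F186010)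
theorem E85590 : n151110 = n67815 := (((D67815).symm.trans (sb E82875 D151110))).symm
theorem E85591 : n151122 = n50427 := ((((iv1 F111447)).symm.trans (sb E82876 D151122))).symm
theorem F321642 : act 3 n31497 = n54477 := (sb E82876 F107701)
theorem E85593 : n151124 = n67820 := (((D67820).symm.trans (sb E82876 D151124))).symm
theorem F321643 : act 3 n105603 = n85987 := (sb E82880 (iv3 D179942))
theorem E85594 : n67050 = n65289 := ((((iv4 F312147)).symm.trans (sb E82881 F204405))).symm
theorem F321644 : act 6 n85673 = n59693 := (sb E82881 (iv6 D127143))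
theorem F321645 : act 6 n86805 = n67017 := (sb E82882 (iv6 D142993))
theorem F321646 : act 3 n67431 = n75030 := (sb E82885 (iv3 D157614))
theorem E85595 : n160335 = n143929 := (((D143929).symm.trans (sb E82885 (iv4 F253232)))).symm
theorem F321647 : act 1 n140916 = n67442 := (sb E82886 (iv0 D143953))
theorem F321648 : act 7 n140916 = n66647 := (sb E82888 (iv7 D142149))
theorem E85597 : n159959 = n119948 := ((((iv0 F314488)).symm.trans (sb E82889 (iv0 F252299)))).symm
theorem F321649 : act 4 n14867 = n30998 := (sb E82891 (iv4 D66395))
theorem E85600 : n85392 = n68572 := (((D68572).symm.trans (sb E82896 F308232))).symm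
theorem E85601 : n144886 = n48905 := ((((iv0 F243393)).symm.trans (sb E82896 D144886))).symm
theorem E85603 : n144888 = n54024 := ((((iv7 F85227)).symm.trans (sb E82896 D144888))).symm
theorem E85604 : n151275 = n91341 := ((D151275).symm.trans (sb E82897 F158964))
theorem E85605 : n151276 = n104695 := ((D151276).symm.trans (sb E82897 (iv6 F160377)))
theorem F321650 : act 7 n71291 = n48048 := (sb E82897 F158965)
theorem F321651 : act 0 n68338 = n62248 := (sb E82898 F212080)
theorem F321652 : act 1 n68338 = n62240 := (sb E82898 F212081)
theorem E85606 : n145758 = n62063 := ((D145758).symm.trans (sb E82898 (iv5 D132290)))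
theorem F321653 : act 2 n132288 = n127733 := (sb E82899 (iv2 F313279))
theorem F321654 : act 4 n132288 = n74489 := (sb E82899 (iv4 D156650))
theorem F321655 : act 6 n132288 = n74495 := (sb E82899 F246359)
theorem F321656 : act 7 n132288 = n116915 := (sb E82899 F313118)
theorem F321657 : act 0 n76458 = n52920 := (sb E82900 (iv1 D114654))
theorem F321658 : act 1 n76458 = n52936 := (sb E82900 F178752)
theorem E85607 : n145959 = n48768 := ((D145959).symm.trans (sb E82901 (iv1 F161860)))
theorem E85608 : n145960 = n53066 := ((D145960).symm.trans (sb E82901 F161862))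
theorem E85609 : n145961 = n34926 := ((D145961).symm.trans (sb E82901 F153454))
theorem E85610 : n145962 = n52800 := ((D145962).symm.trans (sb E82901 F114417))
theorem F321659 : act 6 n68438 = n34863 := (sb E82901 (iv6 D76312))
theorem E85611 : n117188 = n53063 := (((iv7 F183352)).symm.trans (sb E82901 F161759))
theorem E85612 : n159796 = n117189 := (((D117189).symm.trans (sb E82903 (iv6 F251805)))).symm
theorem F321660 : act 0 n96262 = n44994 := (sb E82904 (iv1 D96359))
theorem F321661 : act 4 n69110 = n44940 := (sb E82905 (iv4 D96263))
theorem F321662 : act 2 n53542 = n81695 := (sb E82906 (iv2 F301074))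
theorem E85615 : n166055 = n116175 := (((D116175).symm.trans (sb E82906 (iv3 F261472)))).symm
theorem E85616 : n166069 = n116176 := (((D116176).symm.trans (sb E82906 (iv4 F261476)))).symm
theorem E85617 : n116177 = n44938 := ((D116177).symm.trans (sb E82906 F298485))
theorem E85618 : n116178 = n36311 := ((D116178).symm.trans (sb E82906 (iv6 D79730)))
theorem F321663 : act 0 n134564 = n173737 := (sb E82908 (iv1 F275727))
theorem F321664 : act 1 n134564 = n173736 := (sb E82908 F275728)
theorem F321665 : act 3 n134564 = n176480 := (sb E82908 (iv3 F275783))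
theorem F321666 : act 7 n134564 = n173731 := (sb E82908 F275726)
theorem F321667 : act 0 n134608 = n173731 := (sb E82913 (iv1 F275733))
theorem F321668 : act 1 n134609 = n173731 := (sb E82914 F275734)
theorem F321669 : act 3 n134610 = n82578 := (sb E82915 (iv3 D172485))
theorem F321670 : act 7 n134610 = n167771 := (sb E82915 (iv7 F303741))
theorem F321671 : act 7 n83083 = n63248 := (sb E82916 (iv7 D134611))
theorem F321672 : act 2 n134594 = n167770 := (sb E82919 (iv2 F303738))
theorem F321673 : act 6 n134594 = n82578 := (sb E82919 (iv6 D172486))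
theorem E85620 : n160167 = n129560 := (((F213189).symm.trans (sb E82922 (iv4 F252820)))).symm
theorem F321675 : act 6 n132753 = n75525 := (sb E82922 (iv6 D158355))
theorem F321676 : act 2 n132759 = n98216 := (sb E82923 F249504)
theorem E85621 : n159132 = n122342 := ((F316606).symm.trans (sb E82923 F249505))
theorem F321677 : act 6 n132759 = n75526 := (sb E82923 (iv6 D158356))
theorem F321678 : act 6 n34556 = n62308 := (sb E82924 (iv6 D132760))
theorem E85622 : n129993 = n62311 := (((D62311).symm.trans (sb E82928 (iv3 F208446)))).symm
theorem E85623 : n84001 = n62312 := (((D62312).symm.trans (sb E82928 (iv4 F318980)))).symm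
theorem E85624 : n62314 = n28935 := ((D62314).symm.trans (sb E82928 (iv6 D61054)))
theorem F321679 : act 0 n61220 = n62309 := (sb E82931 (iv1 D132762))
theorem F321680 : act 5 n132754 = n75599 := (sb E82932 F249678)
theorem F321681 : act 7 n132754 = n75598 := (sb E82932 (iv7 D158474))
theorem F321682 : act 7 n132758 = n75626 := (sb E82933 (iv7 D158550))
theorem F321683 : act 5 n34588 = n62309 := (sb E82934 (iv5 D132763))
theorem F321684 : act 7 n34587 = n62309 := (sb E82935 (iv7 D132764))
theorem E85626 : n173643 = n125291 := (((iv3 F272118)).symm.trans (sb E82936 (iv3 F201499)))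
theorem E85641 : n175945 = n39802 := ((D175945).symm.trans (sb E82939 (iv3 D86031)))
theorem E85642 : n180031 = n172487 := ((((iv5 F270684)).symm.trans (sb E82939 D180031))).symm
theorem E85643 : n180032 = n175943 := ((((iv6 F275294)).symm.trans (sb E82939 D180032))).symm
theorem F321685 : act 3 n83959 = n39811 := (sb E82940 F131988)
theorem E85646 : n175944 = n164070 := ((D175944).symm.trans (sb E82940 (iv7 F258563)))
theorem E85647 : n62650 = n16042 := ((((iv3 D33223)).symm.trans (sb E82943 F214655))).symm
theorem E85648 : n114460 = n83977 := ((D114460).symm.trans (sb E82944 F272167))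
theorem F321686 : act 6 n77021 = n83980 := (sb E82947 (iv6 D176007))
theorem E85649 : n83981 = n68358 := (((D68358).symm.trans (sb E82948 (iv6 D176012)))).symm
theorem F321687 : act 6 n38680 = n68357 := (sb E82949 (iv6 D145808))
theorem E85650 : n149363 = n83051 := ((((iv7 F127998)).symm.trans (sb E82949 (iv7 F234841)))).symm
theorem E85651 : n121366 = n83984 := ((D121366).symm.trans (sb E82964 (iv6 D176022)))
theorem E85652 : n113671 = n62644 := (((F319758).symm.trans (sb E82966 F187321))).symm
theorem F321688 : act 6 n38681 = n54788 := (sb E82966 (iv6 D119057))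
theorem F321689 : act 0 n152462 = n83975 := (sb E82968 (iv1 F272152))
theorem E85653 : n120120 = n83974 := (((iv0 F283751)).symm.trans (sb E82968 F272153))
theorem F321690 : act 7 n152462 = n83053 := (sb E82968 (iv7 D173661))
theorem F321691 : act 1 n61067 = n47576 := (sb E82969 F135584)
theorem E85654 : n130047 = n88486 := (((iv2 F208491)).symm.trans (sb E82969 F135575))
theorem E85655 : n185877 = n130048 := (((D130048).symm.trans (sb E82969 D185877))).symm
theorem E85656 : n130049 = n41327 := ((D130049).symm.trans (sb E82969 (iv4 D88531)))
theorem E85657 : n130050 = n102943 := ((D130050).symm.trans (sb E82969 (iv5 F293280)))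
theorem E85658 : n185878 = n130051 := (((D130051).symm.trans (sb E82969 D185878))).symm
theorem E85659 : n130042 = n88483 := ((F208490).symm.trans (sb E82969 F135576))
theorem F321692 : act 0 n61066 = n47576 := (sb E82970 F135583)
theorem E85660 : n185885 = n130043 := (((D130043).symm.trans (sb E82970 D185885))).symm
theorem E85661 : n130044 = n41328 := ((D130044).symm.trans (sb E82970 (iv4 D88534)))
theorem E85662 : n185886 = n130046 := (((D130046).symm.trans (sb E82970 D185886))).symm
theorem F321693 : act 0 n102576 = n62327 := (sb E82971 (iv1 F213262))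
theorem F321694 : act 1 n102576 = n62326 := (sb E82971 F213263)
theorem F321695 : act 2 n102576 = n62329 := (sb E82971 F213258)
theorem F321696 : act 6 n102576 = n130131 := (sb E82971 F213260)
theorem F321697 : act 7 n102576 = n62317 := (sb E82971 (iv7 D132782))
theorem F321698 : act 0 n102577 = n62359 := (sb E82972 (iv1 F213416))
theorem E85663 : n185908 = n62358 := (((iv0 F288406)).symm.trans (sb E82972 F213417))
theorem F321699 : act 2 n102577 = n62361 := (sb E82972 F213412)
theorem F321700 : act 3 n102577 = n130131 := (sb E82972 F213413)
theorem F321701 : act 7 n102577 = n62349 := (sb E82972 (iv7 D132859))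
theorem F321702 : act 3 n63165 = n43366 := (sb E82973 F142915)
theorem E85664 : n134477 = n43365 := (((iv5 F216424)).symm.trans (sb E82973 (iv5 D92712)))
theorem E85665 : n88197 = n29863 := ((((iv7 D63165)).symm.trans (sb E82973 F142916))).symm
theorem F321703 : act 3 n92715 = n63575 := (sb E82974 F213439)
theorem F321704 : act 4 n92715 = n62361 := (sb E82974 F213440)
theorem E85666 : n113683 = n62353 := (((iv7 F176881)).symm.trans (sb E82974 (iv7 D132871)))
theorem F321705 : act 4 n42356 = n28939 := (sb E82975 F95582)
theorem F321706 : act 6 n83039 = n42187 := (sb E82976 (iv6 D90258))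
theorem E85670 : n185024 = n14186 := (((F46571).symm.trans (sb E82977 (iv3 F287420)))).symm
theorem F321707 : act 6 n28937 = n42356 := (sb E82977 (iv6 D90499))
theorem F321708 : act 6 n61055 = n43364 := (sb E82978 (iv6 D92709))
theorem F321709 : act 0 n146735 = n178285 := (sb E82979 (iv1 F277841))
theorem F321710 : act 1 n146736 = n178285 := (sb E82980 F277840)
theorem F321711 : act 0 n146737 = n178292 := (sb E82981 (iv1 F277857))
theorem F321712 : act 1 n146737 = n178291 := (sb E82981 F277856)
theorem F321713 : act 3 n146737 = n89253 := (sb E82981 (tr (iv3 F277797) E83219))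
theorem F321714 : act 5 n146737 = n79873 := (sb E82981 (iv5 D166343))
theorem F321715 : act 7 n146737 = n178285 := (sb E82981 (iv7 F277839))
theorem F321716 : act 7 n146631 = n178293 := (sb E82982 (iv7 F277858))
theorem F321717 : act 2 n70243 = n74001 := (sb E82983 F244562)
theorem F321718 : act 7 n70243 = n74000 := (sb E82983 (iv7 D155544))
theorem F321719 : act 5 n71003 = n74001 := (sb E82984 (iv5 D155547))
theorem F321720 : act 2 n70244 = n74000 := (sb E82985 (iv2 D155539))
theorem F321721 : act 7 n70244 = n74001 := (sb E82985 (iv7 F244561))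
theorem F321722 : act 3 n36767 = n74000 := (sb E82986 (iv3 D155540))
theorem F321723 : act 7 n155541 = n149579 := (sb E82987 (iv7 F307968))
theorem F321724 : act 5 n36766 = n74000 := (sb E82988 (iv5 D155542))
theorem F321725 : act 3 n155543 = n80573 := (sb E82989 F264497)
theorem E85671 : n79271 = n28923 := (((D28923).symm.trans (sb E82992 (iv6 D164992)))).symm
theorem F321726 : act 5 n13780 = n17457 := (sb E82994 (iv5 D36084))
theorem E85673 : n146049 = n55002 := ((D146049).symm.trans (sb E82996 (iv4 D119551)))
theorem E85674 : n180046 = n128000 := ((D180046).symm.trans (sb E82997 F241459))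
theorem F321727 : act 5 n86036 = n72636 := (sb E82997 (iv5 D153608))
theorem F321728 : act 1 n139840 = n70037 := (sb E82998 (iv0 D149217))
theorem E85675 : n146277 = n139837 := (((D139837).symm.trans (sb E82999 (iv1 F229603)))).symm
theorem E85676 : n146276 = n139838 := (((D139838).symm.trans (sb E82999 F229599))).symm
theorem F321729 : act 2 n65642 = n66415 := (sb E82999 (iv2 D141597))
theorem E85684 : n129943 = n43109 := ((((iv3 F67490)).symm.trans (sb E83002 D129943))).symm
theorem F321730 : act 5 n20338 = n29052 := (sb E83002 F95561)
theorem F321731 : act 2 n28285 = n28875 := (sb E83004 F47148)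
theorem E85687 : n62155 = n59599 := (((D59599).symm.trans (sb E83004 (iv3 F96886)))).symm
theorem E85688 : n59600 = n13994 := ((D59600).symm.trans (sb E83004 (iv5 D29424)))
theorem E85689 : n161163 = n31763 := (((D31763).symm.trans (sb E83006 (iv1 F303222)))).symm
theorem E85695 : n106139 = n78987 := ((D106139).symm.trans (sb E83007 (iv2 D164466)))
theorem E85696 : n106144 = n78988 := ((D106144).symm.trans (sb E83007 (iv7 F259124)))
theorem F321732 : act 4 n31579 = n31902 := (sb E83008 (iv4 D68575))
theorem E85698 : n159953 = n151765 := ((((iv1 F238679)).symm.trans (sb E83009 (iv1 F252279)))).symm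
theorem E85699 : n159952 = n76580 := ((((iv0 F233095)).symm.trans (sb E83009 F252287))).symm
theorem E85700 : n159954 = n151761 := (((F238673).symm.trans (sb E83009 (iv2 F252288)))).symm
theorem F321733 : act 3 n144891 = n68799 := (sb E83009 F229924)
theorem F321734 : act 5 n144891 = n149688 := (sb E83009 (iv5 F235356))
theorem F321735 : act 6 n144891 = n68716 := (sb E83009 (iv6 D146634))
theorem E85701 : n151762 = n68722 := ((F238672).symm.trans (sb E83009 F229925))
theorem E85702 : n144859 = n141551 := (((D141551).symm.trans (iv6 (sb E83010 (tr (iv6 D144883) E84527))))).symm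
theorem E85703 : n178528 = n146148 := (((D146148).symm.trans (sb E83011 F278218))).symm
theorem E85704 : n166417 = n52965 := ((F320066).symm.trans (sb E83011 (iv4 D114776)))
theorem F321736 : act 6 n68412 = n52965 := (sb E83012 (iv6 D114778))
theorem E85705 : n164293 = n35924 := ((((iv1 D78911)).symm.trans (sb E83016 (iv1 F258922)))).symm
theorem E85707 : n164270 = n35928 := (((iv2 F258913)).symm.trans (sb E83016 F120113))
theorem E85708 : n164304 = n164271 := (((D164271).symm.trans (sb E83016 (iv3 F258933)))).symm
theorem E85709 : n164310 = n164272 := (((D164272).symm.trans (sb E83016 (iv4 F258937)))).symm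
theorem E85710 : n164319 = n164274 := (((D164274).symm.trans (sb E83016 D164319))).symm
theorem E85711 : n164266 = n35927 := ((F258912).symm.trans (sb E83016 (iv7 D78923)))
theorem F321737 : act 0 n78921 = n69272 := (sb E83017 (iv1 D147833))
theorem F321738 : act 1 n78921 = n144999 := (sb E83017 F231606)
theorem F321739 : act 2 n78921 = n127738 := (sb E83017 F231609)
theorem E85712 : n164313 = n105848 := ((D164313).symm.trans (sb E83017 (iv4 F231608)))
theorem F321740 : act 6 n78921 = n144979 := (sb E83017 F231610)
theorem F321741 : act 7 n78921 = n117108 := (sb E83017 F231607)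
theorem F321742 : act 6 n147835 = n78903 := (sb E83018 (iv6 D164253))
theorem F321743 : act 3 n46731 = n71681 := (sb E83019 (iv3 D152041))
theorem E85713 : n133040 = n100098 := ((((iv4 F154032)).symm.trans (sb E83019 F239054))).symm
theorem E85714 : n135415 = n100107 := (((D100107).symm.trans (sb E83019 F239055))).symm
theorem F321744 : act 2 n98979 = n135413 := (sb E83020 F239056)
theorem F321745 : act 5 n98979 = n71681 := (sb E83020 (iv5 D152042))
theorem F321746 : act 7 n98979 = n135416 := (sb E83020 F239057)
theorem E85715 : n135414 = n100089 := (((D100089).symm.trans (sb E83021 F239058))).symm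
theorem E85716 : n133036 = n100090 := (((D100090).symm.trans (sb E83021 F239059))).symm
theorem F321747 : act 6 n46728 = n71681 := (sb E83021 (iv6 D152043))
theorem F321748 : act 5 n84440 = n74537 := (sb E83022 (iv5 D156730))
theorem E85717 : n141404 = n106015 := ((D141404).symm.trans (sb E83023 (iv1 F302645)))
theorem E85718 : n176972 = n141405 := (((D141405).symm.trans (sb E83023 D176972))).symm
theorem E85719 : n133750 = n116302 := ((((iv2 F181293)).symm.trans (sb E83023 (iv2 F310027)))).symm
theorem E85720 : n141406 = n55737 := ((D141406).symm.trans (sb E83023 F129407))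
theorem F321749 : act 6 n66342 = n121939 := (sb E83023 (iv6 F300306))
theorem E85724 : n68300 = n17288 := ((((iv2 F51328)).symm.trans (sb E83027 (iv2 D145707)))).symm
theorem E85725 : n35328 = n30934 := ((F302257).symm.trans (sb E83028 (iv1 F81439)))
theorem F321750 : act 1 n35382 = n30933 := (sb E83028 F81440)
theorem E85726 : n30937 = n17207 := (((F91340).symm.trans (sb E83028 F81436))).symm
theorem E85727 : n111887 = n77488 := ((((iv3 F116329)).symm.trans (sb E83028 (iv3 F173810)))).symm
theorem E85729 : n25061 = n17212 := (((F91341).symm.trans (sb E83028 (iv7 D51595)))).symm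
theorem E85730 : n77498 = n30935 := (((D30935).symm.trans (sb E83029 (iv3 F116354)))).symm
theorem E85732 : n30936 = n17166 := ((D30936).symm.trans (sb E83029 (iv5 D35386)))
theorem E85734 : n68301 = n17637 := ((D68301).symm.trans (sb E83030 F302536))
theorem E85735 : n55914 = n50864 := ((((iv6 F80235)).symm.trans (sb E83030 F91305))).symm
theorem F321751 : act 5 n17109 = n30933 := (sb E83031 (iv5 D66178))
theorem E85739 : n50522 = n17235 := (((F301531).symm.trans (sb E83032 F80218))).symm
theorem E85740 : n77595 = n24735 := (((iv5 F301953)).symm.trans (sb E83032 (iv5 D50861)))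
theorem F321752 : act 6 n35568 = n30933 := (sb E83032 (iv6 F80220))
theorem F321753 : act 3 n31784 = n17690 := (sb E83033 F300106)
theorem E85743 : n110310 = n55913 := ((((iv2 F88467)).symm.trans (sb E83035 D110310))).symm
theorem E85744 : n110311 = n78594 := (((D78594).symm.trans (sb E83035 D110311))).symm
theorem E85746 : n50863 = n35822 := ((((iv7 F56485)).symm.trans (sb E83035 (iv7 F80231)))).symm
theorem F321754 : act 3 n35670 = n68298 := (sb E83038 (iv3 D145702))
theorem F321755 : act 6 n52054 = n83620 := (sb E83039 (iv6 D175083))
theorem F321756 : act 3 n38518 = n51004 := (sb E83040 F171195)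
theorem E85748 : n108743 = n83248 := ((((iv4 F128328)).symm.trans (sb E83040 F171196))).symm
theorem E85749 : n83541 = n51002 := ((D83541).symm.trans (sb E83040 (iv6 D110610)))
theorem F321757 : act 5 n71695 = n51004 := (sb E83041 (iv5 D110614))
theorem E85751 : n120953 = n24795 := (((F45516).symm.trans (sb E83043 F299554))).symm
theorem F321758 : act 4 n28160 = n35568 := (sb E83043 (iv4 D77961))
theorem E85754 : n77750 = n14951 := (((D14951).symm.trans (sb E83044 (iv4 D161896)))).symm
theorem E85757 : n77733 = n50949 := ((((iv4 F80385)).symm.trans (sb E83045 F302594))).symm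
theorem E85759 : n56143 = n11762 := (((F38781).symm.trans (sb E83045 (iv6 D121557)))).symm
theorem E85763 : n161912 = n145703 := (((iv3 F255903)).symm.trans (iv3 (sb E83052 (tr F257076 E83373))))
theorem F321759 : act 7 n145703 = n163080 := (sb E83052 (iv7 F257411))
theorem F321760 : act 4 n109749 = n73636 := (sb E83053 (iv4 D155139))
theorem F321761 : act 4 n113163 = n73635 := (sb E83054 (iv4 D155135))
theorem F321762 : act 5 n117093 = n155191 := (sb E83055 (iv5 F244022))
theorem E85765 : n73596 = n64457 := (((D64457).symm.trans (sb E83057 (iv5 D155064)))).symm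
theorem F321763 : act 5 n135995 = n73626 := (sb E83058 (iv5 D155115))
theorem F321764 : act 5 n33835 = n63945 := (sb E83059 (iv5 D135996))
theorem F321765 : act 5 n117094 = n73597 := (sb E83061 (iv5 D155067))
theorem E85766 : n150265 = n113160 := (((iv0 F300980)).symm.trans (sb E83062 (iv0 F176314)))
theorem F321766 : act 5 n73658 = n51932 := (sb E83062 (iv5 D112560))
theorem F321767 : act 5 n33836 = n64458 := (sb E83063 F220287)
theorem E85767 : n133555 = n64567 := ((D133555).symm.trans (sb E83066 F100670))
theorem E85768 : n133556 = n64562 := ((D133556).symm.trans (sb E83066 (iv0 F100669)))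
theorem E85769 : n137939 = n133543 := ((((iv2 F214824)).symm.trans (sb E83066 (iv2 F221189)))).symm
theorem E85770 : n133557 = n30478 := ((D133557).symm.trans (sb E83066 (iv4 D64829)))
theorem E85771 : n113740 = n29633 := ((((iv5 D62675)).symm.trans (sb E83066 (iv5 F176986)))).symm
theorem F321768 : act 7 n62675 = n59700 := (sb E83066 (iv7 F102793))
theorem E85772 : n135610 = n31950 := ((((iv1 D68668)).symm.trans (sb E83068 (iv1 F218349)))).symm
theorem F321769 : act 1 n68668 = n135609 := (sb E83068 F218352)
theorem E85773 : n146472 = n63845 := (((iv2 F229798)).symm.trans (sb E83068 F218346))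
theorem E85774 : n146473 = n135585 := ((D146473).symm.trans (sb E83068 F218347))
theorem E85775 : n146475 = n63844 := ((D146475).symm.trans (sb E83068 (iv5 D135776)))
theorem E85776 : n146467 = n135607 := ((F229797).symm.trans (sb E83068 F218348))
theorem F321770 : act 2 n90251 = n83866 := (sb E83070 F273751)
theorem F321771 : act 6 n90251 = n83029 := (sb E83070 (iv6 D173588))
theorem F321772 : act 0 n130045 = n92459 := (sb E83071 F283742)
theorem F321773 : act 2 n130045 = n92888 := (sb E83071 F283740)
theorem F321774 : act 4 n130045 = n87035 := (sb E83071 (iv4 D182280))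
theorem F321775 : act 7 n130045 = n182292 := (sb E83071 (iv7 F283810))
theorem F321776 : act 0 n102943 = n83866 := (sb E83072 (iv1 D175663))
theorem F321777 : act 4 n43241 = n83866 := (sb E83073 F275049)
theorem E85781 : n92454 = n83864 := ((D92454).symm.trans (sb E83073 (iv6 D175661)))
theorem F321778 : act 7 n89557 = n83866 := (sb E83074 (iv7 D175665))
theorem E85782 : n130983 = n62676 := (E83075).trans E84510
theorem E85783 : n133542 = n61450 := (((iv1 F214823)).symm.trans (sb E85782 (iv1 D130983)))
theorem F321779 : act 4 n114163 = n66921 := (sb E83077 F225661)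
theorem F321780 : act 6 n114163 = n66920 := (sb E83077 (iv6 D142753))
theorem E85784 : n175927 = n117364 := ((D175927).symm.trans (sb E83078 F229489))
theorem E85785 : n175928 = n117324 := ((D175928).symm.trans (sb E83078 (iv0 F229490)))
theorem E85786 : n175929 = n117361 := ((D175929).symm.trans (sb E83078 F229491))
theorem F321781 : act 4 n83955 = n68560 := (sb E83078 (iv4 D146203))
theorem E85787 : n173620 = n117362 := (((iv7 F272092)).symm.trans (sb E83078 F229488))
theorem F321782 : act 4 n83950 = n59711 := (sb E83079 (iv4 D127194))
theorem F321783 : act 5 n78510 = n132827 := (sb E83080 (iv5 F213331))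
theorem E85788 : n61468 = n31412 := (((D31412).symm.trans (sb E83081 (iv5 D131036)))).symm
theorem F321784 : act 5 n29094 = n31411 := (sb E83082 (iv5 D67627))
theorem F321785 : act 3 n69534 = n60948 := (sb E83083 F208120)
theorem E85791 : n148387 = n60947 := ((D148387).symm.trans (sb E83083 (iv5 D129770)))
theorem E85797 : n162822 = n153598 := (((iv2 F257096)).symm.trans (sb E83089 (iv2 F241422)))
theorem F321786 : act 5 n78269 = n60137 := (sb E83089 (iv5 D127997))
theorem F321787 : act 5 n130478 = n85312 := (sb E83090 (iv5 D178923))
theorem F321788 : act 5 n86088 = n45916 := (sb E83091 F151593)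
theorem F321789 : act 5 n140833 = n131262 := (sb E83092 F317800)
theorem F321790 : act 7 n140833 = n166116 := (sb E83092 F317802)
theorem F321791 : act 1 n32302 = n66081 := (sb E83093 (iv0 D140837))
theorem F321792 : act 0 n117885 = n66081 := (sb E83094 (iv1 D140838))
theorem F321793 : act 4 n92518 = n66081 := (sb E83095 F223912)
theorem F321794 : act 6 n92518 = n66079 := (sb E83095 (iv6 D140836))
theorem F321795 : act 5 n61592 = n66081 := (sb E83096 (iv5 D140839))
theorem E85798 : n131264 = n66617 := ((D131264).symm.trans (sb E83096 F223913))
theorem F321796 : act 6 n44996 = n51567 := (sb E83098 (iv6 D111834))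
theorem F321797 : act 4 n45000 = n69082 := (sb E83099 (iv4 F319434))
theorem E85800 : n84839 = n21488 := (((F70765).symm.trans (sb E83099 F299369))).symm
theorem E85801 : n96398 = n84836 := (((D84836).symm.trans (sb E83100 D96398))).symm
theorem E85802 : n96399 = n84837 := (((D84837).symm.trans (sb E83100 D96399))).symm
theorem F321798 : act 2 n39255 = n44542 := (sb E83100 F70788)
theorem E85804 : n96401 = n84840 := (((D84840).symm.trans (sb E83100 D96401))).symm
theorem F321799 : act 5 n146148 = n79895 := (sb E83103 (iv5 D166409))
theorem F321800 : act 6 n83855 = n79781 := (sb E83108 (iv6 D166157))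
theorem F321801 : act 1 n35435 = n35798 := (sb E83109 (iv0 D78588))
theorem F321802 : act 0 n98256 = n178174 := (sb E83110 (iv1 F277727))
theorem F321803 : act 1 n98256 = n178173 := (sb E83110 F277723)
theorem F321804 : act 2 n98256 = n79784 := (sb E83110 (iv2 D166161))
theorem F321805 : act 3 n98256 = n178178 := (sb E83110 (iv3 F277730))
theorem E85808 : n178175 = n175446 := ((((iv7 F274633)).symm.trans (sb E83110 (iv7 F277725)))).symm
theorem F321806 : act 4 n31423 = n27048 := (sb E83111 (iv4 D56090))
theorem E85813 : n121498 = n59986 := ((((iv7 F315676)).symm.trans (sb E83111 D121498))).symm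
theorem F321807 : act 2 n56088 = n68350 := (sb E83112 F182684)
theorem E85814 : n121489 = n54006 := ((D121489).symm.trans (sb E83112 F182685))
theorem E85815 : n110511 = n80322 := (((F128450).symm.trans (sb E83112 F316832))).symm
theorem E85816 : n121490 = n53883 := ((D121490).symm.trans (sb E83112 (iv6 D116917)))
theorem F321808 : act 7 n56088 = n74585 := (sb E83112 F316833)
theorem F321809 : act 2 n56089 = n74585 := (sb E83113 (iv2 F111997))
theorem E85818 : n121492 = n30621 := ((D121492).symm.trans (sb E83113 (iv4 D65242)))
theorem E85819 : n110733 = n80140 := ((((iv5 F123007)).symm.trans (sb E83113 (iv5 F171402)))).symm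
theorem F321810 : act 7 n56089 = n68350 := (sb E83113 (iv7 F317761))
theorem E85820 : n52078 = n6156 := (((F21556).symm.trans (sb E83115 F175683))).symm
theorem F321811 : act 0 n56091 = n74585 := (sb E83116 F175681)
theorem F321812 : act 1 n56091 = n68350 := (sb E83116 F317964)
theorem E85822 : n119672 = n67314 := (((iv3 F188778)).symm.trans (sb E83116 F317965))
theorem E85823 : n155883 = n121499 := (((D121499).symm.trans (sb E83116 F317967))).symm
theorem F321813 : act 5 n156836 = n80314 := (sb E83117 (iv5 D167353))
theorem F321814 : act 7 n156836 = n121488 := (sb E83117 (iv7 F263487))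
theorem E85824 : n174284 = n50588 := ((((iv1 F79956)).symm.trans (sb E83118 (iv1 F273081)))).symm
theorem E85825 : n174351 = n65583 := (((F101340).symm.trans (sb E83118 F273165))).symm
theorem E85826 : n75472 = n50576 := (((iv4 F118573)).symm.trans (sb E83119 (iv4 D109651)))
theorem F321815 : act 5 n36591 = n74585 := (sb E83119 F169633)
theorem F321816 : act 4 n65653 = n86855 := (sb E83122 (iv4 D181855))
theorem E85827 : n50578 = n27112 := ((((iv4 F43829)).symm.trans (sb E83123 (iv4 D109657)))).symm
theorem E85828 : n50577 = n36793 := (((F299421).symm.trans (sb E83124 (iv4 D109654)))).symm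
theorem E85831 : n27027 = n24827 := ((D27027).symm.trans (sb E83125 F80494))
theorem E85835 : n50757 = n35378 := ((((iv6 F299919)).symm.trans (sb E83126 F80493))).symm
theorem E85836 : n119193 = n69507 := (((iv3 F187549)).symm.trans (sb E83130 F232108))
theorem F321817 : act 6 n117482 = n69500 := (sb E83135 (iv6 D148267))
theorem F321818 : act 6 n147026 = n69506 := (sb E83136 (iv6 D148294))
theorem F321819 : act 2 n143726 = n69511 := (sb E83139 F232113)
theorem F321820 : act 7 n143726 = n69506 := (sb E83139 (iv7 D148295))
theorem E85837 : n118525 = n69512 := ((F308966).symm.trans (sb E83140 F232117))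
theorem F321821 : act 1 n32278 = n66921 := (sb E83142 (iv0 D142754))
theorem F321822 : act 0 n45781 = n66921 := (sb E83143 (iv1 D142755))
theorem F321823 : act 5 n142740 = n84473 := (sb E83144 F317902)
theorem F321824 : act 7 n142740 = n170600 := (sb E83144 F317903)
theorem F321825 : act 5 n38958 = n66921 := (sb E83145 (iv5 D142756))
theorem F321826 : act 7 n81774 = n66921 := (sb E83146 (iv7 D142757))
theorem F321827 : act 1 n45928 = n58692 := (sb E83147 (iv0 D125329))
theorem F321828 : act 0 n45927 = n58692 := (sb E83148 (iv1 D125330))
theorem F321829 : act 2 n45930 = n58692 := (sb E83149 (iv2 D125331))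
theorem F321830 : act 3 n45930 = n86088 := (sb E83149 F201592)
theorem F321831 : act 3 n98254 = n58691 := (sb E83150 (iv3 D125327))
theorem F321832 : act 4 n98254 = n58692 := (sb E83150 F201588)
theorem F321833 : act 6 n98254 = n166162 := (sb E83150 (iv6 F261643))
theorem F321834 : act 0 n109409 = n80190 := (sb E83159 (iv1 F300401))
theorem F321835 : act 1 n109409 = n80238 := (sb E83159 F262825)
theorem E85838 : n81755 = n50478 := ((((iv4 D109409)).symm.trans (sb E83159 F262821))).symm
theorem F321836 : act 5 n86102 = n54869 := (sb E83160 F187670)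
theorem F321837 : act 0 n59656 = n65656 := (sb E83167 (iv1 D139868))
theorem F321838 : act 1 n59656 = n65661 := (sb E83167 F223073)
theorem E85839 : n127098 = n126623 := (((iv3 F204342)).symm.trans (sb E83167 (iv3 F223077)))
theorem F321839 : act 2 n124960 = n67743 := (sb E83168 F227394)
theorem E85840 : n138368 = n66393 := (E83169).trans E84527
theorem E85841 : n141550 = n64995 := ((D141550).symm.trans (sb E85840 (iv5 D138368)))
theorem E85842 : n144896 = n76582 := ((D144896).symm.trans (sb E83170 F229277))
theorem F321840 : act 6 n67914 = n68474 := (sb E83170 (iv6 D146037))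
theorem F321841 : act 4 n105955 = n146512 := (sb E83171 (iv4 F232873))
theorem F321842 : act 0 n103689 = n60386 := (sb E83172 F191351)
theorem E85843 : n103128 = n49014 := ((F159134).symm.trans (sb E83172 F162964))
theorem F321843 : act 5 n103689 = n48982 := (sb E83172 (iv5 D105951))
theorem F321844 : act 7 n103689 = n49019 := (sb E83172 F162965)
theorem F321845 : act 4 n106039 = n68473 := (sb E83173 F229262)
theorem F321846 : act 6 n106039 = n68472 := (sb E83173 (iv6 D146033))
theorem F321847 : act 4 n106040 = n68479 := (sb E83175 F229286)
theorem E85844 : n176330 = n120672 := ((D176330).symm.trans (sb E83176 (iv1 F314427)))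
theorem F321848 : act 2 n84084 = n63235 := (sb E83176 F216494)
theorem F321849 : act 5 n84084 = n63215 := (sb E83176 (iv5 D134523))
theorem F321850 : act 6 n116681 = n79895 := (sb E83179 (iv6 D166410))
theorem E85845 : n83458 = n51672 := ((((iv3 D112039)).symm.trans (sb E83180 F261984))).symm
theorem F321851 : act 6 n112039 = n79896 := (sb E83180 (iv6 D166414))
theorem F321852 : act 6 n36396 = n69480 := (sb E83181 (iv6 D148211))
theorem F321853 : act 6 n110635 = n84573 := (sb E83182 F303800)
theorem E85846 : n140980 = n77377 := (((iv6 F318474)).symm.trans (sb E83183 (iv6 D161185)))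
theorem E85847 : n109858 = n77374 := (((D77374).symm.trans (sb E83186 F226601))).symm
theorem E85848 : n109832 = n77375 := (((D77375).symm.trans (sb E83186 F226602))).symm
theorem E85849 : n140977 = n36547 := ((((iv2 F57409)).symm.trans (sb E83186 F226598))).symm
theorem F321854 : act 3 n31154 = n66820 := (sb E83190 F225417)
theorem E85851 : n146752 = n68910 := (((iv3 F230105)).symm.trans (sb E83191 F225526))
theorem F321855 : act 0 n116438 = n144518 := (sb E83192 (iv1 F227376))
theorem F321856 : act 2 n116438 = n144520 := (sb E83192 (iv2 F227379))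
theorem F321857 : act 7 n116438 = n66820 := (sb E83192 (iv7 D142525))
theorem E85852 : n129611 = n59501 := (((iv3 F207787)).symm.trans (sb E83193 (iv3 D126790)))
theorem F321858 : act 0 n31160 = n53717 := (sb E83194 (iv1 D116562))
theorem E85853 : n144518 = n53729 := ((D144518).symm.trans (sb E83195 (iv0 D116597)))
theorem F321859 : act 3 n65573 = n53729 := (sb E83197 F181921)
theorem F321860 : act 6 n65573 = n53717 := (sb E83197 (iv6 D116564))
theorem F321861 : act 2 n116600 = n68896 := (sb E83198 F188840)
theorem F321862 : act 3 n116600 = n66856 := (sb E83198 F315900)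
theorem F321863 : act 4 n116600 = n75952 := (sb E83198 F315901)
theorem F321864 : act 5 n116600 = n68837 := (sb E83198 F188842)
theorem F321865 : act 6 n116600 = n55071 := (sb E83198 (iv6 D119698))
theorem F321866 : act 5 n116558 = n62156 := (sb E83199 F212607)
theorem F321867 : act 5 n29425 = n53716 := (sb E83200 (iv5 D116559))
theorem F321868 : act 6 n68902 = n32270 := (sb E83202 (iv6 D69495))
theorem E85872 : n65582 = n38385 := (((iv1 F101337)).symm.trans (sb E83207 F123479))
theorem E85873 : n112081 = n77550 := (((iv0 F174231)).symm.trans (sb E83207 F302740))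
theorem E85874 : n166981 = n74495 := ((((iv2 F111826)).symm.trans (sb E83207 (iv2 F262903)))).symm
theorem E85875 : n138726 = n38624 := ((D138726).symm.trans (sb E83207 F310672))
theorem E85876 : n112085 = n36618 := (((iv5 F174244)).symm.trans (sb E83207 (iv5 D80372)))
theorem E85877 : n167488 = n116909 := ((((iv7 F317972)).symm.trans (sb E83207 D167488))).symm
theorem F321869 : act 6 n55545 = n62248 := (sb E83208 (iv6 D132654))
theorem F321870 : act 1 n79887 = n44542 := (sb E83215 (iv0 D95366))
theorem E85878 : n166380 = n84836 := (((iv2 F261968)).symm.trans (sb E83215 (tr F148383 E85801)))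
theorem E85879 : n166382 = n47797 := ((D166382).symm.trans (sb E83215 F146998))
theorem E85880 : n166383 = n91380 := ((D166383).symm.trans (sb E83215 (iv5 F292465)))
theorem F321871 : act 0 n79886 = n44542 := (sb E83216 F137936)
theorem E85882 : n166377 = n41977 := ((D166377).symm.trans (sb E83216 (iv4 D89862)))
theorem F321872 : act 3 n79873 = n44542 := (sb E83217 (iv3 D95367))
theorem E85885 : n166366 = n44543 := (((D44543).symm.trans (sb E83218 F277793))).symm
theorem E85888 : n166385 = n96424 := (((F292808).symm.trans (sb E83219 F277798))).symm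
theorem F321873 : act 7 n79888 = n44542 := (sb E83220 (iv7 D95369))
theorem E85889 : n96364 = n82407 := ((D96364).symm.trans (sb E83221 F298063))
theorem E85890 : n96284 = n82413 := (((iv0 F148110)).symm.trans (sb E83221 F298064))
theorem E85891 : n96354 = n84195 := (((iv2 F148307)).symm.trans (sb E83221 F298065))
theorem E85892 : n96365 = n27098 := ((D96365).symm.trans (sb E83221 (iv4 D56238)))
theorem E85893 : n121704 = n21484 := ((((iv5 D44996)).symm.trans (sb E83221 D121704))).symm
theorem E85894 : n96366 = n36391 := ((D96366).symm.trans (sb E83221 F88950))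
theorem F321874 : act 5 n119361 = n79906 := (sb E83226 (iv5 D166440))
theorem F321875 : act 5 n36399 = n73569 := (sb E83228 (iv5 D155006))
theorem F321876 : act 5 n144771 = n68442 := (sb E83229 (iv5 D145973))
theorem F321877 : act 6 n144771 = n68445 := (sb E83229 F229211)
theorem F321878 : act 6 n132644 = n79789 := (sb E83230 (iv6 D166180))
theorem F321879 : act 6 n36337 = n62240 := (sb E83232 (iv6 D132646))
theorem E85897 : n128836 = n82570 := (((iv2 F207099)).symm.trans (sb E83233 F249456))
theorem F321880 : act 4 n60590 = n75488 := (sb E83233 (iv4 D158333))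
theorem E85898 : n128841 = n75502 := ((D128841).symm.trans (sb E83233 F249457))
theorem F321881 : act 3 n83906 = n49760 := (sb E83234 F166354)
theorem E85899 : n175789 = n49759 := ((D175789).symm.trans (sb E83234 (iv5 D107714)))
theorem E85900 : n173639 = n135252 := (((iv7 F272116)).symm.trans (sb E83234 (iv7 F217456)))
theorem F321882 : act 1 n43274 = n63161 := (sb E83235 (iv0 D134466))
theorem F321883 : act 0 n52650 = n63161 := (sb E83236 (iv1 D134467))
theorem F321884 : act 2 n52649 = n63161 := (sb E83237 F179257)
theorem E85901 : n114075 = n53117 := ((D114075).symm.trans (sb E83237 (iv6 D115111)))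
theorem F321885 : act 5 n88198 = n63161 := (sb E83238 (iv5 D134468))
theorem E85902 : n63164 = n41162 := ((((iv6 D88198)).symm.trans (sb E83238 F216421))).symm
theorem E85903 : n135257 = n114072 := (((D114072).symm.trans (sb E83239 (iv6 F217460)))).symm
theorem F321886 : act 7 n52648 = n63161 := (sb E83239 (iv7 D134469))
theorem F321887 : act 0 n83494 = n38675 := (sb E83240 (iv1 F319554))
theorem F321888 : act 1 n83494 = n77023 := (sb E83240 (iv0 D160629))
theorem E85904 : n142807 = n84446 := (((D84446).symm.trans (sb E83241 (iv4 F225709)))).symm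
theorem F321889 : act 7 n38936 = n66328 := (sb E83241 (iv7 D141383))
theorem F321890 : act 7 n138654 = n66333 := (sb E83242 (iv7 D141393))
theorem F321891 : act 7 n38934 = n66342 := (sb E83243 (iv7 D141407))
theorem F321892 : act 2 n31330 = n66340 := (sb E83244 (iv2 D141394))
theorem F321893 : act 3 n74908 = n66340 := (sb E83245 (iv3 D141395))
theorem F321894 : act 2 n141396 = n67393 := (sb E83246 (iv2 D143873))
theorem F321895 : act 1 n141398 = n71087 := (sb E83247 F316864)
theorem F321896 : act 2 n141398 = n67405 := (sb E83247 F226526)
theorem F321897 : act 3 n141398 = n79728 := (sb E83247 F316865)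
theorem E85905 : n157447 = n140007 := (((F224439).symm.trans (sb E83247 F316866))).symm
theorem F321898 : act 7 n116838 = n66340 := (sb E83248 (iv7 D141399))
theorem F321899 : act 1 n85433 = n49736 := (sb E83249 (iv0 D107655))
theorem E85906 : n130567 = n125005 := ((((iv3 F200786)).symm.trans (sb E83249 F209147))).symm
theorem E85907 : n163887 = n148204 := ((D163887).symm.trans (sb E83250 F232033))
theorem E85908 : n163888 = n148206 := ((D163888).symm.trans (sb E83250 (iv0 F232035)))
theorem E85909 : n163889 = n116643 := ((D163889).symm.trans (sb E83250 (iv2 F182011)))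
theorem E85910 : n163890 = n109771 := ((D163890).symm.trans (sb E83250 F170223))
theorem E85911 : n163891 = n116596 := ((D163891).symm.trans (sb E83250 (iv5 F181958)))
theorem E85912 : n146193 = n51017 := (((iv1 F318587)).symm.trans (sb E83251 F170225))
theorem E85913 : n112582 = n79706 := (((F303803).symm.trans (sb E83251 (iv0 F175165)))).symm
theorem E85914 : n163877 = n147174 := ((D163877).symm.trans (sb E83253 F230757))
theorem E85915 : n163879 = n111560 := ((D163879).symm.trans (sb E83253 (iv2 F173108)))
theorem E85916 : n163880 = n111297 := ((D163880).symm.trans (sb E83253 F172686))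
theorem F321900 : act 1 n126348 = n86267 := (sb E83256 F281083)
theorem F321901 : act 0 n126347 = n86267 := (sb E83257 (iv1 F281091))
theorem F321902 : act 2 n58973 = n86267 := (sb E83258 F281088)
theorem E85917 : n125952 = n121086 := ((D125952).symm.trans (sb E83258 F281090))
theorem F321903 : act 4 n110017 = n86267 := (sb E83259 F304718)
theorem F321904 : act 6 n110017 = n76198 := (sb E83259 (iv6 D159270))
theorem F321905 : act 6 n12897 = n25160 := (sb E83261 (iv6 D51831))
theorem F321906 : act 1 n117609 = n145055 := (sb E83266 (iv0 F227999))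
theorem F321907 : act 2 n117609 = n123532 := (sb E83266 F309444)
theorem F321908 : act 4 n117609 = n54219 := (sb E83266 F184322)
theorem F321909 : act 6 n117609 = n69406 := (sb E83266 F184323)
theorem F321910 : act 7 n117609 = n54215 := (sb E83266 (iv7 D117701))
theorem F321911 : act 2 n32579 = n67200 := (sb E83268 F184211)
theorem F321912 : act 6 n32579 = n54180 := (sb E83268 (iv6 D117611))
theorem F321913 : act 3 n143457 = n123532 := (sb E83269 F238430)
theorem F321914 : act 4 n143457 = n76549 := (sb E83269 F238431)
theorem F321915 : act 6 n143457 = n71446 := (sb E83269 (iv6 D151556))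
theorem E85922 : n151315 = n67975 := ((D151315).symm.trans (sb E83270 F227951))
theorem F321916 : act 4 n71315 = n67197 := (sb E83270 (iv4 D143458))
theorem F321917 : act 3 n71314 = n67200 := (sb E83271 F226200)
theorem F321918 : act 6 n71314 = n67197 := (sb E83271 (iv6 D143460))
theorem F321919 : act 6 n115840 = n70188 := (sb E83272 F235059)
theorem F321920 : act 4 n32574 = n67200 := (sb E83273 F226202)
theorem F321921 : act 6 n32574 = n67198 := (sb E83273 (iv6 D143461))
theorem F321922 : act 1 n76641 = n67200 := (sb E83274 (iv0 D143464))
theorem F321923 : act 0 n70301 = n67200 := (sb E83275 (iv1 D143465))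
theorem F321924 : act 5 n76679 = n67200 := (sb E83276 (iv5 D143466))
theorem F321925 : act 7 n76753 = n67200 := (sb E83277 (iv7 D143467))
theorem F321926 : act 3 n56974 = n54260 := (sb E83279 (iv3 D117793))
theorem E85923 : n122654 = n67189 := ((D122654).symm.trans (sb E83279 (iv7 F205160)))
theorem F321927 : act 6 n56972 = n54260 := (sb E83280 (iv6 D117795))
theorem F321928 : act 3 n117775 = n54257 := (sb E83287 F184461)
theorem F321929 : act 6 n117775 = n54254 := (sb E83287 (iv6 D117776))
theorem F321930 : act 0 n143397 = n67216 := (sb E83288 (iv1 D143511))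
theorem F321931 : act 1 n143397 = n67221 := (sb E83288 F226222)
theorem F321932 : act 2 n143397 = n149336 := (sb E83288 F314560)
theorem F321933 : act 4 n143397 = n79763 := (sb E83288 F314561)
theorem F321934 : act 7 n143397 = n149339 := (sb E83288 F314563)
theorem F321935 : act 2 n123245 = n67170 := (sb E83289 (iv2 D143399))
theorem F321936 : act 4 n123245 = n111909 := (sb E83289 F226163)
theorem F321937 : act 6 n76643 = n67170 := (sb E83290 (iv6 D143401))
theorem F321938 : act 7 n76634 = n54257 := (sb E83305 (iv7 D117787))
theorem F321939 : act 1 n76654 = n54257 := (sb E83306 (iv0 D117784))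
theorem F321940 : act 0 n70340 = n54257 := (sb E83307 (iv1 D117785))
theorem F321941 : act 6 n117041 = n85413 := (sb E83313 (iv6 F244602))
theorem F321942 : act 0 n117782 = n116032 := (sb E83309 F226183)
theorem F321943 : act 1 n117782 = n116037 := (sb E83309 F226184)
theorem F321944 : act 2 n117782 = n67187 := (sb E83309 F226181)
theorem F321945 : act 3 n117782 = n146802 := (sb E83309 F230161)
theorem F321946 : act 5 n117041 = n54257 := (sb E83310 (iv5 D117786))
theorem F321947 : act 3 n123253 = n67187 := (sb E83312 (iv3 D143425))
theorem F321948 : act 1 n139754 = n85376 := (sb E83314 F244614)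
theorem F321949 : act 2 n139754 = n85413 := (sb E83314 F244612)
theorem F321950 : act 7 n139754 = n74021 := (sb E83314 (iv7 D155591))
theorem F321951 : act 7 n70340 = n67105 := (sb E83319 (iv7 F320246))
theorem F321952 : act 6 n31268 = n67187 := (sb E83326 (iv6 D143427))
theorem E85924 : n143154 = n67719 := (((D67719).symm.trans (sb E83335 (iv5 F226197)))).symm
theorem F321953 : act 5 n139754 = n65605 := (sb E83337 (iv5 D139756))
theorem F321954 : act 1 n31749 = n67289 := (sb E83340 (iv0 D143677))
theorem E85925 : n108211 = n68223 := (((D68223).symm.trans (sb E83342 (iv1 F222964)))).symm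
theorem E85926 : n68224 = n65619 := ((D68224).symm.trans (sb E83342 (iv0 D139783)))
theorem E85927 : n81789 = n68225 := (((D68225).symm.trans (sb E83342 F315243))).symm
theorem E85928 : n147493 = n68239 := (((D68239).symm.trans (sb E83345 (iv0 F241601)))).symm
theorem E85929 : n147105 = n68240 := (((D68240).symm.trans (sb E83345 F241600))).symm
theorem F321955 : act 4 n66152 = n35485 := (sb E83346 (iv4 D77765))
theorem E85934 : n161402 = n85518 := (((F316112).symm.trans (sb E83346 (iv7 F255241)))).symm
theorem E85935 : n177293 = n31745 := ((((iv3 F50044)).symm.trans (sb E83347 D177293))).symm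
theorem E85936 : n38951 = n31788 := ((((iv4 F50084)).symm.trans (sb E83347 (iv4 D84466)))).symm
theorem E85939 : n123189 = n24773 := ((((iv4 F38777)).symm.trans (sb E83348 (iv4 F299915)))).symm
theorem E85943 : n110003 = n35629 := ((D110003).symm.trans (sb E85129 (tr F303247 E84706)))
theorem E85944 : n110002 = n75744 := (((iv4 F170137)).symm.trans (sb E85129 (iv4 D158775)))
theorem F321956 : act 4 n35858 = n77443 := (sb E83352 (iv4 D161316))
theorem E85946 : n164164 = n86831 := (((D86831).symm.trans (sb E83354 D164164))).symm
theorem F321957 : act 5 n40261 = n78594 := (sb E83354 F120017)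
theorem E85951 : n129372 = n35873 := (((F299716).symm.trans (sb E83357 F208307))).symm
theorem F321958 : act 5 n17370 = n28839 := (sb E83359 (iv5 D60795))
theorem E85955 : n164150 = n124984 := ((D164150).symm.trans (sb E83360 (iv2 F278715)))
theorem E85956 : n178836 = n164151 := (((D164151).symm.trans (sb E83360 D178836))).symm
theorem E85958 : n164153 = n80123 := ((D164153).symm.trans (sb E83360 F304285))
theorem E85960 : n164155 = n124983 := ((D164155).symm.trans (sb E83360 F278718))
theorem E85963 : n164158 = n161331 := ((D164158).symm.trans (sb E83361 (iv5 F304807)))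
theorem E85966 : n164148 = n39398 := ((D164148).symm.trans (sb E83362 (iv5 D85245)))
theorem F321959 : act 5 n18675 = n35897 := (sb E83364 (iv5 D78861))
theorem E85980 : n161918 = n55872 := ((D161918).symm.trans (sb E83373 F119455))
theorem E85981 : n161919 = n55870 := ((D161919).symm.trans (sb E83373 F119456))
theorem E85982 : n161917 = n58467 := (((iv4 F255911)).symm.trans (sb E83373 F311402))
theorem F321960 : act 5 n77762 = n35670 := (sb E83373 (iv5 D78260))
theorem E85983 : n161921 = n78412 := ((D161921).symm.trans (sb E83373 (iv7 F119613)))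
theorem E85986 : n162476 = n129329 := ((((iv2 F207521)).symm.trans (sb E83374 D162476))).symm
theorem E85987 : n162445 = n129154 := ((((iv4 F207396)).symm.trans (sb E83374 (iv4 F256648)))).symm
theorem E85988 : n60789 = n59020 := (((D59020).symm.trans (iv5 (sb E83374 (tr (iv5 F122234) E84321))))).symm
theorem E85989 : n78025 = n59020 := (E83374).trans E85988
theorem E85990 : n162477 = n126007 := ((((iv6 F202700)).symm.trans (sb E85989 D162477))).symm
theorem E85991 : n50974 = n3709 := (((F12983).symm.trans (sb E83375 (iv1 D110563)))).symm
theorem E85992 : n51619 = n8200 := ((((iv4 F12982)).symm.trans (sb E83375 F171103))).symm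
theorem E85993 : n51618 = n12988 := ((((iv4 F21596)).symm.trans (sb E83376 F171099))).symm
theorem E85994 : n50497 = n16693 := ((((iv4 F27360)).symm.trans (sb E83377 (iv4 D109476)))).symm
theorem E85996 : n50501 = n26877 := (((D26877).symm.trans (sb E83378 (iv4 D109484)))).symm
theorem E85997 : n50780 = n8052 := (((D8052).symm.trans (sb E83379 (iv1 F81904)))).symm
theorem E85998 : n50779 = n8053 := (((D8053).symm.trans (sb E83379 F81905))).symm
theorem E86000 : n25175 = n8054 := (((D8054).symm.trans (sb E83379 F81903))).symm
theorem E86002 : n25174 = n8055 := (((D8055).symm.trans (sb E83379 (iv7 D51864)))).symm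
theorem E86005 : n129934 = n95411 := ((D129934).symm.trans (sb E83381 (iv4 F260172)))
theorem F321961 : act 5 n61024 = n120738 := (sb E83381 F260170)
theorem E86006 : n50505 = n13198 := ((((iv1 F27456)).symm.trans (sb E83382 (iv1 D109492)))).symm
theorem E86009 : n78709 = n62281 := ((((iv3 F97097)).symm.trans (sb E83383 (iv3 F119851)))).symm
theorem E86010 : n56029 = n14015 := (((F47253).symm.trans (sb E83383 (iv4 F88689)))).symm
theorem F321962 : act 5 n29473 = n17522 := (sb E83383 F57027)
theorem E86012 : n77920 = n6784 := ((((iv0 D14251)).symm.trans (sb E83384 (iv0 F119144)))).symm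
theorem E86014 : n129935 = n64896 := (((iv3 F208304)).symm.trans (sb E83385 F204229))
theorem F321963 : act 5 n61025 = n59592 := (sb E83385 (iv5 D126973))
theorem F321964 : act 5 n61026 = n80107 := (sb E83387 F260175)
theorem E86016 : n121388 = n30025 := (((D30025).symm.trans (sb E83389 (iv3 F193645)))).symm
theorem E86020 : n164019 = n129370 := (((D129370).symm.trans (sb E83390 (iv2 F258478)))).symm
theorem E86021 : n129371 = n98415 := ((D129371).symm.trans (sb E83390 (iv4 F304023)))
theorem E86022 : n121579 = n29562 := (((D29562).symm.trans (sb E83391 (iv3 F194006)))).symm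
theorem E86023 : n27066 = n11912 := (((F23427).symm.trans (sb E83391 (iv5 D56152)))).symm
theorem E86026 : n165878 = n129377 := (((D129377).symm.trans (sb E83392 (iv2 F261249)))).symm
theorem E86037 : n121616 = n28751 := (((F164087).symm.trans (sb E83396 (iv3 F194080)))).symm
theorem E86040 : n121624 = n28814 := (((D28814).symm.trans (sb E83397 (iv1 F194354)))).symm
theorem E86041 : n121628 = n28815 := (((D28815).symm.trans (sb E83397 (iv0 F194358)))).symm
theorem E86042 : n162392 = n28186 := ((((iv2 F45589)).symm.trans (sb E83397 (iv2 F256521)))).symm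
theorem E86044 : n35589 = n13430 := (((F22981).symm.trans (sb E83397 F119222))).symm
theorem E86046 : n35395 = n13431 := (((D13431).symm.trans (sb E83398 (iv1 F56114)))).symm
theorem E86047 : n35394 = n13432 := (((D13432).symm.trans (sb E83398 F56111))).symm
theorem E86048 : n11695 = n8087 := (((iv4 F19023)).symm.trans (sb E83398 F28195))
theorem E86050 : n13433 = n8086 := ((D13433).symm.trans (sb E83398 (iv7 D17243)))
theorem E86054 : n126007 = n62156 := ((((iv3 F96887)).symm.trans (sb E83400 (tr (iv3 F256658) E85990)))).symm
theorem F321965 : act 0 n120025 = n130478 := (sb E83407 (iv1 F213835))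
theorem F321966 : act 1 n120025 = n62467 := (sb E83407 F213876)
theorem F321967 : act 4 n120025 = n62858 := (sb E83407 F213834)
theorem F321968 : act 6 n120025 = n62460 := (sb E83407 (iv6 D133132))
theorem F321969 : act 7 n120025 = n130476 := (sb E83407 (iv7 F213886))
theorem F321970 : act 2 n133136 = n70961 := (sb E83408 F236758)
theorem F321971 : act 6 n133136 = n120045 := (sb E83408 F236759)
theorem F321972 : act 1 n133134 = n70961 := (sb E83409 F237019)
theorem F321973 : act 4 n133134 = n117915 := (sb E83409 F237020)
theorem F321974 : act 6 n133134 = n117914 := (sb E83409 (iv6 F237022))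
theorem F321975 : act 0 n133133 = n70961 := (sb E83410 F313618)
theorem F321976 : act 4 n133133 = n66164 := (sb E83410 F224080)
theorem E86067 : n80230 = n66163 := ((F303088).symm.trans (sb E83410 (iv6 D141083)))
theorem F321977 : act 4 n61764 = n74072 := (sb E83412 (iv4 D155717))
theorem F321978 : act 1 n133147 = n74072 := (sb E83413 (iv0 D155715))
theorem F321979 : act 5 n133147 = n85759 := (sb E83413 F244727)
theorem F321980 : act 5 n61367 = n79590 := (sb E83414 (iv5 D165711))
theorem E86070 : n51819 = n3632 := (((F12840).symm.trans (sb E83415 F173920))).symm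
theorem E86072 : n50514 = n3644 := ((((iv4 D8076)).symm.trans (sb E83417 (iv4 D109504)))).symm
theorem E86074 : n109961 = n16715 := (((F28431).symm.trans (sb E83419 (iv3 F170074)))).symm
theorem E86075 : n36004 = n24690 := ((D36004).symm.trans (sb E83419 F80070))
theorem E86077 : n26917 = n24689 := (((iv7 F43408)).symm.trans (sb E83419 (iv7 D50718)))
theorem E86081 : n164847 = n129952 := (((D129952).symm.trans (sb E83421 (iv2 F259885)))).symm
theorem F321981 : act 5 n61036 = n36060 := (sb E83421 (iv5 D79209))
theorem F321982 : act 6 n39069 = n62678 := (sb E83426 (iv6 D133562))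
theorem F321983 : act 5 n61043 = n56275 := (sb E83427 (iv5 D121799))
theorem E86090 : n161470 = n28932 := (((D28932).symm.trans (sb E83428 (iv3 F255436)))).symm
theorem E86093 : n163347 = n129398 := (((D129398).symm.trans (sb E83429 (iv2 F257649)))).symm
theorem E86095 : n129399 = n35766 := ((D129399).symm.trans (sb E83429 (iv5 D78504)))
theorem F321984 : act 0 n17332 = n29499 := (sb E83430 F95376)
theorem F321985 : act 5 n17332 = n28844 := (sb E83430 (iv5 D60808))
theorem E86099 : n165808 = n129404 := (((D129404).symm.trans (sb E83431 (iv2 F261214)))).symm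
theorem E86100 : n165812 = n128747 := ((((iv4 F207016)).symm.trans (sb E83431 D165812))).symm
theorem E86105 : n77954 = n29051 := (((D29051).symm.trans (sb E83433 (iv3 F119169)))).symm
theorem E86107 : n77925 = n29053 := (((D29053).symm.trans (sb E83434 (iv3 F119146)))).symm
theorem E86110 : n77405 = n11940 := (((F23075).symm.trans (sb E83435 (iv5 D161242)))).symm
theorem E86112 : n17153 = n11944 := (((D11944).symm.trans (sb E83436 (iv0 D35343)))).symm
theorem F321986 : act 0 n73377 = n67044 := (sb E83439 (iv1 F225895))
theorem E86116 : n154726 = n67032 := ((D154726).symm.trans (sb E83439 (iv0 D143028)))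
theorem F321987 : act 6 n72608 = n67044 := (sb E83440 (iv6 D143062))
theorem F321988 : act 7 n72608 = n67045 := (sb E83440 F225917)
theorem F321989 : act 3 n72608 = n66717 := (sb E83447 (iv3 D142298))
theorem E86117 : n142154 = n67127 := ((F225246).symm.trans (sb E83448 (iv1 F225968)))
theorem F321990 : act 1 n142299 = n67126 := (sb E83448 F225969)
theorem F321991 : act 2 n142299 = n67129 := (sb E83448 F225965)
theorem F321992 : act 6 n142299 = n67064 := (sb E83448 (iv6 D143120))
theorem F321993 : act 7 n142299 = n67065 := (sb E83448 F225967)
theorem F321994 : act 5 n54660 = n66717 := (sb E83449 (iv5 D142300))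
theorem F321995 : act 4 n142996 = n76259 := (sb E83450 F251043)
theorem F321996 : act 6 n142996 = n76258 := (sb E83450 (iv6 D159417))
theorem F321997 : act 3 n126701 = n60879 := (sb E83451 F207774)
theorem F321998 : act 5 n126701 = n60878 := (sb E83451 (iv5 D129595))
theorem F321999 : act 2 n59608 = n61025 := (sb E83454 F97109)
theorem F322000 : act 4 n59608 = n29881 := (sb E83454 F97110)
theorem F322001 : act 6 n59608 = n29470 := (sb E83454 (iv6 D62287))
theorem E86119 : n132628 = n126670 := (((D126670).symm.trans (sb E83456 F212888))).symm
theorem E86120 : n127002 = n29872 := ((D127002).symm.trans (sb E83457 F96999))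
theorem F322002 : act 6 n59603 = n29448 := (sb E83457 (iv6 D62230))
theorem F322003 : act 7 n59603 = n61025 := (sb E83457 F97000)
theorem E86121 : n126886 = n84589 := ((D126886).symm.trans (sb E83459 (iv6 D177588)))
theorem E86122 : n179130 = n129806 := ((D179130).symm.trans (sb E83460 F214836))
theorem F322004 : act 5 n60972 = n39470 := (sb E83461 (iv5 D85476))
theorem E86126 : n131003 = n106397 := (((F165420).symm.trans (sb E83463 (iv2 F209698)))).symm
theorem E86128 : n127214 = n29089 := ((D127214).symm.trans (sb E83463 (iv5 D61459)))
theorem E86129 : n130441 = n127215 := (((D127215).symm.trans (sb E83463 (iv6 F208952)))).symm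
theorem F322005 : act 5 n13848 = n28334 := (sb E83464 (iv5 D59721))
theorem E86132 : n127218 = n83552 := ((D127218).symm.trans (sb E83465 F307058))
theorem F322006 : act 2 n59722 = n62461 := (sb E83465 (iv2 F97351))
theorem F322007 : act 5 n59722 = n28980 := (sb E83465 (iv5 D61207))
theorem F322008 : act 7 n59722 = n70961 := (sb E83465 (iv7 F320264))
theorem E86133 : n76583 = n67026 := ((((iv0 F210315)).symm.trans (sb E83466 (iv0 D159955)))).symm
theorem F322009 : act 1 n68896 = n67731 := (sb E83468 (iv0 D144517))
theorem F322010 : act 0 n144519 = n158934 := (sb E83469 F250266)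
theorem F322011 : act 1 n144519 = n69411 := (sb E83469 (iv0 F230357))
theorem F322012 : act 2 n144519 = n69657 := (sb E83469 F237468)
theorem F322013 : act 2 n32332 = n67735 := (sb E83470 F183085)
theorem F322014 : act 5 n32332 = n53948 := (sb E83470 (iv5 D117065))
theorem E86134 : n161857 = n39771 := ((((iv1 F317401)).symm.trans (sb E83471 (iv1 F255844)))).symm
theorem E86140 : n141801 = n126700 := ((D141801).symm.trans (sb E83472 (iv1 F219847)))
theorem E86141 : n141802 = n126699 := ((D141802).symm.trans (sb E83472 F219845))
theorem E86142 : n141800 = n64250 := (((iv2 F224811)).symm.trans (sb E83472 (iv2 D136703)))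
theorem E86143 : n144409 = n141803 := (((D141803).symm.trans (sb E83472 (iv4 F227189)))).symm
theorem F322015 : act 7 n66484 = n126701 := (sb E83472 F219844)
theorem F322016 : act 4 n66488 = n65666 := (sb E83474 F223099)
theorem E86144 : n159021 = n59877 := (((F103987).symm.trans (sb E83477 D159021))).symm
theorem F322017 : act 1 n44052 = n73797 := (sb E83478 F244246)
theorem F322018 : act 2 n76314 = n73797 := (sb E83479 F232935)
theorem E86146 : n159518 = n55200 := ((D159518).symm.trans (sb E83479 (iv4 D119941)))
theorem F322019 : act 3 n76458 = n73797 := (sb E83480 (iv3 D155318))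
theorem E86147 : n159756 = n55201 := ((D159756).symm.trans (sb E83481 (iv4 D119946)))
theorem F322020 : act 7 n76435 = n73797 := (sb E83481 F232934)
theorem E86150 : n114841 = n73323 := ((((iv3 F240733)).symm.trans (sb E83483 (iv3 F178907)))).symm
theorem F322021 : act 4 n33897 = n34923 := (sb E83483 (iv4 D76436))
theorem E86152 : n159762 = n67100 := (((F318109).symm.trans (sb E83483 D159762))).symm
theorem E86153 : n159769 = n67099 := ((D159769).symm.trans (sb E83485 (iv7 D143217)))
theorem F322022 : act 0 n83534 = n78877 := (sb E83486 (iv1 D164195))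
theorem F322023 : act 1 n83535 = n78877 := (sb E83487 (iv0 D164194))
theorem F322024 : act 0 n83537 = n163539 := (sb E83488 (iv1 F258786))
theorem F322026 : act 2 n83537 = n78877 := (sb E83488 (iv2 D164196))
theorem F322027 : act 5 n80170 = n78877 := (sb E83489 (iv5 D164197))
theorem F322028 : act 2 n77624 = n78873 := (sb E83490 F122485)
theorem F322029 : act 4 n77624 = n55961 := (sb E83490 F122486)
theorem F322030 : act 6 n77624 = n36334 := (sb E83490 (iv6 D79783))
theorem F322031 : act 4 n27904 = n35434 := (sb E83491 (iv4 D77623))
theorem F322032 : act 0 n27031 = n35798 := (sb E83492 (iv1 D78589))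
theorem F322033 : act 5 n27031 = n39844 := (sb E83492 (iv5 F119758))
theorem E86156 : n132892 = n78822 := (((D78822).symm.trans (sb E83494 (iv3 F213459)))).symm
theorem F322034 : act 5 n35882 = n29500 := (sb E83494 F97253)
theorem F322035 : act 7 n35882 = n29499 := (sb E83494 (iv7 D62367))
theorem E86158 : n175049 = n163524 := (((D163524).symm.trans (sb E83497 (iv2 F273972)))).symm
theorem E86159 : n163525 = n79035 := ((D163525).symm.trans (sb E83497 F259369))
theorem E86160 : n163527 = n79031 := ((D163527).symm.trans (sb E83497 (iv5 D164551)))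
theorem E86161 : n163528 = n163025 := ((D163528).symm.trans (sb E83497 (iv6 F314069)))
theorem E86162 : n173681 = n163534 := (((D163534).symm.trans (sb E83498 D173681))).symm
theorem E86163 : n173198 = n163535 := (((D163535).symm.trans (sb E83498 (iv0 F310247)))).symm
theorem E86164 : n173683 = n163522 := ((((iv2 F257794)).symm.trans (sb E83498 D173683))).symm
theorem E86165 : n163536 = n38231 := ((D163536).symm.trans (sb E83498 F128009))
theorem F322036 : act 4 n18263 = n35798 := (sb E83499 (iv4 D78590))
theorem F322037 : act 1 n77622 = n78873 := (sb E83500 F201574)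
theorem F322038 : act 2 n45397 = n44742 := (sb E83504 (iv2 D95807))
theorem E86169 : n97132 = n44743 := ((D97132).symm.trans (sb E83504 (iv7 F147499)))
theorem F322039 : act 4 n67885 = n44742 := (sb E83505 (iv4 D95809))
theorem F322040 : act 7 n45398 = n44742 := (sb E83506 (iv7 D95812))
theorem E86172 : n120079 = n64259 := (((F111371).symm.trans (sb E83519 D120079))).symm
theorem F322041 : act 3 n53872 = n26697 := (sb E83519 (iv3 D55251))
theorem E86173 : n116904 = n55245 := ((D116904).symm.trans (sb E83519 F87434))
theorem F322042 : act 6 n53872 = n78444 := (sb E83519 F313763)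
theorem E86181 : n151102 = n116902 := (((D116902).symm.trans (sb E83522 D151102))).symm
theorem F322043 : act 1 n56791 = n58678 := (sb E83537 (iv0 D125306))
theorem F322044 : act 0 n75520 = n58678 := (sb E83538 (iv1 D125307))
theorem F322045 : act 2 n81819 = n58678 := (sb E83539 (iv2 D125308))
theorem E86184 : n163365 = n132858 := ((((iv6 F317536)).symm.trans (sb E83539 (iv6 F257658)))).symm
theorem F322046 : act 0 n125304 = n82579 := (sb E83540 (iv1 D172488))
theorem F322047 : act 1 n125304 = n82587 := (sb E83540 F270689)
theorem F322048 : act 2 n125304 = n167774 := (sb E83540 (iv2 F303716))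
theorem F322049 : act 5 n125304 = n167774 := (sb E83540 (iv5 F303718))
theorem F322050 : act 7 n125304 = n83962 := (sb E83540 F270690)
theorem E86185 : n163363 = n132889 := (((D132889).symm.trans (sb E83541 D163363))).symm
theorem E86186 : n163364 = n132890 := (((D132890).symm.trans (sb E83541 D163364))).symm
theorem E86187 : n132891 = n88378 := ((D132891).symm.trans (sb E83541 F297612))
theorem F322051 : act 6 n62360 = n58678 := (sb E83541 F119691)
theorem F322052 : act 4 n20339 = n29499 := (sb E83542 (iv4 D62366))
theorem E86190 : n95990 = n72731 := (((iv6 F302681)).symm.trans (sb E83548 (iv6 D153727)))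
theorem F322053 : act 2 n33559 = n49633 := (sb E83550 F165768)
theorem F322054 : act 6 n33559 = n49632 := (sb E83550 (iv6 D107454))
theorem F322055 : act 0 n107455 = n72211 := (sb E83561 (iv1 F187100))
theorem F322056 : act 2 n107455 = n60131 := (sb E83561 (iv2 F187101))
theorem F322057 : act 4 n107455 = n59947 := (sb E83561 F187099)
theorem F322058 : act 7 n107455 = n60351 := (sb E83561 (iv7 F187102))
theorem F322059 : act 1 n107456 = n72211 := (sb E83562 F187103)
theorem F322060 : act 2 n107456 = n60351 := (sb E83562 (iv2 F187106))
theorem F322061 : act 7 n107456 = n60131 := (sb E83562 F187104)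
theorem F322062 : act 0 n107457 = n128372 := (sb E83563 (iv1 F206493))
theorem F322063 : act 1 n107457 = n128378 := (sb E83563 (iv0 F206497))
theorem F322064 : act 2 n107457 = n72732 := (sb E83563 F187107)
theorem F322065 : act 4 n107457 = n154683 := (sb E83563 (iv4 F242836))
theorem F322066 : act 7 n107457 = n72213 := (sb E83563 F187108)
theorem F322067 : act 0 n70331 = n53847 := (sb E83564 (iv1 D116851))
theorem F322068 : act 1 n70331 = n65962 := (sb E83564 F182463)
theorem F322069 : act 2 n70331 = n65558 := (sb E83564 F182461)
theorem F322070 : act 5 n116388 = n84356 := (sb E83566 (iv5 D176991))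
theorem F322071 : act 7 n116388 = n84501 := (sb E83566 F276363)
theorem F322072 : act 7 n116390 = n84503 := (sb E83567 F276368)
theorem F322073 : act 5 n38897 = n53649 := (sb E83568 (iv5 D116395))
theorem F322074 : act 0 n38976 = n66923 := (sb E83569 (iv1 F181509))
theorem F322075 : act 7 n38976 = n53649 := (sb E83569 (iv7 D116396))
theorem F322076 : act 0 n115761 = n67289 := (sb E83570 (iv1 D143678))
theorem F322077 : act 1 n116853 = n146720 := (sb E83571 (iv0 F243029))
theorem F322078 : act 2 n116853 = n69291 := (sb E83571 F241158)
theorem F322079 : act 5 n116853 = n68955 := (sb E83571 (iv5 D147063))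
theorem F322080 : act 7 n116853 = n69286 := (sb E83571 F241159)
theorem F322081 : act 3 n31295 = n67105 := (sb E83598 (iv3 F320245))
theorem F322082 : act 3 n116040 = n69349 := (sb E83599 F226358)
theorem F322083 : act 6 n73468 = n67105 := (sb E83600 (iv6 D143233))
theorem F322084 : act 5 n53575 = n65661 := (sb E83601 (iv5 D139877))
theorem E86192 : n77370 = n66141 := (((D66141).symm.trans (sb E83602 F303077))).symm
theorem E86193 : n77372 = n58444 := ((((iv0 F320501)).symm.trans (sb E83602 F303078))).symm
theorem E86194 : n161418 = n66143 := (((D66143).symm.trans (sb E83602 (iv3 F255284)))).symm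
theorem E86195 : n66144 = n35381 := ((D66144).symm.trans (sb E83602 (iv5 D77492)))
theorem E86196 : n66145 = n35523 := ((D66145).symm.trans (sb E83602 F116337))
theorem E86197 : n116225 = n113679 := ((D116225).symm.trans (sb E83603 (iv3 F223086)))
theorem E86198 : n127010 = n25940 := ((((iv4 D53565)).symm.trans (sb E83603 F223085))).symm
theorem F322085 : act 5 n53565 = n65656 := (sb E83603 (iv5 D139870))
theorem F322086 : act 3 n141478 = n66882 := (sb E83604 F225571)
theorem F322087 : act 6 n141478 = n73848 := (sb E83604 F317633)
theorem E86199 : n142680 = n142350 := ((D142680).symm.trans (sb E83605 (iv1 F225268)))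
theorem E86200 : n142681 = n31238 := ((D142681).symm.trans (sb E83605 (iv0 D67113)))
theorem E86201 : n142682 = n67719 := ((D142682).symm.trans (sb E83605 (iv2 F183044)))
theorem E86202 : n142606 = n116320 := (((iv4 F225462)).symm.trans (sb E83605 (iv4 F181317)))
theorem F322088 : act 5 n66880 = n65461 := (sb E83605 F181592)
theorem E86203 : n143253 = n116435 := ((((iv6 F318645)).symm.trans (sb E83605 D143253))).symm
theorem F322089 : act 7 n66880 = n141478 := (sb E83605 (iv7 F224539))
theorem E86204 : n174944 = n69651 := ((D174944).symm.trans (sb E83606 F233379))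
theorem E86205 : n174945 = n69650 := ((D174945).symm.trans (sb E83606 (iv6 D148614)))
theorem F322090 : act 7 n141805 = n139884 := (sb E83607 F227063)
theorem F322091 : act 0 n59647 = n59608 := (sb E83608 (iv1 F204248))
theorem F322092 : act 1 n59647 = n59603 := (sb E83608 (iv0 D127000))
theorem E86206 : n155592 = n139324 := ((((iv3 F222513)).symm.trans (sb E83610 D155592))).symm
theorem E86207 : n155593 = n139510 := (((D139510).symm.trans (sb E83610 D155593))).symm
theorem E86210 : n140017 = n30782 := ((F320861).symm.trans (sb E83611 (iv2 D65751)))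
theorem E86211 : n140080 = n48962 := ((((iv3 F77240)).symm.trans (sb E83611 D140080))).symm
theorem E86212 : n140081 = n48978 := (((D48978).symm.trans (sb E83611 D140081))).symm
theorem E86215 : n140022 = n30783 := ((F320862).symm.trans (sb E83611 (iv7 F101452)))
theorem F322093 : act 3 n28578 = n30782 := (sb E83612 (iv3 D65752))
theorem E86222 : n140091 = n74020 := ((D140091).symm.trans (sb E83613 F114248))
theorem E86223 : n140092 = n74018 := ((D140092).symm.trans (sb E83613 F114247))
theorem E86224 : n159384 = n140093 := (((D140093).symm.trans (sb E83613 D159384))).symm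
theorem E86225 : n159385 = n140094 := (((D140094).symm.trans (sb E83613 D159385))).symm
theorem E86226 : n140095 = n138405 := ((D140095).symm.trans (sb E83613 (iv6 F315869)))
theorem E86227 : n140096 = n71079 := ((D140096).symm.trans (sb E83613 F114246))
theorem F322094 : act 5 n16876 = n30782 := (sb E83614 (iv5 D65754))
theorem F322095 : act 6 n65007 = n30782 := (sb E83615 (iv6 D65755))
theorem E86236 : n140106 = n71080 := (((D71080).symm.trans (sb E83616 D140106))).symm
theorem E86237 : n140107 = n139969 := ((D140107).symm.trans (sb E83617 (tr (iv1 F228055) E85531)))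
theorem E86238 : n140108 = n54467 := ((D140108).symm.trans (sb E83617 (iv0 F162643)))
theorem E86239 : n140109 = n60350 := ((D140109).symm.trans (sb E83617 F162638))
theorem E86240 : n140110 = n72098 := ((D140110).symm.trans (sb E83617 F162640))
theorem E86241 : n140111 = n48963 := ((D140111).symm.trans (sb E83617 F162641))
theorem F322096 : act 5 n23897 = n30783 := (sb E83619 (iv5 D65759))
theorem E86244 : n140118 = n67414 := ((D140118).symm.trans (sb E83620 F320332))
theorem E86245 : n140121 = n138412 := ((D140121).symm.trans (sb E83620 (iv7 F315887)))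
theorem F322097 : act 1 n55222 = n30695 := (sb E83621 (iv0 D65474))
theorem E86246 : n139526 = n71139 := (((F107650).symm.trans (sb E83621 D139526))).symm
theorem E86251 : n139531 = n33972 := (((F87377).symm.trans (sb E83621 D139531))).symm
theorem E86252 : n151367 = n139532 := (((D139532).symm.trans (sb E83622 D151367))).symm
theorem E86253 : n151368 = n139534 := (((D139534).symm.trans (sb E83622 D151368))).symm
theorem E86254 : n151369 = n139535 := (((D139535).symm.trans (sb E83622 D151369))).symm
theorem E86255 : n139536 = n74061 := ((D139536).symm.trans (sb E83623 F185994))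
theorem E86256 : n150784 = n139537 := (((D139537).symm.trans (sb E83623 (iv0 F237342)))).symm
theorem E86257 : n116070 = n77807 := (((D77807).symm.trans (sb E83625 D116070))).symm
theorem F322098 : act 2 n35504 = n30921 := (sb E83625 F84402)
theorem E86258 : n116072 = n47273 := (((F314154).symm.trans (sb E83625 D116072))).symm
theorem F322099 : act 4 n35504 = n25913 := (sb E83625 (iv4 D53497))
theorem E86260 : n77501 = n70979 := (((iv7 F116361)).symm.trans (sb E83625 (iv7 F318723)))
theorem F322100 : act 2 n141807 = n140458 := (sb E83626 (iv2 F227060))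
theorem F322101 : act 4 n141807 = n115741 := (sb E83626 F227058)
theorem F322102 : act 7 n141807 = n139882 := (sb E83626 F227059)
theorem F322103 : act 0 n59654 = n59603 := (sb E83627 (iv1 D127001))
theorem F322104 : act 1 n59654 = n59608 := (sb E83627 F204251)
theorem E86261 : n77727 = n68266 := ((F309891).symm.trans (sb E83628 F226377))
theorem E86262 : n68267 = n17200 := ((D68267).symm.trans (sb E83630 (iv5 D35477)))
theorem F322105 : act 6 n31765 = n66486 := (sb E83630 (iv6 F307882))
theorem E86263 : n53844 = n53576 := ((D53844).symm.trans (sb E83631 (iv5 D116239)))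
theorem F322106 : act 5 n25946 = n30760 := (sb E83632 (iv5 D65669))
theorem E86266 : n139889 = n134704 := ((D139889).symm.trans (sb E83633 (iv0 F216710)))
theorem F322107 : act 2 n65670 = n66488 := (sb E83633 F181184)
theorem E86267 : n139890 = n60769 := ((D139890).symm.trans (sb E83633 F181185))
theorem E86270 : n165961 = n29466 := (((D29466).symm.trans (sb E83634 (iv2 F261380)))).symm
theorem E86271 : n165971 = n29458 := ((((iv4 F47232)).symm.trans (sb E83634 (iv4 F261385)))).symm
theorem E86272 : n36286 = n29468 := (((D29468).symm.trans (sb E83634 (iv6 D79693)))).symm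
theorem F322108 : act 5 n14012 = n8240 := (sb E83638 (iv5 D17521))
theorem F322109 : act 0 n74783 = n67750 := (sb E83640 (iv1 F183061))
theorem F322110 : act 2 n74783 = n67752 := (sb E83640 (iv2 F183060))
theorem E86291 : n157287 = n67736 := ((D157287).symm.trans (sb E83640 F183067))
theorem F322111 : act 7 n74783 = n53943 := (sb E83640 (iv7 D117054))
theorem F322112 : act 7 n74782 = n67750 := (sb E83641 (iv7 F227430))
theorem F322113 : act 2 n74786 = n67750 := (sb E83646 F227431)
theorem F322114 : act 3 n139785 = n67750 := (sb E83647 (iv3 D144567))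
theorem F322115 : act 1 n39415 = n67743 := (sb E83648 (iv0 D144542))
theorem F322116 : act 0 n120009 = n67743 := (sb E83649 (iv1 D144543))
theorem E86292 : n174956 = n67743 := ((D174956).symm.trans (sb E83650 F227397))
theorem F322117 : act 3 n133324 = n67751 := (sb E83651 F227405)
theorem F322118 : act 5 n133324 = n67743 := (sb E83651 (iv5 D144544))
theorem F322119 : act 3 n117901 = n67752 := (sb E83652 F227406)
theorem F322120 : act 7 n117901 = n67743 := (sb E83652 (iv7 D144545))
theorem F322121 : act 6 n138614 = n66228 := (sb E83655 (iv6 D141185))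
theorem E86293 : n179151 = n66756 := ((D179151).symm.trans (sb E83658 (iv7 D142356)))
theorem F322122 : act 7 n138899 = n66762 := (sb E83659 (iv7 D142372))
theorem E86294 : n116804 = n58464 := ((((iv1 F320419)).symm.trans (sb E83662 (iv1 F182372)))).symm
theorem E86296 : n142382 = n31310 := ((D142382).symm.trans (sb E83662 (iv2 D67351)))
theorem E86297 : n142383 = n116393 := ((D142383).symm.trans (sb E83662 (tr (iv3 F182353) E83725)))
theorem E86298 : n143787 = n142384 := (((D142384).symm.trans (sb E83662 D143787))).symm
theorem F322123 : act 5 n66769 = n74935 := (sb E83662 (iv5 F318429))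
theorem E86299 : n143789 = n142386 := (((D142386).symm.trans (sb E83662 D143789))).symm
theorem E86300 : n142387 = n116475 := ((D142387).symm.trans (sb E83662 (tr (iv7 F182370) E83721)))
theorem E86301 : n142392 = n123531 := ((D142392).symm.trans (sb E83663 (iv1 F244093)))
theorem E86302 : n142393 = n116814 := ((D142393).symm.trans (sb E83663 (iv0 F312424)))
theorem F322124 : act 2 n66771 = n73715 := (sb E83663 (iv2 D155210))
theorem E86303 : n149878 = n142355 := ((((iv3 F225274)).symm.trans (sb E83663 F244090))).symm
theorem F322125 : act 7 n66771 = n123529 := (sb E83663 F244091)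
theorem F322126 : act 2 n62592 = n61258 := (sb E83664 (iv2 D130561))
theorem E86304 : n133361 = n85316 := ((D133361).symm.trans (sb E83664 F318270))
theorem F322127 : act 7 n62592 = n61259 := (sb E83664 (iv7 F209145))
theorem F322128 : act 2 n72050 = n53744 := (sb E83666 F181944)
theorem F322129 : act 6 n72050 = n53725 := (sb E83666 (iv6 D116590))
theorem F322130 : act 0 n116589 = n141535 := (sb E83671 F224777)
theorem E86305 : n67030 = n65282 := ((D67030).symm.trans (sb E83674 (iv6 D139076)))
theorem E86306 : n66518 = n65152 := ((D66518).symm.trans (sb E83675 (iv6 D138748)))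
theorem F322131 : act 6 n58320 = n53736 := (sb E83676 (iv6 D116620))
theorem F322132 : act 1 n116622 = n147903 := (sb E83677 (iv0 F241436))
theorem F322133 : act 3 n116622 = n119196 := (sb E83677 F240808)
theorem F322134 : act 5 n116622 = n72401 := (sb E83677 (iv5 D153272))
theorem F322135 : act 7 n116622 = n72637 := (sb E83677 F240809)
theorem F322136 : act 0 n116629 = n72637 := (sb E83678 (iv1 F241427))
theorem F322137 : act 3 n116629 = n153550 := (sb E83678 (iv3 F241429))
theorem F322138 : act 5 n116629 = n139031 := (sb E83678 (iv5 F314345))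
theorem F322139 : act 7 n116629 = n147903 := (sb E83678 (iv7 F241438))
theorem F322140 : act 1 n116630 = n72637 := (sb E83679 F241431)
theorem F322141 : act 2 n116630 = n147903 := (sb E83679 F241434)
theorem F322142 : act 5 n116630 = n170677 := (sb E83679 (iv5 F268172))
theorem F322143 : act 6 n116630 = n124886 := (sb E83679 (iv6 F241433))
theorem F322144 : act 0 n116625 = n142067 := (sb E83680 (iv1 F319306))
theorem F322145 : act 1 n116625 = n142071 := (sb E83680 (iv0 F319310))
theorem F322146 : act 7 n116625 = n142136 := (sb E83680 (tr F241439 E85025))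
theorem F322147 : act 5 n33521 = n53741 := (sb E83681 (iv5 D116631))
theorem F322148 : act 7 n72062 = n53741 := (sb E83682 (iv7 D116632))
theorem F322149 : act 1 n26616 = n53746 := (sb E83683 (iv0 D116645))
theorem F322150 : act 1 n116646 = n55071 := (sb E83684 F188026)
theorem F322151 : act 2 n116646 = n55074 := (sb E83684 F188021)
theorem F322152 : act 3 n116646 = n67134 := (sb E83684 F312304)
theorem F322153 : act 5 n116646 = n55051 := (sb E83684 F188023)
theorem F322154 : act 6 n116646 = n54935 := (sb E83684 (iv6 D119370))
theorem F322155 : act 7 n116646 = n55050 := (sb E83684 F188024)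
theorem F322156 : act 0 n116628 = n70325 := (sb E83685 F190324)
theorem F322157 : act 1 n116628 = n72843 := (sb E83685 (iv0 F190323))
theorem F322158 : act 2 n116628 = n72842 := (sb E83685 (iv2 F191135))
theorem F322159 : act 5 n116628 = n72633 := (sb E83685 F190322)
theorem F322160 : act 7 n116628 = n72841 := (sb E83685 (iv7 F192433))
theorem F322161 : act 2 n116644 = n152721 := (sb E83686 (iv2 F239928))
theorem F322162 : act 5 n71859 = n53746 := (sb E83687 (iv5 D116647))
theorem F322163 : act 0 n116648 = n55074 := (sb E83688 (iv1 F188727))
theorem F322164 : act 1 n116648 = n55050 := (sb E83688 (iv0 D119652))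
theorem F322165 : act 2 n116648 = n55071 := (sb E83688 (iv2 F188726))
theorem F322166 : act 3 n116648 = n72841 := (sb E83688 (iv3 F192432))
theorem F322167 : act 5 n116648 = n148540 := (sb E83688 (iv5 F233300))
theorem F322168 : act 6 n116648 = n68896 := (sb E83688 F188725)
theorem F322169 : act 0 n116657 = n58440 := (sb E83689 (iv1 F200751))
theorem F322170 : act 1 n116657 = n58439 := (sb E83689 F200752)
theorem F322171 : act 2 n116657 = n58442 := (sb E83689 F200748)
theorem F322172 : act 3 n116657 = n67145 := (sb E83689 F318562)
theorem F322173 : act 6 n116657 = n85252 := (sb E83689 F200750)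
theorem F322174 : act 7 n116657 = n58430 := (sb E83689 (iv7 D124981))
theorem F322175 : act 6 n72096 = n53748 := (sb E83690 (iv6 D116658))
theorem F322176 : act 7 n72048 = n53748 := (sb E83691 (iv7 F182014))
theorem F322177 : act 7 n72067 = n53744 := (sb E83692 (iv7 D116641))
theorem F322178 : act 0 n138741 = n65280 := (sb E83697 (iv1 D139071))
theorem F322179 : act 1 n138741 = n65302 := (sb E83697 F222252)
theorem E86307 : n77999 = n14813 := (((F49196).symm.trans (sb E83698 (iv4 D162390)))).symm
theorem F322180 : act 4 n121431 = n65150 := (sb E83699 (iv4 D138744))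
theorem F322181 : act 1 n116479 = n152930 := (sb E83700 F278547)
theorem F322182 : act 7 n116479 = n119241 := (sb E83700 F278545)
theorem F322183 : act 2 n39370 = n53694 := (sb E83701 (iv2 D116505))
theorem F322184 : act 7 n39370 = n53695 := (sb E83701 (iv7 F181825))
theorem F322185 : act 4 n116506 = n167924 := (sb E83702 F278283)
theorem F322186 : act 5 n116506 = n85029 := (sb E83702 (iv5 D178561))
theorem F322187 : act 7 n116506 = n133739 := (sb E83702 (iv7 F314124))
theorem F322188 : act 2 n116507 = n85144 := (sb E83703 F278309)
theorem F322189 : act 7 n116507 = n152929 := (sb E83703 F278310)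
theorem F322190 : act 5 n39323 = n53694 := (sb E83704 (iv5 D116508))
theorem F322191 : act 2 n116509 = n66162 := (sb E83705 F224076)
theorem F322192 : act 5 n116509 = n66161 := (sb E83705 (iv5 D141077))
theorem F322193 : act 7 n116509 = n151283 := (sb E83705 F316907)
theorem F322194 : act 2 n72181 = n53695 := (sb E83706 F181826)
theorem F322195 : act 7 n72181 = n53694 := (sb E83706 (iv7 D116510))
theorem F322196 : act 3 n69671 = n53695 := (sb E83707 (iv3 D116511))
theorem F322197 : act 2 n116512 = n152929 := (sb E83708 F278549)
theorem F322198 : act 6 n116512 = n148655 := (sb E83708 (iv6 F278552))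
theorem F322199 : act 7 n116512 = n85144 := (sb E83708 (iv7 D178717))
theorem F322200 : act 5 n39371 = n53695 := (sb E83709 (iv5 D116513))
theorem F322201 : act 6 n69669 = n53695 := (sb E83710 (iv6 D116514))
theorem F322202 : act 3 n116475 = n66923 := (sb E83711 (iv3 D142764))
theorem E86308 : n142805 = n142765 := ((D142805).symm.trans (iv0 (sb E83712 (tr F300185 E84856))))
theorem F322203 : act 1 n142765 = n156794 := (sb E83712 (iv0 F319897))
theorem F322204 : act 7 n142765 = n177210 := (sb E83712 F300188)
theorem F322205 : act 5 n36697 = n66923 := (sb E83713 (iv5 D142766))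
theorem E86309 : n142758 = n116393 := (E83715).trans E83725
theorem F322206 : act 7 n116393 = n66923 := (sb E86309 (iv7 F225663))
theorem E86310 : n145500 = n127935 := ((((iv5 F315784)).symm.trans (sb E83719 F228550))).symm
theorem F322207 : act 2 n31315 = n66923 := (sb E83720 F225664)
theorem E86311 : n67350 = n53682 := ((((iv1 D116475)).symm.trans (sb E83721 (iv1 F182373)))).symm
theorem F322208 : act 2 n116475 = n53817 := (sb E83721 (iv2 D116805))
theorem F322209 : act 2 n142765 = n67363 := (sb E83722 F226467)
theorem F322210 : act 2 n142767 = n67365 := (sb E83723 F226469)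
theorem F322211 : act 0 n31315 = n53649 := (sb E83724 (iv1 D116394))
theorem F322212 : act 2 n116393 = n53812 := (sb E83725 (iv2 D116797))
theorem F322213 : act 4 n116393 = n177210 := (sb E83725 F318308)
theorem F322214 : act 5 n116393 = n80459 := (sb E83725 F318309)
theorem F322215 : act 7 n31171 = n65253 := (sb E83731 (iv7 F320484))
theorem F322216 : act 1 n84436 = n67363 := (sb E83736 (iv0 D143826))
theorem F322217 : act 0 n84446 = n67363 := (sb E83737 (iv1 D143827))
theorem E86313 : n143886 = n38936 := ((((iv4 D84446)).symm.trans (sb E83737 (iv4 F226522)))).symm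
theorem E86314 : n140726 = n60160 := ((((iv4 F94709)).symm.trans (sb E83740 (iv4 F223823)))).symm
theorem F322218 : act 6 n33293 = n65558 := (sb E83740 (iv6 D139672))
theorem F322219 : act 6 n33294 = n65559 := (sb E83741 (iv6 D139674))
theorem F322220 : act 3 n30700 = n32940 := (sb E83744 (iv3 D71140))
theorem F322221 : act 1 n72644 = n68247 := (sb E83747 (iv0 D145557))
theorem F322222 : act 2 n124832 = n68247 := (sb E83748 (iv2 D145559))
theorem F322223 : act 3 n124800 = n68250 := (sb E83749 F228609)
theorem F322224 : act 6 n124800 = n68247 := (sb E83749 (iv6 D145561))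
theorem F322225 : act 6 n69293 = n68249 := (sb E83750 (iv6 D145572))
theorem F322226 : act 1 n69129 = n68250 := (sb E83751 (iv0 D145574))
theorem F322227 : act 0 n69134 = n68250 := (sb E83752 (iv1 D145575))
theorem F322228 : act 7 n74737 = n68250 := (sb E83753 (iv7 D145577))
theorem F322229 : act 0 n31761 = n68247 := (sb E83754 (iv1 D145558))
theorem F322230 : act 1 n118882 = n68260 := (sb E83765 (iv0 D145609))
theorem F322231 : act 0 n139754 = n68260 := (sb E83766 (iv1 D145610))
theorem F322232 : act 0 n145611 = n74021 := (sb E83767 (iv1 D155590))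
theorem F322233 : act 1 n145611 = n85413 := (sb E83767 F244609)
theorem F322234 : act 4 n145611 = n150906 := (sb E83767 F278870)
theorem F322235 : act 7 n145611 = n85376 := (sb E83767 F244610)
theorem F322236 : act 4 n115959 = n68260 := (sb E83768 (iv4 D145612))
theorem F322237 : act 6 n105754 = n68260 := (sb E83769 (iv6 D145613))
theorem F322239 : act 6 n124500 = n66141 := (sb E83772 (iv6 D141030))
theorem E86328 : n141032 = n35322 := (E83777).trans E84552
theorem E86329 : n66170 = n36032 := ((((iv4 F117071)).symm.trans (sb E86328 F224036))).symm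
theorem F322240 : act 2 n48063 = n54747 := (sb E83780 F187073)
theorem F322241 : act 4 n48063 = n54746 := (sb E83780 (iv4 D118961))
theorem F322242 : act 7 n48063 = n54886 := (sb E83780 F187074)
theorem F322243 : act 0 n103081 = n54747 := (sb E83782 F178724)
theorem F322244 : act 1 n103081 = n54886 := (sb E83782 F178723)
theorem F322245 : act 3 n118964 = n67573 := (sb E83783 F226897)
theorem F322246 : act 7 n118964 = n67552 := (sb E83783 (iv7 D144202))
theorem F322247 : act 4 n33013 = n65475 := (sb E83785 (iv4 D139533))
theorem E86333 : n162292 = n111594 := ((((iv4 F173134)).symm.trans (sb E83794 (iv4 F256433)))).symm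
theorem E86334 : n35573 = n25012 := ((((iv6 D51468)).symm.trans (sb E83794 (iv6 D77974)))).symm
theorem E86335 : n162319 = n50871 := ((((iv3 F80240)).symm.trans (sb E83795 D162319))).symm
theorem E86336 : n121794 = n50875 := ((((iv4 F80243)).symm.trans (sb E83795 (iv4 F194381)))).symm
theorem E86339 : n162322 = n65140 := ((((iv3 F100913)).symm.trans (sb E83796 D162322))).symm
theorem E86340 : n65143 = n38846 := ((D65143).symm.trans (sb E83796 F119184))
theorem E86342 : n50865 = n35576 := (((D35576).symm.trans (sb E83797 F81825))).symm
theorem E86343 : n107765 = n35577 := (((D35577).symm.trans (sb E83797 (iv0 F166520)))).symm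
theorem F322248 : act 4 n17238 = n25155 := (sb E83797 F81823)
theorem E86346 : n25154 = n8085 := ((((iv6 D17238)).symm.trans (sb E83797 (iv6 D51813)))).symm
theorem E86347 : n35344 = n11691 := ((((iv1 F19705)).symm.trans (sb E83798 (iv1 F56063)))).symm
theorem F322249 : act 2 n156035 = n85968 := (sb E83800 (iv2 D179912))
theorem F322250 : act 4 n156035 = n85990 := (sb E83800 F280195)
theorem E86351 : n152615 = n126815 := (((iv2 F239812)).symm.trans (iv2 (sb E83801 (tr F280263 E84538))))
theorem F322251 : act 6 n126815 = n85990 := (sb E83801 (iv6 D179954))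
theorem E86352 : n72124 = n53224 := (((F111105).symm.trans (sb E83805 F239973))).symm
theorem F322252 : act 3 n137636 = n72086 := (sb E83806 F239974)
theorem F322253 : act 3 n30806 = n16080 := (sb E83807 (iv3 D33299))
theorem E86355 : n72125 = n65822 := (((D65822).symm.trans (sb E83807 D72125))).symm
theorem F322254 : act 6 n74563 = n53651 := (sb E83839 (iv6 D116399))
theorem E86372 : n107246 = n106987 := ((((iv3 F164907)).symm.trans (sb E83840 F181523))).symm
theorem F322255 : act 6 n74564 = n53652 := (sb E83840 (iv6 D116400))
theorem F322256 : act 6 n58370 = n53506 := (sb E83845 (iv6 D116091))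
theorem F322257 : act 6 n138994 = n66898 := (sb E83852 (iv6 D142704))
theorem E86373 : n146795 = n145536 := (((iv5 F230156)).symm.trans (sb E83859 F228588))
theorem F322258 : act 7 n139003 = n66916 := (sb E83870 (iv7 D142744))
theorem F322259 : act 7 n139005 = n66919 := (sb E83871 (iv7 D142750))
theorem F322260 : act 4 n66036 = n67289 := (sb E83879 (iv4 D143679))
theorem E86374 : n140728 = n68258 := ((D140728).symm.trans (sb E83879 F226355))
theorem F322261 : act 2 n31229 = n32224 := (sb E83883 (iv2 F320286))
theorem F322263 : act 3 n31229 = n53731 := (sb E83891 (iv3 D116603))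
theorem F322264 : act 6 n76260 = n67089 := (sb E83896 (iv6 D143185))
theorem F322266 : act 3 n126719 = n66470 := (sb E83912 F224795)
theorem F322267 : act 5 n126719 = n66469 := (sb E83912 (iv5 D141758))
theorem F322268 : act 3 n108544 = n73390 := (sb E83921 (iv3 F237596))
theorem F322269 : act 3 n138776 = n71118 := (sb E83927 F237412)
theorem F322270 : act 0 n109672 = n67736 := (sb E83928 (iv1 F183088))
theorem F322271 : act 1 n109672 = n53948 := (sb E83928 (iv0 D117063))
theorem F322272 : act 0 n117066 = n65579 := (sb E83930 F318378)
theorem F322273 : act 3 n117066 = n54307 := (sb E83930 F184892)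
theorem F322274 : act 5 n117066 = n54305 := (sb E83930 (iv5 D117897))
theorem F322275 : act 1 n32015 = n67735 := (sb E83931 (iv0 D144531))
theorem F322276 : act 0 n65235 = n67735 := (sb E83932 (iv1 D144532))
theorem F322277 : act 3 n117317 = n67735 := (sb E83933 F227338)
theorem F322278 : act 5 n117317 = n67720 := (sb E83933 (iv5 D144495))
theorem F322279 : act 2 n144533 = n69655 := (sb E83934 F237467)
theorem F322280 : act 5 n117231 = n67736 := (sb E83935 F227387)
theorem F322281 : act 7 n117231 = n67735 := (sb E83935 (iv7 D144534))
theorem E86376 : n180167 = n111543 := ((((iv4 F173071)).symm.trans (sb E83936 F304590))).symm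
theorem E86377 : n161209 = n25004 := ((((iv6 D51447)).symm.trans (sb E83936 F304591))).symm
theorem E86378 : n112216 = n56124 := ((((iv3 F88784)).symm.trans (sb E83937 (iv3 F174500)))).symm
theorem F322282 : act 4 n27058 = n25134 := (sb E83937 F81727)
theorem E86380 : n35338 = n25132 := (((iv6 F300469)).symm.trans (sb E83937 (iv6 D51760)))
theorem E86382 : n80110 = n11681 := (((F19686).symm.trans (sb E83938 F300309))).symm
theorem F322283 : act 6 n115328 = n72108 := (sb E83941 (iv6 D152815))
theorem F322284 : act 6 n115311 = n71873 := (sb E83944 (iv6 D152343))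
theorem F322285 : act 6 n139635 = n72119 := (sb E83945 (iv6 D152843))
theorem F322286 : act 6 n33298 = n65536 := (sb E83946 (iv6 D139636))
theorem F322287 : act 1 n124817 = n67045 := (sb E83953 (iv0 D143063))
theorem F322288 : act 2 n72603 = n67045 := (sb E83954 F225636)
theorem F322289 : act 3 n72603 = n67109 := (sb E83954 F225637)
theorem E86385 : n142251 = n141355 := ((E85481).symm.trans ((D153551).symm.trans (sb E83954 F225638)))
theorem E86386 : n153552 = n66912 := ((D153552).symm.trans (sb E83954 (iv6 D142734)))
theorem F322290 : act 0 n105632 = n85987 := (sb E83955 (iv1 D179941))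
theorem E86387 : n153551 = n141355 := (E85481).trans E86385
theorem F322291 : act 7 n105632 = n142252 := (sb E83955 (tr F280257 E85482))
theorem E86388 : n179167 = n66226 := (((iv4 F279120)).symm.trans (sb E83961 F224202))
theorem F322292 : act 6 n85506 = n66224 := (sb E83961 (iv6 D141178))
theorem F322293 : act 0 n116506 = n67120 := (sb E83962 (iv1 F226064))
theorem F322294 : act 1 n116506 = n67109 := (sb E83962 (iv0 D143240))
theorem F322295 : act 2 n31248 = n66717 := (sb E83963 (iv2 D142297))
theorem F322296 : act 6 n31232 = n66717 := (sb E83964 (iv6 D142301))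
theorem F322297 : act 7 n31233 = n66717 := (sb E83965 (iv7 D142302))
theorem F322298 : act 3 n31246 = n53748 := (sb E83978 (iv3 D116655))
theorem F322299 : act 7 n137619 = n67144 := (sb E83983 F226104)
theorem F322300 : act 7 n31246 = n66719 := (sb E83985 (iv7 F320548))
theorem F322301 : act 2 n31123 = n53748 := (sb E83986 F182015)
theorem F322302 : act 2 n116656 = n66738 := (sb E83987 (iv2 D142324))
theorem F322303 : act 0 n31123 = n33273 := (sb E83988 (iv1 F320430))
theorem F322304 : act 1 n31123 = n33278 := (sb E83988 (iv0 F320465))
theorem F322305 : act 3 n30328 = n54722 := (sb E84018 F108728)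
theorem E86406 : n153158 = n64409 := (((D64409).symm.trans (sb E84018 D153158))).symm
theorem F322306 : act 1 n120679 = n66815 := (sb E84032 (iv0 D142514))
theorem F322307 : act 0 n35055 = n66815 := (sb E84033 (iv1 D142515))
theorem F322308 : act 2 n142508 = n73848 := (sb E84034 (iv2 D155380))
theorem F322309 : act 7 n142508 = n76667 := (sb E84034 F317626)
theorem F322310 : act 6 n120678 = n144520 := (sb E84037 (iv6 F227380))
theorem F322311 : act 7 n120678 = n66815 := (sb E84037 (iv7 D142517))
theorem F322312 : act 2 n31146 = n33996 := (sb E84040 (iv2 F319191))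
theorem F322313 : act 7 n31146 = n66794 := (sb E84040 (iv7 F225370))
theorem F322314 : act 2 n74087 = n66831 := (sb E84042 F225436)
theorem F322315 : act 7 n74087 = n66836 := (sb E84042 F225437)
theorem F322316 : act 7 n54140 = n66837 := (sb E84043 F225439)
theorem F322317 : act 2 n31147 = n66794 := (sb E84045 F225372)
theorem F322318 : act 7 n31147 = n33996 := (sb E84045 (iv7 F319192))
theorem F322319 : act 2 n55237 = n66830 := (sb E84046 (iv2 D142559))
theorem F322320 : act 5 n54153 = n66830 := (sb E84047 (iv5 D142560))
theorem F322321 : act 6 n54650 = n66830 := (sb E84048 (iv6 D142561))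
theorem F322322 : act 6 n71287 = n66831 := (sb E84049 (iv6 D142567))
theorem F322323 : act 0 n54159 = n66837 := (sb E84050 (iv1 F225452))
theorem F322324 : act 1 n54160 = n66837 := (sb E84051 F225449)
theorem F322325 : act 2 n54162 = n66837 := (sb E84054 F225450)
theorem F322326 : act 7 n141217 = n66830 := (sb E84058 (iv7 D142562))
theorem F322327 : act 2 n142455 = n66836 := (sb E84059 F225446)
theorem F322328 : act 7 n142455 = n66831 := (sb E84059 (iv7 D142568))
theorem F322329 : act 2 n142457 = n66838 := (sb E84060 F225455)
theorem F322330 : act 3 n69736 = n66837 := (sb E84065 F225456)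
theorem F322331 : act 3 n55235 = n66838 := (sb E84066 F225457)
theorem F322332 : act 6 n54169 = n66837 := (sb E84067 (iv6 D142589))
theorem F322333 : act 1 n132647 = n66838 := (sb E84068 (iv0 D142590))
theorem F322334 : act 5 n120140 = n66838 := (sb E84069 (iv5 D142592))
theorem F322335 : act 7 n55230 = n66838 := (sb E84070 (iv7 D142593))
theorem F322336 : act 5 n142735 = n84471 := (sb E84073 (iv5 D177309))
theorem F322337 : act 5 n38956 = n66916 := (sb E84075 (iv5 D142743))
theorem F322338 : act 0 n142747 = n84503 := (sb E84076 F276599)
theorem F322339 : act 4 n142747 = n84434 := (sb E84076 (iv4 D177206))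
theorem F322340 : act 1 n142748 = n84503 := (sb E84077 F276602)
theorem F322341 : act 4 n142748 = n84435 := (sb E84077 (iv4 D177208))
theorem F322342 : act 0 n142749 = n84545 := (sb E84079 (iv1 F276665))
theorem F322343 : act 1 n142749 = n84462 := (sb E84079 (iv0 D177287))
theorem F322344 : act 4 n142749 = n84509 := (sb E84079 F276664)
theorem F322345 : act 3 n124833 = n107252 := (sb E84084 (iv3 F225690))
theorem F322346 : act 3 n116630 = n66930 := (sb E84086 (iv3 F224955))
theorem F322347 : act 4 n116630 = n66530 := (sb E84086 (iv4 D141911))
theorem F322348 : act 5 n81816 = n66930 := (sb E84087 (iv5 D142790))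
theorem F322349 : act 6 n72729 = n66930 := (sb E84088 (iv6 D142791))
theorem F322350 : act 0 n72708 = n66940 := (sb E84089 (iv1 F225672))
theorem F322351 : act 1 n72708 = n66939 := (sb E84089 F225673)
theorem F322352 : act 2 n72708 = n66942 := (sb E84089 F225670)
theorem F322353 : act 7 n72708 = n66926 := (sb E84089 (iv7 D142775))
theorem F322354 : act 1 n120689 = n66952 := (sb E84091 (iv0 D142838))
theorem F322355 : act 0 n74998 = n66952 := (sb E84092 (iv1 D142839))
theorem F322356 : act 5 n81787 = n66952 := (sb E84093 (iv5 D142840))
theorem E86407 : n131607 = n116873 := (((iv6 F315241)).symm.trans (sb E84093 F225734))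
theorem F322357 : act 6 n120688 = n145524 := (sb E84094 (iv6 F228582))
theorem F322358 : act 7 n120688 = n66952 := (sb E84094 (iv7 D142841))
theorem F322359 : act 2 n31182 = n58366 := (sb E84097 (iv2 F320560))
theorem F322360 : act 7 n31182 = n66930 := (sb E84097 (iv7 F225689))
theorem F322361 : act 7 n124817 = n66967 := (sb E84098 F225758)
theorem F322362 : act 2 n124833 = n66963 := (sb E84099 F225759)
theorem F322363 : act 7 n124833 = n66968 := (sb E84099 F225760)
theorem F322364 : act 2 n124831 = n66965 := (sb E84101 F225763)
theorem F322365 : act 2 n31183 = n66930 := (sb E84102 F225692)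
theorem F322366 : act 7 n31183 = n58366 := (sb E84102 (iv7 F320561))
theorem F322367 : act 1 n72062 = n66962 := (sb E84103 (iv0 D142876))
theorem F322368 : act 0 n116622 = n66962 := (sb E84104 (iv1 D142877))
theorem F322369 : act 2 n116629 = n66962 := (sb E84105 (iv2 D142878))
theorem F322370 : act 5 n124744 = n66962 := (sb E84106 (iv5 D142879))
theorem F322371 : act 7 n116630 = n66962 := (sb E84107 (iv7 D142881))
theorem F322372 : act 4 n142882 = n70956 := (sb E84108 (iv4 D150536))
theorem F322373 : act 5 n142882 = n153703 := (sb E84108 (iv5 F241573))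
theorem F322374 : act 6 n142882 = n147513 := (sb E84108 F237026)
theorem F322375 : act 2 n142789 = n66968 := (sb E84114 F225769)
theorem F322376 : act 7 n142789 = n66963 := (sb E84114 (iv7 D142887))
theorem F322377 : act 2 n72729 = n66970 := (sb E84115 F225778)
theorem F322378 : act 1 n72603 = n66967 := (sb E84116 (iv0 D142898))
theorem F322379 : act 0 n72608 = n66967 := (sb E84117 (iv1 D142899))
theorem F322380 : act 5 n124818 = n66967 := (sb E84118 (iv5 D142902))
theorem F322381 : act 1 n54538 = n66970 := (sb E84121 (iv0 D142909))
theorem F322382 : act 0 n72730 = n66970 := (sb E84122 (iv1 D142910))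
theorem F322383 : act 7 n72728 = n66970 := (sb E84123 (iv7 D142912))
theorem F322384 : act 0 n137617 = n67144 := (sb E84146 (iv1 F226115))
theorem E86408 : n143338 = n30481 := (E84147).trans E84287
theorem E86409 : n67144 = n64837 := (((D64837).symm.trans (sb E86408 F226111))).symm
theorem E86410 : n137967 = n116378 := (((iv2 F221228)).symm.trans (iv2 (sb E84151 (tr F226113 E86409))))
theorem E86411 : n83347 = n24629 := (((F79928).symm.trans (sb E84155 (iv5 D174368)))).symm
theorem E86412 : n24637 = n18316 := (((iv4 F38634)).symm.trans (sb E84157 (iv4 D38399)))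
theorem E86415 : n79615 = n74503 := (((D74503).symm.trans (sb E84159 F123556))).symm
theorem E86417 : n161554 = n51914 := ((((iv3 F81947)).symm.trans (sb E84160 D161554))).symm
theorem E86418 : n79614 = n51916 := ((((iv4 F81951)).symm.trans (sb E84160 F123963))).symm
theorem E86421 : n77868 = n24536 := ((((iv6 D50313)).symm.trans (sb E84161 (iv6 D162081)))).symm
theorem E86422 : n108230 = n35419 := (((F301741).symm.trans (sb E84162 (iv1 F167364)))).symm
theorem E86423 : n50862 = n35418 := (((F301742).symm.trans (sb E84162 F80230))).symm
theorem E86424 : n109850 = n77865 := ((((iv3 F118756)).symm.trans (sb E84162 (iv3 F169833)))).symm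
theorem F322385 : act 4 n35535 = n24671 := (sb E84162 F80017)
theorem E86425 : n24670 = n17214 := ((((iv6 D35535)).symm.trans (sb E84162 (iv6 D50663)))).symm
theorem F322386 : act 3 n115794 = n118348 := (sb E84167 F240366)
theorem F322387 : act 3 n107462 = n72213 := (sb E84187 F237725)
theorem F322388 : act 4 n142010 = n73382 := (sb E84212 (iv4 D154740))
theorem F322389 : act 5 n127151 = n132743 := (sb E84213 F213119)
theorem F322390 : act 5 n125030 = n132652 := (sb E84216 F212946)
theorem F322391 : act 5 n62249 = n58456 := (sb E84217 (iv5 D125033))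
theorem E86436 : n105765 = n66839 := ((D105765).symm.trans (sb E84219 (iv3 D142595)))
theorem F322392 : act 6 n71536 = n48904 := (sb E84221 (iv6 D105767))
theorem F322393 : act 2 n85432 = n49736 := (sb E84222 (iv2 D107657))
theorem F322394 : act 5 n62628 = n86015 := (sb E84223 (iv5 D179991))
theorem F322395 : act 3 n125201 = n61299 := (sb E84224 F209217)
theorem F322396 : act 5 n125201 = n61298 := (sb E84224 (iv5 D130643))
theorem F322397 : act 3 n116901 = n54476 := (sb E84228 F185820)
theorem F322398 : act 3 n115904 = n54721 := (sb E84242 F186948)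
theorem E86437 : n131627 = n29255 := ((((iv1 D61705)).symm.trans (sb E84255 D131627))).symm
theorem E86439 : n131481 = n108404 := (((iv2 F210747)).symm.trans (sb E84255 (iv2 F237443)))
theorem E86440 : n131482 = n29275 := ((D131482).symm.trans (sb E84255 (iv3 D61761)))
theorem E86441 : n131630 = n131483 := (((D131483).symm.trans (sb E84255 D131630))).symm
theorem E86442 : n131631 = n131484 := (((D131484).symm.trans (sb E84255 D131631))).symm
theorem E86443 : n131476 = n62851 := ((F210745).symm.trans (sb E84255 F182261))
theorem F322399 : act 2 n68518 = n67656 := (sb E84256 F227149)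
theorem F322400 : act 7 n68518 = n67655 := (sb E84256 (iv7 D144383))
theorem F322401 : act 3 n84426 = n67656 := (sb E84257 (iv3 D144384))
theorem F322402 : act 0 n144385 = n117908 := (sb E84258 F279752)
theorem F322403 : act 1 n144385 = n117900 := (sb E84258 F279753)
theorem F322404 : act 2 n144385 = n146125 := (sb E84258 F279748)
theorem F322405 : act 5 n144385 = n117951 := (sb E84258 (iv5 F308906))
theorem F322406 : act 6 n144385 = n85780 := (sb E84258 (iv6 D179641))
theorem F322407 : act 7 n144385 = n124503 := (sb E84258 (iv7 F309221))
theorem F322408 : act 5 n54005 = n67656 := (sb E84259 (iv5 D144386))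
theorem F322409 : act 6 n39618 = n67656 := (sb E84260 (iv6 D144387))
theorem F322410 : act 2 n70276 = n67655 := (sb E84261 (iv2 D144378))
theorem F322411 : act 7 n70276 = n67656 := (sb E84261 (iv7 F227148))
theorem F322412 : act 5 n144379 = n103693 := (sb E84262 (iv5 F313336))
theorem F322413 : act 6 n144379 = n74160 := (sb E84262 (iv6 D155936))
theorem F322414 : act 7 n144379 = n146104 := (sb E84262 (iv7 F319876))
theorem F322415 : act 4 n84622 = n67655 := (sb E84263 (iv4 D144380))
theorem F322416 : act 5 n54348 = n67655 := (sb E84264 (iv5 D144381))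
theorem F322417 : act 6 n34016 = n67655 := (sb E84265 (iv6 D144382))
theorem F322418 : act 0 n107613 = n149668 := (sb E84266 F253032)
theorem F322419 : act 4 n107613 = n68899 := (sb E84266 (iv4 D146981))
theorem E86445 : n180140 = n158427 := (((D158427).symm.trans (sb E84267 D180140))).symm
theorem E86458 : n158431 = n39840 := ((D158431).symm.trans (sb E84270 (iv3 D86064)))
theorem E86459 : n180127 = n98255 := ((((iv5 F151608)).symm.trans (sb E84270 D180127))).symm
theorem E86460 : n180128 = n158425 := ((((iv6 F249612)).symm.trans (sb E84270 D180128))).symm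
theorem F322420 : act 3 n75561 = n39844 := (sb E84271 F132005)
theorem F322421 : act 6 n53716 = n74105 := (sb E84273 (iv6 F318597))
theorem F322422 : act 5 n59619 = n55794 := (sb E84276 F122371)
theorem E86473 : n136191 = n108805 := ((((iv2 F168734)).symm.trans (sb E84278 (iv2 F219226)))).symm
theorem E86474 : n134299 = n30189 := (((iv4 F216319)).symm.trans (sb E84278 (iv4 D64039)))
theorem F322423 : act 4 n30014 = n28287 := (sb E84279 (iv4 D59606))
theorem E86479 : n132728 = n127056 := (((D127056).symm.trans (sb E84281 D132728))).symm
theorem E86481 : n132730 = n30498 := (((F94029).symm.trans (sb E84281 D132730))).symm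
theorem F322424 : act 3 n59619 = n29470 := (sb E84281 (iv3 D62286))
theorem E86482 : n132731 = n30193 := (((F94030).symm.trans (sb E84281 D132731))).symm
theorem E86483 : n127055 = n61026 := (((iv7 F204294)).symm.trans (sb E84281 F97108))
theorem F322425 : act 0 n59604 = n61025 := (sb E84284 F162275)
theorem F322426 : act 2 n59604 = n59647 := (sb E84284 F162272)
theorem E86484 : n127005 = n48852 := ((D127005).symm.trans (sb E84284 (iv4 D105670)))
theorem F322427 : act 6 n59604 = n59647 := (sb E84284 F162273)
theorem F322428 : act 7 n59604 = n59654 := (sb E84284 F162274)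
theorem F322429 : act 5 n137952 = n149875 := (sb E84285 F236990)
theorem F322430 : act 6 n137952 = n159431 := (sb E84285 F278908)
theorem F322431 : act 2 n127964 = n64833 := (sb E84286 F221162)
theorem F322432 : act 3 n127964 = n127203 := (sb E84286 F221163)
theorem F322433 : act 4 n127964 = n64825 := (sb E84286 F221164)
theorem F322434 : act 6 n127964 = n64815 := (sb E84286 (iv6 D137906))
theorem E86485 : n64836 = n64689 := ((D64836).symm.trans (sb E84287 (iv1 D137618)))
theorem F322435 : act 5 n32859 = n64833 := (sb E84288 (iv5 D137953))
theorem F322436 : act 4 n127966 = n64839 := (sb E84289 F221218)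
theorem F322437 : act 6 n127966 = n127150 := (sb E84289 F221219)
theorem F322438 : act 7 n127966 = n64833 := (sb E84289 (iv7 D137954))
theorem E86486 : n84031 = n64831 := ((D84031).symm.trans (sb E84290 F221202))
theorem F322439 : act 3 n127966 = n66671 := (sb E84291 (iv3 D142212))
theorem F322440 : act 6 n59712 = n66671 := (sb E84292 (iv6 D142215))
theorem F322441 : act 3 n126885 = n61038 := (sb E84293 F208334)
theorem F322442 : act 6 n126885 = n61036 := (sb E84293 (iv6 D129954))
theorem F322443 : act 7 n126885 = n132652 := (sb E84293 (iv7 F212945))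
theorem F322444 : act 5 n62544 = n79200 := (sb E84296 F299778)
theorem E86488 : n77848 = n33976 := ((((iv1 F53317)).symm.trans (sb E84297 (iv1 D162053)))).symm
theorem F322445 : act 3 n126969 = n61408 := (sb E84299 (iv3 D130893))
theorem F322446 : act 7 n126969 = n129584 := (sb E84299 F209477)
theorem F322447 : act 4 n135459 = n74058 := (sb E84300 F237082)
theorem F322448 : act 6 n135459 = n70971 := (sb E84300 (iv6 D150564))
theorem F322449 : act 7 n135459 = n85307 := (sb E84300 F237083)
theorem E86492 : n125341 = n82596 := ((F201614).symm.trans (sb E84301 F270715))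
theorem F322450 : act 5 n86093 = n54864 := (sb E84301 (iv5 D119221))
theorem F322451 : act 1 n165634 = n82542 := (sb E84302 F270589)
theorem F322452 : act 0 n165633 = n82542 := (sb E84303 (iv1 F270592))
theorem F322453 : act 5 n165633 = n173731 := (sb E84303 (iv5 F315789))
theorem F322454 : act 3 n165647 = n82542 := (sb E84304 F270598)
theorem F322455 : act 5 n165647 = n82540 := (sb E84304 (iv5 D172369))
theorem F322456 : act 6 n124473 = n82542 := (sb E84305 (iv6 D172374))
theorem F322457 : act 5 n165635 = n82446 := (sb E84306 (iv5 D172154))
theorem F322458 : act 7 n165635 = n82542 := (sb E84306 F314496)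
theorem E86496 : n24706 = n17167 := ((((iv3 F299013)).symm.trans (sb E84309 F80132))).symm
theorem E86499 : n51858 = n36245 := ((((iv7 F56965)).symm.trans (sb E84310 (iv7 D112421)))).symm
theorem E86500 : n77898 = n58977 := (((F93421).symm.trans (sb E84313 F255384))).symm
theorem E86501 : n77525 = n59014 := (((F93423).symm.trans (sb E84313 F255385))).symm
theorem E86502 : n77510 = n13377 := ((((iv1 F22332)).symm.trans (sb E84314 D77510))).symm
theorem E86504 : n17216 = n13378 := (((F22328).symm.trans (sb E84314 F56091))).symm
theorem E86506 : n17173 = n13384 := (((F22330).symm.trans (sb E84314 F56092))).symm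
theorem E86508 : n77524 = n59012 := (((F93216).symm.trans (sb E84316 D77524))).symm
theorem F322459 : act 4 n28050 = n55661 := (sb E84316 (iv4 F88064))
theorem E86511 : n165698 = n59011 := (((iv1 F261011)).symm.trans (sb E84317 F202654))
theorem F322460 : act 2 n120739 = n59019 := (sb E84317 F202650)
theorem F322461 : act 4 n120739 = n105225 := (sb E84317 F202651)
theorem F322462 : act 6 n120739 = n58982 := (sb E84317 (iv6 D125973))
theorem F322463 : act 7 n120739 = n59018 := (sb E84317 (iv7 F202652))
theorem F322464 : act 0 n112264 = n55661 := (sb E84318 (iv1 D120740))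
theorem E86512 : n165697 = n59019 := (((iv1 F261012)).symm.trans (sb E84319 (iv1 F202685)))
theorem E86513 : n165696 = n59018 := ((F261006).symm.trans (sb E84319 F202686))
theorem F322465 : act 6 n120741 = n113171 := (sb E84319 F202684)
theorem E86514 : n112598 = n60786 := (((D60786).symm.trans (sb E84320 (iv1 F202711)))).symm
theorem E86515 : n112600 = n60787 := (((D60787).symm.trans (sb E84320 F202712))).symm
theorem F322466 : act 7 n28047 = n55661 := (sb E84321 F122235)
theorem E86519 : n132586 = n60925 := (((D60925).symm.trans (sb E84322 (iv3 F212819)))).symm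
theorem E86520 : n132589 = n60926 := (((D60926).symm.trans (sb E84322 (iv4 F212826)))).symm
theorem E86521 : n60928 = n29442 := ((D60928).symm.trans (sb E84322 (iv6 D62211)))
theorem E86522 : n132593 = n29465 := ((((iv7 F95473)).symm.trans (sb E84322 D132593))).symm
theorem E86523 : n134583 = n63621 := (((F98966).symm.trans (sb E84325 (iv2 F216560)))).symm
theorem E86524 : n130015 = n62319 := (((F97178).symm.trans (sb E84325 (iv4 F208466)))).symm
theorem E86525 : n172313 = n132464 := ((((iv5 F212575)).symm.trans (sb E84325 F319725))).symm
theorem E86526 : n132685 = n61001 := ((D132685).symm.trans (sb E84325 (iv6 D129865)))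
theorem E86527 : n126606 = n61002 := ((D126606).symm.trans (sb E84326 (iv6 D129870)))
theorem F322467 : act 6 n28919 = n29464 := (sb E84327 (iv6 D62269))
theorem E86531 : n132689 = n29441 := ((((iv7 F207704)).symm.trans (sb E84327 D132689))).symm
theorem F322468 : act 5 n80255 = n61009 := (sb E84341 (iv5 D129880))
theorem E86533 : n166866 = n138142 := (((D138142).symm.trans (sb E84355 (iv1 F262667)))).symm
theorem E86534 : n166865 = n138143 := (((D138143).symm.trans (sb E84355 F262663))).symm
theorem F322469 : act 2 n64900 = n55794 := (sb E84355 (iv2 D120972))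
theorem F322470 : act 6 n64900 = n78416 := (sb E84355 F302559)
theorem E86535 : n166867 = n138145 := (((D138145).symm.trans (sb E84355 (iv7 F262665)))).symm
theorem F322471 : act 3 n116621 = n66879 := (sb E84360 (iv3 D142678))
theorem F322472 : act 6 n116621 = n72842 := (sb E84360 F318582)
theorem F322473 : act 6 n51822 = n77621 := (sb E84361 (iv6 D161610))
theorem F322474 : act 6 n79778 = n56086 := (sb E84364 (iv6 D121486))
theorem F322475 : act 6 n86247 = n77659 := (sb E84365 (iv6 D161675))
theorem E86541 : n121635 = n61019 := (((iv5 F302169)).symm.trans (sb E84366 F208282))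
theorem E86542 : n27074 = n13783 := (((F46568).symm.trans (sb E84368 (iv4 D56174)))).symm
theorem F322476 : act 5 n28928 = n35775 := (sb E84368 F299305)
theorem F322477 : act 0 n36292 = n51015 := (sb E84369 (iv1 F82039))
theorem F322478 : act 1 n36292 = n51014 := (sb E84369 F82038)
theorem F322479 : act 2 n36292 = n25205 := (sb E84369 (iv2 D51947))
theorem E86543 : n112542 = n78710 := ((((iv3 F119853)).symm.trans (sb E84369 (iv3 F175030)))).symm
theorem F322480 : act 7 n36292 = n51016 := (sb E84369 F82037)
theorem E86545 : n181864 = n11755 := ((((iv3 D24813)).symm.trans (sb E84370 (iv3 F283112)))).symm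
theorem E86546 : n51018 = n40287 := ((D51018).symm.trans (sb E84370 (iv6 D86860)))
theorem F322481 : act 5 n110630 = n152489 := (sb E84371 (iv5 F318694))
theorem F322482 : act 6 n110630 = n56245 := (sb E84371 (iv6 D121716))
theorem F322483 : act 4 n27745 = n51014 := (sb E84372 (iv4 D110631))
theorem F322484 : act 6 n27102 = n51014 := (sb E84373 (iv6 D110633))
theorem F322485 : act 2 n137314 = n78719 := (sb E84374 (iv2 D163872))
theorem F322486 : act 6 n79873 = n69177 := (sb E84375 (iv6 D147600))
theorem E86547 : n83129 = n24599 := ((F298619).symm.trans (sb E84376 (iv3 D50480)))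
theorem F322487 : act 4 n39053 = n51015 := (sb E84376 F80473)
theorem E86549 : n57929 = n51609 := ((D57929).symm.trans (sb E84377 (iv0 D111904)))
theorem E86550 : n109389 = n35137 := ((((iv2 F55836)).symm.trans (sb E84377 (iv2 F173864)))).symm
theorem E86551 : n108731 = n57928 := ((((iv4 F91650)).symm.trans (sb E84377 F173863))).symm
theorem E86553 : n58181 = n24597 := ((F129685).symm.trans (sb E84379 (iv1 D50474)))
theorem E86554 : n84493 = n50945 := ((F297394).symm.trans (sb E84379 F80365))
theorem E86555 : n81481 = n28150 := ((F126165).symm.trans (sb E84379 (iv2 F173280)))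
theorem E86557 : n76961 = n28073 := (((iv5 F115672)).symm.trans (sb E84379 F170862))
theorem E86558 : n109397 = n18824 := ((((iv6 D39803)).symm.trans (sb E84379 D109397))).symm
theorem E86560 : n35526 = n11905 := ((((iv1 F19606)).symm.trans (sb E84381 F56203))).symm
theorem E86564 : n17151 = n11969 := (((D11969).symm.trans (sb E84381 (iv6 D35340)))).symm
theorem E86565 : n25171 = n17506 := ((D25171).symm.trans (sb E84382 (iv6 D36246)))
theorem F322488 : act 6 n17334 = n11968 := (sb E84383 (iv6 D25221))
theorem F322489 : act 6 n16393 = n24823 := (sb E84384 (iv6 D51038))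
theorem E86574 : n110518 = n35754 := (((F70015).symm.trans (sb E84385 F175257))).symm
theorem E86575 : n110496 = n95272 := ((((iv4 F146899)).symm.trans (sb E84385 F175256))).symm
theorem E86576 : n110253 = n44511 := ((((iv5 F70027)).symm.trans (sb E84385 (iv5 F175261)))).symm
theorem F322490 : act 0 n51875 = n36384 := (sb E84386 (iv1 D79870))
theorem E86577 : n160403 = n25179 := (((F81917).symm.trans (sb E84386 (iv3 F297461)))).symm
theorem E86578 : n166332 = n110497 := (((F170925).symm.trans (sb E84386 D166332))).symm
theorem E86579 : n79973 = n25177 := ((((iv5 D51875)).symm.trans (sb E84386 (iv5 F123916)))).symm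
theorem E86580 : n112446 = n80587 := ((D112446).symm.trans (sb E84386 (iv6 F123915)))
theorem E86581 : n166328 = n59062 := ((D166328).symm.trans (sb E84388 F175269))
theorem E86582 : n166329 = n126384 := ((D166329).symm.trans (sb E84388 (iv5 F203217)))
theorem E86583 : n109552 = n88652 := ((F205012).symm.trans (sb E84389 (iv3 D186088)))
theorem F322491 : act 7 n79890 = n69192 := (sb E84390 (iv7 D147646))
theorem E86584 : n162165 = n50788 := (((iv3 F297263)).symm.trans (sb E84391 F170254))
theorem E86585 : n162637 = n111895 := (((iv4 F256874)).symm.trans (sb E84391 (iv4 F173836)))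
theorem E86586 : n88658 = n50786 := (((iv5 F297215)).symm.trans (sb E84391 (iv5 D110120)))
theorem E86587 : n111896 = n47685 := ((((iv4 F74969)).symm.trans (sb E84392 F173842))).symm
theorem E86588 : n50815 = n43167 := ((((iv5 F67595)).symm.trans (sb E84392 (iv5 D110203)))).symm
theorem E86589 : n84273 = n51566 := ((F250019).symm.trans (sb E84393 F170381))
theorem E86590 : n109325 = n77189 := (((F296276).symm.trans (sb E84393 F171304))).symm
theorem E86591 : n83480 = n24624 := ((((iv1 D50541)).symm.trans (sb E84394 (iv1 F250027)))).symm
theorem E86592 : n75806 = n51568 := (((F81394).symm.trans (sb E84394 (iv0 F158085)))).symm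
theorem F322492 : act 4 n50541 = n47686 := (sb E84394 (iv4 D102820))
theorem E86593 : n109377 = n77191 := (((iv1 F173834)).symm.trans (sb E84395 F121492))
theorem E86594 : n121056 = n51656 := (((F81558).symm.trans (sb E84395 (iv4 F193054)))).symm
theorem F322493 : act 5 n50960 = n47686 := (sb E84395 (iv5 F297226))
theorem E86595 : n110520 = n26942 := ((D110520).symm.trans (sb E84395 (iv6 D55852)))
theorem F322494 : act 6 n12892 = n24781 := (sb E84397 (iv6 D50963))
theorem E86600 : n110134 = n96340 := ((F202280).symm.trans (sb E84401 F276877))
theorem F322495 : act 6 n110008 = n112339 := (sb E84402 (tr F258363 E85135))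
theorem E86601 : n79964 = n59058 := (((D59058).symm.trans (sb E84403 (iv6 D166618)))).symm
theorem F322496 : act 6 n38998 = n59045 := (sb E84405 (iv6 D126024))
theorem E86602 : n79954 = n28154 := ((((iv1 F93521)).symm.trans (sb E84406 F257141))).symm
theorem E86603 : n163017 = n28149 := ((((iv0 D59287)).symm.trans (sb E84406 F257376))).symm
theorem E86604 : n163419 = n113447 := (((F176633).symm.trans (sb E84406 (iv2 F257696)))).symm
theorem F322497 : act 4 n59287 = n35855 := (sb E84406 (iv4 D78752))
theorem E86606 : n163923 = n126379 := (((D126379).symm.trans (sb E84406 D163923))).symm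
theorem F322498 : act 3 n5428 = n8129 := (sb E84407 F28196)
theorem E86613 : n79944 = n59104 := (((iv4 F122702)).symm.trans (sb E84409 F170195))
theorem F322499 : act 0 n24718 = n35855 := (sb E84410 F255037)
theorem E86614 : n161134 = n11696 := ((((iv3 D24718)).symm.trans (sb E84410 (iv3 F254739)))).symm
theorem E86615 : n162842 = n50793 := (((D50793).symm.trans (sb E84410 (iv4 F257110)))).symm
theorem E86616 : n50795 = n35685 := ((D50795).symm.trans (sb E84410 (iv6 D78275)))
theorem E86617 : n95283 = n51872 := (((iv5 F296323)).symm.trans (sb E84411 F170204))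
theorem E86618 : n95285 = n51873 := ((((iv1 F170446)).symm.trans (sb E84412 (iv1 F296329)))).symm
theorem E86619 : n50841 = n44985 := (((iv0 F170287)).symm.trans (sb E84412 F296056))
theorem F322500 : act 5 n50741 = n35855 := (sb E84412 (iv5 D78753))
theorem F322501 : act 6 n11692 = n17114 := (sb E84414 (iv6 D35262))
theorem F322502 : act 3 n25169 = n12908 := (sb E84415 F43423)
theorem F322503 : act 5 n25169 = n17523 := (sb E84415 F43424)
theorem E86621 : n51854 = n12884 := ((D51854).symm.trans (sb E84415 (iv6 D26929)))
theorem E86622 : n109999 = n76193 := (((iv1 F170136)).symm.trans (sb E84416 F119916))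
theorem E86623 : n163935 = n110010 := (((D110010).symm.trans (sb E84416 D163935))).symm
theorem E86624 : n110011 = n58414 := ((D110011).symm.trans (sb E84416 F313881))
theorem E86625 : n110012 = n51827 := ((D110012).symm.trans (sb E84416 F319454))
theorem E86628 : n110077 = n51852 := (E84420).trans E85139
theorem E86629 : n112399 = n35822 := ((D112399).symm.trans (sb E86628 (tr (iv1 F174746) E85124)))
theorem E86631 : n158850 = n25112 := ((((iv1 D51701)).symm.trans (sb E84421 (iv1 F298670)))).symm
theorem E86632 : n80009 = n50677 := (((F81638).symm.trans (sb E84421 (iv0 F255044)))).symm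
theorem E86633 : n160876 = n50675 := (((F105369).symm.trans (sb E84421 F254991))).symm
theorem F322504 : act 4 n51701 = n35850 := (sb E84421 (iv4 D78741))
theorem E86635 : n158074 = n112110 := (((D112110).symm.trans (sb E84421 (iv6 F297246)))).symm
theorem E86636 : n159027 = n68910 := ((D159027).symm.trans (sb E84422 F204910))
theorem E86637 : n159028 = n69054 := ((D159028).symm.trans (sb E84422 F230428))
theorem E86638 : n159029 = n144816 := ((D159029).symm.trans (sb E84422 (iv2 F227725)))
theorem F322505 : act 6 n75947 = n59876 := (sb E84422 (iv6 D127481))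
theorem F322506 : act 5 n85317 = n69214 := (sb E84423 (iv5 D147699))
theorem E86639 : n147700 = n110000 := (((D110000).symm.trans (iv3 (sb E84424 (tr (iv3 D163920) E84430))))).symm
theorem E86640 : n163920 = n110000 := (E84424).trans E86639
theorem F322507 : act 5 n110000 = n177700 := (sb E86640 (iv5 F277153))
theorem F322508 : act 6 n110000 = n133062 := (sb E86640 (tr (iv6 F280517) E85130))
theorem F322509 : act 1 n50846 = n35850 := (sb E84425 F254939)
theorem E86641 : n160863 = n24731 := ((((iv3 D50846)).symm.trans (sb E84425 (iv3 F254027)))).symm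
theorem E86642 : n160873 = n109928 := ((((iv4 F170045)).symm.trans (sb E84425 (iv4 F254037)))).symm
theorem E86643 : n110264 = n35637 := ((D110264).symm.trans (sb E84425 F121275))
theorem E86644 : n109929 = n80000 := ((((iv4 F122792)).symm.trans (sb E84426 F170441))).symm
theorem F322510 : act 2 n51894 = n35850 := (sb E84427 F254936)
theorem E86646 : n109711 = n92311 := (((iv5 F169705)).symm.trans (sb E84427 F297247))
theorem E86647 : n112485 = n88665 := ((D112485).symm.trans (sb E84427 F297248))
theorem E86648 : n41399 = n24723 := (((F105380).symm.trans (sb E84428 F297211))).symm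
theorem E86649 : n109997 = n77179 := ((D109997).symm.trans (sb E84428 F254941))
theorem E86650 : n84287 = n51771 := (((F81761).symm.trans (sb E84428 (iv4 F299320)))).symm
theorem F322511 : act 5 n50736 = n35850 := (sb E84428 (iv5 D78742))
theorem E86651 : n162656 = n109998 := (((D109998).symm.trans (sb E84428 F256900))).symm
theorem E86652 : n110059 = n51844 := (E84429).trans E84435
theorem E86653 : n88665 = n50813 := ((((iv2 F105378)).symm.trans (sb E86652 (tr (iv2 F174960) E86647)))).symm
theorem E86654 : n112110 = n50603 := (((F81871).symm.trans (sb E86652 (iv4 F174316)))).symm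
theorem E86655 : n110001 = n84619 := ((D110001).symm.trans (sb E84430 (iv5 F129790)))
theorem E86656 : n110004 = n35802 := ((D110004).symm.trans (sb E84431 F119321))
theorem E86657 : n158074 = n50603 := (E86635).trans E86654
theorem E86658 : n112385 = n35850 := ((D112385).symm.trans (sb E84435 (iv6 D78743)))
theorem E86659 : n110005 = n51824 := (((D51824).symm.trans (sb E84436 F170194))).symm
theorem E86660 : n42930 = n28072 := (((iv3 F67263)).symm.trans (sb E84439 F81280))
theorem E86661 : n76901 = n25027 := (((iv4 F115530)).symm.trans (sb E84439 (iv4 D51507)))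
theorem F322512 : act 0 n51502 = n39913 := (sb E84440 F254949)
theorem E86663 : n124264 = n25026 := ((((iv4 D51502)).symm.trans (sb E84440 (iv4 F198759)))).symm
theorem E86664 : n111687 = n34801 := ((D111687).symm.trans (sb E84440 F300421))
theorem F322513 : act 2 n51793 = n39913 := (sb E84441 F254968)
theorem E86665 : n124272 = n51878 := ((((iv4 F81920)).symm.trans (sb E84441 D124272))).symm
theorem E86666 : n124212 = n112280 := (((D112280).symm.trans (sb E84441 (iv6 F198770)))).symm
theorem E86667 : n76906 = n50842 := ((F254950).symm.trans (sb E84442 (iv1 D110255)))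
theorem E86668 : n124290 = n50847 := ((F254951).symm.trans (sb E84442 F170462))
theorem E86669 : n180573 = n51456 := ((D180573).symm.trans (sb E84442 F173105))
theorem F322514 : act 0 n39897 = n28060 := (sb E84443 (iv1 D59049))
theorem F322515 : act 2 n39897 = n51727 := (sb E84443 (iv2 F170013))
theorem E86670 : n86206 = n50798 := ((D86206).symm.trans (sb E84443 F170032))
theorem E86671 : n126029 = n57934 := ((((iv6 F299645)).symm.trans (sb E84443 D126029))).symm
theorem F322516 : act 3 n34803 = n51502 := (sb E84447 (iv3 D111686))
theorem F322517 : act 0 n28153 = n39915 := (sb E84448 (iv1 F115682))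
theorem F322518 : act 1 n28153 = n39910 := (sb E84448 (iv0 F115683))
theorem F322519 : act 2 n28153 = n57930 := (sb E84448 (iv2 F297603))
theorem E86672 : n42861 = n13435 := ((((iv3 D28153)).symm.trans (sb E84448 F296403))).symm
theorem F322520 : act 5 n28153 = n35884 := (sb E84448 F115680)
theorem E86673 : n59308 = n35318 := ((D59308).symm.trans (sb E84448 F296404))
theorem F322521 : act 7 n28153 = n35162 := (sb E84448 (iv7 D76965))
theorem E86674 : n129497 = n112410 := (((D112410).symm.trans (sb E84449 (iv3 F316324)))).symm
theorem F322522 : act 4 n51855 = n39915 := (sb E84449 F119862)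
theorem F322523 : act 5 n51855 = n39616 := (sb E84449 F313884)
theorem E86675 : n112412 = n35846 := ((D112412).symm.trans (sb E84449 (iv6 D78724)))
theorem E86676 : n83143 = n25120 := ((((iv3 F39484)).symm.trans (sb E84451 (iv3 F128177)))).symm
theorem E86677 : n83300 = n50604 := ((((iv4 F79980)).symm.trans (sb E84451 (iv4 F128374)))).symm
theorem E86678 : n75809 = n24633 := (((F38659).symm.trans (sb E84451 (iv5 F113689)))).symm
theorem E86679 : n50634 = n18308 := ((D50634).symm.trans (sb E84451 (iv6 D38370)))
theorem E86681 : n38870 = n25139 := ((((iv4 F39555)).symm.trans (sb E84452 (iv4 F59897)))).symm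
theorem E86682 : n18468 = n11909 := (((F19698).symm.trans (sb E84452 F29654))).symm
theorem E86683 : n25148 = n8686 := ((D25148).symm.trans (sb E84452 (iv6 D18471)))
theorem E86685 : n86210 = n24684 := ((((iv5 F81886)).symm.trans (sb E84453 F298632))).symm
theorem E86686 : n50633 = n25119 := ((D50633).symm.trans (sb E84453 (tr (iv6 F129371) E85178)))
theorem E86687 : n158885 = n110119 := (((F170253).symm.trans (sb E84454 F255030))).symm
theorem E86688 : n110202 = n38879 := (((iv0 F170373)).symm.trans (sb E84454 F255031))
theorem E86689 : n176812 = n112273 := (((D112273).symm.trans (sb E84454 D176812))).symm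
theorem E86691 : n166684 = n112275 := (((D112275).symm.trans (sb E84454 (iv6 F298663)))).symm
theorem E86692 : n75279 = n24685 := ((((iv1 F39483)).symm.trans (sb E84455 F296939))).symm
theorem E86693 : n75798 = n11933 := ((((iv0 D25118)).symm.trans (sb E84455 (iv0 F129366)))).symm
theorem F322524 : act 3 n25118 = n39910 := (sb E84455 F255005)
theorem E86694 : n160871 = n51723 := (((D51723).symm.trans (sb E84455 (iv4 F298633)))).symm
theorem E86695 : n84230 = n51725 := (((D51725).symm.trans (sb E84455 F129365))).symm
theorem E86696 : n78453 = n11687 := ((((iv0 D24683)).symm.trans (sb E85166 F296949))).symm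
theorem F322525 : act 3 n24683 = n39911 := (sb E85166 F255007)
theorem E86697 : n112275 = n50699 := (((D50699).symm.trans (sb E85166 (tr (iv4 F298662) E86691)))).symm
theorem E86698 : n180572 = n112413 := (((D112413).symm.trans (sb E84460 D180572))).symm
theorem F322526 : act 4 n51856 = n39910 := (sb E84460 (iv4 D86240))
theorem F322527 : act 5 n51856 = n78448 := (sb E84460 F132199)
theorem F322528 : act 4 n39846 = n112415 := (sb E84461 (iv4 F174904))
theorem E86704 : n95282 = n58938 := ((((iv1 F170419)).symm.trans (sb E84463 F276883))).symm
theorem E86705 : n166629 = n51874 := ((((iv0 F81914)).symm.trans (sb E84463 (iv0 F296346)))).symm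
theorem E86707 : n81645 = n13434 := (((D13434).symm.trans (sb E84464 (iv1 F297376)))).symm
theorem E86709 : n124207 = n59108 := (((D59108).symm.trans (sb E84465 (iv1 F297407)))).symm
theorem E86710 : n59109 = n39841 := ((D59109).symm.trans (sb E84465 (iv0 D86067)))
theorem E86714 : n86068 = n59095 := (((D59095).symm.trans (sb E84468 F296410))).symm
theorem F322529 : act 2 n28062 = n48517 := (sb E84469 F148463)
theorem E86715 : n59063 = n57879 := ((D59063).symm.trans (sb E84469 F297512))
theorem E86716 : n59065 = n18504 := ((D59065).symm.trans (sb E84470 (iv1 F59948)))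
theorem E86717 : n59066 = n18503 := ((D59066).symm.trans (sb E84470 F59949))
theorem F322530 : act 2 n28063 = n18506 := (sb E84470 F59945)
theorem E86718 : n59067 = n18481 := ((D59067).symm.trans (sb E84470 F59946))
theorem E86719 : n59068 = n18480 := ((D59068).symm.trans (sb E84470 (iv7 D38906)))
theorem F322531 : act 1 n24779 = n48517 := (sb E84471 F148458)
theorem E86721 : n181223 = n50952 := ((((iv4 F80392)).symm.trans (sb E84471 F297623))).symm
theorem E86722 : n58673 = n50957 := (((D50957).symm.trans (sb E84471 (iv6 F148461)))).symm
theorem F322532 : act 0 n31791 = n48517 := (sb E84472 F76355)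
theorem E86723 : n84510 = n68197 := ((((iv4 F104367)).symm.trans (sb E84472 (iv4 F129638)))).symm
theorem E86724 : n68311 = n18501 := (((iv6 F104488)).symm.trans (sb E84472 (iv6 D38979)))
theorem F322533 : act 2 n104974 = n59062 := (sb E84473 F171002)
theorem F322534 : act 3 n104974 = n107168 := (sb E84473 (iv3 F171004))
theorem E86725 : n51048 = n37386 := (((F58308).symm.trans (sb E84474 (iv1 F171393)))).symm
theorem E86728 : n68312 = n18479 := ((((iv1 F29660)).symm.trans (sb E84477 F202726))).symm
theorem F322535 : act 1 n35844 = n25264 := (sb E84480 (iv0 D52044))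
theorem F322536 : act 2 n35844 = n50915 := (sb E84480 F173346)
theorem E86729 : n112754 = n78719 := (((D78719).symm.trans (sb E84480 D112754))).symm
theorem E86730 : n110030 = n66440 := (((F318600).symm.trans (sb E84480 F173351))).symm
theorem F322537 : act 7 n35844 = n50914 := (sb E84480 F173348)
theorem E86732 : n75807 = n24632 := (((F173323).symm.trans (sb E84481 F113680))).symm
theorem F322538 : act 3 n25067 = n18542 := (sb E84481 F117686)
theorem E86733 : n83274 = n51605 := (((D51605).symm.trans (sb E84481 (iv4 F128345)))).symm
theorem E86734 : n51607 = n18303 := ((D51607).symm.trans (sb E84481 (iv6 D38352)))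
theorem F322539 : act 0 n35843 = n25264 := (sb E84482 (iv1 D52045))
theorem F322540 : act 2 n35843 = n50914 := (sb E84482 F173343)
theorem E86735 : n112756 = n78717 := (((D78717).symm.trans (sb E84482 D112756))).symm
theorem E86736 : n110031 = n55246 := ((((iv5 F316250)).symm.trans (sb E84482 (iv5 F171344)))).symm
theorem F322541 : act 7 n35843 = n50915 := (sb E84482 F173344)
theorem E86738 : n180586 = n112119 := (((D112119).symm.trans (sb E84486 (iv3 F281085)))).symm
theorem E86739 : n78640 = n28134 := (((F81645).symm.trans (sb E84486 (iv5 D163680)))).symm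
theorem F322542 : act 6 n51705 = n79925 := (sb E84486 F258008)
theorem F322543 : act 6 n51692 = n79928 := (sb E84487 F258295)
theorem F322544 : act 3 n13429 = n17361 := (sb E84488 F56504)
theorem E86743 : n28138 = n17359 := ((D28138).symm.trans (sb E84488 (iv6 D35842)))
theorem F322545 : act 1 n78451 = n67628 := (sb E84490 (iv0 D144338))
theorem F322546 : act 0 n112761 = n67628 := (sb E84491 (iv1 D144339))
theorem E86748 : n160121 = n67632 := (((iv3 F316510)).symm.trans (sb E84492 F227078))
theorem F322547 : act 5 n85560 = n67628 := (sb E84492 (iv5 D144340))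
theorem E86749 : n117095 = n77378 := (((D77378).symm.trans (sb E84493 F223990))).symm
theorem E86750 : n77379 = n66121 := ((D77379).symm.trans (sb E84493 (iv5 D140968)))
theorem E86752 : n139922 = n60130 := (((F94688).symm.trans (sb E84496 F227124))).symm
theorem E86753 : n145471 = n33563 := (((F86016).symm.trans (sb E84496 (iv4 F228515)))).symm
theorem F322548 : act 6 n32875 = n67650 := (sb E84496 (iv6 D144367))
theorem F322549 : act 6 n32876 = n66470 := (sb E84497 (iv6 D141759))
theorem F322550 : act 4 n114620 = n67551 := (sb E84500 (iv4 D144196))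
theorem F322551 : act 0 n146646 = n74431 := (sb E84501 (iv1 D156520))
theorem F322552 : act 0 n146648 = n138381 := (sb E84503 F313384)
theorem F322554 : act 2 n146648 = n71144 := (sb E84503 F237628)
theorem F322555 : act 7 n146648 = n71143 := (sb E84503 (iv7 D150912))
theorem F322556 : act 7 n64995 = n68721 := (sb E84504 F227842)
theorem F322557 : act 2 n146484 = n138363 := (sb E84505 F246118)
theorem F322558 : act 4 n146484 = n74431 := (sb E84505 F246119)
theorem F322559 : act 6 n146484 = n74429 := (sb E84505 (iv6 D156518))
theorem E86754 : n133541 = n92790 := ((F214829).symm.trans (sb E84510 F176862))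
theorem E86755 : n133544 = n113738 := (((iv2 F214826)).symm.trans (sb E84510 (iv2 F176979)))
theorem E86756 : n133477 = n52485 := (((iv4 F214658)).symm.trans (sb E84510 (iv4 D113672)))
theorem F322560 : act 5 n62676 = n59700 := (sb E84510 (iv5 F176988))
theorem E86757 : n126791 = n60884 := (((D60884).symm.trans (sb E84512 F204437))).symm
theorem E86758 : n117423 = n29628 := ((((iv3 F47589)).symm.trans (sb E84513 F204421))).symm
theorem F322561 : act 0 n101646 = n64358 := (sb E84515 (iv1 F220076))
theorem F322562 : act 1 n101646 = n64353 := (sb E84515 (iv0 D136899))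
theorem F322563 : act 4 n101646 = n136822 := (sb E84515 F220075)
theorem F322564 : act 7 n101646 = n139869 := (sb E84515 (iv7 F223078))
theorem E86759 : n153756 = n145470 := ((((iv4 F228512)).symm.trans (sb E84516 (iv4 F241618)))).symm
theorem F322565 : act 6 n126719 = n70981 := (sb E84516 (iv6 D150592))
theorem F322566 : act 2 n129239 = n126786 := (sb E84517 F227395)
theorem F322567 : act 4 n129239 = n67744 := (sb E84517 F227396)
theorem F322568 : act 0 n85312 = n83557 := (sb E84518 (iv1 D174943))
theorem F322569 : act 1 n85312 = n83562 := (sb E84518 F273835)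
theorem F322570 : act 0 n167098 = n130477 := (sb E84519 (iv1 F318734))
theorem F322571 : act 1 n167098 = n85759 := (sb E84519 (iv0 D179603))
theorem F322572 : act 4 n167098 = n117901 := (sb E84519 F279706)
theorem F322573 : act 6 n167098 = n117900 := (sb E84519 F279707)
theorem F322574 : act 5 n60873 = n59594 := (sb E84520 (iv5 D126977))
theorem E86760 : n137300 = n129577 := (((D129577).symm.trans (sb E84521 F220450))).symm
theorem E86761 : n140327 = n129550 := ((((iv2 F207682)).symm.trans (sb E84521 (iv2 F223431)))).symm
theorem E86762 : n129579 = n63318 := ((D129579).symm.trans (sb E84521 F204239))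
theorem F322575 : act 7 n60872 = n59594 := (sb E84521 (iv7 D126979))
theorem F322576 : act 0 n54109 = n30998 := (sb E84526 (iv1 D66394))

end Cfsg.Agent.Helper17.ONTC
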