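import Cfsg.Agent.Helper17.ONTC.Facts3

set_option autoImplicit false
set_option linter.all false

noncomputable section

namespace Cfsg.Agent.Helper17.ONTC

theorem F22589 : act 7 n11657 = n11897 := d15_2 F22588 F19585 (iv2 F22575)
theorem F22590 : act 2 n11898 = n11657 := d4_3 F22589 (iv2 F22575) F22586
theorem F22591 : act 5 n13438 = n11657 := d13_3 F22589 F22574 (iv7 F22544)
theorem F22592 : act 5 n11753 = n11976 := d17_7 D13438 F22591 (iv1 F19585) (iv5 D11895) F10107 D11957 F19734 (iv0 D11976) (iv4 F10416)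
theorem F22593 : act 2 n11976 = n11765 := d2_1 F22592 F22584 (iv2 F22583)
theorem F22594 : act 7 n11976 = n11764 := d13_2 (iv7 F22581) F22592 F22576
theorem E2993 : n11977 = n6419 := ((c15_4 F19779 F19775 F22594 (iv2 F22578))).symm
theorem F22595 : act 0 n6419 = n5647 := (sb E2993 (iv1 D11977))
theorem F22596 : act 1 n6419 = n11766 := (sb E2993 F19779)
theorem E2994 : n11661 = n6903 := (c21_11 (iv5 D6903) (iv1 F11098) F11095 F4820 (iv1 F4822) D3106 D6898 F22587 (iv5 D5414) D5415 D11661)
theorem F22597 : act 1 n6903 = n5415 := (sb E2994 (iv0 D11661))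
def n13469 : Q := act 6 n6406
theorem D13469 : act 6 n6406 = n13469 := rfl
theorem F22598 : act 2 n13469 = n6414 := d3_1 D13469 (iv6 D6414) (iv2 F18941)
theorem F22599 : act 3 n13469 = n11794 := d7_1 D13469 (iv6 D11794) F18111
theorem F22600 : act 5 n13469 = n11476 := d21_6 F3544 (iv1 F3531) F3529 D2810 D6406 D13469 (iv1 D11476) (iv5 D5342) (iv6 D2191) D2188
def n13470 : Q := act 5 n6407
theorem D13470 : act 5 n6407 = n13470 := rfl
theorem F22601 : act 2 n13470 = n6418 := d2_1 D13470 (iv5 D6418) (iv2 F18938)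
theorem F22602 : act 7 n13470 = n6413 := d13_2 (iv7 F18939) D13470 (iv5 D6413)
theorem F22603 : act 0 n7057 = n13470 := d21_7 (iv5 F22241) (iv1 F22243) (iv5 D11749) F19329 (iv1 D5493) D5496 (iv5 F11304) (iv5 D13470) (iv6 F22577) (iv1 F19778)
def n13471 : Q := act 0 n6408
theorem D13471 : act 0 n6408 = n13471 := rfl
def n13472 : Q := act 1 n6408
theorem D13472 : act 1 n6408 = n13472 := rfl
theorem F22604 : act 1 n13472 = n6423 := d15_1 D13472 (iv7 D6423) (iv2 F10455)
theorem F22605 : act 5 n11469 = n13472 := d21_6 F3754 (iv1 D2088) (iv5 F1991) D2191 D5340 D11469 (iv1 D13472) (iv5 D6408) (iv6 D2810) (iv1 F2388)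
theorem F22606 : act 0 n11759 = n11469 := d17_0 F22605 (iv1 D13472) (iv5 D6408) F4406 D3087 D6841 (iv5 F11896) (iv0 F22528) (iv4 F19109)
theorem F22607 : act 1 n11752 = n11469 := d15_0 (iv0 F22606) (iv7 D11759) (iv2 F19105)
def n13473 : Q := act 4 n6408
theorem D13473 : act 4 n6408 = n13473 := rfl
theorem F22608 : act 2 n13473 = n6422 := d1_1 D13473 (iv4 D6422) (iv2 F10455)
def n13474 : Q := act 7 n6408
theorem D13474 : act 7 n6408 = n13474 := rfl
theorem F22609 : act 2 n13474 = n6423 := d4_1 D13474 (iv7 D6423) (iv2 F10455)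
theorem F22610 : act 5 n13474 = n6409 := d13_1 D13474 (iv7 D6409) D6408
theorem F22611 : act 1 n6423 = n13471 := d15_0 (iv0 D13471) D13474 F22609
theorem F22612 : act 1 n6421 = n13474 := d15_1 D6421 (iv7 D13474) F10455
theorem F22613 : act 1 n13474 = n6420 := d15_0 (iv0 D6420) D6423 (iv2 F22609)
theorem F22614 : act 5 n6420 = n11757 := d17_7 (iv1 F22597) (iv5 D6903) (iv1 F11098) F11095 (iv4 F10457) (iv5 F22610) F22613 (iv0 D11757) F10113
def n13475 : Q := act 5 n6411
theorem D13475 : act 5 n6411 = n13475 := rfl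
theorem F22615 : act 3 n13475 = n6413 := d6_1 D13475 (iv5 D6413) D6411
def n13476 : Q := act 6 n6411
theorem D13476 : act 6 n6411 = n13476 := rfl
theorem F22616 : act 3 n13476 = n6414 := d7_1 D13476 (iv6 D6414) D6411
def n13477 : Q := act 0 n6412
theorem D13477 : act 0 n6412 = n13477 := rfl
theorem F22617 : act 4 n13477 = n6866 := d20_2 D6412 D13477 (iv3 F11135) (iv1 D3154) (iv3 D1403) (iv4 F4900) (iv1 D754) (iv4 F1463) (iv3 F2389) D2811
theorem F22618 : act 3 n13477 = n11787 := d20_5 F4771 D5380 D11553 (iv3 F18860) D13477 F19161 (iv1 F8487) D5569 F10148 (iv1 F10171)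
theorem F22619 : act 2 n7106 = n13477 := d15_3 (iv0 D13477) (iv0 F10463) (iv7 F11416)
theorem F22620 : act 1 n6417 = n13477 := d15_0 (iv0 D13477) (iv7 F18937) (iv2 F18948)
theorem F22621 : act 7 n13477 = n11767 := d15_2 (iv0 F18104) F22620 F19113
theorem F22622 : act 6 n13477 = n13477 := d14_5 F22621 (iv6 D11767) F8398 D11767 (iv7 F22621)
def n13478 : Q := act 5 n6412
theorem D13478 : act 5 n6412 = n13478 := rfl
def n13479 : Q := act 6 n6412
theorem D13479 : act 6 n6412 = n13479 := rfl
theorem F22623 : act 4 n13479 = n6414 := d10_1 D13479 (iv6 D6414) D6412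
def n13480 : Q := act 0 n6413
theorem D13480 : act 0 n6413 = n13480 := rfl
theorem F22624 : act 5 n13480 = n11752 := d17_3 D2811 D6413 D13480 F19106 F22549 (iv0 D6877) (iv5 D3100) (iv0 D1389) (iv4 F2390)
theorem F22625 : act 0 n11979 = n6414 := d21_4 D11459 F22339 F9867 D11979 (iv6 D6414) D6413 D13480 F22624 (iv6 D11752) F19382
theorem F22626 : act 2 n7057 = n13480 := d15_3 (iv0 D13480) F22562 F20487
theorem F22627 : act 1 n6418 = n13480 := d15_0 (iv0 D13480) (iv7 F22602) F22601
theorem F22628 : act 1 n13463 = n6414 := d15_0 (iv0 F22625) F19783 (iv2 F22420)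
def n13481 : Q := act 4 n6413
theorem D13481 : act 4 n6413 = n13481 := rfl
def n13482 : Q := act 6 n6413
theorem D13482 : act 6 n6413 = n13482 := rfl
def n13483 : Q := act 5 n6414
theorem D13483 : act 5 n6414 = n13483 := rfl
theorem F22629 : act 2 n13483 = n11476 := d2_1 D13483 (iv5 F22600) F22598
theorem F22630 : act 0 n13483 = n11463 := d17_2 F22625 D13483 (iv5 D11463) F8117 D7654 (iv0 F11886) (iv5 D6884) D6883 F22553
theorem F22631 : act 1 n13483 = n11478 := d15_1 (iv0 F22630) (iv7 D11478) (iv2 F18732)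
def n13484 : Q := act 7 n6414
theorem D13484 : act 7 n6414 = n13484 := rfl
theorem F22632 : act 6 n13484 = n11976 := d14_1 D13484 F22594 F22577 F18939 D6414
theorem F22633 : act 5 n11475 = n13484 := d21_8 (iv5 F22335) (iv1 F22340) (iv5 D11459) (iv6 D5338) (iv1 D2189) D2191 D5342 D11475 F22632 (iv1 F19775)
theorem F22634 : act 7 n13483 = n11475 := d13_0 F22633 (iv7 D13484) D13483
def n13485 : Q := act 4 n6416
theorem D13485 : act 4 n6416 = n13485 := rfl
theorem F22635 : act 2 n13485 = n11796 := d1_1 D13485 (iv4 D11796) (iv2 F19156)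
theorem F22636 : act 3 n13485 = n13348 := d5_1 D13485 F22217 (iv3 F18096) (iv4 D6417) D6416
theorem F22637 : act 7 n13485 = n11792 := d11_2 (iv7 F18943) D13485 (iv4 D11792)
theorem F22638 : act 0 n13485 = n6727 := d20_1 D13485 F10972 (iv3 F10970) F19317 F8217 (iv4 D2677) F9982 (iv4 F3661) (iv3 F8443) F18105
theorem F22639 : act 0 n6940 = n13485 := d20_10 (iv4 D13485) (iv1 F18106) F8439 F3669 D5380 D11552 F18861 F19816 (iv4 D11988) (iv3 F11213)
def n13486 : Q := act 5 n6416
theorem D13486 : act 5 n6416 = n13486 := rfl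
theorem F22640 : act 2 n13486 = n11797 := d2_1 D13486 (iv5 D11797) (iv2 F19156)
theorem F22641 : act 3 n13486 = n6418 := d6_1 D13486 (iv5 D6418) D6416
theorem F22642 : act 7 n13486 = n11793 := d13_2 (iv7 F18943) D13486 (iv5 D11793)
def n13487 : Q := act 6 n6416
theorem D13487 : act 6 n6416 = n13487 := rfl
theorem F22643 : act 2 n13487 = n11798 := d3_1 D13487 (iv6 D11798) (iv2 F19156)
theorem F22644 : act 3 n13487 = n6419 := d7_1 D13487 (iv6 D6419) D6416
def n13488 : Q := act 5 n6417
theorem D13488 : act 5 n6417 = n13488 := rfl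
def n13489 : Q := act 6 n6417
theorem D13489 : act 6 n6417 = n13489 := rfl
theorem F22645 : act 3 n13489 = n12005 := d7_1 D13489 F20274 (iv3 F18096)
theorem F22646 : act 4 n13489 = n6419 := d10_1 D13489 (iv6 D6419) D6417
def n13490 : Q := act 4 n6418
theorem D13490 : act 4 n6418 = n13490 := rfl
def n13491 : Q := act 6 n6418
theorem D13491 : act 6 n6418 = n13491 := rfl
def n13492 : Q := act 2 n6420
theorem D13492 : act 2 n6420 = n13492 := rfl
theorem F22647 : act 7 n6421 = n13492 := d15_2 (iv0 D6420) D6421 (iv2 D13492)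
def n13493 : Q := act 3 n6420
theorem D13493 : act 3 n6420 = n13493 := rfl
def n13494 : Q := act 4 n6420
theorem D13494 : act 4 n6420 = n13494 := rfl
def n13495 : Q := act 6 n6420
theorem D13495 : act 6 n6420 = n13495 := rfl
def n13496 : Q := act 7 n6420
theorem D13496 : act 7 n6420 = n13496 := rfl
theorem F22648 : act 2 n13496 = n6421 := d4_1 D13496 F22647 (iv2 D13492)
def n13497 : Q := act 3 n6421
theorem D13497 : act 3 n6421 = n13497 := rfl
def n13498 : Q := act 4 n6421
theorem D13498 : act 4 n6421 = n13498 := rfl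
def n13499 : Q := act 5 n6421
theorem D13499 : act 5 n6421 = n13499 := rfl
theorem F22649 : act 6 n13499 = n11461 := d21_3 (iv5 F22610) (iv1 F22612) D13499 (iv1 F18739) F8122 (iv5 F18753) (iv1 F22631) (iv5 D13483) (iv6 D6414) (iv1 F10461)
def n13500 : Q := act 6 n6421
theorem D13500 : act 6 n6421 = n13500 := rfl
def n13501 : Q := act 0 n6422
theorem D13501 : act 0 n6422 = n13501 := rfl
def n13502 : Q := act 1 n6422
theorem D13502 : act 1 n6422 = n13502 := rfl
def n13503 : Q := act 3 n6422
theorem D13503 : act 3 n6422 = n13503 := rfl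
theorem F22650 : act 4 n13503 = n6428 := d5_2 D6422 D13503 (iv3 D6428) (iv4 D2827) (iv3 F4407)
def n13504 : Q := act 5 n6422
theorem D13504 : act 5 n6422 = n13504 := rfl
def n13505 : Q := act 7 n6422
theorem D13505 : act 7 n6422 = n13505 := rfl
theorem F22651 : act 4 n13505 = n6423 := d11_1 D13505 (iv7 D6423) D6422
def n13506 : Q := act 6 n6423
theorem D13506 : act 6 n6423 = n13506 := rfl
theorem F22652 : act 3 n13506 = n6431 := d7_1 D13506 (iv6 D6431) (iv3 F10465)
theorem F22653 : act 5 n13506 = n13506 := d12_1 D13506 (iv6 D13506) F10466 F4410 (iv5 F10466)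
def n13507 : Q := act 6 n6424
theorem D13507 : act 6 n6424 = n13507 := rfl
theorem F22654 : act 2 n13507 = n11823 := d3_1 D13507 (iv6 D11823) (iv2 F11491)
theorem F22655 : act 3 n13507 = n6425 := d7_1 D13507 (iv6 D6425) D6424
def n13508 : Q := act 0 n6425
theorem D13508 : act 0 n6425 = n13508 := rfl
def n13509 : Q := act 1 n6425
theorem D13509 : act 1 n6425 = n13509 := rfl
def n13510 : Q := act 5 n6425
theorem D13510 : act 5 n6425 = n13510 := rfl
theorem F22656 : act 6 n13510 = n6645 := d12_2 D6425 D13510 F10780 F8387 F8382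
theorem F22657 : act 0 n13510 = n6654 := d21_4 (iv5 F8651) (iv1 F8653) (iv5 F10780) (iv6 F22656) (iv6 D6654) (iv5 D2984) (iv1 D1342) D1343 F2464 D2913
def n13511 : Q := act 7 n6425
theorem D13511 : act 7 n6425 = n13511 := rfl
def n13512 : Q := act 2 n6426
theorem D13512 : act 2 n6426 = n13512 := rfl
theorem F22658 : act 3 n13512 = n11386 := d0_2 D6426 D13512 F18612 F11489 F7593
theorem F22659 : act 5 n13512 = n11385 := d2_2 (iv5 F11970) D13512 F18609
theorem F22660 : act 7 n13512 = n11821 := d4_2 F18118 D13512 F19195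
theorem F22661 : act 1 n13512 = n7040 := d15_0 (iv0 F22225) F18118 D13512
theorem F22662 : act 1 n6516 = n13512 := d15_0 F22661 (iv7 F19373) (iv2 F10581)
def n13513 : Q := act 4 n6426
theorem D13513 : act 4 n6426 = n13513 := rfl
def n13514 : Q := act 6 n6426
theorem D13514 : act 6 n6426 = n13514 := rfl
theorem F22663 : act 3 n13514 = n6427 := d7_1 D13514 (iv6 D6427) D6426
def n13515 : Q := act 0 n6427
theorem D13515 : act 0 n6427 = n13515 := rfl
def n13516 : Q := act 1 n6427
theorem D13516 : act 1 n6427 = n13516 := rfl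
def n13517 : Q := act 7 n6427
theorem D13517 : act 7 n6427 = n13517 := rfl
def n13518 : Q := act 0 n6428
theorem D13518 : act 0 n6428 = n13518 := rfl
def n13519 : Q := act 1 n6428
theorem D13519 : act 1 n6428 = n13519 := rfl
def n13520 : Q := act 2 n6428
theorem D13520 : act 2 n6428 = n13520 := rfl
def n13521 : Q := act 5 n6428
theorem D13521 : act 5 n6428 = n13521 := rfl
theorem F22664 : act 3 n13521 = n6429 := d6_1 D13521 (iv5 D6429) D6428
def n13522 : Q := act 7 n6428
theorem D13522 : act 7 n6428 = n13522 := rfl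
theorem F22665 : act 3 n13522 = n6430 := d8_1 D13522 (iv7 D6430) D6428
def n13523 : Q := act 6 n6429
theorem D13523 : act 6 n6429 = n13523 := rfl
def n13524 : Q := act 6 n6430
theorem D13524 : act 6 n6430 = n13524 := rfl
theorem F22666 : act 4 n13524 = n6431 := d10_1 D13524 (iv6 D6431) (iv4 F10470)
def n13525 : Q := act 0 n6431
theorem D13525 : act 0 n6431 = n13525 := rfl
theorem F22667 : act 1 n11495 = n13525 := d15_0 (iv0 D13525) (iv7 F18675) (iv2 F18791)
def n13526 : Q := act 1 n6431
theorem D13526 : act 1 n6431 = n13526 := rfl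
theorem F22668 : act 1 n13526 = n11495 := d15_1 D13526 F18793 F18126
def n13527 : Q := act 4 n6432
theorem D13527 : act 4 n6432 = n13527 := rfl
theorem F22669 : act 2 n13527 = n11387 := d1_1 D13527 (iv4 D11387) F10478
theorem F22670 : act 6 n13527 = n13441 := d10_2 F10476 D13527 (iv4 D13441)
theorem F22671 : act 7 n13527 = n12099 := d11_2 F11396 D13527 F20019
theorem F22672 : act 0 n13527 = n6445 := d18_2 D6432 D13527 (iv4 D6445) (iv5 D2859) D2858 F10156 F4320 (iv0 F9936) D2839
theorem F22673 : act 1 n13527 = n11115 := d18_6 (iv1 F8696) F11429 (iv1 D7113) (iv4 F10206) (iv5 F10474) D13527 (iv4 D11115) F10508 F10506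
def n13528 : Q := act 4 n6433
theorem D13528 : act 4 n6433 = n13528 := rfl
theorem F22674 : act 2 n13528 = n12099 := d1_1 D13528 F20019 (iv2 F11397)
theorem F22675 : act 6 n13528 = n12161 := d10_2 (iv6 F18201) D13528 (iv4 F20117)
theorem F22676 : act 7 n13528 = n11387 := d11_2 (iv7 F10480) D13528 (iv4 D11387)
theorem F22677 : act 0 n13528 = n11115 := d18_2 (iv1 F10479) D13528 (iv4 D11115) (iv5 D5081) D5080 F10162 F3448 D2120 D5158
theorem F22678 : act 1 n13528 = n6445 := d18_6 D5545 (iv4 F11426) (iv1 F18608) F18606 F10482 D13528 (iv4 D6445) (iv0 F10011) F10014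
def n13529 : Q := act 3 n6434
theorem D13529 : act 3 n6434 = n13529 := rfl
theorem F22679 : act 4 n13529 = n6439 := d5_2 D6434 D13529 (iv3 D6439) (iv4 D2849) (iv3 F4422)
def n13530 : Q := act 6 n6434
theorem D13530 : act 6 n6434 = n13530 := rfl
theorem F22680 : act 4 n13530 = n6435 := d10_1 D13530 (iv6 D6435) D6434
def n13531 : Q := act 1 n6435
theorem D13531 : act 1 n6435 = n13531 := rfl
theorem F22681 : act 1 n13531 = n11296 := d15_1 D13531 F18430 F18187
theorem F22682 : act 5 n11231 = n13531 := d21_0 (iv1 D13531) (iv5 F18350) (iv6 D11269) (iv1 D5197) F4128 F4124 (iv1 F2706) (iv5 F3467) D5166 D11231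
theorem F22683 : act 3 n13531 = n13531 := d6_1 F22682 (iv5 F22682) F20140
def n13532 : Q := act 4 n6437
theorem D13532 : act 4 n6437 = n13532 := rfl
theorem F22684 : act 2 n13532 = n11375 := d1_1 D13532 F18576 (iv2 F10491)
theorem F22685 : act 6 n13532 = n11251 := d10_2 F10490 D13532 (iv4 D11251)
theorem F22686 : act 7 n13532 = n12023 := d11_2 (iv7 F10489) D13532 F19887
theorem F22687 : act 0 n13532 = n11114 := d17_0 F18022 (iv1 D6636) (iv5 D2974) F2461 D2135 D5197 F9966 D6437 D13532
theorem F22688 : act 0 n12097 = n13532 := d20_1 (iv4 F20010) (iv4 D13532) F10492 (iv1 D6437) F4423 F4907 (iv1 F4944) F4715 (iv3 F4710) F10019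
def n13533 : Q := act 0 n6439
theorem D13533 : act 0 n6439 = n13533 := rfl
def n13534 : Q := act 1 n6439
theorem D13534 : act 1 n6439 = n13534 := rfl
def n13535 : Q := act 2 n6439
theorem D13535 : act 2 n6439 = n13535 := rfl
def n13536 : Q := act 6 n6439
theorem D13536 : act 6 n6439 = n13536 := rfl
theorem F22689 : act 3 n13536 = n6440 := d7_1 D13536 (iv6 D6440) D6439
def n13537 : Q := act 5 n6440
theorem D13537 : act 5 n6440 = n13537 := rfl
theorem F22690 : act 0 n13537 = n12578 := d17_2 (iv1 F18132) D13537 (iv5 D12578) (iv4 D5977) F9083 F9082 (iv5 D3236) D3235 D7095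
theorem F22691 : act 1 n13537 = n12580 := d17_6 (iv1 F5545) (iv5 F9455) (iv1 F9457) F8098 (iv4 F10498) D13537 (iv5 D12580) F12680 F5416
def n13538 : Q := act 0 n6442
theorem D13538 : act 0 n6442 = n13538 := rfl
theorem F22692 : act 5 n13538 = n11384 := d17_3 (iv1 F10156) D6442 D13538 F18606 F10482 F10479 (iv5 D5158) F3449 (iv4 F4320)
theorem F22693 : act 2 n11730 = n13538 := d15_3 (iv0 D13538) (iv0 F11434) (iv7 F19078)
theorem F22694 : act 1 n11113 = n13538 := d15_0 (iv0 D13538) F10502 (iv2 F18017)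
theorem F22695 : act 7 n13538 = n11383 := d15_2 (iv0 F18019) F22694 F18602
def n13539 : Q := act 4 n6442
theorem D13539 : act 4 n6442 = n13539 := rfl
theorem F22696 : act 2 n13539 = n12106 := d1_1 D13539 (iv4 D12106) (iv2 F10501)
theorem F22697 : act 7 n13539 = n12095 := d11_2 (iv7 F10502) D13539 (iv4 D12095)
def n13540 : Q := act 6 n6442
theorem D13540 : act 6 n6442 = n13540 := rfl
theorem F22698 : act 2 n13540 = n12107 := d3_1 D13540 (iv6 D12107) (iv2 F10501)
def n13541 : Q := act 4 n6444
theorem D13541 : act 4 n6444 = n13541 := rfl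
theorem F22699 : act 2 n13541 = n12098 := d1_1 D13541 (iv4 D12098) F10507
theorem F22700 : act 6 n13541 = n8179 := d10_2 F10510 D13541 (iv4 D8179)
theorem F22701 : act 7 n13541 = n11987 := d11_2 (iv7 F10509) D13541 (iv4 D11987)
theorem F22702 : act 0 n13541 = n11204 := d18_2 D6444 D13541 (iv4 D11204) (iv5 D5133) (iv4 F9901) (iv0 D5076) F3390 F4912 D2859
theorem F22703 : act 1 n13541 = n11172 := d18_6 D5283 (iv4 F18529) (iv1 F19808) F19805 (iv5 F10506) D13541 (iv4 D11172) F10211 (iv5 D5285)
def n13542 : Q := act 3 n6445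
theorem D13542 : act 3 n6445 = n13542 := rfl
theorem F22704 : act 4 n13542 = n6446 := d5_2 D6445 D13542 (iv3 D6446) (iv4 D2864) (iv3 F4463)
theorem F22705 : act 7 n13542 = n12100 := d8_2 (iv7 F10512) D13542 (iv3 D12100)
def n13543 : Q := act 5 n6445
theorem D13543 : act 5 n6445 = n13543 := rfl
theorem F22706 : act 2 n13543 = n12109 := d2_1 D13543 (iv5 D12109) (iv2 F10511)
theorem F22707 : act 7 n13543 = n12101 := d13_2 (iv7 F10512) D13543 (iv5 D12101)
theorem F22708 : act 0 n13543 = n11224 := d17_2 F22672 D13543 (iv5 D11224) (iv4 D5162) (iv5 D2121) D2120 D5158 F10475 D13527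
def n13544 : Q := act 0 n6446
theorem D13544 : act 0 n6446 = n13544 := rfl
def n13545 : Q := act 1 n6446
theorem D13545 : act 1 n6446 = n13545 := rfl
def n13546 : Q := act 2 n6446
theorem D13546 : act 2 n6446 = n13546 := rfl
def n13547 : Q := act 0 n6447
theorem D13547 : act 0 n6447 = n13547 := rfl
theorem F22709 : act 6 n13547 = n7402 := d21_5 (iv5 D5285) D5283 (iv5 F10327) D6447 D13547 (iv5 F12661) F18431 F18429 (iv6 D11205) F7832
theorem F22710 : act 3 n7405 = n13547 := d7_3 F22709 (iv3 D7402) D7405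
def n13548 : Q := act 1 n6447
theorem D13548 : act 1 n6447 = n13548 := rfl
def n13549 : Q := act 7 n6447
theorem D13549 : act 7 n6447 = n13549 := rfl
theorem F22711 : act 3 n13549 = n6450 := d8_1 D13549 (iv7 D6450) (iv3 F10513)
theorem F22712 : act 5 n13549 = n12836 := d13_1 D13549 F21293 (iv5 F12491)
def n13550 : Q := act 5 n6451
theorem D13550 : act 5 n6451 = n13550 := rfl
theorem F22713 : act 2 n13550 = n12117 := d2_1 D13550 (iv5 D12117) (iv2 F10517)
theorem F22714 : act 7 n13550 = n12111 := d13_2 (iv7 F10518) D13550 (iv5 D12111)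
def n13551 : Q := act 6 n6451
theorem D13551 : act 6 n6451 = n13551 := rfl
theorem F22715 : act 2 n13551 = n12118 := d3_1 D13551 (iv6 D12118) (iv2 F10517)
theorem F22716 : act 4 n13551 = n6452 := d10_1 D13551 (iv6 D6452) D6451
def n13552 : Q := act 7 n6452
theorem D13552 : act 7 n6452 = n13552 := rfl
theorem F22717 : act 2 n13552 = n12120 := d4_1 D13552 (iv7 D12120) (iv2 F10520)
theorem F22718 : act 3 n13552 = n6453 := d8_1 D13552 (iv7 D6453) (iv3 F10521)
theorem F22719 : act 6 n13552 = n12115 := d14_1 D13552 (iv7 D12115) (iv6 D5745) (iv7 F7890) D6452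
theorem F22720 : act 1 n8180 = n13552 := d15_1 (iv0 F12953) (iv7 D13552) F10520
theorem F22721 : act 1 n13552 = n12119 := d15_1 F22720 F20050 (iv2 F12949)
def n13553 : Q := act 0 n6454
theorem D13553 : act 0 n6454 = n13553 := rfl
theorem F22722 : act 2 n6458 = n13553 := d15_3 (iv0 D13553) (iv0 D6454) D6458
theorem F22723 : act 4 n13553 = n7189 := d1_2 (iv4 F10528) F22722 (iv2 F11516)
theorem F22724 : act 7 n13553 = n6456 := d4_2 D6458 F22722 (iv2 D6456)
theorem F22725 : act 1 n6455 = n13553 := d15_1 D6455 F22724 (iv2 D6456)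
def n13554 : Q := act 2 n6454
theorem D13554 : act 2 n6454 = n13554 := rfl
theorem F22726 : act 7 n6455 = n13554 := d15_2 (iv0 D6454) D6455 (iv2 D13554)
def n13555 : Q := act 3 n6454
theorem D13555 : act 3 n6454 = n13555 := rfl
def n13556 : Q := act 4 n6454
theorem D13556 : act 4 n6454 = n13556 := rfl
def n13557 : Q := act 5 n6454
theorem D13557 : act 5 n6454 = n13557 := rfl
def n13558 : Q := act 6 n6454
theorem D13558 : act 6 n6454 = n13558 := rfl
def n13559 : Q := act 7 n6454
theorem D13559 : act 7 n6454 = n13559 := rfl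
theorem F22727 : act 2 n13559 = n6455 := d4_1 D13559 F22726 (iv2 D13554)
def n13560 : Q := act 3 n6455
theorem D13560 : act 3 n6455 = n13560 := rfl
def n13561 : Q := act 4 n6455
theorem D13561 : act 4 n6455 = n13561 := rfl
def n13562 : Q := act 5 n6455
theorem D13562 : act 5 n6455 = n13562 := rfl
def n13563 : Q := act 6 n6455
theorem D13563 : act 6 n6455 = n13563 := rfl
def n13564 : Q := act 0 n6456
theorem D13564 : act 0 n6456 = n13564 := rfl
theorem F22728 : act 1 n6458 = n13564 := d15_0 (iv0 D13564) (iv7 F22724) (iv2 F22722)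
def n13565 : Q := act 1 n6456
theorem D13565 : act 1 n6456 = n13565 := rfl
theorem F22729 : act 1 n13565 = n6458 := d15_1 D13565 (iv7 D6458) D6456
def n13566 : Q := act 5 n6456
theorem D13566 : act 5 n6456 = n13566 := rfl
theorem F22730 : act 2 n13566 = n6457 := d2_1 D13566 (iv5 D6457) D6456
def n13567 : Q := act 0 n6457
theorem D13567 : act 0 n6457 = n13567 := rfl
def n13568 : Q := act 1 n6457
theorem D13568 : act 1 n6457 = n13568 := rfl
def n13569 : Q := act 4 n6457
theorem D13569 : act 4 n6457 = n13569 := rfl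
def n13570 : Q := act 6 n6457
theorem D13570 : act 6 n6457 = n13570 := rfl
theorem F22731 : act 3 n13570 = n6460 := d7_1 D13570 (iv6 D6460) (iv3 F10526)
theorem F22732 : act 5 n13570 = n6491 := d12_1 D13570 (iv6 D6491) (iv5 D2887) (iv6 F4469) D6457
def n13571 : Q := act 7 n6457
theorem D13571 : act 7 n6457 = n13571 := rfl
theorem F22733 : act 3 n13571 = n6461 := d8_1 D13571 (iv7 D6461) (iv3 F10526)
theorem F22734 : act 5 n13571 = n6458 := d13_1 D13571 (iv7 D6458) D6457
def n13572 : Q := act 6 n6458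
theorem D13572 : act 6 n6458 = n13572 := rfl
theorem F22735 : act 3 n13572 = n6462 := d7_1 D13572 (iv6 D6462) (iv3 F10527)
theorem F22736 : act 4 n13572 = n7208 := d10_1 D13572 (iv6 D7208) (iv4 F10528)
theorem F22737 : act 7 n13572 = n6493 := d14_2 D6458 D13572 (iv6 D6493) (iv7 D2888) (iv6 F4469)
def n13573 : Q := act 3 n6459
theorem D13573 : act 3 n6459 = n13573 := rfl
def n13574 : Q := act 6 n6459
theorem D13574 : act 6 n6459 = n13574 := rfl
theorem F22738 : act 4 n13574 = n6460 := d10_1 D13574 (iv6 D6460) D6459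
def n13575 : Q := act 0 n6460
theorem D13575 : act 0 n6460 = n13575 := rfl
def n13576 : Q := act 1 n6460
theorem D13576 : act 1 n6460 = n13576 := rfl
def n13577 : Q := act 7 n6460
theorem D13577 : act 7 n6460 = n13577 := rfl
theorem F22739 : act 5 n13577 = n6496 := d13_1 D13577 (iv7 D6496) (iv5 F10529)
def n13578 : Q := act 6 n6461
theorem D13578 : act 6 n6461 = n13578 := rfl
def n13579 : Q := act 5 n6462
theorem D13579 : act 5 n6462 = n13579 := rfl
theorem F22740 : act 7 n13579 = n6500 := d13_2 (iv7 F10534) D13579 (iv5 D6500)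
def n13580 : Q := act 6 n6463
theorem D13580 : act 6 n6463 = n13580 := rfl
theorem F22741 : act 2 n13580 = n12175 := d3_1 D13580 (iv6 D12175) (iv2 F10535)
def n13581 : Q := act 0 n6464
theorem D13581 : act 0 n6464 = n13581 := rfl
theorem F22742 : act 4 n13581 = n11231 := d20_2 (iv4 F10538) D13581 F20140 F18258 F12070 (iv4 F9323) (iv1 F11595) (iv4 D3409) D3408 F12610
theorem F22743 : act 2 n12176 = n13581 := d1_3 F22742 (iv2 F20139) (iv4 F20175)
theorem F22744 : act 7 n12177 = n13581 := d15_2 (iv0 D12176) D12177 (iv2 F22743)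
theorem F22745 : act 4 n7765 = n12177 := d11_3 F22744 F22742 F20141
theorem F22746 : act 0 n13581 = n12179 := d20_7 F22745 (iv1 D12177) F8893 (iv3 F7687) D11231 F20140 (iv4 F22742) F20176 (iv3 F18260) (iv1 F18263)
def n13582 : Q := act 1 n6464
theorem D13582 : act 1 n6464 = n13582 := rfl
theorem F22747 : act 1 n13582 = n12179 := d15_1 D13582 (iv7 D12179) (iv2 F10537)
theorem F22748 : act 7 n13582 = n12176 := d15_2 (iv0 D13581) D13582 F22743
theorem F22749 : act 4 n7402 = n13582 := d20_0 (iv1 D13582) F10538 F4478 D2881 (iv3 F12603) D3406 F11596 F9323 (iv3 F12070) F12659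
theorem F22750 : act 2 n13582 = n12177 := d1_1 F22749 (iv4 F22745) (iv2 F20138)
def n13583 : Q := act 5 n6464
theorem D13583 : act 5 n6464 = n13583 := rfl
theorem F22751 : act 2 n13583 = n12178 := d2_1 D13583 (iv5 D12178) (iv2 F10537)
def n13584 : Q := act 7 n6464
theorem D13584 : act 7 n6464 = n13584 := rfl
theorem F22752 : act 2 n13584 = n12179 := d4_1 D13584 (iv7 D12179) (iv2 F10537)
theorem F22753 : act 4 n13584 = n6467 := d11_1 D13584 (iv7 D6467) (iv4 F10538)
theorem F22754 : act 6 n13584 = n12019 := d14_1 D13584 (iv7 D12019) F8739 (iv7 F4475) D6464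
theorem F22755 : act 1 n12177 = n13584 := d15_1 D12177 (iv7 D13584) F10537
theorem F22756 : act 1 n13584 = n12176 := d15_1 F22755 (iv7 F22748) F22750
def n13585 : Q := act 4 n6465
theorem D13585 : act 4 n6465 = n13585 := rfl
theorem F22757 : act 2 n13585 = n12180 := d1_1 D13585 (iv4 D12180) F12674
theorem F22758 : act 7 n13585 = n12181 := d11_2 F12672 D13585 (iv4 D12181)
theorem F22759 : act 0 n13585 = n12192 := d20_1 D13585 F20191 F18260 F12611 (iv3 D3408) D3409 F11594 F2622 (iv3 F4478) D6465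
theorem F22760 : act 0 n7763 = n13585 := d20_1 (iv4 F12069) (iv4 D13585) (iv3 F12075) (iv1 F5549) (iv3 F10541) (iv4 F22753) (iv1 F22755) (iv4 F22745) F20142 (iv1 D7765)
def n13586 : Q := act 5 n6465
theorem D13586 : act 5 n6465 = n13586 := rfl
theorem F22761 : act 2 n13586 = n12103 := d2_1 D13586 (iv5 F20026) F12674
theorem F22762 : act 3 n13586 = n7768 := d6_1 D13586 (iv5 D7768) F12075
theorem F22763 : act 7 n13586 = n7956 := d13_2 F12672 D13586 F12669
theorem F22764 : act 0 n13586 = n11116 := d21_1 D13586 (iv5 F19124) (iv6 D11771) (iv1 D5511) F3640 (iv5 D1185) D1184 (iv5 F2420) D2880 D6465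
theorem F22765 : act 0 n11392 = n13586 := d21_10 (iv5 D13586) (iv1 F10544) F8894 F8895 (iv1 F10001) D6701 F10919 (iv1 D5736) F7905 D11392
def n13587 : Q := act 5 n6474
theorem D13587 : act 5 n6474 = n13587 := rfl
theorem F22766 : act 2 n13587 = n6492 := d2_1 D13587 F10560 F10549
theorem F22767 : act 3 n13587 = n8899 := d6_1 D13587 F13868 F12433
theorem F22768 : act 7 n13587 = n6487 := d13_2 (iv7 F10551) D13587 (iv5 D6487)
theorem F22769 : act 1 n6489 = n13587 := d15_1 D6489 F22768 F10557
theorem F22770 : act 1 n13587 = n6488 := d15_0 (iv0 D6488) D6492 (iv2 F22766)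
def n13588 : Q := act 6 n6474
theorem D13588 : act 6 n6474 = n13588 := rfl
theorem F22771 : act 2 n13588 = n6493 := d3_1 D13588 (iv6 D6493) F10549
theorem F22772 : act 4 n13588 = n7519 := d10_1 D13588 (iv6 D7519) (iv4 F10550)
def n13589 : Q := act 0 n6475
theorem D13589 : act 0 n6475 = n13589 := rfl
theorem F22773 : act 1 n6480 = n13589 := d15_0 (iv0 D13589) (iv7 F10553) (iv2 F10554)
def n13590 : Q := act 1 n6475
theorem D13590 : act 1 n6475 = n13590 := rfl
theorem F22774 : act 1 n13590 = n6480 := d15_1 D13590 (iv7 D6480) D6475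
def n13591 : Q := act 3 n6475
theorem D13591 : act 3 n6475 = n13591 := rfl
theorem F22775 : act 7 n13591 = n6481 := d8_2 F10553 D13591 (iv3 D6481)
def n13592 : Q := act 4 n6475
theorem D13592 : act 4 n6475 = n13592 := rfl
theorem F22776 : act 2 n13592 = n6477 := d1_1 D13592 (iv4 D6477) D6475
theorem F22777 : act 7 n13592 = n6482 := d11_2 F10553 D13592 (iv4 D6482)
def n13593 : Q := act 5 n6475
theorem D13593 : act 5 n6475 = n13593 := rfl
theorem F22778 : act 2 n13593 = n6478 := d2_1 D13593 (iv5 D6478) D6475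
theorem F22779 : act 7 n13593 = n6483 := d13_2 F10553 D13593 (iv5 D6483)
def n13594 : Q := act 6 n6475
theorem D13594 : act 6 n6475 = n13594 := rfl
theorem F22780 : act 2 n13594 = n6479 := d3_1 D13594 (iv6 D6479) D6475
def n13595 : Q := act 0 n6476
theorem D13595 : act 0 n6476 = n13595 := rfl
def n13596 : Q := act 1 n6476
theorem D13596 : act 1 n6476 = n13596 := rfl
def n13597 : Q := act 2 n6476
theorem D13597 : act 2 n6476 = n13597 := rfl
def n13598 : Q := act 5 n6476
theorem D13598 : act 5 n6476 = n13598 := rfl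
theorem F22781 : act 3 n13598 = n6478 := d6_1 D13598 (iv5 D6478) D6476
def n13599 : Q := act 6 n6476
theorem D13599 : act 6 n6476 = n13599 := rfl
theorem F22782 : act 3 n13599 = n6479 := d7_1 D13599 (iv6 D6479) D6476
def n13600 : Q := act 7 n6476
theorem D13600 : act 7 n6476 = n13600 := rfl
theorem F22783 : act 3 n13600 = n6480 := d8_1 D13600 (iv7 D6480) D6476
def n13601 : Q := act 0 n6477
theorem D13601 : act 0 n6477 = n13601 := rfl
theorem F22784 : act 4 n13601 = n7492 := d20_2 D6477 D13601 (iv3 D7492) (iv1 D3421) (iv3 D1506) (iv4 F1610) (iv1 D758) D759 D1311 D2884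
def n13602 : Q := act 1 n6477
theorem D13602 : act 1 n6477 = n13602 := rfl
theorem F22785 : act 1 n13602 = n6482 := d15_1 D13602 (iv7 F22777) F22776
def n13603 : Q := act 3 n6477
theorem D13603 : act 3 n6477 = n13603 := rfl
theorem F22786 : act 0 n13603 = n7365 := d20_4 (iv4 F2425) D2884 D6477 D13603 (iv3 D7365) D7366 (iv1 F11807) F11808 (iv3 D3438) (iv1 D1510)
def n13604 : Q := act 5 n6477
theorem D13604 : act 5 n6477 = n13604 := rfl
def n13605 : Q := act 6 n6477
theorem D13605 : act 6 n6477 = n13605 := rfl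
theorem F22787 : act 4 n13605 = n6479 := d10_1 D13605 (iv6 D6479) D6477
def n13606 : Q := act 7 n6477
theorem D13606 : act 7 n6477 = n13606 := rfl
theorem F22788 : act 2 n13606 = n6482 := d4_1 D13606 (iv7 F22777) F22776
theorem F22789 : act 4 n13606 = n6480 := d11_1 D13606 (iv7 D6480) D6477
theorem F22790 : act 1 n6482 = n13601 := d15_0 (iv0 D13601) D13606 F22788
def n13607 : Q := act 0 n6478
theorem D13607 : act 0 n6478 = n13607 := rfl
def n13608 : Q := act 1 n6478
theorem D13608 : act 1 n6478 = n13608 := rfl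
theorem F22791 : act 1 n13608 = n6483 := d15_1 D13608 (iv7 F22779) F22778
def n13609 : Q := act 4 n6478
theorem D13609 : act 4 n6478 = n13609 := rfl
def n13610 : Q := act 6 n6478
theorem D13610 : act 6 n6478 = n13610 := rfl
def n13611 : Q := act 7 n6478
theorem D13611 : act 7 n6478 = n13611 := rfl
theorem F22792 : act 2 n13611 = n6483 := d4_1 D13611 (iv7 F22779) F22778
theorem F22793 : act 5 n13611 = n6480 := d13_1 D13611 (iv7 D6480) D6478
theorem F22794 : act 1 n6483 = n13607 := d15_0 (iv0 D13607) D13611 F22792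
def n13612 : Q := act 0 n6479
theorem D13612 : act 0 n6479 = n13612 := rfl
def n13613 : Q := act 1 n6479
theorem D13613 : act 1 n6479 = n13613 := rfl
def n13614 : Q := act 5 n6479
theorem D13614 : act 5 n6479 = n13614 := rfl
def n13615 : Q := act 7 n6479
theorem D13615 : act 7 n6479 = n13615 := rfl
def n13616 : Q := act 6 n6480
theorem D13616 : act 6 n6480 = n13616 := rfl
theorem F22795 : act 2 n13616 = n6484 := d3_1 D13616 (iv6 D6484) (iv2 F10554)
def n13617 : Q := act 0 n6481
theorem D13617 : act 0 n6481 = n13617 := rfl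
theorem F22796 : act 4 n13617 = n12619 := d20_0 (iv1 F21013) (iv4 D7465) (iv3 F9291) (iv1 F9295) D7492 (iv4 F22784) (iv1 F22790) (iv4 D6482) D6481 D13617
def n13618 : Q := act 1 n6481
theorem D13618 : act 1 n6481 = n13618 := rfl
def n13619 : Q := act 2 n6481
theorem D13619 : act 2 n6481 = n13619 := rfl
def n13620 : Q := act 4 n6481
theorem D13620 : act 4 n6481 = n13620 := rfl
theorem F22797 : act 0 n7457 = n13620 := d20_1 D7457 (iv4 D13620) (iv3 D6481) (iv1 D2885) (iv3 D1311) (iv4 D759) D757 (iv4 F1528) D1503 D3411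
def n13621 : Q := act 5 n6481
theorem D13621 : act 5 n6481 = n13621 := rfl
theorem F22798 : act 3 n13621 = n6483 := d6_1 D13621 (iv5 D6483) D6481
def n13622 : Q := act 6 n6481
theorem D13622 : act 6 n6481 = n13622 := rfl
theorem F22799 : act 3 n13622 = n6484 := d7_1 D13622 (iv6 D6484) D6481
def n13623 : Q := act 5 n6482
theorem D13623 : act 5 n6482 = n13623 := rfl
def n13624 : Q := act 6 n6482
theorem D13624 : act 6 n6482 = n13624 := rfl
theorem F22800 : act 4 n13624 = n6484 := d10_1 D13624 (iv6 D6484) D6482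
def n13625 : Q := act 4 n6483
theorem D13625 : act 4 n6483 = n13625 := rfl
def n13626 : Q := act 6 n6483
theorem D13626 : act 6 n6483 = n13626 := rfl
def n13627 : Q := act 0 n6484
theorem D13627 : act 0 n6484 = n13627 := rfl
def n13628 : Q := act 1 n6484
theorem D13628 : act 1 n6484 = n13628 := rfl
def n13629 : Q := act 5 n6484
theorem D13629 : act 5 n6484 = n13629 := rfl
def n13630 : Q := act 7 n6484
theorem D13630 : act 7 n6484 = n13630 := rfl
def n13632 : Q := act 3 n6485
theorem D13632 : act 3 n6485 = n13632 := rfl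
def n13633 : Q := act 5 n6485
theorem D13633 : act 5 n6485 = n13633 := rfl
def n13634 : Q := act 6 n6485
theorem D13634 : act 6 n6485 = n13634 := rfl
def n13635 : Q := act 7 n6485
theorem D13635 : act 7 n6485 = n13635 := rfl
def n13636 : Q := act 4 n6486
theorem D13636 : act 4 n6486 = n13636 := rfl
def n13637 : Q := act 5 n6486
theorem D13637 : act 5 n6486 = n13637 := rfl
def n13639 : Q := act 0 n6487
theorem D13639 : act 0 n6487 = n13639 := rfl
theorem F22803 : act 1 n6492 = n13639 := d15_0 (iv0 D13639) (iv7 F22768) F22766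
def n13640 : Q := act 1 n6487
theorem D13640 : act 1 n6487 = n13640 := rfl
theorem F22804 : act 1 n13640 = n6492 := d15_1 D13640 (iv7 D6492) (iv2 F10557)
def n13641 : Q := act 4 n6487
theorem D13641 : act 4 n6487 = n13641 := rfl
theorem F22805 : act 2 n13641 = n6490 := d1_1 D13641 (iv4 D6490) (iv2 F10557)
def n13642 : Q := act 6 n6487
theorem D13642 : act 6 n6487 = n13642 := rfl
theorem F22806 : act 2 n13642 = n6491 := d3_1 D13642 (iv6 D6491) (iv2 F10557)
def n13643 : Q := act 2 n6488
theorem D13643 : act 2 n6488 = n13643 := rfl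
theorem F22807 : act 7 n6489 = n13643 := d15_2 (iv0 D6488) D6489 (iv2 D13643)
def n13644 : Q := act 3 n6488
theorem D13644 : act 3 n6488 = n13644 := rfl
theorem F22808 : act 4 n13644 = n8651 := d20_6 F2630 D1601 F2781 (iv3 F4483) D6488 D13644 (iv1 D8651) F5846 (iv3 D1691) (iv1 F2628)
def n13645 : Q := act 4 n6488
theorem D13645 : act 4 n6488 = n13645 := rfl
def n13646 : Q := act 5 n6488
theorem D13646 : act 5 n6488 = n13646 := rfl
def n13647 : Q := act 6 n6488
theorem D13647 : act 6 n6488 = n13647 := rfl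
def n13648 : Q := act 7 n6488
theorem D13648 : act 7 n6488 = n13648 := rfl
theorem F22809 : act 2 n13648 = n6489 := d4_1 D13648 F22807 (iv2 D13643)
def n13649 : Q := act 3 n6489
theorem D13649 : act 3 n6489 = n13649 := rfl
def n13650 : Q := act 4 n6489
theorem D13650 : act 4 n6489 = n13650 := rfl
def n13651 : Q := act 5 n6489
theorem D13651 : act 5 n6489 = n13651 := rfl
def n13652 : Q := act 6 n6489
theorem D13652 : act 6 n6489 = n13652 := rfl
def n13653 : Q := act 0 n6490
theorem D13653 : act 0 n6490 = n13653 := rfl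
def n13654 : Q := act 1 n6490
theorem D13654 : act 1 n6490 = n13654 := rfl
theorem F22810 : act 4 n13249 = n13654 := d20_6 F3961 (iv1 D1231) D1232 D2639 D6292 D13249 (iv1 D13654) (iv4 D6490) F4483 (iv1 F3963)
def n13655 : Q := act 5 n6490
theorem D13655 : act 5 n6490 = n13655 := rfl
def n13656 : Q := act 6 n6490
theorem D13656 : act 6 n6490 = n13656 := rfl
theorem F22811 : act 4 n13656 = n6491 := d10_1 D13656 (iv6 D6491) D6490
def n13657 : Q := act 7 n6490
theorem D13657 : act 7 n6490 = n13657 := rfl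
theorem F22812 : act 3 n13657 = n8848 := d8_1 D13657 F13773 F12873
theorem F22813 : act 4 n13657 = n6492 := d11_1 D13657 (iv7 D6492) D6490
def n13658 : Q := act 0 n6491
theorem D13658 : act 0 n6491 = n13658 := rfl
def n13659 : Q := act 1 n6491
theorem D13659 : act 1 n6491 = n13659 := rfl
def n13660 : Q := act 7 n6491
theorem D13660 : act 7 n6491 = n13660 := rfl
theorem F22814 : act 3 n13660 = n6496 := d8_1 D13660 (iv7 D6496) (iv3 F10558)
def n13661 : Q := act 6 n6492
theorem D13661 : act 6 n6492 = n13661 := rfl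
theorem F22815 : act 3 n13661 = n6497 := d7_1 D13661 (iv6 D6497) (iv3 F10559)
def n13662 : Q := act 0 n6493
theorem D13662 : act 0 n6493 = n13662 := rfl
def n13663 : Q := act 1 n6493
theorem D13663 : act 1 n6493 = n13663 := rfl
def n13664 : Q := act 5 n6493
theorem D13664 : act 5 n6493 = n13664 := rfl
theorem F22816 : act 3 n13664 = n6500 := d6_1 D13664 (iv5 D6500) (iv3 F10561)
def n13665 : Q := act 2 n6494
theorem D13665 : act 2 n6494 = n13665 := rfl
theorem F22817 : act 7 n6495 = n13665 := d15_2 (iv0 D6494) D6495 (iv2 D13665)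
def n13666 : Q := act 3 n6494
theorem D13666 : act 3 n6494 = n13666 := rfl
def n13667 : Q := act 4 n6494
theorem D13667 : act 4 n6494 = n13667 := rfl
def n13668 : Q := act 5 n6494
theorem D13668 : act 5 n6494 = n13668 := rfl
def n13669 : Q := act 6 n6494
theorem D13669 : act 6 n6494 = n13669 := rfl
def n13670 : Q := act 7 n6494
theorem D13670 : act 7 n6494 = n13670 := rfl
def n13671 : Q := act 3 n6495
theorem D13671 : act 3 n6495 = n13671 := rfl
def n13672 : Q := act 4 n6495
theorem D13672 : act 4 n6495 = n13672 := rfl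
def n13673 : Q := act 5 n6495
theorem D13673 : act 5 n6495 = n13673 := rfl
def n13674 : Q := act 6 n6495
theorem D13674 : act 6 n6495 = n13674 := rfl
def n13675 : Q := act 6 n6496
theorem D13675 : act 6 n6496 = n13675 := rfl
theorem F22819 : act 2 n13675 = n8904 := d3_1 D13675 (iv6 F18168) F18166
theorem F22820 : act 4 n13675 = n8852 := d10_1 D13675 F13779 F12876
theorem F22821 : act 7 n13675 = n6497 := d14_2 D6496 D13675 (iv6 D6497) (iv7 D2890) D2889
theorem F22822 : act 1 n8902 = n13675 := d15_1 D8902 F22821 F10563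
def n13676 : Q := act 0 n6497
theorem D13676 : act 0 n6497 = n13676 := rfl
theorem F22824 : act 1 n8904 = n13676 := d15_0 (iv0 D13676) (iv7 F22821) F22819
def n13677 : Q := act 1 n6497
theorem D13677 : act 1 n6497 = n13677 := rfl
def n13678 : Q := act 5 n6497
theorem D13678 : act 5 n6497 = n13678 := rfl
theorem F22826 : act 2 n13678 = n8903 := d2_1 D13678 (iv5 D8903) (iv2 F10563)
theorem F22827 : act 6 n13678 = n6500 := d12_2 D6497 D13678 (iv5 D6500) (iv6 D2891) (iv5 F4488)
def n13679 : Q := act 0 n6500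
theorem D13679 : act 0 n6500 = n13679 := rfl
theorem F22828 : act 5 n13679 = n12756 := d17_3 F11987 D6500 D13679 (iv4 D12756) (iv5 D6031) (iv0 D2539) F2164 D2540 D6032
def n13680 : Q := act 1 n6500
theorem D13680 : act 1 n6500 = n13680 := rfl
theorem F22829 : act 5 n12760 = n13680 := d21_6 D1498 (iv1 F5382) F5384 D3587 (iv1 F12555) (iv6 F21192) (iv1 D13680) (iv5 D6500) (iv6 D2891) (iv1 F2427)
def n13681 : Q := act 4 n6500
theorem D13681 : act 4 n6500 = n13681 := rfl
def n13682 : Q := act 5 n6501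
theorem D13682 : act 5 n6501 = n13682 := rfl
theorem F22830 : act 3 n13682 = n6503 := d6_1 D13682 (iv5 D6503) D6501
theorem F22831 : act 6 n13682 = n11266 := d12_2 (iv6 F10565) D13682 (iv5 D11266) (iv6 D5195) D5194
theorem F22832 : act 0 n7916 = n13682 := d21_10 (iv5 D13682) F12473 F12471 F12472 (iv1 F7670) D11222 (iv5 F18338) F18339 (iv5 D7915) D7916
def n13683 : Q := act 4 n6503
theorem D13683 : act 4 n6503 = n13683 := rfl
theorem F22833 : act 6 n13683 = n6678 := d10_2 (iv6 F10568) D13683 F10864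
theorem F22834 : act 5 n13683 = n7624 := d17_5 (iv1 D2893) F2430 D2892 D6503 D13683 (iv0 D7624) (iv5 D3459) D3458 F12417
theorem F22835 : act 1 n13683 = n7303 := d18_6 (iv1 D1519) (iv4 F2631) D3457 (iv4 F12422) D6503 D13683 F11601 F9377 (iv5 D3464)
def n13684 : Q := act 4 n6504
theorem D13684 : act 4 n6504 = n13684 := rfl
theorem F22836 : act 2 n13684 = n12226 := d1_1 D13684 (iv4 D12226) (iv2 F12415)
theorem F22837 : act 7 n13684 = n12224 := d11_2 (iv7 F10570) D13684 (iv4 D12224)
theorem F22838 : act 0 n13684 = n11240 := d20_1 D13684 F18277 F7697 F10566 (iv3 D6501) F12422 (iv1 F9180) F9177 (iv3 F8856) (iv1 F12416)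
def n13685 : Q := act 5 n6504
theorem D13685 : act 5 n6504 = n13685 := rfl
theorem F22839 : act 2 n13685 = n12227 := d2_1 D13685 (iv5 D12227) (iv2 F12415)
theorem F22840 : act 3 n13685 = n6506 := d6_1 D13685 (iv5 D6506) D6504
theorem F22841 : act 7 n13685 = n12225 := d13_2 (iv7 F10570) D13685 (iv5 D12225)
theorem F22842 : act 6 n13685 = n7223 := d21_3 F8857 (iv1 F12416) D13685 (iv1 F12534) F12527 F7909 (iv1 F3637) D5509 (iv6 F12410) F12412
def n13686 : Q := act 6 n6504
theorem D13686 : act 6 n6504 = n13686 := rfl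
theorem F22843 : act 2 n13686 = n12228 := d3_1 D13686 (iv6 D12228) (iv2 F12415)
theorem F22844 : act 3 n13686 = n6507 := d7_1 D13686 (iv6 D6507) D6504
theorem F22845 : act 5 n13686 = n13552 := d12_1 D13686 F22719 F20043 (iv6 F22842) (iv5 D13685)
theorem F22846 : act 7 n13686 = n11432 := d14_2 (iv7 F10570) D13686 (iv6 D11432) F7934 (iv6 F8915)
theorem F22847 : act 1 n7955 = n13686 := d15_1 (iv0 F18627) F22846 F18684
theorem F22848 : act 1 n13686 = n12152 := d15_1 F22847 F20100 (iv2 F12665)
def n13687 : Q := act 4 n6506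
theorem D13687 : act 4 n6506 = n13687 := rfl
theorem F22849 : act 6 n13687 = n7230 := d10_2 (iv6 F10571) D13687 (iv4 F12535)
theorem F22850 : act 5 n13687 = n7625 := d17_5 F5602 F5599 (iv1 F5601) D6506 D13687 F20722 (iv5 D12446) F9180 (iv4 F12422)
def n13688 : Q := act 5 n6508
theorem D13688 : act 5 n6508 = n13688 := rfl
theorem F22851 : act 3 n13688 = n6511 := d6_1 D13688 (iv5 D6511) (iv3 F10575)
theorem F22852 : act 6 n13688 = n6769 := d12_2 D6508 D13688 (iv5 D6769) (iv6 D3054) (iv5 F4493)
def n13689 : Q := act 4 n6511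
theorem D13689 : act 4 n6511 = n13689 := rfl
theorem F22853 : act 6 n13689 = n12011 := d10_2 (iv6 F10576) D13689 (iv4 D12011)
def n13690 : Q := act 5 n6513
theorem D13690 : act 5 n6513 = n13690 := rfl
theorem F22854 : act 3 n13690 = n6516 := d6_1 D13690 (iv5 D6516) (iv3 F10578)
theorem F22855 : act 6 n13690 = n12020 := d12_2 D6513 D13690 (iv5 D12020) (iv6 D5684) (iv5 F4497)
def n13691 : Q := act 4 n6516
theorem D13691 : act 4 n6516 = n13691 := rfl
theorem F22856 : act 2 n13691 = n13689 := d1_1 D13691 (iv4 D13689) (iv2 F10581)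
theorem F22857 : act 6 n13691 = n12024 := d10_2 (iv6 F10582) D13691 (iv4 D12024)
def n13692 : Q := act 2 n6518
theorem D13692 : act 2 n6518 = n13692 := rfl
theorem F22858 : act 7 n6519 = n13692 := d15_2 (iv0 D6518) D6519 (iv2 D13692)
def n13693 : Q := act 5 n6518
theorem D13693 : act 5 n6518 = n13693 := rfl
def n13694 : Q := act 7 n6518
theorem D13694 : act 7 n6518 = n13694 := rfl
theorem F22859 : act 2 n13694 = n6519 := d4_1 D13694 F22858 (iv2 D13692)
def n13695 : Q := act 5 n6519
theorem D13695 : act 5 n6519 = n13695 := rfl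
def n13696 : Q := act 6 n6519
theorem D13696 : act 6 n6519 = n13696 := rfl
def n13697 : Q := act 0 n6520
theorem D13697 : act 0 n6520 = n13697 := rfl
def n13698 : Q := act 4 n6520
theorem D13698 : act 4 n6520 = n13698 := rfl
theorem F22860 : act 2 n13698 = n6534 := d1_1 D13698 (iv4 D6534) (iv2 F10589)
theorem F22861 : act 6 n13698 = n11281 := d10_2 (iv6 F10591) D13698 (iv4 D11281)
def n13699 : Q := act 7 n6520
theorem D13699 : act 7 n6520 = n13699 := rfl
theorem F22862 : act 2 n13699 = n6535 := d4_1 D13699 (iv7 D6535) (iv2 F10589)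
theorem F22863 : act 3 n13699 = n11282 := d8_1 D13699 (iv7 D11282) (iv3 F10590)
theorem F22864 : act 5 n13699 = n6521 := d13_1 D13699 (iv7 D6521) D6520
theorem F22865 : act 1 n6535 = n13697 := d15_0 (iv0 D13697) D13699 F22862
theorem F22866 : act 1 n6533 = n13699 := d15_1 D6533 (iv7 D13699) F10589
theorem F22867 : act 7 n13697 = n6533 := d15_2 F22216 F22865 (iv2 F22213)
theorem F22868 : act 2 n13697 = n6532 := d15_3 (iv0 D6532) D6533 (iv7 F22867)
theorem F22869 : act 7 n6532 = n13346 := d4_2 (iv7 F22867) F22868 F22213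
theorem F22870 : act 5 n13347 = n6532 := d13_3 F22869 (iv5 D13346) D13347
theorem F22871 : act 1 n13699 = n6532 := d15_1 F22866 F22869 F22213
def n13701 : Q := act 1 n6522
theorem D13701 : act 1 n6522 = n13701 := rfl
theorem F22873 : act 1 n13701 = n6527 := d15_1 D13701 (iv7 D6527) D6522
def n13702 : Q := act 3 n6522
theorem D13702 : act 3 n6522 = n13702 := rfl
theorem F22874 : act 7 n13702 = n6528 := d8_2 F10599 D13702 (iv3 D6528)
theorem F22875 : act 4 n11410 = n13702 := d11_3 F22874 F10601 F18660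
theorem F22876 : act 2 n13702 = n11412 := d15_3 (iv0 F19941) (iv0 F19529) (iv7 F22874)
theorem F22877 : act 2 n11511 = n6523 := d0_3 D13702 F22876 F19451 (iv3 D6523) D6522
theorem F22878 : act 7 n11534 = n11511 := d15_2 F22507 D11534 F22877
theorem F22879 : act 7 n11512 = n6523 := d15_2 (iv0 D11511) D11512 (iv2 F22877)
theorem F22880 : act 2 n11534 = n11512 := d4_3 F22879 (iv2 F22877) (iv7 F22878)
theorem E2995 : n6527 = n6519 := (c8_3 F22879 (iv3 D6523) D6527 F22400)
theorem E2996 : n13701 = n2898 := ((((iv1 D6519)).symm.trans (sb E2995 (iv1 F22873)))).symm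
theorem E2998 : n13694 = n2900 := (((iv2 F22859)).symm.trans (sb E2995 F10600))
theorem E2999 : n13692 = n2899 := ((F22858).symm.trans (sb E2995 (iv7 D6527)))
theorem E3000 : n6522 = n6518 := (((D6518).symm.trans (sb E2996 (iv1 D13701)))).symm
theorem F22881 : act 2 n2900 = n6519 := (sb E2998 F22859)
theorem F22882 : act 7 n2899 = n6519 := (sb E2999 (iv7 F22858))
theorem F22883 : act 2 n6518 = n2899 := (sb E3000 (iv2 D6522))
theorem E3001 : n13702 = n13448 := (((F22383).symm.trans (sb E3000 D13702))).symm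
theorem F22884 : act 7 n6518 = n2900 := (sb E3000 (iv7 F10599))
theorem F22885 : act 2 n13448 = n11412 := (sb E3001 F22876)
theorem E3002 : n11410 = n11406 := (((F22382).symm.trans (sb E3001 (iv4 F22875)))).symm
theorem F22886 : act 7 n13448 = n6528 := (sb E3001 F22874)
theorem F22887 : act 2 n11406 = n5304 := (sb E3002 (iv2 D11410))
theorem F22888 : act 7 n11406 = n5305 := (sb E3002 (iv7 F18660))
theorem F22889 : act 7 n11416 = n6738 := d8_2 F22888 D11416 F18658
theorem E3003 : n11415 = n11407 := (c15_4 F18650 F18656 F22888 (iv2 F18661))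
theorem F22890 : act 2 n11407 = n5305 := (sb E3003 F18661)
theorem F22891 : act 7 n11407 = n5304 := (sb E3003 (iv7 D11415))
theorem F22892 : act 7 n11411 = n11472 := d8_2 F22891 D11411 F18748
theorem F22893 : act 7 n11412 = n13449 := d11_2 F22891 D11412 (iv4 F22384)
theorem F22894 : act 2 n13449 = n6528 := d4_1 F22893 (iv7 F22886) F22885
theorem E3004 : n11465 = n11461 := (c11_3 F22892 (iv4 D11472) F18744 (iv4 F18741))
theorem F22895 : act 2 n11461 = n5340 := (sb E3004 (iv2 D11465))
theorem F22896 : act 7 n11461 = n5341 := (sb E3004 (iv7 F18744))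
theorem F22897 : act 2 n11411 = n11467 := d15_3 (iv0 F18745) (iv0 F18747) (iv7 F22892)
theorem F22898 : act 7 n11471 = n6767 := d8_2 F22896 D11471 (iv3 F19518)
theorem E3005 : n11470 = n11462 := (c15_4 F18731 F18739 F22896 (iv2 F18746))
theorem F22899 : act 2 n11462 = n5341 := (sb E3005 F18746)
theorem F22900 : act 7 n11462 = n5340 := (sb E3005 (iv7 D11470))
theorem F22901 : act 7 n11466 = n13317 := d8_2 F22900 D11466 F22133
theorem F22902 : act 7 n6848 = n12229 := d11_2 F22901 (iv4 F22132) F20230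
theorem F22903 : act 2 n11466 = n13316 := d15_3 (iv0 D13316) D13317 (iv7 F22901)
theorem F22904 : act 2 n6847 = n12229 := d1_3 F20230 F22903 F22131
theorem F22905 : act 7 n12230 = n6847 := d15_2 (iv0 D12229) D12230 F22904
theorem F22906 : act 2 n12230 = n6848 := d4_3 F22902 (iv2 F22904) (iv7 F22905)
theorem F22907 : act 7 n6524 = n11308 := d8_2 F22905 F11104 (iv3 F22523)
theorem F22908 : act 2 n11308 = n6529 := d15_3 F22518 (iv0 F22498) F22907
theorem F22909 : act 2 n6524 = n6737 := d15_3 F22512 D11308 (iv7 F22907)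
theorem E3006 : n6736 = n6732 := (c0_4 F11104 F22909 (iv3 D6737) D6736 (iv3 F20233) (iv2 F22904))
theorem F22910 : act 2 n6732 = n3030 := (sb E3006 (iv2 D6736))
theorem F22911 : act 7 n6732 = n3031 := (sb E3006 (iv7 F10990))
theorem F22912 : act 7 n6737 = n6529 := d4_2 (iv7 F22907) F22909 (iv2 F22908)
theorem E3007 : n6741 = n6733 := ((c8_2 F22912 F10982 (iv7 D6741) D6737)).symm
theorem F22913 : act 2 n6733 = n3031 := (sb E3007 F10992)
theorem F22914 : act 7 n6733 = n3030 := (sb E3007 (iv7 D6741))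
theorem E3008 : n6848 = n6742 := ((c0_3 F10982 F22913 D6742 (iv2 F22906) F22523 F22908)).symm
theorem F22915 : act 0 n6742 = n3092 := (sb E3008 (iv1 D6848))
theorem F22916 : act 1 n6742 = n12232 := (sb E3008 F20242)
theorem F22917 : act 2 n6742 = n12230 := (sb E3008 (iv2 F22906))
theorem F22918 : act 4 n6742 = n13317 := (sb E3008 F22132)
theorem F22919 : act 7 n6742 = n12229 := (sb E3008 F22902)
theorem F22920 : act 2 n6743 = n11416 := d1_3 F18662 F22913 D6743
theorem E3009 : n11789 = n6743 := ((c20_7 (iv4 D11412) (iv1 F18659) F18654 (iv3 F20239) (iv1 F22916) (iv3 D6742) D6743 (iv1 D11789) F8441 (iv3 F19142) F19941)).symm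
theorem F22921 : act 0 n6743 = n5519 := (sb E3009 (iv1 D11789))
theorem F22922 : act 2 n6740 = n11613 := d3_3 F18956 F22910 D6740
theorem E3010 : n11610 = n11560 := (c2_4 (iv5 F18868) F22922 (iv5 D11613) (iv2 F18955))
theorem F22923 : act 2 n11560 = n5395 := (sb E3010 F18955)
theorem F22924 : act 7 n11560 = n5394 := (sb E3010 (iv7 D11610))
theorem F22925 : act 7 n11608 = n6740 := d13_2 F22924 D11608 F18868
theorem E3011 : n11605 = n11559 := (c15_4 (iv0 D11559) D11560 F22924 D11605)
theorem F22926 : act 2 n11559 = n5394 := (sb E3011 (iv2 D11605))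
theorem F22927 : act 7 n11559 = n5395 := (sb E3011 (iv7 F18954))
theorem F22928 : act 2 n11469 = n13499 := d3_3 F22649 F22895 D11469
theorem E3012 : n13496 = n13472 := (c2_4 (iv5 F22605) F22928 (iv5 D13499) (iv2 F22648))
theorem F22929 : act 2 n13472 = n6421 := (sb E3012 F22648)
theorem F22930 : act 7 n13472 = n6420 := (sb E3012 (iv7 D13496))
theorem F22931 : act 7 n11757 = n11469 := d13_2 F22930 F22614 F22605
theorem E3013 : n13492 = n13471 := (c15_4 (iv0 D13471) D13472 F22930 D13492)
theorem F22932 : act 2 n13471 = n6420 := (sb E3013 (iv2 D13492))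
theorem F22933 : act 7 n13471 = n6421 := (sb E3013 (iv7 F22647))
theorem F22934 : act 7 n6530 = n13693 := d13_2 F22884 D6530 (iv5 D13693)
theorem F22935 : act 2 n6525 = n13693 := d2_3 (iv5 D13693) F22883 D6525
theorem F22936 : act 2 n6526 = n13363 := d3_3 F22236 F22883 D6526
theorem E3014 : n13360 = n13333 := (c2_4 (iv5 F22185) F22936 (iv5 D13363) (iv2 F22235))
theorem F22937 : act 2 n13333 = n6336 := (sb E3014 F22235)
theorem F22938 : act 7 n13333 = n6335 := (sb E3014 (iv7 D13360))
theorem F22939 : act 7 n12362 = n6526 := d13_2 F22938 (iv5 F22196) F22185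
theorem E3015 : n13356 = n13332 := (c15_4 (iv0 D13332) D13333 F22938 D13356)
theorem F22940 : act 2 n13332 = n6335 := (sb E3015 (iv2 D13356))
theorem F22941 : act 7 n13332 = n6336 := (sb E3015 (iv7 F22234))
theorem F22942 : act 7 n13695 = n6525 := d13_2 F22882 D13695 (iv5 D6525)
theorem F22943 : act 2 n6530 = n13695 := d4_3 F22942 F22935 (iv7 F22934)
theorem F22944 : act 2 n13696 = n6531 := d3_3 (iv6 D6531) F22881 D13696
theorem F22945 : act 2 n6768 = n11471 := d1_3 (iv4 F19530) F22880 F22399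
def n13703 : Q := act 4 n6523
theorem D13703 : act 4 n6523 = n13703 := rfl
theorem F22946 : act 2 n13703 = n6767 := d1_1 D13703 F19517 F22877
theorem F22947 : act 3 n13703 = n13316 := d5_1 D13703 F22131 F11104 (iv4 D6524) D6523
theorem F22948 : act 7 n13703 = n6768 := d11_2 F22879 D13703 (iv4 F22399)
theorem F22949 : act 0 n13703 = n6770 := d20_1 D13703 F11028 F4789 (iv1 F4887) D2943 (iv4 F10105) F19538 (iv4 F10442) F10441 (iv1 F22507)
theorem F22950 : act 0 n6760 = n13703 := d20_10 (iv4 D13703) F22506 F18832 F8194 (iv1 F19524) (iv3 D7662) D7663 F19937 (iv4 F19230) F19229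
def n13704 : Q := act 5 n6523
theorem D13704 : act 5 n6523 = n13704 := rfl
theorem F22951 : act 3 n13704 = n6525 := d6_1 D13704 (iv5 D6525) D6523
def n13705 : Q := act 6 n6523
theorem D13705 : act 6 n6523 = n13705 := rfl
theorem F22952 : act 3 n13705 = n6526 := d7_1 D13705 (iv6 D6526) D6523
def n13706 : Q := act 5 n6524
theorem D13706 : act 5 n6524 = n13706 := rfl
def n13707 : Q := act 6 n6524
theorem D13707 : act 6 n6524 = n13707 := rfl
theorem F22953 : act 4 n13707 = n6526 := d10_1 D13707 (iv6 D6526) D6524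
theorem F22954 : act 5 n13707 = n12070 := d21_6 (iv5 D1062) D1059 (iv5 F3740) D3079 (iv1 F22499) D13707 (iv1 D12070) (iv5 D5716) (iv6 D2391) F2076
def n13708 : Q := act 0 n6525
theorem D13708 : act 0 n6525 = n13708 := rfl
theorem F22955 : act 5 n13708 = n13321 := d21_2 D6525 D13708 (iv6 D13321) (iv1 D6318) (iv6 D2648) F2318 F2020 F1481 D1318 D2899
theorem F22956 : act 1 n6530 = n13708 := d15_0 (iv0 D13708) (iv7 F22942) (iv2 F22943)
theorem F22957 : act 0 n6531 = n7056 := d21_4 (iv5 F22955) (iv1 F22956) (iv5 D6530) D6531 (iv6 F19091) (iv5 F19746) (iv1 F22211) (iv5 D6328) D6329 (iv1 F22228)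
def n13709 : Q := act 1 n6525
theorem D13709 : act 1 n6525 = n13709 := rfl
theorem F22958 : act 1 n13709 = n6530 := d15_1 D13709 F22934 (iv2 F22935)
theorem F22959 : act 5 n11973 = n13709 := d21_6 (iv5 F22207) (iv1 F22208) (iv5 D6333) D6334 F22224 (iv6 F19763) (iv1 D13709) (iv5 D6525) D6526 (iv1 F22187)
theorem F22960 : act 3 n13709 = n6541 := d6_1 F22959 F10608 D11973
def n13710 : Q := act 4 n6525
theorem D13710 : act 4 n6525 = n13710 := rfl
def n13711 : Q := act 6 n6525
theorem D13711 : act 6 n6525 = n13711 := rfl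
def n13712 : Q := act 5 n6528
theorem D13712 : act 5 n6528 = n13712 := rfl
theorem F22961 : act 3 n13712 = n6530 := d6_1 D13712 (iv5 D6530) D6528
def n13713 : Q := act 6 n6528
theorem D13713 : act 6 n6528 = n13713 := rfl
theorem F22962 : act 3 n13713 = n6531 := d7_1 D13713 (iv6 D6531) D6528
theorem F22963 : act 4 n13713 = n11418 := d10_1 D13713 (iv6 D11418) (iv4 F10601)
theorem F22964 : act 0 n11719 = n11418 := d20_1 (iv4 F19065) (iv4 F22963) F22962 F22957 F11302 F5020 F3904 (iv4 F8963) (iv3 F20317) (iv1 D12256)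
def n13714 : Q := act 5 n6529
theorem D13714 : act 5 n6529 = n13714 := rfl
def n13715 : Q := act 6 n6529
theorem D13715 : act 6 n6529 = n13715 := rfl
theorem F22965 : act 4 n13715 = n6531 := d10_1 D13715 (iv6 D6531) D6529
theorem F22966 : act 3 n6954 = n13715 := d20_5 F8665 F3702 F4907 (iv3 F4857) D6954 F22965 F22957 F11303 F11302 F8668
theorem F22967 : act 6 n6733 = n6954 := d7_0 F22966 (iv6 D13715) F10982
theorem F22968 : act 2 n6954 = n6745 := d3_1 F22967 (iv6 D6745) (iv2 F22913)
theorem F22969 : act 7 n6955 = n6745 := d15_2 (iv0 D6954) D6955 (iv2 F22968)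
def n13716 : Q := act 4 n6530
theorem D13716 : act 4 n6530 = n13716 := rfl
def n13717 : Q := act 6 n6530
theorem D13717 : act 6 n6530 = n13717 := rfl
def n13718 : Q := act 1 n6531
theorem D13718 : act 1 n6531 = n13718 := rfl
def n13719 : Q := act 5 n6531
theorem D13719 : act 5 n6531 = n13719 := rfl
theorem F22970 : act 0 n11806 = n13719 := d21_1 D11806 (iv5 D13719) (iv6 D6531) (iv1 D2900) (iv6 D1318) (iv5 F1481) (iv1 F1483) D1102 D2291 D5524
theorem F22971 : act 1 n11486 = n13719 := d15_0 (iv0 F22970) (iv7 F22142) F22140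
theorem F22973 : act 0 n11487 = n13347 := d21_10 F22870 (iv1 F22871) F22864 F10595 (iv1 F10597) D6531 D13719 (iv1 F22971) (iv5 D11486) D11487
def n13720 : Q := act 7 n6531
theorem D13720 : act 7 n6531 = n13720 := rfl
def n13721 : Q := act 3 n6532
theorem D13721 : act 3 n6532 = n13721 := rfl
def n13722 : Q := act 4 n6532
theorem D13722 : act 4 n6532 = n13722 := rfl
def n13723 : Q := act 6 n6532
theorem D13723 : act 6 n6532 = n13723 := rfl
def n13724 : Q := act 3 n6533
theorem D13724 : act 3 n6533 = n13724 := rfl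
def n13725 : Q := act 4 n6533
theorem D13725 : act 4 n6533 = n13725 := rfl
def n13726 : Q := act 6 n6533
theorem D13726 : act 6 n6533 = n13726 := rfl
def n13727 : Q := act 0 n6534
theorem D13727 : act 0 n6534 = n13727 := rfl
def n13728 : Q := act 1 n6534
theorem D13728 : act 1 n6534 = n13728 := rfl
def n13729 : Q := act 3 n6534
theorem D13729 : act 3 n6534 = n13729 := rfl
theorem F22974 : act 4 n13729 = n6560 := d5_2 D6534 D13729 (iv3 D6560) (iv4 D2915) (iv3 F4511)
def n13730 : Q := act 5 n6534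
theorem D13730 : act 5 n6534 = n13730 := rfl
def n13731 : Q := act 7 n6534
theorem D13731 : act 7 n6534 = n13731 := rfl
theorem F22975 : act 4 n13731 = n6535 := d11_1 D13731 (iv7 D6535) D6534
def n13732 : Q := act 6 n6535
theorem D13732 : act 6 n6535 = n13732 := rfl
theorem F22976 : act 3 n13732 = n6563 := d7_1 D13732 (iv6 D6563) (iv3 F10602)
theorem F22977 : act 5 n13732 = n13732 := d12_1 D13732 (iv6 D13732) F10603 F4514 (iv5 F10603)
def n13733 : Q := act 0 n6539
theorem D13733 : act 0 n6539 = n13733 := rfl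
theorem F22978 : act 1 n13462 = n13733 := d15_0 (iv0 D13733) (iv7 F10794) (iv2 F22418)
def n13734 : Q := act 1 n6539
theorem D13734 : act 1 n6539 = n13734 := rfl
theorem F22979 : act 1 n13734 = n13462 := d15_1 D13734 F22419 F22401
def n13735 : Q := act 4 n6539
theorem D13735 : act 4 n6539 = n13735 := rfl
def n13736 : Q := act 6 n6539
theorem D13736 : act 6 n6539 = n13736 := rfl
theorem F22980 : act 3 n13736 = n6543 := d7_1 D13736 (iv6 D6543) (iv3 F10604)
theorem F22981 : act 5 n13736 = n13430 := d12_1 D13736 (iv6 D13430) F10409 F8391 D6539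
def n13737 : Q := act 3 n6540
theorem D13737 : act 3 n6540 = n13737 := rfl
theorem F22982 : act 5 n13737 = n7707 := d6_2 (iv5 F10605) D13737 F11982
theorem F22983 : act 0 n11276 = n13737 := d17_2 D5200 D11276 F22982 F11983 (iv5 F18391) (iv0 D11285) (iv5 D5207) (iv0 D2138) (iv4 F3500)
theorem F22984 : act 1 n11277 = n13737 := d17_6 (iv1 F10020) D6688 F10892 (iv5 D5293) (iv4 F10274) D11277 F22982 (iv0 F18023) F18021
def n13738 : Q := act 4 n6540
theorem D13738 : act 4 n6540 = n13738 := rfl
theorem F22985 : act 0 n13738 = n6586 := d18_2 D6540 D13738 (iv4 D6586) (iv5 D2944) (iv4 D1329) F1492 (iv4 F2466) F2470 D2906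
theorem F22986 : act 1 n13738 = n6572 := d18_6 (iv1 D5408) F4959 (iv1 F4636) (iv4 F5497) (iv5 F10605) D13738 (iv4 D6572) D6571 F10632
def n13739 : Q := act 6 n6540
theorem D13739 : act 6 n6540 = n13739 := rfl
theorem F22987 : act 5 n13739 = n7709 := d12_1 D13739 (iv6 D7709) (iv5 D3499) D3500 (iv5 F10605)
def n13740 : Q := act 4 n6541
theorem D13740 : act 4 n6541 = n13740 := rfl
theorem F22988 : act 0 n13740 = n6572 := d18_2 (iv1 F10607) D13740 (iv4 D6572) (iv5 D2931) (iv4 D1325) (iv0 D763) (iv4 F1473) D1320 D2911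
theorem F22989 : act 1 n13740 = n6586 := d18_6 (iv1 F8526) F8522 (iv1 F4578) (iv4 F8643) (iv5 F10608) D13740 (iv4 D6586) F10630 F10629
def n13741 : Q := act 6 n6541
theorem D13741 : act 6 n6541 = n13741 := rfl
theorem F22990 : act 2 n13741 = n13510 := d3_1 D13741 F22656 (iv2 F10781)
theorem F22991 : act 5 n13741 = n11165 := d12_1 D13741 (iv6 D11165) F7587 F8644 (iv5 F10608)
theorem F22992 : act 0 n13741 = n6550 := d21_4 (iv5 F8289) (iv1 F8642) (iv5 F10608) D13741 (iv6 D6550) (iv5 D2911) (iv1 D1320) D1321 (iv6 F2464) D2986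
def n13742 : Q := act 0 n6542
theorem D13742 : act 0 n6542 = n13742 := rfl
theorem F22993 : act 4 n13742 = n6672 := d18_3 (iv1 D6541) D6542 D13742 F10844 F4932 F7888 (iv4 F3696) D5643 (iv5 F10608)
theorem F22994 : act 1 n6549 = n13742 := d15_0 (iv0 D13742) (iv7 F10798) F10797
def n13743 : Q := act 1 n6542
theorem D13743 : act 1 n6542 = n13743 := rfl
theorem F22995 : act 1 n13743 = n6549 := d15_1 D13743 (iv7 F10783) F10782
theorem F22996 : act 4 n13743 = n6673 := d18_7 F4980 F1499 D1282 (iv4 F5097) D2906 D6542 D13743 F10848 (iv5 D3009)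
def n13744 : Q := act 3 n6542
theorem D13744 : act 3 n6542 = n13744 := rfl
def n13745 : Q := act 5 n6542
theorem D13745 : act 5 n6542 = n13745 := rfl
theorem F22997 : act 4 n13745 = n6612 := d16_2 D6542 D13745 F10709 (iv4 D6394) (iv5 D2801) (iv4 F5104) D2911 (iv7 F8006) F8018
theorem F22998 : act 0 n13745 = n12605 := d17_2 (iv1 D13743) D13745 F20991 F10997 F4764 F4978 D2998 D6673 (iv4 F22996)
theorem F22999 : act 1 n13745 = n6786 := d17_6 (iv1 D2914) (iv5 D1321) D1319 D2906 D6542 D13745 (iv5 D6786) (iv0 F10616) (iv4 D6556)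
def n13746 : Q := act 6 n6542
theorem D13746 : act 6 n6542 = n13746 := rfl
theorem F23000 : act 4 n13746 = n6543 := d10_1 D13746 (iv6 D6543) D6542
def n13747 : Q := act 0 n6543
theorem D13747 : act 0 n6543 = n13747 := rfl
theorem F23001 : act 5 n13747 = n11971 := d21_0 (iv1 D11971) (iv5 F10814) (iv6 D6661) (iv1 D2987) F2464 (iv5 D1321) D1319 D2906 D6543 D13747
def n13748 : Q := act 1 n6543
theorem D13748 : act 1 n6543 = n13748 := rfl
theorem F23002 : act 5 n11970 = n13748 := d21_0 (iv1 D13748) F10609 (iv6 D6380) (iv1 D2739) F2362 (iv5 D1241) (iv1 F7709) D2344 D5641 D11970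
theorem F23003 : act 6 n11735 = n11970 := d21_5 (iv5 D1265) (iv1 F5085) D2250 D5458 D11735 F23002 (iv1 D13748) F10609 (iv6 D6380) (iv1 D2739)
def n13749 : Q := act 7 n6543
theorem D13749 : act 7 n6543 = n13749 := rfl
theorem F23004 : act 5 n13749 = n13433 := d13_1 D13749 (iv7 D13433) (iv5 F10609)
def n13750 : Q := act 5 n6545
theorem D13750 : act 5 n6545 = n13750 := rfl
theorem F23005 : act 7 n13750 = n11145 := d13_2 (iv7 F19486) D13750 (iv5 D11145)
theorem F23006 : act 0 n13750 = n6555 := d21_1 D13750 F10615 (iv6 D5454) D5450 F19339 D11712 (iv1 F22247) F22246 F19856 (iv1 F10765)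
def n13751 : Q := act 5 n6546
theorem D13751 : act 5 n6546 = n13751 := rfl
theorem F23007 : act 2 n13751 = n6547 := d2_1 D13751 (iv5 D6547) D6546
theorem F23008 : act 3 n13751 = n13462 := d6_1 D13751 (iv5 D13462) F19475
def n13752 : Q := act 6 n6546
theorem D13752 : act 6 n6546 = n13752 := rfl
theorem F23009 : act 2 n13752 = n6548 := d3_1 D13752 (iv6 D6548) D6546
theorem F23010 : act 3 n13752 = n13463 := d7_1 D13752 (iv6 D13463) F19475
theorem F23011 : act 4 n13752 = n11632 := d10_1 D13752 F18975 (iv4 F11082)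
def n13753 : Q := act 0 n6547
theorem D13753 : act 0 n6547 = n13753 := rfl
def n13754 : Q := act 1 n6547
theorem D13754 : act 1 n6547 = n13754 := rfl
def n13755 : Q := act 4 n6547
theorem D13755 : act 4 n6547 = n13755 := rfl
def n13756 : Q := act 6 n6547
theorem D13756 : act 6 n6547 = n13756 := rfl
theorem F23012 : act 3 n13756 = n6550 := d7_1 D13756 (iv6 D6550) (iv3 F10610)
def n13757 : Q := act 0 n6548
theorem D13757 : act 0 n6548 = n13757 := rfl
def n13758 : Q := act 1 n6548
theorem D13758 : act 1 n6548 = n13758 := rfl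
def n13759 : Q := act 5 n6548
theorem D13759 : act 5 n6548 = n13759 := rfl
theorem F23013 : act 3 n13759 = n6551 := d6_1 D13759 (iv5 D6551) (iv3 F10611)
def n13760 : Q := act 3 n6549
theorem D13760 : act 3 n6549 = n13760 := rfl
def n13761 : Q := act 5 n6549
theorem D13761 : act 5 n6549 = n13761 := rfl
theorem F23014 : act 4 n13761 = n6611 := d9_1 D13761 F10708 (iv4 D6393) (iv5 D2797) (iv4 F5097) D2906 D6542 D13745 F22997 F10709 (iv4 D6394) (iv5 D2801) (iv4 F5104) D2911 D6549
theorem F23015 : act 0 n13761 = n6786 := d17_2 (iv1 F22994) D13761 (iv5 D6786) (iv4 D3071) (iv5 D1372) (iv0 F4980) D3009 F10845 (iv4 F22993)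
theorem F23016 : act 1 n13761 = n12605 := d17_6 (iv1 F4676) F4673 (iv1 F2469) D2911 D6549 D13761 F20991 F10999 (iv4 D6553)
def n13762 : Q := act 6 n6549
theorem D13762 : act 6 n6549 = n13762 := rfl
theorem F23017 : act 4 n13762 = n6550 := d10_1 D13762 (iv6 D6550) D6549
def n13763 : Q := act 0 n6550
theorem D13763 : act 0 n6550 = n13763 := rfl
def n13764 : Q := act 5 n6550
theorem D13764 : act 5 n6550 = n13764 := rfl
theorem F23018 : act 6 n13764 = n6551 := d12_2 D6550 D13764 (iv5 D6551) (iv6 D2912) D2911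
def n13765 : Q := act 7 n6550
theorem D13765 : act 7 n6550 = n13765 := rfl
theorem F23019 : act 1 n13510 = n13765 := d15_1 (iv0 F22657) (iv7 D13765) (iv2 F10799)
def n13766 : Q := act 4 n6551
theorem D13766 : act 4 n6551 = n13766 := rfl
theorem F23020 : act 0 n13766 = n7680 := d18_2 (iv1 F10613) D13766 (iv4 D7680) (iv5 D3482) F5460 F1995 (iv4 F3535) F3560 D5345
theorem F23021 : act 1 n13766 = n7675 := d18_6 (iv1 D3150) (iv4 F4907) (iv1 F7995) F5105 D6551 D13766 (iv4 D7675) (iv0 F11239) (iv5 D6972)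
def n13767 : Q := act 4 n6552
theorem D13767 : act 4 n6552 = n13767 := rfl
def n13768 : Q := act 6 n6552
theorem D13768 : act 6 n6552 = n13768 := rfl
theorem F23022 : act 3 n13768 = n6554 := d7_1 D13768 (iv6 D6554) D6552
def n13769 : Q := act 3 n6553
theorem D13769 : act 3 n6553 = n13769 := rfl
def n13770 : Q := act 5 n6553
theorem D13770 : act 5 n6553 = n13770 := rfl
theorem F23023 : act 4 n13770 = n6604 := d16_2 D6553 D13770 (iv5 D6604) (iv4 F5106) (iv5 D2260) (iv4 F3606) F5086 (iv7 F8072) F8074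
def n13771 : Q := act 6 n6553
theorem D13771 : act 6 n6553 = n13771 := rfl
theorem F23024 : act 4 n13771 = n6554 := d10_1 D13771 (iv6 D6554) D6553
def n13772 : Q := act 0 n6554
theorem D13772 : act 0 n6554 = n13772 := rfl
def n13773 : Q := act 1 n6554
theorem D13773 : act 1 n6554 = n13773 := rfl
def n13774 : Q := act 7 n6554
theorem D13774 : act 7 n6554 = n13774 := rfl
def n13775 : Q := act 2 n6555
theorem D13775 : act 2 n6555 = n13775 := rfl
theorem F23025 : act 3 n13775 = n13465 := d0_2 D6555 D13775 F22423 (iv3 D6659) (iv2 F8071)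
theorem F23026 : act 5 n13775 = n11719 := d2_2 (iv5 F10615) D13775 F19064
theorem F23027 : act 0 n13775 = n11145 := d21_7 (iv5 F1991) D2188 F3544 D5301 F19386 D11719 (iv5 F23026) (iv5 D11145) (iv6 D5094) (iv1 D2088)
def n13776 : Q := act 4 n6555
theorem D13776 : act 4 n6555 = n13776 := rfl
def n13777 : Q := act 6 n6555
theorem D13777 : act 6 n6555 = n13777 := rfl
theorem F23028 : act 3 n13777 = n6557 := d7_1 D13777 (iv6 D6557) D6555
theorem F23029 : act 5 n13777 = n11723 := d12_1 D13777 (iv6 D11723) (iv5 D5453) D5454 (iv5 F10615)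
def n13778 : Q := act 3 n6556
theorem D13778 : act 3 n6556 = n13778 := rfl
def n13779 : Q := act 5 n6556
theorem D13779 : act 5 n6556 = n13779 := rfl
theorem F23030 : act 4 n13779 = n6601 := d9_1 D13779 (iv5 D6601) (iv4 F5102) F8042 (iv4 F8650) F8651 D6553 D13770 F23023 (iv5 D6604) (iv4 F5106) (iv5 D2260) (iv4 F3606) F5086 D6556
def n13780 : Q := act 6 n6556
theorem D13780 : act 6 n6556 = n13780 := rfl
theorem F23031 : act 4 n13780 = n6557 := d10_1 D13780 (iv6 D6557) D6556
def n13781 : Q := act 0 n6557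
theorem D13781 : act 0 n6557 = n13781 := rfl
def n13782 : Q := act 1 n6557
theorem D13782 : act 1 n6557 = n13782 := rfl
theorem F23032 : act 5 n13432 = n13782 := d21_0 (iv1 D13782) F10617 (iv6 D5458) D5455 D11729 F19076 D12366 (iv5 F22329) F22330 (iv1 F22349)
theorem F23033 : act 6 n13376 = n13432 := d21_5 F8278 (iv1 F7737) (iv5 F7736) D6340 D13376 F23032 (iv1 D13782) F10617 (iv6 D5458) D5455
def n13783 : Q := act 7 n6557
theorem D13783 : act 7 n6557 = n13783 := rfl
theorem F23034 : act 5 n13783 = n11737 := d13_1 D13783 (iv7 D11737) (iv5 F10617)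
def n13784 : Q := act 3 n6558
theorem D13784 : act 3 n6558 = n13784 := rfl
def n13785 : Q := act 5 n6558
theorem D13785 : act 5 n6558 = n13785 := rfl
theorem F23035 : act 4 n13785 = n6598 := d16_2 (iv4 F10618) D13785 (iv5 D6598) (iv4 D2952) (iv5 F2448) (iv4 F4872) F4763 (iv7 F4987) F4989
def n13786 : Q := act 6 n6558
theorem D13786 : act 6 n6558 = n13786 := rfl
theorem F23036 : act 4 n13786 = n6751 := d10_1 D13786 (iv6 D6751) (iv4 F10618)
def n13787 : Q := act 3 n6559
theorem D13787 : act 3 n6559 = n13787 := rfl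
def n13788 : Q := act 5 n6559
theorem D13788 : act 5 n6559 = n13788 := rfl
theorem F23037 : act 4 n13788 = n6595 := d9_1 D13788 (iv5 D6595) (iv4 D2949) (iv5 F4584) (iv4 F8226) F8227 (iv4 F10618) D13785 F23035 (iv5 D6598) (iv4 D2952) (iv5 F2448) (iv4 F4872) F4763 (iv4 F10619)
def n13789 : Q := act 6 n6559
theorem D13789 : act 6 n6559 = n13789 := rfl
theorem F23038 : act 4 n13789 = n6753 := d10_1 D13789 (iv6 D6753) (iv4 F10619)
def n13790 : Q := act 0 n6560
theorem D13790 : act 0 n6560 = n13790 := rfl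
def n13791 : Q := act 1 n6560
theorem D13791 : act 1 n6560 = n13791 := rfl
def n13792 : Q := act 2 n6560
theorem D13792 : act 2 n6560 = n13792 := rfl
def n13793 : Q := act 5 n6560
theorem D13793 : act 5 n6560 = n13793 := rfl
theorem F23039 : act 3 n13793 = n6561 := d6_1 D13793 (iv5 D6561) D6560
def n13794 : Q := act 7 n6560
theorem D13794 : act 7 n6560 = n13794 := rfl
theorem F23040 : act 3 n13794 = n6562 := d8_1 D13794 (iv7 D6562) D6560
def n13795 : Q := act 0 n6561
theorem D13795 : act 0 n6561 = n13795 := rfl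
theorem F23041 : act 5 n13795 = n6572 := d17_3 (iv1 D6559) D6561 D13795 (iv4 D6572) (iv5 D2931) (iv0 F4889) D1364 D3045 (iv4 F10619)
theorem F23042 : act 4 n13795 = n6590 := d18_1 D13795 F10652 D7484 F11733 F11045 F4802 (iv4 F10618) (iv0 D6558) D6561
theorem F23043 : act 1 n6613 = n13795 := d15_0 (iv0 D13795) F10958 F10956
def n13796 : Q := act 1 n6561
theorem D13796 : act 1 n6561 = n13796 := rfl
theorem F23044 : act 1 n13796 = n6613 := d15_1 D13796 F10826 F10824
theorem F23045 : act 5 n13796 = n6586 := d17_7 (iv1 F10606) (iv5 D2911) (iv1 D1320) D1321 D2915 D6561 D13796 (iv0 F22985) (iv4 D13738)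
theorem F23046 : act 4 n13796 = n6580 := d17_9 (iv1 F20997) F20995 (iv1 F9305) D6598 (iv4 F23035) (iv5 D13785) (iv0 D6558) D6561 D13796
def n13797 : Q := act 6 n6561
theorem D13797 : act 6 n6561 = n13797 := rfl
def n13798 : Q := act 6 n6562
theorem D13798 : act 6 n6562 = n13798 := rfl
theorem F23047 : act 4 n13798 = n6563 := d10_1 D13798 (iv6 D6563) (iv4 F10620)
def n13799 : Q := act 0 n6563
theorem D13799 : act 0 n6563 = n13799 := rfl
theorem F23048 : act 1 n6563 = n13799 := d15_0 (iv0 D13799) (iv7 F10834) F10832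
def n13800 : Q := act 5 n6564
theorem D13800 : act 5 n6564 = n13800 := rfl
theorem F23049 : act 3 n13800 = n6565 := d6_1 D13800 (iv5 D6565) D6564
def n13801 : Q := act 0 n6565
theorem D13801 : act 0 n6565 = n13801 := rfl
theorem F23050 : act 5 n13801 = n11264 := d17_3 F4895 D6565 D13801 F18341 D11266 (iv0 F18345) (iv5 D11201) (iv0 D5126) (iv4 F3770)
theorem F23051 : act 1 n12026 = n13801 := d15_0 (iv0 D13801) (iv7 F10878) (iv2 F19894)
def n13802 : Q := act 1 n6565
theorem D13802 : act 1 n6565 = n13802 := rfl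
theorem F23052 : act 1 n13802 = n12026 := d15_1 D13802 F19896 F19871
theorem F23053 : act 5 n13802 = n13395 := d17_7 (iv1 F10355) F10627 (iv1 D6567) (iv5 D2926) D2925 D6565 D13802 F22264 F18517
def n13803 : Q := act 4 n6565
theorem D13803 : act 4 n6565 = n13803 := rfl
def n13804 : Q := act 6 n6565
theorem D13804 : act 6 n6565 = n13804 := rfl
theorem F23054 : act 5 n13804 = n11359 := d12_1 D13804 (iv6 D11359) (iv5 F10112) (iv6 F10034) D6565
def n13805 : Q := act 4 n6566
theorem D13805 : act 4 n6566 = n13805 := rfl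
theorem F23055 : act 0 n13805 = n13442 := d18_2 D6566 D13805 (iv4 D13442) (iv5 D6386) F10076 F8746 F8728 F10031 D2926
theorem F23056 : act 1 n13805 = n13441 := d18_6 (iv1 D5269) (iv4 F7815) F18364 F18363 (iv5 F10623) D13805 (iv4 D13441) (iv0 F18582) (iv5 D11376)
def n13806 : Q := act 3 n6567
theorem D13806 : act 3 n6567 = n13806 := rfl
theorem F23057 : act 2 n13806 = n11376 := d0_1 D13806 F18579 (iv2 F8670) (iv3 F10880) (iv2 F10883)
theorem F23058 : act 5 n13806 = n11253 := d6_2 F10627 D13806 F18312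
theorem F23059 : act 6 n13806 = n12915 := d7_2 (iv6 F11543) D13806 F21461
theorem F23060 : act 7 n13806 = n11293 := d8_2 F10886 D13806 F18418
theorem F23061 : act 1 n11201 = n13806 := d15_1 (iv0 F18345) F23060 F18417
theorem F23062 : act 1 n13806 = n6618 := d15_1 F23061 F10720 (iv2 F18172)
def n13807 : Q := act 4 n6567
theorem D13807 : act 4 n6567 = n13807 := rfl
theorem F23063 : act 0 n13807 = n13441 := d18_2 (iv1 F10626) D13807 (iv4 D13441) (iv5 D6385) (iv4 F10287) F10285 F3721 D2379 D5693
theorem F23064 : act 1 n13807 = n13442 := d18_6 (iv1 F18320) (iv4 F19191) (iv1 F19193) (iv4 F18561) F10627 D13807 (iv4 D13442) (iv0 F18419) (iv5 D11293)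
def n13808 : Q := act 0 n6568
theorem D13808 : act 0 n6568 = n13808 := rfl
theorem F23065 : act 4 n13808 = n11266 := d18_3 (iv1 D6567) D6568 D13808 (iv5 D11266) (iv4 F18341) (iv0 F18342) F9891 D6360 F10627
theorem F23066 : act 1 n12028 = n13808 := d15_0 (iv0 D13808) (iv7 F10890) (iv2 F19903)
def n13809 : Q := act 1 n6568
theorem D13809 : act 1 n6568 = n13809 := rfl
theorem F23067 : act 1 n13809 = n12028 := d15_1 D13809 F19905 F19872
theorem F23068 : act 4 n13809 = n13806 := d18_7 F10080 (iv4 F3770) F4895 (iv4 D2925) D2926 D6568 D13809 F23062 (iv5 D6618)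
def n13810 : Q := act 3 n6568
theorem D13810 : act 3 n6568 = n13810 := rfl
theorem F23069 : act 4 n13810 = n6579 := d5_2 D6568 D13810 (iv3 D6579) (iv4 D2935) (iv3 F4527)
def n13811 : Q := act 5 n6568
theorem D13811 : act 5 n6568 = n13811 := rfl
def n13812 : Q := act 0 n6569
theorem D13812 : act 0 n6569 = n13812 := rfl
theorem F23070 : act 5 n13812 = n11632 := d21_2 D6569 D13812 F18975 (iv1 D6829) (iv6 D3084) (iv5 D1383) (iv1 F1502) (iv5 F3749) D2426 (iv1 F10277)
theorem F23071 : act 1 n12238 = n13812 := d15_0 (iv0 D13812) (iv7 F10895) (iv2 F20254)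
def n13813 : Q := act 1 n6569
theorem D13813 : act 1 n6569 = n13813 := rfl
theorem F23072 : act 1 n13813 = n12238 := d15_1 D13813 F20255 F20244
theorem F23073 : act 5 n11633 = n13813 := d21_6 F20284 (iv1 F19636) (iv5 D11915) D11916 (iv1 F19662) (iv6 F19041) (iv1 D13813) (iv5 D6569) (iv6 F10420) (iv1 F20330)
def n13814 : Q := act 4 n6569
theorem D13814 : act 4 n6569 = n13814 := rfl
def n13815 : Q := act 6 n6569
theorem D13815 : act 6 n6569 = n13815 := rfl
theorem F23074 : act 3 n13815 = n6573 := d7_1 D13815 (iv6 D6573) (iv3 F10628)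
theorem F23075 : act 5 n13815 = n11940 := d12_1 D13815 (iv6 D11940) (iv5 F10419) F10420 D6569
def n13816 : Q := act 3 n6570
theorem D13816 : act 3 n6570 = n13816 := rfl
theorem F23076 : act 5 n13816 = n7679 := d6_2 (iv5 F10629) D13816 F11927
def n13817 : Q := act 4 n6570
theorem D13817 : act 4 n6570 = n13817 := rfl
theorem F23077 : act 2 n13817 = n13742 := d1_1 D13817 F22993 (iv2 F10846)
theorem F23078 : act 7 n13817 = n13743 := d11_2 F10849 D13817 F22996
theorem F23079 : act 0 n13817 = n6653 := d18_2 D6570 D13817 (iv4 D6653) (iv5 D2984) F7731 F2383 (iv4 F2510) (iv0 F4888) D2931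
theorem F23080 : act 1 n13817 = n6646 := d18_6 (iv1 D5460) F3606 (iv1 F7889) (iv4 F5464) (iv5 F10629) D13817 (iv4 D6646) D6645 F10780
def n13818 : Q := act 6 n6570
theorem D13818 : act 6 n6570 = n13818 := rfl
theorem F23081 : act 5 n13818 = n7681 := d12_1 D13818 (iv6 D7681) (iv5 D3482) D3483 (iv5 F10629)
def n13819 : Q := act 3 n6571
theorem D13819 : act 3 n6571 = n13819 := rfl
theorem F23082 : act 5 n13819 = n11586 := d6_2 (iv5 F10632) D13819 F19330
theorem F23083 : act 0 n13819 = n6739 := d21_7 (iv5 F19313) (iv1 F18895) (iv5 D5392) D5393 (iv1 F20387) (iv6 F19331) (iv5 F23082) (iv5 D6739) D6740 (iv1 F19774)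
def n13820 : Q := act 4 n6571
theorem D13820 : act 4 n6571 = n13820 := rfl
theorem F23084 : act 2 n13820 = n13743 := d1_1 D13820 F22996 (iv2 F10851)
theorem F23085 : act 7 n13820 = n13742 := d11_2 (iv7 F10847) D13820 F22993
theorem F23086 : act 0 n13820 = n6646 := d18_2 (iv1 F10631) D13820 (iv4 D6646) (iv5 D2979) F7722 (iv0 D1278) (iv4 F1495) F4890 D2944
theorem F23087 : act 1 n13820 = n6653 := d18_6 (iv1 F8654) F8650 F8043 (iv4 F8222) (iv5 F10632) D13820 (iv4 D6653) F10775 F10774
def n13821 : Q := act 3 n6572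
theorem D13821 : act 3 n6572 = n13821 := rfl
def n13822 : Q := act 6 n6572
theorem D13822 : act 6 n6572 = n13822 := rfl
theorem F23088 : act 4 n13822 = n6573 := d10_1 D13822 (iv6 D6573) D6572
def n13823 : Q := act 0 n6573
theorem D13823 : act 0 n6573 = n13823 := rfl
theorem F23089 : act 5 n13823 = n11642 := d21_0 (iv1 D11642) (iv5 F11041) (iv6 D6784) (iv1 D3070) F2508 (iv5 D1364) F4889 D2931 D6573 D13823
def n13824 : Q := act 1 n6573
theorem D13824 : act 1 n6573 = n13824 := rfl
theorem F23090 : act 5 n11641 = n13824 := d21_0 (iv1 D13824) F10633 (iv6 D5603) (iv1 D2325) F2047 (iv5 D1086) D1084 D2223 D5406 D11641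
theorem F23091 : act 6 n11911 = n11641 := d21_5 (iv5 D1113) D1111 D2317 D5585 D11911 F23090 (iv1 D13824) F10633 (iv6 D5603) (iv1 D2325)
def n13825 : Q := act 7 n6573
theorem D13825 : act 7 n6573 = n13825 := rfl
theorem F23092 : act 5 n13825 = n11945 := d13_1 D13825 (iv7 D11945) (iv5 F10633)
def n13826 : Q := act 4 n6574
theorem D13826 : act 4 n6574 = n13826 := rfl
theorem F23094 : act 0 n13826 = n6619 := d18_2 F10636 D13826 (iv4 D6619) (iv5 D2966) F10282 F10278 F4310 F2458 D2962
def n13827 : Q := act 3 n6575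
theorem D13827 : act 3 n6575 = n13827 := rfl
def n13828 : Q := act 5 n6575
theorem D13828 : act 5 n6575 = n13828 := rfl
theorem F23096 : act 0 n13828 = n6706 := d17_2 (iv1 F10639) D13828 (iv5 D6706) (iv4 F7729) F7952 (iv0 F7956) D5326 (iv0 F8083) D6393
theorem F23097 : act 1 n13828 = n6709 := d17_6 (iv1 F2473) (iv5 F2474) (iv1 F4636) (iv5 F4533) D6575 D13828 (iv5 D6709) F4736 F4649
def n13829 : Q := act 3 n6576
theorem D13829 : act 3 n6576 = n13829 := rfl
theorem F23098 : act 4 n13829 = n13829 := d5_2 D6576 D13829 (iv3 D13829) (iv4 D6576) F5192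
def n13830 : Q := act 5 n6576
theorem D13830 : act 5 n6576 = n13830 := rfl
theorem F23099 : act 0 n13830 = n6709 := d17_2 (iv1 F10641) D13830 (iv5 D6709) (iv4 F7733) (iv5 D2354) D2353 D5649 (iv0 F8673) D6394
theorem F23100 : act 1 n13830 = n6706 := d17_6 D1354 F4585 (iv1 F4578) F4535 D6576 D13830 (iv5 D6706) (iv0 D3019) (iv4 D1356)
def n13831 : Q := act 3 n6577
theorem D13831 : act 3 n6577 = n13831 := rfl
def n13832 : Q := act 5 n6577
theorem D13832 : act 5 n6577 = n13832 := rfl
theorem F23101 : act 0 n13832 = n6698 := d17_2 D6577 D13832 (iv5 D6698) (iv4 D3014) F4585 (iv0 F4635) (iv5 F4533) (iv0 D2933) D2935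
theorem F23102 : act 1 n13832 = n6703 := d17_6 (iv1 F4377) (iv5 D2260) (iv1 F7889) D5361 (iv4 F10642) D13832 (iv5 D6703) F5410 F5409
def n13833 : Q := act 6 n6577
theorem D13833 : act 6 n6577 = n13833 := rfl
theorem F23103 : act 2 n13833 = n13683 := d3_1 D13833 F22833 (iv2 F10866)
theorem F23104 : act 4 n13833 = n7871 := d10_1 D13833 F12446 (iv4 F10642)
theorem F23105 : act 7 n13833 = n13687 := d14_2 F10869 D13833 F22849 F12561 (iv6 F12560)
theorem F23106 : act 5 n13833 = n12749 := d21_6 D5906 (iv1 F11326) (iv5 D7073) F5023 D6577 D13833 (iv1 F21160) (iv5 D7219) (iv6 D3324) (iv1 F3940)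
theorem F23107 : act 0 n12492 = n13833 := d21_4 D12414 (iv1 F20812) (iv5 D12491) D12492 (iv6 D13833) D13832 F23101 (iv5 D6698) D6699 (iv1 F11515)
theorem F23108 : act 2 n12749 = n7624 := d2_1 F23106 (iv5 F22834) (iv2 F23103)
theorem F23109 : act 7 n12749 = n7625 := d13_2 (iv7 F23105) F23106 (iv5 F22850)
theorem F23110 : act 2 n7625 = n12750 := d15_3 F21161 F21160 F23109
theorem F23111 : act 7 n7624 = n12750 := d4_2 (iv7 F23109) F23108 (iv2 F23110)
theorem F23112 : act 1 n7303 = n13687 := d15_1 F22835 (iv7 F23105) F23103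
def n13834 : Q := act 3 n6578
theorem D13834 : act 3 n6578 = n13834 := rfl
def n13835 : Q := act 5 n6578
theorem D13835 : act 5 n6578 = n13835 := rfl
theorem F23113 : act 0 n13835 = n6703 := d17_2 (iv1 F10644) D13835 (iv5 D6703) (iv4 D3017) (iv5 F2474) D2690 F4535 F4534 D2946
theorem F23114 : act 1 n13835 = n6698 := d17_6 D2803 F8042 F8043 D5466 (iv4 F10645) D13835 (iv5 D6698) F4985 F4019
def n13836 : Q := act 0 n6579
theorem D13836 : act 0 n6579 = n13836 := rfl
def n13837 : Q := act 1 n6579
theorem D13837 : act 1 n6579 = n13837 := rfl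
def n13838 : Q := act 2 n6579
theorem D13838 : act 2 n6579 = n13838 := rfl
def n13839 : Q := act 5 n6579
theorem D13839 : act 5 n6579 = n13839 := rfl
theorem F23115 : act 3 n13839 = n6580 := d6_1 D13839 (iv5 D6580) D6579
def n13840 : Q := act 6 n6580
theorem D13840 : act 6 n6580 = n13840 := rfl
def n13841 : Q := act 0 n6584
theorem D13841 : act 0 n6584 = n13841 := rfl
theorem F23116 : act 1 n6800 = n13841 := d15_0 (iv0 D13841) (iv7 F10843) (iv2 F22538)
def n13842 : Q := act 1 n6584
theorem D13842 : act 1 n6584 = n13842 := rfl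
theorem F23117 : act 1 n13842 = n6800 := d15_1 D13842 (iv7 F22524) (iv2 F22536)
theorem F23118 : act 5 n13842 = n7665 := d21_2 D6800 (iv1 F23117) (iv6 D7665) (iv1 D3472) (iv6 D1531) F1575 D1145 F3744 D1378 D3075
def n13843 : Q := act 4 n6584
theorem D13843 : act 4 n6584 = n13843 := rfl
def n13844 : Q := act 6 n6584
theorem D13844 : act 6 n6584 = n13844 := rfl
theorem F23119 : act 3 n13844 = n6587 := d7_1 D13844 (iv6 D6587) (iv3 F10648)
def n13845 : Q := act 0 n6585
theorem D13845 : act 0 n6585 = n13845 := rfl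
def n13846 : Q := act 5 n6585
theorem D13846 : act 5 n6585 = n13846 := rfl
theorem F23120 : act 3 n13846 = n6588 := d6_1 D13846 (iv5 D6588) (iv3 F10649)
def n13847 : Q := act 3 n6586
theorem D13847 : act 3 n6586 = n13847 := rfl
def n13848 : Q := act 6 n6586
theorem D13848 : act 6 n6586 = n13848 := rfl
theorem F23121 : act 4 n13848 = n6587 := d10_1 D13848 (iv6 D6587) D6586
def n13849 : Q := act 0 n6587
theorem D13849 : act 0 n6587 = n13849 := rfl
def n13850 : Q := act 5 n6587
theorem D13850 : act 5 n6587 = n13850 := rfl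
theorem F23122 : act 6 n13850 = n6588 := d12_2 D6587 D13850 (iv5 D6588) (iv6 D2945) D2944
def n13851 : Q := act 7 n6587
theorem D13851 : act 7 n6587 = n13851 := rfl
theorem F23123 : act 1 n12307 = n13851 := d15_1 (iv0 F20423) (iv7 D13851) (iv2 F10899)
def n13852 : Q := act 4 n6588
theorem D13852 : act 4 n6588 = n13852 := rfl
theorem F23124 : act 0 n13852 = n11488 := d18_2 (iv1 F10651) D13852 (iv4 D11488) (iv5 D5347) (iv4 F5201) F2182 (iv4 F2679) F2683 D3114
theorem F23125 : act 1 n13852 = n11481 := d18_6 F8667 F3849 (iv1 F4540) (iv4 F4639) D6588 D13852 (iv4 D11481) D11480 F18758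
def n13853 : Q := act 0 n6589
theorem D13853 : act 0 n6589 = n13853 := rfl
def n13854 : Q := act 1 n6589
theorem D13854 : act 1 n6589 = n13854 := rfl
def n13855 : Q := act 2 n6589
theorem D13855 : act 2 n6589 = n13855 := rfl
def n13856 : Q := act 5 n6589
theorem D13856 : act 5 n6589 = n13856 := rfl
theorem F23126 : act 3 n13856 = n6590 := d6_1 D13856 (iv5 D6590) D6589
def n13857 : Q := act 6 n6590
theorem D13857 : act 6 n6590 = n13857 := rfl
def n13858 : Q := act 3 n6591
theorem D13858 : act 3 n6591 = n13858 := rfl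
def n13859 : Q := act 5 n6591
theorem D13859 : act 5 n6591 = n13859 := rfl
theorem F23127 : act 0 n13859 = n7720 := d17_2 (iv1 F10691) D13859 (iv5 D7720) F5515 F4438 (iv0 F7990) (iv5 F7938) (iv0 D5315) D5317
theorem F23128 : act 1 n13859 = n7722 := d17_6 (iv1 F4058) (iv5 F2688) (iv1 F4540) D2947 D6591 D13859 (iv5 D7722) F9406 F9405
def n13860 : Q := act 3 n6592
theorem D13860 : act 3 n6592 = n13860 := rfl
theorem F23129 : act 4 n13860 = n6594 := d5_2 D6592 D13860 (iv3 D6594) (iv4 D2949) D2948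
def n13861 : Q := act 5 n6592
theorem D13861 : act 5 n6592 = n13861 := rfl
def n13862 : Q := act 6 n6592
theorem D13862 : act 6 n6592 = n13862 := rfl
theorem F23130 : act 4 n13862 = n6593 := d10_1 D13862 (iv6 D6593) D6592
def n13863 : Q := act 0 n6594
theorem D13863 : act 0 n6594 = n13863 := rfl
def n13864 : Q := act 1 n6594
theorem D13864 : act 1 n6594 = n13864 := rfl
def n13865 : Q := act 2 n6594
theorem D13865 : act 2 n6594 = n13865 := rfl
def n13866 : Q := act 5 n6594
theorem D13866 : act 5 n6594 = n13866 := rfl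
theorem F23131 : act 3 n13866 = n6595 := d6_1 D13866 (iv5 D6595) D6594
def n13867 : Q := act 6 n6594
theorem D13867 : act 6 n6594 = n13867 := rfl
theorem F23132 : act 3 n13867 = n6596 := d7_1 D13867 (iv6 D6596) D6594
def n13868 : Q := act 0 n6595
theorem D13868 : act 0 n6595 = n13868 := rfl
theorem F23133 : act 5 n13868 = n6679 := d17_3 (iv1 F4893) D6595 D13868 F10870 (iv5 D5649) F7958 (iv5 F7952) (iv0 D2792) (iv4 F2620)
theorem F23134 : act 1 n6598 = n13868 := d15_0 (iv0 D13868) (iv7 F10925) F10924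
theorem F23135 : act 2 n13835 = n13868 := d2_3 F23133 (iv2 F10871) D13835
theorem F23136 : act 7 n13832 = n13868 := d13_0 F23133 F10869 D13832
def n13869 : Q := act 1 n6595
theorem D13869 : act 1 n6595 = n13869 := rfl
theorem F23137 : act 1 n13869 = n6598 := d15_1 D13869 (iv7 F10913) F10912
theorem F23138 : act 7 n13869 = n13835 := d15_2 (iv0 D13868) D13869 F23135
theorem F23139 : act 5 n13869 = n6678 := d17_7 D2999 F4691 F4693 F4584 D2949 D6595 D13869 (iv0 D6678) (iv4 D3001)
theorem F23140 : act 2 n13832 = n13869 := d2_3 F23139 (iv2 F10866) D13832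
def n13870 : Q := act 6 n6595
theorem D13870 : act 6 n6595 = n13870 := rfl
def n13871 : Q := act 0 n6597
theorem D13871 : act 0 n6597 = n13871 := rfl
def n13872 : Q := act 1 n6597
theorem D13872 : act 1 n6597 = n13872 := rfl
def n13873 : Q := act 2 n6597
theorem D13873 : act 2 n6597 = n13873 := rfl
def n13874 : Q := act 5 n6597
theorem D13874 : act 5 n6597 = n13874 := rfl
theorem F23141 : act 3 n13874 = n6598 := d6_1 D13874 (iv5 D6598) D6597
def n13875 : Q := act 6 n6597
theorem D13875 : act 6 n6597 = n13875 := rfl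
theorem F23142 : act 3 n13875 = n6599 := d7_1 D13875 (iv6 D6599) D6597
theorem F23143 : act 7 n13858 = n13875 := d8_0 F23142 (iv7 F10696) D13858
def n13876 : Q := act 6 n6598
theorem D13876 : act 6 n6598 = n13876 := rfl
def n13877 : Q := act 5 n6599
theorem D13877 : act 5 n6599 = n13877 := rfl
theorem F23144 : act 7 n13877 = n13859 := d13_2 F10696 D13877 (iv5 D13859)
theorem F23145 : act 0 n13877 = n11441 := d17_2 F10697 D13877 (iv5 D11441) (iv4 D5330) (iv5 F3541) (iv0 F3702) F8153 F8151 D5360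
theorem F23146 : act 1 n13877 = n11439 := d17_6 F2569 F3897 F3905 (iv5 F4643) (iv4 F10695) D13877 (iv5 D11439) (iv0 F8092) (iv4 D2551)
def n13878 : Q := act 0 n6600
theorem D13878 : act 0 n6600 = n13878 := rfl
def n13879 : Q := act 1 n6600
theorem D13879 : act 1 n6600 = n13879 := rfl
def n13880 : Q := act 2 n6600
theorem D13880 : act 2 n6600 = n13880 := rfl
def n13881 : Q := act 5 n6600
theorem D13881 : act 5 n6600 = n13881 := rfl
theorem F23147 : act 3 n13881 = n6601 := d6_1 D13881 (iv5 D6601) D6600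
def n13882 : Q := act 6 n6600
theorem D13882 : act 6 n6600 = n13882 := rfl
theorem F23148 : act 3 n13882 = n6602 := d7_1 D13882 (iv6 D6602) D6600
def n13883 : Q := act 0 n6601
theorem D13883 : act 0 n6601 = n13883 := rfl
theorem F23149 : act 5 n13883 = n6677 := d17_3 D2954 D6601 D13883 (iv4 D6677) (iv5 F4698) F4577 F4584 (iv0 D1332) D1334
theorem F23150 : act 1 n6604 = n13883 := d15_0 (iv0 D13883) (iv7 F10939) F10938
theorem F23151 : act 2 n13830 = n13883 := d2_3 F23149 F10860 D13830
theorem F23152 : act 7 n13828 = n13883 := d13_0 F23149 F10861 D13828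
def n13884 : Q := act 1 n6601
theorem D13884 : act 1 n6601 = n13884 := rfl
theorem F23153 : act 1 n13884 = n6604 := d15_1 D13884 (iv7 F10933) F10932
theorem F23154 : act 7 n13884 = n13830 := d15_2 (iv0 D13883) D13884 F23151
theorem F23155 : act 5 n13884 = n6676 := d17_7 F8164 (iv5 D5361) (iv1 F8044) (iv5 F8042) F5102 D6601 D13884 F10859 (iv4 D6391)
theorem F23156 : act 2 n13828 = n13884 := d2_3 F23155 F10856 D13828
def n13885 : Q := act 6 n6601
theorem D13885 : act 6 n6601 = n13885 := rfl
def n13886 : Q := act 0 n6603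
theorem D13886 : act 0 n6603 = n13886 := rfl
def n13887 : Q := act 1 n6603
theorem D13887 : act 1 n6603 = n13887 := rfl
def n13888 : Q := act 2 n6603
theorem D13888 : act 2 n6603 = n13888 := rfl
def n13889 : Q := act 4 n6603
theorem D13889 : act 4 n6603 = n13889 := rfl
theorem F23157 : act 3 n13889 = n11708 := d5_1 D13889 (iv4 D11708) F8273 F5106 D6603
def n13890 : Q := act 5 n6603
theorem D13890 : act 5 n6603 = n13890 := rfl
theorem F23158 : act 3 n13890 = n6604 := d6_1 D13890 (iv5 D6604) D6603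
def n13891 : Q := act 6 n6603
theorem D13891 : act 6 n6603 = n13891 := rfl
theorem F23159 : act 3 n13891 = n6605 := d7_1 D13891 (iv6 D6605) D6603
def n13892 : Q := act 6 n6604
theorem D13892 : act 6 n6604 = n13892 := rfl
def n13893 : Q := act 5 n6605
theorem D13893 : act 5 n6605 = n13893 := rfl
theorem F23160 : act 0 n13893 = n7098 := d17_2 F10701 D13893 (iv5 D7098) (iv4 D3238) (iv5 D1437) D1436 (iv5 F4643) (iv0 F4645) D3501
theorem F23161 : act 1 n13893 = n7129 := d17_6 D2206 F4438 F4439 F7942 (iv4 F10700) D13893 (iv5 D7129) F5501 (iv4 D2208)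
def n13894 : Q := act 0 n6606
theorem D13894 : act 0 n6606 = n13894 := rfl
theorem F23162 : act 2 n6610 = n13894 := d15_3 (iv0 D13894) (iv0 D6606) D6610
theorem F23164 : act 7 n13894 = n6608 := d4_2 D6610 F23162 (iv2 D6608)
theorem F23165 : act 1 n6607 = n13894 := d15_1 D6607 F23164 (iv2 D6608)
def n13895 : Q := act 2 n6606
theorem D13895 : act 2 n6606 = n13895 := rfl
theorem F23166 : act 7 n6607 = n13895 := d15_2 (iv0 D6606) D6607 (iv2 D13895)
def n13896 : Q := act 3 n6606
theorem D13896 : act 3 n6606 = n13896 := rfl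
def n13897 : Q := act 4 n6606
theorem D13897 : act 4 n6606 = n13897 := rfl
def n13898 : Q := act 5 n6606
theorem D13898 : act 5 n6606 = n13898 := rfl
def n13899 : Q := act 6 n6606
theorem D13899 : act 6 n6606 = n13899 := rfl
def n13900 : Q := act 7 n6606
theorem D13900 : act 7 n6606 = n13900 := rfl
theorem F23167 : act 2 n13900 = n6607 := d4_1 D13900 F23166 (iv2 D13895)
def n13901 : Q := act 3 n6607
theorem D13901 : act 3 n6607 = n13901 := rfl
def n13902 : Q := act 4 n6607
theorem D13902 : act 4 n6607 = n13902 := rfl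
def n13903 : Q := act 5 n6607
theorem D13903 : act 5 n6607 = n13903 := rfl
def n13904 : Q := act 6 n6607
theorem D13904 : act 6 n6607 = n13904 := rfl
def n13905 : Q := act 0 n6608
theorem D13905 : act 0 n6608 = n13905 := rfl
theorem F23168 : act 1 n6610 = n13905 := d15_0 (iv0 D13905) (iv7 F23164) (iv2 F23162)
def n13906 : Q := act 1 n6608
theorem D13906 : act 1 n6608 = n13906 := rfl
theorem F23169 : act 1 n13906 = n6610 := d15_1 D13906 (iv7 D6610) D6608
def n13907 : Q := act 5 n6608
theorem D13907 : act 5 n6608 = n13907 := rfl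
theorem F23170 : act 2 n13907 = n6609 := d2_1 D13907 (iv5 D6609) D6608
def n13908 : Q := act 0 n6609
theorem D13908 : act 0 n6609 = n13908 := rfl
def n13909 : Q := act 1 n6609
theorem D13909 : act 1 n6609 = n13909 := rfl
def n13910 : Q := act 4 n6609
theorem D13910 : act 4 n6609 = n13910 := rfl
def n13911 : Q := act 6 n6609
theorem D13911 : act 6 n6609 = n13911 := rfl
theorem F23171 : act 3 n13911 = n6614 := d7_1 D13911 (iv6 D6614) (iv3 F10705)
theorem F23172 : act 5 n13911 = n7378 := d12_1 D13911 (iv6 D7378) (iv5 D3384) (iv6 F4648) D6609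
def n13912 : Q := act 7 n6609
theorem D13912 : act 7 n6609 = n13912 := rfl
theorem F23173 : act 3 n13912 = n6615 := d8_1 D13912 (iv7 D6615) (iv3 F10705)
theorem F23174 : act 5 n13912 = n6610 := d13_1 D13912 (iv7 D6610) D6609
def n13913 : Q := act 3 n6611
theorem D13913 : act 3 n6611 = n13913 := rfl
theorem F23175 : act 5 n13913 = n13446 := d6_2 (iv5 F10708) D13913 (iv3 D13446)
def n13914 : Q := act 6 n6611
theorem D13914 : act 6 n6611 = n13914 := rfl
def n13915 : Q := act 3 n6612
theorem D13915 : act 3 n6612 = n13915 := rfl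
theorem F23176 : act 5 n13915 = n13447 := d6_2 (iv5 F10709) D13915 (iv3 D13447)
def n13916 : Q := act 6 n6612
theorem D13916 : act 6 n6612 = n13916 := rfl
def n13917 : Q := act 3 n6613
theorem D13917 : act 3 n6613 = n13917 := rfl
def n13918 : Q := act 6 n6613
theorem D13918 : act 6 n6613 = n13918 := rfl
theorem F23177 : act 4 n13918 = n6614 := d10_1 D13918 (iv6 D6614) D6613
def n13919 : Q := act 0 n6614
theorem D13919 : act 0 n6614 = n13919 := rfl
def n13920 : Q := act 1 n6614
theorem D13920 : act 1 n6614 = n13920 := rfl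
def n13921 : Q := act 7 n6614
theorem D13921 : act 7 n6614 = n13921 := rfl
theorem F23178 : act 5 n13921 = n7385 := d13_1 D13921 (iv7 D7385) (iv5 F10710)
def n13922 : Q := act 6 n6615
theorem D13922 : act 6 n6615 = n13922 := rfl
def n13923 : Q := act 4 n6616
theorem D13923 : act 4 n6616 = n13923 := rfl
theorem F23182 : act 1 n13923 = n6619 := d18_6 (iv1 F10394) F10392 (iv1 F9031) (iv4 F10384) F10714 D13923 (iv4 D6619) (iv0 F10637) F10635
def n13925 : Q := act 5 n6617
theorem D13925 : act 5 n6617 = n13925 := rfl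
theorem F23184 : act 6 n13925 = n13925 := d12_2 F11406 D13925 (iv5 D13925) (iv6 F11406) F11405
def n13926 : Q := act 4 n6618
theorem D13926 : act 4 n6618 = n13926 := rfl
theorem F23186 : act 2 n13926 = n13442 := d1_1 D13926 (iv4 D13442) (iv2 F10718)
theorem F23187 : act 6 n13926 = n12160 := d10_2 F10721 D13926 F20110
theorem F23188 : act 7 n13926 = n13441 := d11_2 (iv7 F10720) D13926 (iv4 D13441)
def n13929 : Q := act 4 n6620
theorem D13929 : act 4 n6620 = n13929 := rfl
theorem F23195 : act 1 n13929 = n12766 := d18_6 (iv1 D5857) (iv4 F9925) (iv1 F10389) F10320 D6620 D13929 (iv4 D12766) F10742 F10739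
def n13932 : Q := act 6 n6622
theorem D13932 : act 6 n6622 = n13932 := rfl
theorem F23198 : act 4 n13932 = n6623 := d10_1 D13932 (iv6 D6623) D6622
theorem F23199 : act 0 n13932 = n7149 := d20_1 (iv4 F23198) F11465 F5289 D3303 (iv3 F10070) D8178 (iv1 F12945) F11481 (iv3 F11474) (iv1 F11476)
def n13933 : Q := act 3 n6624
theorem D13933 : act 3 n6624 = n13933 := rfl
def n13934 : Q := act 5 n6624
theorem D13934 : act 5 n6624 = n13934 := rfl
def n13935 : Q := act 6 n6624
theorem D13935 : act 6 n6624 = n13935 := rfl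
theorem F23204 : act 4 n13935 = n6625 := d10_1 D13935 (iv6 D6625) D6624
theorem F23207 : act 1 n12766 = n13935 := d18_6 (iv1 F10281) F2351 D1336 F10283 D6038 D12766 F23204 (iv0 F10741) (iv5 D3496)
def n13944 : Q := act 5 n6629
theorem D13944 : act 5 n6629 = n13944 := rfl
theorem F23224 : act 3 n13944 = n6630 := d6_1 D13944 (iv5 D6630) D6629
def n13945 : Q := act 6 n6629
theorem D13945 : act 6 n6629 = n13945 := rfl
theorem F23225 : act 3 n13945 = n6631 := d7_1 D13945 (iv6 D6631) D6629
theorem F23226 : act 4 n13945 = n6917 := d10_1 D13945 (iv6 D6917) (iv4 F10753)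
def n13946 : Q := act 0 n6630
theorem D13946 : act 0 n6630 = n13946 := rfl
theorem F23227 : act 5 n13946 = n12023 := d17_3 D2972 D6630 D13946 F19887 (iv5 F18331) (iv0 D11259) (iv5 D5189) (iv0 D2133) (iv4 F2461)
theorem F23228 : act 1 n6633 = n13946 := d15_0 (iv0 D13946) (iv7 F18361) F18360
theorem F23229 : act 2 n13737 = n13946 := d2_3 F23227 F19886 (iv5 F22982)
theorem F23230 : act 3 n13708 = n13946 := d6_3 F23227 (iv3 F22144) (iv5 F22955)
def n13947 : Q := act 1 n6630
theorem D13947 : act 1 n6630 = n13947 := rfl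
theorem F23231 : act 1 n13947 = n6633 := d15_1 D13947 (iv7 F18359) F18358
theorem F23232 : act 7 n13947 = n13737 := d15_2 (iv0 D13946) D13947 F23229
theorem F23233 : act 5 n11375 = n13947 := d21_6 D11383 F18603 (iv5 D5741) D5742 (iv1 F10186) D11375 (iv1 D13947) (iv5 D6630) D6631 F10755
theorem F23234 : act 3 n13947 = n6645 := d6_1 F23233 F10780 (iv3 F18575)
def n13948 : Q := act 4 n6630
theorem D13948 : act 4 n6630 = n13948 := rfl
def n13949 : Q := act 6 n6630
theorem D13949 : act 6 n6630 = n13949 := rfl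
def n13950 : Q := act 5 n6632
theorem D13950 : act 5 n6632 = n13950 := rfl
theorem F23235 : act 3 n13950 = n6633 := d6_1 D13950 (iv5 D6633) D6632
def n13951 : Q := act 6 n6632
theorem D13951 : act 6 n6632 = n13951 := rfl
theorem F23236 : act 3 n13951 = n6634 := d7_1 D13951 (iv6 D6634) D6632
def n13952 : Q := act 4 n6633
theorem D13952 : act 4 n6633 = n13952 := rfl
def n13953 : Q := act 6 n6633
theorem D13953 : act 6 n6633 = n13953 := rfl
def n13954 : Q := act 5 n6634
theorem D13954 : act 5 n6634 = n13954 := rfl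
theorem F23237 : act 0 n13954 = n7706 := d17_2 (iv1 F19052) D13954 (iv5 D7706) F10291 D6618 (iv0 F18344) (iv5 D11266) F18314 (iv4 F10140)
theorem F23238 : act 1 n13954 = n12009 := d17_6 D2372 D5675 (iv1 F10885) (iv5 F10887) (iv4 F10756) D13954 (iv5 D12009) (iv0 D5670) F3714
def n13955 : Q := act 3 n6635
theorem D13955 : act 3 n6635 = n13955 := rfl
def n13956 : Q := act 4 n6635
theorem D13956 : act 4 n6635 = n13956 := rfl
theorem F23239 : act 1 n13956 = n11313 := d18_6 F18001 F10879 F10019 (iv4 F20010) F20011 D13956 (iv4 D11313) D11312 (iv5 F18468)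
def n13957 : Q := act 6 n6635
theorem D13957 : act 6 n6635 = n13957 := rfl
def n13958 : Q := act 3 n6636
theorem D13958 : act 3 n6636 = n13958 := rfl
def n13959 : Q := act 4 n6636
theorem D13959 : act 4 n6636 = n13959 := rfl
theorem F23240 : act 0 n13959 = n11313 := d18_2 (iv1 F18372) D13959 (iv4 D11313) (iv5 D5225) F3517 D2283 F10250 F7761 (iv5 F18370)
def n13960 : Q := act 6 n6636
theorem D13960 : act 6 n6636 = n13960 := rfl
def n13961 : Q := act 0 n6637
theorem D13961 : act 0 n6637 = n13961 := rfl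
def n13962 : Q := act 1 n6637
theorem D13962 : act 1 n6637 = n13962 := rfl
theorem F23241 : act 4 n13962 = n11304 := d18_7 (iv1 F10238) (iv4 D5193) (iv1 D2134) (iv4 F2461) D2974 D6637 D13962 F18474 F18472
def n13963 : Q := act 3 n6637
theorem D13963 : act 3 n6637 = n13963 := rfl
theorem F23242 : act 4 n13963 = n6664 := d5_2 D6637 D13963 (iv3 D6664) (iv4 D2988) (iv3 F4660)
theorem F23243 : act 6 n13963 = n13729 := d7_2 (iv6 F10757) D13963 (iv3 D13729)
def n13964 : Q := act 5 n6637
theorem D13964 : act 5 n6637 = n13964 := rfl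
def n13965 : Q := act 7 n6637
theorem D13965 : act 7 n6637 = n13965 := rfl
theorem F23244 : act 4 n13965 = n6638 := d11_1 D13965 (iv7 D6638) D6637
def n13966 : Q := act 6 n6638
theorem D13966 : act 6 n6638 = n13966 := rfl
theorem F23245 : act 3 n13966 = n6667 := d7_1 D13966 (iv6 D6667) (iv3 F10758)
theorem F23246 : act 5 n13966 = n13966 := d12_1 D13966 (iv6 D13966) F10759 F4664 (iv5 F10759)
theorem F23247 : act 7 n13966 = n13732 := d14_2 D6638 D13966 (iv6 D13732) (iv7 D6535) (iv6 F4661)
def n13967 : Q := act 4 n6639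
theorem D13967 : act 4 n6639 = n13967 := rfl
theorem F23248 : act 2 n13967 = n13319 := d1_1 D13967 F22137 F19483
theorem F23249 : act 6 n13967 = n13967 := d10_2 F19453 D13967 (iv4 D13967)
theorem F23250 : act 7 n13967 = n11138 := d11_2 (iv7 F19454) D13967 F18082
theorem F23251 : act 0 n13967 = n13317 := d20_1 D13967 (iv4 F22918) (iv3 D6742) (iv1 D3031) F2491 F1495 D1278 (iv4 F7722) D2977 D6639
theorem F23252 : act 0 n13316 = n13967 := d20_10 (iv4 D13967) (iv1 F10760) F11082 F19542 (iv1 D11530) F8196 (iv4 F8198) (iv1 F22507) D13703 F22947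
def n13968 : Q := act 5 n6639
theorem D13968 : act 5 n6639 = n13968 := rfl
theorem F23253 : act 2 n13968 = n13750 := d2_1 D13968 (iv5 D13750) F19483
theorem F23254 : act 7 n13968 = n11141 := d13_2 (iv7 F19454) D13968 (iv5 D11141)
theorem F23255 : act 0 n13968 = n13775 := d17_2 D6639 D13968 F23026 F19065 D12257 (iv0 F20323) F11115 (iv0 F10771) (iv4 D6642)
theorem F23256 : act 1 n13968 = n6656 := d15_1 (iv0 F23255) F10803 D13775
theorem F23257 : act 1 n6656 = n11145 := d15_1 F23256 (iv7 F23005) (iv2 F23253)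
def n13969 : Q := act 5 n6641
theorem D13969 : act 5 n6641 = n13969 := rfl
theorem F23258 : act 2 n13969 = n6643 := d2_1 D13969 (iv5 D6643) D6641
theorem F23259 : act 3 n13969 = n13455 := d6_1 D13969 (iv5 D13455) F19534
theorem F23260 : act 7 n13969 = n13751 := d13_2 (iv7 F10762) D13969 (iv5 D13751)
theorem F23261 : act 1 n13754 = n13969 := d15_1 D13754 F23260 F23007
theorem F23262 : act 5 n13754 = n11418 := d21_2 D13969 (iv1 F23261) (iv6 D11418) (iv1 D5305) (iv6 D2169) F1986 D1286 (iv5 F3750) D5093 (iv1 F19481)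
theorem F23263 : act 6 n13757 = n11739 := d21_5 (iv5 F23262) (iv1 D13754) (iv5 D6547) D6548 D13757 (iv5 F20310) (iv1 F19829) (iv5 D11718) D11719 F22964
theorem F23264 : act 7 n11155 = n13757 := d14_0 F23263 F20308 F20274 F18946 D11155
theorem F23265 : act 5 n11419 = n13757 := d21_2 D5306 D11419 F23263 (iv1 F19858) F19856 D13969 (iv1 F23261) F23262 (iv6 D11418) (iv1 D5305)
theorem F23266 : act 1 n13969 = n13753 := d15_0 (iv0 D13753) (iv7 F10773) (iv2 F23258)
def n13970 : Q := act 5 n6642
theorem D13970 : act 5 n6642 = n13970 := rfl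
theorem F23267 : act 2 n13970 = n6852 := d2_1 D13970 (iv5 D6852) (iv2 F10769)
theorem F23268 : act 3 n13970 = n12013 := d6_1 D13970 (iv5 D12013) (iv3 F10766)
theorem F23269 : act 7 n13970 = n6854 := d13_2 (iv7 F10767) D13970 (iv5 D6854)
def n13971 : Q := act 0 n6643
theorem D13971 : act 0 n6643 = n13971 := rfl
theorem F23270 : act 1 n13751 = n13971 := d15_0 (iv0 D13971) F10773 (iv2 F23007)
def n13972 : Q := act 1 n6643
theorem D13972 : act 1 n6643 = n13972 := rfl
theorem F23271 : act 1 n13972 = n13751 := d15_1 D13972 (iv7 F23260) F23258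
def n13973 : Q := act 4 n6643
theorem D13973 : act 4 n6643 = n13973 := rfl
theorem F23272 : act 7 n13973 = n13755 := d11_2 (iv7 F10773) D13973 (iv4 D13755)
def n13974 : Q := act 6 n6643
theorem D13974 : act 6 n6643 = n13974 := rfl
theorem F23273 : act 3 n13974 = n6647 := d7_1 D13974 (iv6 D6647) (iv3 F10772)
theorem F23274 : act 5 n13974 = n13381 := d12_1 D13974 (iv6 D13381) F9868 F8721 D6643
def n13975 : Q := act 3 n6644
theorem D13975 : act 3 n6644 = n13975 := rfl
theorem F23275 : act 2 n13975 = n13708 := d0_1 D13975 F23230 (iv2 F23229) (iv3 D13737) F10776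
theorem F23276 : act 5 n13975 = n11487 := d6_2 (iv5 F10774) D13975 F18773
theorem F23277 : act 7 n13975 = n13709 := d8_2 F10777 D13975 F22960
theorem F23278 : act 0 n13693 = n13975 := d21_1 D13693 F23276 (iv6 D11487) (iv1 F19503) (iv6 D2291) (iv5 D1102) (iv1 F1967) (iv5 F2438) D2898 D6518
theorem F23279 : act 1 n13695 = n13975 := d15_0 (iv0 F23278) (iv7 F22934) F22943
def n13976 : Q := act 4 n6644
theorem D13976 : act 4 n6644 = n13976 := rfl
theorem F23280 : act 2 n13976 = n13738 := d1_1 D13976 (iv4 D13738) F10776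
theorem F23281 : act 7 n13976 = n13740 := d11_2 F10777 D13976 (iv4 D13740)
theorem F23282 : act 0 n13976 = n6691 := d18_2 D6644 D13976 (iv4 D6691) (iv5 D3009) (iv4 D1351) F1486 (iv4 F2444) F2468 D2979
theorem F23283 : act 1 n13976 = n6674 := d18_6 (iv1 D5587) F4872 (iv1 F4694) (iv4 F8131) (iv5 F10774) D13976 (iv4 D6674) D6673 F10850
def n13977 : Q := act 6 n6644
theorem D13977 : act 6 n6644 = n13977 := rfl
theorem F23284 : act 2 n13977 = n13739 := d3_1 D13977 (iv6 D13739) F10776
theorem F23285 : act 5 n13977 = n11489 := d12_1 D13977 (iv6 D11489) (iv5 D5347) D5348 (iv5 F10774)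
def n13978 : Q := act 4 n6645
theorem D13978 : act 4 n6645 = n13978 := rfl
theorem F23286 : act 2 n13978 = n13740 := d1_1 D13978 (iv4 D13740) F10781
theorem F23287 : act 7 n13978 = n13738 := d11_2 (iv7 F10779) D13978 (iv4 D13738)
theorem F23288 : act 0 n13978 = n6674 := d18_2 (iv1 F10778) D13978 (iv4 D6674) (iv5 D2998) (iv4 D1347) (iv0 D770) (iv4 F1485) D1342 D2984
theorem F23289 : act 1 n13978 = n6691 := d18_6 F8228 F8226 (iv1 F4577) (iv4 F8285) (iv5 F10780) D13978 (iv4 D6691) F10845 F10844
def n13979 : Q := act 3 n6646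
theorem D13979 : act 3 n6646 = n13979 := rfl
theorem F23290 : act 7 n13979 = n13760 := d8_2 (iv7 F10783) D13979 (iv3 D13760)
def n13980 : Q := act 5 n6646
theorem D13980 : act 5 n6646 = n13980 := rfl
theorem F23291 : act 2 n13980 = n13745 := d2_1 D13980 (iv5 D13745) (iv2 F10782)
theorem F23292 : act 7 n13980 = n13761 := d13_2 (iv7 F10783) D13980 (iv5 D13761)
theorem F23293 : act 4 n13980 = n6717 := d16_2 D6646 D13980 F10954 (iv4 D6392) (iv5 D2790) (iv4 F7731) D2984 (iv7 F8017) (iv2 F8018)
theorem F23294 : act 0 n13980 = n7484 := d17_2 F23086 D13980 F11733 F11045 F4799 (iv0 F4888) D2931 D6571 D13820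
theorem F23295 : act 1 n13980 = n6755 := d17_6 (iv1 D2987) (iv5 D1343) D1341 D2979 D6646 D13980 (iv5 D6755) (iv0 F10812) (iv4 D6660)
def n13981 : Q := act 6 n6646
theorem D13981 : act 6 n6646 = n13981 := rfl
theorem F23296 : act 2 n13981 = n13746 := d3_1 D13981 (iv6 D13746) (iv2 F10782)
theorem F23297 : act 4 n13981 = n6647 := d10_1 D13981 (iv6 D6647) D6646
def n13982 : Q := act 0 n6647
theorem D13982 : act 0 n6647 = n13982 := rfl
theorem F23298 : act 6 n13982 = n13747 := d21_5 (iv5 D1343) D1341 D2979 D6647 D13982 F23001 (iv1 D11971) (iv5 F10814) (iv6 D6661) (iv1 D2987)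
theorem F23299 : act 5 n13982 = n11736 := d21_0 (iv1 D11736) (iv5 F10617) (iv6 D6557) (iv1 D2914) (iv6 F2464) (iv5 D1343) D1341 D2979 D6647 D13982
def n13983 : Q := act 1 n6647
theorem D13983 : act 1 n6647 = n13983 := rfl
theorem F23300 : act 1 n13983 = n13749 := d15_1 D13983 (iv7 D13749) (iv2 F10784)
theorem F23301 : act 5 n11735 = n13983 := d21_0 (iv1 D13983) F10785 (iv6 D6342) (iv1 D2665) (iv6 F2362) (iv5 D1265) (iv1 F5085) D2250 D5458 D11735
def n13984 : Q := act 7 n6647
theorem D13984 : act 7 n6647 = n13984 := rfl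
theorem F23302 : act 2 n13984 = n13749 := d4_1 D13984 (iv7 D13749) (iv2 F10784)
theorem F23303 : act 5 n13984 = n13384 := d13_1 D13984 (iv7 D13384) (iv5 F10785)
theorem F23304 : act 6 n13984 = n13765 := d14_1 D13984 (iv7 D13765) (iv6 D6550) (iv7 F8006) D6647
theorem F23305 : act 1 n13749 = n13982 := d15_0 (iv0 D13982) D13984 F23302
theorem F23306 : act 1 n13748 = n13984 := d15_1 D13748 (iv7 D13984) F10784
theorem F23307 : act 5 n13781 = n13431 := d21_0 (iv1 F22352) (iv5 F23303) F23304 (iv1 F23019) F22656 F10780 (iv1 D5460) F5086 D6557 D13781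
theorem F23308 : act 1 n13984 = n13747 := d15_0 (iv0 D13747) D13749 (iv2 F23302)
def n13985 : Q := act 0 n6651
theorem D13985 : act 0 n6651 = n13985 := rfl
theorem F23309 : act 1 n13455 = n13985 := d15_0 (iv0 D13985) F10794 (iv2 F22401)
def n13986 : Q := act 1 n6651
theorem D13986 : act 1 n6651 = n13986 := rfl
theorem F23310 : act 1 n13986 = n13455 := d15_1 D13986 (iv7 F22419) F22418
theorem F23311 : act 5 n13986 = n11474 := d21_2 D13455 (iv1 F23310) (iv6 D11474) (iv1 D5341) (iv6 D2191) F1991 D2087 F3750 D2807 D6397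
def n13987 : Q := act 4 n6651
theorem D13987 : act 4 n6651 = n13987 := rfl
theorem F23312 : act 7 n13987 = n13735 := d11_2 (iv7 F10794) D13987 (iv4 D13735)
def n13988 : Q := act 6 n6651
theorem D13988 : act 6 n6651 = n13988 := rfl
theorem F23313 : act 3 n13988 = n6654 := d7_1 D13988 (iv6 D6654) (iv3 F10793)
def n13989 : Q := act 0 n6652
theorem D13989 : act 0 n6652 = n13989 := rfl
def n13990 : Q := act 1 n6652
theorem D13990 : act 1 n6652 = n13990 := rfl
def n13991 : Q := act 5 n6652
theorem D13991 : act 5 n6652 = n13991 := rfl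
theorem F23314 : act 3 n13991 = n6655 := d6_1 D13991 (iv5 D6655) (iv3 F10795)
def n13992 : Q := act 3 n6653
theorem D13992 : act 3 n6653 = n13992 := rfl
theorem F23315 : act 7 n13992 = n13744 := d8_2 (iv7 F10798) D13992 (iv3 D13744)
def n13993 : Q := act 5 n6653
theorem D13993 : act 5 n6653 = n13993 := rfl
theorem F23316 : act 2 n13993 = n13761 := d2_1 D13993 (iv5 D13761) (iv2 F10797)
theorem F23317 : act 4 n13993 = n6716 := d9_1 D13993 F10948 (iv4 D6391) (iv5 D2786) (iv4 F7722) D2979 D6646 D13980 F23293 F10954 (iv4 D6392) (iv5 D2790) (iv4 F7731) D2984 D6653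
theorem F23318 : act 7 n13993 = n13745 := d13_2 (iv7 F10798) D13993 (iv5 D13745)
theorem F23319 : act 0 n13993 = n6755 := d17_2 F23079 D13993 (iv5 D6755) (iv4 D3046) (iv5 D1364) F4890 D2944 F10630 D13817
theorem F23320 : act 1 n13993 = n7484 := d17_6 (iv1 F4674) F4519 (iv1 F2462) D2984 D6653 D13993 F11733 F11047 (iv4 D6657)
def n13994 : Q := act 6 n6653
theorem D13994 : act 6 n6653 = n13994 := rfl
theorem F23321 : act 2 n13994 = n13762 := d3_1 D13994 (iv6 D13762) (iv2 F10797)
theorem F23322 : act 4 n13994 = n6654 := d10_1 D13994 (iv6 D6654) D6653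
def n13995 : Q := act 0 n6654
theorem D13995 : act 0 n6654 = n13995 := rfl
def n13996 : Q := act 5 n6654
theorem D13996 : act 5 n6654 = n13996 := rfl
theorem F23323 : act 2 n13996 = n13764 := d2_1 D13996 (iv5 D13764) (iv2 F10799)
theorem F23324 : act 6 n13996 = n6655 := d12_2 D6654 D13996 (iv5 D6655) (iv6 D2985) D2984
def n13997 : Q := act 7 n6654
theorem D13997 : act 7 n6654 = n13997 := rfl
theorem F23325 : act 2 n13997 = n13765 := d4_1 D13997 (iv7 D13765) (iv2 F10799)
theorem F23326 : act 6 n13997 = n13749 := d14_1 D13997 (iv7 D13749) (iv6 D6543) F8017 D6654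
theorem F23327 : act 1 n13765 = n13995 := d15_0 (iv0 D13995) D13997 F23325
theorem F23328 : act 1 n13741 = n13997 := d15_1 (iv0 F22992) (iv7 D13997) F10799
theorem F23329 : act 7 n13995 = n13741 := d15_2 F23019 F23327 F22990
theorem F23330 : act 2 n13995 = n13763 := d15_3 (iv0 D13763) (iv0 F22992) (iv7 F23329)
theorem F23331 : act 7 n13763 = n13510 := d4_2 (iv7 F23329) F23330 (iv2 F22990)
theorem F23332 : act 5 n13511 = n13763 := d13_3 F23331 (iv5 D13510) D13511
theorem F23333 : act 1 n13997 = n13763 := d15_1 F23328 F23331 (iv2 F22990)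
def n13998 : Q := act 4 n6655
theorem D13998 : act 4 n6655 = n13998 := rfl
theorem F23334 : act 2 n13998 = n13766 := d1_1 D13998 (iv4 D13766) (iv2 F10800)
theorem F23335 : act 0 n13998 = n6925 := d18_2 (iv1 F10802) D13998 (iv4 D6925) (iv5 D3119) (iv4 F4931) F2003 (iv4 F3558) (iv0 F4936) D3489
theorem F23336 : act 1 n13998 = n6919 := d18_6 (iv1 D5829) F5133 (iv1 F7991) F7732 D6655 D13998 (iv4 D6919) D6918 F11198
def n13999 : Q := act 2 n6656
theorem D13999 : act 2 n6656 = n13999 := rfl
theorem F23337 : act 3 n13999 = n13456 := d0_2 D6656 D13999 (iv2 F22402) (iv3 D6552) (iv2 F8074)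
theorem F23338 : act 7 n13999 = n13775 := d4_2 (iv7 F10803) D13999 (iv2 D13775)
theorem F23339 : act 1 n13999 = n11141 := d15_0 (iv0 F19433) (iv7 F10803) D13999
theorem F23340 : act 1 n13750 = n13999 := d15_0 F23339 (iv7 F23254) F23253
def n14000 : Q := act 4 n6656
theorem D14000 : act 4 n6656 = n14000 := rfl
theorem F23341 : act 7 n14000 = n13776 := d11_2 (iv7 F10803) D14000 (iv4 D13776)
def n14001 : Q := act 6 n6656
theorem D14001 : act 6 n6656 = n14001 := rfl
theorem F23342 : act 3 n14001 = n6658 := d7_1 D14001 (iv6 D6658) D6656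
def n14002 : Q := act 3 n6657
theorem D14002 : act 3 n6657 = n14002 := rfl
theorem F23343 : act 7 n14002 = n13778 := d8_2 (iv7 F10805) D14002 (iv3 D13778)
def n14003 : Q := act 5 n6657
theorem D14003 : act 5 n6657 = n14003 := rfl
theorem F23344 : act 2 n14003 = n13770 := d2_1 D14003 (iv5 D13770) (iv2 F10804)
theorem F23345 : act 7 n14003 = n13779 := d13_2 (iv7 F10805) D14003 (iv5 D13779)
theorem F23346 : act 4 n14003 = n6709 := d16_2 D6657 D14003 (iv5 D6709) (iv4 F7733) (iv5 D2354) (iv4 F3696) F7714 (iv7 F8073) (iv2 F8074)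
def n14004 : Q := act 6 n6657
theorem D14004 : act 6 n6657 = n14004 := rfl
theorem F23347 : act 2 n14004 = n13771 := d3_1 D14004 (iv6 D13771) (iv2 F10804)
theorem F23348 : act 4 n14004 = n6658 := d10_1 D14004 (iv6 D6658) D6657
def n14005 : Q := act 0 n6658
theorem D14005 : act 0 n6658 = n14005 := rfl
theorem F23349 : act 6 n14005 = n13782 := d21_5 F10605 F8290 F8289 D6658 D14005 (iv5 F23032) (iv1 D13432) (iv5 F10609) (iv6 D6543) D6540
def n14006 : Q := act 1 n6658
theorem D14006 : act 1 n6658 = n14006 := rfl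
theorem F23350 : act 1 n14006 = n13774 := d15_1 D14006 (iv7 D13774) (iv2 F10807)
def n14007 : Q := act 7 n6658
theorem D14007 : act 7 n6658 = n14007 := rfl
theorem F23351 : act 2 n14007 = n13774 := d4_1 D14007 (iv7 D13774) (iv2 F10807)
theorem F23352 : act 6 n14007 = n13783 := d14_1 D14007 (iv7 D13783) (iv6 D6557) (iv7 F8072) D6658
theorem F23353 : act 1 n13774 = n14005 := d15_0 (iv0 D14005) D14007 F23351
theorem F23354 : act 1 n13773 = n14007 := d15_1 D13773 (iv7 D14007) F10807
theorem F23355 : act 1 n14007 = n13772 := d15_0 (iv0 D13772) D13774 (iv2 F23351)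
def n14008 : Q := act 4 n6659
theorem D14008 : act 4 n6659 = n14008 := rfl
theorem F23356 : act 7 n14008 = n13767 := d11_2 (iv7 F10809) D14008 (iv4 D13767)
def n14009 : Q := act 6 n6659
theorem D14009 : act 6 n6659 = n14009 := rfl
theorem F23357 : act 3 n14009 = n6661 := d7_1 D14009 (iv6 D6661) D6659
theorem F23358 : act 5 n14009 = n11962 := d12_1 D14009 (iv6 D11962) (iv5 D5637) D5638 (iv5 F10808)
def n14010 : Q := act 3 n6660
theorem D14010 : act 3 n6660 = n14010 := rfl
theorem F23359 : act 7 n14010 = n13769 := d8_2 (iv7 F10811) D14010 (iv3 D13769)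
def n14011 : Q := act 5 n6660
theorem D14011 : act 5 n6660 = n14011 := rfl
theorem F23360 : act 2 n14011 = n13779 := d2_1 D14011 (iv5 D13779) (iv2 F10810)
theorem F23361 : act 4 n14011 = n6706 := d9_1 D14011 (iv5 D6706) (iv4 F7729) F7952 (iv4 F8288) F8289 D6657 D14003 F23346 (iv5 D6709) (iv4 F7733) (iv5 D2354) (iv4 F3696) F7714 D6660
theorem F23362 : act 7 n14011 = n13770 := d13_2 (iv7 F10811) D14011 (iv5 D13770)
def n14012 : Q := act 6 n6660
theorem D14012 : act 6 n6660 = n14012 := rfl
theorem F23363 : act 2 n14012 = n13780 := d3_1 D14012 (iv6 D13780) (iv2 F10810)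
theorem F23364 : act 4 n14012 = n6661 := d10_1 D14012 (iv6 D6661) D6660
def n14013 : Q := act 0 n6661
theorem D14013 : act 0 n6661 = n14013 := rfl
theorem F23365 : act 5 n14013 = n13382 := d21_0 (iv1 F22354) (iv5 F23004) (iv6 F23326) (iv1 F23328) (iv6 D13741) F10608 (iv1 D5643) F7714 D6661 D14013
theorem F23366 : act 0 n14013 = n13783 := d21_1 (iv5 F23365) F23034 (iv6 F19846) (iv1 F19848) (iv6 D11732) F8283 (iv1 F7724) F7725 D6342 D13382
def n14014 : Q := act 1 n6661
theorem D14014 : act 1 n6661 = n14014 := rfl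
theorem F23367 : act 1 n14014 = n13783 := d15_1 D14014 (iv7 D13783) (iv2 F10813)
theorem F23368 : act 5 n13383 = n14014 := d21_0 (iv1 D14014) F10814 (iv6 D5641) F7713 (iv6 F11441) (iv5 D7120) D7118 (iv5 F22245) (iv6 F22351) (iv1 F22353)
theorem F23369 : act 6 n13425 = n13383 := d21_5 (iv5 D3273) (iv1 F5078) F5079 D6378 D13425 F23368 (iv1 D14014) F10814 (iv6 D5641) F7713
theorem F23370 : act 6 n14014 = n13772 := d21_3 F23004 (iv1 F22353) F23368 (iv1 F23355) F23352 F23034 (iv1 F19756) (iv5 F23001) (iv6 F23298) (iv1 F23305)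
def n14015 : Q := act 7 n6661
theorem D14015 : act 7 n6661 = n14015 := rfl
theorem F23371 : act 2 n14015 = n13783 := d4_1 D14015 (iv7 D13783) (iv2 F10813)
theorem F23372 : act 5 n14015 = n11972 := d13_1 D14015 (iv7 D11972) (iv5 F10814)
theorem F23373 : act 6 n14015 = n13774 := d14_1 D14015 (iv7 D13774) (iv6 D6554) F8073 D6661
theorem F23374 : act 1 n13782 = n14015 := d15_1 D13782 (iv7 D14015) F10813
theorem F23375 : act 0 n13781 = n14015 := d21_1 (iv5 F23307) F23372 F19758 (iv1 F19751) (iv6 D11967) F8636 (iv1 F8303) F5098 D6380 D13431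
def n14016 : Q := act 3 n6662
theorem D14016 : act 3 n6662 = n14016 := rfl
theorem F23376 : act 7 n14016 = n13787 := d8_2 F10817 D14016 (iv3 D13787)
def n14017 : Q := act 5 n6662
theorem D14017 : act 5 n6662 = n14017 := rfl
theorem F23377 : act 2 n14017 = n13785 := d2_1 D14017 (iv5 D13785) F10816
theorem F23378 : act 7 n14017 = n13788 := d13_2 F10817 D14017 (iv5 D13788)
theorem F23379 : act 4 n14017 = n6703 := d16_2 (iv4 F10815) D14017 (iv5 D6703) (iv4 D3017) (iv5 F2474) (iv4 F4959) F4795 (iv7 F4988) (iv2 F4989)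
def n14018 : Q := act 6 n6662
theorem D14018 : act 6 n6662 = n14018 := rfl
theorem F23380 : act 2 n14018 = n13786 := d3_1 D14018 (iv6 D13786) F10816
theorem F23381 : act 4 n14018 = n6782 := d10_1 D14018 (iv6 D6782) (iv4 F10815)
def n14019 : Q := act 3 n6663
theorem D14019 : act 3 n6663 = n14019 := rfl
theorem F23382 : act 7 n14019 = n13784 := d8_2 (iv7 F10820) D14019 (iv3 D13784)
def n14020 : Q := act 5 n6663
theorem D14020 : act 5 n6663 = n14020 := rfl
theorem F23383 : act 2 n14020 = n13788 := d2_1 D14020 (iv5 D13788) F10822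
theorem F23384 : act 4 n14020 = n6698 := d9_1 D14020 (iv5 D6698) (iv4 D3014) F4585 (iv4 F8522) F8523 (iv4 F10815) D14017 F23379 (iv5 D6703) (iv4 D3017) (iv5 F2474) (iv4 F4959) F4795 (iv4 F10821)
theorem F23385 : act 7 n14020 = n13785 := d13_2 (iv7 F10820) D14020 (iv5 D13785)
def n14021 : Q := act 6 n6663
theorem D14021 : act 6 n6663 = n14021 := rfl
theorem F23386 : act 2 n14021 = n13789 := d3_1 D14021 (iv6 D13789) F10822
theorem F23387 : act 4 n14021 = n6784 := d10_1 D14021 (iv6 D6784) (iv4 F10821)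
def n14022 : Q := act 0 n6664
theorem D14022 : act 0 n6664 = n14022 := rfl
def n14023 : Q := act 1 n6664
theorem D14023 : act 1 n6664 = n14023 := rfl
def n14024 : Q := act 2 n6664
theorem D14024 : act 2 n6664 = n14024 := rfl
theorem F23388 : act 3 n14024 = n13792 := d0_2 D6664 D14024 (iv2 D13792) (iv3 D6560) (iv2 F4670)
theorem F23389 : act 6 n14024 = n13792 := d3_2 (iv6 F10823) D14024 (iv2 D13792)
def n14025 : Q := act 5 n6664
theorem D14025 : act 5 n6664 = n14025 := rfl
theorem F23390 : act 3 n14025 = n6665 := d6_1 D14025 (iv5 D6665) D6664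
theorem F23391 : act 7 n13917 = n14025 := d8_0 F23390 (iv7 F10826) D13917
def n14026 : Q := act 7 n6664
theorem D14026 : act 7 n6664 = n14026 := rfl
theorem F23392 : act 3 n14026 = n6666 := d8_1 D14026 (iv7 D6666) D6664
theorem F23393 : act 5 n14026 = n13917 := d13_1 D14026 F23391 (iv5 D14025)
def n14027 : Q := act 0 n6665
theorem D14027 : act 0 n6665 = n14027 := rfl
theorem F23394 : act 5 n14027 = n6674 := d17_3 (iv1 D6663) D6665 D14027 (iv4 D6674) (iv5 D2998) (iv0 F4979) D1372 D3070 (iv4 F10821)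
theorem F23395 : act 4 n14027 = n6695 := d18_1 D14027 F10906 D12605 F20991 F10997 F4800 (iv4 F10815) (iv0 D6662) D6665
theorem F23396 : act 1 n6718 = n14027 := d15_0 (iv0 D14027) (iv7 F10826) (iv2 F10956)
theorem F23397 : act 2 n13795 = n14027 := d1_3 F23395 F10904 (iv4 F23042)
theorem F23398 : act 7 n13796 = n14027 := d11_0 F23395 F10905 (iv4 F23046)
def n14028 : Q := act 1 n6665
theorem D14028 : act 1 n6665 = n14028 := rfl
theorem F23399 : act 1 n14028 = n6718 := d15_1 D14028 (iv7 F10958) (iv2 F10824)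
theorem F23400 : act 7 n14028 = n13795 := d15_2 (iv0 D14027) D14028 F23397
theorem F23401 : act 5 n14028 = n6691 := d17_7 (iv1 F10775) (iv5 D2984) (iv1 D1342) D1343 D2988 D6665 D14028 (iv0 F23282) (iv4 D13976)
theorem F23402 : act 4 n14028 = n6681 := d17_9 (iv1 F11738) F11736 (iv1 F5410) D6703 (iv4 F23379) (iv5 D14017) (iv0 D6662) D6665 D14028
theorem F23403 : act 2 n13796 = n14028 := d1_3 F23402 F10873 (iv4 F23046)
def n14029 : Q := act 6 n6665
theorem D14029 : act 6 n6665 = n14029 := rfl
theorem F23404 : act 2 n14029 = n13797 := d3_1 D14029 (iv6 D13797) (iv2 F10824)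
theorem F23405 : act 4 n14029 = n13922 := d10_1 D14029 (iv6 D13922) (iv4 F10825)
theorem F23406 : act 5 n14029 = n13797 := d12_1 D14029 (iv6 D13797) (iv5 D6561) (iv6 F4671) D6665
def n14030 : Q := act 6 n6666
theorem D14030 : act 6 n6666 = n14030 := rfl
theorem F23407 : act 2 n14030 = n13798 := d3_1 D14030 (iv6 D13798) (iv2 F10827)
theorem F23408 : act 4 n14030 = n6667 := d10_1 D14030 (iv6 D6667) (iv4 F10828)
theorem F23409 : act 7 n14030 = n13798 := d14_2 D6666 D14030 (iv6 D13798) (iv7 D6562) (iv6 F4671)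
def n14031 : Q := act 0 n6667
theorem D14031 : act 0 n6667 = n14031 := rfl
theorem F23410 : act 1 n6667 = n14031 := d15_0 (iv0 D14031) F10834 (iv2 F10832)
def n14032 : Q := act 0 n6671
theorem D14032 : act 0 n6671 = n14032 := rfl
theorem F23411 : act 1 n6823 = n14032 := d15_0 (iv0 D14032) F10843 F22536
def n14033 : Q := act 1 n6671
theorem D14033 : act 1 n6671 = n14033 := rfl
theorem F23412 : act 1 n14033 = n6823 := d15_1 D14033 F22524 F22538
def n14034 : Q := act 4 n6671
theorem D14034 : act 4 n6671 = n14034 := rfl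
theorem F23413 : act 7 n14034 = n13843 := d11_2 (iv7 F10843) D14034 (iv4 D13843)
def n14035 : Q := act 6 n6671
theorem D14035 : act 6 n6671 = n14035 := rfl
theorem F23414 : act 3 n14035 = n6675 := d7_1 D14035 (iv6 D6675) (iv3 F10842)
theorem F23415 : act 5 n14035 = n11686 := d12_1 D14035 (iv6 D11686) (iv5 F10367) F10368 D6671
def n14036 : Q := act 3 n6672
theorem D14036 : act 3 n6672 = n14036 := rfl
theorem F23416 : act 5 n14036 = n6924 := d6_2 (iv5 F10844) D14036 F11201
theorem F23417 : act 7 n14036 = n13819 := d8_2 F10847 D14036 (iv3 D13819)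
def n14037 : Q := act 6 n6672
theorem D14037 : act 6 n6672 = n14037 := rfl
theorem F23418 : act 2 n14037 = n13818 := d3_1 D14037 (iv6 D13818) F10846
theorem F23419 : act 5 n14037 = n6926 := d12_1 D14037 (iv6 D6926) (iv5 D3119) D3120 (iv5 F10844)
def n14038 : Q := act 3 n6673
theorem D14038 : act 3 n6673 = n14038 := rfl
theorem F23420 : act 5 n14038 = n11862 := d6_2 (iv5 F10850) D14038 (iv3 F19293)
theorem F23421 : act 7 n14038 = n13816 := d8_2 (iv7 F10849) D14038 (iv3 D13816)
theorem F23422 : act 0 n14038 = n6771 := d21_7 (iv5 F19286) (iv1 F19287) (iv5 D5570) D5571 D11872 F19563 (iv5 F23420) (iv5 D6771) D6772 (iv1 F18390)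
def n14039 : Q := act 3 n6674
theorem D14039 : act 3 n6674 = n14039 := rfl
theorem F23423 : act 7 n14039 = n13847 := d8_2 (iv7 F10853) D14039 (iv3 D13847)
def n14040 : Q := act 6 n6674
theorem D14040 : act 6 n6674 = n14040 := rfl
theorem F23424 : act 2 n14040 = n13822 := d3_1 D14040 (iv6 D13822) (iv2 F10852)
theorem F23425 : act 4 n14040 = n6675 := d10_1 D14040 (iv6 D6675) D6674
def n14041 : Q := act 0 n6675
theorem D14041 : act 0 n6675 = n14041 := rfl
theorem F23426 : act 6 n14041 = n13823 := d21_5 (iv5 D1372) F4979 D2998 D6675 D14041 F23089 (iv1 D11642) (iv5 F11041) (iv6 D6784) (iv1 D3070)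
theorem F23427 : act 5 n14041 = n11912 := d21_0 (iv1 D11912) (iv5 F10996) (iv6 D6753) (iv1 D3045) (iv6 F2508) (iv5 D1372) F4979 D2998 D6675 D14041
def n14042 : Q := act 1 n6675
theorem D14042 : act 1 n6675 = n14042 := rfl
theorem F23428 : act 1 n14042 = n13825 := d15_1 D14042 (iv7 D13825) (iv2 F10854)
theorem F23429 : act 5 n11911 = n14042 := d21_0 (iv1 D14042) F10855 (iv6 D5426) (iv1 D2231) (iv6 F2047) (iv5 D1113) D1111 D2317 D5585 D11911
def n14043 : Q := act 7 n6675
theorem D14043 : act 7 n6675 = n14043 := rfl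
theorem F23430 : act 2 n14043 = n13825 := d4_1 D14043 (iv7 D13825) (iv2 F10854)
theorem F23431 : act 5 n14043 = n11691 := d13_1 D14043 (iv7 D11691) (iv5 F10855)
theorem F23432 : act 6 n14043 = n13851 := d14_1 D14043 (iv7 D13851) (iv6 D6587) (iv7 F4690) D6675
theorem F23433 : act 1 n13825 = n14041 := d15_0 (iv0 D14041) D14043 F23430
theorem F23434 : act 1 n13824 = n14043 := d15_1 D13824 (iv7 D14043) F10854
theorem F23435 : act 1 n14043 = n13823 := d15_0 (iv0 D13823) D13825 (iv2 F23430)
def n14044 : Q := act 3 n6676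
theorem D14044 : act 3 n6676 = n14044 := rfl
theorem F23436 : act 4 n14044 = n14044 := d5_2 D6676 D14044 (iv3 D14044) (iv4 D6676) F5207
theorem F23437 : act 7 n14044 = n13829 := d8_2 (iv7 F10857) D14044 (iv3 D13829)
def n14045 : Q := act 3 n6677
theorem D14045 : act 3 n6677 = n14045 := rfl
theorem F23438 : act 7 n14045 = n13827 := d8_2 (iv7 F10861) D14045 (iv3 D13827)
def n14046 : Q := act 3 n6678
theorem D14046 : act 3 n6678 = n14046 := rfl
theorem F23439 : act 7 n14046 = n13834 := d8_2 F10867 D14046 (iv3 D13834)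
def n14047 : Q := act 3 n6679
theorem D14047 : act 3 n6679 = n14047 := rfl
theorem F23440 : act 7 n14047 = n13831 := d8_2 (iv7 F10869) D14047 (iv3 D13831)
def n14048 : Q := act 0 n6680
theorem D14048 : act 0 n6680 = n14048 := rfl
theorem F23441 : act 1 n13855 = n14048 := d15_0 (iv0 D14048) F10872 D13855
def n14049 : Q := act 1 n6680
theorem D14049 : act 1 n6680 = n14049 := rfl
def n14050 : Q := act 2 n6680
theorem D14050 : act 2 n6680 = n14050 := rfl
theorem F23442 : act 3 n14050 = n13838 := d0_2 D6680 D14050 (iv2 D13838) (iv3 D6579) (iv2 F4699)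
theorem F23443 : act 7 n14050 = n13855 := d4_2 (iv7 F10872) D14050 (iv2 D13855)
theorem F23444 : act 1 n14050 = n13853 := d15_0 (iv0 D13853) (iv7 F10872) D14050
theorem F23445 : act 1 n14049 = n13855 := d15_1 D14049 (iv7 F23443) (iv2 D14050)
theorem F23446 : act 1 n13854 = n14050 := d15_1 D13854 F23443 (iv2 D13855)
def n14051 : Q := act 5 n6680
theorem D14051 : act 5 n6680 = n14051 := rfl
theorem F23447 : act 3 n14051 = n6681 := d6_1 D14051 (iv5 D6681) D6680
theorem F23448 : act 7 n14051 = n13856 := d13_2 (iv7 F10872) D14051 (iv5 D13856)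
def n14052 : Q := act 6 n6681
theorem D14052 : act 6 n6681 = n14052 := rfl
theorem F23449 : act 2 n14052 = n13840 := d3_1 D14052 (iv6 D13840) (iv2 F10873)
def n14053 : Q := act 5 n6682
theorem D14053 : act 5 n6682 = n14053 := rfl
theorem F23450 : act 3 n14053 = n6683 := d6_1 D14053 (iv5 D6683) D6682
theorem F23451 : act 7 n14053 = n13800 := d13_2 (iv7 F10877) D14053 (iv5 D13800)
def n14054 : Q := act 6 n6682
theorem D14054 : act 6 n6682 = n14054 := rfl
theorem F23452 : act 3 n14054 = n6684 := d7_1 D14054 (iv6 D6684) D6682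
theorem F23453 : act 4 n14054 = n6690 := d10_1 D14054 (iv6 D6690) (iv4 F10876)
def n14055 : Q := act 0 n6683
theorem D14055 : act 0 n6683 = n14055 := rfl
theorem F23454 : act 5 n14055 = n11341 := d17_3 (iv1 F8805) D6683 D14055 (iv4 F18514) D11376 (iv0 F18583) (iv5 D6386) F7654 (iv4 F8803)
theorem F23455 : act 1 n12013 = n14055 := d15_0 (iv0 D14055) F10878 (iv2 F19871)
theorem F23456 : act 2 n13802 = n14055 := d2_3 F23454 (iv2 F22268) (iv5 F23053)
theorem F23457 : act 7 n13801 = n14055 := d13_0 F23454 F18513 (iv5 F23050)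
def n14056 : Q := act 1 n6683
theorem D14056 : act 1 n6683 = n14056 := rfl
theorem F23458 : act 1 n14056 = n12013 := d15_1 D14056 (iv7 F19896) F19894
theorem F23459 : act 7 n14056 = n13802 := d15_2 (iv0 D14055) D14056 F23456
theorem F23460 : act 5 n14056 = n11291 := d17_7 D5446 F10887 (iv1 D6686) (iv5 D3006) D3005 D6683 D14056 (iv0 F18414) F10018
theorem F23461 : act 2 n13801 = n14056 := d2_3 F23460 F18412 (iv5 F23050)
def n14057 : Q := act 4 n6683
theorem D14057 : act 4 n6683 = n14057 := rfl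
theorem F23462 : act 7 n14057 = n13803 := d11_2 (iv7 F10878) D14057 (iv4 D13803)
def n14058 : Q := act 6 n6683
theorem D14058 : act 6 n6683 = n14058 := rfl
def n14059 : Q := act 5 n6684
theorem D14059 : act 5 n6684 = n14059 := rfl
theorem F23463 : act 0 n14059 = n11263 := d17_2 F18001 D14059 (iv5 D11263) (iv4 D5193) D5194 F18332 F18331 F10488 (iv4 F18000)
theorem F23464 : act 1 n14059 = n11257 := d17_6 D2162 D5290 F10893 (iv5 D6688) (iv4 F10879) D14059 (iv5 D11257) F10228 F3512
def n14060 : Q := act 4 n6685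
theorem D14060 : act 4 n6685 = n14060 := rfl
theorem F23465 : act 2 n14060 = n13807 := d1_1 D14060 (iv4 D13807) F10883
theorem F23466 : act 7 n14060 = n13805 := d11_2 F10884 D14060 (iv4 D13805)
theorem F23467 : act 1 n14060 = n13926 := d18_6 F10396 (iv4 F18565) F19050 (iv4 D11707) (iv5 F10881) D14060 (iv4 D13926) (iv0 F18344) (iv5 D11266)
def n14061 : Q := act 4 n6686
theorem D14061 : act 4 n6686 = n14061 := rfl
theorem F23468 : act 2 n14061 = n13805 := d1_1 D14061 (iv4 D13805) (iv2 F10888)
theorem F23469 : act 7 n14061 = n13807 := d11_2 (iv7 F10886) D14061 (iv4 D13807)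
theorem F23470 : act 0 n14061 = n13926 := d18_2 (iv1 F10885) D14061 (iv4 D13926) (iv5 D6618) (iv4 F10291) F10289 F8749 F3730 D5675
def n14062 : Q := act 6 n6686
theorem D14062 : act 6 n6686 = n14062 := rfl
theorem F23471 : act 2 n14062 = n12225 := d3_1 D14062 F20223 (iv2 F10888)
theorem F23472 : act 5 n14062 = n7863 := d12_1 D14062 F12410 (iv5 D5509) (iv6 F8459) F10887
theorem F23473 : act 7 n14062 = n12227 := d14_2 (iv7 F10886) D14062 F20226 F12530 (iv6 F11543)
theorem F23474 : act 0 n12859 = n14062 := d21_4 (iv5 F18686) F21331 (iv5 D12858) D12859 (iv6 D14062) (iv5 F10887) (iv1 F10364) F10361 D6593 F10889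
theorem F23475 : act 1 n12859 = n13685 := d15_1 (iv0 F23474) F22841 (iv2 F23471)
theorem F23476 : act 1 n12153 = n12227 := d15_1 (iv0 F20224) (iv7 F23473) F23471
def n14063 : Q := act 0 n6687
theorem D14063 : act 0 n6687 = n14063 := rfl
theorem F23477 : act 4 n14063 = n11376 := d18_3 (iv1 D6686) D6687 D14063 (iv5 D11376) F18514 F22273 F22270 F10364 F10887
theorem F23478 : act 1 n12014 = n14063 := d15_0 (iv0 D14063) F10890 (iv2 F19872)
theorem F23479 : act 2 n13809 = n14063 := d1_3 F23477 (iv2 F23057) (iv4 F23068)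
theorem F23480 : act 7 n13808 = n14063 := d11_0 F23477 F18581 (iv4 F23065)
def n14064 : Q := act 1 n6687
theorem D14064 : act 1 n6687 = n14064 := rfl
theorem F23481 : act 1 n14064 = n12014 := d15_1 D14064 (iv7 F19905) F19903
theorem F23482 : act 7 n14064 = n13809 := d15_2 (iv0 D14063) D14064 F23479
theorem F23483 : act 4 n14064 = n11293 := d18_7 (iv1 F7655) (iv4 F8803) (iv1 F8805) (iv4 D3005) D3006 D6687 D14064 (iv0 F18420) (iv5 D6385)
theorem F23484 : act 2 n13808 = n14064 := d1_3 F23483 F18417 (iv4 F23065)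
def n14065 : Q := act 3 n6687
theorem D14065 : act 3 n6687 = n14065 := rfl
theorem F23485 : act 4 n14065 = n6694 := d5_2 D6687 D14065 (iv3 D6694) (iv4 D3011) (iv3 F4708)
theorem F23486 : act 7 n14065 = n13810 := d8_2 (iv7 F10890) D14065 (iv3 D13810)
def n14066 : Q := act 5 n6687
theorem D14066 : act 5 n6687 = n14066 := rfl
theorem F23487 : act 7 n14066 = n13811 := d13_2 (iv7 F10890) D14066 (iv5 D13811)
theorem F23488 : act 0 n14066 = n12183 := d17_2 (iv1 D14064) D14066 (iv5 D12183) F8897 (iv5 D2781) D2780 D6386 (iv0 F18419) (iv4 F23483)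
def n14067 : Q := act 4 n6688
theorem D14067 : act 4 n6688 = n14067 := rfl
theorem F23489 : act 0 n14067 = n11265 := d18_2 F10893 D14067 (iv4 D11265) (iv5 D5194) D5193 F10238 F7789 F3646 D5290
theorem F23490 : act 1 n14067 = n11261 := d18_6 F7821 (iv4 F18000) F18001 F10879 D6688 D14067 (iv4 D11261) D11260 (iv5 F18335)
def n14068 : Q := act 0 n6689
theorem D14068 : act 0 n6689 = n14068 := rfl
theorem F23491 : act 1 n12233 = n14068 := d15_0 (iv0 D14068) F10895 (iv2 F20244)
def n14069 : Q := act 1 n6689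
theorem D14069 : act 1 n6689 = n14069 := rfl
theorem F23492 : act 1 n14069 = n12233 := d15_1 D14069 (iv7 F20255) F20254
theorem F23493 : act 5 n14069 = n6855 := d21_2 D12233 (iv1 F23492) (iv6 D6855) (iv1 D3094) (iv6 D1388) (iv5 D781) D778 (iv5 F3744) D2425 D5794
theorem F23494 : act 2 n13812 = n14069 := d2_3 F23493 F18974 (iv5 F23070)
theorem F23495 : act 7 n13813 = n14069 := d13_0 F23493 (iv7 F18973) F23073
theorem F23496 : act 0 n6690 = n12258 := d21_4 (iv5 F23493) (iv1 D14069) (iv5 D6689) D6690 F22281 F22279 (iv1 F19639) (iv5 D11622) D11623 F20320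
theorem F23497 : act 2 n13813 = n14068 := d15_3 (iv0 D14068) D14069 (iv7 F23495)
theorem F23498 : act 7 n14068 = n13812 := d4_2 (iv7 F23495) F23497 F23494
def n14070 : Q := act 4 n6689
theorem D14070 : act 4 n6689 = n14070 := rfl
theorem F23499 : act 7 n14070 = n13814 := d11_2 (iv7 F10895) D14070 (iv4 D13814)
def n14071 : Q := act 6 n6689
theorem D14071 : act 6 n6689 = n14071 := rfl
theorem F23500 : act 3 n14071 = n6692 := d7_1 D14071 (iv6 D6692) (iv3 F10894)
def n14072 : Q := act 5 n6690
theorem D14072 : act 5 n6690 = n14072 := rfl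
theorem F23501 : act 3 n14072 = n6693 := d6_1 D14072 (iv5 D6693) (iv3 F10896)
theorem F23502 : act 0 n13970 = n14072 := d21_1 D13970 (iv5 D14072) (iv6 D6690) F10344 (iv6 D2425) F3744 (iv1 F1501) D1383 D3084 F10768
def n14073 : Q := act 3 n6691
theorem D14073 : act 3 n6691 = n14073 := rfl
theorem F23503 : act 7 n14073 = n13821 := d8_2 (iv7 F10898) D14073 (iv3 D13821)
def n14074 : Q := act 6 n6691
theorem D14074 : act 6 n6691 = n14074 := rfl
theorem F23504 : act 2 n14074 = n13848 := d3_1 D14074 (iv6 D13848) (iv2 F10897)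
theorem F23505 : act 4 n14074 = n6692 := d10_1 D14074 (iv6 D6692) D6691
def n14075 : Q := act 0 n6692
theorem D14075 : act 0 n6692 = n14075 := rfl
def n14076 : Q := act 5 n6692
theorem D14076 : act 5 n6692 = n14076 := rfl
theorem F23506 : act 2 n14076 = n13850 := d2_1 D14076 (iv5 D13850) (iv2 F10899)
theorem F23507 : act 6 n14076 = n6693 := d12_2 D6692 D14076 (iv5 D6693) (iv6 D3010) D3009
def n14077 : Q := act 7 n6692
theorem D14077 : act 7 n6692 = n14077 := rfl
theorem F23508 : act 2 n14077 = n13851 := d4_1 D14077 (iv7 D13851) (iv2 F10899)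
theorem F23509 : act 6 n14077 = n13825 := d14_1 D14077 (iv7 D13825) (iv6 D6573) (iv7 F4713) D6692
theorem F23510 : act 1 n13851 = n14075 := d15_0 (iv0 D14075) D14077 F23508
theorem F23511 : act 1 n7009 = n14077 := d15_1 (iv0 F11271) (iv7 D14077) F10899
theorem F23512 : act 7 n14075 = n7009 := d15_2 F23123 F23510 (iv2 F20421)
theorem F23513 : act 5 n7010 = n14075 := d13_3 F23512 (iv5 D7009) D7010
theorem F23514 : act 2 n14075 = n13849 := d15_3 (iv0 D13849) (iv0 F11271) (iv7 F23512)
theorem F23515 : act 5 n13849 = n12308 := d2_2 F23513 F23514 F20424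
theorem F23516 : act 7 n13849 = n12307 := d4_2 (iv7 F23512) F23514 F20421
theorem F23517 : act 1 n14077 = n13849 := d15_1 F23511 F23516 F20421
theorem F23518 : act 5 n12316 = n7018 := d21_0 (iv1 D7018) (iv5 F11199) (iv6 D6920) (iv1 F10651) (iv6 F23122) (iv5 D13850) D13849 F23515 F20425 (iv1 F20442)
def n14078 : Q := act 4 n6693
theorem D14078 : act 4 n6693 = n14078 := rfl
theorem F23519 : act 2 n14078 = n13852 := d1_1 D14078 (iv4 D13852) (iv2 F10900)
theorem F23520 : act 0 n14078 = n7708 := d18_2 (iv1 F10902) D14078 (iv4 D7708) (iv5 D3499) (iv4 D1543) F2188 (iv4 F2535) F2681 D3478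
theorem F23521 : act 1 n14078 = n7699 := d18_6 (iv1 D3222) F2552 (iv1 F4542) (iv4 F4715) D6693 D14078 (iv4 D7699) (iv0 F11321) (iv5 D7070)
def n14079 : Q := act 0 n6694
theorem D14079 : act 0 n6694 = n14079 := rfl
theorem F23522 : act 1 n13838 = n14079 := d15_0 (iv0 D14079) F10903 D13838
def n14080 : Q := act 1 n6694
theorem D14080 : act 1 n6694 = n14080 := rfl
def n14081 : Q := act 2 n6694
theorem D14081 : act 2 n6694 = n14081 := rfl
theorem F23523 : act 3 n14081 = n13855 := d0_2 D6694 D14081 (iv2 D13855) (iv3 D6589) (iv2 F4716)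
theorem F23524 : act 7 n14081 = n13838 := d4_2 (iv7 F10903) D14081 (iv2 D13838)
theorem F23525 : act 1 n14081 = n13836 := d15_0 (iv0 D13836) (iv7 F10903) D14081
theorem F23526 : act 1 n14080 = n13838 := d15_1 D14080 (iv7 F23524) (iv2 D14081)
theorem F23527 : act 1 n13837 = n14081 := d15_1 D13837 F23524 (iv2 D13838)
def n14082 : Q := act 5 n6694
theorem D14082 : act 5 n6694 = n14082 := rfl
theorem F23528 : act 3 n14082 = n6695 := d6_1 D14082 (iv5 D6695) D6694
theorem F23529 : act 7 n14082 = n13839 := d13_2 (iv7 F10903) D14082 (iv5 D13839)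
def n14083 : Q := act 6 n6695
theorem D14083 : act 6 n6695 = n14083 := rfl
theorem F23530 : act 2 n14083 = n13857 := d3_1 D14083 (iv6 D13857) (iv2 F10904)
def n14084 : Q := act 3 n6696
theorem D14084 : act 3 n6696 = n14084 := rfl
def n14085 : Q := act 5 n6696
theorem D14085 : act 5 n6696 = n14085 := rfl
theorem F23531 : act 2 n14085 = n13859 := d2_1 D14085 (iv5 D13859) (iv2 F10907)
theorem F23532 : act 0 n14085 = n11439 := d17_2 (iv1 F10909) D14085 (iv5 D11439) (iv4 D5328) (iv5 F7617) (iv0 F7994) (iv5 F8147) (iv0 D5356) D5358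
theorem F23533 : act 1 n14085 = n11441 := d17_6 (iv1 F2691) (iv5 D1437) (iv1 F4542) D3012 D6696 D14085 (iv5 D11441) F8097 F5518
def n14086 : Q := act 0 n6697
theorem D14086 : act 0 n6697 = n14086 := rfl
theorem F23534 : act 1 n13873 = n14086 := d15_0 (iv0 D14086) F10911 D13873
def n14087 : Q := act 1 n6697
theorem D14087 : act 1 n6697 = n14087 := rfl
def n14088 : Q := act 2 n6697
theorem D14088 : act 2 n6697 = n14088 := rfl
theorem F23535 : act 3 n14088 = n13865 := d0_2 D6697 D14088 (iv2 D13865) (iv3 D6594) (iv2 F4722)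
theorem F23536 : act 4 n14088 = n13880 := d1_2 (iv4 F10910) D14088 (iv2 D13880)
theorem F23537 : act 7 n14088 = n13873 := d4_2 (iv7 F10911) D14088 (iv2 D13873)
theorem F23540 : act 1 n13872 = n14088 := d15_1 D13872 F23537 (iv2 D13873)
def n14089 : Q := act 5 n6697
theorem D14089 : act 5 n6697 = n14089 := rfl
theorem F23541 : act 3 n14089 = n6698 := d6_1 D14089 (iv5 D6698) D6697
theorem F23542 : act 7 n14089 = n13874 := d13_2 (iv7 F10911) D14089 (iv5 D13874)
def n14090 : Q := act 6 n6697
theorem D14090 : act 6 n6697 = n14090 := rfl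
theorem F23543 : act 3 n14090 = n6699 := d7_1 D14090 (iv6 D6699) D6697
theorem F23544 : act 4 n14090 = n13882 := d10_1 D14090 (iv6 D13882) (iv4 F10910)
def n14091 : Q := act 6 n6698
theorem D14091 : act 6 n6698 = n14091 := rfl
theorem F23545 : act 2 n14091 = n13870 := d3_1 D14091 (iv6 D13870) (iv2 F10912)
def n14092 : Q := act 1 n6700
theorem D14092 : act 1 n6700 = n14092 := rfl
theorem F23546 : act 1 n14092 = n12015 := d15_1 D14092 F19875 F19053
theorem F23547 : act 7 n14092 = n11132 := d15_2 (iv0 F10917) D14092 F18074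
theorem F23548 : act 4 n14092 = n11203 := d18_7 (iv1 F18309) (iv4 F22266) (iv1 D13395) F9891 (iv5 F4727) D6700 D14092 F18184 F10751
theorem F23549 : act 2 n12184 = n14092 := d1_3 F23548 F18180 (iv4 F20183)
theorem F23550 : act 6 n12192 = n14092 := d10_0 F23548 (iv6 F18262) (iv4 F20191)
def n14093 : Q := act 3 n6700
theorem D14093 : act 3 n6700 = n14093 := rfl
theorem F23551 : act 4 n14093 = n6702 := d5_2 D6700 D14093 (iv3 D6702) (iv4 D3017) D3016
theorem F23552 : act 7 n14093 = n13860 := d8_2 (iv7 F10916) D14093 (iv3 D13860)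
def n14094 : Q := act 5 n6700
theorem D14094 : act 5 n6700 = n14094 := rfl
theorem F23553 : act 7 n14094 = n13861 := d13_2 (iv7 F10916) D14094 (iv5 D13861)
def n14095 : Q := act 6 n6700
theorem D14095 : act 6 n6700 = n14095 := rfl
theorem F23554 : act 4 n14095 = n6701 := d10_1 D14095 (iv6 D6701) D6700
theorem F23555 : act 7 n14067 = n14095 := d11_0 F23554 (iv7 F10920) D14067
theorem F23556 : act 1 n11287 = n14095 := d18_6 (iv1 D2283) (iv4 F3517) (iv1 F10262) (iv4 D5206) D5207 D11287 F23554 (iv0 F10921) (iv5 D5509)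
theorem F23557 : act 0 n11292 = n14095 := d20_1 D11292 F23554 F10918 F4735 (iv3 F9395) D12766 (iv1 F23195) (iv4 D13929) F18394 (iv1 F18392)
def n14096 : Q := act 0 n6702
theorem D14096 : act 0 n6702 = n14096 := rfl
theorem F23558 : act 1 n13865 = n14096 := d15_0 (iv0 D14096) F10923 D13865
def n14097 : Q := act 1 n6702
theorem D14097 : act 1 n6702 = n14097 := rfl
def n14098 : Q := act 2 n6702
theorem D14098 : act 2 n6702 = n14098 := rfl
theorem F23559 : act 3 n14098 = n13873 := d0_2 D6702 D14098 (iv2 D13873) (iv3 D6597) (iv2 F4729)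
theorem F23560 : act 7 n14098 = n13865 := d4_2 (iv7 F10923) D14098 (iv2 D13865)
theorem F23561 : act 1 n14098 = n13863 := d15_0 (iv0 D13863) (iv7 F10923) D14098
theorem F23562 : act 1 n14097 = n13865 := d15_1 D14097 (iv7 F23560) (iv2 D14098)
theorem F23563 : act 1 n13864 = n14098 := d15_1 D13864 F23560 (iv2 D13865)
def n14099 : Q := act 5 n6702
theorem D14099 : act 5 n6702 = n14099 := rfl
theorem F23564 : act 3 n14099 = n6703 := d6_1 D14099 (iv5 D6703) D6702
theorem F23565 : act 7 n14099 = n13866 := d13_2 (iv7 F10923) D14099 (iv5 D13866)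
def n14100 : Q := act 6 n6702
theorem D14100 : act 6 n6702 = n14100 := rfl
theorem F23566 : act 3 n14100 = n6704 := d7_1 D14100 (iv6 D6704) D6702
theorem F23567 : act 7 n14084 = n14100 := d8_0 F23566 (iv7 F10928) D14084
def n14101 : Q := act 6 n6703
theorem D14101 : act 6 n6703 = n14101 := rfl
theorem F23568 : act 2 n14101 = n13876 := d3_1 D14101 (iv6 D13876) (iv2 F10924)
def n14102 : Q := act 5 n6704
theorem D14102 : act 5 n6704 = n14102 := rfl
theorem F23569 : act 2 n14102 = n13877 := d2_1 D14102 (iv5 D13877) (iv2 F10926)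
theorem F23570 : act 7 n14102 = n14085 := d13_2 F10928 D14102 (iv5 D14085)
theorem F23571 : act 0 n14102 = n7722 := d17_2 F10929 D14102 (iv5 D7722) F5516 (iv5 F3568) (iv0 F3612) F7942 F7941 D5325
theorem F23572 : act 1 n14102 = n7720 := d17_6 D1546 F3871 F3904 (iv5 F4732) (iv4 F10927) D14102 (iv5 D7720) (iv0 D3506) (iv4 D1548)
def n14103 : Q := act 0 n6705
theorem D14103 : act 0 n6705 = n14103 := rfl
theorem F23573 : act 1 n13888 = n14103 := d15_0 (iv0 D14103) F10931 D13888
def n14104 : Q := act 1 n6705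
theorem D14104 : act 1 n6705 = n14104 := rfl
def n14105 : Q := act 2 n6705
theorem D14105 : act 2 n6705 = n14105 := rfl
theorem F23574 : act 3 n14105 = n13880 := d0_2 D6705 D14105 (iv2 D13880) (iv3 D6600) F8050
theorem F23575 : act 7 n14105 = n13888 := d4_2 (iv7 F10931) D14105 (iv2 D13888)
theorem F23576 : act 1 n14105 = n13886 := d15_0 (iv0 D13886) (iv7 F10931) D14105
theorem F23577 : act 1 n14104 = n13888 := d15_1 D14104 (iv7 F23575) (iv2 D14105)
theorem F23578 : act 1 n13887 = n14105 := d15_1 D13887 F23575 (iv2 D13888)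
def n14106 : Q := act 4 n6705
theorem D14106 : act 4 n6705 = n14106 := rfl
theorem F23579 : act 3 n14106 = n12015 := d5_1 D14106 (iv4 D12015) F8734 F7729 D6705
theorem F23580 : act 7 n14106 = n13889 := d11_2 (iv7 F10931) D14106 (iv4 D13889)
def n14107 : Q := act 5 n6705
theorem D14107 : act 5 n6705 = n14107 := rfl
theorem F23581 : act 3 n14107 = n6706 := d6_1 D14107 (iv5 D6706) D6705
theorem F23582 : act 7 n14107 = n13890 := d13_2 (iv7 F10931) D14107 (iv5 D13890)
def n14108 : Q := act 6 n6705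
theorem D14108 : act 6 n6705 = n14108 := rfl
theorem F23583 : act 3 n14108 = n6707 := d7_1 D14108 (iv6 D6707) D6705
def n14109 : Q := act 6 n6706
theorem D14109 : act 6 n6706 = n14109 := rfl
theorem F23584 : act 2 n14109 = n13885 := d3_1 D14109 (iv6 D13885) (iv2 F10932)
def n14110 : Q := act 0 n6708
theorem D14110 : act 0 n6708 = n14110 := rfl
theorem F23585 : act 1 n13880 = n14110 := d15_0 (iv0 D14110) F10937 D13880
def n14111 : Q := act 1 n6708
theorem D14111 : act 1 n6708 = n14111 := rfl
def n14112 : Q := act 2 n6708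
theorem D14112 : act 2 n6708 = n14112 := rfl
theorem F23586 : act 3 n14112 = n13888 := d0_2 D6708 D14112 (iv2 D13888) (iv3 D6603) (iv2 F8049)
theorem F23587 : act 4 n14112 = n13873 := d1_2 (iv4 F10936) D14112 (iv2 D13873)
theorem F23588 : act 7 n14112 = n13880 := d4_2 (iv7 F10937) D14112 (iv2 D13880)
theorem F23589 : act 1 n14112 = n13878 := d15_0 (iv0 D13878) (iv7 F10937) D14112
theorem F23590 : act 1 n14111 = n13880 := d15_1 D14111 (iv7 F23588) (iv2 D14112)
theorem F23591 : act 1 n13879 = n14112 := d15_1 D13879 F23588 (iv2 D13880)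
def n14113 : Q := act 5 n6708
theorem D14113 : act 5 n6708 = n14113 := rfl
theorem F23592 : act 3 n14113 = n6709 := d6_1 D14113 (iv5 D6709) D6708
theorem F23593 : act 7 n14113 = n13881 := d13_2 (iv7 F10937) D14113 (iv5 D13881)
def n14114 : Q := act 6 n6708
theorem D14114 : act 6 n6708 = n14114 := rfl
theorem F23594 : act 3 n14114 = n6710 := d7_1 D14114 (iv6 D6710) D6708
theorem F23595 : act 4 n14114 = n13875 := d10_1 D14114 (iv6 D13875) (iv4 F10936)
def n14115 : Q := act 6 n6709
theorem D14115 : act 6 n6709 = n14115 := rfl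
theorem F23596 : act 2 n14115 = n13892 := d3_1 D14115 (iv6 D13892) (iv2 F10938)
def n14116 : Q := act 5 n6710
theorem D14116 : act 5 n6710 = n14116 := rfl
theorem F23597 : act 2 n14116 = n13893 := d2_1 D14116 (iv5 D13893) (iv2 F10940)
theorem F23598 : act 0 n14116 = n7717 := d17_2 F10942 D14116 (iv5 D7717) (iv4 D3504) (iv5 F2688) D2471 (iv5 F4732) (iv0 F4734) D6040
theorem F23599 : act 1 n14116 = n7713 := d17_6 D2184 (iv5 F7617) (iv1 F7620) F8153 (iv4 F10941) D14116 (iv5 D7713) F5508 (iv4 D2186)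
def n14117 : Q := act 0 n6711
theorem D14117 : act 0 n6711 = n14117 := rfl
theorem F23600 : act 2 n6715 = n14117 := d15_3 (iv0 D14117) (iv0 D6711) D6715
theorem F23602 : act 7 n14117 = n6713 := d4_2 D6715 F23600 (iv2 D6713)
def n14118 : Q := act 2 n6711
theorem D14118 : act 2 n6711 = n14118 := rfl
def n14119 : Q := act 3 n6711
theorem D14119 : act 3 n6711 = n14119 := rfl
def n14120 : Q := act 4 n6711
theorem D14120 : act 4 n6711 = n14120 := rfl
def n14121 : Q := act 5 n6711
theorem D14121 : act 5 n6711 = n14121 := rfl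
def n14122 : Q := act 6 n6711
theorem D14122 : act 6 n6711 = n14122 := rfl
def n14123 : Q := act 7 n6711
theorem D14123 : act 7 n6711 = n14123 := rfl
def n14130 : Q := act 5 n6713
theorem D14130 : act 5 n6713 = n14130 := rfl
theorem F23608 : act 2 n14130 = n6714 := d2_1 D14130 (iv5 D6714) D6713
def n14131 : Q := act 0 n6714
theorem D14131 : act 0 n6714 = n14131 := rfl
def n14132 : Q := act 1 n6714
theorem D14132 : act 1 n6714 = n14132 := rfl
def n14133 : Q := act 4 n6714
theorem D14133 : act 4 n6714 = n14133 := rfl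
def n14134 : Q := act 6 n6714
theorem D14134 : act 6 n6714 = n14134 := rfl
theorem F23610 : act 3 n14134 = n6719 := d7_1 D14134 (iv6 D6719) (iv3 F10946)
theorem F23611 : act 5 n14134 = n12543 := d12_1 D14134 (iv6 D12543) (iv5 D5963) (iv6 F4737) D6714
def n14135 : Q := act 7 n6714
theorem D14135 : act 7 n6714 = n14135 := rfl
theorem F23612 : act 3 n14135 = n6720 := d8_1 D14135 (iv7 D6720) (iv3 F10946)
def n14136 : Q := act 3 n6716
theorem D14136 : act 3 n6716 = n14136 := rfl
theorem F23614 : act 5 n14136 = n13444 := d6_2 (iv5 F10948) D14136 (iv3 D13444)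
theorem F23615 : act 7 n14136 = n13915 := d8_2 F10950 D14136 (iv3 D13915)
def n14137 : Q := act 6 n6716
theorem D14137 : act 6 n6716 = n14137 := rfl
theorem F23616 : act 2 n14137 = n13914 := d3_1 D14137 (iv6 D13914) F10949
def n14138 : Q := act 3 n6717
theorem D14138 : act 3 n6717 = n14138 := rfl
theorem F23617 : act 5 n14138 = n13445 := d6_2 (iv5 F10954) D14138 (iv3 D13445)
theorem F23618 : act 7 n14138 = n13913 := d8_2 (iv7 F10953) D14138 (iv3 D13913)
def n14139 : Q := act 6 n6717
theorem D14139 : act 6 n6717 = n14139 := rfl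
theorem F23619 : act 2 n14139 = n13916 := d3_1 D14139 (iv6 D13916) F10955
def n14140 : Q := act 3 n6718
theorem D14140 : act 3 n6718 = n14140 := rfl
theorem F23620 : act 5 n14140 = n13794 := d6_2 (iv5 F10957) D14140 F23040
theorem F23621 : act 7 n14140 = n13793 := d8_2 F10958 D14140 F23039
def n14141 : Q := act 6 n6718
theorem D14141 : act 6 n6718 = n14141 := rfl
theorem F23622 : act 2 n14141 = n13918 := d3_1 D14141 (iv6 D13918) (iv2 F10956)
theorem F23623 : act 4 n14141 = n6719 := d10_1 D14141 (iv6 D6719) D6718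
def n14142 : Q := act 0 n6719
theorem D14142 : act 0 n6719 = n14142 := rfl
def n14143 : Q := act 1 n6719
theorem D14143 : act 1 n6719 = n14143 := rfl
theorem F23624 : act 1 n14143 = n13921 := d15_1 D14143 (iv7 D13921) (iv2 F10959)
def n14144 : Q := act 7 n6719
theorem D14144 : act 7 n6719 = n14144 := rfl
theorem F23625 : act 2 n14144 = n13921 := d4_1 D14144 (iv7 D13921) (iv2 F10959)
theorem F23626 : act 5 n14144 = n12546 := d13_1 D14144 (iv7 D12546) (iv5 F10960)
theorem F23627 : act 1 n13921 = n14142 := d15_0 (iv0 D14142) D14144 F23625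
theorem F23628 : act 1 n13920 = n14144 := d15_1 D13920 (iv7 D14144) F10959
theorem F23629 : act 1 n14144 = n13919 := d15_0 (iv0 D13919) D13921 (iv2 F23625)
def n14145 : Q := act 6 n6720
theorem D14145 : act 6 n6720 = n14145 := rfl
theorem F23630 : act 2 n14145 = n13922 := d3_1 D14145 (iv6 D13922) (iv2 F10961)
theorem F23631 : act 4 n14145 = n13797 := d10_1 D14145 (iv6 D13797) (iv4 F10962)
def n14146 : Q := act 5 n6721
theorem D14146 : act 5 n6721 = n14146 := rfl
theorem F23632 : act 3 n14146 = n11404 := d6_1 D14146 (iv5 D11404) (iv3 F10966)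
def n14147 : Q := act 4 n6724
theorem D14147 : act 4 n6724 = n14147 := rfl
theorem F23633 : act 6 n14147 = n11835 := d10_2 (iv6 F10968) D14147 (iv4 D11835)
def n14148 : Q := act 5 n6726
theorem D14148 : act 5 n6726 = n14148 := rfl
theorem F23634 : act 3 n14148 = n6730 := d6_1 D14148 (iv5 D6730) (iv3 F10970)
theorem F23635 : act 6 n14148 = n11839 := d12_2 D6726 D14148 (iv5 D11839) (iv6 D5554) (iv5 F4747)
def n14149 : Q := act 5 n6727
theorem D14149 : act 5 n6727 = n14149 := rfl
theorem F23636 : act 2 n14149 = n14146 := d2_1 D14149 (iv5 D14146) (iv2 F10971)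
def n14150 : Q := act 4 n6730
theorem D14150 : act 4 n6730 = n14150 := rfl
theorem F23637 : act 2 n14150 = n14147 := d1_1 D14150 (iv4 D14147) (iv2 F10974)
theorem F23638 : act 6 n14150 = n11846 := d10_2 (iv6 F10975) D14150 (iv4 D11846)
def n14151 : Q := act 4 n6732
theorem D14151 : act 4 n6732 = n14151 := rfl
theorem F23639 : act 2 n14151 = n6738 := d1_1 D14151 (iv4 D6738) (iv2 F22910)
theorem F23640 : act 3 n14151 = n11467 := d5_1 D14151 (iv4 D11467) D11466 (iv4 F20230) F20233
theorem F23641 : act 7 n14151 = n6743 := d11_2 (iv7 F22911) D14151 (iv4 D6743)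
theorem F23642 : act 0 n11775 = n14151 := d20_10 (iv4 D14151) (iv1 F10987) (iv4 F8462) (iv3 F8788) (iv1 F10063) F10318 F10319 F19482 (iv4 F18082) (iv3 F19135)
theorem F23643 : act 1 n11791 = n14151 := d15_1 (iv0 F19470) F23641 F22920
def n14152 : Q := act 5 n6732
theorem D14152 : act 5 n6732 = n14152 := rfl
theorem F23644 : act 2 n14152 = n6739 := d2_1 D14152 (iv5 D6739) (iv2 F22910)
theorem F23645 : act 7 n14152 = n6744 := d13_2 (iv7 F22911) D14152 (iv5 D6744)
theorem F23646 : act 0 n14152 = n14036 := d21_1 D14152 F23416 (iv6 D6924) F19449 (iv6 D2211) F2005 (iv1 F2497) F2495 D3029 D6732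
theorem F23647 : act 1 n13819 = n6744 := d15_1 (iv0 F23083) (iv7 F23645) F23644
def n14153 : Q := act 5 n6733
theorem D14153 : act 5 n6733 = n14153 := rfl
theorem F23648 : act 2 n14153 = n6744 := d2_1 D14153 (iv5 D6744) (iv2 F22913)
theorem F23649 : act 3 n14153 = n13714 := d6_1 D14153 (iv5 D13714) F10982
theorem F23650 : act 7 n14153 = n6739 := d13_2 (iv7 F22914) D14153 (iv5 D6739)
theorem F23651 : act 1 n14153 = n14036 := d15_0 (iv0 F23646) F23645 (iv2 F23648)
def n14154 : Q := act 0 n6734
theorem D14154 : act 0 n6734 = n14154 := rfl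
def n14155 : Q := act 4 n6734
theorem D14155 : act 4 n6734 = n14155 := rfl
theorem F23652 : act 2 n14155 = n6748 := d1_1 D14155 (iv4 D6748) (iv2 F10983)
def n14156 : Q := act 7 n6734
theorem D14156 : act 7 n6734 = n14156 := rfl
theorem F23653 : act 2 n14156 = n6749 := d4_1 D14156 (iv7 D6749) (iv2 F10983)
theorem F23654 : act 5 n14156 = n6735 := d13_1 D14156 (iv7 D6735) D6734
theorem F23655 : act 1 n6749 = n14154 := d15_0 (iv0 D14154) D14156 F23653
theorem F23656 : act 1 n6747 = n14156 := d15_1 D6747 (iv7 D14156) F10983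
theorem F23657 : act 7 n14154 = n6747 := d15_2 F18897 F23655 (iv2 F18936)
theorem F23658 : act 2 n14154 = n6746 := d15_3 (iv0 D6746) D6747 (iv7 F23657)
theorem F23659 : act 7 n6746 = n11587 := d4_2 (iv7 F23657) F23658 F18936
theorem F23660 : act 5 n11588 = n6746 := d13_3 F23659 (iv5 D11587) D11588
theorem F23661 : act 1 n14156 = n6746 := d15_1 F23656 F23659 F18936
def n14157 : Q := act 5 n6737
theorem D14157 : act 5 n6737 = n14157 := rfl
theorem F23662 : act 2 n14157 = n13706 := d2_1 D14157 (iv5 D13706) F22909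
theorem F23663 : act 3 n14157 = n6739 := d6_1 D14157 (iv5 D6739) D6737
theorem F23664 : act 7 n14157 = n13714 := d13_2 (iv7 F22912) D14157 (iv5 D13714)
def n14158 : Q := act 6 n6737
theorem D14158 : act 6 n6737 = n14158 := rfl
theorem F23665 : act 2 n14158 = n13707 := d3_1 D14158 (iv6 D13707) F22909
theorem F23666 : act 3 n14158 = n6740 := d7_1 D14158 (iv6 D6740) D6737
theorem F23667 : act 4 n14158 = n13363 := d10_1 D14158 F22236 (iv4 F10991)
theorem E3016 : n13363 = n12363 := (c20_7 (iv4 D2349) D2347 D5646 D11975 F19773 (iv3 F23666) F23667 (iv1 D12363) F9096 F9095 (iv1 F7737))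
theorem F23668 : act 2 n12363 = n6526 := (sb E3016 (iv2 F22936))
theorem F23669 : act 4 n12363 = n14158 := (sb E3016 (iv4 F23667))
theorem F23670 : act 5 n12363 = n6336 := (sb E3016 (iv5 D13363))
theorem F23671 : act 6 n12363 = n6518 := (sb E3016 F22236)
def n14159 : Q := act 0 n6738
theorem D14159 : act 0 n6738 = n14159 := rfl
theorem F23672 : act 4 n14159 = n11779 := d20_2 D6738 D14159 F19139 F19539 (iv3 D2982) F7731 (iv1 D1279) (iv4 F1495) (iv3 F2491) D3030
theorem F23673 : act 3 n14159 = n13967 := d20_5 (iv4 F10440) D13448 F22382 (iv3 F18658) D14159 (iv4 D13967) (iv1 F10760) F11082 F19542 (iv1 D11530)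
theorem F23674 : act 2 n11791 = n14159 := d15_3 (iv0 D14159) F19525 D11791
theorem F23675 : act 1 n6743 = n14159 := d15_0 (iv0 D14159) (iv7 F22889) (iv2 F22920)
theorem F23676 : act 7 n14159 = n11775 := d15_2 (iv0 F22921) F23675 F19134
theorem F23677 : act 6 n14159 = n14159 := d14_5 F23676 (iv6 D11775) F8427 D11775 (iv7 F23676)
def n14160 : Q := act 5 n6738
theorem D14160 : act 5 n6738 = n14160 := rfl
def n14161 : Q := act 6 n6738
theorem D14161 : act 6 n6738 = n14161 := rfl
theorem F23678 : act 4 n14161 = n6740 := d10_1 D14161 (iv6 D6740) D6738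
def n14162 : Q := act 0 n6739
theorem D14162 : act 0 n6739 = n14162 := rfl
theorem F23679 : act 5 n14162 = n11546 := d21_2 D6739 D14162 (iv6 D11546) (iv1 D5377) (iv6 D2214) (iv5 F2501) (iv1 D1366) F1496 D1361 D3030
theorem F23680 : act 2 n14036 = n14162 := d15_3 (iv0 D14162) (iv0 F23083) (iv7 F23417)
theorem F23681 : act 1 n6744 = n14162 := d15_0 (iv0 D14162) (iv7 F23650) F23648
theorem F23682 : act 0 n6745 = n6956 := d21_4 (iv5 F23679) (iv1 F23681) (iv5 D6744) D6745 (iv6 F19771) F19770 (iv1 D11581) (iv5 D5387) D5388 (iv1 F19495)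
def n14163 : Q := act 4 n6739
theorem D14163 : act 4 n6739 = n14163 := rfl
def n14164 : Q := act 6 n6739
theorem D14164 : act 6 n6739 = n14164 := rfl
def n14165 : Q := act 5 n6742
theorem D14165 : act 5 n6742 = n14165 := rfl
theorem F23683 : act 3 n14165 = n6744 := d6_1 D14165 (iv5 D6744) D6742
def n14166 : Q := act 6 n6742
theorem D14166 : act 6 n6742 = n14166 := rfl
theorem F23684 : act 3 n14166 = n6745 := d7_1 D14166 (iv6 D6745) D6742
def n14167 : Q := act 3 n6743
theorem D14167 : act 3 n6743 = n14167 := rfl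
theorem F23685 : act 2 n14167 = n11472 := d0_1 D14167 F18748 F22890 D11416 (iv2 F22920)
theorem F23686 : act 4 n14167 = n11462 := d5_2 D6743 D14167 (iv3 F22133) (iv4 F22918) (iv3 D6742)
theorem F23687 : act 7 n14167 = n11467 := d8_2 F23641 D14167 (iv3 F23640)
theorem F23688 : act 0 n14167 = n11837 := d20_4 (iv4 F10985) (iv1 F10988) D6743 D14167 F19229 F11006 D6761 (iv4 F19445) (iv3 F19447) (iv1 F8477)
theorem F23689 : act 0 n12021 = n14167 := d20_4 (iv4 D5674) (iv1 F3730) (iv4 F8749) (iv3 F19882) (iv3 D14167) (iv4 D6743) (iv1 D3031) (iv4 F3665) (iv3 F3759) (iv1 F10051)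
def n14168 : Q := act 5 n6743
theorem D14168 : act 5 n6743 = n14168 := rfl
def n14169 : Q := act 6 n6743
theorem D14169 : act 6 n6743 = n14169 := rfl
theorem F23690 : act 4 n14169 = n6745 := d10_1 D14169 (iv6 D6745) D6743
def n14170 : Q := act 4 n6744
theorem D14170 : act 4 n6744 = n14170 := rfl
def n14171 : Q := act 6 n6744
theorem D14171 : act 6 n6744 = n14171 := rfl
def n14172 : Q := act 1 n6745
theorem D14172 : act 1 n6745 = n14172 := rfl
def n14173 : Q := act 5 n6745
theorem D14173 : act 5 n6745 = n14173 := rfl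
theorem F23691 : act 0 n11518 = n14173 := d21_1 D11518 (iv5 D14173) (iv6 D6745) (iv1 D3031) (iv6 D1361) (iv5 F1496) F1979 (iv5 F2005) D2211 D5370
theorem F23692 : act 1 n6923 = n14173 := d15_0 (iv0 F23691) (iv7 F19500) (iv2 F19548)
theorem F23693 : act 0 n6924 = n11588 := d21_10 F23660 (iv1 F23661) F23654 F10986 (iv1 F10988) D6745 D14173 (iv1 F23692) (iv5 D6923) D6924
def n14174 : Q := act 3 n6746
theorem D14174 : act 3 n6746 = n14174 := rfl
def n14175 : Q := act 4 n6746
theorem D14175 : act 4 n6746 = n14175 := rfl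
def n14176 : Q := act 6 n6746
theorem D14176 : act 6 n6746 = n14176 := rfl
def n14177 : Q := act 3 n6747
theorem D14177 : act 3 n6747 = n14177 := rfl
def n14178 : Q := act 4 n6747
theorem D14178 : act 4 n6747 = n14178 := rfl
def n14179 : Q := act 6 n6747
theorem D14179 : act 6 n6747 = n14179 := rfl
def n14180 : Q := act 0 n6748
theorem D14180 : act 0 n6748 = n14180 := rfl
def n14181 : Q := act 1 n6748
theorem D14181 : act 1 n6748 = n14181 := rfl
def n14182 : Q := act 3 n6748
theorem D14182 : act 3 n6748 = n14182 := rfl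
theorem F23694 : act 4 n14182 = n6754 := d5_2 D6748 D14182 (iv3 D6754) (iv4 D3046) (iv3 F4757)
def n14183 : Q := act 5 n6748
theorem D14183 : act 5 n6748 = n14183 := rfl
def n14184 : Q := act 7 n6748
theorem D14184 : act 7 n6748 = n14184 := rfl
theorem F23695 : act 4 n14184 = n6749 := d11_1 D14184 (iv7 D6749) D6748
def n14185 : Q := act 6 n6749
theorem D14185 : act 6 n6749 = n14185 := rfl
theorem F23696 : act 3 n14185 = n6757 := d7_1 D14185 (iv6 D6757) (iv3 F10993)
theorem F23697 : act 5 n14185 = n14185 := d12_1 D14185 (iv6 D14185) F10994 F4759 (iv5 F10994)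
def n14186 : Q := act 4 n6750
theorem D14186 : act 4 n6750 = n14186 := rfl
def n14187 : Q := act 6 n6750
theorem D14187 : act 6 n6750 = n14187 := rfl
theorem F23698 : act 3 n14187 = n6751 := d7_1 D14187 (iv6 D6751) D6750
def n14188 : Q := act 0 n6751
theorem D14188 : act 0 n6751 = n14188 := rfl
def n14189 : Q := act 1 n6751
theorem D14189 : act 1 n6751 = n14189 := rfl
def n14190 : Q := act 7 n6751
theorem D14190 : act 7 n6751 = n14190 := rfl
def n14191 : Q := act 4 n6752
theorem D14191 : act 4 n6752 = n14191 := rfl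
def n14192 : Q := act 6 n6752
theorem D14192 : act 6 n6752 = n14192 := rfl
theorem F23699 : act 3 n14192 = n6753 := d7_1 D14192 (iv6 D6753) D6752
theorem F23700 : act 5 n14192 = n11900 := d12_1 D14192 (iv6 D11900) (iv5 D5580) D5581 (iv5 F10995)
def n14193 : Q := act 0 n6753
theorem D14193 : act 0 n6753 = n14193 := rfl
theorem F23701 : act 5 n14193 = n11943 := d21_0 (iv1 F19705) (iv5 F23431) F23432 (iv1 F23123) F20422 F10850 (iv1 D5587) F4763 D6753 D14193
def n14194 : Q := act 1 n6753
theorem D14194 : act 1 n6753 = n14194 := rfl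
theorem F23702 : act 5 n11944 = n14194 := d21_0 (iv1 D14194) F10996 (iv6 D5585) D5582 D11906 F19608 D12298 (iv5 F20407) F19688 (iv1 F19702)
theorem F23703 : act 6 n11678 = n11944 := d21_5 F8505 F5141 (iv5 F4970) D5423 D11678 F23702 (iv1 D14194) F10996 (iv6 D5585) D5582
def n14195 : Q := act 7 n6753
theorem D14195 : act 7 n6753 = n14195 := rfl
theorem F23704 : act 5 n14195 = n11913 := d13_1 D14195 (iv7 D11913) (iv5 F10996)
def n14196 : Q := act 0 n6754
theorem D14196 : act 0 n6754 = n14196 := rfl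
def n14197 : Q := act 1 n6754
theorem D14197 : act 1 n6754 = n14197 := rfl
def n14198 : Q := act 2 n6754
theorem D14198 : act 2 n6754 = n14198 := rfl
def n14199 : Q := act 5 n6754
theorem D14199 : act 5 n6754 = n14199 := rfl
theorem F23705 : act 3 n14199 = n6755 := d6_1 D14199 (iv5 D6755) D6754
def n14200 : Q := act 7 n6754
theorem D14200 : act 7 n6754 = n14200 := rfl
theorem F23706 : act 3 n14200 = n6756 := d8_1 D14200 (iv7 D6756) D6754
def n14201 : Q := act 6 n6755
theorem D14201 : act 6 n6755 = n14201 := rfl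
def n14202 : Q := act 6 n6756
theorem D14202 : act 6 n6756 = n14202 := rfl
theorem F23707 : act 4 n14202 = n6757 := d10_1 D14202 (iv6 D6757) (iv4 F10997)
def n14203 : Q := act 0 n6757
theorem D14203 : act 0 n6757 = n14203 := rfl
theorem F23708 : act 1 n6757 = n14203 := d15_0 (iv0 D14203) (iv7 F11050) F11048
def n14204 : Q := act 5 n6758
theorem D14204 : act 5 n6758 = n14204 := rfl
theorem F23709 : act 2 n14204 = n11242 := d2_1 D14204 (iv5 D11242) (iv2 F11001)
theorem F23710 : act 3 n14204 = n6759 := d6_1 D14204 (iv5 D6759) (iv3 F11002)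
theorem F23711 : act 6 n14204 = n11531 := d12_2 D6758 D14204 (iv5 D11531) (iv6 D5374) (iv5 F4766)
def n14205 : Q := act 4 n6759
theorem D14205 : act 4 n6759 = n14205 := rfl
theorem F23712 : act 2 n14205 = n11319 := d1_1 D14205 (iv4 D11319) (iv2 F11003)
theorem F23713 : act 6 n14205 = n11549 := d10_2 (iv6 F11004) D14205 (iv4 D11549)
def n14206 : Q := act 5 n6760
theorem D14206 : act 5 n6760 = n14206 := rfl
theorem F23714 : act 2 n14206 = n6769 := d2_1 D14206 (iv5 D6769) (iv2 F11005)
def n14207 : Q := act 7 n6760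
theorem D14207 : act 7 n6760 = n14207 := rfl
theorem F23715 : act 2 n14207 = n6770 := d4_1 D14207 (iv7 D6770) (iv2 F11005)
theorem F23716 : act 4 n14207 = n6764 := d11_1 D14207 (iv7 D6764) (iv4 F11006)
theorem F23717 : act 6 n14207 = n14207 := d14_1 D14207 (iv7 D14207) (iv6 D6760) F4773 D6760
theorem F23718 : act 1 n6768 = n14207 := d15_1 D6768 (iv7 D14207) F11005
theorem F23719 : act 1 n14207 = n6767 := d15_1 F23718 (iv7 F22898) (iv2 F22945)
def n14208 : Q := act 5 n6761
theorem D14208 : act 5 n6761 = n14208 := rfl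
theorem F23720 : act 2 n14208 = n6771 := d2_1 D14208 (iv5 D6771) F11011
theorem F23721 : act 7 n14208 = n6775 := d13_2 F11012 D14208 (iv5 D6775)
theorem F23722 : act 0 n14208 = n13816 := d21_1 D14208 F23076 (iv6 D7679) F10314 (iv6 D2306) (iv5 F2482) (iv1 F2486) (iv5 F2495) D3051 D6761
theorem F23723 : act 1 n14038 = n6775 := d15_1 (iv0 F23422) (iv7 F23721) F23720
def n14209 : Q := act 5 n6762
theorem D14209 : act 5 n6762 = n14209 := rfl
theorem F23724 : act 2 n14209 = n6775 := d2_1 D14209 (iv5 D6775) (iv2 F11013)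
theorem F23725 : act 3 n14209 = n11263 := d6_1 D14209 (iv5 D11263) F11008
theorem F23726 : act 7 n14209 = n6771 := d13_2 (iv7 F11010) D14209 (iv5 D6771)
theorem F23727 : act 1 n14209 = n13816 := d15_0 (iv0 F23722) F23721 (iv2 F23724)
def n14210 : Q := act 0 n6763
theorem D14210 : act 0 n6763 = n14210 := rfl
theorem F23728 : act 2 n6777 = n14210 := d15_3 (iv0 D14210) (iv0 F19298) (iv7 F19545)
theorem F23729 : act 7 n14210 = n6778 := d4_2 (iv7 F19545) F23728 (iv2 F19296)
theorem F23730 : act 1 n6780 = n14210 := d15_1 F19299 F23729 (iv2 F19296)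
def n14211 : Q := act 4 n6763
theorem D14211 : act 4 n6763 = n14211 := rfl
theorem F23731 : act 2 n14211 = n6779 := d1_1 D14211 (iv4 D6779) (iv2 F11015)
theorem F23732 : act 6 n14211 = n14155 := d10_2 (iv6 F11017) D14211 (iv4 D14155)
def n14212 : Q := act 7 n6763
theorem D14212 : act 7 n6763 = n14212 := rfl
theorem F23733 : act 2 n14212 = n6780 := d4_1 D14212 (iv7 D6780) (iv2 F11015)
theorem F23734 : act 3 n14212 = n14156 := d8_1 D14212 (iv7 D14156) (iv3 F11016)
theorem F23735 : act 5 n14212 = n6764 := d13_1 D14212 (iv7 D6764) D6763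
theorem F23736 : act 1 n6778 = n14212 := d15_1 D6778 (iv7 D14212) F11015
theorem F23737 : act 1 n14212 = n6777 := d15_1 F23736 F19545 F19296
def n14213 : Q := act 5 n6765
theorem D14213 : act 5 n6765 = n14213 := rfl
theorem F23738 : act 3 n14213 = n11459 := d6_1 D14213 (iv5 D11459) (iv3 F11023)
theorem F23739 : act 6 n14213 = n14146 := d12_2 D6765 D14213 (iv5 D14146) (iv6 D6721) (iv5 F4776)
def n14214 : Q := act 5 n6766
theorem D14214 : act 5 n6766 = n14214 := rfl
theorem F23740 : act 2 n14214 = n14213 := d2_1 D14214 (iv5 D14213) (iv2 F11024)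
theorem F23741 : act 6 n14214 = n14149 := d12_2 D6766 D14214 (iv5 D14149) (iv6 D6727) (iv5 F4782)
def n14215 : Q := act 5 n6767
theorem D14215 : act 5 n6767 = n14215 := rfl
def n14216 : Q := act 6 n6767
theorem D14216 : act 6 n6767 = n14216 := rfl
theorem F23742 : act 3 n14216 = n13499 := d7_1 D14216 F22649 F19518
theorem F23743 : act 5 n13497 = n14216 := d6_0 F23742 (iv5 D13499) D13497
theorem F23744 : act 0 n13497 = n11786 := d21_7 F3654 F4495 F4493 D3054 D6767 D14216 (iv5 F23743) (iv5 D11786) (iv6 D5518) (iv1 F3652)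
theorem F23745 : act 1 n13497 = n11802 := d15_1 (iv0 F23744) (iv7 D11802) (iv2 F19159)
def n14217 : Q := act 3 n6768
theorem D14217 : act 3 n6768 = n14217 := rfl
theorem F23746 : act 2 n14217 = n13317 := d0_1 D14217 F22133 F22899 D11471 (iv2 F22945)
theorem F23747 : act 4 n14217 = n12230 := d5_2 F22399 D14217 F22523 F22522 F22400
theorem F23748 : act 7 n14217 = n13316 := d8_2 F22948 D14217 (iv3 F22947)
theorem F23749 : act 0 n14217 = n11138 := d20_4 (iv4 F18845) (iv1 F18848) F22399 D14217 (iv3 F19135) F19136 D11776 F19464 F19447 (iv1 F8205)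
theorem F23750 : act 0 n13319 = n14217 := d20_4 (iv4 F19528) (iv1 F18289) (iv4 F9845) (iv3 F22136) (iv3 D14217) (iv4 F22399) (iv1 D11512) F8191 F3582 D5231
def n14218 : Q := act 5 n6768
theorem D14218 : act 5 n6768 = n14218 := rfl
def n14219 : Q := act 6 n6768
theorem D14219 : act 6 n6768 = n14219 := rfl
def n14220 : Q := act 0 n6769
theorem D14220 : act 0 n6769 = n14220 := rfl
def n14221 : Q := act 1 n6769
theorem D14221 : act 1 n6769 = n14221 := rfl
def n14222 : Q := act 4 n6769
theorem D14222 : act 4 n6769 = n14222 := rfl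
def n14223 : Q := act 7 n6769
theorem D14223 : act 7 n6769 = n14223 := rfl
theorem F23751 : act 3 n14223 = n12012 := d8_1 D14223 (iv7 D12012) (iv3 F11026)
theorem F23752 : act 5 n14223 = n6770 := d13_1 D14223 (iv7 D6770) D6769
def n14224 : Q := act 0 n6771
theorem D14224 : act 0 n6771 = n14224 := rfl
theorem F23753 : act 5 n14224 = n11843 := d21_2 D6771 D14224 (iv6 D11843) (iv1 D5556) (iv6 D2308) F2489 (iv1 D1359) (iv5 F1496) D1369 D3055
theorem F23754 : act 2 n13816 = n14224 := d15_3 (iv0 D14224) (iv0 F23422) F23421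
theorem F23755 : act 1 n6775 = n14224 := d15_0 (iv0 D14224) (iv7 F23726) F23724
theorem F23756 : act 0 n6776 = n12280 := d21_4 (iv5 F23753) (iv1 F23755) (iv5 D6775) D6776 F20354 F19292 (iv1 D11858) (iv5 D5565) D5566 (iv1 F19295)
theorem F23757 : act 3 n14224 = n14162 := d0_2 D13816 F23754 (iv2 F23680) (iv3 D14036) (iv2 F10846)
def n14225 : Q := act 4 n6771
theorem D14225 : act 4 n6771 = n14225 := rfl
def n14226 : Q := act 6 n6771
theorem D14226 : act 6 n6771 = n14226 := rfl
def n14227 : Q := act 5 n6773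
theorem D14227 : act 5 n6773 = n14227 := rfl
theorem F23758 : act 3 n14227 = n6775 := d6_1 D14227 (iv5 D6775) D6773
def n14228 : Q := act 6 n6773
theorem D14228 : act 6 n6773 = n14228 := rfl
theorem F23759 : act 3 n14228 = n6776 := d7_1 D14228 (iv6 D6776) D6773
def n14229 : Q := act 4 n6775
theorem D14229 : act 4 n6775 = n14229 := rfl
def n14230 : Q := act 6 n6775
theorem D14230 : act 6 n6775 = n14230 := rfl
def n14231 : Q := act 1 n6776
theorem D14231 : act 1 n6776 = n14231 := rfl
def n14232 : Q := act 5 n6776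
theorem D14232 : act 5 n6776 = n14232 := rfl
theorem F23760 : act 1 n14232 = n11832 := d17_6 D3030 D6739 D14162 F23679 F19498 D14232 (iv5 D11832) (iv0 D5549) F3665
theorem F23761 : act 0 n14232 = n7678 := d21_7 F19501 (iv1 F23737) F23735 F11020 (iv1 F11021) D6776 D14232 (iv5 D7678) D7679 F19993
def n14233 : Q := act 4 n6777
theorem D14233 : act 4 n6777 = n14233 := rfl
def n14234 : Q := act 6 n6777
theorem D14234 : act 6 n6777 = n14234 := rfl
def n14235 : Q := act 3 n6778
theorem D14235 : act 3 n6778 = n14235 := rfl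
def n14236 : Q := act 4 n6778
theorem D14236 : act 4 n6778 = n14236 := rfl
def n14237 : Q := act 6 n6778
theorem D14237 : act 6 n6778 = n14237 := rfl
def n14238 : Q := act 0 n6779
theorem D14238 : act 0 n6779 = n14238 := rfl
def n14239 : Q := act 1 n6779
theorem D14239 : act 1 n6779 = n14239 := rfl
def n14240 : Q := act 3 n6779
theorem D14240 : act 3 n6779 = n14240 := rfl
theorem F23762 : act 4 n14240 = n6785 := d5_2 D6779 D14240 (iv3 D6785) (iv4 D3071) (iv3 F4787)
theorem F23763 : act 6 n14240 = n14182 := d7_2 (iv6 F11032) D14240 (iv3 D14182)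
def n14241 : Q := act 5 n6779
theorem D14241 : act 5 n6779 = n14241 := rfl
def n14242 : Q := act 7 n6779
theorem D14242 : act 7 n6779 = n14242 := rfl
theorem F23764 : act 4 n14242 = n6780 := d11_1 D14242 (iv7 D6780) D6779
def n14243 : Q := act 6 n6780
theorem D14243 : act 6 n6780 = n14243 := rfl
theorem F23765 : act 3 n14243 = n6788 := d7_1 D14243 (iv6 D6788) (iv3 F11033)
theorem F23766 : act 5 n14243 = n14243 := d12_1 D14243 (iv6 D14243) F11034 F4790 (iv5 F11034)
theorem F23767 : act 7 n14243 = n14185 := d14_2 D6780 D14243 (iv6 D14185) (iv7 D6749) (iv6 F4788)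
def n14244 : Q := act 4 n6781
theorem D14244 : act 4 n6781 = n14244 := rfl
theorem F23768 : act 7 n14244 = n14191 := d11_2 (iv7 F11035) D14244 (iv4 D14191)
def n14245 : Q := act 6 n6781
theorem D14245 : act 6 n6781 = n14245 := rfl
theorem F23769 : act 3 n14245 = n6782 := d7_1 D14245 (iv6 D6782) D6781
def n14246 : Q := act 0 n6782
theorem D14246 : act 0 n6782 = n14246 := rfl
theorem F23770 : act 6 n14246 = n14194 := d21_5 F10629 (iv1 F8526) F8523 D6782 D14246 (iv5 F23702) (iv1 D11944) (iv5 F10633) (iv6 D6573) D6570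
def n14247 : Q := act 1 n6782
theorem D14247 : act 1 n6782 = n14247 := rfl
theorem F23771 : act 1 n14247 = n14190 := d15_1 D14247 (iv7 D14190) (iv2 F11036)
def n14248 : Q := act 7 n6782
theorem D14248 : act 7 n6782 = n14248 := rfl
theorem F23772 : act 2 n14248 = n14190 := d4_1 D14248 (iv7 D14190) (iv2 F11036)
theorem F23773 : act 6 n14248 = n14195 := d14_1 D14248 (iv7 D14195) (iv6 D6753) (iv7 F4987) D6782
theorem F23774 : act 1 n14190 = n14246 := d15_0 (iv0 D14246) D14248 F23772
theorem F23775 : act 1 n14189 = n14248 := d15_1 D14189 (iv7 D14248) F11036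
theorem F23776 : act 1 n14248 = n14188 := d15_0 (iv0 D14188) D14190 (iv2 F23772)
def n14249 : Q := act 4 n6783
theorem D14249 : act 4 n6783 = n14249 := rfl
theorem F23777 : act 7 n14249 = n14186 := d11_2 (iv7 F11038) D14249 (iv4 D14186)
def n14250 : Q := act 6 n6783
theorem D14250 : act 6 n6783 = n14250 := rfl
theorem F23778 : act 3 n14250 = n6784 := d7_1 D14250 (iv6 D6784) D6783
theorem F23779 : act 5 n14250 = n11631 := d12_1 D14250 (iv6 D11631) (iv5 D5402) D5403 (iv5 F11037)
def n14251 : Q := act 0 n6784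
theorem D14251 : act 0 n6784 = n14251 := rfl
theorem F23780 : act 5 n14251 = n11689 := d21_0 (iv1 F19707) (iv5 F23092) (iv6 F23509) (iv1 F23511) F11270 F10632 (iv1 D5408) F4795 D6784 D14251
theorem F23781 : act 0 n14251 = n14195 := d21_1 (iv5 F23780) F23704 F19623 (iv1 F19617) (iv6 D11908) F8511 (iv1 F4993) F4977 D5426 D11689
def n14252 : Q := act 1 n6784
theorem D14252 : act 1 n6784 = n14252 := rfl
theorem F23782 : act 1 n14252 = n14195 := d15_1 D14252 (iv7 D14195) (iv2 F11040)
theorem F23783 : act 5 n11690 = n14252 := d21_0 (iv1 D14252) F11041 (iv6 D5406) (iv1 F4952) (iv6 F11258) (iv5 D6994) D6992 F20409 (iv6 F19704) (iv1 F19706)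
theorem F23784 : act 6 n11935 = n11690 := d21_5 (iv5 D3161) F4901 (iv5 F4882) D5600 D11935 F23783 (iv1 D14252) F11041 (iv6 D5406) (iv1 F4952)
theorem F23785 : act 6 n14252 = n14188 := d21_3 F23092 (iv1 F19706) F23783 (iv1 F23776) F23773 F23704 (iv1 F19625) (iv5 F23089) (iv6 F23426) (iv1 F23433)
def n14253 : Q := act 7 n6784
theorem D14253 : act 7 n6784 = n14253 := rfl
theorem F23786 : act 2 n14253 = n14195 := d4_1 D14253 (iv7 D14195) (iv2 F11040)
theorem F23787 : act 5 n14253 = n11643 := d13_1 D14253 (iv7 D11643) (iv5 F11041)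
theorem F23788 : act 6 n14253 = n14190 := d14_1 D14253 (iv7 D14190) (iv6 D6751) F4988 D6784
theorem F23789 : act 1 n14194 = n14253 := d15_1 D14194 (iv7 D14253) F11040
theorem F23790 : act 0 n14193 = n14253 := d21_1 (iv5 F23701) F23787 (iv6 F19667) (iv1 F19669) (iv6 D11637) (iv5 F8660) F8661 F4891 D5603 D11943
def n14254 : Q := act 0 n6785
theorem D14254 : act 0 n6785 = n14254 := rfl
def n14255 : Q := act 1 n6785
theorem D14255 : act 1 n6785 = n14255 := rfl
def n14256 : Q := act 2 n6785
theorem D14256 : act 2 n6785 = n14256 := rfl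
theorem F23791 : act 3 n14256 = n14198 := d0_2 D6785 D14256 (iv2 D14198) (iv3 D6754) (iv2 F4796)
theorem F23792 : act 6 n14256 = n14198 := d3_2 (iv6 F11042) D14256 (iv2 D14198)
def n14257 : Q := act 5 n6785
theorem D14257 : act 5 n6785 = n14257 := rfl
theorem F23793 : act 3 n14257 = n6786 := d6_1 D14257 (iv5 D6786) D6785
def n14258 : Q := act 7 n6785
theorem D14258 : act 7 n6785 = n14258 := rfl
theorem F23794 : act 3 n14258 = n6787 := d8_1 D14258 (iv7 D6787) D6785
def n14259 : Q := act 6 n6786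
theorem D14259 : act 6 n6786 = n14259 := rfl
theorem F23795 : act 2 n14259 = n14201 := d3_1 D14259 (iv6 D14201) (iv2 F11043)
theorem F23796 : act 5 n14259 = n14201 := d12_1 D14259 (iv6 D14201) (iv5 D6755) (iv6 F4797) D6786
def n14260 : Q := act 6 n6787
theorem D14260 : act 6 n6787 = n14260 := rfl
theorem F23797 : act 2 n14260 = n14202 := d3_1 D14260 (iv6 D14202) (iv2 F11044)
theorem F23798 : act 4 n14260 = n6788 := d10_1 D14260 (iv6 D6788) (iv4 F11045)
theorem F23799 : act 7 n14260 = n14202 := d14_2 D6787 D14260 (iv6 D14202) (iv7 D6756) (iv6 F4797)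
def n14261 : Q := act 0 n6788
theorem D14261 : act 0 n6788 = n14261 := rfl
theorem F23800 : act 1 n6788 = n14261 := d15_0 (iv0 D14261) F11050 (iv2 F11048)
def n14262 : Q := act 5 n6789
theorem D14262 : act 5 n6789 = n14262 := rfl
theorem F23801 : act 3 n14262 = n14208 := d6_1 D14262 (iv5 D14208) (iv3 F22521)
theorem F23802 : act 7 n14262 = n14227 := d13_2 F22520 D14262 (iv5 D14227)
def n14263 : Q := act 6 n6789
theorem D14263 : act 6 n6789 = n14263 := rfl
theorem F23803 : act 3 n14263 = n11879 := d7_1 D14263 F19566 (iv3 F22521)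
theorem F23804 : act 5 n11877 = n14263 := d6_0 F23803 (iv5 D11879) D11877
theorem F23805 : act 0 n11877 = n12050 := d21_7 (iv5 F4827) (iv1 F4830) F3818 D3073 D6789 D14263 (iv5 F23804) (iv5 D12050) (iv6 D5709) (iv1 F3785)
def n14264 : Q := act 5 n6790
theorem D14264 : act 5 n6790 = n14264 := rfl
theorem F23806 : act 2 n14264 = n14227 := d2_1 D14264 (iv5 D14227) (iv2 F22513)
theorem F23807 : act 3 n14264 = n11290 := d6_1 D14264 (iv5 D11290) (iv3 F22514)
def n14265 : Q := act 6 n6790
theorem D14265 : act 6 n6790 = n14265 := rfl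
theorem F23808 : act 2 n14265 = n14228 := d3_1 D14265 (iv6 D14228) (iv2 F22513)
theorem F23809 : act 3 n14265 = n11291 := d7_1 D14265 (iv6 D11291) (iv3 F22514)
theorem F23810 : act 4 n14265 = n13951 := d10_1 D14265 (iv6 D13951) (iv4 F22515)
theorem F23811 : act 0 n6875 = n14265 := d20_1 (iv4 F11140) F23810 F23236 F18567 F18564 F9049 F3905 (iv4 F4941) (iv3 F22552) (iv1 D6883)
def n14266 : Q := act 0 n6791
theorem D14266 : act 0 n6791 = n14266 := rfl
def n14267 : Q := act 1 n6791
theorem D14267 : act 1 n6791 = n14267 := rfl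
def n14268 : Q := act 4 n6791
theorem D14268 : act 4 n6791 = n14268 := rfl
theorem F23812 : act 0 n14268 = n13767 := d20_7 (iv4 F10828) (iv1 F10830) F10619 D6752 F22539 (iv3 F11051) D14268 (iv4 D13767) (iv3 D6552) (iv1 F4676)
def n14269 : Q := act 7 n6791
theorem D14269 : act 7 n6791 = n14269 := rfl
theorem F23813 : act 3 n14269 = n6810 := d8_1 D14269 (iv7 D6810) (iv3 F11051)
theorem F23814 : act 5 n14269 = n6792 := d13_1 D14269 (iv7 D6792) D6791
def n14270 : Q := act 5 n6793
theorem D14270 : act 5 n6793 = n14270 := rfl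
theorem F23815 : act 2 n14270 = n14262 := d2_1 D14270 (iv5 D14262) (iv2 F22519)
theorem F23816 : act 3 n14270 = n11257 := d6_1 D14270 (iv5 D11257) (iv3 F22495)
theorem F23817 : act 7 n14270 = n14264 := d13_2 F22516 D14270 (iv5 D14264)
def n14271 : Q := act 6 n6793
theorem D14271 : act 6 n6793 = n14271 := rfl
theorem F23818 : act 2 n14271 = n14263 := d3_1 D14271 (iv6 D14263) (iv2 F22519)
theorem F23819 : act 3 n14271 = n11258 := d7_1 D14271 (iv6 D11258) (iv3 F22495)
theorem F23820 : act 5 n12084 = n14271 := d6_0 F23819 F18329 D12084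
theorem F23821 : act 0 n14271 = n6893 := d20_10 F11185 F22474 F10416 (iv3 D5647) (iv1 F7598) (iv3 F11435) (iv4 F18323) (iv1 F18326) (iv4 F18328) (iv3 F23819)
def n14272 : Q := act 0 n6795
theorem D14272 : act 0 n6795 = n14272 := rfl
def n14273 : Q := act 1 n6795
theorem D14273 : act 1 n6795 = n14273 := rfl
theorem F23822 : act 1 n14273 = n14269 := d15_1 D14273 (iv7 D14269) (iv2 F11056)
def n14274 : Q := act 4 n6795
theorem D14274 : act 4 n6795 = n14274 := rfl
theorem F23823 : act 2 n14274 = n14268 := d1_1 D14274 (iv4 D14268) (iv2 F11056)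
theorem F23824 : act 1 n14274 = n14008 := d18_6 F19539 F10105 F22493 (iv4 F4806) D6795 D14274 (iv4 D14008) F22430 F22429
def n14275 : Q := act 7 n6795
theorem D14275 : act 7 n6795 = n14275 := rfl
theorem F23825 : act 2 n14275 = n14269 := d4_1 D14275 (iv7 D14269) (iv2 F11056)
theorem F23826 : act 5 n14275 = n6796 := d13_1 D14275 (iv7 D6796) D6795
theorem F23827 : act 1 n14269 = n14272 := d15_0 (iv0 D14272) D14275 F23825
theorem F23828 : act 1 n14267 = n14275 := d15_1 D14267 (iv7 D14275) F11056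
theorem F23829 : act 1 n14275 = n14266 := d15_0 (iv0 D14266) D14269 (iv2 F23825)
def n14276 : Q := act 4 n6800
theorem D14276 : act 4 n6800 = n14276 := rfl
theorem F23830 : act 2 n14276 = n14034 := d1_1 D14276 (iv4 D14034) (iv2 F22538)
def n14277 : Q := act 6 n6800
theorem D14277 : act 6 n6800 = n14277 := rfl
theorem F23831 : act 2 n14277 = n14035 := d3_1 D14277 (iv6 D14035) (iv2 F22538)
def n14278 : Q := act 4 n6807
theorem D14278 : act 4 n6807 = n14278 := rfl
theorem F23832 : act 2 n14278 = n14244 := d1_1 D14278 (iv4 D14244) F22542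
def n14279 : Q := act 5 n6807
theorem D14279 : act 5 n6807 = n14279 := rfl
theorem F23833 : act 2 n14279 = n11903 := d2_1 D14279 F19593 F22542
theorem F23834 : act 7 n14279 = n11896 := d13_2 (iv7 F22541) D14279 (iv5 F22532)
theorem F23835 : act 1 n11902 = n14279 := d15_1 D11902 F23834 F19586
theorem F23836 : act 1 n14279 = n11901 := d15_0 (iv0 D11901) D11903 (iv2 F23833)
def n14280 : Q := act 6 n6807
theorem D14280 : act 6 n6807 = n14280 := rfl
theorem F23837 : act 2 n14280 = n14245 := d3_1 D14280 (iv6 D14245) F22542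
def n14281 : Q := act 0 n6809
theorem D14281 : act 0 n6809 = n14281 := rfl
def n14282 : Q := act 1 n6809
theorem D14282 : act 1 n6809 = n14282 := rfl
def n14283 : Q := act 3 n6809
theorem D14283 : act 3 n6809 = n14283 := rfl
def n14284 : Q := act 5 n6809
theorem D14284 : act 5 n6809 = n14284 := rfl
def n14285 : Q := act 7 n6809
theorem D14285 : act 7 n6809 = n14285 := rfl
theorem F23838 : act 4 n14285 = n6810 := d11_1 D14285 (iv7 D6810) D6809
def n14286 : Q := act 6 n6810
theorem D14286 : act 6 n6810 = n14286 := rfl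
theorem F23839 : act 5 n14286 = n14286 := d12_1 D14286 (iv6 D14286) F11065 F4807 (iv5 F11065)
def n14287 : Q := act 0 n6813
theorem D14287 : act 0 n6813 = n14287 := rfl
def n14288 : Q := act 1 n6813
theorem D14288 : act 1 n6813 = n14288 := rfl
theorem F23840 : act 5 n11573 = n14288 := d21_6 (iv5 D2385) (iv1 D1130) D1132 D2391 (iv1 F22454) D11573 (iv1 D14288) (iv5 D6813) (iv6 D3079) (iv1 F3768)
theorem F23841 : act 3 n14288 = n11587 := d6_1 F23840 (iv5 D11587) (iv3 F18884)
theorem F23842 : act 7 n14174 = n14288 := d8_0 F23841 (iv7 F23659) D14174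
theorem F23843 : act 4 n14288 = n13728 := d20_6 D6553 (iv1 F10999) F10997 (iv3 F10993) (iv1 F18897) (iv3 F23841) (iv1 D13728) (iv4 D6534) F4511 D2913
theorem F23844 : act 2 n14174 = n14287 := d15_3 (iv0 D14287) D14288 (iv7 F23842)
def n14289 : Q := act 4 n6813
theorem D14289 : act 4 n6813 = n14289 := rfl
theorem F23845 : act 6 n14289 = n11305 := d10_2 (iv6 F11067) D14289 (iv4 D11305)
def n14290 : Q := act 7 n6813
theorem D14290 : act 7 n6813 = n14290 := rfl
theorem F23846 : act 3 n14290 = n6828 := d8_1 D14290 (iv7 D6828) (iv3 F11066)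
theorem F23847 : act 5 n14290 = n6814 := d13_1 D14290 (iv7 D6814) D6813
def n14291 : Q := act 4 n6823
theorem D14291 : act 4 n6823 = n14291 := rfl
theorem F23848 : act 2 n14291 = n13843 := d1_1 D14291 (iv4 D13843) F22536
theorem F23849 : act 7 n14291 = n14276 := d11_2 (iv7 F22524) D14291 (iv4 D14276)
def n14292 : Q := act 6 n6823
theorem D14292 : act 6 n6823 = n14292 := rfl
theorem F23850 : act 2 n14292 = n13844 := d3_1 D14292 (iv6 D13844) F22536
def n14293 : Q := act 0 n6824
theorem D14293 : act 0 n6824 = n14293 := rfl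
theorem F23851 : act 2 n6885 = n14293 := d15_3 (iv0 D14293) F22556 D6885
theorem F23852 : act 6 n14293 = n6899 := d3_2 (iv6 F22546) F23851 F22545
theorem F23853 : act 7 n14293 = n6835 := d4_2 D6885 F23851 F11165
theorem E3017 : n13845 = n6885 := ((c15_4 (iv0 D13845) (iv0 F22557) (iv7 F23853) (iv2 F23851))).symm
theorem F23854 : act 1 n6885 = n6585 := (sb E3017 (iv0 D13845))
theorem F23855 : act 0 n11896 = n7665 := d21_10 (iv5 F23118) (iv1 D13842) (iv5 D6584) D6585 (iv1 F23854) F22546 F22591 (iv1 F19585) (iv5 D11895) D11896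
theorem F23856 : act 1 n11474 = n11958 := d17_8 F23855 (iv5 F23118) (iv1 D13842) (iv5 D6584) (iv4 F10105) D6651 D13986 F23311 F19737
theorem F23857 : act 1 n11903 = n7665 := d15_0 (iv0 F23855) (iv7 F23834) F23833
theorem E3018 : n13989 = n13484 := (c21_5 (iv5 F23311) (iv1 D13986) (iv5 D6651) D6652 D13989 F22632 (iv5 F22592) (iv1 F19734) (iv5 D11957) D11958 (iv1 F23856))
theorem F23858 : act 1 n13484 = n6652 := (sb E3018 (iv0 D13989))
theorem F23859 : act 1 n6883 = n14293 := d15_1 D6883 F23853 F11165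
theorem F23860 : act 5 n11901 = n14032 := d21_0 (iv1 F23411) (iv5 D6823) D6824 D14293 F23852 (iv5 F22585) (iv1 D11898) (iv5 D5580) D5581 D11901
theorem F23861 : act 5 n13733 = n11963 := d17_7 D11901 F23860 (iv1 F23411) (iv5 D6823) (iv4 F22504) D13462 F22978 (iv0 D11963) (iv4 F10108)
theorem F23862 : act 6 n11901 = n7653 := d21_3 D6671 D14032 (iv5 F23860) (iv1 D7653) (iv6 D3470) F2670 (iv1 F2103) F3749 D1382 F22501
theorem F23863 : act 6 n11963 = n11462 := d21_3 D6539 D13733 F23861 (iv1 D11462) (iv6 D5339) F3548 (iv1 F3415) (iv5 F3754) D2809 F19473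
theorem F23864 : act 2 n11474 = n11963 := d3_3 F23863 F22899 D11474
theorem F23865 : act 2 n13733 = n13986 := d2_3 F23311 F23864 (iv5 F23861)
theorem F23866 : act 7 n11964 = n11474 := d15_2 (iv0 D11963) D11964 F23864
theorem F23867 : act 7 n13985 = n13733 := d15_2 F23310 F23309 F23865
theorem F23868 : act 7 n13734 = n13986 := d15_2 (iv0 D13733) D13734 (iv2 F23865)
theorem F23869 : act 2 n13985 = n13734 := d4_3 F23868 (iv2 F23865) (iv7 F23867)
theorem F23870 : act 5 n11964 = n13734 := d13_3 F23868 F23311 (iv7 F23866)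
def n14294 : Q := act 5 n6824
theorem D14294 : act 5 n6824 = n14294 := rfl
theorem F23871 : act 2 n14294 = n13846 := d2_1 D14294 (iv5 D13846) F22533
theorem F23872 : act 0 n14294 = n7664 := d21_1 D14294 (iv5 D7664) D7665 (iv1 F23857) F19594 (iv5 F22559) (iv1 D6878) (iv5 D3100) D3101 (iv1 F22556)
theorem F23873 : act 0 n7659 = n14294 := d21_1 D7659 (iv5 D14294) (iv6 D6824) (iv1 D3081) (iv6 D1382) (iv5 F3749) (iv1 D1146) (iv5 F1575) D1531 D3471
def n14295 : Q := act 7 n6824
theorem D14295 : act 7 n6824 = n14295 := rfl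
theorem F23874 : act 2 n14295 = n6883 := d4_1 D14295 F22555 F22533
theorem F23875 : act 6 n14295 = n13440 := d14_1 D14295 (iv7 F22491) (iv6 D6801) F22505 D6824
theorem F23876 : act 1 n6835 = n14295 := d15_1 (iv0 F22557) (iv7 D14295) (iv2 F22533)
theorem F23877 : act 1 n14295 = n6885 := d15_1 F23876 (iv7 D6885) (iv2 F11165)
def n14296 : Q := act 4 n6826
theorem D14296 : act 4 n6826 = n14296 := rfl
theorem F23878 : act 2 n14296 = n14191 := d1_1 D14296 (iv4 D14191) F22530
theorem F23879 : act 7 n14296 = n14278 := d11_2 F22541 D14296 (iv4 D14278)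
def n14297 : Q := act 6 n6826
theorem D14297 : act 6 n6826 = n14297 := rfl
theorem F23880 : act 2 n14297 = n14192 := d3_1 D14297 (iv6 D14192) F22530
def n14298 : Q := act 0 n6827
theorem D14298 : act 0 n6827 = n14298 := rfl
def n14299 : Q := act 1 n6827
theorem D14299 : act 1 n6827 = n14299 := rfl
theorem F23881 : act 1 n14299 = n14285 := d15_1 D14299 (iv7 D14285) (iv2 F11073)
theorem F23882 : act 4 n14299 = n13958 := d20_2 (iv4 F23838) (iv1 F23881) (iv3 D13958) (iv1 D6636) F4660 D2988 D6662 F10815 D6781 F22526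
def n14300 : Q := act 3 n6827
theorem D14300 : act 3 n6827 = n14300 := rfl
def n14301 : Q := act 5 n6827
theorem D14301 : act 5 n6827 = n14301 := rfl
theorem F23883 : act 2 n14301 = n14284 := d2_1 D14301 (iv5 D14284) (iv2 F11073)
def n14302 : Q := act 7 n6827
theorem D14302 : act 7 n6827 = n14302 := rfl
theorem F23884 : act 2 n14302 = n14285 := d4_1 D14302 (iv7 D14285) (iv2 F11073)
theorem F23885 : act 4 n14302 = n6828 := d11_1 D14302 (iv7 D6828) D6827
theorem F23886 : act 1 n14285 = n14298 := d15_0 (iv0 D14298) D14302 F23884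
theorem F23887 : act 1 n14282 = n14302 := d15_1 D14282 (iv7 D14302) F11073
theorem F23888 : act 1 n14302 = n14281 := d15_0 (iv0 D14281) D14285 (iv2 F23884)
def n14303 : Q := act 6 n6828
theorem D14303 : act 6 n6828 = n14303 := rfl
theorem F23889 : act 2 n14303 = n14286 := d3_1 D14303 (iv6 D14286) (iv2 F11074)
theorem F23890 : act 5 n14303 = n14303 := d12_1 D14303 (iv6 D14303) F11075 F4812 (iv5 F11075)
def n14304 : Q := act 5 n6829
theorem D14304 : act 5 n6829 = n14304 := rfl
theorem F23891 : act 2 n14304 = n6854 := d2_1 D14304 (iv5 D6854) F11081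
theorem F23892 : act 7 n14304 = n6852 := d13_2 (iv7 F11080) D14304 (iv5 D6852)
theorem F23893 : act 1 n14304 = n14072 := d15_0 (iv0 F23502) F23269 (iv2 F23891)
theorem F23894 : act 5 n11724 = n13971 := d17_1 D11724 (iv1 F23270) (iv5 D13751) F11082 D14304 F23893 (iv5 D14072) (iv0 F19051) F18508
theorem F23895 : act 6 n11724 = n11407 := d21_3 D6643 D13971 (iv5 F23894) (iv1 D11407) (iv6 D5303) F3529 (iv1 F2388) F3754 D5094 F19455
theorem F23896 : act 2 n11418 = n11724 := d3_3 F23895 F22890 D11418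
theorem F23897 : act 2 n13971 = n13754 := d2_3 F23262 F23896 F23894
theorem F23898 : act 7 n11725 = n11418 := d15_2 (iv0 D11724) D11725 F23896
theorem F23899 : act 7 n13753 = n13971 := d15_2 F23261 F23266 F23897
theorem F23900 : act 7 n13972 = n13754 := d15_2 (iv0 D13971) D13972 (iv2 F23897)
theorem F23901 : act 2 n13753 = n13972 := d4_3 F23900 (iv2 F23897) (iv7 F23899)
theorem F23902 : act 5 n11725 = n13972 := d13_3 F23900 F23262 (iv7 F23898)
def n14305 : Q := act 0 n6830
theorem D14305 : act 0 n6830 = n14305 := rfl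
theorem F23903 : act 2 n6856 = n14305 := d15_3 (iv0 D14305) (iv0 F20322) F22284
theorem F23904 : act 7 n14305 = n6857 := d4_2 F22284 F23903 (iv2 F20321)
theorem F23905 : act 3 n12035 = n14305 := d8_3 F23904 (iv3 F18515) F19923
theorem F23906 : act 1 n6859 = n14305 := d15_1 (iv0 F20323) F23904 (iv2 F20321)
def n14306 : Q := act 4 n6830
theorem D14306 : act 4 n6830 = n14306 := rfl
theorem F23907 : act 2 n14306 = n6858 := d1_1 D14306 (iv4 D6858) (iv2 F11083)
theorem F23908 : act 6 n14306 = n6842 := d10_2 (iv6 F11084) D14306 (iv4 D6842)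
def n14307 : Q := act 7 n6830
theorem D14307 : act 7 n6830 = n14307 := rfl
theorem F23909 : act 2 n14307 = n6859 := d4_1 D14307 (iv7 D6859) (iv2 F11083)
theorem F23910 : act 5 n14307 = n6831 := d13_1 D14307 (iv7 D6831) D6830
theorem F23911 : act 1 n6857 = n14307 := d15_1 D6857 (iv7 D14307) F11083
theorem F23912 : act 1 n14307 = n6856 := d15_1 F23911 (iv7 F22284) F20321
def n14308 : Q := act 5 n6833
theorem D14308 : act 5 n6833 = n14308 := rfl
theorem F23913 : act 3 n14308 = n6834 := d6_1 D14308 (iv5 D6834) D6833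
theorem F23914 : act 7 n14308 = n6890 := d13_2 (iv7 F11161) D14308 (iv5 D6890)
def n14309 : Q := act 6 n6833
theorem D14309 : act 6 n6833 = n14309 := rfl
theorem F23915 : act 3 n14309 = n6835 := d7_1 D14309 (iv6 D6835) D6833
def n14310 : Q := act 1 n6834
theorem D14310 : act 1 n6834 = n14310 := rfl
theorem F23916 : act 1 n14310 = n6838 := d15_1 D14310 F11174 (iv2 F11163)
theorem F23917 : act 7 n14310 = n6877 := d15_2 (iv0 F22436) D14310 F22550
theorem F23918 : act 2 n6878 = n14310 := d4_3 F23917 F22550 (iv7 F22560)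
def n14311 : Q := act 4 n6834
theorem D14311 : act 4 n6834 = n14311 := rfl
theorem F23919 : act 2 n14311 = n6879 := d1_1 D14311 (iv4 D6879) (iv2 F11163)
theorem F23920 : act 7 n14311 = n6894 := d11_2 (iv7 F11164) D14311 (iv4 D6894)
def n14312 : Q := act 6 n6834
theorem D14312 : act 6 n6834 = n14312 := rfl
theorem F23921 : act 2 n14312 = n6880 := d3_1 D14312 (iv6 D6880) (iv2 F11163)
def n14313 : Q := act 5 n6837
theorem D14313 : act 5 n6837 = n14313 := rfl
theorem F23922 : act 2 n14313 = n6892 := d2_1 D14313 (iv5 D6892) (iv2 F11171)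
theorem F23923 : act 7 n14313 = n6874 := d13_2 (iv7 F11172) D14313 (iv5 D6874)
def n14314 : Q := act 6 n6837
theorem D14314 : act 6 n6837 = n14314 := rfl
theorem F23924 : act 2 n14314 = n6893 := d3_1 D14314 (iv6 D6893) (iv2 F11171)
theorem F23925 : act 4 n14314 = n6839 := d10_1 D14314 (iv6 D6839) D6837
def n14315 : Q := act 4 n6838
theorem D14315 : act 4 n6838 = n14315 := rfl
theorem F23926 : act 2 n14315 = n6894 := d1_1 D14315 (iv4 D6894) (iv2 F11173)
theorem F23927 : act 7 n14315 = n6879 := d11_2 (iv7 F11174) D14315 (iv4 D6879)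
def n14316 : Q := act 6 n6838
theorem D14316 : act 6 n6838 = n14316 := rfl
theorem F23928 : act 2 n14316 = n6895 := d3_1 D14316 (iv6 D6895) (iv2 F11173)
def n14317 : Q := act 2 n6840
theorem D14317 : act 2 n6840 = n14317 := rfl
def n14318 : Q := act 3 n6840
theorem D14318 : act 3 n6840 = n14318 := rfl
def n14319 : Q := act 4 n6840
theorem D14319 : act 4 n6840 = n14319 := rfl
def n14320 : Q := act 5 n6840
theorem D14320 : act 5 n6840 = n14320 := rfl
theorem F23930 : act 6 n14320 = n11902 := d21_3 D3087 D6840 D14320 (iv1 D11902) (iv6 D5581) D5580 D11897 F22574 (iv6 D6839) (iv1 D3086)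
theorem F23931 : act 0 n11656 = n14320 := d21_10 (iv5 D14320) (iv1 F11096) F4841 F2533 (iv1 F4817) D6839 (iv5 F22574) (iv1 F19588) (iv5 D11655) D11656
theorem F23932 : act 5 n11902 = n14033 := d21_6 (iv5 F22574) (iv1 F19588) (iv5 D11655) D11656 F23931 F23930 (iv1 D14033) (iv5 D6671) (iv6 F10368) (iv1 F22471)
theorem F23933 : act 0 n14320 = n11664 := d21_4 D6823 (iv1 F23412) (iv5 F23932) (iv6 F23930) (iv6 F19594) F19593 F22526 F11065 F4807 (iv1 F4809)
def n14321 : Q := act 6 n6840
theorem D14321 : act 6 n6840 = n14321 := rfl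
def n14322 : Q := act 7 n6840
theorem D14322 : act 7 n6840 = n14322 := rfl
def n14323 : Q := act 3 n6841
theorem D14323 : act 3 n6841 = n14323 := rfl
theorem F23935 : act 4 n14323 = n13502 := d20_6 (iv4 F8998) (iv1 F9001) F5000 (iv3 F4840) (iv1 F11092) D14323 (iv1 D13502) (iv4 D6422) F4407 D2825
def n14324 : Q := act 4 n6841
theorem D14324 : act 4 n6841 = n14324 := rfl
def n14325 : Q := act 6 n6841
theorem D14325 : act 6 n6841 = n14325 := rfl
def n14326 : Q := act 0 n6842
theorem D14326 : act 0 n6842 = n14326 := rfl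
def n14327 : Q := act 1 n6842
theorem D14327 : act 1 n6842 = n14327 := rfl
theorem F23936 : act 1 n14327 = n6914 := d15_1 D14327 (iv7 D6914) (iv2 F11093)
def n14328 : Q := act 3 n6842
theorem D14328 : act 3 n6842 = n14328 := rfl
def n14329 : Q := act 5 n6842
theorem D14329 : act 5 n6842 = n14329 := rfl
theorem F23937 : act 2 n14329 = n6913 := d2_1 D14329 (iv5 D6913) (iv2 F11093)
def n14330 : Q := act 7 n6842
theorem D14330 : act 7 n6842 = n14330 := rfl
theorem F23938 : act 2 n14330 = n6914 := d4_1 D14330 (iv7 D6914) (iv2 F11093)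
theorem F23939 : act 4 n14330 = n6843 := d11_1 D14330 (iv7 D6843) D6842
theorem F23940 : act 1 n6914 = n14326 := d15_0 (iv0 D14326) D14330 F23938
theorem F23941 : act 1 n6911 = n14330 := d15_1 D6911 (iv7 D14330) F11093
theorem F23942 : act 1 n14330 = n6910 := d15_0 (iv0 D6910) D6914 (iv2 F23938)
def n14331 : Q := act 6 n6843
theorem D14331 : act 6 n6843 = n14331 := rfl
theorem F23943 : act 2 n14331 = n6915 := d3_1 D14331 (iv6 D6915) (iv2 F11094)
theorem F23944 : act 5 n14331 = n14331 := d12_1 D14331 (iv6 D14331) F11095 F4820 (iv5 F11095)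
def n14332 : Q := act 4 n6844
theorem D14332 : act 4 n6844 = n14332 := rfl
def n14333 : Q := act 4 n6845
theorem D14333 : act 4 n6845 = n14333 := rfl
theorem F23945 : act 2 n14333 = n14332 := d1_1 D14333 (iv4 D14332) (iv2 F11100)
def n14334 : Q := act 5 n6846
theorem D14334 : act 5 n6846 = n14334 := rfl
theorem F23946 : act 2 n14334 = n14148 := d2_1 D14334 (iv5 D14148) (iv2 F11102)
theorem F23947 : act 3 n14334 = n12041 := d6_1 D14334 (iv5 D12041) (iv3 F11103)
theorem F23948 : act 6 n14334 = n12039 := d12_2 D6846 D14334 (iv5 D12039) (iv6 D5702) (iv5 F4827)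
theorem F23949 : act 0 n11357 = n14334 := d21_7 F3818 (iv1 F4769) F4766 D5374 (iv1 F19531) (iv6 F19221) F19220 (iv5 D14334) (iv6 D6846) (iv1 F4830)
def n14335 : Q := act 5 n6847
theorem D14335 : act 5 n6847 = n14335 := rfl
theorem F23950 : act 3 n14335 = n13706 := d6_1 D14335 (iv5 D13706) (iv3 F11104)
def n14336 : Q := act 6 n6847
theorem D14336 : act 6 n6847 = n14336 := rfl
theorem F23951 : act 3 n14336 = n13707 := d7_1 D14336 (iv6 D13707) (iv3 F11104)
def n14337 : Q := act 0 n6849
theorem D14337 : act 0 n6849 = n14337 := rfl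
def n14338 : Q := act 1 n6849
theorem D14338 : act 1 n6849 = n14338 := rfl
def n14339 : Q := act 4 n6849
theorem D14339 : act 4 n6849 = n14339 := rfl
theorem F23952 : act 6 n14339 = n14274 := d10_2 (iv6 F11106) D14339 (iv4 D14274)
theorem F23953 : act 1 n14339 = n13776 := d18_6 (iv1 D6545) (iv4 F10319) (iv1 D3094) (iv4 F4833) D6849 D14339 (iv4 D13776) (iv0 F23006) (iv5 D13750)
def n14340 : Q := act 7 n6849
theorem D14340 : act 7 n6849 = n14340 := rfl
theorem F23954 : act 3 n14340 = n11314 := d8_1 D14340 (iv7 D11314) (iv3 F11105)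
theorem F23955 : act 5 n14340 = n6850 := d13_1 D14340 (iv7 D6850) D6849
def n14341 : Q := act 5 n6851
theorem D14341 : act 5 n6851 = n14341 := rfl
theorem F23956 : act 2 n14341 = n13800 := d2_1 D14341 (iv5 D13800) (iv2 F11110)
theorem F23957 : act 3 n14341 = n6852 := d6_1 D14341 (iv5 D6852) D6851
def n14342 : Q := act 6 n6851
theorem D14342 : act 6 n6851 = n14342 := rfl
theorem F23958 : act 2 n14342 = n11830 := d3_1 D14342 F19221 (iv2 F11110)
theorem F23959 : act 3 n14342 = n6853 := d7_1 D14342 (iv6 D6853) D6851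
theorem F23960 : act 4 n14342 = n12234 := d10_1 D14342 (iv6 D12234) (iv4 F11111)
def n14343 : Q := act 0 n6852
theorem D14343 : act 0 n6852 = n14343 := rfl
theorem F23961 : act 5 n14343 = n12239 := d21_2 D6852 D14343 (iv6 D12239) (iv1 D5799) (iv6 D2426) F3749 (iv1 D779) D781 D1388 D3093
theorem F23962 : act 1 n6854 = n14343 := d15_0 (iv0 D14343) (iv7 F23892) F23891
theorem F23963 : act 2 n14072 = n14343 := d2_3 F23961 F20256 D14072
theorem F23964 : act 3 n14294 = n14343 := d6_3 F23961 (iv3 F22534) D14294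
def n14344 : Q := act 1 n6852
theorem D14344 : act 1 n6852 = n14344 := rfl
theorem F23965 : act 1 n14344 = n6854 := d15_1 D14344 (iv7 F23269) F23267
theorem F23966 : act 7 n14344 = n14072 := d15_2 (iv0 D14343) D14344 F23963
theorem F23967 : act 5 n12256 = n14344 := d21_6 (iv5 F20304) (iv1 F20305) (iv5 D5814) D5815 F11437 F20316 (iv1 D14344) (iv5 D6852) D6853 (iv1 F19661)
theorem F23968 : act 3 n14344 = n6918 := d6_1 F23967 F11198 (iv3 F20317)
def n14345 : Q := act 4 n6852
theorem D14345 : act 4 n6852 = n14345 := rfl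
def n14346 : Q := act 6 n6852
theorem D14346 : act 6 n6852 = n14346 := rfl
def n14347 : Q := act 4 n6854
theorem D14347 : act 4 n6854 = n14347 := rfl
def n14348 : Q := act 6 n6854
theorem D14348 : act 6 n6854 = n14348 := rfl
def n14349 : Q := act 3 n6856
theorem D14349 : act 3 n6856 = n14349 := rfl
def n14350 : Q := act 4 n6856
theorem D14350 : act 4 n6856 = n14350 := rfl
def n14351 : Q := act 6 n6856
theorem D14351 : act 6 n6856 = n14351 := rfl
def n14352 : Q := act 4 n6857
theorem D14352 : act 4 n6857 = n14352 := rfl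
def n14353 : Q := act 6 n6857
theorem D14353 : act 6 n6857 = n14353 := rfl
def n14354 : Q := act 0 n6858
theorem D14354 : act 0 n6858 = n14354 := rfl
def n14355 : Q := act 1 n6858
theorem D14355 : act 1 n6858 = n14355 := rfl
def n14356 : Q := act 3 n6858
theorem D14356 : act 3 n6858 = n14356 := rfl
theorem F23969 : act 4 n14356 = n6935 := d5_2 D6858 D14356 (iv3 D6935) (iv4 D3123) (iv3 F4834)
theorem F23970 : act 6 n14356 = n6912 := d7_2 (iv6 F11113) D14356 (iv3 D6912)
def n14357 : Q := act 5 n6858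
theorem D14357 : act 5 n6858 = n14357 := rfl
def n14358 : Q := act 7 n6858
theorem D14358 : act 7 n6858 = n14358 := rfl
theorem F23971 : act 4 n14358 = n6859 := d11_1 D14358 (iv7 D6859) D6858
def n14359 : Q := act 6 n6859
theorem D14359 : act 6 n6859 = n14359 := rfl
theorem F23972 : act 3 n14359 = n6938 := d7_1 D14359 (iv6 D6938) (iv3 F11114)
theorem F23973 : act 5 n14359 = n14359 := d12_1 D14359 (iv6 D14359) F11115 F4837 (iv5 F11115)
theorem F23974 : act 7 n14359 = n6915 := d14_2 D6859 D14359 (iv6 D6915) (iv7 D3110) (iv6 F4835)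
def n14360 : Q := act 5 n6866
theorem D14360 : act 5 n6866 = n14360 := rfl
theorem F23975 : act 3 n14360 = n6973 := d6_1 D14360 (iv5 D6973) F11135
theorem F23976 : act 7 n14360 = n14204 := d13_2 (iv7 F11134) D14360 (iv5 D14204)
def n14361 : Q := act 0 n6868
theorem D14361 : act 0 n6868 = n14361 := rfl
theorem F23977 : act 5 n14361 = n11867 := d21_2 D6868 D14361 (iv6 D11867) F22446 (iv6 D5709) (iv5 D2389) D2387 F3771 D5171 F10348
theorem F23978 : act 1 n14313 = n14361 := d15_0 (iv0 D14361) (iv7 F11183) (iv2 F23922)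
theorem F23979 : act 3 n6982 = n14361 := d6_3 F23977 F19304 (iv5 F18487)
def n14362 : Q := act 1 n6868
theorem D14362 : act 1 n6868 = n14362 := rfl
theorem F23980 : act 1 n14362 = n14313 := d15_1 D14362 F23923 (iv2 F11176)
def n14363 : Q := act 4 n6868
theorem D14363 : act 4 n6868 = n14363 := rfl
def n14364 : Q := act 6 n6868
theorem D14364 : act 6 n6868 = n14364 := rfl
theorem F23981 : act 3 n14364 = n6880 := d7_1 D14364 (iv6 D6880) (iv3 F11127)
def n14365 : Q := act 0 n6869
theorem D14365 : act 0 n6869 = n14365 := rfl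
def n14366 : Q := act 1 n6869
theorem D14366 : act 1 n6869 = n14366 := rfl
theorem F23982 : act 3 n13395 = n14366 := d20_3 F18565 (iv1 F18309) (iv4 F22266) (iv1 D14366) F11128 (iv4 F11140) F23811 F23810 F23236 F18567
theorem F23983 : act 7 n14366 = n14265 := d8_2 (iv7 F22265) F23982 F23809
theorem E3019 : n14365 = n14228 := ((c15_4 (iv0 D14365) D14366 F23983 F23808)).symm
theorem F23984 : act 1 n14228 = n6869 := (sb E3019 (iv0 D14365))
def n14367 : Q := act 5 n6869
theorem D14367 : act 5 n6869 = n14367 := rfl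
theorem F23985 : act 3 n14367 = n6884 := d6_1 D14367 (iv5 D6884) (iv3 F11128)
theorem F23986 : act 0 n14367 = n11839 := d21_7 (iv5 D2389) D2387 F3771 D5171 F10348 D6869 D14367 (iv5 D11839) (iv6 D5554) F3784
def n14368 : Q := act 7 n6869
theorem D14368 : act 7 n6869 = n14368 := rfl
theorem F23987 : act 3 n14368 = n6885 := d8_1 D14368 (iv7 D6885) (iv3 F11128)
theorem F23988 : act 4 n14368 = n14293 := d11_1 D14368 F23853 (iv4 F11129)
theorem F23989 : act 0 n14265 = n14368 := d20_10 F23988 (iv1 F23859) F22553 F19781 F8667 (iv3 F9955) F7815 (iv1 F10330) (iv4 F18413) (iv3 F23809)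
def n14369 : Q := act 5 n6871
theorem D14369 : act 5 n6871 = n14369 := rfl
theorem F23990 : act 2 n14369 = n14360 := d2_1 D14369 (iv5 D14360) (iv2 F11145)
theorem F23991 : act 3 n14369 = n11250 := d6_1 D14369 F18302 F11144
theorem F23992 : act 7 n14369 = n11242 := d13_2 (iv7 F11147) D14369 (iv5 D11242)
theorem F23993 : act 0 n14369 = n14323 := d18_0 F23935 (iv1 D13502) (iv4 D6422) (iv5 D2813) F2390 D1390 D3104 F11143 D14369
theorem F23994 : act 1 n14204 = n14323 := d15_0 (iv0 F23993) F23992 (iv2 F23709)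
def n14370 : Q := act 5 n6873
theorem D14370 : act 5 n6873 = n14370 := rfl
theorem F23995 : act 2 n14370 = n14308 := d2_1 D14370 (iv5 D14308) (iv2 F11138)
theorem F23996 : act 3 n14370 = n6874 := d6_1 D14370 (iv5 D6874) D6873
def n14371 : Q := act 6 n6873
theorem D14371 : act 6 n6873 = n14371 := rfl
theorem F23997 : act 2 n14371 = n14309 := d3_1 D14371 (iv6 D14309) (iv2 F11138)
theorem F23998 : act 3 n14371 = n6875 := d7_1 D14371 (iv6 D6875) D6873
theorem F23999 : act 4 n14371 = n14309 := d10_1 D14371 (iv6 D14309) (iv4 F11139)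
theorem F24000 : act 5 n14371 = n11332 := d21_6 (iv5 D2078) (iv1 F2069) D2385 D5703 F19402 D14371 (iv1 D11332) (iv5 D5233) (iv6 D2147) (iv1 F3388)
theorem F24001 : act 0 n14371 = n13715 := d20_10 F22965 F22957 F11303 F11302 F8668 (iv3 F19781) (iv4 F22553) (iv1 D6883) (iv4 F11140) (iv3 F23998)
def n14372 : Q := act 0 n6874
theorem D14372 : act 0 n6874 = n14372 := rfl
theorem F24002 : act 5 n14372 = n12079 := d21_2 D6874 D14372 (iv6 D12079) (iv1 F22440) (iv6 D7643) F5444 (iv1 F3780) (iv5 F4766) D6758 F11148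
theorem F24003 : act 1 n6892 = n14372 := d15_0 (iv0 D14372) (iv7 F23923) F23922
theorem F24004 : act 2 n14361 = n14372 := d2_3 F24002 F19996 (iv5 F23977)
theorem F24005 : act 3 n11337 = n14372 := d6_3 F24002 F19997 (iv5 F18510)
theorem F24006 : act 7 n14362 = n14372 := d15_2 (iv0 D14361) D14362 (iv2 F24004)
theorem F24007 : act 3 n11980 = n14362 := d8_3 F24006 (iv3 F24005) F19787
def n14373 : Q := act 1 n6874
theorem D14373 : act 1 n6874 = n14373 := rfl
theorem F24008 : act 1 n14373 = n6892 := d15_1 D14373 F11183 F11176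
theorem F24009 : act 7 n14373 = n14361 := d15_2 (iv0 D14372) D14373 F24004
theorem F24010 : act 2 n14362 = n14373 := d4_3 F24009 F24004 (iv7 F24006)
theorem F24011 : act 3 n12275 = n14373 := d8_3 F24009 (iv3 F23979) (iv7 F20342)
def n14374 : Q := act 4 n6874
theorem D14374 : act 4 n6874 = n14374 := rfl
theorem F24012 : act 2 n14374 = n14363 := d1_1 D14374 (iv4 D14363) F11176
def n14375 : Q := act 6 n6874
theorem D14375 : act 6 n6874 = n14375 := rfl
theorem F24013 : act 2 n14375 = n14364 := d3_1 D14375 (iv6 D14364) F11176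
def n14376 : Q := act 1 n6875
theorem D14376 : act 1 n6875 = n14376 := rfl
theorem F24014 : act 1 n14376 = n14368 := d15_1 D14376 (iv7 D14368) F11177
theorem F24015 : act 7 n14376 = n14228 := d15_2 (iv0 F23811) D14376 (iv2 F23808)
theorem F24016 : act 2 n14366 = n14376 := d4_3 F24015 (iv2 F23808) (iv7 F23983)
theorem F24017 : act 3 n12279 = n14376 := d8_3 F24015 F23759 (iv7 F20351)
def n14377 : Q := act 5 n6875
theorem D14377 : act 5 n6875 = n14377 := rfl
theorem F24018 : act 2 n14377 = n14367 := d2_1 D14377 (iv5 D14367) F11177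
theorem F24019 : act 3 n14377 = n11332 := d6_1 D14377 (iv5 F24000) F23998
theorem F24020 : act 0 n14377 = n12039 := d21_7 F5444 (iv1 F3780) (iv5 F4766) D6758 F11148 D6875 D14377 (iv5 D12039) (iv6 D5702) F5446
def n14378 : Q := act 7 n6875
theorem D14378 : act 7 n6875 = n14378 := rfl
theorem F24021 : act 2 n14378 = n14368 := d4_1 D14378 (iv7 D14368) F11177
theorem F24022 : act 4 n14378 = n6885 := d11_1 D14378 (iv7 D6885) (iv4 F11140)
theorem F24023 : act 1 n14366 = n14378 := d15_1 D14366 (iv7 D14378) (iv2 F11177)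
theorem F24024 : act 1 n14378 = n14228 := d15_1 F24023 (iv7 F24015) (iv2 F24016)
def n14379 : Q := act 4 n6877
theorem D14379 : act 4 n6877 = n14379 := rfl
def n14380 : Q := act 6 n6877
theorem D14380 : act 6 n6877 = n14380 := rfl
def n14381 : Q := act 4 n6878
theorem D14381 : act 4 n6878 = n14381 := rfl
def n14382 : Q := act 6 n6878
theorem D14382 : act 6 n6878 = n14382 := rfl
theorem F24025 : act 3 n14382 = n6962 := d7_1 D14382 (iv6 D6962) (iv3 F22558)
theorem F24026 : act 5 n14382 = n14245 := d12_1 D14382 (iv6 D14245) (iv5 F19593) F19594 (iv5 F22559)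
def n14383 : Q := act 0 n6879
theorem D14383 : act 0 n6879 = n14383 := rfl
theorem F24027 : act 1 n6894 = n14383 := d15_0 (iv0 D14383) (iv7 F23927) F23926
def n14384 : Q := act 1 n6879
theorem D14384 : act 1 n6879 = n14384 := rfl
theorem F24028 : act 1 n14384 = n6894 := d15_1 D14384 (iv7 F23920) F23919
def n14385 : Q := act 3 n6879
theorem D14385 : act 3 n6879 = n14385 := rfl
def n14386 : Q := act 5 n6879
theorem D14386 : act 5 n6879 = n14386 := rfl
def n14387 : Q := act 6 n6879
theorem D14387 : act 6 n6879 = n14387 := rfl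
theorem F24029 : act 4 n14387 = n6880 := d10_1 D14387 (iv6 D6880) D6879
def n14388 : Q := act 0 n6880
theorem D14388 : act 0 n6880 = n14388 := rfl
def n14389 : Q := act 1 n6880
theorem D14389 : act 1 n6880 = n14389 := rfl
def n14390 : Q := act 5 n6880
theorem D14390 : act 5 n6880 = n14390 := rfl
theorem F24030 : act 6 n14390 = n6884 := d12_2 D6880 D14390 (iv5 D6884) (iv6 D3101) D3100
def n14391 : Q := act 7 n6880
theorem D14391 : act 7 n6880 = n14391 := rfl
def n14392 : Q := act 5 n6883
theorem D14392 : act 5 n6883 = n14392 := rfl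
theorem F24031 : act 3 n14392 = n6972 := d6_1 D14392 (iv5 D6972) (iv3 F22552)
theorem F24032 : act 7 n14392 = n13846 := d13_2 (iv7 F22555) D14392 (iv5 D13846)
theorem F24033 : act 0 n14392 = n7659 := d21_1 D14392 (iv5 D7659) D7660 (iv1 F22529) (iv6 D11656) D11655 (iv1 F19589) F22585 (iv6 F23852) (iv1 F23859)
theorem F24034 : act 0 n7664 = n14392 := d21_7 F22591 (iv1 F19585) (iv5 D11895) D11896 F23855 (iv6 D7665) D7664 (iv5 D14392) F22554 D13438
def n14393 : Q := act 4 n6884
theorem D14393 : act 4 n6884 = n14393 := rfl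
def n14394 : Q := act 5 n6888
theorem D14394 : act 5 n6888 = n14394 := rfl
theorem F24035 : act 3 n14394 = n6941 := d6_1 D14394 (iv5 D6941) (iv3 F11158)
theorem F24036 : act 7 n14394 = n12034 := d13_2 (iv7 F19415) D14394 (iv5 D12034)
theorem F24037 : act 1 n6906 = n14394 := d15_1 (iv0 F19944) F24036 (iv2 F19942)
def n14395 : Q := act 5 n6889
theorem D14395 : act 5 n6889 = n14395 := rfl
theorem F24038 : act 2 n14395 = n6890 := d2_1 D14395 (iv5 D6890) D6889
theorem F24039 : act 3 n14395 = n14313 := d6_1 D14395 (iv5 D14313) (iv3 F11155)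
theorem F24040 : act 7 n14395 = n14370 := d13_2 F11160 D14395 (iv5 D14370)
def n14396 : Q := act 6 n6889
theorem D14396 : act 6 n6889 = n14396 := rfl
theorem F24041 : act 2 n14396 = n6891 := d3_1 D14396 (iv6 D6891) D6889
theorem F24042 : act 3 n14396 = n14314 := d7_1 D14396 (iv6 D14314) (iv3 F11155)
theorem F24043 : act 4 n14396 = n6891 := d10_1 D14396 (iv6 D6891) F11156
theorem F24044 : act 0 n13707 = n14396 := d20_1 (iv4 F22953) F24043 F11181 F22474 (iv3 D6383) (iv4 D2761) F3865 (iv4 F8301) D11738 F22186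
def n14397 : Q := act 0 n6890
theorem D14397 : act 0 n6890 = n14397 := rfl
theorem F24045 : act 1 n14370 = n14397 := d15_0 (iv0 D14397) (iv7 F23914) (iv2 F23995)
def n14398 : Q := act 1 n6890
theorem D14398 : act 1 n6890 = n14398 := rfl
theorem F24046 : act 1 n14398 = n14370 := d15_1 D14398 (iv7 F24040) F24038
theorem F24047 : act 5 n13352 = n14398 := d17_5 (iv1 F19400) D7047 (iv1 F20542) F20543 (iv4 F22232) F24046 (iv5 D14370) (iv0 F19402) F8796
theorem F24048 : act 3 n14398 = n6950 := d6_1 F24047 F19438 (iv3 F22231)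
def n14399 : Q := act 4 n6890
theorem D14399 : act 4 n6890 = n14399 := rfl
def n14400 : Q := act 6 n6890
theorem D14400 : act 6 n6890 = n14400 := rfl
theorem F24049 : act 3 n14400 = n6895 := d7_1 D14400 (iv6 D6895) (iv3 F11180)
def n14401 : Q := act 0 n6891
theorem D14401 : act 0 n6891 = n14401 := rfl
def n14402 : Q := act 1 n6891
theorem D14402 : act 1 n6891 = n14402 := rfl
def n14403 : Q := act 5 n6891
theorem D14403 : act 5 n6891 = n14403 := rfl
theorem F24050 : act 3 n14403 = n6898 := d6_1 D14403 (iv5 D6898) (iv3 F11181)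
theorem F24051 : act 0 n11572 = n14403 := d21_1 D11572 (iv5 D14403) (iv6 D6891) (iv1 F19403) (iv6 D5703) (iv5 D2385) (iv1 D1130) D1132 D2391 (iv1 F22454)
theorem F24052 : act 1 n12067 = n14403 := d15_0 (iv0 F24051) (iv7 F22230) (iv2 F22568)
theorem E3020 : n14402 = n14158 := (c17_9 (iv1 D12363) (iv5 F19069) (iv1 F22177) (iv5 D13330) F22464 D12067 F24052 (iv5 D14403) D14402 (iv4 F23669))
theorem F24053 : act 0 n14158 = n6891 := (sb E3020 (iv1 D14402))
def n14404 : Q := act 7 n6891
theorem D14404 : act 7 n6891 = n14404 := rfl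
theorem F24054 : act 3 n14404 = n6899 := d8_1 D14404 (iv7 D6899) (iv3 F11181)
theorem F24055 : act 1 n13707 = n14404 := d15_1 (iv0 F24044) (iv7 D14404) (iv2 F24041)
def n14405 : Q := act 4 n6892
theorem D14405 : act 4 n6892 = n14405 := rfl
theorem F24056 : act 7 n14405 = n14363 := d11_2 (iv7 F11183) D14405 (iv4 D14363)
def n14406 : Q := act 6 n6892
theorem D14406 : act 6 n6892 = n14406 := rfl
theorem F24057 : act 3 n14406 = n14316 := d7_1 D14406 (iv6 D14316) (iv3 F11182)
def n14407 : Q := act 0 n6893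
theorem D14407 : act 0 n6893 = n14407 := rfl
def n14408 : Q := act 5 n6893
theorem D14408 : act 5 n6893 = n14408 := rfl
theorem F24058 : act 3 n14408 = n11897 := d6_1 D14408 F22574 (iv3 F11184)
def n14409 : Q := act 7 n6893
theorem D14409 : act 7 n6893 = n14409 := rfl
theorem F24059 : act 3 n14409 = n13438 := d8_1 D14409 F22544 (iv3 F11184)
theorem F24060 : act 4 n14409 = n6899 := d11_1 D14409 (iv7 D6899) (iv4 F11185)
theorem F24061 : act 6 n14409 = n14368 := d14_1 D14409 (iv7 D14368) (iv6 D6869) (iv7 F11170) D6893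
theorem F24062 : act 1 n14263 = n14409 := d17_8 F22472 F10367 (iv1 F22442) (iv5 D7646) (iv4 F8813) D12050 (iv0 F23805) F23804 F24060
theorem F24063 : act 1 n14314 = n14263 := d15_0 F24062 (iv7 D14409) (iv2 F23924)
def n14410 : Q := act 3 n6894
theorem D14410 : act 3 n6894 = n14410 := rfl
def n14411 : Q := act 5 n6894
theorem D14411 : act 5 n6894 = n14411 := rfl
def n14412 : Q := act 6 n6894
theorem D14412 : act 6 n6894 = n14412 := rfl
theorem F24064 : act 4 n14412 = n6895 := d10_1 D14412 (iv6 D6895) D6894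
def n14413 : Q := act 0 n6895
theorem D14413 : act 0 n6895 = n14413 := rfl
def n14414 : Q := act 1 n6895
theorem D14414 : act 1 n6895 = n14414 := rfl
def n14415 : Q := act 5 n6895
theorem D14415 : act 5 n6895 = n14415 := rfl
theorem F24065 : act 6 n14415 = n6898 := d12_2 D6895 D14415 (iv5 D6898) (iv6 D3106) D3105
def n14416 : Q := act 7 n6895
theorem D14416 : act 7 n6895 = n14416 := rfl
def n14417 : Q := act 4 n6898
theorem D14417 : act 4 n6898 = n14417 := rfl
def n14418 : Q := act 0 n6900
theorem D14418 : act 0 n6900 = n14418 := rfl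
theorem F24066 : act 1 n6905 = n14418 := d15_0 (iv0 D14418) (iv7 F11186) (iv2 F11187)
def n14420 : Q := act 3 n6900
theorem D14420 : act 3 n6900 = n14420 := rfl
theorem F24068 : act 7 n14420 = n6906 := d8_2 F11186 D14420 (iv3 D6906)
def n14421 : Q := act 4 n6900
theorem D14421 : act 4 n6900 = n14421 := rfl
theorem F24069 : act 2 n14421 = n6902 := d1_1 D14421 (iv4 D6902) D6900
theorem F24070 : act 7 n14421 = n6907 := d11_2 F11186 D14421 (iv4 D6907)
def n14422 : Q := act 5 n6900
theorem D14422 : act 5 n6900 = n14422 := rfl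
theorem F24071 : act 2 n14422 = n6903 := d2_1 D14422 (iv5 D6903) D6900
theorem F24072 : act 7 n14422 = n6908 := d13_2 F11186 D14422 (iv5 D6908)
theorem E3021 : n11662 = n6908 := (c15_2 F22597 D11662 (iv7 F24072) F24071)
theorem F24073 : act 0 n6908 = n5415 := (sb E3021 (iv1 D11662))
def n14423 : Q := act 6 n6900
theorem D14423 : act 6 n6900 = n14423 := rfl
theorem F24074 : act 2 n14423 = n6904 := d3_1 D14423 (iv6 D6904) D6900
def n14424 : Q := act 0 n6901
theorem D14424 : act 0 n6901 = n14424 := rfl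
def n14425 : Q := act 1 n6901
theorem D14425 : act 1 n6901 = n14425 := rfl
def n14426 : Q := act 2 n6901
theorem D14426 : act 2 n6901 = n14426 := rfl
def n14427 : Q := act 4 n6901
theorem D14427 : act 4 n6901 = n14427 := rfl
theorem F24075 : act 0 n14427 = n13505 := d20_7 (iv4 F7601) (iv1 D3173) (iv4 D1409) (iv3 F2531) D3107 D6901 D14427 F22651 F10465 (iv1 F7590)
theorem E3022 : n14425 = n11242 := (c18_9 F10348 F5179 (iv1 F4821) (iv4 F4409) (iv5 F10466) (iv4 F22651) (iv0 F24075) (iv4 D14427) D14425 (iv5 D11242))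
theorem F24076 : act 0 n11242 = n6901 := (sb E3022 (iv1 D14425))
theorem E3023 : n14424 = n14360 := ((c15_4 (iv0 D14424) (iv0 F24076) (iv7 F23992) F23990)).symm
theorem F24077 : act 1 n14360 = n6901 := (sb E3023 (iv0 D14424))
def n14428 : Q := act 5 n6901
theorem D14428 : act 5 n6901 = n14428 := rfl
theorem F24078 : act 3 n14428 = n6903 := d6_1 D14428 (iv5 D6903) D6901
theorem F24079 : act 4 n14428 = n14320 := d17_4 F11091 D11242 F24076 D14428 (iv5 D14320) (iv0 D6840) (iv5 D3087) D3086 D6837
theorem F24080 : act 0 n13473 = n14427 := d18_2 (iv1 D13472) D13473 (iv4 D14427) D14428 F24079 (iv0 F23931) (iv4 F19106) F22607 F22605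
theorem F24081 : act 0 n12079 = n14428 := d20_10 F24079 F23933 (iv4 F19109) F19108 (iv1 F8389) D7163 F11484 (iv1 F9946) F9949 (iv3 F19997)
def n14429 : Q := act 6 n6901
theorem D14429 : act 6 n6901 = n14429 := rfl
theorem F24082 : act 3 n14429 = n6904 := d7_1 D14429 (iv6 D6904) D6901
def n14430 : Q := act 7 n6901
theorem D14430 : act 7 n6901 = n14430 := rfl
theorem F24083 : act 3 n14430 = n6905 := d8_1 D14430 (iv7 D6905) D6901
def n14431 : Q := act 0 n6902
theorem D14431 : act 0 n6902 = n14431 := rfl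
def n14432 : Q := act 1 n6902
theorem D14432 : act 1 n6902 = n14432 := rfl
theorem F24084 : act 1 n14432 = n6907 := d15_1 D14432 (iv7 F24070) F24069
def n14433 : Q := act 3 n6902
theorem D14433 : act 3 n6902 = n14433 := rfl
def n14434 : Q := act 5 n6902
theorem D14434 : act 5 n6902 = n14434 := rfl
def n14435 : Q := act 6 n6902
theorem D14435 : act 6 n6902 = n14435 := rfl
theorem F24085 : act 4 n14435 = n6904 := d10_1 D14435 (iv6 D6904) D6902
def n14436 : Q := act 7 n6902
theorem D14436 : act 7 n6902 = n14436 := rfl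
theorem F24086 : act 2 n14436 = n6907 := d4_1 D14436 (iv7 F24070) F24069
theorem F24087 : act 4 n14436 = n6905 := d11_1 D14436 (iv7 D6905) D6902
theorem F24088 : act 1 n6907 = n14431 := d15_0 (iv0 D14431) D14436 F24086
def n14437 : Q := act 0 n6903
theorem D14437 : act 0 n6903 = n14437 := rfl
theorem F24089 : act 2 n11664 = n14437 := d15_3 (iv0 D14437) F22597 D11664
theorem F24090 : act 5 n14437 = n14310 := d2_2 F22559 F24089 (iv2 F23918)
theorem F24091 : act 6 n14437 = n14279 := d3_2 F19594 F24089 F23833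
theorem F24092 : act 7 n14437 = n11656 := d4_2 D11664 F24089 F18998
theorem F24093 : act 1 n6908 = n14437 := d15_1 (iv0 F24073) F24092 F18998
def n14438 : Q := act 4 n6903
theorem D14438 : act 4 n6903 = n14438 := rfl
def n14439 : Q := act 6 n6903
theorem D14439 : act 6 n6903 = n14439 := rfl
theorem F24094 : act 0 n14439 = n11896 := d21_4 D1391 D3107 D6903 D14439 (iv6 D11896) D11895 (iv1 F22588) (iv5 D6898) (iv6 D3106) (iv1 D1390)
theorem F24095 : act 5 n14439 = n13841 := d21_6 D6898 F22587 (iv5 D5414) D5415 (iv1 F22597) D14439 (iv1 F23116) (iv5 D6800) D6801 F22485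
theorem F24096 : act 0 n11903 = n14439 := d21_4 D3105 (iv1 F11150) F22559 (iv6 F19594) (iv6 D14439) (iv5 D6903) (iv1 F11098) F11095 F4820 (iv1 F4822)
def n14440 : Q := act 7 n6903
theorem D14440 : act 7 n6903 = n14440 := rfl
theorem F24097 : act 2 n14440 = n6908 := d4_1 D14440 (iv7 F24072) F24071
theorem F24098 : act 5 n14440 = n6905 := d13_1 D14440 (iv7 D6905) D6903
def n14441 : Q := act 0 n6904
theorem D14441 : act 0 n6904 = n14441 := rfl
def n14442 : Q := act 1 n6904
theorem D14442 : act 1 n6904 = n14442 := rfl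
def n14443 : Q := act 5 n6904
theorem D14443 : act 5 n6904 = n14443 := rfl
theorem F24099 : act 6 n14443 = n13841 := d12_2 D6904 D14443 (iv5 F24095) (iv6 D14439) (iv5 D6903)
def n14444 : Q := act 7 n6904
theorem D14444 : act 7 n6904 = n14444 := rfl
def n14445 : Q := act 6 n6905
theorem D14445 : act 6 n6905 = n14445 := rfl
theorem F24100 : act 2 n14445 = n6909 := d3_1 D14445 (iv6 D6909) (iv2 F11187)
def n14446 : Q := act 2 n6906
theorem D14446 : act 2 n6906 = n14446 := rfl
def n14447 : Q := act 4 n6906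
theorem D14447 : act 4 n6906 = n14447 := rfl
theorem F24101 : act 0 n14447 = n13691 := d18_2 (iv1 F24037) D14447 (iv4 D13691) (iv5 D6516) (iv4 F8784) F19358 (iv4 F11156) D6888 D14394
def n14448 : Q := act 6 n6906
theorem D14448 : act 6 n6906 = n14448 := rfl
theorem F24102 : act 3 n14448 = n6909 := d7_1 D14448 (iv6 D6909) D6906
def n14449 : Q := act 3 n6907
theorem D14449 : act 3 n6907 = n14449 := rfl
def n14450 : Q := act 5 n6907
theorem D14450 : act 5 n6907 = n14450 := rfl
def n14451 : Q := act 6 n6907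
theorem D14451 : act 6 n6907 = n14451 := rfl
theorem F24103 : act 4 n14451 = n6909 := d10_1 D14451 (iv6 D6909) D6907
def n14452 : Q := act 4 n6908
theorem D14452 : act 4 n6908 = n14452 := rfl
theorem F24104 : act 6 n14452 = n7657 := d10_2 F11881 D14452 F11894
theorem F24105 : act 5 n14452 = n14323 := d17_5 (iv1 F4823) (iv5 F11095) (iv1 F11097) D6908 D14452 (iv0 F23993) (iv5 D14369) (iv0 D6871) (iv4 D3099)
theorem F24106 : act 0 n14452 = n11867 := d17_0 (iv5 F23977) (iv1 F23978) (iv5 D14313) (iv4 D6837) D6838 F22469 (iv5 D11663) (iv0 F24073) D14452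
theorem F24107 : act 3 n7660 = n14452 := d20_5 F8383 (iv1 F4614) (iv4 F8238) (iv3 F19002) F22528 (iv4 D14452) F24073 (iv4 F10113) F8380 D5499
def n14453 : Q := act 0 n6909
theorem D14453 : act 0 n6909 = n14453 := rfl
def n14454 : Q := act 1 n6909
theorem D14454 : act 1 n6909 = n14454 := rfl
def n14455 : Q := act 5 n6909
theorem D14455 : act 5 n6909 = n14455 := rfl
def n14456 : Q := act 7 n6909
theorem D14456 : act 7 n6909 = n14456 := rfl
def n14457 : Q := act 2 n6910
theorem D14457 : act 2 n6910 = n14457 := rfl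
theorem F24108 : act 7 n6911 = n14457 := d15_2 (iv0 D6910) D6911 (iv2 D14457)
def n14458 : Q := act 3 n6910
theorem D14458 : act 3 n6910 = n14458 := rfl
def n14459 : Q := act 4 n6910
theorem D14459 : act 4 n6910 = n14459 := rfl
theorem F24109 : act 1 n14459 = n11768 := d18_8 F10463 (iv4 D6412) (iv1 F10461) F10457 (iv5 F11095) (iv4 F23939) F23942 D14459 (iv5 D11768)
def n14460 : Q := act 5 n6910
theorem D14460 : act 5 n6910 = n14460 := rfl
def n14461 : Q := act 6 n6910
theorem D14461 : act 6 n6910 = n14461 := rfl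
def n14462 : Q := act 7 n6910
theorem D14462 : act 7 n6910 = n14462 := rfl
theorem F24110 : act 2 n14462 = n6911 := d4_1 D14462 F24108 (iv2 D14457)
def n14463 : Q := act 3 n6911
theorem D14463 : act 3 n6911 = n14463 := rfl
def n14464 : Q := act 4 n6911
theorem D14464 : act 4 n6911 = n14464 := rfl
def n14465 : Q := act 5 n6911
theorem D14465 : act 5 n6911 = n14465 := rfl
def n14466 : Q := act 6 n6911
theorem D14466 : act 6 n6911 = n14466 := rfl
def n14467 : Q := act 0 n6912
theorem D14467 : act 0 n6912 = n14467 := rfl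
def n14468 : Q := act 1 n6912
theorem D14468 : act 1 n6912 = n14468 := rfl
def n14469 : Q := act 2 n6912
theorem D14469 : act 2 n6912 = n14469 := rfl
theorem F24111 : act 4 n14469 = n7028 := d1_2 (iv4 F11188) D14469 (iv2 D7028)
def n14470 : Q := act 5 n6912
theorem D14470 : act 5 n6912 = n14470 := rfl
theorem F24112 : act 3 n14470 = n6913 := d6_1 D14470 (iv5 D6913) D6912
def n14471 : Q := act 7 n6912
theorem D14471 : act 7 n6912 = n14471 := rfl
theorem F24113 : act 3 n14471 = n6914 := d8_1 D14471 (iv7 D6914) D6912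
theorem F24114 : act 4 n14471 = n7030 := d11_1 D14471 (iv7 D7030) (iv4 F11188)
def n14472 : Q := act 0 n6913
theorem D14472 : act 0 n6913 = n14472 := rfl
def n14473 : Q := act 1 n6913
theorem D14473 : act 1 n6913 = n14473 := rfl
def n14474 : Q := act 4 n6913
theorem D14474 : act 4 n6913 = n14474 := rfl
def n14475 : Q := act 6 n6913
theorem D14475 : act 6 n6913 = n14475 := rfl
def n14476 : Q := act 7 n6913
theorem D14476 : act 7 n6913 = n14476 := rfl
theorem F24115 : act 5 n14476 = n6914 := d13_1 D14476 (iv7 D6914) D6913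
def n14477 : Q := act 6 n6914
theorem D14477 : act 6 n6914 = n14477 := rfl
theorem F24116 : act 4 n14477 = n6915 := d10_1 D14477 (iv6 D6915) (iv4 F11189)
def n14478 : Q := act 0 n6915
theorem D14478 : act 0 n6915 = n14478 := rfl
def n14479 : Q := act 1 n6915
theorem D14479 : act 1 n6915 = n14479 := rfl
def n14480 : Q := act 0 n6916
theorem D14480 : act 0 n6916 = n14480 := rfl
theorem F24117 : act 5 n14480 = n12278 := d17_3 (iv1 F10311) D6916 D14480 F20348 (iv5 F23416) (iv0 F23646) (iv5 D14152) (iv0 D6732) F4756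
theorem F24118 : act 1 n11842 = n14480 := d15_0 (iv0 D14480) (iv7 F11926) (iv2 F19237)
theorem F24119 : act 2 n14232 = n14480 := d2_3 F24117 (iv2 F20349) D14232
theorem F24120 : act 3 n13801 = n14480 := d6_3 F24117 F20347 (iv5 F23050)
def n14481 : Q := act 1 n6916
theorem D14481 : act 1 n6916 = n14481 := rfl
theorem F24121 : act 1 n14481 = n11842 := d15_1 D14481 F19238 F19223
theorem F24122 : act 7 n14481 = n14232 := d15_2 (iv0 D14480) D14481 F24119
theorem F24123 : act 5 n12279 = n14481 := d13_3 F24122 (iv5 D14232) (iv7 F20351)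
def n14482 : Q := act 4 n6916
theorem D14482 : act 4 n6916 = n14482 := rfl
def n14483 : Q := act 6 n6916
theorem D14483 : act 6 n6916 = n14483 := rfl
theorem F24124 : act 3 n14483 = n6920 := d7_1 D14483 (iv6 D6920) (iv3 F11192)
theorem F24125 : act 5 n14483 = n7013 := d12_1 D14483 (iv6 D7013) F11194 (iv6 D6917) D6916
def n14484 : Q := act 4 n6918
theorem D14484 : act 4 n6918 = n14484 := rfl
theorem F24126 : act 7 n14484 = n14078 := d11_2 (iv7 F11197) D14484 (iv4 D14078)
theorem F24127 : act 0 n14484 = n11481 := d18_2 (iv1 F11196) D14484 (iv4 D11481) (iv5 D5345) F5270 (iv0 D1187) (iv4 F1506) D1394 D3119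
theorem F24128 : act 1 n14484 = n11488 := d18_6 (iv1 F8004) F5020 F3904 (iv4 F8963) (iv5 F11198) D14484 (iv4 D11488) (iv0 F10612) (iv5 D6551)
def n14485 : Q := act 1 n6919
theorem D14485 : act 1 n6919 = n14485 := rfl
theorem F24129 : act 1 n14485 = n6925 := d15_1 D14485 (iv7 F11920) F11919
theorem F24130 : act 7 n14485 = n13766 := d15_2 F23336 D14485 (iv2 F23334)
theorem F24131 : act 4 n14485 = n7070 := d18_7 F5274 F1988 D1070 F4928 D3114 D6919 D14485 F11322 (iv5 D3499)
def n14486 : Q := act 3 n6919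
theorem D14486 : act 3 n6919 = n14486 := rfl
def n14487 : Q := act 5 n6919
theorem D14487 : act 5 n6919 = n14487 := rfl
theorem F24132 : act 4 n14487 = n11437 := d16_2 D6919 D14487 (iv5 D11437) (iv4 D5325) (iv5 D2182) F4931 D3119 (iv7 F7858) (iv2 F7859)
theorem F24133 : act 0 n14487 = n11448 := d17_2 (iv1 D14485) D14487 (iv5 F18788) F18787 F8138 (iv0 F4936) D3489 (iv0 F11321) (iv4 F24131)
theorem F24134 : act 1 n14487 = n11427 := d17_6 (iv1 D3122) (iv5 D1395) D1393 D3114 D6919 D14487 (iv5 D11427) (iv0 F11204) (iv4 D6931)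
def n14488 : Q := act 6 n6919
theorem D14488 : act 6 n6919 = n14488 := rfl
theorem F24135 : act 4 n14488 = n6920 := d10_1 D14488 (iv6 D6920) D6919
def n14489 : Q := act 0 n6920
theorem D14489 : act 0 n6920 = n14489 := rfl
theorem F24136 : act 6 n14489 = n6968 := d21_5 (iv5 D1395) D1393 D3114 D6920 D14489 F11234 (iv1 D6969) (iv5 F11205) (iv6 D6932) (iv1 D3122)
def n14490 : Q := act 1 n6920
theorem D14490 : act 1 n6920 = n14490 := rfl
theorem F24137 : act 5 n14489 = n14490 := d21_0 (iv1 D14490) F11199 (iv6 D3171) (iv1 D1408) (iv6 F2534) (iv5 D1395) D1393 D3114 D6920 D14489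
def n14491 : Q := act 7 n6920
theorem D14491 : act 7 n6920 = n14491 := rfl
theorem F24138 : act 5 n14491 = n7019 := d13_1 D14491 (iv7 D7019) (iv5 F11199)
def n14492 : Q := act 0 n6923
theorem D14492 : act 0 n6923 = n14492 := rfl
theorem F24139 : act 1 n11518 = n14492 := d15_0 (iv0 D14492) (iv7 F11913) (iv2 F19550)
def n14493 : Q := act 4 n6923
theorem D14493 : act 4 n6923 = n14493 := rfl
def n14494 : Q := act 6 n6923
theorem D14494 : act 6 n6923 = n14494 := rfl
theorem F24140 : act 3 n14494 = n6926 := d7_1 D14494 (iv6 D6926) (iv3 F11200)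
def n14495 : Q := act 1 n6924
theorem D14495 : act 1 n6924 = n14495 := rfl
def n14496 : Q := act 3 n6925
theorem D14496 : act 3 n6925 = n14496 := rfl
def n14497 : Q := act 5 n6925
theorem D14497 : act 5 n6925 = n14497 := rfl
theorem F24141 : act 4 n14497 = n11434 := d9_1 D14497 (iv5 D11434) (iv4 D5317) (iv5 D2177) F4928 D3114 D6919 D14487 F24132 (iv5 D11437) (iv4 D5325) (iv5 D2182) F4931 D3119 D6925
theorem F24142 : act 0 n14497 = n11427 := d17_2 F23335 D14497 (iv5 D11427) (iv4 D5310) (iv5 D2172) (iv0 F5274) D3499 (iv0 F10801) D13998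
theorem F24143 : act 1 n14497 = n11448 := d17_6 (iv1 F5479) F5477 (iv1 F2682) D3119 D6925 D14497 (iv5 F18788) F18790 (iv4 D6928)
def n14498 : Q := act 6 n6925
theorem D14498 : act 6 n6925 = n14498 := rfl
theorem F24144 : act 4 n14498 = n6926 := d10_1 D14498 (iv6 D6926) D6925
def n14499 : Q := act 0 n6926
theorem D14499 : act 0 n6926 = n14499 := rfl
theorem F24145 : act 5 n14499 = n14248 := d21_8 (iv5 F23783) (iv1 D11690) (iv5 F10855) (iv6 D6675) D6672 D14037 F23419 D14499 F23773 (iv1 F23782)
theorem F24146 : act 7 n6962 = n14499 := d13_0 F24145 (iv7 D14248) (iv5 F11225)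
def n14500 : Q := act 7 n6926
theorem D14500 : act 7 n6926 = n14500 := rfl
theorem F24147 : act 1 n6962 = n14500 := d15_1 (iv0 F11931) (iv7 D14500) (iv2 F11930)
def n14501 : Q := act 4 n6927
theorem D14501 : act 4 n6927 = n14501 := rfl
def n14502 : Q := act 6 n6927
theorem D14502 : act 6 n6927 = n14502 := rfl
theorem F24148 : act 3 n14502 = n6929 := d7_1 D14502 (iv6 D6929) D6927
def n14503 : Q := act 3 n6928
theorem D14503 : act 3 n6928 = n14503 := rfl
def n14504 : Q := act 5 n6928
theorem D14504 : act 5 n6928 = n14504 := rfl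
theorem F24149 : act 4 n14504 = n11441 := d16_2 D6928 D14504 (iv5 D11441) (iv4 D5330) (iv5 F3541) F4907 F4845 F5466 F5467
def n14505 : Q := act 6 n6928
theorem D14505 : act 6 n6928 = n14505 := rfl
theorem F24150 : act 4 n14505 = n6929 := d10_1 D14505 (iv6 D6929) D6928
def n14506 : Q := act 0 n6929
theorem D14506 : act 0 n6929 = n14506 := rfl
theorem F24151 : act 6 n14506 = n7018 := d21_5 (iv5 D6693) (iv1 F8973) F8970 D6929 D14506 (iv5 F23518) (iv1 D12316) (iv5 F11922) (iv6 D7676) (iv1 F10902)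
def n14507 : Q := act 1 n6929
theorem D14507 : act 1 n6929 = n14507 := rfl
def n14508 : Q := act 7 n6929
theorem D14508 : act 7 n6929 = n14508 := rfl
theorem F24152 : act 5 n14508 = n11667 := d13_1 D14508 F19672 F19615
def n14509 : Q := act 4 n6930
theorem D14509 : act 4 n6930 = n14509 := rfl
def n14510 : Q := act 6 n6930
theorem D14510 : act 6 n6930 = n14510 := rfl
theorem F24153 : act 3 n14510 = n6932 := d7_1 D14510 (iv6 D6932) D6930
theorem F24154 : act 5 n14510 = n6953 := d12_1 D14510 (iv6 D6953) (iv5 D3135) D3136 (iv5 F11203)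
def n14511 : Q := act 3 n6931
theorem D14511 : act 3 n6931 = n14511 := rfl
def n14512 : Q := act 5 n6931
theorem D14512 : act 5 n6931 = n14512 := rfl
theorem F24155 : act 4 n14512 = n11439 := d9_1 D14512 (iv5 D11439) (iv4 D5328) (iv5 F7617) (iv4 F8969) F8970 D6928 D14504 F24149 (iv5 D11441) (iv4 D5330) (iv5 F3541) F4907 F4845 D6931
def n14513 : Q := act 6 n6931
theorem D14513 : act 6 n6931 = n14513 := rfl
theorem F24156 : act 4 n14513 = n6932 := d10_1 D14513 (iv6 D6932) D6931
def n14514 : Q := act 0 n6932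
theorem D14514 : act 0 n6932 = n14514 := rfl
def n14515 : Q := act 1 n6932
theorem D14515 : act 1 n6932 = n14515 := rfl
def n14516 : Q := act 7 n6932
theorem D14516 : act 7 n6932 = n14516 := rfl
theorem F24157 : act 5 n14516 = n6970 := d13_1 D14516 (iv7 D6970) (iv5 F11205)
def n14517 : Q := act 3 n6933
theorem D14517 : act 3 n6933 = n14517 := rfl
def n14518 : Q := act 5 n6933
theorem D14518 : act 5 n6933 = n14518 := rfl
theorem F24158 : act 4 n14518 = n7098 := d16_2 (iv4 F11206) D14518 (iv5 D7098) (iv4 D3238) (iv5 D1437) (iv4 F2552) D3223 F7924 F8132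
def n14519 : Q := act 6 n6933
theorem D14519 : act 6 n6933 = n14519 := rfl
theorem F24159 : act 4 n14519 = n11491 := d10_1 D14519 (iv6 D11491) (iv4 F11206)
def n14520 : Q := act 3 n6934
theorem D14520 : act 3 n6934 = n14520 := rfl
def n14521 : Q := act 5 n6934
theorem D14521 : act 5 n6934 = n14521 := rfl
theorem F24160 : act 4 n14521 = n7129 := d9_1 D14521 (iv5 D7129) F5214 F3897 (iv4 F9049) F9050 (iv4 F11206) D14518 F24158 (iv5 D7098) (iv4 D3238) (iv5 D1437) (iv4 F2552) D3223 (iv4 F11207)
def n14522 : Q := act 6 n6934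
theorem D14522 : act 6 n6934 = n14522 := rfl
theorem F24161 : act 4 n14522 = n7067 := d10_1 D14522 F11316 (iv4 F11207)
def n14523 : Q := act 0 n6935
theorem D14523 : act 0 n6935 = n14523 := rfl
def n14524 : Q := act 1 n6935
theorem D14524 : act 1 n6935 = n14524 := rfl
def n14525 : Q := act 2 n6935
theorem D14525 : act 2 n6935 = n14525 := rfl
theorem F24162 : act 6 n14525 = n7028 := d3_2 (iv6 F11208) D14525 (iv2 D7028)
def n14526 : Q := act 5 n6935
theorem D14526 : act 5 n6935 = n14526 := rfl
theorem F24163 : act 3 n14526 = n6936 := d6_1 D14526 (iv5 D6936) D6935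
def n14527 : Q := act 7 n6935
theorem D14527 : act 7 n6935 = n14527 := rfl
theorem F24164 : act 3 n14527 = n6937 := d8_1 D14527 (iv7 D6937) D6935
def n14528 : Q := act 0 n6936
theorem D14528 : act 0 n6936 = n14528 := rfl
theorem F24165 : act 5 n14528 = n11481 := d17_3 (iv1 D6934) D6936 D14528 (iv4 D11481) (iv5 D5345) (iv0 D2192) D2194 (iv0 F5076) (iv4 F11207)
theorem F24166 : act 4 n14528 = n11506 := d18_1 D14528 (iv1 D11506) D11507 F18818 F18671 F8134 (iv4 F11206) (iv0 D6933) D6936
theorem F24167 : act 1 n12774 = n14528 := d15_0 (iv0 D14528) F12031 (iv2 F21207)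
def n14529 : Q := act 1 n6936
theorem D14529 : act 1 n6936 = n14529 := rfl
theorem F24168 : act 1 n14529 = n12774 := d15_1 D14529 (iv7 F21209) F11955
theorem F24169 : act 5 n14529 = n11488 := d17_7 F10650 (iv5 D3119) (iv1 D1394) D1395 D3123 D6936 D14529 (iv0 F23124) (iv4 D13852)
theorem F24170 : act 4 n14529 = n11505 := d17_9 (iv1 F18812) F18715 (iv1 F8102) D7098 (iv4 F24158) (iv5 D14518) (iv0 D6933) D6936 D14529
def n14530 : Q := act 6 n6936
theorem D14530 : act 6 n6936 = n14530 := rfl
theorem F24171 : act 5 n14530 = n7033 := d12_1 D14530 (iv6 D7033) (iv5 D3175) (iv6 F4846) D6936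
def n14531 : Q := act 6 n6937
theorem D14531 : act 6 n6937 = n14531 := rfl
theorem F24172 : act 4 n14531 = n6938 := d10_1 D14531 (iv6 D6938) (iv4 F11209)
theorem F24173 : act 7 n14531 = n7034 := d14_2 D6937 D14531 (iv6 D7034) (iv7 D3176) (iv6 F4846)
def n14532 : Q := act 5 n6940
theorem D14532 : act 5 n6940 = n14532 := rfl
theorem F24174 : act 3 n14532 = n11989 := d6_1 D14532 (iv5 D11989) (iv3 F11213)
theorem F24175 : act 7 n14532 = n14146 := d13_2 F19419 D14532 (iv5 D14146)
def n14533 : Q := act 4 n6941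
theorem D14533 : act 4 n6941 = n14533 := rfl
theorem F24176 : act 7 n14533 = n14147 := d11_2 F19435 D14533 (iv4 D14147)
def n14534 : Q := act 6 n6941
theorem D14534 : act 6 n6941 = n14534 := rfl
theorem F24177 : act 5 n14534 = n14534 := d12_1 D14534 (iv6 D14534) (iv5 D6941) F19324 D6941
def n14535 : Q := act 4 n6948
theorem D14535 : act 4 n6948 = n14535 := rfl
theorem F24178 : act 2 n14535 = n6952 := d1_1 D14535 (iv4 D6952) (iv2 F11215)
def n14536 : Q := act 6 n6948
theorem D14536 : act 6 n6948 = n14536 := rfl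
theorem F24179 : act 2 n14536 = n6953 := d3_1 D14536 (iv6 D6953) (iv2 F11215)
def n14537 : Q := act 0 n6949
theorem D14537 : act 0 n6949 = n14537 := rfl
def n14538 : Q := act 1 n6949
theorem D14538 : act 1 n6949 = n14538 := rfl
theorem F24180 : act 1 n14538 = n6956 := d15_1 D14538 (iv7 D6956) (iv2 F11216)
theorem F24181 : act 6 n11608 = n14538 := d21_3 D2218 D5394 D11608 (iv1 D14538) (iv6 D6949) D6948 F19425 (iv5 D11603) (iv6 D5393) (iv1 D2217)
theorem F24182 : act 7 n14538 = n6954 := d14_2 (iv7 F22925) F24181 (iv6 F22967) F22914 D6740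
theorem F24183 : act 2 n6955 = n14538 := d4_3 F24182 F22968 (iv7 F22969)
theorem E3024 : n14172 = n6949 := (c15_1 D14172 D14538 F24182 F22968)
theorem E3025 : n14537 = n6745 := ((D14537).symm.trans (sb E3024 (iv1 D14172)))
theorem F24184 : act 1 n6745 = n6949 := (sb E3025 (iv0 D14537))
theorem F24185 : act 0 n11850 = n7679 := d17_0 (iv5 F23076) (iv1 F23727) (iv5 D14209) F11009 D6923 F23692 (iv5 D14173) F24184 (iv4 F19258)
def n14539 : Q := act 7 n6949
theorem D14539 : act 7 n6949 = n14539 := rfl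
theorem F24186 : act 2 n14539 = n6956 := d4_1 D14539 (iv7 D6956) (iv2 F11216)
theorem F24187 : act 5 n14539 = n11525 := d13_1 D14539 F19444 (iv5 F19424)
theorem F24188 : act 1 n6955 = n14539 := d15_1 D6955 (iv7 D14539) F11216
theorem F24189 : act 1 n14539 = n6954 := d15_1 F24188 (iv7 F24182) (iv2 F24183)
def n14540 : Q := act 4 n6950
theorem D14540 : act 4 n6950 = n14540 := rfl
def n14541 : Q := act 6 n6950
theorem D14541 : act 6 n6950 = n14541 := rfl
def n14542 : Q := act 3 n6951
theorem D14542 : act 3 n6951 = n14542 := rfl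
def n14543 : Q := act 4 n6951
theorem D14543 : act 4 n6951 = n14543 := rfl
def n14544 : Q := act 6 n6951
theorem D14544 : act 6 n6951 = n14544 := rfl
def n14545 : Q := act 0 n6952
theorem D14545 : act 0 n6952 = n14545 := rfl
def n14546 : Q := act 1 n6952
theorem D14546 : act 1 n6952 = n14546 := rfl
def n14547 : Q := act 3 n6952
theorem D14547 : act 3 n6952 = n14547 := rfl
theorem F24190 : act 4 n14547 = n6965 := d5_2 D6952 D14547 (iv3 D6965) (iv4 D3146) (iv3 F4856)
def n14548 : Q := act 5 n6952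
theorem D14548 : act 5 n6952 = n14548 := rfl
def n14549 : Q := act 6 n6952
theorem D14549 : act 6 n6952 = n14549 := rfl
theorem F24191 : act 4 n14549 = n6953 := d10_1 D14549 (iv6 D6953) D6952
def n14550 : Q := act 0 n6953
theorem D14550 : act 0 n6953 = n14550 := rfl
def n14551 : Q := act 1 n6953
theorem D14551 : act 1 n6953 = n14551 := rfl
def n14552 : Q := act 7 n6953
theorem D14552 : act 7 n6953 = n14552 := rfl
theorem F24192 : act 3 n14552 = n6970 := d8_1 D14552 (iv7 D6970) (iv3 F11217)
def n14553 : Q := act 4 n6954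
theorem D14553 : act 4 n6954 = n14553 := rfl
theorem F24193 : act 2 n14553 = n14169 := d1_1 D14553 F23690 (iv2 F22968)
theorem F24194 : act 3 n14553 = n11418 := d5_1 D14553 (iv4 F22963) F22962 (iv4 F22965) (iv3 F22966)
theorem F24195 : act 6 n14553 = n11416 := d10_2 F22967 D14553 F18662
theorem F24196 : act 0 n11418 = n11726 := d20_4 F10173 D6954 D14553 F24194 F19067 F8288 (iv1 F7958) (iv4 F8517) F19293 (iv1 D11862)
def n14554 : Q := act 5 n6954
theorem D14554 : act 5 n6954 = n14554 := rfl
theorem F24197 : act 2 n14554 = n14173 := d2_1 D14554 (iv5 D14173) (iv2 F22968)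
theorem F24198 : act 0 n14554 = n11545 := d17_2 D6954 D14554 (iv5 D11545) (iv4 F19494) D6775 F23755 F23753 F19295 F10173
theorem F24199 : act 0 n7673 = n14554 := d21_1 D7673 (iv5 D14554) (iv6 F22967) (iv1 D6733) (iv6 D3029) (iv5 F2495) (iv1 F2498) F2501 D2214 F19491
theorem F24200 : act 7 n14492 = n14554 := d15_2 (iv0 F23691) F24139 F24197
theorem F24201 : act 5 n14538 = n14492 := d13_3 F24200 (iv5 D14554) (iv7 F24182)
theorem E3026 : n11602 = n11519 := ((c21_4 F24201 (iv1 F24139) (iv5 D11518) D11519 (iv1 D11602) (iv6 D5393) D5392 (iv1 F18892) (iv5 F19770) F19771 (iv1 F24180))).symm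
theorem F24202 : act 0 n11519 = n5393 := (sb E3026 (iv1 D11602))
theorem E3027 : n11879 = n6986 := ((F19567).symm.trans (sb E3026 F19427))
theorem F24203 : act 2 n6986 = n6772 := (sb E3027 F19565)
theorem F24204 : act 3 n6986 = n14263 := (sb E3027 (iv3 F23803))
theorem F24205 : act 4 n6986 = n11519 := (sb E3027 (iv4 F19567))
theorem F24206 : act 5 n6986 = n5573 := (sb E3027 (iv5 D11879))
theorem F24207 : act 6 n6986 = n6761 := (sb E3027 F19566)
def n14555 : Q := act 3 n6955
theorem D14555 : act 3 n6955 = n14555 := rfl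
theorem F24208 : act 7 n14555 = n14166 := d8_2 (iv7 F22969) D14555 F23684
def n14556 : Q := act 4 n6955
theorem D14556 : act 4 n6955 = n14556 := rfl
theorem F24209 : act 7 n14556 = n14169 := d11_2 (iv7 F22969) D14556 F23690
def n14557 : Q := act 5 n6955
theorem D14557 : act 5 n6955 = n14557 := rfl
theorem F24210 : act 2 n14557 = n14492 := d2_1 D14557 (iv5 F24201) (iv2 F24183)
theorem F24211 : act 7 n14557 = n14173 := d13_2 (iv7 F22969) D14557 (iv5 D14173)
theorem F24212 : act 1 n7673 = n14557 := d15_1 (iv0 F24199) F24211 (iv2 F24197)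
theorem F24213 : act 1 n14557 = n11545 := d15_1 F24212 F19500 F19550
def n14558 : Q := act 6 n6955
theorem D14558 : act 6 n6955 = n14558 := rfl
theorem F24214 : act 2 n14558 = n11608 := d3_1 D14558 F24181 (iv2 F24183)
theorem F24215 : act 7 n14558 = n11613 := d14_2 (iv7 F22969) D14558 F18956 F22911 D6745
theorem F24216 : act 0 n14558 = n11975 := d21_4 D11545 (iv1 F24213) (iv5 D14557) D14558 F19771 (iv5 F11932) F19431 F18838 F8195 (iv1 F8199)
theorem F24217 : act 5 n11559 = n14558 := d21_2 D5382 D11559 (iv6 D14558) (iv1 D6955) (iv6 D3136) D3135 D6950 F19438 (iv6 D11558) (iv1 D5381)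
theorem F24218 : act 0 n11869 = n14558 := d21_4 (iv5 F19438) (iv1 F19309) (iv5 D11868) D11869 (iv6 D14558) D14557 (iv1 F24212) (iv5 D7673) D7674 (iv1 F19440)
theorem E3028 : n12294 = n11613 := (c15_2 (iv0 F19428) D12294 (iv7 F24215) F24214)
theorem F24219 : act 0 n11613 = n5836 := (sb E3028 (iv1 D12294))
def n14559 : Q := act 4 n6957
theorem D14559 : act 4 n6957 = n14559 := rfl
def n14560 : Q := act 6 n6957
theorem D14560 : act 6 n6957 = n14560 := rfl
theorem F24220 : act 3 n14560 = n6959 := d7_1 D14560 (iv6 D6959) D6957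
theorem F24221 : act 5 n14560 = n11920 := d12_1 D14560 (iv6 D11920) (iv5 D5592) D5593 (iv5 F11219)
def n14561 : Q := act 3 n6958
theorem D14561 : act 3 n6958 = n14561 := rfl
def n14562 : Q := act 5 n6958
theorem D14562 : act 5 n6958 = n14562 := rfl
theorem F24222 : act 4 n14562 = n7075 := d16_2 D6958 D14562 (iv5 D7075) (iv4 D3228) F4616 (iv4 F8238) F8239 F8237 F8232
theorem F24223 : act 0 n14562 = n12319 := d17_2 (iv1 F11221) D14562 (iv5 D12319) F8998 (iv5 F8382) (iv0 D5499) F5083 (iv0 D3217) D3219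
theorem F24224 : act 1 n14562 = n12322 := d17_6 (iv1 F3830) (iv5 F5456) (iv1 F7600) F4881 D6958 D14562 (iv5 D12322) F9002 F5000
def n14563 : Q := act 6 n6958
theorem D14563 : act 6 n6958 = n14563 := rfl
theorem F24225 : act 4 n14563 = n6959 := d10_1 D14563 (iv6 D6959) D6958
def n14564 : Q := act 0 n6959
theorem D14564 : act 0 n6959 = n14564 := rfl
def n14565 : Q := act 1 n6959
theorem D14565 : act 1 n6959 = n14565 := rfl
def n14566 : Q := act 7 n6959
theorem D14566 : act 7 n6959 = n14566 := rfl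
theorem F24226 : act 5 n14566 = n11927 := d13_1 D14566 (iv7 D11927) (iv5 F11222)
def n14567 : Q := act 3 n6961
theorem D14567 : act 3 n6961 = n14567 := rfl
def n14568 : Q := act 5 n6961
theorem D14568 : act 5 n6961 = n14568 := rfl
theorem F24227 : act 4 n14568 = n7073 := d9_1 D14568 (iv5 D7073) (iv4 D3226) F2556 (iv4 F4880) F4881 D6958 D14562 F24222 (iv5 D7075) (iv4 D3228) F4616 (iv4 F8238) F8239 D6961
theorem F24228 : act 0 n14568 = n12322 := d17_2 (iv1 F11224) D14568 (iv5 D12322) F9004 (iv5 F5483) F8719 F8717 F5019 D3269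
theorem F24229 : act 1 n14568 = n12319 := d17_6 D2442 (iv5 F8539) (iv1 F8544) F8239 D6961 D14568 (iv5 D12319) (iv0 D5845) (iv4 D2444)
def n14569 : Q := act 6 n6961
theorem D14569 : act 6 n6961 = n14569 := rfl
theorem F24230 : act 4 n14569 = n6962 := d10_1 D14569 (iv6 D6962) D6961
def n14570 : Q := act 3 n6963
theorem D14570 : act 3 n6963 = n14570 := rfl
def n14571 : Q := act 5 n6963
theorem D14571 : act 5 n6963 = n14571 := rfl
theorem F24231 : act 4 n14571 = n7135 := d16_2 (iv4 F11226) D14571 F11450 F9071 F8033 (iv4 F8388) (iv5 F9043) F9042 (iv2 F8711)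
theorem F24232 : act 0 n14571 = n12303 := d17_2 D6963 D14571 (iv5 D12303) (iv4 D5840) (iv5 F8539) (iv0 D5596) F4881 (iv0 D3144) D3146
theorem F24233 : act 1 n14571 = n12313 := d17_6 (iv1 F7590) (iv5 F7592) (iv1 F8386) D5666 (iv4 F11226) D14571 (iv5 D12313) F10471 F10470
def n14572 : Q := act 6 n6963
theorem D14572 : act 6 n6963 = n14572 := rfl
theorem F24234 : act 4 n14572 = n12003 := d10_1 D14572 F19844 (iv4 F11226)
def n14573 : Q := act 3 n6964
theorem D14573 : act 3 n6964 = n14573 := rfl
def n14574 : Q := act 5 n6964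
theorem D14574 : act 5 n6964 = n14574 := rfl
theorem F24235 : act 4 n14574 = n7136 := d9_1 D14574 F11456 (iv4 D5669) (iv5 D2369) (iv4 F3710) D5666 (iv4 F11226) D14571 F24231 F11450 F9071 F8033 (iv4 F8388) (iv5 F9043) (iv4 F11229)
theorem F24236 : act 0 n14574 = n12313 := d17_2 (iv1 F11228) D14574 (iv5 D12313) (iv4 D5843) (iv5 F5456) F8240 F8239 F4896 D3159
theorem F24237 : act 1 n14574 = n12303 := d17_6 D5100 F7587 (iv1 F8390) (iv5 F9043) (iv4 F11229) D14574 (iv5 D12303) F8991 (iv4 D5102)
def n14575 : Q := act 6 n6964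
theorem D14575 : act 6 n6964 = n14575 := rfl
theorem F24238 : act 4 n14575 = n12338 := d10_1 D14575 (iv6 D12338) (iv4 F11229)
def n14576 : Q := act 0 n6965
theorem D14576 : act 0 n6965 = n14576 := rfl
def n14577 : Q := act 1 n6965
theorem D14577 : act 1 n6965 = n14577 := rfl
def n14578 : Q := act 2 n6965
theorem D14578 : act 2 n6965 = n14578 := rfl
def n14579 : Q := act 5 n6965
theorem D14579 : act 5 n6965 = n14579 := rfl
theorem F24239 : act 3 n14579 = n6966 := d6_1 D14579 (iv5 D6966) D6965
def n14580 : Q := act 6 n6965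
theorem D14580 : act 6 n6965 = n14580 := rfl
theorem F24240 : act 3 n14580 = n6967 := d7_1 D14580 (iv6 D6967) D6965
def n14581 : Q := act 6 n6966
theorem D14581 : act 6 n6966 = n14581 := rfl
theorem F24241 : act 4 n14581 = n7212 := d10_1 D14581 (iv6 D7212) (iv4 F11230)
def n14582 : Q := act 0 n6967
theorem D14582 : act 0 n6967 = n14582 := rfl
def n14583 : Q := act 1 n6967
theorem D14583 : act 1 n6967 = n14583 := rfl
def n14584 : Q := act 5 n6967
theorem D14584 : act 5 n6967 = n14584 := rfl
def n14585 : Q := act 7 n6967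
theorem D14585 : act 7 n6967 = n14585 := rfl
theorem F24242 : act 4 n14585 = n6970 := d11_1 D14585 (iv7 D6970) (iv4 F11233)
def n14586 : Q := act 2 n6968
theorem D14586 : act 2 n6968 = n14586 := rfl
theorem F24243 : act 7 n6969 = n14586 := d15_2 (iv0 D6968) D6969 (iv2 D14586)
def n14587 : Q := act 3 n6968
theorem D14587 : act 3 n6968 = n14587 := rfl
def n14588 : Q := act 4 n6968
theorem D14588 : act 4 n6968 = n14588 := rfl
def n14589 : Q := act 7 n6968
theorem D14589 : act 7 n6968 = n14589 := rfl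
theorem F24244 : act 2 n14589 = n6969 := d4_1 D14589 F24243 (iv2 D14586)
def n14590 : Q := act 3 n6969
theorem D14590 : act 3 n6969 = n14590 := rfl
theorem F24246 : act 5 n14590 = n14587 := d6_2 F11234 D14590 (iv3 D14587)
def n14591 : Q := act 4 n6969
theorem D14591 : act 4 n6969 = n14591 := rfl
def n14592 : Q := act 6 n6969
theorem D14592 : act 6 n6969 = n14592 := rfl
def n14593 : Q := act 4 n6972
theorem D14593 : act 4 n6972 = n14593 := rfl
theorem F24247 : act 2 n14593 = n14484 := d1_1 D14593 (iv4 D14484) (iv2 F11237)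
theorem F24248 : act 7 n14593 = n13852 := d11_2 (iv7 F11238) D14593 (iv4 D13852)
theorem F24249 : act 0 n14593 = n7699 := d18_2 (iv1 F11240) D14593 (iv4 D7699) (iv5 D3489) (iv4 D1538) (iv0 D835) (iv4 F1578) D1533 D3482
theorem F24250 : act 1 n14593 = n7708 := d18_6 (iv1 F9053) F9049 F3905 (iv4 F4941) D6972 D14593 (iv4 D7708) (iv0 F10801) (iv5 D6655)
def n14594 : Q := act 4 n6973
theorem D14594 : act 4 n6973 = n14594 := rfl
theorem F24251 : act 7 n14594 = n14205 := d11_2 (iv7 F11241) D14594 (iv4 D14205)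
def n14595 : Q := act 6 n6973
theorem D14595 : act 6 n6973 = n14595 := rfl
theorem F24252 : act 5 n14595 = n14595 := d12_1 D14595 (iv6 D14595) (iv5 D6973) F10160 D6973
def n14596 : Q := act 5 n6974
theorem D14596 : act 5 n6974 = n14596 := rfl
theorem F24253 : act 2 n14596 = n6979 := d2_1 D14596 (iv5 D6979) (iv2 F11243)
def n14597 : Q := act 6 n6974
theorem D14597 : act 6 n6974 = n14597 := rfl
theorem F24254 : act 2 n14597 = n6980 := d3_1 D14597 (iv6 D6980) (iv2 F11243)
theorem F24255 : act 4 n14597 = n6976 := d10_1 D14597 (iv6 D6976) D6974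
def n14598 : Q := act 4 n6975
theorem D14598 : act 4 n6975 = n14598 := rfl
theorem F24256 : act 2 n14598 = n6983 := d1_1 D14598 (iv4 D6983) (iv2 F11244)
def n14599 : Q := act 6 n6975
theorem D14599 : act 6 n6975 = n14599 := rfl
theorem F24257 : act 2 n14599 = n6984 := d3_1 D14599 (iv6 D6984) (iv2 F11244)
def n14600 : Q := act 0 n6976
theorem D14600 : act 0 n6976 = n14600 := rfl
theorem F24258 : act 6 n14600 = n12279 := d21_5 (iv5 F20335) (iv1 F20336) (iv5 D6975) D6976 D14600 F24123 (iv1 D14481) (iv5 D6916) D6917 F19267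
theorem F24259 : act 5 n14600 = n11853 := d21_0 (iv1 F19276) F8493 F3673 (iv1 F8478) D11852 (iv5 F20335) (iv1 F20336) (iv5 D6975) D6976 D14600
theorem F24260 : act 2 n6985 = n14600 := d15_3 (iv0 D14600) F18390 F11918
theorem F24261 : act 7 n14600 = n6986 := d4_2 F11918 F24260 F24203
theorem F24262 : act 1 n6988 = n14600 := d15_1 (iv0 F18388) F24261 F24203
def n14601 : Q := act 7 n6976
theorem D14601 : act 7 n6976 = n14601 := rfl
theorem F24263 : act 2 n14601 = n6988 := d4_1 D14601 (iv7 D6988) (iv2 F11245)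
theorem F24264 : act 1 n6986 = n14601 := d15_1 D6986 (iv7 D14601) F11245
theorem F24265 : act 1 n14601 = n6985 := d15_1 F24264 (iv7 F11918) (iv2 F24203)
def n14602 : Q := act 3 n6978
theorem D14602 : act 3 n6978 = n14602 := rfl
theorem F24266 : act 2 n14602 = n11954 := d0_1 D14602 (iv3 D11954) F19378 D11748 F19394
theorem F24267 : act 4 n14602 = n11624 := d5_2 F11287 D14602 F18964 (iv4 D7039) D7038
theorem F24268 : act 6 n14602 = n14602 := d7_2 F19370 D14602 (iv3 D14602)
theorem F24269 : act 7 n14602 = n13315 := d8_2 (iv7 F19375) D14602 F22127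
theorem F24270 : act 0 n14602 = n13348 := d20_4 D11553 F18862 F11287 D14602 (iv3 F22636) (iv4 D13485) (iv1 F18106) F8439 F3669 D5380
theorem F24271 : act 0 n13326 = n14602 := d20_4 F7533 (iv1 F22454) F9860 D13326 (iv3 D14602) (iv4 F11287) F18114 F18113 F9864 F22459
def n14603 : Q := act 5 n6978
theorem D14603 : act 5 n6978 = n14603 := rfl
theorem F24272 : act 7 n14603 = n14214 := d13_2 (iv7 F19375) D14603 (iv5 D14214)
def n14604 : Q := act 0 n6979
theorem D14604 : act 0 n6979 = n14604 := rfl
def n14605 : Q := act 1 n6979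
theorem D14605 : act 1 n6979 = n14605 := rfl
def n14606 : Q := act 4 n6979
theorem D14606 : act 4 n6979 = n14606 := rfl
def n14607 : Q := act 6 n6979
theorem D14607 : act 6 n6979 = n14607 := rfl
theorem F24273 : act 3 n14607 = n13540 := d7_1 D14607 (iv6 D13540) (iv3 F11246)
def n14608 : Q := act 0 n6980
theorem D14608 : act 0 n6980 = n14608 := rfl
def n14609 : Q := act 1 n6980
theorem D14609 : act 1 n6980 = n14609 := rfl
theorem F24274 : act 5 n14609 = n11800 := d18_9 (iv1 D11800) D11801 F19178 (iv4 D7000) D7001 (iv4 F11493) (iv0 D6985) (iv4 F11248) D14609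
theorem F24275 : act 4 n13705 = n14609 := d20_6 (iv4 D2761) F3865 (iv4 F8301) D11738 F22186 (iv3 F22952) (iv1 D14609) F11248 F4950 F4901
theorem F24276 : act 6 n14609 = n13703 := d10_2 D13705 F24275 (iv4 D13703)
theorem F24277 : act 2 n14216 = n14609 := d3_3 F24276 F22946 D14216
theorem F24278 : act 2 n11800 = n13497 := d2_3 F23743 F24277 F24274
def n14610 : Q := act 5 n6980
theorem D14610 : act 5 n6980 = n14610 := rfl
theorem F24279 : act 3 n14610 = n11366 := d6_1 D14610 F18551 (iv3 F11247)
def n14611 : Q := act 7 n6980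
theorem D14611 : act 7 n6980 = n14611 := rfl
theorem F24280 : act 3 n14611 = n11374 := d8_1 D14611 F18574 (iv3 F11247)
theorem F24281 : act 4 n14611 = n6988 := d11_1 D14611 (iv7 D6988) (iv4 F11248)
theorem F24282 : act 1 n14216 = n14611 := d17_8 F18388 F19269 (iv1 D11854) (iv5 D5561) (iv4 F8439) D11786 (iv0 F23744) F23743 F24281
theorem F24283 : act 1 n14597 = n14216 := d15_0 F24282 (iv7 D14611) (iv2 F24254)
def n14612 : Q := act 4 n6981
theorem D14612 : act 4 n6981 = n14612 := rfl
def n14613 : Q := act 5 n6981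
theorem D14613 : act 5 n6981 = n14613 := rfl
theorem F24284 : act 2 n14613 = n11874 := d2_1 D14613 F20344 (iv2 F20343)
theorem F24285 : act 3 n14613 = n11974 := d6_1 D14613 F19767 F20340
theorem F24286 : act 7 n14613 = n11852 := d13_2 (iv7 F20339) D14613 (iv5 F20335)
theorem F24287 : act 4 n14613 = n11975 := d17_4 (iv1 D3154) D3157 D6981 D14613 F19770 F18892 (iv5 D5392) F8211 F10159
theorem F24288 : act 6 n11864 = n14613 := d10_0 F24287 F19771 (iv4 F19300)
theorem F24289 : act 1 n11833 = n14613 := d17_8 F19773 F18868 (iv1 D11560) (iv5 D5382) (iv4 F4771) D6759 F19209 (iv5 F19225) F24287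
theorem F24290 : act 3 n14161 = n11997 := d20_9 (iv4 F10130) F11437 (iv4 F22275) (iv3 D13397) (iv1 F19769) (iv3 F24285) F24287 F19773 (iv4 F23678) (iv1 D11997)
theorem F24291 : act 6 n11997 = n11406 := d7_2 D14161 F24290 (iv3 F18658)
theorem F24292 : act 0 n11872 = n14613 := d20_10 F24287 F19773 (iv4 F23678) F24290 (iv1 D11997) F8706 F3710 D2367 (iv4 F8540) F19561
theorem E3029 : n14231 = n11317 := ((c21_4 (iv5 D14613) (iv1 F18488) (iv5 D11316) D11317 (iv1 D14231) (iv6 D6776) D6775 (iv1 F23723) F23420 (iv6 F19563) F24292)).symm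
theorem F24293 : act 0 n11317 = n6776 := (sb E3029 (iv1 D14231))
theorem F24294 : act 2 n11414 = n11997 := d3_3 F24291 F22887 D11414
theorem F24295 : act 5 n11997 = n11161 := d21_6 F3750 (iv1 F2387) (iv5 F3529) D5303 D11406 (iv6 F24291) (iv1 D11161) (iv5 D5098) (iv6 D2090) D2087
theorem E3030 : n11873 = n11833 := (c15_1 D11873 F24289 F24286 F19264)
theorem F24296 : act 0 n11833 = n5571 := (sb E3030 (iv1 D11873))
def n14614 : Q := act 6 n6981
theorem D14614 : act 6 n6981 = n14614 := rfl
theorem F24297 : act 5 n14614 = n14234 := d12_1 D14614 (iv6 D14234) (iv5 F19501) F24288 (iv5 D14613)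
def n14615 : Q := act 4 n6982
theorem D14615 : act 4 n6982 = n14615 := rfl
def n14616 : Q := act 6 n6982
theorem D14616 : act 6 n6982 = n14616 := rfl
theorem F24298 : act 5 n14616 = n11871 := d12_1 D14616 (iv6 D11871) (iv5 D5570) D5571 (iv5 F18487)
def n14617 : Q := act 0 n6983
theorem D14617 : act 0 n6983 = n14617 := rfl
def n14618 : Q := act 1 n6983
theorem D14618 : act 1 n6983 = n14618 := rfl
def n14619 : Q := act 3 n6983
theorem D14619 : act 3 n6983 = n14619 := rfl
theorem F24299 : act 4 n14619 = n6989 := d5_2 D6983 D14619 (iv3 D6989) (iv4 D3159) (iv3 F4949)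
def n14620 : Q := act 5 n6983
theorem D14620 : act 5 n6983 = n14620 := rfl
def n14621 : Q := act 6 n6983
theorem D14621 : act 6 n6983 = n14621 := rfl
theorem F24300 : act 4 n14621 = n6984 := d10_1 D14621 (iv6 D6984) D6983
def n14622 : Q := act 0 n6984
theorem D14622 : act 0 n6984 = n14622 := rfl
def n14623 : Q := act 1 n6984
theorem D14623 : act 1 n6984 = n14623 := rfl
theorem F24301 : act 6 n14557 = n14623 := d21_3 (iv5 F24187) (iv1 F24188) D14557 (iv1 D14623) (iv6 D6984) (iv5 D3157) F10154 D5229 (iv6 F8193) D11525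
def n14624 : Q := act 5 n6984
theorem D14624 : act 5 n6984 = n14624 := rfl
theorem F24302 : act 3 n14624 = n6994 := d6_1 D14624 (iv5 D6994) (iv3 F11249)
theorem F24303 : act 6 n14624 = n6987 := d12_2 D6984 D14624 (iv5 D6987) (iv6 D3158) D3157
def n14625 : Q := act 7 n6984
theorem D14625 : act 7 n6984 = n14625 := rfl
theorem F24304 : act 3 n14625 = n6995 := d8_1 D14625 (iv7 D6995) (iv3 F11249)
def n14626 : Q := act 6 n6985
theorem D14626 : act 6 n6985 = n14626 := rfl
theorem F24305 : act 2 n14626 = n12279 := d3_1 D14626 (iv6 F24258) (iv2 F24260)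
theorem F24306 : act 3 n14626 = n11341 := d7_1 D14626 F18531 (iv3 F18530)
theorem F24307 : act 4 n14626 = n11586 := d10_1 D14626 F19331 (iv4 F11493)
theorem F24308 : act 7 n14626 = n12278 := d14_2 F11918 D14626 (iv6 F20350) F11010 D6772
theorem F24309 : act 0 n14626 = n11317 := d21_4 D2312 D5572 (iv5 F19279) D14626 (iv6 D11317) D11316 (iv1 F18486) F18487 (iv6 D5571) (iv1 D2311)
theorem F24310 : act 0 n12280 = n14626 := d21_4 D5570 (iv1 F19289) (iv5 F19292) (iv6 F20354) (iv6 D14626) F19279 (iv1 F19278) F19275 F8485 (iv1 F8487)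
theorem F24311 : act 3 n11578 = n13758 := d20_3 F24307 (iv1 D11586) (iv4 F18888) (iv1 D13758) F10611 (iv4 F5105) F7994 (iv4 F8969) (iv3 F20352) F24310
theorem F24312 : act 6 n13758 = n11147 := d7_2 D11578 F24311 F18093
theorem F24313 : act 2 n11155 = n13758 := d3_3 F24312 F18949 D11155
theorem F24314 : act 5 n13758 = n11420 := d21_6 (iv5 F3544) (iv1 F3550) F3548 D5095 D11147 (iv6 F24312) (iv1 D11420) (iv5 D5306) (iv6 D2169) D2166
def n14627 : Q := act 4 n6987
theorem D14627 : act 4 n6987 = n14627 := rfl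
def n14628 : Q := act 0 n6989
theorem D14628 : act 0 n6989 = n14628 := rfl
def n14629 : Q := act 1 n6989
theorem D14629 : act 1 n6989 = n14629 := rfl
def n14630 : Q := act 2 n6989
theorem D14630 : act 2 n6989 = n14630 := rfl
def n14631 : Q := act 5 n6989
theorem D14631 : act 5 n6989 = n14631 := rfl
theorem F24315 : act 3 n14631 = n6990 := d6_1 D14631 (iv5 D6990) D6989
def n14632 : Q := act 6 n6989
theorem D14632 : act 6 n6989 = n14632 := rfl
theorem F24316 : act 3 n14632 = n6991 := d7_1 D14632 (iv6 D6991) D6989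
def n14633 : Q := act 6 n6990
theorem D14633 : act 6 n6990 = n14633 := rfl
theorem F24317 : act 4 n14633 = n7210 := d10_1 D14633 (iv6 D7210) (iv4 F11252)
def n14634 : Q := act 0 n6991
theorem D14634 : act 0 n6991 = n14634 := rfl
def n14635 : Q := act 1 n6991
theorem D14635 : act 1 n6991 = n14635 := rfl
def n14636 : Q := act 5 n6991
theorem D14636 : act 5 n6991 = n14636 := rfl
def n14637 : Q := act 7 n6991
theorem D14637 : act 7 n6991 = n14637 := rfl
theorem F24318 : act 4 n14637 = n6995 := d11_1 D14637 (iv7 D6995) (iv4 F11255)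
def n14638 : Q := act 3 n6992
theorem D14638 : act 3 n6992 = n14638 := rfl
def n14639 : Q := act 4 n6992
theorem D14639 : act 4 n6992 = n14639 := rfl
def n14640 : Q := act 6 n6992
theorem D14640 : act 6 n6992 = n14640 := rfl
theorem F24319 : act 5 n14640 = n14077 := d12_1 D14640 F23509 F23092 F19704 (iv5 F20409)
theorem F24320 : act 7 n14640 = n14076 := d14_2 (iv7 F20410) D14640 F23507 (iv7 F11197) (iv6 F19016)
def n14641 : Q := act 3 n6993
theorem D14641 : act 3 n6993 = n14641 := rfl
theorem F24321 : act 5 n14641 = n11932 := d6_2 (iv5 F11257) D14641 F19681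
theorem F24322 : act 6 n14641 = n14392 := d7_2 F11256 D14641 F24031
def n14642 : Q := act 4 n6993
theorem D14642 : act 4 n6993 = n14642 := rfl
theorem F24323 : act 6 n14642 = n14593 := d10_2 F11256 D14642 (iv4 D14593)
def n14643 : Q := act 0 n6994
theorem D14643 : act 0 n6994 = n14643 := rfl
def n14644 : Q := act 1 n6994
theorem D14644 : act 1 n6994 = n14644 := rfl
def n14645 : Q := act 4 n6994
theorem D14645 : act 4 n6994 = n14645 := rfl
theorem F24324 : act 6 n14645 = n6996 := d10_2 (iv6 F11258) D14645 (iv4 D6996)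
def n14646 : Q := act 7 n6994
theorem D14646 : act 7 n6994 = n14646 := rfl
theorem F24325 : act 5 n14646 = n6995 := d13_1 D14646 (iv7 D6995) D6994
theorem F24326 : act 6 n14646 = n11667 := d14_1 D14646 F19672 (iv6 D11908) F8510 (iv6 F11258)
def n14647 : Q := act 3 n6996
theorem D14647 : act 3 n6996 = n14647 := rfl
def n14648 : Q := act 4 n6999
theorem D14648 : act 4 n6999 = n14648 := rfl
theorem F24327 : act 2 n14648 = n7000 := d1_1 D14648 (iv4 D7000) D6999
def n14649 : Q := act 5 n6999
theorem D14649 : act 5 n6999 = n14649 := rfl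
theorem F24328 : act 2 n14649 = n7001 := d2_1 D14649 (iv5 D7001) D6999
theorem F24329 : act 7 n14649 = n11519 := d13_2 F20431 D14649 (iv5 F20430)
theorem F24330 : act 4 n14649 = n14600 := d17_4 F19356 D6724 (iv1 F19552) D14649 F24259 (iv0 D11853) (iv5 D5561) D5560 F9909
theorem F24331 : act 0 n11558 = n14649 := d21_10 (iv5 D14649) (iv1 F20388) (iv5 D12290) F19362 (iv1 D5832) D5836 (iv5 F19596) (iv1 F19601) (iv5 D11557) D11558
theorem F24332 : act 1 n11604 = n14649 := d17_8 (iv1 F24262) F19292 (iv1 D11858) (iv5 D5565) (iv4 F9978) D3135 D6951 (iv5 F19443) F24330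
def n14650 : Q := act 6 n6999
theorem D14650 : act 6 n6999 = n14650 := rfl
theorem F24333 : act 2 n14650 = n7002 := d3_1 D14650 (iv6 D7002) D6999
def n14651 : Q := act 0 n7000
theorem D14651 : act 0 n7000 = n14651 := rfl
def n14652 : Q := act 3 n7000
theorem D14652 : act 3 n7000 = n14652 := rfl
theorem F24334 : act 4 n14652 = n7004 := d5_2 D7000 D14652 (iv3 D7004) (iv4 D3165) D3164
def n14653 : Q := act 5 n7000
theorem D14653 : act 5 n7000 = n14653 := rfl
def n14654 : Q := act 6 n7000
theorem D14654 : act 6 n7000 = n14654 := rfl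
theorem F24335 : act 4 n14654 = n7002 := d10_1 D14654 (iv6 D7002) D7000
def n14655 : Q := act 0 n7001
theorem D14655 : act 0 n7001 = n14655 := rfl
theorem F24336 : act 6 n14655 = n11588 := d21_5 D6744 (iv1 F23647) F23082 F19331 D14655 F23660 (iv1 F23661) F23654 F10986 (iv1 F10988)
theorem F24337 : act 5 n14655 = n12291 := d21_0 (iv1 F20390) (iv5 D6948) D6949 (iv1 F24184) (iv6 D6745) D6744 (iv1 F23647) F23082 F19331 D14655
theorem F24338 : act 2 n11604 = n14655 := d15_3 (iv0 D14655) F20387 D11604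
theorem F24339 : act 1 n11519 = n14655 := d15_0 (iv0 D14655) F11917 F19557
theorem F24340 : act 7 n14655 = n11558 := d15_2 (iv0 F24202) F24339 F18923
def n14656 : Q := act 0 n7002
theorem D14656 : act 0 n7002 = n14656 := rfl
def n14657 : Q := act 1 n7002
theorem D14657 : act 1 n7002 = n14657 := rfl
def n14658 : Q := act 5 n7002
theorem D14658 : act 5 n7002 = n14658 := rfl
theorem F24341 : act 3 n14658 = n7009 := d6_1 D14658 (iv5 D7009) (iv3 F11262)
theorem F24342 : act 6 n14658 = n13819 := d12_2 D7002 D14658 F23082 F19331 (iv5 D7001)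
def n14659 : Q := act 7 n7002
theorem D14659 : act 7 n7002 = n14659 := rfl
theorem F24343 : act 3 n14659 = n7010 := d8_1 D14659 (iv7 D7010) (iv3 F11262)
def n14660 : Q := act 3 n7003
theorem D14660 : act 3 n7003 = n14660 := rfl
theorem F24344 : act 5 n14660 = n13573 := d6_2 (iv5 F11263) D14660 (iv3 D13573)
theorem F24345 : act 7 n14660 = n11167 := d8_2 (iv7 F11267) D14660 (iv3 D11167)
def n14661 : Q := act 6 n7003
theorem D14661 : act 6 n7003 = n14661 := rfl
theorem F24346 : act 2 n14661 = n13524 := d3_1 D14661 (iv6 D13524) F11265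
theorem F24347 : act 4 n14661 = n11169 := d10_1 D14661 (iv6 D11169) (iv4 F11264)
def n14662 : Q := act 0 n7004
theorem D14662 : act 0 n7004 = n14662 := rfl
def n14663 : Q := act 1 n7004
theorem D14663 : act 1 n7004 = n14663 := rfl
def n14664 : Q := act 2 n7004
theorem D14664 : act 2 n7004 = n14664 := rfl
def n14665 : Q := act 5 n7004
theorem D14665 : act 5 n7004 = n14665 := rfl
theorem F24348 : act 3 n14665 = n7005 := d6_1 D14665 (iv5 D7005) D7004
def n14666 : Q := act 6 n7004
theorem D14666 : act 6 n7004 = n14666 := rfl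
theorem F24349 : act 3 n14666 = n7006 := d7_1 D14666 (iv6 D7006) D7004
def n14667 : Q := act 0 n7005
theorem D14667 : act 0 n7005 = n14667 := rfl
theorem F24350 : act 5 n14667 = n7061 := d17_1 D14667 F11312 D12284 F20365 F9164 (iv0 F9060) (iv5 F11507) F11505 (iv4 F11268)
theorem F24351 : act 4 n14667 = n7077 := d18_1 D14667 F11329 (iv4 F20456) (iv5 D12322) F9004 F7605 (iv4 F11264) (iv0 D7003) D7005
theorem F24352 : act 1 n7015 = n14667 := d15_0 (iv0 D14667) (iv7 F20439) F20437
theorem F24353 : act 2 n14574 = n14667 := d1_3 F24351 F11457 (iv4 F24235)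
theorem F24354 : act 7 n14571 = n14667 := d11_0 F24351 F11453 (iv4 F24231)
def n14668 : Q := act 1 n7005
theorem D14668 : act 1 n7005 = n14668 := rfl
theorem F24355 : act 1 n14668 = n7015 := d15_1 D14668 (iv7 F20416) F20415
theorem F24356 : act 7 n14668 = n14574 := d15_2 (iv0 D14667) D14668 F24353
theorem F24357 : act 5 n14668 = n7058 := d17_7 (iv1 F8233) (iv5 D5419) (iv1 F4997) (iv5 D3166) D3165 D7005 D14668 F11308 (iv4 D5826)
theorem F24358 : act 4 n14668 = n7079 := d17_9 F11331 (iv5 D5898) F4926 D2876 D6459 (iv5 F11263) (iv0 D7003) D7005 D14668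
theorem F24359 : act 2 n14571 = n14668 := d1_3 F24358 F11452 (iv4 F24231)
def n14669 : Q := act 6 n7005
theorem D14669 : act 6 n7005 = n14669 := rfl
theorem F24360 : act 4 n14669 = n7185 := d10_1 D14669 (iv6 D7185) (iv4 F11268)
def n14670 : Q := act 0 n7006
theorem D14670 : act 0 n7006 = n14670 := rfl
def n14671 : Q := act 1 n7006
theorem D14671 : act 1 n7006 = n14671 := rfl
def n14672 : Q := act 5 n7006
theorem D14672 : act 5 n7006 = n14672 := rfl
def n14673 : Q := act 7 n7006
theorem D14673 : act 7 n7006 = n14673 := rfl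
theorem F24361 : act 4 n14673 = n7010 := d11_1 D14673 (iv7 D7010) (iv4 F11269)
def n14674 : Q := act 2 n7007
theorem D14674 : act 2 n7007 = n14674 := rfl
theorem F24362 : act 7 n7008 = n14674 := d15_2 (iv0 D7007) D7008 (iv2 D14674)
def n14675 : Q := act 3 n7007
theorem D14675 : act 3 n7007 = n14675 := rfl
def n14676 : Q := act 4 n7007
theorem D14676 : act 4 n7007 = n14676 := rfl
def n14677 : Q := act 5 n7007
theorem D14677 : act 5 n7007 = n14677 := rfl
def n14678 : Q := act 6 n7007
theorem D14678 : act 6 n7007 = n14678 := rfl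
def n14679 : Q := act 7 n7007
theorem D14679 : act 7 n7007 = n14679 := rfl
theorem F24363 : act 2 n14679 = n7008 := d4_1 D14679 F24362 (iv2 D14674)
def n14680 : Q := act 3 n7008
theorem D14680 : act 3 n7008 = n14680 := rfl
def n14681 : Q := act 4 n7008
theorem D14681 : act 4 n7008 = n14681 := rfl
def n14682 : Q := act 5 n7008
theorem D14682 : act 5 n7008 = n14682 := rfl
theorem F24364 : act 6 n14682 = n14261 := d21_3 F23515 (iv1 F20427) D14682 (iv1 F23800) (iv6 D6788) F4799 (iv1 F4887) D2944 D6587 D13849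
def n14683 : Q := act 6 n7008
theorem D14683 : act 6 n7008 = n14683 := rfl
def n14684 : Q := act 4 n7009
theorem D14684 : act 4 n7009 = n14684 := rfl
theorem F24365 : act 6 n14684 = n13820 := d10_2 (iv6 F11270) D14684 (iv4 D13820)
def n14685 : Q := act 4 n7011
theorem D14685 : act 4 n7011 = n14685 := rfl
theorem F24366 : act 2 n14685 = n7012 := d1_1 D14685 (iv4 D7012) D7011
def n14686 : Q := act 6 n7011
theorem D14686 : act 6 n7011 = n14686 := rfl
theorem F24367 : act 2 n14686 = n7013 := d3_1 D14686 (iv6 D7013) D7011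
def n14687 : Q := act 0 n7012
theorem D14687 : act 0 n7012 = n14687 := rfl
def n14688 : Q := act 1 n7012
theorem D14688 : act 1 n7012 = n14688 := rfl
def n14689 : Q := act 3 n7012
theorem D14689 : act 3 n7012 = n14689 := rfl
theorem F24368 : act 4 n14689 = n7014 := d5_2 D7012 D14689 (iv3 D7014) (iv4 D3170) D3169
def n14690 : Q := act 5 n7012
theorem D14690 : act 5 n7012 = n14690 := rfl
def n14691 : Q := act 6 n7012
theorem D14691 : act 6 n7012 = n14691 := rfl
theorem F24369 : act 4 n14691 = n7013 := d10_1 D14691 (iv6 D7013) D7012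
def n14692 : Q := act 0 n7013
theorem D14692 : act 0 n7013 = n14692 := rfl
def n14693 : Q := act 1 n7013
theorem D14693 : act 1 n7013 = n14693 := rfl
def n14694 : Q := act 7 n7013
theorem D14694 : act 7 n7013 = n14694 := rfl
theorem F24370 : act 3 n14694 = n7019 := d8_1 D14694 (iv7 D7019) (iv3 F11272)
def n14695 : Q := act 0 n7014
theorem D14695 : act 0 n7014 = n14695 := rfl
def n14696 : Q := act 1 n7014
theorem D14696 : act 1 n7014 = n14696 := rfl
def n14697 : Q := act 2 n7014
theorem D14697 : act 2 n7014 = n14697 := rfl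
def n14698 : Q := act 5 n7014
theorem D14698 : act 5 n7014 = n14698 := rfl
theorem F24371 : act 3 n14698 = n7015 := d6_1 D14698 (iv5 D7015) D7014
def n14699 : Q := act 6 n7014
theorem D14699 : act 6 n7014 = n14699 := rfl
theorem F24372 : act 3 n14699 = n7016 := d7_1 D14699 (iv6 D7016) D7014
def n14700 : Q := act 6 n7015
theorem D14700 : act 6 n7015 = n14700 := rfl
theorem F24373 : act 4 n14700 = n7174 := d10_1 D14700 (iv6 D7174) (iv4 F11273)
def n14701 : Q := act 0 n7016
theorem D14701 : act 0 n7016 = n14701 := rfl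
def n14702 : Q := act 1 n7016
theorem D14702 : act 1 n7016 = n14702 := rfl
def n14703 : Q := act 5 n7016
theorem D14703 : act 5 n7016 = n14703 := rfl
def n14704 : Q := act 7 n7016
theorem D14704 : act 7 n7016 = n14704 := rfl
theorem F24374 : act 4 n14704 = n7019 := d11_1 D14704 (iv7 D7019) (iv4 F11274)
def n14705 : Q := act 2 n7017
theorem D14705 : act 2 n7017 = n14705 := rfl
theorem F24375 : act 7 n7018 = n14705 := d15_2 (iv0 D7017) D7018 (iv2 D14705)
def n14706 : Q := act 3 n7017
theorem D14706 : act 3 n7017 = n14706 := rfl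
def n14707 : Q := act 4 n7017
theorem D14707 : act 4 n7017 = n14707 := rfl
def n14708 : Q := act 5 n7017
theorem D14708 : act 5 n7017 = n14708 := rfl
def n14709 : Q := act 6 n7017
theorem D14709 : act 6 n7017 = n14709 := rfl
def n14710 : Q := act 7 n7017
theorem D14710 : act 7 n7017 = n14710 := rfl
theorem F24376 : act 2 n14710 = n7018 := d4_1 D14710 F24375 (iv2 D14705)
def n14711 : Q := act 3 n7018
theorem D14711 : act 3 n7018 = n14711 := rfl
def n14712 : Q := act 4 n7018
theorem D14712 : act 4 n7018 = n14712 := rfl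
def n14713 : Q := act 0 n7020
theorem D14713 : act 0 n7020 = n14713 := rfl
def n14714 : Q := act 1 n7020
theorem D14714 : act 1 n7020 = n14714 := rfl
def n14715 : Q := act 2 n7020
theorem D14715 : act 2 n7020 = n14715 := rfl
def n14716 : Q := act 4 n7020
theorem D14716 : act 4 n7020 = n14716 := rfl
def n14717 : Q := act 5 n7020
theorem D14717 : act 5 n7020 = n14717 := rfl
theorem F24377 : act 3 n14717 = n7021 := d6_1 D14717 (iv5 D7021) D7020
def n14718 : Q := act 6 n7020
theorem D14718 : act 6 n7020 = n14718 := rfl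
theorem F24378 : act 3 n14718 = n7022 := d7_1 D14718 (iv6 D7022) D7020
def n14719 : Q := act 0 n7021
theorem D14719 : act 0 n7021 = n14719 := rfl
theorem F24379 : act 5 n14719 = n12281 := d17_1 D14719 F20357 (iv5 F20465) F20466 (iv5 D5887) (iv0 F8725) (iv5 F11456) F11454 (iv4 F11275)
theorem F24380 : act 4 n14719 = n7173 := d18_1 D14719 (iv1 D7173) (iv4 F11273) (iv5 D7015) (iv4 D3170) F3835 (iv4 F9010) F9013 D7021
theorem F24381 : act 1 n7024 = n14719 := d15_0 (iv0 D14719) (iv7 F20457) F20455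
theorem F24382 : act 2 n14568 = n14719 := d1_3 F24380 (iv2 F11508) (iv4 F24227)
theorem F24383 : act 7 n14562 = n14719 := d11_0 F24380 F11506 (iv4 F24222)
def n14720 : Q := act 1 n7021
theorem D14720 : act 1 n7021 = n14720 := rfl
theorem F24384 : act 1 n14720 = n7024 := d15_1 D14720 (iv7 F20450) F20449
theorem F24385 : act 7 n14720 = n14568 := d15_2 (iv0 D14719) D14720 F24382
theorem F24386 : act 5 n14720 = n11670 := d17_7 (iv1 F8713) (iv5 D5666) (iv1 F7595) (iv5 F7587) F8236 D7021 D14720 F19010 (iv4 D5865)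
theorem F24387 : act 4 n14720 = n7172 := d17_9 (iv1 F11502) (iv5 D3312) (iv1 D1465) D1467 D3321 (iv5 F9011) F9013 D7021 D14720
theorem F24388 : act 2 n14562 = n14720 := d1_3 F24387 (iv2 F11503) (iv4 F24222)
def n14721 : Q := act 6 n7021
theorem D14721 : act 6 n7021 = n14721 := rfl
theorem F24389 : act 4 n14721 = n7158 := d10_1 D14721 (iv6 D7158) (iv4 F11275)
def n14722 : Q := act 0 n7022
theorem D14722 : act 0 n7022 = n14722 := rfl
def n14723 : Q := act 1 n7022
theorem D14723 : act 1 n7022 = n14723 := rfl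
def n14724 : Q := act 5 n7022
theorem D14724 : act 5 n7022 = n14724 := rfl
def n14725 : Q := act 7 n7022
theorem D14725 : act 7 n7022 = n14725 := rfl
def n14726 : Q := act 0 n7023
theorem D14726 : act 0 n7023 = n14726 := rfl
def n14727 : Q := act 1 n7023
theorem D14727 : act 1 n7023 = n14727 := rfl
def n14728 : Q := act 2 n7023
theorem D14728 : act 2 n7023 = n14728 := rfl
def n14729 : Q := act 4 n7023
theorem D14729 : act 4 n7023 = n14729 := rfl
theorem F24390 : act 3 n14729 = n11824 := d5_1 D14729 (iv4 D11824) F11489 (iv4 F7601) D7023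
def n14730 : Q := act 5 n7023
theorem D14730 : act 5 n7023 = n14730 := rfl
theorem F24391 : act 3 n14730 = n7024 := d6_1 D14730 (iv5 D7024) D7023
def n14731 : Q := act 6 n7023
theorem D14731 : act 6 n7023 = n14731 := rfl
theorem F24392 : act 3 n14731 = n7025 := d7_1 D14731 (iv6 D7025) D7023
def n14732 : Q := act 6 n7024
theorem D14732 : act 6 n7024 = n14732 := rfl
theorem F24393 : act 4 n14732 = n7137 := d10_1 D14732 (iv6 D7137) (iv4 F11276)
def n14733 : Q := act 0 n7025
theorem D14733 : act 0 n7025 = n14733 := rfl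
def n14734 : Q := act 1 n7025
theorem D14734 : act 1 n7025 = n14734 := rfl
def n14735 : Q := act 5 n7025
theorem D14735 : act 5 n7025 = n14735 := rfl
def n14736 : Q := act 7 n7025
theorem D14736 : act 7 n7025 = n14736 := rfl
def n14737 : Q := act 0 n7026
theorem D14737 : act 0 n7026 = n14737 := rfl
theorem F24394 : act 2 n7030 = n14737 := d15_3 (iv0 D14737) (iv0 D7026) D7030
theorem F24395 : act 7 n14737 = n7028 := d4_2 D7030 F24394 (iv2 D7028)
theorem F24396 : act 1 n7027 = n14737 := d15_1 D7027 F24395 (iv2 D7028)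
def n14738 : Q := act 2 n7026
theorem D14738 : act 2 n7026 = n14738 := rfl
theorem F24397 : act 7 n7027 = n14738 := d15_2 (iv0 D7026) D7027 (iv2 D14738)
def n14739 : Q := act 3 n7026
theorem D14739 : act 3 n7026 = n14739 := rfl
def n14740 : Q := act 4 n7026
theorem D14740 : act 4 n7026 = n14740 := rfl
def n14741 : Q := act 5 n7026
theorem D14741 : act 5 n7026 = n14741 := rfl
def n14742 : Q := act 6 n7026
theorem D14742 : act 6 n7026 = n14742 := rfl
def n14743 : Q := act 7 n7026
theorem D14743 : act 7 n7026 = n14743 := rfl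
theorem F24398 : act 2 n14743 = n7027 := d4_1 D14743 F24397 (iv2 D14738)
def n14744 : Q := act 3 n7027
theorem D14744 : act 3 n7027 = n14744 := rfl
def n14745 : Q := act 4 n7027
theorem D14745 : act 4 n7027 = n14745 := rfl
def n14746 : Q := act 5 n7027
theorem D14746 : act 5 n7027 = n14746 := rfl
def n14747 : Q := act 6 n7027
theorem D14747 : act 6 n7027 = n14747 := rfl
def n14748 : Q := act 0 n7028
theorem D14748 : act 0 n7028 = n14748 := rfl
theorem F24399 : act 1 n7030 = n14748 := d15_0 (iv0 D14748) (iv7 F24395) (iv2 F24394)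
def n14749 : Q := act 1 n7028
theorem D14749 : act 1 n7028 = n14749 := rfl
theorem F24400 : act 1 n14749 = n7030 := d15_1 D14749 (iv7 D7030) D7028
def n14750 : Q := act 5 n7028
theorem D14750 : act 5 n7028 = n14750 := rfl
theorem F24401 : act 2 n14750 = n7029 := d2_1 D14750 (iv5 D7029) D7028
def n14751 : Q := act 0 n7029
theorem D14751 : act 0 n7029 = n14751 := rfl
def n14752 : Q := act 1 n7029
theorem D14752 : act 1 n7029 = n14752 := rfl
def n14753 : Q := act 4 n7029
theorem D14753 : act 4 n7029 = n14753 := rfl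
def n14754 : Q := act 6 n7029
theorem D14754 : act 6 n7029 = n14754 := rfl
theorem F24402 : act 3 n14754 = n7033 := d7_1 D14754 (iv6 D7033) (iv3 F11277)
def n14755 : Q := act 6 n7030
theorem D14755 : act 6 n7030 = n14755 := rfl
theorem F24403 : act 3 n14755 = n7034 := d7_1 D14755 (iv6 D7034) (iv3 F11278)
def n14756 : Q := act 3 n7031
theorem D14756 : act 3 n7031 = n14756 := rfl
theorem F24404 : act 5 n14756 = n7063 := d6_2 (iv5 F11279) D14756 (iv3 D7063)
def n14757 : Q := act 6 n7031
theorem D14757 : act 6 n7031 = n14757 := rfl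
theorem F24405 : act 4 n14757 = n7128 := d10_1 D14757 (iv6 D7128) (iv4 F11280)
def n14758 : Q := act 3 n7032
theorem D14758 : act 3 n7032 = n14758 := rfl
theorem F24406 : act 5 n14758 = n7116 := d6_2 (iv5 F11283) D14758 (iv3 D7116)
def n14759 : Q := act 6 n7032
theorem D14759 : act 6 n7032 = n14759 := rfl
theorem F24407 : act 4 n14759 = n7085 := d10_1 D14759 (iv6 D7085) (iv4 F11284)
def n14760 : Q := act 0 n7033
theorem D14760 : act 0 n7033 = n14760 := rfl
def n14761 : Q := act 1 n7033
theorem D14761 : act 1 n7033 = n14761 := rfl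
def n14762 : Q := act 7 n7033
theorem D14762 : act 7 n7033 = n14762 := rfl
def n14763 : Q := act 0 n7034
theorem D14763 : act 0 n7034 = n14763 := rfl
def n14764 : Q := act 1 n7034
theorem D14764 : act 1 n7034 = n14764 := rfl
def n14765 : Q := act 5 n7034
theorem D14765 : act 5 n7034 = n14765 := rfl
def n14766 : Q := act 2 n7035
theorem D14766 : act 2 n7035 = n14766 := rfl
theorem F24408 : act 7 n7036 = n14766 := d15_2 (iv0 D7035) D7036 (iv2 D14766)
def n14767 : Q := act 3 n7035
theorem D14767 : act 3 n7035 = n14767 := rfl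
def n14768 : Q := act 4 n7035
theorem D14768 : act 4 n7035 = n14768 := rfl
def n14769 : Q := act 5 n7035
theorem D14769 : act 5 n7035 = n14769 := rfl
theorem F24409 : act 0 n14592 = n14769 := d21_10 (iv5 D14769) (iv1 F11964) F11961 (iv6 D7693) (iv1 F5478) D6932 F11205 D6968 F11234 D14592
def n14770 : Q := act 6 n7035
theorem D14770 : act 6 n7035 = n14770 := rfl
theorem F24410 : act 5 n14770 = n14189 := d21_6 (iv5 D2435) (iv1 F2110) (iv5 F2539) D3177 D7035 D14770 (iv1 D14189) (iv5 F20360) (iv6 D12282) (iv1 D5825)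
def n14771 : Q := act 7 n7035
theorem D14771 : act 7 n7035 = n14771 := rfl
theorem F24411 : act 2 n14771 = n7036 := d4_1 D14771 F24408 (iv2 D14766)
def n14772 : Q := act 3 n7036
theorem D14772 : act 3 n7036 = n14772 := rfl
def n14773 : Q := act 4 n7036
theorem D14773 : act 4 n7036 = n14773 := rfl
def n14774 : Q := act 5 n7036
theorem D14774 : act 5 n7036 = n14774 := rfl
theorem F24412 : act 6 n14564 = n14774 := d21_5 (iv5 F5456) (iv1 F7600) F4881 D6959 D14564 (iv5 D14774) (iv1 D7036) F5001 (iv6 D3177) (iv1 F3830)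
def n14775 : Q := act 6 n7036
theorem D14775 : act 6 n7036 = n14775 := rfl
theorem F24413 : act 5 n14775 = n11679 := d21_6 (iv5 D3114) (iv1 F2683) (iv5 F5477) D7693 (iv1 F11963) D14775 (iv1 D11679) D11680 F19016 (iv1 D6918)
def n14776 : Q := act 5 n7038
theorem D14776 : act 5 n7038 = n14776 := rfl
theorem F24414 : act 3 n14776 = n7040 := d6_1 D14776 (iv5 D7040) D7038
theorem F24415 : act 7 n14776 = n13688 := d13_2 F19371 D14776 (iv5 D13688)
theorem F24416 : act 4 n14776 = n14688 := d20_6 D1409 D3172 (iv4 F8236) D11164 F22225 (iv3 F24414) (iv1 D14688) (iv4 D7012) (iv3 D3169) (iv1 D1408)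
def n14777 : Q := act 5 n7039
theorem D14777 : act 5 n7039 = n14777 := rfl
theorem F24417 : act 2 n14777 = n14394 := d2_1 D14777 (iv5 D14394) (iv2 F19413)
theorem F24418 : act 7 n14777 = n12041 := d13_2 F19372 D14777 (iv5 D12041)
def n14778 : Q := act 4 n7040
theorem D14778 : act 4 n7040 = n14778 := rfl
theorem F24419 : act 7 n14778 = n13689 := d11_2 F19373 D14778 (iv4 D13689)
theorem F24420 : act 0 n14778 = n14447 := d20_1 D14778 (iv4 D14447) (iv3 D6906) (iv1 D3108) F2531 D1409 D3172 (iv4 F8236) D11164 F22225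
def n14779 : Q := act 6 n7040
theorem D14779 : act 6 n7040 = n14779 := rfl
theorem F24421 : act 5 n14779 = n14779 := d12_1 D14779 (iv6 D14779) (iv5 D7040) F19366 D7040
def n14780 : Q := act 4 n7047
theorem D14780 : act 4 n7047 = n14780 := rfl
theorem F24422 : act 2 n14780 = n7051 := d1_1 D14780 (iv4 D7051) (iv2 F11295)
def n14781 : Q := act 6 n7047
theorem D14781 : act 6 n7047 = n14781 := rfl
theorem F24423 : act 2 n14781 = n7052 := d3_1 D14781 (iv6 D7052) (iv2 F11295)
theorem F24424 : act 3 n14781 = n11818 := d7_1 D14781 (iv6 D11818) (iv3 F11296)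
def n14782 : Q := act 0 n7048
theorem D14782 : act 0 n7048 = n14782 := rfl
def n14783 : Q := act 1 n7048
theorem D14783 : act 1 n7048 = n14783 := rfl
theorem F24425 : act 1 n14783 = n7056 := d15_1 D14783 (iv7 D7056) (iv2 F11297)
theorem F24426 : act 6 n12362 = n14783 := d21_3 D2652 D6335 (iv5 F22196) (iv1 D14783) (iv6 D7048) D7047 (iv1 F20542) F20543 (iv6 D6334) (iv1 D2651)
theorem F24427 : act 7 n14783 = n13696 := d14_2 (iv7 F22939) F24426 (iv6 D13696) (iv7 F22882) D6526
theorem F24428 : act 2 n13720 = n14783 := d4_3 F24427 F22944 D13720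
theorem E3031 : n13718 = n7048 := (c15_1 D13718 D14783 F24427 F22944)
theorem E3032 : n14782 = n6531 := ((D14782).symm.trans (sb E3031 (iv1 D13718)))
theorem F24429 : act 1 n6531 = n7048 := (sb E3032 (iv0 D14782))
def n14784 : Q := act 7 n7048
theorem D14784 : act 7 n7048 = n14784 := rfl
theorem F24430 : act 2 n14784 = n7056 := d4_1 D14784 (iv7 D7056) (iv2 F11297)
theorem F24431 : act 3 n14784 = n11820 := d8_1 D14784 (iv7 D11820) (iv3 F11298)
theorem F24432 : act 4 n14784 = n14784 := d11_1 D14784 (iv7 D14784) F11299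
theorem F24433 : act 5 n14784 = n11813 := d13_1 D14784 F22150 (iv5 F22147)
theorem F24434 : act 1 n7054 = n14784 := d15_1 D7054 (iv7 D14784) F11297
theorem F24435 : act 0 n13696 = n14784 := d21_10 F24433 (iv1 F22158) F22156 F9846 (iv1 F19502) D11487 (iv5 F23276) (iv1 F23279) (iv5 D13695) D13696
theorem E3033 : n13696 = n7053 := (c15_1 (iv0 F24435) (iv0 D7053) D7056 (iv2 F24430))
theorem F24436 : act 0 n7053 = n14784 := (sb E3033 F24435)
theorem F24437 : act 2 n7053 = n6531 := (sb E3033 F22944)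
theorem F24438 : act 6 n7053 = n6519 := (sb E3033 (iv6 D13696))
theorem F24439 : act 7 n7053 = n14783 := (sb E3033 (iv7 F24427))
theorem E3034 : n13720 = n7054 := (c15_4 F24434 (iv0 F24436) F24439 (iv2 F24428))
theorem F24440 : act 2 n7054 = n14783 := (sb E3034 F24428)
theorem F24441 : act 7 n7054 = n6531 := (sb E3034 (iv7 D13720))
def n14785 : Q := act 3 n7049
theorem D14785 : act 3 n7049 = n14785 := rfl
theorem F24442 : act 4 n14785 = n14618 := d20_6 D6961 F11223 (iv4 D3219) (iv3 F5016) D7049 D14785 (iv1 D14618) (iv4 D6983) F4949 (iv1 F4896)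
def n14786 : Q := act 4 n7049
theorem D14786 : act 4 n7049 = n14786 := rfl
theorem F24443 : act 0 n14786 = n14399 := d18_2 D7049 D14786 (iv4 D14399) (iv5 D6890) F11156 (iv0 F11288) (iv4 D7039) (iv0 D3212) D3215
def n14787 : Q := act 6 n7049
theorem D14787 : act 6 n7049 = n14787 := rfl
def n14788 : Q := act 3 n7050
theorem D14788 : act 3 n7050 = n14788 := rfl
def n14789 : Q := act 4 n7050
theorem D14789 : act 4 n7050 = n14789 := rfl
def n14790 : Q := act 6 n7050
theorem D14790 : act 6 n7050 = n14790 := rfl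
def n14791 : Q := act 0 n7051
theorem D14791 : act 0 n7051 = n14791 := rfl
def n14792 : Q := act 1 n7051
theorem D14792 : act 1 n7051 = n14792 := rfl
def n14793 : Q := act 3 n7051
theorem D14793 : act 3 n7051 = n14793 := rfl
theorem F24444 : act 4 n14793 = n7063 := d5_2 D7051 D14793 (iv3 D7063) (iv4 D3219) (iv3 F5016)
def n14794 : Q := act 5 n7051
theorem D14794 : act 5 n7051 = n14794 := rfl
def n14795 : Q := act 6 n7051
theorem D14795 : act 6 n7051 = n14795 := rfl
theorem F24445 : act 4 n14795 = n7052 := d10_1 D14795 (iv6 D7052) D7051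
def n14796 : Q := act 0 n7052
theorem D14796 : act 0 n7052 = n14796 := rfl
def n14797 : Q := act 1 n7052
theorem D14797 : act 1 n7052 = n14797 := rfl
def n14798 : Q := act 5 n7052
theorem D14798 : act 5 n7052 = n14798 := rfl
theorem F24446 : act 3 n14798 = n7067 := d6_1 D14798 (iv5 D7067) (iv3 F11300)
theorem F24447 : act 6 n14798 = n7055 := d12_2 D7052 D14798 (iv5 D7055) (iv6 D3216) D3215
def n14799 : Q := act 7 n7052
theorem D14799 : act 7 n7052 = n14799 := rfl
theorem F24448 : act 3 n14799 = n7068 := d8_1 D14799 (iv7 D7068) (iv3 F11300)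
def n14800 : Q := act 3 n7053
theorem D14800 : act 3 n7053 = n14800 := rfl
theorem F24449 : act 6 n14800 = n11512 := d7_2 (iv6 F24438) D14800 (iv3 F22400)
theorem F24450 : act 4 n14219 = n14800 := d10_3 F24449 F22399 D14219
def n14801 : Q := act 4 n7053
theorem D14801 : act 4 n7053 = n14801 := rfl
theorem F24451 : act 2 n14801 = n13715 := d1_1 D14801 F22965 (iv2 F24437)
theorem F24452 : act 6 n14801 = n11308 := d10_2 (iv6 F24438) D14801 F22522
def n14802 : Q := act 5 n7053
theorem D14802 : act 5 n7053 = n14802 := rfl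
theorem F24453 : act 2 n14802 = n13719 := d2_1 D14802 (iv5 D13719) (iv2 F24437)
theorem F24454 : act 0 n7697 = n14802 := d21_1 D7697 (iv5 D14802) F24438 (iv1 D6519) (iv6 D2898) F2438 (iv1 F2021) (iv5 F2318) D2648 F19458
theorem F24455 : act 1 n13320 = n14802 := d15_0 (iv0 F24454) (iv7 F18772) (iv2 F22140)
def n14803 : Q := act 3 n7054
theorem D14803 : act 3 n7054 = n14803 := rfl
theorem F24456 : act 7 n14803 = n13713 := d8_2 (iv7 F24441) D14803 F22962
theorem F24457 : act 4 n14803 = n11725 := d20_6 F18413 (iv1 F18320) (iv4 F19191) (iv3 F24431) (iv1 F24434) D14803 (iv1 D11725) (iv4 F18508) F18507 F18414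
def n14804 : Q := act 4 n7054
theorem D14804 : act 4 n7054 = n14804 := rfl
theorem F24458 : act 7 n14804 = n13715 := d11_2 (iv7 F24441) D14804 F22965
theorem F24459 : act 0 n14804 = n14309 := d20_1 D14804 (iv4 F23999) F23998 F23811 F23809 F18413 (iv1 F18320) (iv4 F19191) (iv3 F24431) (iv1 F24434)
theorem F24460 : act 3 n14538 = n14804 := d20_5 (iv4 F7732) F7990 (iv4 F4945) (iv3 F11218) (iv1 F24180) (iv4 D14804) (iv1 D7054) F5176 F5017 (iv1 F7997)
theorem F24461 : act 1 n14801 = n14309 := d15_0 (iv0 F24459) F24458 (iv2 F24451)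
def n14805 : Q := act 5 n7054
theorem D14805 : act 5 n7054 = n14805 := rfl
theorem F24462 : act 7 n14805 = n13719 := d13_2 (iv7 F24441) D14805 (iv5 D13719)
theorem F24463 : act 1 n7697 = n14805 := d15_1 (iv0 F24454) F24462 (iv2 F24453)
theorem F24464 : act 1 n14805 = n13320 := d15_1 F24463 F22142 F19526
def n14806 : Q := act 6 n7054
theorem D14806 : act 6 n7054 = n14806 := rfl
theorem F24465 : act 2 n14806 = n12362 := d3_1 D14806 F24426 (iv2 F24440)
theorem F24466 : act 7 n14806 = n12363 := d14_2 (iv7 F24441) D14806 F23671 F22884 D6531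
theorem F24467 : act 0 n14806 = n11738 := d21_4 D13320 (iv1 F24464) (iv5 D14805) D14806 F19091 (iv5 F18666) (iv1 F22152) F19184 F8447 (iv1 F9841)
theorem F24468 : act 5 n13332 = n14806 := d21_2 D6323 D13332 (iv6 D14806) (iv1 D7054) (iv6 D3216) D3215 D7049 F22179 (iv6 D13331) (iv1 D6322)
theorem F24469 : act 0 n11379 = n14806 := d21_10 (iv5 F24468) (iv1 F22193) F9866 F4260 (iv1 F9850) D13331 (iv5 F22179) (iv1 F18589) (iv5 D11378) D11379
theorem F24470 : act 0 n7698 = n13331 := d21_10 (iv5 F22179) (iv1 F18589) (iv5 D11378) D11379 F24469 (iv6 D14806) D14805 (iv1 F24463) (iv5 D7697) D7698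
theorem F24471 : act 1 n7698 = n13355 := d15_1 (iv0 F24470) (iv7 D13355) (iv2 F22178)
def n14807 : Q := act 4 n7055
theorem D14807 : act 4 n7055 = n14807 := rfl
def n14808 : Q := act 4 n7057
theorem D14808 : act 4 n7057 = n14808 := rfl
theorem F24472 : act 0 n14363 = n14808 := d20_7 D3269 (iv1 F11224) (iv4 D6961) (iv3 F22558) (iv1 D6878) (iv3 F11127) D14363 (iv4 D14808) (iv3 D7057) (iv1 F5018)
def n14809 : Q := act 6 n7057
theorem D14809 : act 6 n7057 = n14809 := rfl
theorem F24473 : act 3 n14809 = n7059 := d7_1 D14809 (iv6 D7059) D7057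
theorem F24474 : act 5 n14809 = n11756 := d12_1 D14809 (iv6 D11756) (iv5 D5495) D5496 (iv5 F11304)
def n14810 : Q := act 3 n7058
theorem D14810 : act 3 n7058 = n14810 := rfl
theorem F24475 : act 7 n14810 = n14573 := d8_2 (iv7 F11306) D14810 (iv3 D14573)
def n14811 : Q := act 6 n7058
theorem D14811 : act 6 n7058 = n14811 := rfl
theorem F24476 : act 2 n14811 = n14572 := d3_1 D14811 (iv6 D14572) (iv2 F11305)
theorem F24477 : act 4 n14811 = n7059 := d10_1 D14811 (iv6 D7059) D7058
def n14812 : Q := act 0 n7059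
theorem D14812 : act 0 n7059 = n14812 := rfl
def n14813 : Q := act 1 n7059
theorem D14813 : act 1 n7059 = n14813 := rfl
def n14814 : Q := act 7 n7059
theorem D14814 : act 7 n7059 = n14814 := rfl
theorem F24478 : act 5 n14814 = n11763 := d13_1 D14814 (iv7 D11763) (iv5 F11309)
def n14815 : Q := act 0 n7060
theorem D14815 : act 0 n7060 = n14815 := rfl
def n14816 : Q := act 2 n7060
theorem D14816 : act 2 n7060 = n14816 := rfl
def n14817 : Q := act 4 n7060
theorem D14817 : act 4 n7060 = n14817 := rfl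
def n14818 : Q := act 6 n7060
theorem D14818 : act 6 n7060 = n14818 := rfl
theorem F24479 : act 3 n14818 = n7062 := d7_1 D14818 (iv6 D7062) D7060
theorem F24480 : act 5 n14818 = n14001 := d12_1 D14818 (iv6 D14001) (iv5 F19068) (iv6 F19838) F19837
def n14819 : Q := act 3 n7061
theorem D14819 : act 3 n7061 = n14819 := rfl
theorem F24481 : act 7 n14819 = n14570 := d8_2 (iv7 F11311) D14819 (iv3 D14570)
def n14820 : Q := act 6 n7061
theorem D14820 : act 6 n7061 = n14820 := rfl
theorem F24482 : act 2 n14820 = n14575 := d3_1 D14820 (iv6 D14575) (iv2 F11310)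
theorem F24483 : act 4 n14820 = n7062 := d10_1 D14820 (iv6 D7062) D7061
theorem F24484 : act 0 n14820 = n14498 := d21_4 D7005 D14667 F24350 D14820 (iv6 D14498) D14497 F24142 (iv5 D11427) F7927 F5486
def n14821 : Q := act 1 n7062
theorem D14821 : act 1 n7062 = n14821 := rfl
theorem F24485 : act 7 n14821 = n11489 := d15_2 (iv0 F11984) D14821 F18777
def n14822 : Q := act 7 n7062
theorem D14822 : act 7 n7062 = n14822 := rfl
theorem F24486 : act 5 n14822 = n14007 := d13_1 D14822 (iv7 D14007) (iv5 F11314)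
theorem F24487 : act 0 n11489 = n14822 := d21_7 (iv5 F23368) (iv1 D13383) (iv5 F10785) (iv6 D6647) D6644 D13977 F23285 F24486 F23352 (iv1 F23367)
def n14823 : Q := act 0 n7063
theorem D14823 : act 0 n7063 = n14823 := rfl
def n14824 : Q := act 1 n7063
theorem D14824 : act 1 n7063 = n14824 := rfl
def n14825 : Q := act 2 n7063
theorem D14825 : act 2 n7063 = n14825 := rfl
def n14826 : Q := act 6 n7063
theorem D14826 : act 6 n7063 = n14826 := rfl
theorem F24488 : act 3 n14826 = n7064 := d7_1 D14826 (iv6 D7064) D7063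
def n14827 : Q := act 0 n7064
theorem D14827 : act 0 n7064 = n14827 := rfl
def n14828 : Q := act 1 n7064
theorem D14828 : act 1 n7064 = n14828 := rfl
def n14829 : Q := act 5 n7064
theorem D14829 : act 5 n7064 = n14829 := rfl
def n14830 : Q := act 7 n7064
theorem D14830 : act 7 n7064 = n14830 := rfl
theorem F24489 : act 4 n14830 = n7068 := d11_1 D14830 (iv7 D7068) (iv4 F11315)
def n14831 : Q := act 2 n7065
theorem D14831 : act 2 n7065 = n14831 := rfl
theorem F24490 : act 7 n7066 = n14831 := d15_2 (iv0 D7065) D7066 (iv2 D14831)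
def n14832 : Q := act 3 n7065
theorem D14832 : act 3 n7065 = n14832 := rfl
def n14833 : Q := act 4 n7065
theorem D14833 : act 4 n7065 = n14833 := rfl
def n14834 : Q := act 6 n7065
theorem D14834 : act 6 n7065 = n14834 := rfl
theorem F24491 : act 0 n11482 = n14834 := d21_4 (iv5 D2194) D2192 D5345 D11482 (iv6 D14834) F11317 (iv1 D7066) D7067 F11316 F5076
def n14835 : Q := act 7 n7065
theorem D14835 : act 7 n7065 = n14835 := rfl
theorem F24492 : act 2 n14835 = n7066 := d4_1 D14835 F24490 (iv2 D14831)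
theorem F24493 : act 5 n14835 = n14831 := d13_1 D14835 (iv7 F24490) (iv5 F11317)
def n14836 : Q := act 3 n7066
theorem D14836 : act 3 n7066 = n14836 := rfl
theorem F24494 : act 5 n14836 = n14832 := d6_2 F11317 D14836 (iv3 D14832)
def n14837 : Q := act 4 n7066
theorem D14837 : act 4 n7066 = n14837 := rfl
def n14838 : Q := act 6 n7066
theorem D14838 : act 6 n7066 = n14838 := rfl
def n14839 : Q := act 0 n7067
theorem D14839 : act 0 n7067 = n14839 := rfl
def n14840 : Q := act 1 n7067
theorem D14840 : act 1 n7067 = n14840 := rfl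
def n14841 : Q := act 7 n7067
theorem D14841 : act 7 n7067 = n14841 := rfl
theorem F24495 : act 5 n14841 = n7068 := d13_1 D14841 (iv7 D7068) D7067
def n14842 : Q := act 0 n7069
theorem D14842 : act 0 n7069 = n14842 := rfl
theorem F24496 : act 1 n13752 = n14842 := d15_0 (iv0 D14842) F11319 (iv2 F23009)
def n14843 : Q := act 1 n7069
theorem D14843 : act 1 n7069 = n14843 := rfl
theorem F24497 : act 6 n12006 = n14843 := d21_3 D11990 (iv1 F19825) (iv5 F20281) (iv1 D14843) F11318 (iv5 F10406) (iv1 F19821) (iv5 D11712) F19339 (iv1 F8701)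
theorem F24498 : act 2 n14843 = n13757 := d3_1 F24497 F23263 (iv2 F20309)
theorem F24499 : act 7 n14843 = n13758 := d14_2 (iv7 F20277) F24497 F24312 F18950 D11159
theorem F24500 : act 0 n13752 = n14843 := d21_4 F23894 (iv1 F23270) (iv5 D13751) D13752 (iv6 F24497) F20281 (iv1 D11721) (iv5 D5453) D5454 D11724
theorem E3035 : n14842 = n11155 := (c15_2 (iv0 F24500) F24496 F23264 (iv2 F24498))
theorem F24501 : act 0 n11155 = n13752 := (sb E3035 (iv1 F24496))
theorem F24502 : act 1 n11155 = n7069 := (sb E3035 (iv0 D14842))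
def n14844 : Q := act 2 n7069
theorem D14844 : act 2 n7069 = n14844 := rfl
theorem F24503 : act 6 n14844 = n11741 := d3_2 (iv6 F11318) D14844 (iv2 D11741)
theorem F24504 : act 7 n14844 = n13752 := d4_2 (iv7 F11319) D14844 F23009
theorem F24505 : act 1 n14844 = n13757 := d15_0 (iv0 D13757) (iv7 F11319) D14844
theorem F24506 : act 1 n13758 = n14844 := d15_0 F24505 (iv7 F23264) F24313
def n14845 : Q := act 5 n7069
theorem D14845 : act 5 n7069 = n14845 := rfl
theorem F24507 : act 3 n14845 = n7070 := d6_1 D14845 (iv5 D7070) D7069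
theorem F24508 : act 7 n14845 = n13759 := d13_2 (iv7 F11319) D14845 (iv5 D13759)
theorem F24509 : act 1 n14845 = n11417 := d17_6 (iv1 F8922) D12238 (iv1 F23072) (iv5 F23073) (iv4 F18972) D14845 (iv5 D11417) F18657 F18654
def n14846 : Q := act 3 n7071
theorem D14846 : act 3 n7071 = n14846 := rfl
theorem F24510 : act 4 n14846 = n7072 := d5_2 D7071 D14846 (iv3 D7072) (iv4 D3226) D3225
theorem F24511 : act 6 n14846 = n13810 := d7_2 (iv6 F11323) D14846 (iv3 D13810)
def n14847 : Q := act 5 n7071
theorem D14847 : act 5 n7071 = n14847 := rfl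
theorem F24512 : act 0 n14847 = n12121 := d17_2 F18186 D14847 (iv5 D12121) F8851 F10327 (iv0 D5283) D5285 (iv0 F7832) D11204
theorem F24513 : act 1 n14847 = n12124 := d17_6 (iv1 F7559) (iv5 F7901) F8687 (iv5 F10014) D7071 D14847 (iv5 D12124) F18051 F18050
def n14848 : Q := act 0 n7072
theorem D14848 : act 0 n7072 = n14848 := rfl
def n14849 : Q := act 1 n7072
theorem D14849 : act 1 n7072 = n14849 := rfl
def n14850 : Q := act 2 n7072
theorem D14850 : act 2 n7072 = n14850 := rfl
theorem F24514 : act 6 n14850 = n13838 := d3_2 (iv6 F11324) D14850 (iv2 D13838)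
def n14851 : Q := act 5 n7072
theorem D14851 : act 5 n7072 = n14851 := rfl
theorem F24515 : act 3 n14851 = n7073 := d6_1 D14851 (iv5 D7073) D7072
def n14852 : Q := act 6 n7073
theorem D14852 : act 6 n7073 = n14852 := rfl
theorem F24516 : act 5 n14852 = n13840 := d12_1 D14852 (iv6 D13840) (iv5 D6580) (iv6 F5023) D7073
def n14853 : Q := act 0 n7074
theorem D14853 : act 0 n7074 = n14853 := rfl
def n14854 : Q := act 1 n7074
theorem D14854 : act 1 n7074 = n14854 := rfl
def n14855 : Q := act 2 n7074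
theorem D14855 : act 2 n7074 = n14855 := rfl
def n14856 : Q := act 5 n7074
theorem D14856 : act 5 n7074 = n14856 := rfl
theorem F24517 : act 3 n14856 = n7075 := d6_1 D14856 (iv5 D7075) D7074
def n14857 : Q := act 6 n7075
theorem D14857 : act 6 n7075 = n14857 := rfl
def n14858 : Q := act 0 n7076
theorem D14858 : act 0 n7076 = n14858 := rfl
def n14859 : Q := act 1 n7076
theorem D14859 : act 1 n7076 = n14859 := rfl
def n14860 : Q := act 2 n7076
theorem D14860 : act 2 n7076 = n14860 := rfl
def n14861 : Q := act 5 n7076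
theorem D14861 : act 5 n7076 = n14861 := rfl
theorem F24518 : act 3 n14861 = n7077 := d6_1 D14861 (iv5 D7077) D7076
def n14862 : Q := act 6 n7077
theorem D14862 : act 6 n7077 = n14862 := rfl
theorem F24519 : act 5 n14862 = n13914 := d12_1 D14862 (iv6 D13914) F10708 F10434 D7077
def n14863 : Q := act 0 n7078
theorem D14863 : act 0 n7078 = n14863 := rfl
def n14864 : Q := act 1 n7078
theorem D14864 : act 1 n7078 = n14864 := rfl
def n14865 : Q := act 2 n7078
theorem D14865 : act 2 n7078 = n14865 := rfl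
def n14866 : Q := act 4 n7078
theorem D14866 : act 4 n7078 = n14866 := rfl
theorem F24520 : act 3 n14866 = n13541 := d5_1 D14866 (iv4 D13541) F10505 F8001 D7078
def n14867 : Q := act 5 n7078
theorem D14867 : act 5 n7078 = n14867 := rfl
theorem F24521 : act 3 n14867 = n7079 := d6_1 D14867 (iv5 D7079) D7078
def n14868 : Q := act 6 n7079
theorem D14868 : act 6 n7079 = n14868 := rfl
def n14869 : Q := act 2 n7080
theorem D14869 : act 2 n7080 = n14869 := rfl
theorem F24522 : act 7 n7081 = n14869 := d15_2 (iv0 D7080) D7081 (iv2 D14869)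
def n14870 : Q := act 3 n7080
theorem D14870 : act 3 n7080 = n14870 := rfl
def n14871 : Q := act 4 n7080
theorem D14871 : act 4 n7080 = n14871 := rfl
def n14872 : Q := act 5 n7080
theorem D14872 : act 5 n7080 = n14872 := rfl
def n14873 : Q := act 6 n7080
theorem D14873 : act 6 n7080 = n14873 := rfl
def n14874 : Q := act 7 n7080
theorem D14874 : act 7 n7080 = n14874 := rfl
theorem F24523 : act 2 n14874 = n7081 := d4_1 D14874 F24522 (iv2 D14869)
def n14875 : Q := act 3 n7081
theorem D14875 : act 3 n7081 = n14875 := rfl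
def n14876 : Q := act 4 n7081
theorem D14876 : act 4 n7081 = n14876 := rfl
def n14877 : Q := act 5 n7081
theorem D14877 : act 5 n7081 = n14877 := rfl
def n14878 : Q := act 6 n7081
theorem D14878 : act 6 n7081 = n14878 := rfl
def n14879 : Q := act 5 n7082
theorem D14879 : act 5 n7082 = n14879 := rfl
theorem F24524 : act 2 n14879 = n7083 := d2_1 D14879 (iv5 D7083) D7082
def n14880 : Q := act 6 n7082
theorem D14880 : act 6 n7082 = n14880 := rfl
theorem F24525 : act 2 n14880 = n7084 := d3_1 D14880 (iv6 D7084) D7082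
theorem F24526 : act 4 n14880 = n14880 := d10_1 D14880 (iv6 D14880) F11333
def n14881 : Q := act 0 n7083
theorem D14881 : act 0 n7083 = n14881 := rfl
def n14882 : Q := act 1 n7083
theorem D14882 : act 1 n7083 = n14882 := rfl
def n14883 : Q := act 4 n7083
theorem D14883 : act 4 n7083 = n14883 := rfl
def n14884 : Q := act 6 n7083
theorem D14884 : act 6 n7083 = n14884 := rfl
theorem F24527 : act 3 n14884 = n7085 := d7_1 D14884 (iv6 D7085) (iv3 F11334)
def n14885 : Q := act 0 n7084
theorem D14885 : act 0 n7084 = n14885 := rfl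
def n14886 : Q := act 1 n7084
theorem D14886 : act 1 n7084 = n14886 := rfl
def n14887 : Q := act 5 n7084
theorem D14887 : act 5 n7084 = n14887 := rfl
theorem F24528 : act 3 n14887 = n7088 := d6_1 D14887 (iv5 D7088) (iv3 F11335)
def n14888 : Q := act 7 n7084
theorem D14888 : act 7 n7084 = n14888 := rfl
theorem F24529 : act 3 n14888 = n7089 := d8_1 D14888 (iv7 D7089) (iv3 F11335)
theorem F24530 : act 4 n14888 = n14888 := d11_1 D14888 (iv7 D14888) F11336
theorem F24531 : act 6 n14888 = n7097 := d14_1 D14888 (iv7 F11994) F11993 F9101 D7084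
def n14889 : Q := act 0 n7085
theorem D14889 : act 0 n7085 = n14889 := rfl
def n14890 : Q := act 1 n7085
theorem D14890 : act 1 n7085 = n14890 := rfl
def n14891 : Q := act 5 n7085
theorem D14891 : act 5 n7085 = n14891 := rfl
theorem F24532 : act 6 n14891 = n7088 := d12_2 D7085 D14891 (iv5 D7088) (iv6 D3233) D3232
def n14892 : Q := act 7 n7085
theorem D14892 : act 7 n7085 = n14892 := rfl
def n14893 : Q := act 3 n7086
theorem D14893 : act 3 n7086 = n14893 := rfl
theorem F24533 : act 6 n14893 = n7277 := d7_2 (iv6 F11583) D14893 (iv3 D7277)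
def n14894 : Q := act 3 n7087
theorem D14894 : act 3 n7087 = n14894 := rfl
def n14895 : Q := act 6 n7087
theorem D14895 : act 6 n7087 = n14895 := rfl
theorem F24534 : act 4 n14895 = n12860 := d10_1 D14895 F21336 F12081
theorem F24535 : act 7 n14895 = n7282 := d14_2 (iv7 F12687) D14895 (iv6 D7282) (iv7 F12634) D7959
theorem F24536 : act 0 n14895 = n12760 := d21_10 F22829 (iv1 D13680) (iv5 D6500) (iv6 D2891) (iv1 F2427) D1499 D3402 D7439 F12083 D14895
theorem F24537 : act 0 n12756 = n14895 := d21_4 D6709 (iv1 F23097) (iv5 D13828) (iv6 F21179) (iv6 D14895) (iv5 F12083) (iv1 F20955) F20953 F9284 (iv1 F4736)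
def n14896 : Q := act 4 n7088
theorem D14896 : act 4 n7088 = n14896 := rfl
def n14897 : Q := act 7 n7088
theorem D14897 : act 7 n7088 = n14897 := rfl
theorem F24538 : act 5 n14897 = n7089 := d13_1 D14897 (iv7 D7089) D7088
theorem F24539 : act 1 n7437 = n14897 := d15_1 F20525 (iv7 D14897) (iv2 F20523)
theorem F24540 : act 1 n14897 = n7433 := d15_1 F24539 (iv7 F20941) F20940
def n14898 : Q := act 4 n7091
theorem D14898 : act 4 n7091 = n14898 := rfl
theorem F24541 : act 6 n14898 = n7290 := d10_2 (iv6 F11343) D14898 (iv4 D7290)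
def n14899 : Q := act 3 n7092
theorem D14899 : act 3 n7092 = n14899 := rfl
theorem F24542 : act 6 n14899 = n7292 := d7_2 (iv6 F11344) D14899 (iv3 D7292)
def n14900 : Q := act 3 n7095
theorem D14900 : act 3 n7095 = n14900 := rfl
def n14901 : Q := act 6 n7095
theorem D14901 : act 6 n7095 = n14901 := rfl
theorem F24543 : act 4 n14901 = n7096 := d10_1 D14901 (iv6 D7096) D7095
theorem F24544 : act 7 n14901 = n7303 := d14_2 F20530 D14901 (iv6 D7303) F11383 (iv6 F20529)
theorem F24545 : act 0 n13833 = n14901 := d21_4 D6703 (iv1 F23102) (iv5 D13832) D13833 (iv6 D14901) (iv5 F11755) (iv1 F21049) F21047 F9324 (iv1 F5410)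
def n14902 : Q := act 0 n7097
theorem D14902 : act 0 n7097 = n14902 := rfl
def n14903 : Q := act 1 n7097
theorem D14903 : act 1 n7097 = n14903 := rfl
def n14904 : Q := act 2 n7097
theorem D14904 : act 2 n7097 = n14904 := rfl
def n14905 : Q := act 5 n7097
theorem D14905 : act 5 n7097 = n14905 := rfl
theorem F24547 : act 3 n14905 = n7098 := d6_1 D14905 (iv5 D7098) D7097
def n14906 : Q := act 0 n7098
theorem D14906 : act 0 n7098 = n14906 := rfl
theorem F24548 : act 5 n14906 = n7701 := d17_3 (iv1 F8102) D7098 D14906 F11973 F7938 F7991 F3568 F3567 (iv4 F8101)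
theorem F24549 : act 1 n7129 = n14906 := d15_0 (iv0 D14906) (iv7 F11996) F11995
theorem F24550 : act 7 n14906 = n14116 := d15_2 F23161 F24549 F23597
def n14907 : Q := act 6 n7098
theorem D14907 : act 6 n7098 = n14907 := rfl
def n14908 : Q := act 3 n7099
theorem D14908 : act 3 n7099 = n14908 := rfl
theorem F24551 : act 5 n14908 = n13403 := d6_2 (iv5 F11388) D14908 (iv3 D13403)
theorem F24552 : act 7 n14908 = n13403 := d8_2 (iv7 F11387) D14908 (iv3 D13403)
def n14909 : Q := act 6 n7099
theorem D14909 : act 6 n7099 = n14909 := rfl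
theorem F24553 : act 2 n14909 = n14909 := d3_1 D14909 (iv6 D14909) F11386
theorem F24555 : act 5 n14909 = n13408 := d12_1 D14909 (iv6 D13408) (iv5 D6366) (iv6 F10370) (iv5 F11388)
theorem F24556 : act 7 n14909 = n7307 := d14_2 (iv7 F11387) D14909 (iv6 D7307) F5339 (iv6 F10370)
theorem F24558 : act 1 n14909 = n12752 := d15_0 (iv0 F21167) (iv7 F24556) F24553
def n14910 : Q := act 3 n7102
theorem D14910 : act 3 n7102 = n14910 := rfl
def n14911 : Q := act 3 n7103
theorem D14911 : act 3 n7103 = n14911 := rfl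
theorem F24562 : act 7 n14911 = n14910 := d8_2 (iv7 F11407) D14911 (iv3 D14910)
def n14914 : Q := act 2 n7104
theorem D14914 : act 2 n7104 = n14914 := rfl
theorem F24564 : act 4 n14914 = n7125 := d1_2 (iv4 F11410) D14914 (iv2 D7125)
def n14915 : Q := act 6 n7104
theorem D14915 : act 6 n7104 = n14915 := rfl
theorem F24565 : act 3 n14915 = n7105 := d7_1 D14915 (iv6 D7105) D7104
theorem F24566 : act 4 n14915 = n7127 := d10_1 D14915 (iv6 D7127) (iv4 F11410)
def n14917 : Q := act 5 n7106
theorem D14917 : act 5 n7106 = n14917 := rfl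
theorem F24569 : act 3 n14917 = n7107 := d6_1 D14917 (iv5 D7107) D7106
theorem F24570 : act 7 n14917 = n11768 := d13_2 (iv7 F11416) D14917 (iv5 D11768)
theorem F24571 : act 4 n14917 = n14431 := d18_5 D1389 D3099 D6871 (iv4 F11414) D14917 (iv0 D14431) (iv4 D6902) (iv0 D3107) (iv5 D1391)
def n14918 : Q := act 6 n7107
theorem D14918 : act 6 n7107 = n14918 := rfl
theorem F24572 : act 2 n14918 = n11829 := d3_1 D14918 (iv6 D11829) (iv2 F11417)
theorem F24573 : act 5 n14918 = n14918 := d12_1 D14918 (iv6 D14918) (iv5 D7107) F9962 D7107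
def n14919 : Q := act 3 n7108
theorem D14919 : act 3 n7108 = n14919 := rfl
theorem F24574 : act 5 n14919 = n14611 := d6_2 F18571 D14919 F24280
theorem F24575 : act 7 n14919 = n14610 := d8_2 (iv7 F18554) D14919 F24279
theorem F24576 : act 4 n14919 = n14546 := d20_6 D6958 F11220 (iv4 D3269) (iv3 F5048) D7108 D14919 (iv1 D14546) (iv4 D6952) F4856 D3144
theorem F24577 : act 0 n11797 = n14919 := d18_0 F24576 (iv1 D14546) (iv4 D6952) (iv5 D3135) F9978 (iv0 D2310) (iv4 F3660) D5521 D11797
def n14920 : Q := act 4 n7108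
theorem D14920 : act 4 n7108 = n14920 := rfl
theorem F24578 : act 0 n14920 = n11339 := d17_0 (iv5 F18540) F18541 D11827 F19211 (iv5 D7107) (iv0 F9970) D5531 F11421 D14920
theorem F24579 : act 1 n14920 = n11349 := d18_6 F9892 (iv4 D6359) (iv1 F9996) (iv4 F18572) F18571 D14920 (iv4 D11349) F18511 F18510
def n14921 : Q := act 6 n7108
theorem D14921 : act 6 n7108 = n14921 := rfl
theorem F24580 : act 5 n14921 = n13957 := d12_1 D14921 (iv6 D13957) (iv5 F20011) F20012 F18571
def n14922 : Q := act 3 n7109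
theorem D14922 : act 3 n7109 = n14922 := rfl
theorem F24581 : act 5 n14922 = n12105 := d6_2 F11423 D14922 F20029
theorem F24582 : act 4 n14383 = n14922 := d20_2 D6879 D14383 (iv3 D14922) (iv1 D7109) F5048 D3269 (iv1 F11224) (iv4 D6961) (iv3 F22558) (iv1 D6878)
def n14923 : Q := act 4 n7109
theorem D14923 : act 4 n7109 = n14923 := rfl
theorem F24583 : act 0 n14923 = n11349 := d17_0 (iv5 F18537) (iv1 F19214) (iv5 D11827) (iv4 D5539) (iv5 D2294) F9959 D3267 D7109 D14923
theorem F24584 : act 1 n14923 = n11339 := d18_6 F19768 (iv4 D5655) (iv1 F8295) (iv4 F8848) F11423 D14923 (iv4 D11339) D11338 (iv5 F19767)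
def n14924 : Q := act 6 n7109
theorem D14924 : act 6 n7109 = n14924 := rfl
theorem F24585 : act 5 n14924 = n12107 := d12_1 D14924 (iv6 D12107) (iv5 D5741) D5742 F11423
def n14925 : Q := act 0 n7110
theorem D14925 : act 0 n7110 = n14925 := rfl
theorem F24586 : act 4 n14925 = n11980 := d18_3 (iv1 D7109) D7110 D14925 F19784 (iv4 D11373) (iv0 D5263) D5265 F10186 F11423
theorem F24587 : act 1 n11817 = n14925 := d15_0 (iv0 D14925) (iv7 F18558) (iv2 F19185)
def n14926 : Q := act 1 n7110
theorem D14926 : act 1 n7110 = n14926 := rfl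
theorem F24588 : act 1 n14926 = n11817 := d15_1 D14926 F19186 F18593
theorem F24589 : act 4 n14926 = n11981 := d17_9 (iv1 D11981) (iv5 D5653) (iv1 F9990) D5174 D11249 (iv5 F18549) (iv0 F19199) F19198 D14926
def n14927 : Q := act 3 n7110
theorem D14927 : act 3 n7110 = n14927 := rfl
theorem F24590 : act 4 n14927 = n7116 := d5_2 D7110 D14927 (iv3 D7116) (iv4 D3269) (iv3 F5048)
def n14928 : Q := act 6 n7110
theorem D14928 : act 6 n7110 = n14928 := rfl
theorem F24591 : act 4 n14928 = n7111 := d10_1 D14928 (iv6 D7111) D7110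
def n14929 : Q := act 0 n7111
theorem D14929 : act 0 n7111 = n14929 := rfl
def n14930 : Q := act 1 n7111
theorem D14930 : act 1 n7111 = n14930 := rfl
theorem F24592 : act 6 n14805 = n14930 := d21_3 (iv5 F24433) (iv1 F24434) D14805 (iv1 D14930) (iv6 D7111) (iv5 D3267) (iv1 F9959) D2294 (iv6 F8446) D11813
def n14931 : Q := act 5 n7111
theorem D14931 : act 5 n7111 = n14931 := rfl
theorem F24593 : act 3 n14931 = n7120 := d6_1 D14931 (iv5 D7120) (iv3 F11425)
theorem F24594 : act 6 n14931 = n7114 := d12_2 D7111 D14931 (iv5 D7114) (iv6 D3268) D3267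
def n14932 : Q := act 7 n7111
theorem D14932 : act 7 n7111 = n14932 := rfl
theorem F24595 : act 3 n14932 = n7121 := d8_1 D14932 (iv7 D7121) (iv3 F11425)
def n14933 : Q := act 3 n7112
theorem D14933 : act 3 n7112 = n14933 := rfl
theorem F24596 : act 4 n14933 = n11872 := d5_2 (iv4 F11426) D14933 (iv3 F19561) F8540 F8453
theorem F24597 : act 5 n14933 = n13412 := d6_2 F11428 D14933 (iv3 D13412)
theorem F24598 : act 7 n14933 = n13945 := d8_2 F11427 D14933 F23225
theorem F24599 : act 1 n13412 = n14214 := d17_6 (iv1 F10171) D6759 (iv1 F19207) (iv5 F19560) (iv4 F24596) F24597 (iv5 D14214) F19397 (iv4 D6974)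
def n14934 : Q := act 3 n7113
theorem D14934 : act 3 n7113 = n14934 := rfl
theorem F24600 : act 4 n14934 = n14271 := d5_2 F11429 D14934 F23819 F18328 (iv3 F10220)
theorem F24601 : act 5 n14934 = n13414 := d6_2 (iv5 F11432) D14934 (iv3 D13414)
theorem F24602 : act 6 n14934 = n11275 := d7_2 (iv6 F11431) D14934 (iv3 D11275)
def n14935 : Q := act 4 n7114
theorem D14935 : act 4 n7114 = n14935 := rfl
theorem F24603 : act 0 n14935 = n12080 := d18_2 F18019 D14935 (iv4 D12080) (iv5 D5721) F9942 F3449 (iv4 F4320) (iv0 F10161) D11113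
theorem F24604 : act 1 n14935 = n12074 := d18_6 (iv1 F18536) F18382 F10303 F10206 D7114 D14935 (iv4 D12074) D12073 F19981
def n14936 : Q := act 0 n7116
theorem D14936 : act 0 n7116 = n14936 := rfl
def n14937 : Q := act 1 n7116
theorem D14937 : act 1 n7116 = n14937 := rfl
def n14938 : Q := act 2 n7116
theorem D14938 : act 2 n7116 = n14938 := rfl
def n14939 : Q := act 6 n7116
theorem D14939 : act 6 n7116 = n14939 := rfl
theorem F24605 : act 3 n14939 = n7117 := d7_1 D14939 (iv6 D7117) D7116
def n14940 : Q := act 0 n7117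
theorem D14940 : act 0 n7117 = n14940 := rfl
def n14941 : Q := act 1 n7117
theorem D14941 : act 1 n7117 = n14941 := rfl
def n14942 : Q := act 5 n7117
theorem D14942 : act 5 n7117 = n14942 := rfl
def n14943 : Q := act 7 n7117
theorem D14943 : act 7 n7117 = n14943 := rfl
theorem F24606 : act 4 n14943 = n7121 := d11_1 D14943 (iv7 D7121) (iv4 F11438)
def n14944 : Q := act 3 n7118
theorem D14944 : act 3 n7118 = n14944 := rfl
def n14945 : Q := act 4 n7118
theorem D14945 : act 4 n7118 = n14945 := rfl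
def n14946 : Q := act 6 n7118
theorem D14946 : act 6 n7118 = n14946 := rfl
theorem F24607 : act 5 n14946 = n13997 := d12_1 D14946 F23326 F23004 F22351 F22245
theorem F24608 : act 7 n14946 = n13996 := d14_2 (iv7 F20559) D14946 F23324 (iv7 F18757) F20550
def n14947 : Q := act 3 n7119
theorem D14947 : act 3 n7119 = n14947 := rfl
theorem F24609 : act 5 n14947 = n13424 := d6_2 (iv5 F11440) D14947 F22326
theorem F24610 : act 6 n14947 = n14845 := d7_2 F11439 D14947 F24507
def n14948 : Q := act 4 n7119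
theorem D14948 : act 4 n7119 = n14948 := rfl
theorem F24611 : act 6 n14948 = n14485 := d10_2 F11439 D14948 F24131
def n14949 : Q := act 0 n7120
theorem D14949 : act 0 n7120 = n14949 := rfl
def n14950 : Q := act 1 n7120
theorem D14950 : act 1 n7120 = n14950 := rfl
def n14951 : Q := act 4 n7120
theorem D14951 : act 4 n7120 = n14951 := rfl
theorem F24612 : act 6 n14951 = n7122 := d10_2 (iv6 F11441) D14951 (iv4 D7122)
def n14952 : Q := act 7 n7120
theorem D14952 : act 7 n7120 = n14952 := rfl
theorem F24613 : act 5 n14952 = n7121 := d13_1 D14952 (iv7 D7121) D7120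
theorem F24614 : act 6 n14952 = n12002 := d14_1 D14952 F19849 (iv6 D11732) F8282 (iv6 F11441)
def n14953 : Q := act 3 n7122
theorem D14953 : act 3 n7122 = n14953 := rfl
def n14954 : Q := act 2 n7123
theorem D14954 : act 2 n7123 = n14954 := rfl
theorem F24615 : act 7 n7124 = n14954 := d15_2 (iv0 D7123) D7124 (iv2 D14954)
def n14959 : Q := act 7 n7123
theorem D14959 : act 7 n7123 = n14959 := rfl
theorem F24616 : act 2 n14959 = n7124 := d4_1 D14959 F24615 (iv2 D14954)
def n14960 : Q := act 3 n7124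
theorem D14960 : act 3 n7124 = n14960 := rfl
def n14961 : Q := act 4 n7124
theorem D14961 : act 4 n7124 = n14961 := rfl
def n14962 : Q := act 5 n7124
theorem D14962 : act 5 n7124 = n14962 := rfl
def n14963 : Q := act 6 n7124
theorem D14963 : act 6 n7124 = n14963 := rfl
def n14964 : Q := act 5 n7125
theorem D14964 : act 5 n7125 = n14964 := rfl
theorem F24617 : act 2 n14964 = n7126 := d2_1 D14964 (iv5 D7126) D7125
def n14966 : Q := act 0 n7126
theorem D14966 : act 0 n7126 = n14966 := rfl
def n14967 : Q := act 1 n7126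
theorem D14967 : act 1 n7126 = n14967 := rfl
def n14968 : Q := act 4 n7126
theorem D14968 : act 4 n7126 = n14968 := rfl
def n14969 : Q := act 6 n7126
theorem D14969 : act 6 n7126 = n14969 := rfl
theorem F24619 : act 3 n14969 = n7128 := d7_1 D14969 (iv6 D7128) (iv3 F11444)
def n14972 : Q := act 5 n7127
theorem D14972 : act 5 n7127 = n14972 := rfl
theorem F24620 : act 3 n14972 = n7129 := d6_1 D14972 (iv5 D7129) (iv3 F11445)
def n14973 : Q := act 0 n7128
theorem D14973 : act 0 n7128 = n14973 := rfl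
def n14974 : Q := act 1 n7128
theorem D14974 : act 1 n7128 = n14974 := rfl
def n14975 : Q := act 5 n7128
theorem D14975 : act 5 n7128 = n14975 := rfl
theorem F24621 : act 6 n14975 = n7129 := d12_2 D7128 D14975 (iv5 D7129) (iv6 D3277) D3276
def n14976 : Q := act 7 n7128
theorem D14976 : act 7 n7128 = n14976 := rfl
def n14977 : Q := act 2 n7130
theorem D14977 : act 2 n7130 = n14977 := rfl
theorem F24622 : act 7 n7131 = n14977 := d15_2 (iv0 D7130) D7131 (iv2 D14977)
def n14978 : Q := act 3 n7130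
theorem D14978 : act 3 n7130 = n14978 := rfl
def n14979 : Q := act 4 n7130
theorem D14979 : act 4 n7130 = n14979 := rfl
def n14980 : Q := act 5 n7130
theorem D14980 : act 5 n7130 = n14980 := rfl
def n14981 : Q := act 6 n7130
theorem D14981 : act 6 n7130 = n14981 := rfl
def n14982 : Q := act 7 n7130
theorem D14982 : act 7 n7130 = n14982 := rfl
theorem F24623 : act 2 n14982 = n7131 := d4_1 D14982 F24622 (iv2 D14977)
def n14983 : Q := act 3 n7131
theorem D14983 : act 3 n7131 = n14983 := rfl
def n14984 : Q := act 4 n7131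
theorem D14984 : act 4 n7131 = n14984 := rfl
theorem F24624 : act 3 n12407 = n14984 := d20_5 F4470 (iv1 F3427) (iv4 F5145) D5905 D12407 (iv4 D14984) (iv1 D7131) F5224 (iv3 D3284) F5183
def n14985 : Q := act 5 n7131
theorem D14985 : act 5 n7131 = n14985 := rfl
def n14986 : Q := act 6 n7131
theorem D14986 : act 6 n7131 = n14986 := rfl
def n14987 : Q := act 5 n7132
theorem D14987 : act 5 n7132 = n14987 := rfl
theorem F24625 : act 2 n14987 = n7133 := d2_1 D14987 (iv5 D7133) D7132
def n14988 : Q := act 6 n7132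
theorem D14988 : act 6 n7132 = n14988 := rfl
theorem F24626 : act 2 n14988 = n7134 := d3_1 D14988 (iv6 D7134) D7132
def n14989 : Q := act 0 n7133
theorem D14989 : act 0 n7133 = n14989 := rfl
def n14990 : Q := act 1 n7133
theorem D14990 : act 1 n7133 = n14990 := rfl
def n14991 : Q := act 4 n7133
theorem D14991 : act 4 n7133 = n14991 := rfl
def n14992 : Q := act 6 n7133
theorem D14992 : act 6 n7133 = n14992 := rfl
theorem F24628 : act 3 n14992 = n7137 := d7_1 D14992 (iv6 D7137) (iv3 F11447)
def n14995 : Q := act 5 n7134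
theorem D14995 : act 5 n7134 = n14995 := rfl
theorem F24629 : act 3 n14995 = n7140 := d6_1 D14995 (iv5 D7140) (iv3 F11448)
def n14996 : Q := act 7 n7134
theorem D14996 : act 7 n7134 = n14996 := rfl
theorem F24630 : act 3 n14996 = n7141 := d8_1 D14996 (iv7 D7141) (iv3 F11448)
def n14997 : Q := act 3 n7135
theorem D14997 : act 3 n7135 = n14997 := rfl
theorem F24632 : act 5 n14997 = n12346 := d6_2 (iv5 F11450) D14997 (iv3 D12346)
theorem F24633 : act 7 n14997 = n14861 := d8_2 F11453 D14997 F24518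
def n14998 : Q := act 6 n7135
theorem D14998 : act 6 n7135 = n14998 := rfl
theorem F24634 : act 2 n14998 = n14868 := d3_1 D14998 (iv6 D14868) F11452
def n14999 : Q := act 3 n7136
theorem D14999 : act 3 n7136 = n14999 := rfl
theorem F24635 : act 5 n14999 = n12008 := d6_2 (iv5 F11456) D14999 (iv3 D12008)
theorem F24636 : act 7 n14999 = n14867 := d8_2 (iv7 F11455) D14999 F24521
def n15000 : Q := act 6 n7136
theorem D15000 : act 6 n7136 = n15000 := rfl
theorem F24637 : act 2 n15000 = n14862 := d3_1 D15000 (iv6 D14862) F11457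
theorem F24638 : act 5 n15000 = n14137 := d12_1 D15000 (iv6 D14137) F10948 F10431 (iv5 F11456)
def n15001 : Q := act 0 n7137
theorem D15001 : act 0 n7137 = n15001 := rfl
def n15002 : Q := act 1 n7137
theorem D15002 : act 1 n7137 = n15002 := rfl
def n15003 : Q := act 5 n7137
theorem D15003 : act 5 n7137 = n15003 := rfl
theorem F24639 : act 6 n15003 = n7140 := d12_2 D7137 D15003 (iv5 D7140) (iv6 D3286) D3285
def n15004 : Q := act 7 n7137
theorem D15004 : act 7 n7137 = n15004 := rfl
def n15005 : Q := act 3 n7138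
theorem D15005 : act 3 n7138 = n15005 := rfl
theorem F24640 : act 6 n15005 = n7436 := d7_2 (iv6 F20527) D15005 (iv3 D7436)
def n15006 : Q := act 5 n7138
theorem D15006 : act 5 n7138 = n15006 := rfl
def n15007 : Q := act 3 n7139
theorem D15007 : act 3 n7139 = n15007 := rfl
def n15008 : Q := act 5 n7139
theorem D15008 : act 5 n7139 = n15008 := rfl
def n15009 : Q := act 1 n7140
theorem D15009 : act 1 n7140 = n15009 := rfl
theorem F24641 : act 7 n15009 = n7926 := d15_2 (iv0 F11561) D15009 F12544
theorem F24642 : act 5 n15009 = n7927 := d17_7 F5523 F5520 F5522 (iv5 D3292) (iv4 F5225) D7140 D15009 F12552 (iv4 D7235)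
def n15010 : Q := act 4 n7140
theorem D15010 : act 4 n7140 = n15010 := rfl
def n15011 : Q := act 7 n7140
theorem D15011 : act 7 n7140 = n15011 := rfl
theorem F24643 : act 5 n15011 = n7141 := d13_1 D15011 (iv7 D7141) D7140
theorem F24644 : act 0 n7926 = n15011 := d17_2 F12556 D7926 F24643 F11458 F5538 (iv0 D3519) F2697 D3520 D7761
def n15012 : Q := act 0 n7142
theorem D15012 : act 0 n7142 = n15012 := rfl
theorem F24645 : act 6 n15012 = n13347 := d21_5 D6530 (iv1 F22958) (iv5 F22959) F19763 D15012 F22870 (iv1 F22871) F22864 F10595 (iv1 F10597)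
theorem F24646 : act 5 n15012 = n12358 := d21_0 (iv1 F20541) (iv5 D7047) D7048 (iv1 F24429) (iv6 D6531) D6530 (iv1 F22958) (iv5 F22959) F19763 D15012
theorem F24647 : act 2 n13355 = n15012 := d15_3 (iv0 D15012) (iv0 F22224) D13355
theorem F24648 : act 1 n11385 = n15012 := d15_0 (iv0 D15012) F11971 (iv2 F18609)
theorem F24649 : act 7 n15012 = n13331 := d15_2 (iv0 F22223) F24648 F22178
def n15013 : Q := act 2 n7142
theorem D15013 : act 2 n7142 = n15013 := rfl
theorem F24650 : act 3 n15013 = n11251 := d0_2 D7142 D15013 F18305 (iv3 F10300) (iv2 F8384)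
theorem F24651 : act 4 n15013 = n15013 := d1_2 F11459 D15013 (iv2 D15013)
theorem F24652 : act 5 n15013 = n11821 := d2_2 F18117 D15013 F19195
theorem F24653 : act 7 n15013 = n11385 := d4_2 (iv7 F11971) D15013 F18609
theorem F24654 : act 1 n15013 = n13331 := d15_0 (iv0 F24470) (iv7 F11971) D15013
theorem F24655 : act 1 n13355 = n15013 := d15_0 F24654 (iv7 F24649) (iv2 F24647)
def n15014 : Q := act 4 n7143
theorem D15014 : act 4 n7143 = n15014 := rfl
theorem F24656 : act 6 n15014 = n7452 := d10_2 (iv6 F11460) D15014 (iv4 D7452)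
def n15015 : Q := act 3 n7144
theorem D15015 : act 3 n7144 = n15015 := rfl
theorem F24657 : act 6 n15015 = n7453 := d7_2 (iv6 F11461) D15015 (iv3 D7453)
def n15016 : Q := act 5 n7144
theorem D15016 : act 5 n7144 = n15016 := rfl
def n15017 : Q := act 3 n7146
theorem D15017 : act 3 n7146 = n15017 := rfl
def n15018 : Q := act 5 n7146
theorem D15018 : act 5 n7146 = n15018 := rfl
def n15019 : Q := act 3 n7147
theorem D15019 : act 3 n7147 = n15019 := rfl
theorem F24659 : act 6 n15019 = n13829 := d7_2 (iv6 F11462) D15019 (iv3 D13829)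
def n15023 : Q := act 2 n7148
theorem D15023 : act 2 n7148 = n15023 := rfl
theorem F24661 : act 4 n15023 = n7155 := d1_2 (iv4 F11463) D15023 (iv2 D7155)
def n15024 : Q := act 6 n7148
theorem D15024 : act 6 n7148 = n15024 := rfl
theorem F24662 : act 3 n15024 = n7149 := d7_1 D15024 (iv6 D7149) D7148
theorem F24663 : act 4 n15024 = n7157 := d10_1 D15024 (iv6 D7157) (iv4 F11463)
def n15027 : Q := act 7 n7149
theorem D15027 : act 7 n7149 = n15027 := rfl
theorem F24670 : act 4 n15027 = n7152 := d11_1 D15027 (iv7 D7152) (iv4 F11465)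
theorem F24672 : act 1 n13932 = n15027 := d15_1 (iv0 F23199) (iv7 D15027) F11464
def n15028 : Q := act 4 n7151
theorem D15028 : act 4 n7151 = n15028 := rfl
theorem F24674 : act 6 n15028 = n12766 := d10_2 (iv6 F11472) D15028 (iv4 D12766)
def n15030 : Q := act 3 n7153
theorem D15030 : act 3 n7153 = n15030 := rfl
def n15035 : Q := act 3 n7154
theorem D15035 : act 3 n7154 = n15035 := rfl
def n15039 : Q := act 5 n7155
theorem D15039 : act 5 n7155 = n15039 := rfl
theorem F24677 : act 2 n15039 = n7156 := d2_1 D15039 (iv5 D7156) D7155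
def n15040 : Q := act 6 n7155
theorem D15040 : act 6 n7155 = n15040 := rfl
theorem F24678 : act 2 n15040 = n7157 := d3_1 D15040 (iv6 D7157) D7155
def n15041 : Q := act 0 n7156
theorem D15041 : act 0 n7156 = n15041 := rfl
def n15042 : Q := act 1 n7156
theorem D15042 : act 1 n7156 = n15042 := rfl
def n15043 : Q := act 4 n7156
theorem D15043 : act 4 n7156 = n15043 := rfl
def n15044 : Q := act 6 n7156
theorem D15044 : act 6 n7156 = n15044 := rfl
theorem F24679 : act 3 n15044 = n7158 := d7_1 D15044 (iv6 D7158) (iv3 F11477)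
def n15045 : Q := act 0 n7157
theorem D15045 : act 0 n7157 = n15045 := rfl
def n15046 : Q := act 1 n7157
theorem D15046 : act 1 n7157 = n15046 := rfl
def n15047 : Q := act 5 n7157
theorem D15047 : act 5 n7157 = n15047 := rfl
theorem F24680 : act 3 n15047 = n7161 := d6_1 D15047 (iv5 D7161) (iv3 F11478)
def n15048 : Q := act 7 n7157
theorem D15048 : act 7 n7157 = n15048 := rfl
theorem F24681 : act 3 n15048 = n7162 := d8_1 D15048 (iv7 D7162) (iv3 F11478)
def n15049 : Q := act 0 n7158
theorem D15049 : act 0 n7158 = n15049 := rfl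
def n15050 : Q := act 1 n7158
theorem D15050 : act 1 n7158 = n15050 := rfl
def n15051 : Q := act 5 n7158
theorem D15051 : act 5 n7158 = n15051 := rfl
theorem F24682 : act 6 n15051 = n7161 := d12_2 D7158 D15051 (iv5 D7161) (iv6 D3301) D3300
def n15052 : Q := act 7 n7158
theorem D15052 : act 7 n7158 = n15052 := rfl
def n15053 : Q := act 3 n7159
theorem D15053 : act 3 n7159 = n15053 := rfl
theorem F24683 : act 7 n15053 = n14108 := d8_2 F11480 D15053 F23583
def n15054 : Q := act 4 n7161
theorem D15054 : act 4 n7161 = n15054 := rfl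
def n15055 : Q := act 7 n7161
theorem D15055 : act 7 n7161 = n15055 := rfl
theorem F24684 : act 5 n15055 = n7162 := d13_1 D15055 (iv7 D7162) D7161
theorem F24685 : act 1 n7958 = n15055 := d15_1 F20636 (iv7 D15055) (iv2 F20634)
theorem F24686 : act 1 n15055 = n7963 := d15_1 F24685 F12704 (iv2 F12683)
def n15056 : Q := act 3 n7164
theorem D15056 : act 3 n7164 = n15056 := rfl
theorem F24687 : act 6 n15056 = n13858 := d7_2 (iv6 F11494) D15056 (iv3 D13858)
theorem F24688 : act 7 n15056 = n14090 := d8_2 (iv7 F11495) D15056 F23543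
def n15058 : Q := act 5 n7165
theorem D15058 : act 5 n7165 = n15058 := rfl
theorem F24690 : act 0 n15058 = n7352 := d17_2 F21321 D15058 (iv5 D7352) F10660 D6137 (iv0 F9552) (iv5 F8159) (iv0 F9454) D12856
def n15059 : Q := act 2 n7166
theorem D15059 : act 2 n7166 = n15059 := rfl
theorem F24692 : act 7 n7167 = n15059 := d15_2 (iv0 D7166) D7167 (iv2 D15059)
def n15060 : Q := act 3 n7166
theorem D15060 : act 3 n7166 = n15060 := rfl
theorem F24693 : act 4 n15060 = n12391 := d20_6 (iv4 D1306) D1304 (iv4 F4911) D3307 D7166 D15060 (iv1 D12391) F9128 (iv3 D5897) F4926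
def n15061 : Q := act 4 n7166
theorem D15061 : act 4 n7166 = n15061 := rfl
def n15062 : Q := act 5 n7166
theorem D15062 : act 5 n7166 = n15062 := rfl
def n15063 : Q := act 6 n7166
theorem D15063 : act 6 n7166 = n15063 := rfl
def n15064 : Q := act 7 n7166
theorem D15064 : act 7 n7166 = n15064 := rfl
theorem F24694 : act 2 n15064 = n7167 := d4_1 D15064 F24692 (iv2 D15059)
def n15065 : Q := act 3 n7167
theorem D15065 : act 3 n7167 = n15065 := rfl
def n15066 : Q := act 4 n7167
theorem D15066 : act 4 n7167 = n15066 := rfl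
def n15067 : Q := act 5 n7167
theorem D15067 : act 5 n7167 = n15067 := rfl
def n15068 : Q := act 6 n7167
theorem D15068 : act 6 n7167 = n15068 := rfl
def n15069 : Q := act 4 n7168
theorem D15069 : act 4 n7168 = n15069 := rfl
theorem F24695 : act 2 n15069 = n7169 := d1_1 D15069 (iv4 D7169) D7168
def n15070 : Q := act 5 n7168
theorem D15070 : act 5 n7168 = n15070 := rfl
theorem F24696 : act 2 n15070 = n7170 := d2_1 D15070 (iv5 D7170) D7168
def n15071 : Q := act 6 n7168
theorem D15071 : act 6 n7168 = n15071 := rfl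
theorem F24697 : act 2 n15071 = n7171 := d3_1 D15071 (iv6 D7171) D7168
def n15072 : Q := act 0 n7169
theorem D15072 : act 0 n7169 = n15072 := rfl
def n15073 : Q := act 1 n7169
theorem D15073 : act 1 n7169 = n15073 := rfl
theorem F24698 : act 4 n15030 = n15073 := d20_6 F3944 (iv1 F2121) D1461 D3299 D7153 D15030 (iv1 D15073) (iv4 D7169) (iv3 D3307) (iv1 F3947)
def n15074 : Q := act 5 n7169
theorem D15074 : act 5 n7169 = n15074 := rfl
theorem F24699 : act 3 n15074 = n12121 := d6_1 D15074 (iv5 D12121) (iv3 F11498)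
def n15075 : Q := act 6 n7169
theorem D15075 : act 6 n7169 = n15075 := rfl
theorem F24700 : act 3 n15075 = n12122 := d7_1 D15075 (iv6 D12122) (iv3 F11498)
theorem F24701 : act 4 n15075 = n7171 := d10_1 D15075 (iv6 D7171) D7169
def n15076 : Q := act 0 n7170
theorem D15076 : act 0 n7170 = n15076 := rfl
def n15077 : Q := act 1 n7170
theorem D15077 : act 1 n7170 = n15077 := rfl
def n15078 : Q := act 4 n7170
theorem D15078 : act 4 n7170 = n15078 := rfl
def n15079 : Q := act 6 n7170
theorem D15079 : act 6 n7170 = n15079 := rfl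
theorem F24702 : act 3 n15079 = n7174 := d7_1 D15079 (iv6 D7174) (iv3 F11499)
def n15080 : Q := act 0 n7171
theorem D15080 : act 0 n7171 = n15080 := rfl
def n15081 : Q := act 1 n7171
theorem D15081 : act 1 n7171 = n15081 := rfl
def n15082 : Q := act 5 n7171
theorem D15082 : act 5 n7171 = n15082 := rfl
theorem F24703 : act 3 n15082 = n7177 := d6_1 D15082 (iv5 D7177) (iv3 F11500)
def n15083 : Q := act 7 n7171
theorem D15083 : act 7 n7171 = n15083 := rfl
theorem F24704 : act 3 n15083 = n7178 := d8_1 D15083 (iv7 D7178) (iv3 F11500)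
def n15084 : Q := act 3 n7172
theorem D15084 : act 3 n7172 = n15084 := rfl
theorem F24705 : act 5 n15084 = n12345 := d6_2 (iv5 F11501) D15084 (iv3 D12345)
theorem F24706 : act 7 n15084 = n14851 := d8_2 F11504 D15084 F24515
def n15085 : Q := act 6 n7172
theorem D15085 : act 6 n7172 = n15085 := rfl
theorem F24707 : act 2 n15085 = n14857 := d3_1 D15085 (iv6 D14857) F11503
def n15086 : Q := act 3 n7173
theorem D15086 : act 3 n7173 = n15086 := rfl
theorem F24708 : act 5 n15086 = n12344 := d6_2 (iv5 F11507) D15086 (iv3 D12344)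
theorem F24709 : act 7 n15086 = n14856 := d8_2 (iv7 F11506) D15086 F24517
def n15087 : Q := act 6 n7173
theorem D15087 : act 6 n7173 = n15087 := rfl
theorem F24710 : act 2 n15087 = n14852 := d3_1 D15087 (iv6 D14852) F11508
theorem F24711 : act 5 n15087 = n14052 := d12_1 D15087 (iv6 D14052) (iv5 D6681) (iv6 F9058) (iv5 F11507)
def n15088 : Q := act 0 n7174
theorem D15088 : act 0 n7174 = n15088 := rfl
def n15089 : Q := act 1 n7174
theorem D15089 : act 1 n7174 = n15089 := rfl
def n15090 : Q := act 5 n7174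
theorem D15090 : act 5 n7174 = n15090 := rfl
theorem F24712 : act 6 n15090 = n7177 := d12_2 D7174 D15090 (iv5 D7177) (iv6 D3309) D3308
def n15091 : Q := act 7 n7174
theorem D15091 : act 7 n7174 = n15091 := rfl
def n15092 : Q := act 1 n7177
theorem D15092 : act 1 n7177 = n15092 := rfl
theorem F24713 : act 7 n15092 = n7759 := d15_2 (iv0 F11553) D15092 F12059
theorem F24714 : act 5 n15092 = n7734 := d17_7 (iv1 F8183) F8180 F8182 (iv5 F5626) (iv4 F5299) D7177 D15092 F12041 (iv4 F12535)
def n15093 : Q := act 4 n7177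
theorem D15093 : act 4 n7177 = n15093 := rfl
def n15094 : Q := act 7 n7177
theorem D15094 : act 7 n7177 = n15094 := rfl
theorem F24715 : act 5 n15094 = n7178 := d13_1 D15094 (iv7 D7178) D7177
theorem F24716 : act 0 n7759 = n15094 := d17_2 (iv1 D7758) D7759 F24715 F11509 F10516 (iv0 D6068) F4078 D6069 (iv4 F12558)
def n15095 : Q := act 2 n7179
theorem D15095 : act 2 n7179 = n15095 := rfl
theorem F24717 : act 7 n7180 = n15095 := d15_2 (iv0 D7179) D7180 (iv2 D15095)
def n15096 : Q := act 3 n7179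
theorem D15096 : act 3 n7179 = n15096 := rfl
def n15097 : Q := act 4 n7179
theorem D15097 : act 4 n7179 = n15097 := rfl
def n15098 : Q := act 5 n7179
theorem D15098 : act 5 n7179 = n15098 := rfl
def n15099 : Q := act 6 n7179
theorem D15099 : act 6 n7179 = n15099 := rfl
def n15100 : Q := act 7 n7179
theorem D15100 : act 7 n7179 = n15100 := rfl
theorem F24718 : act 2 n15100 = n7180 := d4_1 D15100 F24717 (iv2 D15095)
def n15101 : Q := act 3 n7180
theorem D15101 : act 3 n7180 = n15101 := rfl
def n15102 : Q := act 4 n7180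
theorem D15102 : act 4 n7180 = n15102 := rfl
theorem F24719 : act 3 n15072 = n15102 := d20_5 (iv4 D5162) (iv1 F10326) (iv4 F8851) (iv3 F11498) D15072 (iv4 D15102) (iv1 D7180) D7182 F11510 F10519
def n15103 : Q := act 5 n7180
theorem D15103 : act 5 n7180 = n15103 := rfl
def n15104 : Q := act 6 n7180
theorem D15104 : act 6 n7180 = n15104 := rfl
def n15105 : Q := act 4 n7181
theorem D15105 : act 4 n7181 = n15105 := rfl
theorem F24720 : act 2 n15105 = n7182 := d1_1 D15105 (iv4 D7182) D7181
def n15106 : Q := act 5 n7181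
theorem D15106 : act 5 n7181 = n15106 := rfl
theorem F24721 : act 2 n15106 = n7183 := d2_1 D15106 (iv5 D7183) D7181
def n15107 : Q := act 6 n7181
theorem D15107 : act 6 n7181 = n15107 := rfl
theorem F24722 : act 2 n15107 = n7184 := d3_1 D15107 (iv6 D7184) D7181
def n15108 : Q := act 0 n7182
theorem D15108 : act 0 n7182 = n15108 := rfl
def n15109 : Q := act 1 n7182
theorem D15109 : act 1 n7182 = n15109 := rfl
theorem F24723 : act 4 n14978 = n15109 := d20_6 (iv4 D800) D798 D1456 D3284 D7130 D14978 (iv1 D15109) (iv4 D7182) (iv3 D3311) (iv1 D1465)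
def n15110 : Q := act 5 n7182
theorem D15110 : act 5 n7182 = n15110 := rfl
theorem F24724 : act 3 n15110 = n13550 := d6_1 D15110 (iv5 D13550) (iv3 F11510)
def n15111 : Q := act 6 n7182
theorem D15111 : act 6 n7182 = n15111 := rfl
theorem F24725 : act 3 n15111 = n13551 := d7_1 D15111 (iv6 D13551) (iv3 F11510)
theorem F24726 : act 4 n15111 = n7184 := d10_1 D15111 (iv6 D7184) D7182
def n15112 : Q := act 0 n7183
theorem D15112 : act 0 n7183 = n15112 := rfl
def n15113 : Q := act 1 n7183
theorem D15113 : act 1 n7183 = n15113 := rfl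
def n15114 : Q := act 4 n7183
theorem D15114 : act 4 n7183 = n15114 := rfl
def n15115 : Q := act 6 n7183
theorem D15115 : act 6 n7183 = n15115 := rfl
theorem F24727 : act 3 n15115 = n7185 := d7_1 D15115 (iv6 D7185) (iv3 F11511)
def n15116 : Q := act 0 n7184
theorem D15116 : act 0 n7184 = n15116 := rfl
def n15117 : Q := act 1 n7184
theorem D15117 : act 1 n7184 = n15117 := rfl
def n15118 : Q := act 5 n7184
theorem D15118 : act 5 n7184 = n15118 := rfl
theorem F24728 : act 3 n15118 = n7187 := d6_1 D15118 (iv5 D7187) (iv3 F11512)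
def n15119 : Q := act 7 n7184
theorem D15119 : act 7 n7184 = n15119 := rfl
theorem F24729 : act 3 n15119 = n7188 := d8_1 D15119 (iv7 D7188) (iv3 F11512)
def n15120 : Q := act 0 n7185
theorem D15120 : act 0 n7185 = n15120 := rfl
def n15121 : Q := act 1 n7185
theorem D15121 : act 1 n7185 = n15121 := rfl
def n15122 : Q := act 5 n7185
theorem D15122 : act 5 n7185 = n15122 := rfl
theorem F24730 : act 6 n15122 = n7187 := d12_2 D7185 D15122 (iv5 D7187) (iv6 D3313) D3312
def n15123 : Q := act 7 n7185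
theorem D15123 : act 7 n7185 = n15123 := rfl
def n15124 : Q := act 4 n7187
theorem D15124 : act 4 n7187 = n15124 := rfl
def n15125 : Q := act 7 n7187
theorem D15125 : act 7 n7187 = n15125 := rfl
theorem F24731 : act 5 n15125 = n7188 := d13_1 D15125 (iv7 D7188) D7187
theorem F24732 : act 1 n12488 = n15125 := d15_1 (iv0 F20802) (iv7 D15125) (iv2 F20680)
theorem F24733 : act 1 n15125 = n12491 := d15_1 F24732 F20811 (iv2 F20800)
def n15126 : Q := act 5 n7189
theorem D15126 : act 5 n7189 = n15126 := rfl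
theorem F24734 : act 2 n15126 = n7207 := d2_1 D15126 F11529 F11516
theorem F24735 : act 7 n15126 = n7202 := d13_2 (iv7 F11517) D15126 (iv5 D7202)
theorem F24736 : act 1 n7204 = n15126 := d15_1 D7204 F24735 F11525
theorem F24737 : act 1 n15126 = n7203 := d15_0 (iv0 D7203) D7207 (iv2 F24734)
def n15127 : Q := act 6 n7189
theorem D15127 : act 6 n7189 = n15127 := rfl
theorem F24738 : act 2 n15127 = n7208 := d3_1 D15127 (iv6 D7208) F11516
theorem F24739 : act 7 n15127 = n7519 := d14_2 (iv7 F11517) D15127 (iv6 D7519) F5418 (iv6 F5303)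
theorem F24740 : act 1 n7584 = n15127 := d15_1 D7584 F24739 F11758
theorem F24741 : act 1 n15127 = n7583 := d15_0 (iv0 D7583) (iv7 F11531) (iv2 F24738)
def n15128 : Q := act 0 n7190
theorem D15128 : act 0 n7190 = n15128 := rfl
theorem F24742 : act 1 n7195 = n15128 := d15_0 (iv0 D15128) (iv7 F11519) (iv2 F11520)
def n15129 : Q := act 1 n7190
theorem D15129 : act 1 n7190 = n15129 := rfl
def n15130 : Q := act 3 n7190
theorem D15130 : act 3 n7190 = n15130 := rfl
theorem F24744 : act 7 n15130 = n7196 := d8_2 F11519 D15130 (iv3 D7196)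
def n15131 : Q := act 4 n7190
theorem D15131 : act 4 n7190 = n15131 := rfl
theorem F24745 : act 2 n15131 = n7192 := d1_1 D15131 (iv4 D7192) D7190
theorem F24746 : act 7 n15131 = n7197 := d11_2 F11519 D15131 (iv4 D7197)
def n15132 : Q := act 5 n7190
theorem D15132 : act 5 n7190 = n15132 := rfl
theorem F24747 : act 2 n15132 = n7193 := d2_1 D15132 (iv5 D7193) D7190
theorem F24748 : act 7 n15132 = n7198 := d13_2 F11519 D15132 (iv5 D7198)
def n15133 : Q := act 6 n7190
theorem D15133 : act 6 n7190 = n15133 := rfl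
theorem F24749 : act 2 n15133 = n7194 := d3_1 D15133 (iv6 D7194) D7190
def n15134 : Q := act 0 n7191
theorem D15134 : act 0 n7191 = n15134 := rfl
def n15135 : Q := act 1 n7191
theorem D15135 : act 1 n7191 = n15135 := rfl
def n15136 : Q := act 2 n7191
theorem D15136 : act 2 n7191 = n15136 := rfl
def n15137 : Q := act 5 n7191
theorem D15137 : act 5 n7191 = n15137 := rfl
theorem F24750 : act 3 n15137 = n7193 := d6_1 D15137 (iv5 D7193) D7191
def n15138 : Q := act 6 n7191
theorem D15138 : act 6 n7191 = n15138 := rfl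
def n15139 : Q := act 7 n7191
theorem D15139 : act 7 n7191 = n15139 := rfl
theorem F24752 : act 3 n15139 = n7195 := d8_1 D15139 (iv7 D7195) D7191
def n15140 : Q := act 0 n7192
theorem D15140 : act 0 n7192 = n15140 := rfl
theorem F24753 : act 4 n15140 = n15035 := d20_2 D7192 D15140 (iv3 D15035) (iv1 D7154) (iv3 D3299) (iv4 D1461) (iv1 D799) D800 D1466 D3314
def n15141 : Q := act 1 n7192
theorem D15141 : act 1 n7192 = n15141 := rfl
theorem F24754 : act 1 n15141 = n7197 := d15_1 D15141 (iv7 F24746) F24745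
def n15142 : Q := act 3 n7192
theorem D15142 : act 3 n7192 = n15142 := rfl
theorem F24755 : act 0 n15142 = n15060 := d20_10 F24693 (iv1 D12391) F9128 (iv3 D5897) F4926 D2875 F4468 D3314 D7192 D15142
def n15143 : Q := act 5 n7192
theorem D15143 : act 5 n7192 = n15143 := rfl
def n15144 : Q := act 6 n7192
theorem D15144 : act 6 n7192 = n15144 := rfl
theorem F24756 : act 4 n15144 = n7194 := d10_1 D15144 (iv6 D7194) D7192
def n15145 : Q := act 7 n7192
theorem D15145 : act 7 n7192 = n15145 := rfl
theorem F24757 : act 2 n15145 = n7197 := d4_1 D15145 (iv7 F24746) F24745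
theorem F24758 : act 4 n15145 = n7195 := d11_1 D15145 (iv7 D7195) D7192
theorem F24759 : act 1 n7197 = n15140 := d15_0 (iv0 D15140) D15145 F24757
def n15146 : Q := act 0 n7193
theorem D15146 : act 0 n7193 = n15146 := rfl
def n15147 : Q := act 1 n7193
theorem D15147 : act 1 n7193 = n15147 := rfl
def n15148 : Q := act 4 n7193
theorem D15148 : act 4 n7193 = n15148 := rfl
def n15149 : Q := act 6 n7193
theorem D15149 : act 6 n7193 = n15149 := rfl
def n15150 : Q := act 7 n7193
theorem D15150 : act 7 n7193 = n15150 := rfl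
theorem F24761 : act 2 n15150 = n7198 := d4_1 D15150 (iv7 F24748) F24747
theorem F24762 : act 5 n15150 = n7195 := d13_1 D15150 (iv7 D7195) D7193
theorem F24763 : act 1 n7198 = n15146 := d15_0 (iv0 D15146) D15150 F24761
def n15153 : Q := act 5 n7194
theorem D15153 : act 5 n7194 = n15153 := rfl
def n15155 : Q := act 6 n7195
theorem D15155 : act 6 n7195 = n15155 := rfl
theorem F24764 : act 2 n15155 = n7199 := d3_1 D15155 (iv6 D7199) (iv2 F11520)
def n15156 : Q := act 0 n7196
theorem D15156 : act 0 n7196 = n15156 := rfl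
theorem F24765 : act 4 n15156 = n12390 := d20_0 (iv1 F20622) F11446 (iv3 F20586) (iv1 F20590) D15035 (iv4 F24753) (iv1 F24759) (iv4 D7197) D7196 D15156
def n15157 : Q := act 1 n7196
theorem D15157 : act 1 n7196 = n15157 := rfl
def n15158 : Q := act 2 n7196
theorem D15158 : act 2 n7196 = n15158 := rfl
def n15159 : Q := act 4 n7196
theorem D15159 : act 4 n7196 = n15159 := rfl
theorem F24766 : act 0 n14979 = n15159 := d20_1 D14979 (iv4 D15159) (iv3 D7196) (iv1 D3315) (iv3 D1466) (iv4 D800) D798 D1456 D3284 D7130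
def n15160 : Q := act 5 n7196
theorem D15160 : act 5 n7196 = n15160 := rfl
theorem F24767 : act 3 n15160 = n7198 := d6_1 D15160 (iv5 D7198) D7196
def n15161 : Q := act 6 n7196
theorem D15161 : act 6 n7196 = n15161 := rfl
theorem F24768 : act 3 n15161 = n7199 := d7_1 D15161 (iv6 D7199) D7196
def n15162 : Q := act 5 n7197
theorem D15162 : act 5 n7197 = n15162 := rfl
def n15163 : Q := act 6 n7197
theorem D15163 : act 6 n7197 = n15163 := rfl
theorem F24769 : act 4 n15163 = n7199 := d10_1 D15163 (iv6 D7199) D7197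
def n15164 : Q := act 4 n7198
theorem D15164 : act 4 n7198 = n15164 := rfl
def n15165 : Q := act 6 n7198
theorem D15165 : act 6 n7198 = n15165 := rfl
def n15166 : Q := act 0 n7199
theorem D15166 : act 0 n7199 = n15166 := rfl
def n15167 : Q := act 1 n7199
theorem D15167 : act 1 n7199 = n15167 := rfl
def n15168 : Q := act 5 n7199
theorem D15168 : act 5 n7199 = n15168 := rfl
def n15169 : Q := act 7 n7199
theorem D15169 : act 7 n7199 = n15169 := rfl
def n15170 : Q := act 2 n7200
theorem D15170 : act 2 n7200 = n15170 := rfl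
theorem F24770 : act 4 n15170 = n15136 := d1_2 F11522 D15170 (iv2 D15136)
theorem F24771 : act 7 n7201 = n15170 := d15_2 (iv0 D7200) D7201 (iv2 D15170)
theorem F24772 : act 3 n15170 = n15131 := d8_1 F24771 F24746 (iv3 F11524)
def n15171 : Q := act 3 n7200
theorem D15171 : act 3 n7200 = n15171 := rfl
theorem F24773 : act 2 n15171 = n15142 := d0_1 D15171 (iv3 D15142) (iv2 F24745) (iv3 F24772) (iv2 D15170)
theorem F24774 : act 4 n15171 = n15142 := d5_2 F11522 D15171 (iv3 D15142) (iv4 D7192) D7191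
theorem F24775 : act 0 n15156 = n15142 := d20_1 (iv4 F24765) (iv4 F24774) (iv3 D15171) (iv1 F11521) F5305 F2575 (iv1 F2115) D2493 D5897 D12390
theorem E3036 : n15171 = n15130 := ((c15_3 (iv0 F24775) (iv0 D15156) (iv7 F24744) F24773)).symm
theorem F24776 : act 2 n15130 = n15142 := (sb E3036 F24773)
theorem E3037 : n7200 = n7190 := ((((iv3 D15130)).symm.trans (sb E3036 (iv3 D15171)))).symm
theorem F24777 : act 4 n15130 = n15142 := (sb E3036 F24774)
theorem E3038 : n15128 = n3318 := ((D15128).symm.trans (sb E3037 (iv1 F11521)))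
theorem E3039 : n15129 = n3316 := ((D15129).symm.trans (sb E3037 (iv0 D7200)))
theorem E3040 : n15170 = n3314 := ((((iv2 D7190)).symm.trans (sb E3037 D15170))).symm
theorem E3041 : n15131 = n7191 := ((D15131).symm.trans (sb E3037 (iv4 F11522)))
theorem E3042 : n7201 = n7195 := (((iv1 F11523)).symm.trans (sb E3038 (iv1 F24742)))
theorem F24778 : act 1 n3318 = n7190 := (sb E3038 (iv0 D15128))
theorem F24779 : act 0 n3316 = n7190 := (sb E3039 (iv1 D15129))
theorem E3043 : n15136 = n7192 := (((D7192).symm.trans (sb E3040 F24770))).symm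
theorem F24780 : act 4 n7191 = n7190 := (sb E3041 (iv4 D15131))
theorem E3044 : n15139 = n7197 := ((D15139).symm.trans (sb E3041 F24746))
theorem F24781 : act 0 n7195 = n3316 := (sb E3042 (iv1 D7201))
theorem F24782 : act 1 n7195 = n3318 := (sb E3042 F11523)
theorem F24783 : act 2 n7192 = n7191 := (sb E3043 (iv2 D15136))
theorem F24784 : act 3 n7197 = n7195 := (sb E3044 F24752)
theorem F24785 : act 7 n7197 = n7191 := (sb E3044 (iv7 D15139))
theorem F24786 : act 7 n15137 = n15162 := d13_2 F24785 D15137 (iv5 D15162)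
theorem F24787 : act 1 n15145 = n15134 := d15_0 (iv0 D15134) (iv7 F24785) (iv2 F24757)
theorem F24788 : act 3 n15162 = n15150 := d8_1 F24786 (iv7 D15150) (iv3 F24750)
theorem F24789 : act 3 n15158 = n15145 := d0_4 F24784 F11520 D7196 D15158 F24757
theorem E3045 : n15159 = n15158 := ((c5_4 D7197 F24784 (iv4 F24758) (iv3 F24789) (iv4 D15159) (iv3 D7196))).symm
theorem F24790 : act 1 n15158 = n14979 := (sb E3045 (iv0 F24766))
theorem F24791 : act 4 n15158 = n7196 := (sb E3045 (iv4 D15159))
theorem F24792 : act 3 n15155 = n15163 := d7_3 (iv6 D15163) F24784 D15155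
theorem F24793 : act 7 n15142 = n15158 := d11_0 F24791 (iv7 F24744) F24777
theorem E3046 : n15157 = n15060 := (c15_1 D15157 (iv0 F24755) F24793 (iv2 D15158))
theorem F24794 : act 0 n15060 = n7196 := (sb E3046 (iv1 D15157))
theorem F24795 : act 1 n14979 = n15130 := d15_1 F24790 F24744 D15158
theorem F24796 : act 0 n15158 = n14984 := d20_10 (iv4 D14984) (iv1 D7131) F5224 (iv3 D3284) F5183 (iv3 F10527) F10528 (iv1 F24782) (iv4 F24758) (iv3 F24789)
theorem F24797 : act 1 n15130 = n14984 := d15_0 (iv0 F24796) (iv7 F24793) (iv2 F24776)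
theorem F24798 : act 2 n15137 = n15143 := d2_3 (iv5 D15143) F24783 D15137
theorem F24799 : act 2 n15138 = n15144 := d3_3 (iv6 D15144) F24783 D15138
theorem F24800 : act 1 n15135 = n15145 := d15_1 D15135 (iv7 D15145) F24783
theorem F24801 : act 4 n15133 = n15138 := d1_0 F24799 F24756 (iv2 F24749)
def n15172 : Q := act 0 n7202
theorem D15172 : act 0 n7202 = n15172 := rfl
theorem F24802 : act 1 n7207 = n15172 := d15_0 (iv0 D15172) (iv7 F24735) F24734
def n15173 : Q := act 1 n7202
theorem D15173 : act 1 n7202 = n15173 := rfl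
theorem F24803 : act 1 n15173 = n7207 := d15_1 D15173 (iv7 D7207) (iv2 F11525)
def n15174 : Q := act 4 n7202
theorem D15174 : act 4 n7202 = n15174 := rfl
theorem F24804 : act 2 n15174 = n7205 := d1_1 D15174 (iv4 D7205) (iv2 F11525)
def n15175 : Q := act 6 n7202
theorem D15175 : act 6 n7202 = n15175 := rfl
theorem F24805 : act 2 n15175 = n7206 := d3_1 D15175 (iv6 D7206) (iv2 F11525)
theorem F24806 : act 5 n15175 = n7565 := d12_1 D15175 (iv6 D7565) (iv5 D3444) (iv6 F5303) D7202
def n15176 : Q := act 2 n7203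
theorem D15176 : act 2 n7203 = n15176 := rfl
theorem F24807 : act 7 n7204 = n15176 := d15_2 (iv0 D7203) D7204 (iv2 D15176)
def n15177 : Q := act 3 n7203
theorem D15177 : act 3 n7203 = n15177 := rfl
def n15178 : Q := act 4 n7203
theorem D15178 : act 4 n7203 = n15178 := rfl
def n15179 : Q := act 5 n7203
theorem D15179 : act 5 n7203 = n15179 := rfl
def n15180 : Q := act 6 n7203
theorem D15180 : act 6 n7203 = n15180 := rfl
def n15181 : Q := act 7 n7203
theorem D15181 : act 7 n7203 = n15181 := rfl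
theorem F24808 : act 2 n15181 = n7204 := d4_1 D15181 F24807 (iv2 D15176)
def n15182 : Q := act 3 n7204
theorem D15182 : act 3 n7204 = n15182 := rfl
def n15183 : Q := act 4 n7204
theorem D15183 : act 4 n7204 = n15183 := rfl
def n15184 : Q := act 5 n7204
theorem D15184 : act 5 n7204 = n15184 := rfl
def n15185 : Q := act 6 n7204
theorem D15185 : act 6 n7204 = n15185 := rfl
def n15186 : Q := act 0 n7205
theorem D15186 : act 0 n7205 = n15186 := rfl
def n15187 : Q := act 1 n7205
theorem D15187 : act 1 n7205 = n15187 := rfl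
def n15188 : Q := act 3 n7205
theorem D15188 : act 3 n7205 = n15188 := rfl
theorem F24809 : act 4 n15188 = n7213 := d5_2 D7205 D15188 (iv3 D7213) (iv4 D3321) (iv3 F5304)
def n15189 : Q := act 5 n7205
theorem D15189 : act 5 n7205 = n15189 := rfl
def n15190 : Q := act 6 n7205
theorem D15190 : act 6 n7205 = n15190 := rfl
theorem F24810 : act 4 n15190 = n7206 := d10_1 D15190 (iv6 D7206) D7205
def n15191 : Q := act 7 n7205
theorem D15191 : act 7 n7205 = n15191 := rfl
theorem F24811 : act 4 n15191 = n7207 := d11_1 D15191 (iv7 D7207) D7205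
def n15192 : Q := act 0 n7206
theorem D15192 : act 0 n7206 = n15192 := rfl
def n15193 : Q := act 1 n7206
theorem D15193 : act 1 n7206 = n15193 := rfl
def n15194 : Q := act 7 n7206
theorem D15194 : act 7 n7206 = n15194 := rfl
theorem F24812 : act 3 n15194 = n7217 := d8_1 D15194 (iv7 D7217) (iv3 F11526)
theorem F24813 : act 5 n15194 = n7582 := d13_1 D15194 (iv7 D7582) (iv5 F11527)
def n15195 : Q := act 6 n7207
theorem D15195 : act 6 n7207 = n15195 := rfl
theorem F24814 : act 3 n15195 = n7218 := d7_1 D15195 (iv6 D7218) (iv3 F11528)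
def n15196 : Q := act 0 n7208
theorem D15196 : act 0 n7208 = n15196 := rfl
theorem F24815 : act 1 n7519 = n15196 := d15_0 (iv0 D15196) F11531 (iv2 F11758)
def n15197 : Q := act 1 n7208
theorem D15197 : act 1 n7208 = n15197 := rfl
theorem F24816 : act 1 n15197 = n7519 := d15_1 D15197 (iv7 F24739) F24738
def n15198 : Q := act 5 n7208
theorem D15198 : act 5 n7208 = n15198 := rfl
theorem F24817 : act 3 n15198 = n7219 := d6_1 D15198 (iv5 D7219) (iv3 F11530)
theorem F24818 : act 7 n15198 = n7585 := d13_2 (iv7 F11531) D15198 (iv5 D7585)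
def n15199 : Q := act 0 n7209
theorem D15199 : act 0 n7209 = n15199 := rfl
def n15200 : Q := act 1 n7209
theorem D15200 : act 1 n7209 = n15200 := rfl
def n15201 : Q := act 2 n7209
theorem D15201 : act 2 n7209 = n15201 := rfl
theorem F24819 : act 5 n15201 = n13535 := d2_2 (iv5 F11532) D15201 (iv2 D13535)
def n15202 : Q := act 4 n7209
theorem D15202 : act 4 n7209 = n15202 := rfl
def n15203 : Q := act 6 n7209
theorem D15203 : act 6 n7209 = n15203 := rfl
theorem F24820 : act 3 n15203 = n7210 := d7_1 D15203 (iv6 D7210) D7209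
def n15204 : Q := act 0 n7210
theorem D15204 : act 0 n7210 = n15204 := rfl
def n15205 : Q := act 1 n7210
theorem D15205 : act 1 n7210 = n15205 := rfl
def n15206 : Q := act 5 n7210
theorem D15206 : act 5 n7210 = n15206 := rfl
theorem F24821 : act 6 n15206 = n13537 := d12_2 D7210 D15206 (iv5 D13537) (iv6 D6440) (iv5 F5306)
def n15207 : Q := act 7 n7210
theorem D15207 : act 7 n7210 = n15207 := rfl
def n15208 : Q := act 0 n7211
theorem D15208 : act 0 n7211 = n15208 := rfl
def n15209 : Q := act 1 n7211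
theorem D15209 : act 1 n7211 = n15209 := rfl
def n15210 : Q := act 2 n7211
theorem D15210 : act 2 n7211 = n15210 := rfl
theorem F24822 : act 5 n15210 = n13546 := d2_2 (iv5 F11533) D15210 (iv2 D13546)
def n15211 : Q := act 4 n7211
theorem D15211 : act 4 n7211 = n15211 := rfl
def n15212 : Q := act 6 n7211
theorem D15212 : act 6 n7211 = n15212 := rfl
theorem F24823 : act 3 n15212 = n7212 := d7_1 D15212 (iv6 D7212) D7211
def n15213 : Q := act 0 n7212
theorem D15213 : act 0 n7212 = n15213 := rfl
def n15214 : Q := act 1 n7212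
theorem D15214 : act 1 n7212 = n15214 := rfl
def n15215 : Q := act 5 n7212
theorem D15215 : act 5 n7212 = n15215 := rfl
theorem F24824 : act 6 n15215 = n11439 := d12_2 D7212 D15215 (iv5 D11439) F8089 (iv5 F5307)
def n15216 : Q := act 7 n7212
theorem D15216 : act 7 n7212 = n15216 := rfl
def n15217 : Q := act 0 n7213
theorem D15217 : act 0 n7213 = n15217 := rfl
def n15218 : Q := act 1 n7213
theorem D15218 : act 1 n7213 = n15218 := rfl
def n15219 : Q := act 2 n7213
theorem D15219 : act 2 n7213 = n15219 := rfl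
def n15220 : Q := act 6 n7213
theorem D15220 : act 6 n7213 = n15220 := rfl
theorem F24825 : act 3 n15220 = n7214 := d7_1 D15220 (iv6 D7214) D7213
def n15221 : Q := act 0 n7214
theorem D15221 : act 0 n7214 = n15221 := rfl
def n15222 : Q := act 1 n7214
theorem D15222 : act 1 n7214 = n15222 := rfl
def n15223 : Q := act 5 n7214
theorem D15223 : act 5 n7214 = n15223 := rfl
def n15224 : Q := act 7 n7214
theorem D15224 : act 7 n7214 = n15224 := rfl
theorem F24826 : act 4 n15224 = n7217 := d11_1 D15224 (iv7 D7217) (iv4 F11534)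
def n15225 : Q := act 2 n7215
theorem D15225 : act 2 n7215 = n15225 := rfl
theorem F24827 : act 7 n7216 = n15225 := d15_2 (iv0 D7215) D7216 (iv2 D15225)
def n15226 : Q := act 3 n7215
theorem D15226 : act 3 n7215 = n15226 := rfl
def n15227 : Q := act 4 n7215
theorem D15227 : act 4 n7215 = n15227 := rfl
def n15228 : Q := act 5 n7215
theorem D15228 : act 5 n7215 = n15228 := rfl
def n15229 : Q := act 6 n7215
theorem D15229 : act 6 n7215 = n15229 := rfl
def n15230 : Q := act 7 n7215
theorem D15230 : act 7 n7215 = n15230 := rfl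
theorem F24828 : act 2 n15230 = n7216 := d4_1 D15230 F24827 (iv2 D15225)
def n15231 : Q := act 3 n7216
theorem D15231 : act 3 n7216 = n15231 := rfl
def n15232 : Q := act 4 n7216
theorem D15232 : act 4 n7216 = n15232 := rfl
def n15233 : Q := act 5 n7216
theorem D15233 : act 5 n7216 = n15233 := rfl
theorem F24829 : act 6 n7842 = n15233 := d21_5 F2625 (iv1 F2582) (iv5 F2723) D3558 D7842 (iv5 D15233) (iv1 D7216) F5308 (iv6 D1516) D1514
def n15234 : Q := act 6 n7216
theorem D15234 : act 6 n7216 = n15234 := rfl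
def n15235 : Q := act 6 n7217
theorem D15235 : act 6 n7217 = n15235 := rfl
theorem F24830 : act 7 n15235 = n7218 := d14_2 D7217 D15235 (iv6 D7218) (iv7 D3323) D3322
def n15236 : Q := act 0 n7218
theorem D15236 : act 0 n7218 = n15236 := rfl
def n15237 : Q := act 1 n7218
theorem D15237 : act 1 n7218 = n15237 := rfl
def n15238 : Q := act 5 n7218
theorem D15238 : act 5 n7218 = n15238 := rfl
theorem F24831 : act 6 n15238 = n7219 := d12_2 D7218 D15238 (iv5 D7219) (iv6 D3324) (iv5 F5309)
def n15239 : Q := act 4 n7219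
theorem D15239 : act 4 n7219 = n15239 := rfl
theorem F24832 : act 7 n15239 = n7626 := d11_2 (iv7 F11536) D15239 (iv4 D7626)
theorem F24833 : act 5 n15239 = n12751 := d16_1 D15239 (iv4 D12751) (iv5 D6028) F4046 F2164 (iv4 F4046) D6028 (iv7 F20721) F20720
def n15240 : Q := act 0 n7220
theorem D15240 : act 0 n7220 = n15240 := rfl
theorem F24834 : act 1 n12763 = n15240 := d15_0 (iv0 D15240) F11538 D12763
def n15241 : Q := act 1 n7220
theorem D15241 : act 1 n7220 = n15241 := rfl
def n15242 : Q := act 2 n7220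
theorem D15242 : act 2 n7220 = n15242 := rfl
theorem F24835 : act 4 n15242 = n7228 := d1_2 (iv4 F11537) D15242 (iv2 D7228)
theorem F24836 : act 7 n15242 = n12763 := d4_2 (iv7 F11538) D15242 (iv2 D12763)
theorem F24837 : act 1 n15242 = n12761 := d15_0 (iv0 D12761) (iv7 F11538) D15242
theorem F24838 : act 1 n15241 = n12763 := d15_1 D15241 (iv7 F24836) (iv2 D15242)
theorem F24839 : act 1 n12762 = n15242 := d15_1 D12762 F24836 (iv2 D12763)
def n15243 : Q := act 5 n7220
theorem D15243 : act 5 n7220 = n15243 := rfl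
theorem F24840 : act 3 n15243 = n7221 := d6_1 D15243 (iv5 D7221) D7220
theorem F24841 : act 7 n15243 = n12764 := d13_2 (iv7 F11538) D15243 (iv5 D12764)
def n15244 : Q := act 6 n7220
theorem D15244 : act 6 n7220 = n15244 := rfl
theorem F24842 : act 3 n15244 = n7222 := d7_1 D15244 (iv6 D7222) D7220
theorem F24843 : act 4 n15244 = n7229 := d10_1 D15244 (iv6 D7229) (iv4 F11537)
def n15245 : Q := act 6 n7221
theorem D15245 : act 6 n7221 = n15245 := rfl
def n15246 : Q := act 0 n7222
theorem D15246 : act 0 n7222 = n15246 := rfl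
theorem F24844 : act 4 n15246 = n12836 := d20_8 (iv4 F12546) (iv1 F12551) (iv4 D7147) F5278 F5280 (iv3 F5314) (iv4 F11542) D15246 (iv3 D12836) (iv1 F9430)
def n15247 : Q := act 1 n7222
theorem D15247 : act 1 n7222 = n15247 := rfl
theorem F24845 : act 4 n12915 = n15247 := d20_6 D7235 (iv1 F12552) F12546 (iv3 F12525) (iv1 F12529) (iv3 F21461) (iv1 D15247) F11542 F5314 D3329
theorem F24846 : act 6 n15247 = n13809 := d10_2 F23059 F24845 F23068
def n15248 : Q := act 5 n7222
theorem D15248 : act 5 n7222 = n15248 := rfl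
def n15249 : Q := act 7 n7222
theorem D15249 : act 7 n7222 = n15249 := rfl
theorem F24847 : act 4 n15249 = n7225 := d11_1 D15249 (iv7 D7225) (iv4 F11542)
theorem F24848 : act 6 n15249 = n11774 := d14_1 D15249 (iv7 D11774) F8418 (iv7 F5312) D7222
def n15250 : Q := act 4 n7223
theorem D15250 : act 4 n7223 = n15250 := rfl
theorem F24849 : act 0 n7888 = n15250 := d20_1 (iv4 F12490) (iv4 D15250) (iv3 F12533) (iv1 F8183) F8179 (iv4 F12036) (iv1 F12038) (iv4 F12039) (iv3 F12492) (iv1 D7890)
def n15251 : Q := act 4 n7224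
theorem D15251 : act 4 n7224 = n15251 := rfl
theorem F24850 : act 6 n15251 = n13807 := d10_2 F11543 D15251 (iv4 D13807)
theorem F24851 : act 0 n15251 = n7888 := d20_1 D15251 F12490 F5611 (iv1 F11627) (iv3 D7234) D7235 (iv1 F12552) F12546 (iv3 F12525) (iv1 F12529)
def n15252 : Q := act 2 n7226
theorem D15252 : act 2 n7226 = n15252 := rfl
theorem F24852 : act 7 n7227 = n15252 := d15_2 (iv0 D7226) D7227 (iv2 D15252)
def n15253 : Q := act 3 n7226
theorem D15253 : act 3 n7226 = n15253 := rfl
def n15254 : Q := act 4 n7226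
theorem D15254 : act 4 n7226 = n15254 := rfl
def n15255 : Q := act 5 n7226
theorem D15255 : act 5 n7226 = n15255 := rfl
def n15256 : Q := act 6 n7226
theorem D15256 : act 6 n7226 = n15256 := rfl
def n15257 : Q := act 7 n7226
theorem D15257 : act 7 n7226 = n15257 := rfl
theorem F24853 : act 2 n15257 = n7227 := d4_1 D15257 F24852 (iv2 D15252)
def n15258 : Q := act 3 n7227
theorem D15258 : act 3 n7227 = n15258 := rfl
def n15259 : Q := act 4 n7227
theorem D15259 : act 4 n7227 = n15259 := rfl
def n15260 : Q := act 5 n7227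
theorem D15260 : act 5 n7227 = n15260 := rfl
def n15261 : Q := act 6 n7227
theorem D15261 : act 6 n7227 = n15261 := rfl
def n15262 : Q := act 6 n7228
theorem D15262 : act 6 n7228 = n15262 := rfl
theorem F24854 : act 2 n15262 = n7229 := d3_1 D15262 (iv6 D7229) D7228
def n15263 : Q := act 0 n7229
theorem D15263 : act 0 n7229 = n15263 := rfl
def n15264 : Q := act 1 n7229
theorem D15264 : act 1 n7229 = n15264 := rfl
def n15265 : Q := act 5 n7229
theorem D15265 : act 5 n7229 = n15265 := rfl
theorem F24855 : act 3 n15265 = n7232 := d6_1 D15265 (iv5 D7232) (iv3 F11552)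
def n15266 : Q := act 7 n7229
theorem D15266 : act 7 n7229 = n15266 := rfl
theorem F24856 : act 3 n15266 = n7233 := d8_1 D15266 (iv7 D7233) (iv3 F11552)
theorem F24857 : act 6 n15266 = n12773 := d14_1 D15266 (iv7 D12773) F9402 (iv7 F5316) D7229
def n15267 : Q := act 3 n7230
theorem D15267 : act 3 n7230 = n15267 := rfl
def n15268 : Q := act 5 n7230
theorem D15268 : act 5 n7230 = n15268 := rfl
def n15269 : Q := act 3 n7231
theorem D15269 : act 3 n7231 = n15269 := rfl
theorem F24858 : act 6 n15269 = n13834 := d7_2 (iv6 F12040) D15269 (iv3 D13834)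
def n15270 : Q := act 5 n7231
theorem D15270 : act 5 n7231 = n15270 := rfl
def n15271 : Q := act 0 n7232
theorem D15271 : act 0 n7232 = n15271 := rfl
theorem F24859 : act 5 n15271 = n12406 := d17_3 (iv1 D7231) D7232 D15271 F20664 (iv5 D7928) (iv0 D3588) F2759 D3589 F12039
theorem F24860 : act 2 n15094 = n15271 := d15_3 (iv0 D15271) (iv0 F11553) D15094
theorem F24861 : act 7 n15271 = n12405 := d4_2 D15094 F24860 F20661
theorem F24862 : act 1 n15092 = n15271 := d15_1 D15092 F24861 F20661
def n15272 : Q := act 4 n7232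
theorem D15272 : act 4 n7232 = n15272 := rfl
theorem F24863 : act 1 n15272 = n15010 := d18_6 (iv1 F12551) (iv4 D7147) F5280 (iv4 F5317) D7232 D15272 (iv4 D15010) D15009 F24642
def n15273 : Q := act 7 n7232
theorem D15273 : act 7 n7232 = n15273 := rfl
theorem F24864 : act 2 n15273 = n15092 := d4_1 D15273 F24713 F12059
theorem F24865 : act 5 n15273 = n7233 := d13_1 D15273 (iv7 D7233) D7232
theorem F24866 : act 1 n12405 = n15273 := d15_1 (iv0 F20662) (iv7 D15273) (iv2 F12059)
theorem F24867 : act 1 n15273 = n15094 := d15_1 F24866 (iv7 D15094) (iv2 F20661)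
def n15275 : Q := act 3 n7235
theorem D15275 : act 3 n7235 = n15275 := rfl
def n15277 : Q := act 2 n7236
theorem D15277 : act 2 n7236 = n15277 := rfl
theorem F24870 : act 7 n7237 = n15277 := d15_2 (iv0 D7236) D7237 (iv2 D15277)
def n15278 : Q := act 3 n7236
theorem D15278 : act 3 n7236 = n15278 := rfl
theorem F24871 : act 4 n15278 = n12762 := d20_6 (iv4 D1197) D1195 (iv4 F2585) D3331 D7236 D15278 (iv1 D12762) F9391 (iv3 D2553) (iv1 F2213)
def n15279 : Q := act 4 n7236
theorem D15279 : act 4 n7236 = n15279 := rfl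
def n15280 : Q := act 5 n7236
theorem D15280 : act 5 n7236 = n15280 := rfl
def n15281 : Q := act 6 n7236
theorem D15281 : act 6 n7236 = n15281 := rfl
def n15282 : Q := act 7 n7236
theorem D15282 : act 7 n7236 = n15282 := rfl
theorem F24872 : act 2 n15282 = n7237 := d4_1 D15282 F24870 (iv2 D15277)
def n15283 : Q := act 3 n7237
theorem D15283 : act 3 n7237 = n15283 := rfl
def n15284 : Q := act 4 n7237
theorem D15284 : act 4 n7237 = n15284 := rfl
theorem F24873 : act 3 n15284 = n7246 := d20_3 (iv4 F11863) (iv1 F11867) D15284 (iv1 F12539) F12537 (iv4 F12044) (iv1 F12046) D7743 (iv3 F12052) (iv1 D7747)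
def n15285 : Q := act 5 n7237
theorem D15285 : act 5 n7237 = n15285 := rfl
def n15286 : Q := act 6 n7237
theorem D15286 : act 6 n7237 = n15286 := rfl
def n15287 : Q := act 5 n7238
theorem D15287 : act 5 n7238 = n15287 := rfl
theorem F24874 : act 2 n15287 = n7239 := d2_1 D15287 (iv5 D7239) D7238
def n15288 : Q := act 6 n7238
theorem D15288 : act 6 n7238 = n15288 := rfl
theorem F24875 : act 2 n15288 = n7240 := d3_1 D15288 (iv6 D7240) D7238
def n15290 : Q := act 1 n7239
theorem D15290 : act 1 n7239 = n15290 := rfl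
def n15291 : Q := act 4 n7239
theorem D15291 : act 4 n7239 = n15291 := rfl
theorem F24876 : act 3 n15291 = n8321 := d5_1 D15291 (iv4 D8321) (iv3 D3738) (iv4 F5320) (iv3 F11558)
def n15292 : Q := act 6 n7239
theorem D15292 : act 6 n7239 = n15292 := rfl
theorem F24877 : act 3 n15292 = n7241 := d7_1 D15292 (iv6 D7241) (iv3 F11558)
def n15293 : Q := act 0 n7240
theorem D15293 : act 0 n7240 = n15293 := rfl
def n15294 : Q := act 1 n7240
theorem D15294 : act 1 n7240 = n15294 := rfl
def n15295 : Q := act 5 n7240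
theorem D15295 : act 5 n7240 = n15295 := rfl
theorem F24878 : act 3 n15295 = n7244 := d6_1 D15295 (iv5 D7244) (iv3 F11559)
def n15296 : Q := act 7 n7240
theorem D15296 : act 7 n7240 = n15296 := rfl
theorem F24879 : act 3 n15296 = n7245 := d8_1 D15296 (iv7 D7245) (iv3 F11559)
theorem F24880 : act 6 n15296 = n11504 := d14_1 D15296 (iv7 D11504) F8172 F5441 D7240
def n15297 : Q := act 0 n7241
theorem D15297 : act 0 n7241 = n15297 := rfl
def n15298 : Q := act 1 n7241
theorem D15298 : act 1 n7241 = n15298 := rfl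
def n15299 : Q := act 5 n7241
theorem D15299 : act 5 n7241 = n15299 := rfl
theorem F24881 : act 6 n15299 = n7244 := d12_2 D7241 D15299 (iv5 D7244) (iv6 D3333) D3332
def n15300 : Q := act 7 n7241
theorem D15300 : act 7 n7241 = n15300 := rfl
theorem F24882 : act 4 n15300 = n8325 := d11_1 D15300 (iv7 D8325) (iv4 F11560)
def n15301 : Q := act 0 n7244
theorem D15301 : act 0 n7244 = n15301 := rfl
theorem F24883 : act 5 n15301 = n12387 := d17_3 F12550 D7244 D15301 F20607 F9124 (iv0 D3329) F2584 (iv0 F5280) D7147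
theorem F24884 : act 2 n15011 = n15301 := d15_3 (iv0 D15301) (iv0 F11561) D15011
theorem F24885 : act 7 n15301 = n12386 := d4_2 D15011 F24884 F20604
theorem F24886 : act 1 n15009 = n15301 := d15_1 D15009 F24885 F20604
def n15302 : Q := act 4 n7244
theorem D15302 : act 4 n7244 = n15302 := rfl
def n15303 : Q := act 7 n7244
theorem D15303 : act 7 n7244 = n15303 := rfl
theorem F24887 : act 2 n15303 = n15009 := d4_1 D15303 F24641 F12544
theorem F24888 : act 5 n15303 = n7245 := d13_1 D15303 (iv7 D7245) D7244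
theorem F24889 : act 1 n12386 = n15303 := d15_1 (iv0 F20605) (iv7 D15303) (iv2 F12544)
theorem F24890 : act 1 n15303 = n15011 := d15_1 F24889 (iv7 D15011) (iv2 F20604)
def n15304 : Q := act 2 n7246
theorem D15304 : act 2 n7246 = n15304 := rfl
theorem F24891 : act 7 n7247 = n15304 := d15_2 (iv0 D7246) D7247 (iv2 D15304)
def n15305 : Q := act 4 n7246
theorem D15305 : act 4 n7246 = n15305 := rfl
def n15306 : Q := act 5 n7246
theorem D15306 : act 5 n7246 = n15306 := rfl
def n15307 : Q := act 6 n7246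
theorem D15307 : act 6 n7246 = n15307 := rfl
def n15308 : Q := act 7 n7246
theorem D15308 : act 7 n7246 = n15308 := rfl
def n15309 : Q := act 3 n7247
theorem D15309 : act 3 n7247 = n15309 := rfl
def n15310 : Q := act 4 n7247
theorem D15310 : act 4 n7247 = n15310 := rfl
def n15311 : Q := act 5 n7247
theorem D15311 : act 5 n7247 = n15311 := rfl
def n15312 : Q := act 6 n7247
theorem D15312 : act 6 n7247 = n15312 := rfl
def n15313 : Q := act 4 n7248
theorem D15313 : act 4 n7248 = n15313 := rfl
theorem F24893 : act 2 n15313 = n7249 := d1_1 D15313 (iv4 D7249) D7248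
theorem F24894 : act 3 n15313 = n12763 := d5_1 D15313 F21195 F9408 (iv4 F11863) F11862
def n15314 : Q := act 5 n7248
theorem D15314 : act 5 n7248 = n15314 := rfl
theorem F24895 : act 2 n15314 = n7250 := d2_1 D15314 (iv5 D7250) D7248
def n15315 : Q := act 0 n7249
theorem D15315 : act 0 n7249 = n15315 := rfl
def n15316 : Q := act 1 n7249
theorem D15316 : act 1 n7249 = n15316 := rfl
theorem F24896 : act 4 n15253 = n15316 := d20_6 (iv4 D803) D802 D1471 D3327 D7226 D15253 (iv1 D15316) (iv4 D7249) (iv3 D3334) (iv1 D1474)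
def n15317 : Q := act 5 n7249
theorem D15317 : act 5 n7249 = n15317 := rfl
theorem F24897 : act 3 n15317 = n8143 := d6_1 D15317 (iv5 D8143) (iv3 F11564)
def n15318 : Q := act 0 n7250
theorem D15318 : act 0 n7250 = n15318 := rfl
def n15319 : Q := act 1 n7250
theorem D15319 : act 1 n7250 = n15319 := rfl
def n15320 : Q := act 4 n7250
theorem D15320 : act 4 n7250 = n15320 := rfl
theorem F24898 : act 3 n15320 = n8327 := d5_1 D15320 (iv4 D8327) (iv3 D3740) (iv4 F5324) (iv3 F11565)
def n15321 : Q := act 6 n7250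
theorem D15321 : act 6 n7250 = n15321 := rfl
theorem F24899 : act 3 n15321 = n7251 := d7_1 D15321 (iv6 D7251) (iv3 F11565)
def n15322 : Q := act 0 n7251
theorem D15322 : act 0 n7251 = n15322 := rfl
def n15323 : Q := act 1 n7251
theorem D15323 : act 1 n7251 = n15323 := rfl
def n15324 : Q := act 7 n7251
theorem D15324 : act 7 n7251 = n15324 := rfl
theorem F24900 : act 4 n15324 = n8331 := d11_1 D15324 (iv7 D8331) (iv4 F11566)
def n15327 : Q := act 3 n7252
theorem D15327 : act 3 n7252 = n15327 := rfl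
theorem F24903 : act 7 n15327 = n7258 := d8_2 F11567 D15327 (iv3 D7258)
def n15328 : Q := act 4 n7252
theorem D15328 : act 4 n7252 = n15328 := rfl
theorem F24904 : act 2 n15328 = n7254 := d1_1 D15328 (iv4 D7254) D7252
theorem F24905 : act 7 n15328 = n7259 := d11_2 F11567 D15328 (iv4 D7259)
theorem F24906 : act 3 n12930 = n15328 := d8_3 F24905 (iv3 F11569) D12930
def n15329 : Q := act 5 n7252
theorem D15329 : act 5 n7252 = n15329 := rfl
theorem F24907 : act 2 n15329 = n7255 := d2_1 D15329 (iv5 D7255) D7252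
theorem F24908 : act 7 n15329 = n7260 := d13_2 F11567 D15329 (iv5 D7260)
theorem E3047 : n12558 = n7260 := (c15_2 F20919 D12558 (iv7 F24908) F24907)
theorem F24909 : act 0 n7260 = n5968 := (sb E3047 (iv1 D12558))
theorem F24910 : act 1 n7260 = n7374 := (sb E3047 F20915)
def n15330 : Q := act 6 n7252
theorem D15330 : act 6 n7252 = n15330 := rfl
theorem F24911 : act 2 n15330 = n7256 := d3_1 D15330 (iv6 D7256) D7252
def n15331 : Q := act 0 n7253
theorem D15331 : act 0 n7253 = n15331 := rfl
def n15332 : Q := act 1 n7253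
theorem D15332 : act 1 n7253 = n15332 := rfl
def n15333 : Q := act 2 n7253
theorem D15333 : act 2 n7253 = n15333 := rfl
def n15334 : Q := act 5 n7253
theorem D15334 : act 5 n7253 = n15334 := rfl
theorem F24912 : act 3 n15334 = n7255 := d6_1 D15334 (iv5 D7255) D7253
def n15335 : Q := act 6 n7253
theorem D15335 : act 6 n7253 = n15335 := rfl
theorem F24913 : act 3 n15335 = n7256 := d7_1 D15335 (iv6 D7256) D7253
def n15336 : Q := act 7 n7253
theorem D15336 : act 7 n7253 = n15336 := rfl
theorem F24914 : act 3 n15336 = n7257 := d8_1 D15336 (iv7 D7257) D7253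
def n15337 : Q := act 0 n7254
theorem D15337 : act 0 n7254 = n15337 := rfl
theorem F24915 : act 4 n15337 = n7742 := d20_2 D7254 D15337 (iv3 D7742) (iv1 D3513) (iv3 D1550) (iv4 D839) F1108 D803 D1475 D3336
def n15338 : Q := act 1 n7254
theorem D15338 : act 1 n7254 = n15338 := rfl
theorem F24916 : act 1 n15338 = n7259 := d15_1 D15338 (iv7 F24905) F24904
def n15339 : Q := act 3 n7254
theorem D15339 : act 3 n7254 = n15339 := rfl
theorem F24917 : act 2 n15339 = n12931 := d0_1 D15339 (iv3 D12931) (iv2 F21489) F24906 F24904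
theorem F24918 : act 0 n15339 = n15253 := d20_10 F24896 (iv1 D15316) (iv4 D7249) (iv3 D3334) (iv1 D1474) D1475 F2589 D3336 D7254 D15339
def n15340 : Q := act 5 n7254
theorem D15340 : act 5 n7254 = n15340 := rfl
theorem F24919 : act 1 n15340 = n7552 := d17_6 (iv1 D5966) D5968 (iv1 F20919) (iv5 D7255) D7254 D15340 (iv5 D7552) (iv0 F11811) F11718
def n15341 : Q := act 6 n7254
theorem D15341 : act 6 n7254 = n15341 := rfl
theorem F24920 : act 4 n15341 = n7256 := d10_1 D15341 (iv6 D7256) D7254
def n15342 : Q := act 7 n7254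
theorem D15342 : act 7 n7254 = n15342 := rfl
theorem F24921 : act 2 n15342 = n7259 := d4_1 D15342 (iv7 F24905) F24904
theorem F24922 : act 4 n15342 = n7257 := d11_1 D15342 (iv7 D7257) D7254
theorem F24923 : act 1 n7259 = n15337 := d15_0 (iv0 D15337) D15342 F24921
def n15343 : Q := act 6 n7255
theorem D15343 : act 6 n7255 = n15343 := rfl
def n15344 : Q := act 7 n7255
theorem D15344 : act 7 n7255 = n15344 := rfl
def n15346 : Q := act 1 n7256
theorem D15346 : act 1 n7256 = n15346 := rfl
def n15347 : Q := act 5 n7256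
theorem D15347 : act 5 n7256 = n15347 := rfl
def n15348 : Q := act 7 n7256
theorem D15348 : act 7 n7256 = n15348 := rfl
def n15349 : Q := act 6 n7257
theorem D15349 : act 6 n7257 = n15349 := rfl
theorem F24926 : act 2 n15349 = n7261 := d3_1 D15349 (iv6 D7261) (iv2 F11568)
def n15350 : Q := act 0 n7258
theorem D15350 : act 0 n7258 = n15350 := rfl
theorem F24927 : act 4 n15350 = n12761 := d20_0 (iv1 F24837) F24835 (iv3 F12043) (iv1 F12046) D7742 (iv4 F24915) (iv1 F24923) (iv4 D7259) D7258 D15350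
def n15351 : Q := act 1 n7258
theorem D15351 : act 1 n7258 = n15351 := rfl
def n15352 : Q := act 2 n7258
theorem D15352 : act 2 n7258 = n15352 := rfl
def n15353 : Q := act 4 n7258
theorem D15353 : act 4 n7258 = n15353 := rfl
theorem F24928 : act 3 n15353 = n12927 := d5_1 D15353 (iv4 D12927) F11569 (iv4 D7259) D7258
theorem F24929 : act 0 n15254 = n15353 := d20_1 D15254 (iv4 D15353) (iv3 D7258) (iv1 D3337) (iv3 D1475) (iv4 D803) D802 D1471 D3327 D7226
theorem F24930 : act 0 n15353 = n15259 := d20_10 (iv4 D15259) (iv1 D7227) (iv4 F11537) (iv3 D7220) F5313 D6122 F9522 D6128 D12927 (iv3 F24928)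
def n15354 : Q := act 5 n7258
theorem D15354 : act 5 n7258 = n15354 := rfl
theorem F24931 : act 3 n15354 = n7260 := d6_1 D15354 (iv5 D7260) D7258
def n15355 : Q := act 6 n7258
theorem D15355 : act 6 n7258 = n15355 := rfl
theorem F24932 : act 3 n15355 = n7261 := d7_1 D15355 (iv6 D7261) D7258
def n15356 : Q := act 5 n7259
theorem D15356 : act 5 n7259 = n15356 := rfl
theorem F24933 : act 3 n15356 = n12928 := d6_1 D15356 (iv5 D12928) F11569
def n15357 : Q := act 6 n7259
theorem D15357 : act 6 n7259 = n15357 := rfl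
theorem F24934 : act 3 n15357 = n12929 := d7_1 D15357 (iv6 D12929) F11569
theorem F24935 : act 4 n15357 = n7261 := d10_1 D15357 (iv6 D7261) D7259
def n15358 : Q := act 4 n7260
theorem D15358 : act 4 n7260 = n15358 := rfl
def n15359 : Q := act 6 n7260
theorem D15359 : act 6 n7260 = n15359 := rfl
def n15361 : Q := act 1 n7261
theorem D15361 : act 1 n7261 = n15361 := rfl
def n15362 : Q := act 5 n7261
theorem D15362 : act 5 n7261 = n15362 := rfl
def n15363 : Q := act 7 n7261
theorem D15363 : act 7 n7261 = n15363 := rfl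
def n15364 : Q := act 4 n7262
theorem D15364 : act 4 n7262 = n15364 := rfl
theorem F24936 : act 2 n15364 = n7266 := d1_1 D15364 (iv4 D7266) (iv2 F11570)
def n15365 : Q := act 6 n7262
theorem D15365 : act 6 n7262 = n15365 := rfl
theorem F24937 : act 2 n15365 = n7267 := d3_1 D15365 (iv6 D7267) (iv2 F11570)
def n15366 : Q := act 0 n7263
theorem D15366 : act 0 n7263 = n15366 := rfl
def n15367 : Q := act 1 n7263
theorem D15367 : act 1 n7263 = n15367 := rfl
theorem F24938 : act 1 n15367 = n7271 := d15_1 D15367 (iv7 D7271) (iv2 F11571)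
def n15368 : Q := act 5 n7263
theorem D15368 : act 5 n7263 = n15368 := rfl
theorem F24939 : act 2 n15368 = n7270 := d2_1 D15368 (iv5 D7270) (iv2 F11571)
def n15369 : Q := act 7 n7263
theorem D15369 : act 7 n7263 = n15369 := rfl
theorem F24940 : act 2 n15369 = n7271 := d4_1 D15369 (iv7 D7271) (iv2 F11571)
theorem F24943 : act 1 n7269 = n15369 := d15_1 D7269 (iv7 D15369) F11571
def n15370 : Q := act 2 n7264
theorem D15370 : act 2 n7264 = n15370 := rfl
theorem F24945 : act 5 n15370 = n7364 := d2_2 (iv5 F17284) D15370 (iv2 D7364)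
theorem F24946 : act 7 n7265 = n15370 := d15_2 (iv0 D7264) D7265 (iv2 D15370)
theorem E3048 : n7372 = n7265 := (c13_4 F24946 F24945 (iv7 F11668) D7372)
theorem F24947 : act 5 n7265 = n3382 := (sb E3048 (iv5 D7372))
def n15371 : Q := act 3 n7264
theorem D15371 : act 3 n7264 = n15371 := rfl
theorem F24948 : act 5 n15371 = n7365 := d6_2 (iv5 F17284) D15371 (iv3 D7365)
def n15372 : Q := act 6 n7264
theorem D15372 : act 6 n7264 = n15372 := rfl
def n15373 : Q := act 7 n7264
theorem D15373 : act 7 n7264 = n15373 := rfl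
theorem F24949 : act 2 n15373 = n7265 := d4_1 D15373 F24946 (iv2 D15370)
theorem F24950 : act 5 n15373 = n7369 := d13_1 D15373 (iv7 D7369) (iv5 F17284)
def n15374 : Q := act 3 n7265
theorem D15374 : act 3 n7265 = n15374 := rfl
theorem F24951 : act 5 n15374 = n7370 := d6_2 (iv5 F24947) D15374 (iv3 D7370)
def n15375 : Q := act 4 n7265
theorem D15375 : act 4 n7265 = n15375 := rfl
def n15376 : Q := act 6 n7265
theorem D15376 : act 6 n7265 = n15376 := rfl
def n15377 : Q := act 0 n7266
theorem D15377 : act 0 n7266 = n15377 := rfl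
def n15378 : Q := act 1 n7266
theorem D15378 : act 1 n7266 = n15378 := rfl
def n15379 : Q := act 5 n7266
theorem D15379 : act 5 n7266 = n15379 := rfl
theorem F24952 : act 3 n15379 = n8726 := d6_1 D15379 (iv5 D8726) (iv3 F11573)
theorem F24953 : act 0 n10726 = n15379 := d19_0 (iv5 D15379) (iv4 D7266) F5328 (iv1 F4490) F4488 F2426 F1469 (iv1 F1329) F1331 F926 (iv3 D594) (iv1 F522) (iv5 F940) (iv4 F1138) D944 D1795 (iv5 F7323) D4994 (iv3 F17251)
def n15380 : Q := act 6 n7266
theorem D15380 : act 6 n7266 = n15380 := rfl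
theorem F24954 : act 3 n15380 = n8727 := d7_1 D15380 (iv6 D8727) (iv3 F11573)
theorem F24955 : act 4 n15380 = n7267 := d10_1 D15380 (iv6 D7267) D7266
def n15381 : Q := act 0 n7267
theorem D15381 : act 0 n7267 = n15381 := rfl
def n15382 : Q := act 1 n7267
theorem D15382 : act 1 n7267 = n15382 := rfl
def n15383 : Q := act 5 n7267
theorem D15383 : act 5 n7267 = n15383 := rfl
theorem F24956 : act 3 n15383 = n7274 := d6_1 D15383 (iv5 D7274) (iv3 F11574)
theorem F24957 : act 6 n15383 = n7270 := d12_2 D7267 D15383 (iv5 D7270) (iv6 D3340) D3339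
def n15384 : Q := act 7 n7267
theorem D15384 : act 7 n7267 = n15384 := rfl
theorem F24958 : act 3 n15384 = n7275 := d8_1 D15384 (iv7 D7275) (iv3 F11574)
def n15385 : Q := act 2 n7268
theorem D15385 : act 2 n7268 = n15385 := rfl
theorem F24959 : act 7 n7269 = n15385 := d15_2 (iv0 D7268) D7269 (iv2 D15385)
def n15386 : Q := act 3 n7268
theorem D15386 : act 3 n7268 = n15386 := rfl
def n15387 : Q := act 4 n7268
theorem D15387 : act 4 n7268 = n15387 := rfl
def n15388 : Q := act 5 n7268
theorem D15388 : act 5 n7268 = n15388 := rfl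
def n15389 : Q := act 6 n7268
theorem D15389 : act 6 n7268 = n15389 := rfl
def n15390 : Q := act 7 n7268
theorem D15390 : act 7 n7268 = n15390 := rfl
theorem F24960 : act 2 n15390 = n7269 := d4_1 D15390 F24959 (iv2 D15385)
def n15395 : Q := act 0 n7270
theorem D15395 : act 0 n7270 = n15395 := rfl
def n15396 : Q := act 1 n7270
theorem D15396 : act 1 n7270 = n15396 := rfl
def n15397 : Q := act 4 n7270
theorem D15397 : act 4 n7270 = n15397 := rfl
def n15398 : Q := act 7 n7270
theorem D15398 : act 7 n7270 = n15398 := rfl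
theorem F24961 : act 3 n15398 = n7286 := d8_1 D15398 (iv7 D7286) (iv3 F11575)
theorem F24962 : act 5 n15398 = n7271 := d13_1 D15398 (iv7 D7271) D7270
def n15399 : Q := act 2 n7272
theorem D15399 : act 2 n7272 = n15399 := rfl
theorem F24963 : act 7 n7273 = n15399 := d15_2 (iv0 D7272) D7273 (iv2 D15399)
def n15400 : Q := act 3 n7272
theorem D15400 : act 3 n7272 = n15400 := rfl
def n15401 : Q := act 4 n7272
theorem D15401 : act 4 n7272 = n15401 := rfl
def n15402 : Q := act 5 n7272
theorem D15402 : act 5 n7272 = n15402 := rfl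
def n15403 : Q := act 6 n7272
theorem D15403 : act 6 n7272 = n15403 := rfl
theorem F24964 : act 5 n15403 = n14143 := d21_6 (iv5 D3335) (iv1 D1474) D1476 D3341 D7272 D15403 (iv1 D14143) F10960 (iv6 D5964) (iv1 F5326)
def n15404 : Q := act 7 n7272
theorem D15404 : act 7 n7272 = n15404 := rfl
def n15405 : Q := act 3 n7273
theorem D15405 : act 3 n7273 = n15405 := rfl
def n15406 : Q := act 4 n7273
theorem D15406 : act 4 n7273 = n15406 := rfl
def n15407 : Q := act 5 n7273
theorem D15407 : act 5 n7273 = n15407 := rfl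
def n15408 : Q := act 6 n7273
theorem D15408 : act 6 n7273 = n15408 := rfl
def n15409 : Q := act 0 n7274
theorem D15409 : act 0 n7274 = n15409 := rfl
def n15410 : Q := act 1 n7274
theorem D15410 : act 1 n7274 = n15410 := rfl
def n15411 : Q := act 4 n7274
theorem D15411 : act 4 n7274 = n15411 := rfl
theorem F24966 : act 6 n15411 = n7285 := d10_2 (iv6 F11578) D15411 (iv4 D7285)
def n15412 : Q := act 7 n7274
theorem D15412 : act 7 n7274 = n15412 := rfl
theorem F24967 : act 5 n15412 = n7275 := d13_1 D15412 (iv7 D7275) D7274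
def n15413 : Q := act 0 n7277
theorem D15413 : act 0 n7277 = n15413 := rfl
def n15414 : Q := act 1 n7277
theorem D15414 : act 1 n7277 = n15414 := rfl
def n15415 : Q := act 2 n7277
theorem D15415 : act 2 n7277 = n15415 := rfl
def n15416 : Q := act 5 n7277
theorem D15416 : act 5 n7277 = n15416 := rfl
theorem F24968 : act 3 n15416 = n7278 := d6_1 D15416 (iv5 D7278) D7277
def n15417 : Q := act 1 n7278
theorem D15417 : act 1 n7278 = n15417 := rfl
theorem F24969 : act 1 n15417 = n7281 := d15_1 D15417 (iv7 F12684) F12683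
theorem F24970 : act 7 n15417 = n12396 := d15_2 (iv0 F11582) D15417 F20634
theorem F24971 : act 5 n15417 = n12397 := d17_7 (iv1 F10523) (iv5 F10573) F10574 (iv5 D6081) (iv4 F10684) D7278 D15417 F20641 F11479
theorem F24972 : act 2 n15055 = n15417 := d2_3 F24971 F20637 (iv5 F24684)
def n15418 : Q := act 4 n7278
theorem D15418 : act 4 n7278 = n15418 := rfl
def n15419 : Q := act 6 n7278
theorem D15419 : act 6 n7278 = n15419 := rfl
def n15420 : Q := act 0 n7280
theorem D15420 : act 0 n7280 = n15420 := rfl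
def n15421 : Q := act 1 n7280
theorem D15421 : act 1 n7280 = n15421 := rfl
def n15422 : Q := act 2 n7280
theorem D15422 : act 2 n7280 = n15422 := rfl
def n15423 : Q := act 4 n7280
theorem D15423 : act 4 n7280 = n15423 := rfl
theorem F24973 : act 3 n15423 = n12857 := d5_1 D15423 (iv4 D12857) (iv3 D6084) (iv4 F10673) D7280
def n15424 : Q := act 5 n7280
theorem D15424 : act 5 n7280 = n15424 := rfl
theorem F24974 : act 3 n15424 = n7281 := d6_1 D15424 (iv5 D7281) D7280
def n15425 : Q := act 6 n7280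
theorem D15425 : act 6 n7280 = n15425 := rfl
theorem F24975 : act 3 n15425 = n7282 := d7_1 D15425 (iv6 D7282) D7280
def n15426 : Q := act 4 n7281
theorem D15426 : act 4 n7281 = n15426 := rfl
def n15427 : Q := act 6 n7281
theorem D15427 : act 6 n7281 = n15427 := rfl
def n15428 : Q := act 5 n7282
theorem D15428 : act 5 n7282 = n15428 := rfl
theorem F24976 : act 0 n15428 = n12758 := d17_2 (iv1 F21182) D15428 (iv5 D12758) (iv4 D6032) D6033 (iv0 F11350) F11348 F9377 D7639
theorem F24977 : act 1 n15428 = n12755 := d17_6 D2892 D6503 F21338 (iv5 D12860) (iv4 F11588) D15428 (iv5 D12755) F11986 F4491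
def n15429 : Q := act 3 n7283
theorem D15429 : act 3 n7283 = n15429 := rfl
def n15430 : Q := act 4 n7283
theorem D15430 : act 4 n7283 = n15430 := rfl
theorem F24978 : act 1 n15430 = n12854 := d18_6 F20642 F5302 F7954 D8178 F12943 D15430 (iv4 D12854) D12853 F21310
def n15431 : Q := act 6 n7283
theorem D15431 : act 6 n7283 = n15431 := rfl
def n15432 : Q := act 3 n7284
theorem D15432 : act 3 n7284 = n15432 := rfl
theorem F24979 : act 5 n15432 = n14108 := d6_2 (iv5 F11589) D15432 F23583
def n15433 : Q := act 4 n7284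
theorem D15433 : act 4 n7284 = n15433 := rfl
theorem F24980 : act 0 n15433 = n12854 := d18_2 (iv1 F20796) D15433 (iv4 D12854) (iv5 D6076) F4081 D2565 (iv4 F10673) F9211 (iv5 F20795)
def n15434 : Q := act 6 n7284
theorem D15434 : act 6 n7284 = n15434 := rfl
theorem F24981 : act 5 n15434 = n14109 := d12_1 D15434 (iv6 D14109) (iv5 D6706) D6707 (iv5 F11589)
def n15435 : Q := act 0 n7285
theorem D15435 : act 0 n7285 = n15435 := rfl
theorem F24982 : act 4 n15435 = n7944 := d18_3 (iv1 D7284) D7285 D15435 (iv5 F20648) (iv4 D12398) (iv0 D5900) (iv4 F9133) F11483 (iv5 F11589)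
def n15436 : Q := act 1 n7285
theorem D15436 : act 1 n7285 = n15436 := rfl
theorem F24983 : act 4 n15436 = n7945 := d18_7 (iv1 F10679) (iv4 D3352) (iv1 D1479) (iv4 F2591) D3344 D7285 D15436 F21315 F21314
def n15437 : Q := act 3 n7285
theorem D15437 : act 3 n7285 = n15437 := rfl
def n15438 : Q := act 5 n7285
theorem D15438 : act 5 n7285 = n15438 := rfl
theorem F24984 : act 4 n15438 = n7358 := d16_2 D7285 D15438 F11665 F5372 (iv5 F3968) (iv4 F9208) (iv5 F20795) (iv7 D12486) F9206
theorem F24985 : act 7 n15438 = n7357 := d16_8 (iv4 D12519) (iv5 D5952) F3981 F2134 (iv4 F2591) D3344 D7285 D15438 (iv2 F20857)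
def n15439 : Q := act 7 n7285
theorem D15439 : act 7 n7285 = n15439 := rfl
theorem F24986 : act 4 n15439 = n7286 := d11_1 D15439 (iv7 D7286) D7285
theorem F24987 : act 5 n15439 = n7357 := d13_1 D15439 (iv7 F24985) (iv5 D15438)
def n15440 : Q := act 6 n7286
theorem D15440 : act 6 n7286 = n15440 := rfl
def n15441 : Q := act 3 n7290
theorem D15441 : act 3 n7290 = n15441 := rfl
theorem F24988 : act 4 n15441 = n7292 := d5_2 D7290 D15441 (iv3 D7292) (iv4 D3348) D3347
def n15442 : Q := act 5 n7290
theorem D15442 : act 5 n7290 = n15442 := rfl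
def n15443 : Q := act 4 n7291
theorem D15443 : act 4 n7291 = n15443 := rfl
def n15444 : Q := act 0 n7292
theorem D15444 : act 0 n7292 = n15444 := rfl
def n15445 : Q := act 1 n7292
theorem D15445 : act 1 n7292 = n15445 := rfl
def n15446 : Q := act 2 n7292
theorem D15446 : act 2 n7292 = n15446 := rfl
def n15447 : Q := act 5 n7292
theorem D15447 : act 5 n7292 = n15447 := rfl
theorem F24989 : act 3 n15447 = n7293 := d6_1 D15447 (iv5 D7293) D7292
def n15448 : Q := act 1 n7293
theorem D15448 : act 1 n7293 = n15448 := rfl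
theorem F24990 : act 1 n15448 = n7302 := d15_1 D15448 (iv7 F20801) F20800
theorem F24991 : act 7 n15448 = n12414 := d15_2 (iv0 F11592) D15448 F20680
theorem F24992 : act 5 n15448 = n12415 := d17_7 (iv1 F9143) (iv5 F9387) (iv1 F9389) (iv5 D3349) D3348 D7293 D15448 F20685 (iv4 D7164)
theorem F24993 : act 2 n15125 = n15448 := d2_3 F24992 F20681 (iv5 F24731)
def n15449 : Q := act 4 n7293
theorem D15449 : act 4 n7293 = n15449 := rfl
theorem F24994 : act 0 n15449 = n15054 := d18_2 (iv1 D15448) D15449 (iv4 D15054) (iv5 D7161) F5290 (iv0 F4695) (iv4 F10694) F20684 (iv5 F24992)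
def n15450 : Q := act 6 n7293
theorem D15450 : act 6 n7293 = n15450 := rfl
def n15451 : Q := act 3 n7294
theorem D15451 : act 3 n7294 = n15451 := rfl
def n15452 : Q := act 0 n7301
theorem D15452 : act 0 n7301 = n15452 := rfl
def n15453 : Q := act 1 n7301
theorem D15453 : act 1 n7301 = n15453 := rfl
def n15454 : Q := act 2 n7301
theorem D15454 : act 2 n7301 = n15454 := rfl
def n15455 : Q := act 5 n7301
theorem D15455 : act 5 n7301 = n15455 := rfl
theorem F24995 : act 3 n15455 = n7302 := d6_1 D15455 (iv5 D7302) D7301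
def n15456 : Q := act 6 n7301
theorem D15456 : act 6 n7301 = n15456 := rfl
theorem F24996 : act 3 n15456 = n7303 := d7_1 D15456 (iv6 D7303) D7301
def n15457 : Q := act 4 n7302
theorem D15457 : act 4 n7302 = n15457 := rfl
theorem F24997 : act 1 n15457 = n15054 := d18_6 (iv1 F9212) F9208 (iv1 F3971) D3352 D7302 D15457 (iv4 D15054) (iv0 F11582) (iv5 D7278)
def n15458 : Q := act 6 n7302
theorem D15458 : act 6 n7302 = n15458 := rfl
def n15459 : Q := act 5 n7303
theorem D15459 : act 5 n7303 = n15459 := rfl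
theorem F24998 : act 0 n15459 = n12747 := d17_2 (iv1 F23112) D15459 (iv5 D12747) (iv4 F12027) D7873 (iv0 F12715) (iv5 D7966) F12449 D13687
theorem F24999 : act 1 n15459 = n12745 := d17_6 D2539 D6031 F11351 F11348 (iv4 F11601) D15459 (iv5 D12745) (iv0 D6026) F4046
def n15460 : Q := act 3 n7304
theorem D15460 : act 3 n7304 = n15460 := rfl
theorem F25000 : act 6 n15460 = n7447 := d7_2 (iv6 F11602) D15460 (iv3 D7447)
def n15461 : Q := act 0 n7305
theorem D15461 : act 0 n7305 = n15461 := rfl
theorem F25001 : act 1 n13406 = n15461 := d15_0 (iv0 D15461) F11603 D13406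
def n15462 : Q := act 1 n7305
theorem D15462 : act 1 n7305 = n15462 := rfl
def n15463 : Q := act 2 n7305
theorem D15463 : act 2 n7305 = n15463 := rfl
theorem F25003 : act 7 n15463 = n13406 := d4_2 (iv7 F11603) D15463 (iv2 D13406)
theorem F25004 : act 1 n15463 = n13404 := d15_0 (iv0 D13404) (iv7 F11603) D15463
theorem F25005 : act 1 n15462 = n13406 := d15_1 D15462 (iv7 F25003) (iv2 D15463)
theorem F25006 : act 1 n13405 = n15463 := d15_1 D13405 F25003 (iv2 D13406)
def n15464 : Q := act 5 n7305
theorem D15464 : act 5 n7305 = n15464 := rfl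
theorem F25007 : act 3 n15464 = n7306 := d6_1 D15464 (iv5 D7306) D7305
def n15465 : Q := act 6 n7305
theorem D15465 : act 6 n7305 = n15465 := rfl
def n15466 : Q := act 6 n7306
theorem D15466 : act 6 n7306 = n15466 := rfl
theorem F25011 : act 4 n15466 = n13408 := d10_1 D15466 (iv6 D13408) (iv4 F11606)
def n15473 : Q := act 0 n7310
theorem D15473 : act 0 n7310 = n15473 := rfl
def n15474 : Q := act 1 n7310
theorem D15474 : act 1 n7310 = n15474 := rfl
def n15475 : Q := act 2 n7310
theorem D15475 : act 2 n7310 = n15475 := rfl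
def n15476 : Q := act 5 n7310
theorem D15476 : act 5 n7310 = n15476 := rfl
def n15477 : Q := act 6 n7310
theorem D15477 : act 6 n7310 = n15477 := rfl
def n15490 : Q := act 5 n7318
theorem D15490 : act 5 n7318 = n15490 := rfl
theorem F25040 : act 2 n15490 = n7319 := d2_1 D15490 (iv5 D7319) D7318
def n15493 : Q := act 1 n7319
theorem D15493 : act 1 n7319 = n15493 := rfl
def n15506 : Q := act 3 n7323
theorem D15506 : act 3 n7323 = n15506 := rfl
theorem F25056 : act 6 n15506 = n14910 := d7_2 F11640 D15506 (iv3 D14910)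
def n15514 : Q := act 3 n7327
theorem D15514 : act 3 n7327 = n15514 := rfl
theorem F25068 : act 7 n15514 = n7333 := d8_2 F11655 D15514 (iv3 D7333)
def n15515 : Q := act 4 n7327
theorem D15515 : act 4 n7327 = n15515 := rfl
theorem F25069 : act 2 n15515 = n7329 := d1_1 D15515 (iv4 D7329) D7327
theorem F25070 : act 7 n15515 = n7334 := d11_2 F11655 D15515 (iv4 D7334)
def n15516 : Q := act 5 n7327
theorem D15516 : act 5 n7327 = n15516 := rfl
theorem F25071 : act 2 n15516 = n7330 := d2_1 D15516 (iv5 D7330) D7327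
theorem F25072 : act 7 n15516 = n7335 := d13_2 F11655 D15516 (iv5 D7335)
def n15518 : Q := act 0 n7328
theorem D15518 : act 0 n7328 = n15518 := rfl
def n15519 : Q := act 1 n7328
theorem D15519 : act 1 n7328 = n15519 := rfl
def n15520 : Q := act 2 n7328
theorem D15520 : act 2 n7328 = n15520 := rfl
def n15521 : Q := act 5 n7328
theorem D15521 : act 5 n7328 = n15521 := rfl
theorem F25074 : act 3 n15521 = n7330 := d6_1 D15521 (iv5 D7330) D7328
def n15522 : Q := act 6 n7328
theorem D15522 : act 6 n7328 = n15522 := rfl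
def n15523 : Q := act 7 n7328
theorem D15523 : act 7 n7328 = n15523 := rfl
def n15524 : Q := act 0 n7329
theorem D15524 : act 0 n7329 = n15524 := rfl
theorem F25077 : act 4 n15524 = n15258 := d20_2 D7329 D15524 (iv3 D15258) (iv1 D7227) (iv3 D3327) (iv4 D1471) (iv1 F1514) D809 D1487 D3367
def n15529 : Q := act 7 n7329
theorem D15529 : act 7 n7329 = n15529 := rfl
theorem F25080 : act 2 n15529 = n7334 := d4_1 D15529 (iv7 F25070) F25069
theorem F25082 : act 1 n7334 = n15524 := d15_0 (iv0 D15524) D15529 F25080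
theorem F25083 : act 0 n7333 = n15279 := d20_10 (iv4 D15279) (iv1 F11865) F11863 (iv3 F9408) (iv1 F11550) D15258 (iv4 F25077) (iv1 F25082) (iv4 D7334) D7333
def n15530 : Q := act 0 n7330
theorem D15530 : act 0 n7330 = n15530 := rfl
def n15531 : Q := act 1 n7330
theorem D15531 : act 1 n7330 = n15531 := rfl
theorem F25084 : act 1 n15531 = n7335 := d15_1 D15531 (iv7 F25072) F25071
def n15532 : Q := act 4 n7330
theorem D15532 : act 4 n7330 = n15532 := rfl
def n15533 : Q := act 6 n7330
theorem D15533 : act 6 n7330 = n15533 := rfl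
def n15534 : Q := act 7 n7330
theorem D15534 : act 7 n7330 = n15534 := rfl
theorem F25085 : act 2 n15534 = n7335 := d4_1 D15534 (iv7 F25072) F25071
theorem F25087 : act 1 n7335 = n15530 := d15_0 (iv0 D15530) D15534 F25085
def n15540 : Q := act 1 n7333
theorem D15540 : act 1 n7333 = n15540 := rfl
def n15541 : Q := act 2 n7333
theorem D15541 : act 2 n7333 = n15541 := rfl
def n15542 : Q := act 4 n7333
theorem D15542 : act 4 n7333 = n15542 := rfl
theorem F25089 : act 0 n7738 = n15542 := d20_1 D7738 (iv4 D15542) (iv3 D7333) (iv1 D3368) (iv3 D1487) (iv4 D809) F1023 D839 D1550 D3512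
def n15543 : Q := act 5 n7333
theorem D15543 : act 5 n7333 = n15543 := rfl
theorem F25090 : act 3 n15543 = n7335 := d6_1 D15543 (iv5 D7335) D7333
def n15544 : Q := act 6 n7333
theorem D15544 : act 6 n7333 = n15544 := rfl
def n15547 : Q := act 4 n7335
theorem D15547 : act 4 n7335 = n15547 := rfl
def n15548 : Q := act 6 n7335
theorem D15548 : act 6 n7335 = n15548 := rfl
def n15553 : Q := act 4 n7337
theorem D15553 : act 4 n7337 = n15553 := rfl
theorem F25093 : act 2 n15553 = n7341 := d1_1 D15553 (iv4 D7341) (iv2 F11657)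
def n15554 : Q := act 6 n7337
theorem D15554 : act 6 n7337 = n15554 := rfl
theorem F25094 : act 2 n15554 = n7342 := d3_1 D15554 (iv6 D7342) (iv2 F11657)
def n15559 : Q := act 2 n7339
theorem D15559 : act 2 n7339 = n15559 := rfl
theorem F25101 : act 7 n7340 = n15559 := d15_2 (iv0 D7339) D7340 (iv2 D15559)
def n15560 : Q := act 3 n7339
theorem D15560 : act 3 n7339 = n15560 := rfl
def n15561 : Q := act 4 n7339
theorem D15561 : act 4 n7339 = n15561 := rfl
def n15562 : Q := act 5 n7339
theorem D15562 : act 5 n7339 = n15562 := rfl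
def n15563 : Q := act 6 n7339
theorem D15563 : act 6 n7339 = n15563 := rfl
def n15564 : Q := act 7 n7339
theorem D15564 : act 7 n7339 = n15564 := rfl
theorem F25102 : act 2 n15564 = n7340 := d4_1 D15564 F25101 (iv2 D15559)
def n15565 : Q := act 3 n7340
theorem D15565 : act 3 n7340 = n15565 := rfl
def n15566 : Q := act 4 n7340
theorem D15566 : act 4 n7340 = n15566 := rfl
def n15567 : Q := act 5 n7340
theorem D15567 : act 5 n7340 = n15567 := rfl
def n15568 : Q := act 6 n7340
theorem D15568 : act 6 n7340 = n15568 := rfl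
def n15569 : Q := act 0 n7341
theorem D15569 : act 0 n7341 = n15569 := rfl
def n15570 : Q := act 1 n7341
theorem D15570 : act 1 n7341 = n15570 := rfl
def n15571 : Q := act 5 n7341
theorem D15571 : act 5 n7341 = n15571 := rfl
theorem F25103 : act 3 n15571 = n8692 := d6_1 D15571 (iv5 D8692) (iv3 F11659)
def n15572 : Q := act 6 n7341
theorem D15572 : act 6 n7341 = n15572 := rfl
theorem F25104 : act 3 n15572 = n8693 := d7_1 D15572 (iv6 D8693) (iv3 F11659)
theorem F25105 : act 4 n15572 = n7342 := d10_1 D15572 (iv6 D7342) D7341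
def n15573 : Q := act 0 n7342
theorem D15573 : act 0 n7342 = n15573 := rfl
def n15574 : Q := act 1 n7342
theorem D15574 : act 1 n7342 = n15574 := rfl
def n15575 : Q := act 5 n7342
theorem D15575 : act 5 n7342 = n15575 := rfl
theorem F25107 : act 6 n15575 = n7345 := d12_2 D7342 D15575 (iv5 D7345) (iv6 D3371) D3370
def n15576 : Q := act 7 n7342
theorem D15576 : act 7 n7342 = n15576 := rfl
theorem F25108 : act 3 n15576 = n7350 := d8_1 D15576 (iv7 D7350) (iv3 F11660)
def n15591 : Q := act 2 n7347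
theorem D15591 : act 2 n7347 = n15591 := rfl
theorem F25113 : act 7 n7348 = n15591 := d15_2 (iv0 D7347) D7348 (iv2 D15591)
def n15592 : Q := act 3 n7347
theorem D15592 : act 3 n7347 = n15592 := rfl
def n15593 : Q := act 4 n7347
theorem D15593 : act 4 n7347 = n15593 := rfl
def n15594 : Q := act 5 n7347
theorem D15594 : act 5 n7347 = n15594 := rfl
def n15595 : Q := act 6 n7347
theorem D15595 : act 6 n7347 = n15595 := rfl
def n15596 : Q := act 7 n7347
theorem D15596 : act 7 n7347 = n15596 := rfl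
def n15597 : Q := act 3 n7348
theorem D15597 : act 3 n7348 = n15597 := rfl
def n15598 : Q := act 4 n7348
theorem D15598 : act 4 n7348 = n15598 := rfl
def n15599 : Q := act 5 n7348
theorem D15599 : act 5 n7348 = n15599 := rfl
def n15600 : Q := act 6 n7348
theorem D15600 : act 6 n7348 = n15600 := rfl
def n15602 : Q := act 1 n7349
theorem D15602 : act 1 n7349 = n15602 := rfl
def n15604 : Q := act 7 n7349
theorem D15604 : act 7 n7349 = n15604 := rfl
theorem F25116 : act 5 n15604 = n7350 := d13_1 D15604 (iv7 D7350) D7349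
def n15608 : Q := act 4 n7351
theorem D15608 : act 4 n7351 = n15608 := rfl
theorem F25117 : act 3 n15608 = n8154 := d5_1 D15608 (iv4 D8154) (iv3 F8768) (iv4 F10660) D7351
def n15610 : Q := act 0 n7352
theorem D15610 : act 0 n7352 = n15610 := rfl
theorem F25119 : act 5 n15610 = n12759 := d17_3 D3373 D7352 D15610 F21188 F9387 F9143 F5293 (iv0 D1490) (iv4 F2607)
def n15612 : Q := act 6 n7352
theorem D15612 : act 6 n7352 = n15612 := rfl
theorem F25121 : act 5 n15612 = n13916 := d12_1 D15612 (iv6 D13916) F10709 (iv6 F10661) D7352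
def n15618 : Q := act 6 n7354
theorem D15618 : act 6 n7354 = n15618 := rfl
theorem F25123 : act 5 n15618 = n14998 := d12_1 D15618 (iv6 D14998) F11450 (iv6 F10665) D7354
def n15620 : Q := act 4 n7355
theorem D15620 : act 4 n7355 = n15620 := rfl
theorem F25124 : act 1 n15620 = n12942 := d18_6 (iv1 F21159) F21156 (iv1 F12458) D7960 F12691 D15620 (iv4 D12942) D12941 F21501
def n15623 : Q := act 4 n7356
theorem D15623 : act 4 n7356 = n15623 := rfl
theorem F25125 : act 0 n15623 = n12942 := d18_2 (iv1 F20860) D15623 (iv4 D12942) (iv5 D6134) F4140 D2586 (iv4 F10664) F9240 (iv5 F20859)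
def n15625 : Q := act 0 n7357
theorem D15625 : act 0 n7357 = n15625 := rfl
theorem F25126 : act 4 n15625 = n8171 := d18_3 (iv1 D7356) D7357 D15625 (iv5 F20806) (iv4 D12489) (iv0 F9216) (iv4 F11858) (iv0 F12946) (iv5 F12712)
def n15626 : Q := act 1 n7357
theorem D15626 : act 1 n7357 = n15626 := rfl
theorem F25127 : act 4 n15626 = n8172 := d18_7 (iv1 F10656) (iv4 D3380) (iv1 D1491) (iv4 F2607) D3375 D7357 D15626 F21506 F21505
def n15629 : Q := act 0 n7359
theorem D15629 : act 0 n7359 = n15629 := rfl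
def n15630 : Q := act 1 n7359
theorem D15630 : act 1 n7359 = n15630 := rfl
def n15631 : Q := act 2 n7359
theorem D15631 : act 2 n7359 = n15631 := rfl
theorem F25128 : act 6 n15631 = n13855 := d3_2 (iv6 F11666) D15631 (iv2 D13855)
def n15632 : Q := act 5 n7359
theorem D15632 : act 5 n7359 = n15632 := rfl
theorem F25129 : act 3 n15632 = n7360 := d6_1 D15632 (iv5 D7360) D7359
def n15633 : Q := act 0 n7360
theorem D15633 : act 0 n7360 = n15633 := rfl
theorem F25130 : act 5 n15633 = n12748 := d17_3 (iv1 F10654) D7360 D15633 F21156 (iv5 F12935) (iv0 D8177) (iv5 D3684) (iv0 D1618) (iv4 F2801)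
theorem F25131 : act 1 n7363 = n15633 := d15_0 (iv0 D15633) (iv7 F20870) F20869
def n15634 : Q := act 1 n7360
theorem D15634 : act 1 n7360 = n15634 := rfl
theorem F25132 : act 1 n15634 = n7363 := d15_1 D15634 (iv7 F20865) F20864
theorem F25133 : act 5 n15634 = n11435 := d17_7 F5334 (iv5 D3304) D3303 F5293 D3378 D7360 D15634 F20644 (iv4 D7294)
def n15635 : Q := act 4 n7360
theorem D15635 : act 4 n7360 = n15635 := rfl
def n15636 : Q := act 6 n7360
theorem D15636 : act 6 n7360 = n15636 := rfl
theorem F25134 : act 5 n15636 = n13857 := d12_1 D15636 (iv6 D13857) (iv5 D6590) (iv6 F5374) D7360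
def n15637 : Q := act 1 n7361
theorem D15637 : act 1 n7361 = n15637 := rfl
theorem F25135 : act 1 n15637 = n8154 := d15_1 D15637 (iv7 F12948) F12947
theorem F25136 : act 7 n15637 = n11228 := d15_2 (iv0 F11667) D15637 F18242
theorem F25137 : act 4 n11230 = n15637 := d20_0 (iv1 D15637) (iv4 D7361) (iv3 D3379) (iv1 D1491) (iv3 F2601) (iv4 F5356) D7322 (iv4 F11649) F10722 (iv1 F18256)
theorem F25138 : act 2 n15637 = n12923 := d1_1 F25137 F21478 (iv2 F18251)
def n15638 : Q := act 3 n7361
theorem D15638 : act 3 n7361 = n15638 := rfl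
theorem F25139 : act 4 n15638 = n7362 := d5_2 D7361 D15638 (iv3 D7362) (iv4 D3380) D3379
def n15639 : Q := act 5 n7361
theorem D15639 : act 5 n7361 = n15639 := rfl
def n15643 : Q := act 5 n7362
theorem D15643 : act 5 n7362 = n15643 := rfl
theorem F25140 : act 3 n15643 = n7363 := d6_1 D15643 (iv5 D7363) D7362
def n15644 : Q := act 4 n7363
theorem D15644 : act 4 n7363 = n15644 := rfl
def n15645 : Q := act 6 n7363
theorem D15645 : act 6 n7363 = n15645 := rfl
theorem F25141 : act 5 n15645 = n15085 := d12_1 D15645 (iv6 D15085) F11501 F9065 D7363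
def n15648 : Q := act 3 n7364
theorem D15648 : act 3 n7364 = n15648 := rfl
theorem F25144 : act 7 n15648 = n7370 := d8_2 F11668 D15648 (iv3 D7370)
def n15649 : Q := act 4 n7364
theorem D15649 : act 4 n7364 = n15649 := rfl
theorem F25145 : act 2 n15649 = n7366 := d1_1 D15649 (iv4 D7366) D7364
theorem F25146 : act 7 n15649 = n7371 := d11_2 F11668 D15649 (iv4 D7371)
theorem F25147 : act 3 n12611 = n15649 := d8_3 F25146 (iv3 F11670) D12611
def n15650 : Q := act 6 n7364
theorem D15650 : act 6 n7364 = n15650 := rfl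
theorem F25148 : act 2 n15650 = n7368 := d3_1 D15650 (iv6 D7368) D7364
def n15651 : Q := act 0 n7365
theorem D15651 : act 0 n7365 = n15651 := rfl
def n15652 : Q := act 2 n7365
theorem D15652 : act 2 n7365 = n15652 := rfl
def n15653 : Q := act 6 n7365
theorem D15653 : act 6 n7365 = n15653 := rfl
theorem F25149 : act 3 n15653 = n7368 := d7_1 D15653 (iv6 D7368) D7365
def n15654 : Q := act 7 n7365
theorem D15654 : act 7 n7365 = n15654 := rfl
theorem F25150 : act 3 n15654 = n7369 := d8_1 D15654 (iv7 D7369) D7365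
def n15655 : Q := act 3 n7366
theorem D15655 : act 3 n7366 = n15655 := rfl
theorem F25151 : act 2 n15655 = n12612 := d0_1 D15655 (iv3 D12612) (iv2 F20999) F25147 F25145
theorem F25152 : act 0 n15655 = n12690 := d20_10 F21089 (iv1 D11134) F7576 (iv3 D2109) F1939 D1493 F2609 D3381 D7366 D15655
def n15656 : Q := act 5 n7366
theorem D15656 : act 5 n7366 = n15656 := rfl
theorem F25153 : act 4 n15656 = n15377 := d18_5 (iv1 D3382) F2609 D3381 D7366 D15656 (iv0 D15377) (iv4 D7266) D7265 F24947
def n15657 : Q := act 6 n7366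
theorem D15657 : act 6 n7366 = n15657 := rfl
theorem F25154 : act 4 n15657 = n7368 := d10_1 D15657 (iv6 D7368) D7366
def n15658 : Q := act 7 n7366
theorem D15658 : act 7 n7366 = n15658 := rfl
theorem F25155 : act 2 n15658 = n7371 := d4_1 D15658 (iv7 F25146) F25145
theorem F25156 : act 4 n15658 = n7369 := d11_1 D15658 (iv7 D7369) D7366
def n15659 : Q := act 0 n7368
theorem D15659 : act 0 n7368 = n15659 := rfl
def n15660 : Q := act 1 n7368
theorem D15660 : act 1 n7368 = n15660 := rfl
def n15661 : Q := act 5 n7368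
theorem D15661 : act 5 n7368 = n15661 := rfl
def n15662 : Q := act 7 n7368
theorem D15662 : act 7 n7368 = n15662 := rfl
def n15663 : Q := act 6 n7369
theorem D15663 : act 6 n7369 = n15663 := rfl
theorem F25157 : act 2 n15663 = n7373 := d3_1 D15663 (iv6 D7373) (iv2 F11669)
def n15664 : Q := act 1 n7370
theorem D15664 : act 1 n7370 = n15664 := rfl
def n15665 : Q := act 2 n7370
theorem D15665 : act 2 n7370 = n15665 := rfl
def n15666 : Q := act 4 n7370
theorem D15666 : act 4 n7370 = n15666 := rfl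
theorem F25158 : act 3 n15666 = n12608 := d5_1 D15666 (iv4 D12608) F11670 (iv4 D7371) D7370
theorem F25159 : act 0 n12691 = n15666 := d20_1 D12691 (iv4 D15666) (iv3 D7370) (iv1 D3382) (iv3 D1493) (iv4 D811) (iv1 F1339) (iv4 F2159) (iv3 F4031) (iv1 F9336)
theorem F25160 : act 0 n15666 = n12686 := d20_10 (iv4 D12686) (iv1 F9335) (iv4 F8904) F8903 (iv1 F5542) (iv3 F9313) (iv4 D5992) D5989 D12608 (iv3 F25158)
def n15667 : Q := act 6 n7370
theorem D15667 : act 6 n7370 = n15667 := rfl
theorem F25161 : act 3 n15667 = n7373 := d7_1 D15667 (iv6 D7373) D7370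
def n15668 : Q := act 5 n7371
theorem D15668 : act 5 n7371 = n15668 := rfl
theorem F25162 : act 3 n15668 = n12609 := d6_1 D15668 (iv5 D12609) F11670
def n15669 : Q := act 6 n7371
theorem D15669 : act 6 n7371 = n15669 := rfl
theorem F25163 : act 3 n15669 = n12610 := d7_1 D15669 (iv6 D12610) F11670
theorem F25164 : act 4 n15669 = n7373 := d10_1 D15669 (iv6 D7373) D7371
def n15670 : Q := act 0 n7373
theorem D15670 : act 0 n7373 = n15670 := rfl
def n15673 : Q := act 7 n7373
theorem D15673 : act 7 n7373 = n15673 := rfl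
def n15674 : Q := act 4 n7374
theorem D15674 : act 4 n7374 = n15674 := rfl
theorem F25165 : act 2 n15674 = n7377 := d1_1 D15674 (iv4 D7377) (iv2 F11671)
def n15675 : Q := act 6 n7374
theorem D15675 : act 6 n7374 = n15675 := rfl
theorem F25166 : act 2 n15675 = n7378 := d3_1 D15675 (iv6 D7378) (iv2 F11671)
def n15676 : Q := act 2 n7375
theorem D15676 : act 2 n7375 = n15676 := rfl
theorem F25167 : act 7 n7376 = n15676 := d15_2 (iv0 D7375) D7376 (iv2 D15676)
def n15677 : Q := act 3 n7375
theorem D15677 : act 3 n7375 = n15677 := rfl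
def n15678 : Q := act 4 n7375
theorem D15678 : act 4 n7375 = n15678 := rfl
def n15679 : Q := act 5 n7375
theorem D15679 : act 5 n7375 = n15679 := rfl
def n15680 : Q := act 6 n7375
theorem D15680 : act 6 n7375 = n15680 := rfl
def n15681 : Q := act 7 n7375
theorem D15681 : act 7 n7375 = n15681 := rfl
theorem F25168 : act 2 n15681 = n7376 := d4_1 D15681 F25167 (iv2 D15676)
def n15682 : Q := act 3 n7376
theorem D15682 : act 3 n7376 = n15682 := rfl
def n15683 : Q := act 4 n7376
theorem D15683 : act 4 n7376 = n15683 := rfl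
def n15684 : Q := act 5 n7376
theorem D15684 : act 5 n7376 = n15684 := rfl
def n15685 : Q := act 6 n7376
theorem D15685 : act 6 n7376 = n15685 := rfl
def n15686 : Q := act 0 n7377
theorem D15686 : act 0 n7377 = n15686 := rfl
def n15687 : Q := act 1 n7377
theorem D15687 : act 1 n7377 = n15687 := rfl
def n15688 : Q := act 5 n7377
theorem D15688 : act 5 n7377 = n15688 := rfl
theorem F25169 : act 3 n15688 = n8509 := d6_1 D15688 (iv5 D8509) (iv3 F11672)
def n15689 : Q := act 6 n7377
theorem D15689 : act 6 n7377 = n15689 := rfl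
theorem F25170 : act 3 n15689 = n8510 := d7_1 D15689 (iv6 D8510) (iv3 F11672)
theorem F25171 : act 4 n15689 = n7378 := d10_1 D15689 (iv6 D7378) D7377
def n15690 : Q := act 0 n7378
theorem D15690 : act 0 n7378 = n15690 := rfl
def n15691 : Q := act 1 n7378
theorem D15691 : act 1 n7378 = n15691 := rfl
def n15692 : Q := act 7 n7378
theorem D15692 : act 7 n7378 = n15692 := rfl
theorem F25172 : act 3 n15692 = n7385 := d8_1 D15692 (iv7 D7385) (iv3 F11673)
def n15693 : Q := act 0 n7379
theorem D15693 : act 0 n7379 = n15693 := rfl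
theorem F25173 : act 1 n15287 = n15693 := d15_0 (iv0 D15693) F11675 (iv2 F24874)
def n15694 : Q := act 1 n7379
theorem D15694 : act 1 n7379 = n15694 := rfl
def n15695 : Q := act 2 n7379
theorem D15695 : act 2 n7379 = n15695 := rfl
theorem F25174 : act 3 n15695 = n15314 := d0_2 D7379 D15695 F24895 F11565 F5380
theorem F25175 : act 5 n15695 = n7642 := d2_2 (iv5 F11674) D15695 (iv2 D7642)
theorem F25176 : act 7 n15695 = n15287 := d4_2 (iv7 F11675) D15695 F24874
theorem F25178 : act 1 n15694 = n15287 := d15_1 D15694 (iv7 F25176) (iv2 D15695)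
theorem F25179 : act 1 n15290 = n15695 := d15_1 D15290 F25176 F24874
def n15696 : Q := act 4 n7379
theorem D15696 : act 4 n7379 = n15696 := rfl
theorem F25180 : act 3 n15696 = n7998 := d5_1 D15696 (iv4 D7998) F5655 (iv4 F5378) D7379
theorem F25181 : act 7 n15696 = n15291 := d11_2 (iv7 F11675) D15696 (iv4 D15291)
def n15697 : Q := act 6 n7379
theorem D15697 : act 6 n7379 = n15697 := rfl
theorem F25182 : act 3 n15697 = n7380 := d7_1 D15697 (iv6 D7380) D7379
def n15698 : Q := act 0 n7380
theorem D15698 : act 0 n7380 = n15698 := rfl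
def n15699 : Q := act 1 n7380
theorem D15699 : act 1 n7380 = n15699 := rfl
theorem F25183 : act 1 n15699 = n15324 := d15_1 D15699 (iv7 D15324) (iv2 F11676)
def n15700 : Q := act 7 n7380
theorem D15700 : act 7 n7380 = n15700 := rfl
theorem F25184 : act 2 n15700 = n15324 := d4_1 D15700 (iv7 D15324) (iv2 F11676)
theorem F25185 : act 4 n15700 = n8006 := d11_1 D15700 (iv7 D8006) (iv4 F11677)
theorem F25186 : act 6 n15700 = n15300 := d14_1 D15700 (iv7 D15300) (iv6 D7241) F5381 D7380
theorem F25187 : act 1 n15324 = n15698 := d15_0 (iv0 D15698) D15700 F25184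
theorem F25188 : act 1 n15323 = n15700 := d15_1 D15323 (iv7 D15700) F11676
theorem F25189 : act 1 n15700 = n15322 := d15_0 (iv0 D15322) D15324 (iv2 F25184)
def n15701 : Q := act 0 n7381
theorem D15701 : act 0 n7381 = n15701 := rfl
theorem F25190 : act 1 n15314 = n15701 := d15_0 (iv0 D15701) F11679 (iv2 F24895)
def n15702 : Q := act 1 n7381
theorem D15702 : act 1 n7381 = n15702 := rfl
def n15703 : Q := act 2 n7381
theorem D15703 : act 2 n7381 = n15703 := rfl
theorem F25191 : act 3 n15703 = n15287 := d0_2 D7381 D15703 F24874 F11558 F5386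
theorem F25192 : act 5 n15703 = n7922 := d2_2 (iv5 F11678) D15703 (iv2 D7922)
theorem F25193 : act 7 n15703 = n15314 := d4_2 (iv7 F11679) D15703 F24895
theorem F25194 : act 1 n15703 = n15318 := d15_0 (iv0 D15318) (iv7 F11679) D15703
theorem F25195 : act 1 n15702 = n15314 := d15_1 D15702 (iv7 F25193) (iv2 D15703)
theorem F25196 : act 1 n15319 = n15703 := d15_1 D15319 F25193 F24895
def n15704 : Q := act 4 n7381
theorem D15704 : act 4 n7381 = n15704 := rfl
theorem F25197 : act 3 n15704 = n8012 := d5_1 D15704 (iv4 D8012) F5661 (iv4 F5385) D7381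
theorem F25198 : act 7 n15704 = n15320 := d11_2 (iv7 F11679) D15704 (iv4 D15320)
def n15705 : Q := act 6 n7381
theorem D15705 : act 6 n7381 = n15705 := rfl
theorem F25199 : act 3 n15705 = n7382 := d7_1 D15705 (iv6 D7382) D7381
def n15706 : Q := act 0 n7382
theorem D15706 : act 0 n7382 = n15706 := rfl
def n15707 : Q := act 1 n7382
theorem D15707 : act 1 n7382 = n15707 := rfl
theorem F25200 : act 1 n15707 = n15300 := d15_1 D15707 (iv7 D15300) (iv2 F11680)
def n15708 : Q := act 5 n7382
theorem D15708 : act 5 n7382 = n15708 := rfl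
theorem F25201 : act 2 n15708 = n15299 := d2_1 D15708 (iv5 D15299) (iv2 F11680)
theorem F25202 : act 6 n15708 = n7926 := d12_2 D7382 D15708 (iv5 D7926) (iv6 D3587) (iv5 F5384)
def n15709 : Q := act 7 n7382
theorem D15709 : act 7 n7382 = n15709 := rfl
theorem F25203 : act 2 n15709 = n15300 := d4_1 D15709 (iv7 D15300) (iv2 F11680)
theorem F25204 : act 4 n15709 = n8016 := d11_1 D15709 (iv7 D8016) (iv4 F11681)
theorem F25205 : act 6 n15709 = n15324 := d14_1 D15709 (iv7 D15324) (iv6 D7251) (iv7 F5383) D7382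
theorem F25206 : act 1 n15300 = n15706 := d15_0 (iv0 D15706) D15709 F25203
theorem F25207 : act 1 n15298 = n15709 := d15_1 D15298 (iv7 D15709) F11680
theorem F25208 : act 1 n15709 = n15297 := d15_0 (iv0 D15297) D15300 (iv2 F25203)
def n15710 : Q := act 2 n7383
theorem D15710 : act 2 n7383 = n15710 := rfl
theorem F25209 : act 7 n7384 = n15710 := d15_2 (iv0 D7383) D7384 (iv2 D15710)
def n15711 : Q := act 3 n7383
theorem D15711 : act 3 n7383 = n15711 := rfl
def n15712 : Q := act 4 n7383
theorem D15712 : act 4 n7383 = n15712 := rfl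
def n15713 : Q := act 5 n7383
theorem D15713 : act 5 n7383 = n15713 := rfl
def n15714 : Q := act 6 n7383
theorem D15714 : act 6 n7383 = n15714 := rfl
theorem F25210 : act 5 n15714 = n15602 := d21_6 (iv5 D2110) F1939 D1494 D3387 D7383 D15714 (iv1 D15602) (iv5 D7349) (iv6 D3372) (iv1 F3439)
def n15715 : Q := act 7 n7383
theorem D15715 : act 7 n7383 = n15715 := rfl
theorem F25211 : act 2 n15715 = n7384 := d4_1 D15715 F25209 (iv2 D15710)
def n15716 : Q := act 3 n7384
theorem D15716 : act 3 n7384 = n15716 := rfl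
def n15717 : Q := act 4 n7384
theorem D15717 : act 4 n7384 = n15717 := rfl
def n15718 : Q := act 5 n7384
theorem D15718 : act 5 n7384 = n15718 := rfl
def n15719 : Q := act 6 n7384
theorem D15719 : act 6 n7384 = n15719 := rfl
def n15720 : Q := act 2 n7386
theorem D15720 : act 2 n7386 = n15720 := rfl
theorem F25212 : act 7 n7387 = n15720 := d15_2 (iv0 D7386) D7387 (iv2 D15720)
def n15723 : Q := act 7 n7386
theorem D15723 : act 7 n7386 = n15723 := rfl
def n15725 : Q := act 5 n7387
theorem D15725 : act 5 n7387 = n15725 := rfl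
def n15735 : Q := act 5 n7390
theorem D15735 : act 5 n7390 = n15735 := rfl
theorem F25220 : act 3 n15735 = n7394 := d6_1 D15735 (iv5 D7394) (iv3 F11686)
def n15739 : Q := act 5 n7391
theorem D15739 : act 5 n7391 = n15739 := rfl
theorem F25225 : act 6 n15739 = n7394 := d12_2 D7391 D15739 (iv5 D7394) (iv6 D3390) D3389
def n15743 : Q := act 6 n7392
theorem D15743 : act 6 n7392 = n15743 := rfl
theorem F25231 : act 4 n15743 = n7400 := d10_1 D15743 (iv6 D7400) (iv4 F12651)
def n15747 : Q := act 0 n7394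
theorem D15747 : act 0 n7394 = n15747 := rfl
def n15748 : Q := act 1 n7394
theorem D15748 : act 1 n7394 = n15748 := rfl
def n15749 : Q := act 4 n7394
theorem D15749 : act 4 n7394 = n15749 := rfl
def n15750 : Q := act 7 n7394
theorem D15750 : act 7 n7394 = n15750 := rfl
theorem F25244 : act 5 n15750 = n7395 := d13_1 D15750 (iv7 D7395) D7394
theorem F25246 : act 1 n15748 = n15750 := d15_1 D15748 (iv7 D15750) F11689
def n15751 : Q := act 5 n7397
theorem D15751 : act 5 n7397 = n15751 := rfl
theorem F25247 : act 2 n15751 = n13531 := d2_1 D15751 (iv5 F22682) (iv2 F20139)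
theorem F25248 : act 3 n15751 = n7399 := d6_1 D15751 (iv5 D7399) D7397
theorem F25249 : act 7 n15751 = n7911 := d13_2 (iv7 F20132) D15751 F12661
theorem F25250 : act 0 n15751 = n11205 := d21_1 D15751 (iv5 F18429) (iv6 D11296) (iv1 D5215) F3504 F2748 F2636 D1556 D3522 (iv1 F12681)
theorem F25251 : act 0 n11269 = n15751 := d21_10 (iv5 D15751) (iv1 F18264) F18261 F18262 (iv1 F18183) (iv6 F18401) (iv5 F18398) (iv1 D6437) (iv5 F9966) D11269
def n15752 : Q := act 6 n7397
theorem D15752 : act 6 n7397 = n15752 := rfl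
theorem F25252 : act 2 n15752 = n7915 := d3_1 D15752 (iv6 F18257) (iv2 F20139)
theorem F25254 : act 5 n15752 = n7884 := d21_6 F2748 F2636 D1556 D3522 (iv1 F12681) D15752 (iv1 D7884) (iv5 F7685) (iv6 D5165) F3463
theorem F25255 : act 0 n11288 = n15752 := d21_4 (iv5 D2140) D2138 D5207 D11288 (iv6 D15752) D15751 F25250 (iv5 F18429) (iv6 D11296) (iv1 D5215)
theorem F25256 : act 7 n7910 = n15752 := d13_0 F25254 F20145 D7910
def n15753 : Q := act 4 n7399
theorem D15753 : act 4 n7399 = n15753 := rfl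
theorem F25257 : act 2 n15753 = n15753 := d1_1 D15753 (iv4 D15753) F20135
theorem F25258 : act 5 n15753 = n15747 := d17_5 (iv1 D3392) F2614 D3391 D7399 D15753 (iv0 D15747) (iv5 D7394) D7393 F12658
theorem F25260 : act 2 n15747 = n15747 := d2_1 F25258 (iv5 F25258) F25257
theorem F25261 : act 7 n15748 = n15747 := d15_2 (iv0 D15747) D15748 F25260
theorem F25262 : act 2 n15748 = n15748 := d4_3 F25261 F25260 (iv7 F25261)
def n15754 : Q := act 6 n7399
theorem D15754 : act 6 n7399 = n15754 := rfl
theorem F25264 : act 5 n15754 = n12458 := d12_1 D15754 (iv6 D12458) (iv5 F11696) (iv6 D7400) D7399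
theorem F25265 : act 7 n15754 = n12458 := d14_2 (iv7 F20134) D15754 (iv6 D12458) F20126 (iv6 F11699)
theorem F25267 : act 0 n12753 = n15754 := d21_4 (iv5 F4652) (iv1 F10389) (iv5 F10635) (iv6 F21171) (iv6 D15754) (iv5 D7399) (iv1 F5396) F5394 F5395 (iv1 F4659)
def n15755 : Q := act 4 n7404
theorem D15755 : act 4 n7404 = n15755 := rfl
theorem F25269 : act 6 n15755 = n12453 := d10_2 (iv6 F11699) D15755 (iv4 F20749)
theorem F25270 : act 7 n15755 = n15753 := d11_2 F20134 D15755 (iv4 D15753)
theorem F25271 : act 5 n15755 = n15748 := d17_5 (iv1 F5396) F5394 (iv1 F5397) D7404 D15755 F25246 F25244 F11693 F12651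
theorem F25272 : act 1 n15755 = n12336 := d18_6 (iv1 F5396) (iv4 F11691) (iv1 F11694) F12658 D7404 D15755 F20485 (iv0 F12005) (iv5 D7399)
def n15757 : Q := act 1 n7406
theorem D15757 : act 1 n7406 = n15757 := rfl
theorem F25274 : act 1 n15757 = n7411 := d15_1 D15757 (iv7 D7411) D7406
def n15758 : Q := act 3 n7406
theorem D15758 : act 3 n7406 = n15758 := rfl
theorem F25275 : act 7 n15758 = n7412 := d8_2 F11701 D15758 (iv3 D7412)
def n15759 : Q := act 4 n7406
theorem D15759 : act 4 n7406 = n15759 := rfl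
theorem F25276 : act 2 n15759 = n7408 := d1_1 D15759 (iv4 D7408) D7406
theorem F25277 : act 7 n15759 = n7413 := d11_2 F11701 D15759 (iv4 D7413)
def n15760 : Q := act 5 n7406
theorem D15760 : act 5 n7406 = n15760 := rfl
theorem F25278 : act 2 n15760 = n7409 := d2_1 D15760 (iv5 D7409) D7406
theorem F25279 : act 7 n15760 = n7414 := d13_2 F11701 D15760 (iv5 D7414)
def n15762 : Q := act 0 n7407
theorem D15762 : act 0 n7407 = n15762 := rfl
def n15763 : Q := act 1 n7407
theorem D15763 : act 1 n7407 = n15763 := rfl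
def n15764 : Q := act 2 n7407
theorem D15764 : act 2 n7407 = n15764 := rfl
def n15765 : Q := act 5 n7407
theorem D15765 : act 5 n7407 = n15765 := rfl
theorem F25281 : act 3 n15765 = n7409 := d6_1 D15765 (iv5 D7409) D7407
def n15766 : Q := act 6 n7407
theorem D15766 : act 6 n7407 = n15766 := rfl
theorem F25282 : act 3 n15766 = n7410 := d7_1 D15766 (iv6 D7410) D7407
def n15767 : Q := act 7 n7407
theorem D15767 : act 7 n7407 = n15767 := rfl
theorem F25283 : act 3 n15767 = n7411 := d8_1 D15767 (iv7 D7411) D7407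
def n15768 : Q := act 0 n7408
theorem D15768 : act 0 n7408 = n15768 := rfl
theorem F25284 : act 4 n15768 = n12685 := d20_2 D7408 D15768 (iv3 D12685) (iv1 F9335) F4031 F2159 (iv1 F1338) D813 D1497 D3394
def n15769 : Q := act 1 n7408
theorem D15769 : act 1 n7408 = n15769 := rfl
theorem F25285 : act 1 n15769 = n7413 := d15_1 D15769 (iv7 F25277) F25276
def n15770 : Q := act 3 n7408
theorem D15770 : act 3 n7408 = n15770 := rfl
def n15773 : Q := act 7 n7408
theorem D15773 : act 7 n7408 = n15773 := rfl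
theorem F25287 : act 2 n15773 = n7413 := d4_1 D15773 (iv7 F25277) F25276
theorem F25288 : act 4 n15773 = n7411 := d11_1 D15773 (iv7 D7411) D7408
theorem F25289 : act 1 n7413 = n15768 := d15_0 (iv0 D15768) D15773 F25287
theorem F25290 : act 0 n7412 = n13636 := d20_10 (iv4 D13636) (iv1 D6486) F4482 (iv3 F4028) D6011 D12685 (iv4 F25284) (iv1 F25289) (iv4 D7413) D7412
theorem E3049 : n15664 = n12201 := ((c20_4 F11770 F25290 (iv4 D13636) (iv3 F20200) (iv1 D15664) (iv3 D7370) D7371 (iv1 F11814) F11794 (iv3 D7534) D7532)).symm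
theorem F25291 : act 0 n12201 = n7370 := (sb E3049 (iv1 D15664))
def n15775 : Q := act 1 n7409
theorem D15775 : act 1 n7409 = n15775 := rfl
theorem F25292 : act 1 n15775 = n7414 := d15_1 D15775 (iv7 F25279) F25278
def n15778 : Q := act 7 n7409
theorem D15778 : act 7 n7409 = n15778 := rfl
theorem F25294 : act 5 n15778 = n7411 := d13_1 D15778 (iv7 D7411) D7409
def n15784 : Q := act 1 n7412
theorem D15784 : act 1 n7412 = n15784 := rfl
def n15785 : Q := act 2 n7412
theorem D15785 : act 2 n7412 = n15785 := rfl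
def n15786 : Q := act 5 n7412
theorem D15786 : act 5 n7412 = n15786 := rfl
theorem F25297 : act 3 n15786 = n7414 := d6_1 D15786 (iv5 D7414) D7412
def n15787 : Q := act 6 n7412
theorem D15787 : act 6 n7412 = n15787 := rfl
theorem F25298 : act 3 n15787 = n7415 := d7_1 D15787 (iv6 D7415) D7412
def n15796 : Q := act 4 n7416
theorem D15796 : act 4 n7416 = n15796 := rfl
theorem F25300 : act 2 n15796 = n7420 := d1_1 D15796 (iv4 D7420) (iv2 F11703)
def n15797 : Q := act 6 n7416
theorem D15797 : act 6 n7416 = n15797 := rfl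
theorem F25301 : act 2 n15797 = n7421 := d3_1 D15797 (iv6 D7421) (iv2 F11703)
def n15800 : Q := act 5 n7417
theorem D15800 : act 5 n7417 = n15800 := rfl
theorem F25303 : act 2 n15800 = n7424 := d2_1 D15800 (iv5 D7424) (iv2 F11704)
def n15802 : Q := act 2 n7418
theorem D15802 : act 2 n7418 = n15802 := rfl
theorem F25309 : act 7 n7419 = n15802 := d15_2 (iv0 D7418) D7419 (iv2 D15802)
def n15803 : Q := act 3 n7418
theorem D15803 : act 3 n7418 = n15803 := rfl
def n15804 : Q := act 4 n7418
theorem D15804 : act 4 n7418 = n15804 := rfl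
def n15805 : Q := act 5 n7418
theorem D15805 : act 5 n7418 = n15805 := rfl
def n15806 : Q := act 6 n7418
theorem D15806 : act 6 n7418 = n15806 := rfl
def n15807 : Q := act 7 n7418
theorem D15807 : act 7 n7418 = n15807 := rfl
theorem F25310 : act 2 n15807 = n7419 := d4_1 D15807 F25309 (iv2 D15802)
def n15808 : Q := act 3 n7419
theorem D15808 : act 3 n7419 = n15808 := rfl
def n15809 : Q := act 4 n7419
theorem D15809 : act 4 n7419 = n15809 := rfl
def n15810 : Q := act 5 n7419
theorem D15810 : act 5 n7419 = n15810 := rfl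
def n15811 : Q := act 6 n7419
theorem D15811 : act 6 n7419 = n15811 := rfl
def n15812 : Q := act 0 n7420
theorem D15812 : act 0 n7420 = n15812 := rfl
def n15813 : Q := act 1 n7420
theorem D15813 : act 1 n7420 = n15813 := rfl
def n15814 : Q := act 5 n7420
theorem D15814 : act 5 n7420 = n15814 := rfl
theorem F25311 : act 3 n15814 = n8461 := d6_1 D15814 (iv5 D8461) (iv3 F11705)
def n15815 : Q := act 6 n7420
theorem D15815 : act 6 n7420 = n15815 := rfl
theorem F25312 : act 3 n15815 = n8462 := d7_1 D15815 (iv6 D8462) (iv3 F11705)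
theorem F25313 : act 4 n15815 = n7421 := d10_1 D15815 (iv6 D7421) D7420
def n15816 : Q := act 0 n7421
theorem D15816 : act 0 n7421 = n15816 := rfl
def n15817 : Q := act 1 n7421
theorem D15817 : act 1 n7421 = n15817 := rfl
def n15818 : Q := act 5 n7421
theorem D15818 : act 5 n7421 = n15818 := rfl
theorem F25314 : act 3 n15818 = n7428 := d6_1 D15818 (iv5 D7428) (iv3 F11706)
theorem F25315 : act 6 n15818 = n7424 := d12_2 D7421 D15818 (iv5 D7424) (iv6 D3398) D3397
def n15819 : Q := act 7 n7421
theorem D15819 : act 7 n7421 = n15819 := rfl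
theorem F25316 : act 3 n15819 = n7429 := d8_1 D15819 (iv7 D7429) (iv3 F11706)
def n15830 : Q := act 0 n7424
theorem D15830 : act 0 n7424 = n15830 := rfl
def n15831 : Q := act 1 n7424
theorem D15831 : act 1 n7424 = n15831 := rfl
def n15832 : Q := act 4 n7424
theorem D15832 : act 4 n7424 = n15832 := rfl
def n15833 : Q := act 7 n7424
theorem D15833 : act 7 n7424 = n15833 := rfl
theorem F25319 : act 3 n15833 = n7442 := d8_1 D15833 (iv7 D7442) (iv3 F11707)
def n15834 : Q := act 2 n7426
theorem D15834 : act 2 n7426 = n15834 := rfl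
theorem F25321 : act 7 n7427 = n15834 := d15_2 (iv0 D7426) D7427 (iv2 D15834)
def n15835 : Q := act 3 n7426
theorem D15835 : act 3 n7426 = n15835 := rfl
def n15836 : Q := act 4 n7426
theorem D15836 : act 4 n7426 = n15836 := rfl
def n15837 : Q := act 5 n7426
theorem D15837 : act 5 n7426 = n15837 := rfl
def n15838 : Q := act 6 n7426
theorem D15838 : act 6 n7426 = n15838 := rfl
theorem F25322 : act 5 n15838 = n15410 := d21_6 F4488 (iv1 F2427) D1498 D3399 D7426 D15838 (iv1 D15410) (iv5 D7274) (iv6 D3341) (iv1 F4490)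
def n15839 : Q := act 7 n7426
theorem D15839 : act 7 n7426 = n15839 := rfl
theorem F25323 : act 2 n15839 = n7427 := d4_1 D15839 F25321 (iv2 D15834)
def n15840 : Q := act 3 n7427
theorem D15840 : act 3 n7427 = n15840 := rfl
def n15841 : Q := act 4 n7427
theorem D15841 : act 4 n7427 = n15841 := rfl
def n15842 : Q := act 5 n7427
theorem D15842 : act 5 n7427 = n15842 := rfl
def n15843 : Q := act 6 n7427
theorem D15843 : act 6 n7427 = n15843 := rfl
def n15844 : Q := act 0 n7428
theorem D15844 : act 0 n7428 = n15844 := rfl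
def n15845 : Q := act 1 n7428
theorem D15845 : act 1 n7428 = n15845 := rfl
def n15846 : Q := act 4 n7428
theorem D15846 : act 4 n7428 = n15846 := rfl
theorem F25324 : act 6 n15846 = n7441 := d10_2 (iv6 F11710) D15846 (iv4 D7441)
def n15847 : Q := act 7 n7428
theorem D15847 : act 7 n7428 = n15847 := rfl
theorem F25325 : act 5 n15847 = n7429 := d13_1 D15847 (iv7 D7429) D7428
def n15848 : Q := act 0 n7431
theorem D15848 : act 0 n7431 = n15848 := rfl
def n15849 : Q := act 1 n7431
theorem D15849 : act 1 n7431 = n15849 := rfl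
def n15850 : Q := act 2 n7431
theorem D15850 : act 2 n7431 = n15850 := rfl
def n15851 : Q := act 4 n7431
theorem D15851 : act 4 n7431 = n15851 := rfl
theorem F25326 : act 3 n15851 = n13585 := d5_1 D15851 (iv4 D13585) (iv3 F12075) F12076 D7431
def n15852 : Q := act 5 n7431
theorem D15852 : act 5 n7431 = n15852 := rfl
theorem F25327 : act 3 n15852 = n7433 := d6_1 D15852 (iv5 D7433) D7431
def n15853 : Q := act 6 n7431
theorem D15853 : act 6 n7431 = n15853 := rfl
theorem F25328 : act 3 n15853 = n7434 := d7_1 D15853 (iv6 D7434) D7431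
def n15854 : Q := act 4 n7433
theorem D15854 : act 4 n7433 = n15854 := rfl
def n15855 : Q := act 6 n7433
theorem D15855 : act 6 n7433 = n15855 := rfl
def n15856 : Q := act 0 n7436
theorem D15856 : act 0 n7436 = n15856 := rfl
def n15857 : Q := act 1 n7436
theorem D15857 : act 1 n7436 = n15857 := rfl
def n15858 : Q := act 2 n7436
theorem D15858 : act 2 n7436 = n15858 := rfl
def n15859 : Q := act 5 n7436
theorem D15859 : act 5 n7436 = n15859 := rfl
theorem F25329 : act 3 n15859 = n7437 := d6_1 D15859 (iv5 D7437) D7436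
def n15860 : Q := act 4 n7437
theorem D15860 : act 4 n7437 = n15860 := rfl
def n15861 : Q := act 6 n7437
theorem D15861 : act 6 n7437 = n15861 := rfl
def n15862 : Q := act 3 n7439
theorem D15862 : act 3 n7439 = n15862 := rfl
theorem F25330 : act 5 n15862 = n14894 := d6_2 (iv5 F12083) D15862 (iv3 D14894)
def n15863 : Q := act 4 n7439
theorem D15863 : act 4 n7439 = n15863 := rfl
theorem F25331 : act 5 n15863 = n15860 := d16_1 D15863 (iv4 D15860) (iv5 D7437) F11585 (iv5 F9455) F11584 (iv5 F11715) F20945 (iv2 F20944)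
theorem F25332 : act 1 n15863 = n12637 := d18_6 F20531 F18708 F12084 F12081 (iv5 F12083) D15863 (iv4 D12637) D12636 F21043
def n15864 : Q := act 6 n7439
theorem D15864 : act 6 n7439 = n15864 := rfl
def n15865 : Q := act 3 n7440
theorem D15865 : act 3 n7440 = n15865 := rfl
theorem F25333 : act 5 n15865 = n14893 := d6_2 (iv5 F11715) D15865 (iv3 D14893)
def n15866 : Q := act 4 n7440
theorem D15866 : act 4 n7440 = n15866 := rfl
theorem F25334 : act 5 n15866 = n15854 := d9_2 (iv5 F11715) D15866 (iv4 D15854) (iv5 D7433) (iv4 F12076) D7768 F12081 (iv5 F12083) D15863 F25331 (iv4 D15860) (iv5 D7437) F11585 (iv5 F9455) F11584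
theorem F25335 : act 0 n15866 = n12637 := d18_2 (iv1 F20954) D15866 (iv4 D12637) (iv5 D5998) F4027 D3524 (iv4 F11585) F9286 (iv5 F20953)
def n15867 : Q := act 6 n7440
theorem D15867 : act 6 n7440 = n15867 := rfl
theorem F25336 : act 5 n15867 = n15419 := d12_1 D15867 (iv6 D15419) (iv5 D7278) (iv6 F11583) (iv5 F11715)
def n15868 : Q := act 0 n7441
theorem D15868 : act 0 n7441 = n15868 := rfl
theorem F25337 : act 4 n15868 = n7515 := d18_3 (iv1 D7440) D7441 D15868 F11755 (iv4 D7095) (iv0 F5512) (iv4 F12012) F12015 (iv5 F11715)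
def n15869 : Q := act 1 n7441
theorem D15869 : act 1 n7441 = n15869 := rfl
theorem F25338 : act 4 n15869 = n7516 := d18_7 (iv1 F11595) (iv4 D3409) (iv1 D1501) (iv4 F2616) D3402 D7441 D15869 F21048 F21047
def n15870 : Q := act 3 n7441
theorem D15870 : act 3 n7441 = n15870 := rfl
def n15871 : Q := act 5 n7441
theorem D15871 : act 5 n7441 = n15871 := rfl
theorem F25339 : act 4 n15871 = n12576 := d16_2 D7441 D15871 F20953 F9283 F4007 (iv4 F9283) (iv5 F20953) (iv7 D12576) F9281
theorem F25340 : act 7 n15871 = n12575 := d16_8 (iv4 D7441) (iv5 D3402) F2616 F1527 (iv4 F2616) D3402 D7441 D15871 F20951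
theorem F25341 : act 1 n15869 = n15871 := d15_1 D15869 F25340 F20951
theorem F25342 : act 0 n15868 = n15871 := d18_2 D7515 (iv4 F25337) F25339 F20953 F9283 F4011 D3406 F11597 D3429
def n15872 : Q := act 7 n7441
theorem D15872 : act 7 n7441 = n15872 := rfl
theorem F25343 : act 2 n15872 = n15871 := d4_1 D15872 F25340 F20951
theorem F25344 : act 4 n15872 = n7442 := d11_1 D15872 (iv7 D7442) D7441
theorem F25345 : act 5 n15872 = n12575 := d13_1 D15872 (iv7 F25340) (iv5 D15871)
def n15873 : Q := act 6 n7442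
theorem D15873 : act 6 n7442 = n15873 := rfl
theorem F25346 : act 5 n15873 = n14145 := d12_1 D15873 (iv6 D14145) F10963 (iv6 F5402) (iv5 F11716)
def n15874 : Q := act 0 n7447
theorem D15874 : act 0 n7447 = n15874 := rfl
def n15875 : Q := act 1 n7447
theorem D15875 : act 1 n7447 = n15875 := rfl
def n15876 : Q := act 2 n7447
theorem D15876 : act 2 n7447 = n15876 := rfl
def n15877 : Q := act 5 n7447
theorem D15877 : act 5 n7447 = n15877 := rfl
theorem F25347 : act 3 n15877 = n7448 := d6_1 D15877 (iv5 D7448) D7447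
def n15878 : Q := act 0 n7448
theorem D15878 : act 0 n7448 = n15878 := rfl
theorem F25348 : act 5 n15878 = n11442 := d17_3 (iv1 F11597) D7448 D15878 F18708 F8098 D6441 (iv5 F10500) (iv0 D2881) (iv4 F2622)
theorem F25349 : act 1 n7454 = n15878 := d15_0 (iv0 D15878) (iv7 F20962) F20961
theorem F25350 : act 7 n13537 = n15878 := d13_0 F25348 F18709 D13537
def n15879 : Q := act 1 n7448
theorem D15879 : act 1 n7448 = n15879 := rfl
theorem F25351 : act 1 n15879 = n7454 := d15_1 D15879 (iv7 F20958) F20957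
theorem F25352 : act 5 n15879 = n11171 := d17_7 (iv1 D5877) (iv5 F5510) F5512 (iv5 F5032) D3406 D7448 D15879 (iv0 F20535) (iv4 D12356)
theorem F25353 : act 2 n13537 = n15879 := d2_3 F25352 F18129 D13537
def n15880 : Q := act 4 n7448
theorem D15880 : act 4 n7448 = n15880 := rfl
theorem F25354 : act 5 n15880 = n15869 := d16_1 D15880 F25338 F11756 (iv4 D7092) F5029 D3409 D7454 (iv7 F20958) F20957
def n15881 : Q := act 6 n7448
theorem D15881 : act 6 n7448 = n15881 := rfl
def n15882 : Q := act 3 n7452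
theorem D15882 : act 3 n7452 = n15882 := rfl
theorem F25355 : act 4 n15882 = n7453 := d5_2 D7452 D15882 (iv3 D7453) (iv4 D3409) D3408
def n15883 : Q := act 5 n7452
theorem D15883 : act 5 n7452 = n15883 := rfl
def n15884 : Q := act 0 n7453
theorem D15884 : act 0 n7453 = n15884 := rfl
def n15885 : Q := act 1 n7453
theorem D15885 : act 1 n7453 = n15885 := rfl
def n15886 : Q := act 2 n7453
theorem D15886 : act 2 n7453 = n15886 := rfl
def n15887 : Q := act 5 n7453
theorem D15887 : act 5 n7453 = n15887 := rfl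
theorem F25356 : act 3 n15887 = n7454 := d6_1 D15887 (iv5 D7454) D7453
def n15888 : Q := act 4 n7454
theorem D15888 : act 4 n7454 = n15888 := rfl
theorem F25357 : act 5 n15888 = n15868 := d9_2 D7454 D15888 F25337 F11755 (iv4 D7095) (iv5 F5032) D3406 D7448 D15880 F25354 F25338 F11756 (iv4 D7092) F5029 D3409
def n15889 : Q := act 6 n7454
theorem D15889 : act 6 n7454 = n15889 := rfl
def n15891 : Q := act 1 n7455
theorem D15891 : act 1 n7455 = n15891 := rfl
theorem F25359 : act 1 n15891 = n7460 := d15_1 D15891 (iv7 D7460) D7455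
def n15892 : Q := act 3 n7455
theorem D15892 : act 3 n7455 = n15892 := rfl
theorem F25360 : act 7 n15892 = n7461 := d8_2 F11717 D15892 (iv3 D7461)
def n15893 : Q := act 4 n7455
theorem D15893 : act 4 n7455 = n15893 := rfl
theorem F25361 : act 2 n15893 = n7457 := d1_1 D15893 (iv4 D7457) D7455
theorem F25362 : act 7 n15893 = n7462 := d11_2 F11717 D15893 (iv4 D7462)
def n15894 : Q := act 5 n7455
theorem D15894 : act 5 n7455 = n15894 := rfl
theorem F25363 : act 2 n15894 = n7458 := d2_1 D15894 (iv5 D7458) D7455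
theorem F25364 : act 7 n15894 = n7463 := d13_2 F11717 D15894 (iv5 D7463)
def n15895 : Q := act 6 n7455
theorem D15895 : act 6 n7455 = n15895 := rfl
theorem F25365 : act 2 n15895 = n7459 := d3_1 D15895 (iv6 D7459) D7455
def n15896 : Q := act 2 n7456
theorem D15896 : act 2 n7456 = n15896 := rfl
theorem F25367 : act 7 n7548 = n15896 := d15_2 (iv0 F11772) (iv0 F11792) (iv2 D15896)
def n15897 : Q := act 5 n7456
theorem D15897 : act 5 n7456 = n15897 := rfl
theorem F25368 : act 3 n15897 = n7458 := d6_1 D15897 (iv5 D7458) D7456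
def n15898 : Q := act 6 n7456
theorem D15898 : act 6 n7456 = n15898 := rfl
theorem F25369 : act 3 n15898 = n7459 := d7_1 D15898 (iv6 D7459) D7456
theorem F25370 : act 4 n15898 = n12554 := d10_1 D15898 (iv6 D12554) (iv4 F11718)
def n15899 : Q := act 7 n7456
theorem D15899 : act 7 n7456 = n15899 := rfl
theorem F25371 : act 2 n15899 = n7548 := d4_1 D15899 F25367 (iv2 D15896)
theorem F25372 : act 3 n15899 = n7460 := d8_1 D15899 (iv7 D7460) D7456
theorem F25373 : act 4 n15899 = n12547 := d11_1 D15899 (iv7 F20903) (iv4 F11718)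
theorem F25374 : act 2 n7461 = n12647 := d0_3 F25372 F11719 D7461 (iv3 F21062) (iv2 F25371)
def n15900 : Q := act 1 n7457
theorem D15900 : act 1 n7457 = n15900 := rfl
theorem F25375 : act 1 n15900 = n7462 := d15_1 D15900 (iv7 F25362) F25361
def n15901 : Q := act 5 n7457
theorem D15901 : act 5 n7457 = n15901 := rfl
def n15902 : Q := act 6 n7457
theorem D15902 : act 6 n7457 = n15902 := rfl
theorem F25376 : act 4 n15902 = n7459 := d10_1 D15902 (iv6 D7459) D7457
def n15903 : Q := act 7 n7457
theorem D15903 : act 7 n7457 = n15903 := rfl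
theorem F25377 : act 2 n15903 = n7462 := d4_1 D15903 (iv7 F25362) F25361
theorem F25378 : act 4 n15903 = n7460 := d11_1 D15903 (iv7 D7460) D7457
theorem F25379 : act 1 n7462 = n13620 := d15_0 (iv0 F22797) D15903 F25377
def n15904 : Q := act 0 n7458
theorem D15904 : act 0 n7458 = n15904 := rfl
def n15905 : Q := act 1 n7458
theorem D15905 : act 1 n7458 = n15905 := rfl
def n15906 : Q := act 4 n7458
theorem D15906 : act 4 n7458 = n15906 := rfl
def n15907 : Q := act 6 n7458
theorem D15907 : act 6 n7458 = n15907 := rfl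
def n15908 : Q := act 7 n7458
theorem D15908 : act 7 n7458 = n15908 := rfl
theorem F25381 : act 2 n15908 = n7463 := d4_1 D15908 (iv7 F25364) F25363
theorem F25382 : act 5 n15908 = n7460 := d13_1 D15908 (iv7 D7460) D7458
theorem F25383 : act 1 n7463 = n15904 := d15_0 (iv0 D15904) D15908 F25381
def n15909 : Q := act 0 n7459
theorem D15909 : act 0 n7459 = n15909 := rfl
def n15910 : Q := act 1 n7459
theorem D15910 : act 1 n7459 = n15910 := rfl
def n15911 : Q := act 5 n7459
theorem D15911 : act 5 n7459 = n15911 := rfl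
def n15912 : Q := act 7 n7459
theorem D15912 : act 7 n7459 = n15912 := rfl
def n15913 : Q := act 6 n7460
theorem D15913 : act 6 n7460 = n15913 := rfl
theorem F25384 : act 2 n15913 = n7464 := d3_1 D15913 (iv6 D7464) (iv2 F11719)
def n15914 : Q := act 0 n7461
theorem D15914 : act 0 n7461 = n15914 := rfl
def n15915 : Q := act 1 n7461
theorem D15915 : act 1 n7461 = n15915 := rfl
def n15916 : Q := act 4 n7461
theorem D15916 : act 4 n7461 = n15916 := rfl
def n15917 : Q := act 5 n7461
theorem D15917 : act 5 n7461 = n15917 := rfl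
theorem F25385 : act 3 n15917 = n7463 := d6_1 D15917 (iv5 D7463) D7461
def n15918 : Q := act 6 n7461
theorem D15918 : act 6 n7461 = n15918 := rfl
theorem F25386 : act 3 n15918 = n7464 := d7_1 D15918 (iv6 D7464) D7461
def n15919 : Q := act 5 n7462
theorem D15919 : act 5 n7462 = n15919 := rfl
def n15920 : Q := act 6 n7462
theorem D15920 : act 6 n7462 = n15920 := rfl
theorem F25387 : act 4 n15920 = n7464 := d10_1 D15920 (iv6 D7464) D7462
def n15921 : Q := act 4 n7463
theorem D15921 : act 4 n7463 = n15921 := rfl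
def n15922 : Q := act 6 n7463
theorem D15922 : act 6 n7463 = n15922 := rfl
def n15927 : Q := act 3 n7465
theorem D15927 : act 3 n7465 = n15927 := rfl
theorem F25388 : act 2 n15927 = n11130 := d0_1 D15927 (iv3 D11130) (iv2 F7573) (iv3 F5405) (iv2 F11720)
theorem F25389 : act 7 n15927 = n12187 := d8_2 F21002 D15927 (iv3 F21001)
theorem F25390 : act 1 n12186 = n15927 := d15_1 D12186 F25389 (iv2 D12187)
theorem F25391 : act 1 n15927 = n12185 := d15_0 (iv0 D12185) (iv7 F18068) (iv2 F25388)
def n15928 : Q := act 5 n7465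
theorem D15928 : act 5 n7465 = n15928 := rfl
theorem F25392 : act 2 n15928 = n7470 := d2_1 D15928 (iv5 D7470) (iv2 F11720)
def n15929 : Q := act 6 n7465
theorem D15929 : act 6 n7465 = n15929 := rfl
theorem F25393 : act 2 n15929 = n7471 := d3_1 D15929 (iv6 D7471) (iv2 F11720)
theorem F25394 : act 4 n15929 = n7467 := d10_1 D15929 (iv6 D7467) D7465
def n15930 : Q := act 4 n7466
theorem D15930 : act 4 n7466 = n15930 := rfl
theorem F25395 : act 2 n15930 = n7474 := d1_1 D15930 (iv4 D7474) (iv2 F11721)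
def n15931 : Q := act 6 n7466
theorem D15931 : act 6 n7466 = n15931 := rfl
theorem F25396 : act 2 n15931 = n7475 := d3_1 D15931 (iv6 D7475) (iv2 F11721)
def n15932 : Q := act 0 n7467
theorem D15932 : act 0 n7467 = n15932 := rfl
def n15933 : Q := act 1 n7467
theorem D15933 : act 1 n7467 = n15933 := rfl
theorem F25397 : act 1 n15933 = n7479 := d15_1 D15933 (iv7 D7479) (iv2 F11722)
theorem F25398 : act 3 n15933 = n13902 := d20_5 (iv4 F5102) (iv1 F4391) (iv4 F5409) (iv3 F11730) (iv1 F25397) (iv4 D13902) (iv1 D6607) F4647 (iv3 D2956) D2954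
def n15934 : Q := act 5 n7467
theorem D15934 : act 5 n7467 = n15934 := rfl
theorem F25399 : act 2 n15934 = n7478 := d2_1 D15934 (iv5 D7478) (iv2 F11722)
def n15935 : Q := act 7 n7467
theorem D15935 : act 7 n7467 = n15935 := rfl
theorem F25400 : act 2 n15935 = n7479 := d4_1 D15935 (iv7 D7479) (iv2 F11722)
theorem F25401 : act 1 n7479 = n15932 := d15_0 (iv0 D15932) D15935 F25400
theorem F25402 : act 1 n7477 = n15935 := d15_1 D7477 (iv7 D15935) F11722
theorem F25403 : act 1 n15935 = n7476 := d15_0 (iv0 D7476) D7479 (iv2 F25400)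
def n15936 : Q := act 2 n7468
theorem D15936 : act 2 n7468 = n15936 := rfl
theorem F25404 : act 7 n7469 = n15936 := d15_2 (iv0 D7468) D7469 (iv2 D15936)
theorem F25405 : act 4 n15936 = n15767 := d11_1 F25404 (iv7 D15767) F11723
def n15937 : Q := act 4 n7468
theorem D15937 : act 4 n7468 = n15937 := rfl
theorem F25406 : act 2 n15937 = n15767 := d1_1 D15937 (iv4 F25405) (iv2 D15936)
theorem F25407 : act 3 n15937 = n13601 := d5_1 D15937 F22784 (iv3 D7492) D7493 (iv3 F11741)
theorem E3050 : n15785 = n13601 := ((c0_1 F25407 (iv2 D15785) (iv3 D7412) (iv2 F11702) (iv3 F25283) (iv2 F25406))).symm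
theorem F25408 : act 2 n13601 = n7412 := (sb E3050 (iv2 D15785))
theorem F25409 : act 2 n7532 = n7492 := d1_3 (iv4 F22784) F25408 (iv4 F11770)
theorem E3051 : n15758 = n13602 := ((c15_2 (iv0 D13601) D13602 F25275 (iv2 F25408))).symm
theorem F25410 : act 3 n13602 = n7406 := (sb E3051 (iv3 D15758))
theorem F25411 : act 7 n13602 = n7412 := (sb E3051 F25275)
theorem F25412 : act 0 n12672 = n15759 := d20_7 (iv4 D6477) D6474 F10550 (iv3 F9329) (iv1 F9332) D6007 D12672 (iv4 D15759) (iv3 F25410) (iv1 D13602)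
theorem E3052 : n15773 = n12532 := ((c15_2 (iv0 F25412) (iv0 F21080) (iv7 D15773) (iv2 F25276))).symm
theorem F25413 : act 2 n12532 = n7413 := (sb E3052 F25287)
theorem E3053 : n7411 = n5960 := ((((iv4 D12532)).symm.trans (sb E3052 F25288))).symm
theorem E3054 : n15757 = n3396 := ((((iv1 F9257)).symm.trans (sb E3053 (iv1 F25274)))).symm
theorem E3056 : n12530 = n3395 := ((D12530).symm.trans (sb E3053 F11702))
theorem E3057 : n15767 = n12531 := (((D12531).symm.trans (sb E3053 (iv3 F25283)))).symm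
theorem E3058 : n15778 = n12533 := (((D12533).symm.trans (sb E3053 (iv5 F25294)))).symm
theorem E3060 : n12535 = n3394 := ((D12535).symm.trans (sb E3053 (iv7 D7411)))
theorem E3061 : n7406 = n5961 := ((((iv1 F9261)).symm.trans (sb E3054 (iv1 D15757)))).symm
theorem F25415 : act 2 n3395 = n5960 := (sb E3056 (iv2 D12530))
theorem F25416 : act 2 n12531 = n15937 := (sb E3057 (iv2 F25406))
theorem E3062 : n15936 = n12620 := (((F21015).symm.trans (sb E3057 (iv4 F25405)))).symm
theorem F25417 : act 7 n12531 = n7407 := (sb E3057 (iv7 D15767))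
theorem F25419 : act 7 n12533 = n7409 := (sb E3058 (iv7 D15778))
theorem F25421 : act 7 n3394 = n5960 := (sb E3060 (iv7 D12535))
theorem F25422 : act 2 n5961 = n3394 := (sb E3061 (iv2 D7406))
theorem E3063 : n13602 = n12536 := (((D12536).symm.trans (sb E3061 (iv3 F25410)))).symm
theorem E3064 : n15759 = n12537 := (((D12537).symm.trans (sb E3061 D15759))).symm
theorem E3065 : n15760 = n12538 := (((D12538).symm.trans (sb E3061 D15760))).symm
theorem F25423 : act 7 n5961 = n3395 := (sb E3061 (iv7 F11701))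
theorem F25424 : act 2 n12620 = n7468 := (sb E3062 (iv2 D15936))
theorem F25425 : act 7 n12620 = n7469 := (sb E3062 (iv7 F25404))
theorem F25426 : act 0 n12536 = n6477 := (sb E3063 (iv1 D13602))
theorem F25427 : act 1 n12536 = n6482 := (sb E3063 F22785)
theorem F25428 : act 7 n12536 = n7412 := (sb E3063 F25411)
theorem F25429 : act 1 n12537 = n12672 := (sb E3064 (iv0 F25412))
theorem F25430 : act 2 n12537 = n7408 := (sb E3064 F25276)
theorem F25431 : act 7 n12537 = n7413 := (sb E3064 F25277)
theorem F25432 : act 2 n12538 = n7409 := (sb E3065 F25278)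
theorem E3067 : n15723 = n12525 := ((c8_2 F25431 (iv3 F20871) (iv7 D15723) (iv3 F20887))).symm
theorem F25436 : act 7 n12525 = n7386 := (sb E3067 (iv7 D15723))
theorem E3068 : n15720 = n12526 := (c15_4 (iv0 F20874) F20872 F25436 D15720)
theorem F25437 : act 2 n12526 = n7386 := (sb E3068 (iv2 D15720))
theorem F25438 : act 7 n12526 = n7387 := (sb E3068 (iv7 F25212))
theorem F25439 : act 7 n12582 = n7487 := d11_2 F25438 (iv4 F20964) F20873
theorem E3069 : n7491 = n5981 := (c8_3 F25439 (iv3 D7487) D7491 D12582)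
theorem E3070 : n12581 = n3421 := ((D12581).symm.trans (sb E3069 F11740))
theorem E3071 : n12586 = n3420 := ((D12586).symm.trans (sb E3069 (iv7 D7491)))
theorem F25440 : act 2 n3421 = n5981 := (sb E3070 (iv2 D12581))
theorem E3072 : n7486 = n5982 := ((F11739).symm.trans (sb E3070 (iv7 F20963)))
theorem F25441 : act 7 n3420 = n5981 := (sb E3071 (iv7 D12586))
theorem F25442 : act 2 n5982 = n3420 := (sb E3072 (iv2 D7486))
theorem F25443 : act 7 n5982 = n3421 := (sb E3072 (iv7 F11739))
theorem F25444 : act 7 n7492 = n12587 := d8_2 F25443 D7492 (iv3 D12587)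
theorem F25445 : act 7 n7493 = n12588 := d11_2 F25443 D7493 (iv4 D12588)
theorem F25446 : act 7 n7494 = n12589 := d13_2 F25443 D7494 (iv5 D12589)
theorem F25447 : act 7 n12619 = n7468 := d8_2 F25445 (iv3 F21012) F11741
theorem F25448 : act 2 n7469 = n12619 := d4_3 F25447 (iv2 F25424) F25425
theorem F25449 : act 7 n15937 = n13617 := d11_2 F25447 D15937 F22796
theorem E3073 : n15764 = n13617 := ((c4_1 F25449 (iv2 D15764) (iv7 F25417) F25416)).symm
theorem F25450 : act 2 n13617 = n7407 := (sb E3073 (iv2 D15764))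
theorem F25451 : act 1 n15763 = n15937 := d15_1 D15763 F25449 F25450
theorem E3074 : n13618 = n12531 := (c15_2 (iv0 D13617) D13618 F25417 (iv2 F25450))
theorem F25452 : act 0 n12531 = n6481 := (sb E3074 (iv1 D13618))
theorem E3075 : n12587 = n7533 := ((c15_2 (iv0 D7532) D7533 (iv7 F25444) (iv2 F25409))).symm
theorem F25453 : act 3 n7533 = n5982 := (sb E3075 (iv3 D12587))
theorem F25454 : act 7 n7533 = n7492 := (sb E3075 (iv7 F25444))
theorem F25455 : act 2 n7488 = n12588 := d1_3 (iv4 D12588) F25442 D7488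
theorem F25456 : act 2 n7489 = n12589 := d2_3 (iv5 D12589) F25442 D7489
theorem F25457 : act 2 n7490 = n12590 := d3_3 (iv6 D12590) F25442 D7490
theorem F25458 : act 7 n12583 = n7488 := d11_2 F25441 D12583 (iv4 D7488)
theorem F25459 : act 7 n12584 = n7489 := d13_2 F25441 D12584 (iv5 D7489)
theorem F25460 : act 2 n7494 = n12584 := d4_3 F25459 F25456 (iv7 F25446)
theorem F25461 : act 2 n7493 = n12583 := d4_3 F25458 F25455 (iv7 F25445)
theorem F25462 : act 2 n12585 = n7495 := d3_3 (iv6 D7495) F25440 D12585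
theorem F25463 : act 2 n12669 = n7487 := d1_3 F20873 F25437 (iv4 F21078)
theorem F25464 : act 2 n7533 = n7527 := d0_5 F21079 F25463 (iv3 D7487) (iv2 F25442) (iv3 F25453)
theorem E3076 : n12670 = n12582 := (c15_2 (iv0 D12669) D12670 F25439 (iv2 F25463))
theorem F25465 : act 0 n12582 = n6007 := (sb E3076 (iv1 D12670))
theorem F25466 : act 7 n7527 = n7532 := d4_2 (iv7 F25454) F25464 F25409
theorem E3077 : n7526 = n7492 := (c15_2 F11817 F11804 (iv7 F25454) F25464)
theorem F25467 : act 0 n7492 = n7537 := (sb E3077 (iv1 F11804))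
theorem F25468 : act 1 n7492 = n3433 := (sb E3077 (iv0 D7526))
theorem E3078 : n13595 = n12552 := (c20_5 (iv4 F20886) F25426 (iv4 D6477) D6476 D13595 (iv3 D12552) (iv4 F11718) F11811 (iv4 F11808) F11806 (iv1 F11817))
theorem F25469 : act 1 n12552 = n6476 := (sb E3078 (iv0 D13595))
theorem F25470 : act 1 n15937 = n15762 := d15_0 (iv0 D15762) (iv7 F25417) F25416
def n15938 : Q := act 5 n7468
theorem D15938 : act 5 n7468 = n15938 := rfl
def n15939 : Q := act 6 n7468
theorem D15939 : act 6 n7468 = n15939 := rfl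
def n15940 : Q := act 3 n7469
theorem D15940 : act 3 n7469 = n15940 := rfl
theorem F25471 : act 4 n15940 = n15770 := d5_2 F11723 D15940 (iv3 D15770) (iv4 D7408) D7407
def n15941 : Q := act 5 n7469
theorem D15941 : act 5 n7469 = n15941 := rfl
def n15942 : Q := act 6 n7469
theorem D15942 : act 6 n7469 = n15942 := rfl
theorem F25472 : act 4 n15942 = n15766 := d10_1 D15942 (iv6 D15766) F11723
def n15943 : Q := act 0 n7470
theorem D15943 : act 0 n7470 = n15943 := rfl
def n15944 : Q := act 1 n7470
theorem D15944 : act 1 n7470 = n15944 := rfl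
def n15945 : Q := act 4 n7470
theorem D15945 : act 4 n7470 = n15945 := rfl
def n15946 : Q := act 6 n7470
theorem D15946 : act 6 n7470 = n15946 := rfl
theorem F25473 : act 3 n15946 = n12182 := d7_1 D15946 (iv6 D12182) (iv3 F11724)
def n15947 : Q := act 0 n7471
theorem D15947 : act 0 n7471 = n15947 := rfl
def n15948 : Q := act 1 n7471
theorem D15948 : act 1 n7471 = n15948 := rfl
def n15949 : Q := act 5 n7471
theorem D15949 : act 5 n7471 = n15949 := rfl
theorem F25474 : act 3 n15949 = n12183 := d6_1 D15949 (iv5 D12183) (iv3 F11725)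
def n15950 : Q := act 7 n7471
theorem D15950 : act 7 n7471 = n15950 := rfl
theorem F25475 : act 3 n15950 = n12184 := d8_1 D15950 (iv7 D12184) (iv3 F11725)
theorem F25476 : act 4 n15950 = n7479 := d11_1 D15950 (iv7 D7479) (iv4 F11726)
def n15951 : Q := act 2 n7472
theorem D15951 : act 2 n7472 = n15951 := rfl
theorem F25477 : act 7 n7473 = n15951 := d15_2 (iv0 D7472) D7473 (iv2 D15951)
def n15952 : Q := act 3 n7472
theorem D15952 : act 3 n7472 = n15952 := rfl
def n15953 : Q := act 4 n7472
theorem D15953 : act 4 n7472 = n15953 := rfl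
def n15954 : Q := act 5 n7472
theorem D15954 : act 5 n7472 = n15954 := rfl
def n15955 : Q := act 6 n7472
theorem D15955 : act 6 n7472 = n15955 := rfl
def n15956 : Q := act 7 n7472
theorem D15956 : act 7 n7472 = n15956 := rfl
def n15957 : Q := act 3 n7473
theorem D15957 : act 3 n7473 = n15957 := rfl
def n15958 : Q := act 4 n7473
theorem D15958 : act 4 n7473 = n15958 := rfl
def n15959 : Q := act 5 n7473
theorem D15959 : act 5 n7473 = n15959 := rfl
def n15960 : Q := act 6 n7473
theorem D15960 : act 6 n7473 = n15960 := rfl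
def n15961 : Q := act 0 n7474
theorem D15961 : act 0 n7474 = n15961 := rfl
def n15962 : Q := act 1 n7474
theorem D15962 : act 1 n7474 = n15962 := rfl
theorem F25479 : act 4 n15803 = n15962 := d20_6 F4062 (iv1 F2726) (iv4 F2615) (iv3 F5398) D7418 D15803 (iv1 D15962) (iv4 D7474) F5406 (iv1 F4064)
def n15963 : Q := act 5 n7474
theorem D15963 : act 5 n7474 = n15963 := rfl
theorem F25480 : act 3 n15963 = n8378 := d6_1 D15963 (iv5 D8378) (iv3 F11727)
def n15964 : Q := act 6 n7474
theorem D15964 : act 6 n7474 = n15964 := rfl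
theorem F25481 : act 3 n15964 = n8379 := d7_1 D15964 (iv6 D8379) (iv3 F11727)
theorem F25482 : act 4 n15964 = n7475 := d10_1 D15964 (iv6 D7475) D7474
def n15965 : Q := act 0 n7475
theorem D15965 : act 0 n7475 = n15965 := rfl
def n15966 : Q := act 1 n7475
theorem D15966 : act 1 n7475 = n15966 := rfl
def n15967 : Q := act 5 n7475
theorem D15967 : act 5 n7475 = n15967 := rfl
theorem F25483 : act 3 n15967 = n7482 := d6_1 D15967 (iv5 D7482) (iv3 F11728)
theorem F25484 : act 6 n15967 = n7478 := d12_2 D7475 D15967 (iv5 D7478) (iv6 D3416) D3415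
def n15968 : Q := act 7 n7475
theorem D15968 : act 7 n7475 = n15968 := rfl
theorem F25485 : act 3 n15968 = n7483 := d8_1 D15968 (iv7 D7483) (iv3 F11728)
def n15969 : Q := act 2 n7476
theorem D15969 : act 2 n7476 = n15969 := rfl
theorem F25486 : act 7 n7477 = n15969 := d15_2 (iv0 D7476) D7477 (iv2 D15969)
def n15970 : Q := act 3 n7476
theorem D15970 : act 3 n7476 = n15970 := rfl
theorem F25487 : act 4 n15970 = n13905 := d20_6 (iv4 F7733) F3706 (iv4 F2620) (iv3 F5407) D7476 D15970 (iv1 F23168) F10707 F10706 (iv1 F4736)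
def n15971 : Q := act 4 n7476
theorem D15971 : act 4 n7476 = n15971 := rfl
def n15972 : Q := act 5 n7476
theorem D15972 : act 5 n7476 = n15972 := rfl
def n15973 : Q := act 6 n7476
theorem D15973 : act 6 n7476 = n15973 := rfl
def n15974 : Q := act 7 n7476
theorem D15974 : act 7 n7476 = n15974 := rfl
theorem F25488 : act 2 n15974 = n7477 := d4_1 D15974 F25486 (iv2 D15969)
def n15975 : Q := act 3 n7477
theorem D15975 : act 3 n7477 = n15975 := rfl
def n15976 : Q := act 4 n7477
theorem D15976 : act 4 n7477 = n15976 := rfl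
def n15977 : Q := act 5 n7477
theorem D15977 : act 5 n7477 = n15977 := rfl
def n15978 : Q := act 6 n7477
theorem D15978 : act 6 n7477 = n15978 := rfl
def n15979 : Q := act 0 n7478
theorem D15979 : act 0 n7478 = n15979 := rfl
def n15980 : Q := act 1 n7478
theorem D15980 : act 1 n7478 = n15980 := rfl
def n15981 : Q := act 4 n7478
theorem D15981 : act 4 n7478 = n15981 := rfl
def n15982 : Q := act 7 n7478
theorem D15982 : act 7 n7478 = n15982 := rfl
theorem F25489 : act 3 n15982 = n7485 := d8_1 D15982 (iv7 D7485) (iv3 F11729)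
theorem F25490 : act 5 n15982 = n7479 := d13_1 D15982 (iv7 D7479) D7478
def n15983 : Q := act 2 n7480
theorem D15983 : act 2 n7480 = n15983 := rfl
theorem F25491 : act 7 n7481 = n15983 := d15_2 (iv0 D7480) D7481 (iv2 D15983)
def n15984 : Q := act 3 n7480
theorem D15984 : act 3 n7480 = n15984 := rfl
def n15985 : Q := act 4 n7480
theorem D15985 : act 4 n7480 = n15985 := rfl
def n15986 : Q := act 5 n7480
theorem D15986 : act 5 n7480 = n15986 := rfl
def n15987 : Q := act 6 n7480
theorem D15987 : act 6 n7480 = n15987 := rfl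
def n15988 : Q := act 7 n7480
theorem D15988 : act 7 n7480 = n15988 := rfl
theorem F25492 : act 2 n15988 = n7481 := d4_1 D15988 F25491 (iv2 D15983)
def n15989 : Q := act 3 n7481
theorem D15989 : act 3 n7481 = n15989 := rfl
def n15990 : Q := act 4 n7481
theorem D15990 : act 4 n7481 = n15990 := rfl
def n15991 : Q := act 5 n7481
theorem D15991 : act 5 n7481 = n15991 := rfl
def n15992 : Q := act 6 n7481
theorem D15992 : act 6 n7481 = n15992 := rfl
def n15993 : Q := act 0 n7482
theorem D15993 : act 0 n7482 = n15993 := rfl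
def n15994 : Q := act 1 n7482
theorem D15994 : act 1 n7482 = n15994 := rfl
def n15995 : Q := act 4 n7482
theorem D15995 : act 4 n7482 = n15995 := rfl
theorem F25493 : act 6 n15995 = n7484 := d10_2 (iv6 F11731) D15995 (iv4 D7484)
def n15996 : Q := act 7 n7482
theorem D15996 : act 7 n7482 = n15996 := rfl
theorem F25494 : act 5 n15996 = n7483 := d13_1 D15996 (iv7 D7483) D7482
def n15997 : Q := act 3 n7484
theorem D15997 : act 3 n7484 = n15997 := rfl
theorem F25495 : act 5 n15997 = n14258 := d6_2 (iv5 F11733) D15997 F23794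
theorem F25496 : act 7 n15997 = n14257 := d8_2 F11734 D15997 F23793
def n15998 : Q := act 6 n7485
theorem D15998 : act 6 n7485 = n15998 := rfl
theorem F25497 : act 4 n15998 = n14259 := d10_1 D15998 (iv6 D14259) (iv4 F11735)
def n16000 : Q := act 1 n7487
theorem D16000 : act 1 n7487 = n16000 := rfl
def n16001 : Q := act 5 n7487
theorem D16001 : act 5 n7487 = n16001 := rfl
theorem F25498 : act 3 n16001 = n7489 := d6_1 D16001 (iv5 D7489) D7487
def n16002 : Q := act 6 n7487
theorem D16002 : act 6 n7487 = n16002 := rfl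
theorem F25499 : act 3 n16002 = n7490 := d7_1 D16002 (iv6 D7490) D7487
def n16003 : Q := act 0 n7488
theorem D16003 : act 0 n7488 = n16003 := rfl
theorem F25500 : act 1 n7493 = n16003 := d15_0 (iv0 D16003) (iv7 F25458) (iv2 F25461)
def n16004 : Q := act 1 n7488
theorem D16004 : act 1 n7488 = n16004 := rfl
theorem F25501 : act 1 n16004 = n7493 := d15_1 D16004 F25445 (iv2 F25455)
def n16005 : Q := act 3 n7488
theorem D16005 : act 3 n7488 = n16005 := rfl
theorem F25502 : act 2 n16005 = n15940 := d0_1 D16005 (iv3 D15940) F25448 F21012 (iv2 F25455)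
def n16006 : Q := act 5 n7488
theorem D16006 : act 5 n7488 = n16006 := rfl
def n16007 : Q := act 6 n7488
theorem D16007 : act 6 n7488 = n16007 := rfl
theorem F25503 : act 4 n16007 = n7490 := d10_1 D16007 (iv6 D7490) D7488
def n16008 : Q := act 0 n7489
theorem D16008 : act 0 n7489 = n16008 := rfl
theorem F25504 : act 1 n7494 = n16008 := d15_0 (iv0 D16008) (iv7 F25459) (iv2 F25460)
def n16009 : Q := act 1 n7489
theorem D16009 : act 1 n7489 = n16009 := rfl
theorem F25505 : act 1 n16009 = n7494 := d15_1 D16009 F25446 (iv2 F25456)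
def n16010 : Q := act 4 n7489
theorem D16010 : act 4 n7489 = n16010 := rfl
def n16011 : Q := act 6 n7489
theorem D16011 : act 6 n7489 = n16011 := rfl
def n16014 : Q := act 5 n7490
theorem D16014 : act 5 n7490 = n16014 := rfl
def n16015 : Q := act 7 n7490
theorem D16015 : act 7 n7490 = n16015 := rfl
def n16016 : Q := act 5 n7492
theorem D16016 : act 5 n7492 = n16016 := rfl
theorem F25506 : act 3 n16016 = n7494 := d6_1 D16016 (iv5 D7494) D7492
def n16017 : Q := act 6 n7492
theorem D16017 : act 6 n7492 = n16017 := rfl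
theorem F25507 : act 3 n16017 = n7495 := d7_1 D16017 (iv6 D7495) D7492
def n16018 : Q := act 5 n7493
theorem D16018 : act 5 n7493 = n16018 := rfl
theorem F25508 : act 3 n16018 = n15938 := d6_1 D16018 (iv5 D15938) F11741
def n16019 : Q := act 6 n7493
theorem D16019 : act 6 n7493 = n16019 := rfl
theorem F25509 : act 3 n16019 = n15939 := d7_1 D16019 (iv6 D15939) F11741
theorem F25510 : act 4 n16019 = n7495 := d10_1 D16019 (iv6 D7495) D7493
def n16020 : Q := act 4 n7494
theorem D16020 : act 4 n7494 = n16020 := rfl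
def n16021 : Q := act 6 n7494
theorem D16021 : act 6 n7494 = n16021 := rfl
def n16022 : Q := act 0 n7495
theorem D16022 : act 0 n7495 = n16022 := rfl
def n16023 : Q := act 1 n7495
theorem D16023 : act 1 n7495 = n16023 := rfl
def n16024 : Q := act 5 n7495
theorem D16024 : act 5 n7495 = n16024 := rfl
def n16025 : Q := act 7 n7495
theorem D16025 : act 7 n7495 = n16025 := rfl
def n16026 : Q := act 5 n7496
theorem D16026 : act 5 n7496 = n16026 := rfl
theorem F25511 : act 2 n16026 = n7501 := d2_1 D16026 (iv5 D7501) (iv2 F11742)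
def n16027 : Q := act 6 n7496
theorem D16027 : act 6 n7496 = n16027 := rfl
theorem F25512 : act 2 n16027 = n7502 := d3_1 D16027 (iv6 D7502) (iv2 F11742)
theorem F25513 : act 4 n16027 = n7498 := d10_1 D16027 (iv6 D7498) D7496
def n16028 : Q := act 4 n7497
theorem D16028 : act 4 n7497 = n16028 := rfl
theorem F25514 : act 2 n16028 = n7505 := d1_1 D16028 (iv4 D7505) (iv2 F11743)
def n16029 : Q := act 6 n7497
theorem D16029 : act 6 n7497 = n16029 := rfl
theorem F25515 : act 2 n16029 = n7506 := d3_1 D16029 (iv6 D7506) (iv2 F11743)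
def n16030 : Q := act 0 n7498
theorem D16030 : act 0 n7498 = n16030 := rfl
def n16031 : Q := act 1 n7498
theorem D16031 : act 1 n7498 = n16031 := rfl
theorem F25516 : act 1 n16031 = n7510 := d15_1 D16031 (iv7 D7510) (iv2 F11744)
def n16032 : Q := act 5 n7498
theorem D16032 : act 5 n7498 = n16032 := rfl
theorem F25517 : act 2 n16032 = n7509 := d2_1 D16032 (iv5 D7509) (iv2 F11744)
def n16033 : Q := act 7 n7498
theorem D16033 : act 7 n7498 = n16033 := rfl
theorem F25518 : act 2 n16033 = n7510 := d4_1 D16033 (iv7 D7510) (iv2 F11744)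
theorem F25519 : act 1 n7510 = n16030 := d15_0 (iv0 D16030) D16033 F25518
theorem F25520 : act 1 n7508 = n16033 := d15_1 D7508 (iv7 D16033) F11744
theorem F25521 : act 1 n16033 = n7507 := d15_0 (iv0 D7507) D7510 (iv2 F25518)
def n16034 : Q := act 2 n7499
theorem D16034 : act 2 n7499 = n16034 := rfl
theorem F25522 : act 7 n7500 = n16034 := d15_2 (iv0 D7499) D7500 (iv2 D16034)
theorem F25523 : act 4 n16034 = n15654 := d11_1 F25522 (iv7 D15654) F11745
def n16035 : Q := act 3 n7499
theorem D16035 : act 3 n7499 = n16035 := rfl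
def n16036 : Q := act 4 n7499
theorem D16036 : act 4 n7499 = n16036 := rfl
theorem F25524 : act 2 n16036 = n15654 := d1_1 D16036 (iv4 F25523) (iv2 D16034)
theorem F25525 : act 3 n16036 = n13596 := d20_3 D3423 D7499 D16036 (iv1 D13596) (iv3 D6476) D6477 D13601 F22784 (iv3 D7492) (iv1 D3421)
theorem E3079 : n15665 = n13596 := ((c0_1 F25525 (iv2 D15665) (iv3 D7370) (iv2 F11669) (iv3 F25150) (iv2 F25524))).symm
theorem F25526 : act 2 n13596 = n7370 := (sb E3079 (iv2 D15665))
theorem F25527 : act 7 n15652 = n16036 := d4_0 F25524 (iv7 D15654) D15652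
theorem F25528 : act 1 n16036 = n15651 := d15_0 (iv0 D15651) D15654 (iv2 F25524)
theorem F25529 : act 1 n13603 = n16036 := d15_1 (iv0 F22786) (iv7 F25527) (iv2 D15652)
theorem F25530 : act 4 n12654 = n13596 := d20_2 D6008 (iv1 F21069) (iv3 F25525) (iv1 F25529) (iv3 D13603) (iv4 D6477) D6474 F10550 (iv3 F9329) (iv1 F9332)
theorem F25531 : act 2 n15666 = n12654 := d1_3 F25530 F25526 D15666
theorem F25532 : act 7 n12653 = n15666 := d15_2 F21069 (iv0 F21068) F25531
theorem E3080 : n15903 = n12608 := ((c8_2 F25532 F25158 (iv7 D15903) F21067)).symm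
theorem F25533 : act 2 n12608 = n7462 := (sb E3080 F25377)
theorem E3081 : n7460 = n5989 := ((((iv4 D12608)).symm.trans (sb E3080 F25378))).symm
theorem F25534 : act 7 n12608 = n7457 := (sb E3080 (iv7 D15903))
theorem E3082 : n15891 = n3413 := ((((iv1 F9307)).symm.trans (sb E3081 (iv1 F25359)))).symm
theorem E3084 : n12607 = n3412 := ((D12607).symm.trans (sb E3081 F11719))
theorem E3085 : n15899 = n7371 := (((F11670).symm.trans (sb E3081 (iv3 F25372)))).symm
theorem E3086 : n15908 = n12609 := (((D12609).symm.trans (sb E3081 (iv5 F25382)))).symm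
theorem E3087 : n15913 = n12610 := (((D12610).symm.trans (sb E3081 D15913))).symm
theorem E3088 : n12611 = n3411 := ((D12611).symm.trans (sb E3081 (iv7 D7460)))
theorem E3089 : n7455 = n5990 := ((((iv1 F9311)).symm.trans (sb E3082 (iv1 D15891)))).symm
theorem F25535 : act 2 n3412 = n5989 := (sb E3084 (iv2 D12607))
theorem E3090 : n15658 = n7548 := (((iv2 F25155)).symm.trans (sb E3085 F25371))
theorem E3091 : n12547 = n3382 := ((((iv4 D7371)).symm.trans (sb E3085 F25373))).symm
theorem E3092 : n15649 = n7456 := (((iv7 F25146)).symm.trans (sb E3085 (iv7 D15899)))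
theorem F25536 : act 2 n12609 = n7463 := (sb E3086 F25381)
theorem F25537 : act 7 n12609 = n7458 := (sb E3086 (iv7 D15908))
theorem F25538 : act 2 n12610 = n7464 := (sb E3087 F25384)
theorem F25539 : act 7 n3411 = n5989 := (sb E3088 (iv7 D12611))
theorem F25540 : act 2 n5990 = n3411 := (sb E3089 (iv2 D7455))
theorem E3093 : n15892 = n12612 := (((D12612).symm.trans (sb E3089 D15892))).symm
theorem E3094 : n15893 = n12613 := (((D12613).symm.trans (sb E3089 D15893))).symm
theorem E3095 : n15894 = n12614 := (((D12614).symm.trans (sb E3089 D15894))).symm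
theorem E3096 : n15895 = n12615 := (((D12615).symm.trans (sb E3089 D15895))).symm
theorem F25541 : act 7 n5990 = n3412 := (sb E3089 (iv7 F11717))
theorem F25542 : act 2 n7548 = n7371 := (sb E3090 F25155)
theorem E3097 : n7369 = n5965 := (((F11782).symm.trans (sb E3090 F25156))).symm
theorem E3098 : n15896 = n7366 := ((F25367).symm.trans (sb E3090 (iv7 D15658)))
theorem E3099 : n7364 = n5966 := ((F11668).symm.trans (sb E3091 (iv7 F20903)))
theorem F25543 : act 7 n7456 = n7371 := (sb E3092 F25146)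
theorem F25544 : act 7 n12612 = n7461 := (sb E3093 F25360)
theorem F25545 : act 2 n12613 = n7457 := (sb E3094 F25361)
theorem F25546 : act 7 n12613 = n7462 := (sb E3094 F25362)
theorem F25547 : act 2 n12614 = n7458 := (sb E3095 F25363)
theorem F25548 : act 7 n12614 = n7463 := (sb E3095 F25364)
theorem F25549 : act 2 n12615 = n7459 := (sb E3096 F25365)
theorem F25550 : act 2 n5965 = n3382 := (sb E3097 F11669)
theorem E3102 : n15654 = n12548 := (((D12548).symm.trans (sb E3097 (iv3 F25150)))).symm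
theorem E3103 : n15373 = n12549 := (((D12549).symm.trans (sb E3097 (iv5 F24950)))).symm
theorem E3104 : n15663 = n12550 := (((D12550).symm.trans (sb E3097 D15663))).symm
theorem E3105 : n12551 = n3381 := ((D12551).symm.trans (sb E3097 (iv7 D7369)))
theorem F25551 : act 2 n7366 = n7456 := (sb E3098 (iv2 D15896))
theorem F25552 : act 7 n7366 = n7548 := (sb E3098 (iv7 F25367))
theorem E3106 : n15648 = n12552 := (((D12552).symm.trans (sb E3099 D15648))).symm
theorem E3107 : n15370 = n12553 := (((D12553).symm.trans (sb E3099 (iv5 F24945)))).symm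
theorem E3108 : n15650 = n12554 := (((D12554).symm.trans (sb E3099 D15650))).symm
theorem F25553 : act 7 n5966 = n3382 := (sb E3099 (iv7 F11668))
theorem F25554 : act 2 n12548 = n16036 := (sb E3102 (iv2 F25524))
theorem E3109 : n16034 = n12166 := (((F20904).symm.trans (sb E3102 (iv4 F25523)))).symm
theorem F25555 : act 7 n12548 = n7365 := (sb E3102 (iv7 D15654))
theorem F25556 : act 2 n12549 = n7265 := (sb E3103 F24949)
theorem F25557 : act 7 n12549 = n7264 := (sb E3103 (iv7 D15373))
theorem F25558 : act 2 n12550 = n7373 := (sb E3104 F25157)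
theorem F25559 : act 2 n3381 = n5966 := (sb E3105 F20905)
theorem F25560 : act 7 n3381 = n5965 := (sb E3105 (iv7 D12551))
theorem F25561 : act 7 n12552 = n7370 := (sb E3106 F25144)
theorem F25562 : act 2 n12553 = n7264 := (sb E3107 (iv2 D15370))
theorem F25563 : act 7 n12553 = n7265 := (sb E3107 (iv7 F24946))
theorem F25564 : act 2 n12554 = n7368 := (sb E3108 F25148)
theorem F25565 : act 2 n12166 = n7499 := (sb E3109 (iv2 D16034))
theorem F25566 : act 7 n12166 = n7500 := (sb E3109 (iv7 F25522))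
theorem F25567 : act 2 n7500 = n12165 := d15_3 (iv0 D12165) D12166 F25566
theorem F25568 : act 7 n7499 = n12165 := d4_2 (iv7 F25566) F25565 (iv2 F25567)
theorem F25569 : act 4 n12165 = n15652 := d11_1 F25568 F25527 (iv4 D16036)
theorem F25570 : act 2 n15657 = n15898 := d1_3 F25370 F25564 (iv4 F25154)
theorem F25571 : act 7 n12647 = n15655 := d8_2 F25552 F21062 (iv3 D15655)
theorem E3110 : n12646 = n12612 := ((c15_4 (iv0 D12646) D12647 F25571 F25151)).symm
theorem F25572 : act 1 n12612 = n6002 := (sb E3110 (iv0 D12646))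
theorem E3111 : n15915 = n12690 := (c15_1 D15915 (iv0 F25152) (iv7 F25571) (iv2 F25374))
theorem F25573 : act 0 n12690 = n7461 := (sb E3111 (iv1 D15915))
theorem F25574 : act 2 n15897 = n15656 := d2_3 (iv5 D15656) F25551 D15897
theorem F25575 : act 1 n15655 = n15914 := d15_0 (iv0 D15914) (iv7 F25544) (iv2 F25151)
theorem F25576 : act 7 n15668 = n15897 := d13_2 F25543 D15668 (iv5 D15897)
def n16037 : Q := act 5 n7499
theorem D16037 : act 5 n7499 = n16037 := rfl
def n16038 : Q := act 6 n7499
theorem D16038 : act 6 n7499 = n16038 := rfl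
def n16039 : Q := act 3 n7500
theorem D16039 : act 3 n7500 = n16039 := rfl
theorem F25577 : act 4 n16039 = n15655 := d5_2 F11745 D16039 (iv3 D15655) (iv4 D7366) D7365
theorem F25578 : act 4 n11133 = n15914 := d20_0 (iv1 F25575) (iv4 F25577) (iv3 D16039) (iv1 D7500) F5412 (iv4 D2879) F2422 D2086 D5090 D11133
def n16040 : Q := act 5 n7500
theorem D16040 : act 5 n7500 = n16040 := rfl
def n16041 : Q := act 6 n7500
theorem D16041 : act 6 n7500 = n16041 := rfl
theorem F25579 : act 4 n16041 = n15653 := d10_1 D16041 (iv6 D15653) F11745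
def n16042 : Q := act 0 n7501
theorem D16042 : act 0 n7501 = n16042 := rfl
def n16043 : Q := act 1 n7501
theorem D16043 : act 1 n7501 = n16043 := rfl
def n16044 : Q := act 4 n7501
theorem D16044 : act 4 n7501 = n16044 := rfl
def n16045 : Q := act 6 n7501
theorem D16045 : act 6 n7501 = n16045 := rfl
theorem F25580 : act 3 n16045 = n13580 := d7_1 D16045 (iv6 D13580) (iv3 F11746)
def n16046 : Q := act 0 n7502
theorem D16046 : act 0 n7502 = n16046 := rfl
def n16047 : Q := act 1 n7502
theorem D16047 : act 1 n7502 = n16047 := rfl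
def n16048 : Q := act 5 n7502
theorem D16048 : act 5 n7502 = n16048 := rfl
theorem F25581 : act 3 n16048 = n13583 := d6_1 D16048 (iv5 D13583) (iv3 F11747)
def n16049 : Q := act 7 n7502
theorem D16049 : act 7 n7502 = n16049 := rfl
theorem F25582 : act 3 n16049 = n13584 := d8_1 D16049 (iv7 D13584) (iv3 F11747)
theorem F25583 : act 4 n16049 = n7510 := d11_1 D16049 (iv7 D7510) (iv4 F11748)
def n16050 : Q := act 2 n7503
theorem D16050 : act 2 n7503 = n16050 := rfl
theorem F25584 : act 7 n7504 = n16050 := d15_2 (iv0 D7503) D7504 (iv2 D16050)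
def n16051 : Q := act 3 n7503
theorem D16051 : act 3 n7503 = n16051 := rfl
def n16052 : Q := act 4 n7503
theorem D16052 : act 4 n7503 = n16052 := rfl
def n16053 : Q := act 5 n7503
theorem D16053 : act 5 n7503 = n16053 := rfl
def n16054 : Q := act 6 n7503
theorem D16054 : act 6 n7503 = n16054 := rfl
def n16055 : Q := act 7 n7503
theorem D16055 : act 7 n7503 = n16055 := rfl
def n16056 : Q := act 3 n7504
theorem D16056 : act 3 n7504 = n16056 := rfl
def n16057 : Q := act 4 n7504
theorem D16057 : act 4 n7504 = n16057 := rfl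
def n16058 : Q := act 5 n7504
theorem D16058 : act 5 n7504 = n16058 := rfl
def n16059 : Q := act 6 n7504
theorem D16059 : act 6 n7504 = n16059 := rfl
def n16060 : Q := act 0 n7505
theorem D16060 : act 0 n7505 = n16060 := rfl
def n16061 : Q := act 1 n7505
theorem D16061 : act 1 n7505 = n16061 := rfl
theorem F25586 : act 4 n15677 = n16061 := d20_6 (iv4 D2559) F2199 (iv4 F2610) (iv3 F5376) D7375 D15677 (iv1 D16061) (iv4 D7505) F5413 (iv1 F4073)
def n16062 : Q := act 5 n7505
theorem D16062 : act 5 n7505 = n16062 := rfl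
theorem F25587 : act 3 n16062 = n8313 := d6_1 D16062 (iv5 D8313) (iv3 F11749)
theorem F25588 : act 0 n8564 = n16062 := d19_0 (iv5 D16062) (iv4 D7505) F5413 (iv1 F4073) F4070 F2693 F2204 (iv1 F2202) (iv5 D722) (iv4 D420) (iv3 F995) (iv1 D72) D73 D282 D565 D889 D1671 D3836 D8564
def n16063 : Q := act 6 n7505
theorem D16063 : act 6 n7505 = n16063 := rfl
theorem F25589 : act 3 n16063 = n8314 := d7_1 D16063 (iv6 D8314) (iv3 F11749)
theorem F25590 : act 4 n16063 = n7506 := d10_1 D16063 (iv6 D7506) D7505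
def n16064 : Q := act 0 n7506
theorem D16064 : act 0 n7506 = n16064 := rfl
def n16065 : Q := act 1 n7506
theorem D16065 : act 1 n7506 = n16065 := rfl
def n16066 : Q := act 5 n7506
theorem D16066 : act 5 n7506 = n16066 := rfl
theorem F25591 : act 3 n16066 = n7513 := d6_1 D16066 (iv5 D7513) (iv3 F11750)
theorem F25592 : act 6 n16066 = n7509 := d12_2 D7506 D16066 (iv5 D7509) (iv6 D3425) D3424
def n16067 : Q := act 7 n7506
theorem D16067 : act 7 n7506 = n16067 := rfl
theorem F25593 : act 3 n16067 = n7514 := d8_1 D16067 (iv7 D7514) (iv3 F11750)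
def n16068 : Q := act 2 n7507
theorem D16068 : act 2 n7507 = n16068 := rfl
theorem F25594 : act 7 n7508 = n16068 := d15_2 (iv0 D7507) D7508 (iv2 D16068)
def n16072 : Q := act 6 n7507
theorem D16072 : act 6 n7507 = n16072 := rfl
def n16073 : Q := act 7 n7507
theorem D16073 : act 7 n7507 = n16073 := rfl
theorem F25595 : act 2 n16073 = n7508 := d4_1 D16073 F25594 (iv2 D16068)
def n16074 : Q := act 3 n7508
theorem D16074 : act 3 n7508 = n16074 := rfl
def n16075 : Q := act 4 n7508
theorem D16075 : act 4 n7508 = n16075 := rfl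
def n16076 : Q := act 5 n7508
theorem D16076 : act 5 n7508 = n16076 := rfl
def n16077 : Q := act 6 n7508
theorem D16077 : act 6 n7508 = n16077 := rfl
def n16078 : Q := act 0 n7509
theorem D16078 : act 0 n7509 = n16078 := rfl
def n16079 : Q := act 1 n7509
theorem D16079 : act 1 n7509 = n16079 := rfl
def n16080 : Q := act 4 n7509
theorem D16080 : act 4 n7509 = n16080 := rfl
def n16081 : Q := act 7 n7509
theorem D16081 : act 7 n7509 = n16081 := rfl
theorem F25596 : act 3 n16081 = n7518 := d8_1 D16081 (iv7 D7518) (iv3 F11751)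
theorem F25597 : act 5 n16081 = n7510 := d13_1 D16081 (iv7 D7510) D7509
def n16082 : Q := act 2 n7511
theorem D16082 : act 2 n7511 = n16082 := rfl
theorem F25598 : act 7 n7512 = n16082 := d15_2 (iv0 D7511) D7512 (iv2 D16082)
def n16083 : Q := act 3 n7511
theorem D16083 : act 3 n7511 = n16083 := rfl
def n16084 : Q := act 4 n7511
theorem D16084 : act 4 n7511 = n16084 := rfl
def n16085 : Q := act 5 n7511
theorem D16085 : act 5 n7511 = n16085 := rfl
def n16086 : Q := act 6 n7511
theorem D16086 : act 6 n7511 = n16086 := rfl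
def n16087 : Q := act 7 n7511
theorem D16087 : act 7 n7511 = n16087 := rfl
theorem F25599 : act 2 n16087 = n7512 := d4_1 D16087 F25598 (iv2 D16082)
def n16088 : Q := act 3 n7512
theorem D16088 : act 3 n7512 = n16088 := rfl
def n16089 : Q := act 4 n7512
theorem D16089 : act 4 n7512 = n16089 := rfl
def n16090 : Q := act 5 n7512
theorem D16090 : act 5 n7512 = n16090 := rfl
def n16091 : Q := act 6 n7512
theorem D16091 : act 6 n7512 = n16091 := rfl
def n16092 : Q := act 0 n7513
theorem D16092 : act 0 n7513 = n16092 := rfl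
def n16093 : Q := act 1 n7513
theorem D16093 : act 1 n7513 = n16093 := rfl
def n16094 : Q := act 4 n7513
theorem D16094 : act 4 n7513 = n16094 := rfl
theorem F25600 : act 6 n16094 = n7517 := d10_2 (iv6 F11753) D16094 (iv4 D7517)
def n16095 : Q := act 7 n7513
theorem D16095 : act 7 n7513 = n16095 := rfl
theorem F25601 : act 5 n16095 = n7514 := d13_1 D16095 (iv7 D7514) D7513
def n16096 : Q := act 3 n7515
theorem D16096 : act 3 n7515 = n16096 := rfl
theorem F25602 : act 5 n16096 = n14900 := d6_2 (iv5 F11755) D16096 (iv3 D14900)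
def n16097 : Q := act 6 n7515
theorem D16097 : act 6 n7515 = n16097 := rfl
def n16098 : Q := act 3 n7516
theorem D16098 : act 3 n7516 = n16098 := rfl
theorem F25603 : act 5 n16098 = n14899 := d6_2 (iv5 F11756) D16098 (iv3 D14899)
def n16099 : Q := act 6 n7516
theorem D16099 : act 6 n7516 = n16099 := rfl
theorem F25604 : act 5 n16099 = n15450 := d12_1 D16099 (iv6 D15450) (iv5 D7293) (iv6 F11344) (iv5 F11756)
def n16100 : Q := act 0 n7517
theorem D16100 : act 0 n7517 = n16100 := rfl
theorem F25605 : act 4 n16100 = n12573 := d18_3 (iv1 D7516) D7517 D16100 F20943 F20521 F10499 (iv4 F12016) F18710 (iv5 F11756)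
theorem F25606 : act 2 n15863 = n16100 := d1_3 F25605 (iv2 F20944) D15863
theorem F25607 : act 7 n15866 = n16100 := d11_0 F25605 (iv7 F20945) D15866
def n16101 : Q := act 1 n7517
theorem D16101 : act 1 n7517 = n16101 := rfl
theorem F25608 : act 7 n16101 = n15863 := d15_2 (iv0 D16100) D16101 F25606
theorem F25609 : act 4 n16101 = n12574 := d18_7 (iv1 F9280) F12656 (iv1 D2882) (iv4 F2622) D3429 D7517 D16101 F20947 F11716
theorem F25610 : act 2 n15866 = n16101 := d1_3 F25609 (iv2 F20950) D15866
def n16102 : Q := act 3 n7517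
theorem D16102 : act 3 n7517 = n16102 := rfl
def n16103 : Q := act 5 n7517
theorem D16103 : act 5 n7517 = n16103 := rfl
theorem F25611 : act 4 n16103 = n12638 := d16_2 D7517 D16103 F21047 F9323 F5547 (iv4 F9323) (iv5 F21047) (iv7 D12638) F9321
theorem F25612 : act 7 n16103 = n12637 := d16_8 (iv4 D7517) (iv5 D3429) F2622 F2424 (iv4 F2622) D3429 D7517 D16103 F21045
theorem F25613 : act 0 n16103 = n16101 := d18_0 F25609 (iv1 D12574) D12575 (iv5 F25345) F25344 F20946 (iv4 F25605) (iv0 D16100) D16103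
theorem F25614 : act 1 n16103 = n16100 := d15_1 (iv0 F25613) (iv7 F25607) F25610
def n16104 : Q := act 7 n7517
theorem D16104 : act 7 n7517 = n16104 := rfl
theorem F25615 : act 2 n16104 = n16103 := d4_1 D16104 F25612 F21045
theorem F25616 : act 4 n16104 = n7518 := d11_1 D16104 (iv7 D7518) D7517
theorem F25617 : act 5 n16104 = n12637 := d13_1 D16104 (iv7 F25612) (iv5 D16103)
theorem F25618 : act 1 n15866 = n16104 := d15_1 (iv0 F25335) (iv7 D16104) (iv2 F21045)
theorem F25619 : act 1 n16104 = n15863 := d15_1 F25618 (iv7 F25608) (iv2 F25610)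
def n16105 : Q := act 6 n7518
theorem D16105 : act 6 n7518 = n16105 := rfl
def n16106 : Q := act 5 n7519
theorem D16106 : act 5 n7519 = n16106 := rfl
theorem F25620 : act 2 n16106 = n7585 := d2_1 D16106 (iv5 D7585) (iv2 F11758)
def n16107 : Q := act 5 n7522
theorem D16107 : act 5 n7522 = n16107 := rfl
theorem F25621 : act 3 n16107 = n7524 := d6_1 D16107 (iv5 D7524) D7522
theorem F25622 : act 7 n16107 = n7552 := d13_2 (iv7 F11761) D16107 (iv5 D7552)
def n16108 : Q := act 6 n7522
theorem D16108 : act 6 n7522 = n16108 := rfl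
theorem F25623 : act 3 n16108 = n7525 := d7_1 D16108 (iv6 D7525) D7522
def n16109 : Q := act 0 n7524
theorem D16109 : act 0 n7524 = n16109 := rfl
theorem F25624 : act 1 n7542 = n16109 := d15_0 (iv0 D16109) F11765 (iv2 F11778)
def n16110 : Q := act 1 n7524
theorem D16110 : act 1 n7524 = n16110 := rfl
theorem F25625 : act 1 n16110 = n7542 := d15_1 D16110 (iv7 D7542) (iv2 F11764)
def n16111 : Q := act 4 n7524
theorem D16111 : act 4 n7524 = n16111 := rfl
theorem F25626 : act 2 n16111 = n7540 := d1_1 D16111 (iv4 D7540) (iv2 F11764)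
theorem F25627 : act 7 n16111 = n7556 := d11_2 (iv7 F11765) D16111 (iv4 D7556)
def n16112 : Q := act 6 n7524
theorem D16112 : act 6 n7524 = n16112 := rfl
theorem F25628 : act 2 n16112 = n7541 := d3_1 D16112 (iv6 D7541) (iv2 F11764)
def n16113 : Q := act 0 n7525
theorem D16113 : act 0 n7525 = n16113 := rfl
def n16114 : Q := act 1 n7525
theorem D16114 : act 1 n7525 = n16114 := rfl
theorem F25629 : act 1 n16114 = n7546 := d15_1 D16114 (iv7 D7546) (iv2 F11766)
def n16115 : Q := act 5 n7525
theorem D16115 : act 5 n7525 = n16115 := rfl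
theorem F25630 : act 2 n16115 = n7545 := d2_1 D16115 (iv5 D7545) (iv2 F11766)
def n16116 : Q := act 7 n7525
theorem D16116 : act 7 n7525 = n16116 := rfl
theorem F25631 : act 2 n16116 = n7546 := d4_1 D16116 (iv7 D7546) (iv2 F11766)
theorem F25632 : act 6 n16116 = n7561 := d14_1 D16116 (iv7 D7561) (iv6 D3441) F5420 D7525
theorem F25633 : act 1 n7546 = n16113 := d15_0 (iv0 D16113) D16116 F25631
theorem F25634 : act 1 n7544 = n16116 := d15_1 D7544 (iv7 D16116) F11766
theorem F25635 : act 1 n16116 = n7543 := d15_0 (iv0 D7543) D7546 (iv2 F25631)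
def n16117 : Q := act 5 n7527
theorem D16117 : act 5 n7527 = n16117 := rfl
def n16118 : Q := act 6 n7527
theorem D16118 : act 6 n7527 = n16118 := rfl
def n16119 : Q := act 0 n7529
theorem D16119 : act 0 n7529 = n16119 := rfl
def n16120 : Q := act 1 n7529
theorem D16120 : act 1 n7529 = n16120 := rfl
def n16121 : Q := act 4 n7529
theorem D16121 : act 4 n7529 = n16121 := rfl
def n16122 : Q := act 6 n7529
theorem D16122 : act 6 n7529 = n16122 := rfl
theorem F25636 : act 3 n16122 = n7541 := d7_1 D16122 (iv6 D7541) (iv3 F11767)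
def n16123 : Q := act 0 n7530
theorem D16123 : act 0 n7530 = n16123 := rfl
def n16124 : Q := act 1 n7530
theorem D16124 : act 1 n7530 = n16124 := rfl
def n16125 : Q := act 5 n7530
theorem D16125 : act 5 n7530 = n16125 := rfl
theorem F25637 : act 3 n16125 = n7545 := d6_1 D16125 (iv5 D7545) (iv3 F11768)
def n16126 : Q := act 7 n7530
theorem D16126 : act 7 n7530 = n16126 := rfl
theorem F25638 : act 3 n16126 = n7546 := d8_1 D16126 (iv7 D7546) (iv3 F11768)
theorem F25639 : act 4 n16126 = n16116 := d11_1 D16126 (iv7 D16116) F11818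
def n16127 : Q := act 3 n7532
theorem D16127 : act 3 n7532 = n16127 := rfl
theorem F25641 : act 4 n16127 = n12525 := d5_2 (iv4 F11770) D16127 F20871 (iv4 D7413) D7412
theorem F25642 : act 7 n16127 = n12669 := d8_2 F25466 D16127 (iv3 F21079)
theorem F25643 : act 0 n12685 = n16127 := d20_4 D15666 F25160 (iv4 D12686) D12685 (iv3 D16127) F11770 F25290 (iv4 D13636) (iv3 F20200) F25291
theorem F25645 : act 1 n16000 = n16127 := d15_1 D16000 F25642 F25463
def n16128 : Q := act 5 n7532
theorem D16128 : act 5 n7532 = n16128 := rfl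
theorem F25646 : act 2 n16128 = n16016 := d2_1 D16128 (iv5 D16016) (iv2 F25409)
theorem F25647 : act 7 n16128 = n16117 := d13_2 F25466 D16128 (iv5 D16117)
theorem F25648 : act 0 n16128 = n13249 := d18_0 F22810 (iv1 D13654) (iv4 D6490) (iv5 D2887) F2425 D1510 D3439 F11776 D16128
def n16129 : Q := act 6 n7532
theorem D16129 : act 6 n7532 = n16129 := rfl
theorem F25649 : act 2 n16129 = n16017 := d3_1 D16129 (iv6 D16017) (iv2 F25409)
def n16130 : Q := act 4 n7533
theorem D16130 : act 4 n7533 = n16130 := rfl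
theorem F25651 : act 2 n16130 = n12536 := d1_1 D16130 F20886 (iv2 F25464)
theorem F25652 : act 3 n16130 = n13617 := d5_1 D16130 F22796 F21012 (iv4 D12588) (iv3 F25453)
theorem F25653 : act 7 n16130 = n13601 := d11_2 (iv7 F25454) D16130 F22784
theorem F25654 : act 0 n13636 = n16130 := d20_1 D13636 (iv4 D16130) F25453 (iv1 D5982) (iv3 D2524) F2147 (iv1 F1591) (iv4 F2426) (iv3 F4484) (iv1 F10556)
theorem F25655 : act 1 n15784 = n16130 := d15_1 D15784 F25653 F25408
theorem E3113 : n15784 = n11184 := (c20_11 F18153 (iv1 F10555) F4485 F2624 (iv1 F2151) D2527 D5992 D12619 (iv4 F22796) (iv3 F25652) (iv1 F25655))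
theorem F25656 : act 0 n11184 = n7412 := (sb E3113 (iv1 D15784))
theorem F25657 : act 1 n11184 = n16130 := (sb E3113 F25655)
theorem E3114 : n15762 = n13632 := ((c20_4 D16130 (iv1 F25657) F18153 D13632 (iv1 F25470) F25407 F22784 F25467 F11775 (iv3 F11801) (iv1 F11771))).symm
theorem F25658 : act 0 n13632 = n15937 := (sb E3114 (iv1 F25470))
theorem F25659 : act 1 n13632 = n7407 := (sb E3114 (iv0 D15762))
theorem F25660 : act 4 n16000 = n15769 := d20_0 (iv1 D15769) (iv4 D7408) D7407 (iv1 F25659) (iv3 D13632) (iv4 F18153) F25656 (iv4 F11770) D16127 (iv1 F25645)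
theorem F25661 : act 3 n15769 = n13405 := d20_3 (iv4 F25641) (iv1 F25645) F25660 (iv1 D13405) (iv3 D6365) (iv4 D2709) F2340 D2515 D5958 D12525
def n16131 : Q := act 5 n7533
theorem D16131 : act 5 n7533 = n16131 := rfl
theorem F25662 : act 2 n16131 = n16117 := d2_1 D16131 (iv5 D16117) (iv2 F25464)
theorem F25663 : act 3 n16131 = n12589 := d6_1 D16131 (iv5 D12589) (iv3 F25453)
theorem F25664 : act 7 n16131 = n16016 := d13_2 (iv7 F25454) D16131 (iv5 D16016)
theorem F25665 : act 1 n16131 = n13249 := d15_0 (iv0 F25648) F25647 (iv2 F25662)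
def n16132 : Q := act 6 n7533
theorem D16132 : act 6 n7533 = n16132 := rfl
theorem F25666 : act 2 n16132 = n16118 := d3_1 D16132 (iv6 D16118) (iv2 F25464)
theorem F25667 : act 3 n16132 = n12590 := d7_1 D16132 (iv6 D12590) (iv3 F25453)
def n16133 : Q := act 5 n7534
theorem D16133 : act 5 n7534 = n16133 := rfl
theorem F25668 : act 2 n16133 = n16107 := d2_1 D16133 (iv5 D16107) F11793
theorem F25669 : act 3 n16133 = n7535 := d6_1 D16133 (iv5 D7535) D7534
theorem F25670 : act 0 n16133 = n15356 := d17_2 F11792 D16133 (iv5 D15356) (iv4 D7259) D7260 F24910 (iv5 D7374) F9267 (iv4 F11782)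
theorem F25671 : act 1 n16133 = n15340 := d15_0 F24919 (iv7 F25622) (iv2 F25668)
def n16134 : Q := act 6 n7534
theorem D16134 : act 6 n7534 = n16134 := rfl
theorem F25672 : act 2 n16134 = n16108 := d3_1 D16134 (iv6 D16108) F11793
theorem F25673 : act 3 n16134 = n7536 := d7_1 D16134 (iv6 D7536) D7534
theorem F25674 : act 4 n16134 = n16108 := d10_1 D16134 (iv6 D16108) F11794
def n16135 : Q := act 0 n7535
theorem D16135 : act 0 n7535 = n16135 := rfl
def n16136 : Q := act 1 n7535
theorem D16136 : act 1 n7535 = n16136 := rfl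
theorem F25675 : act 1 n16136 = n7554 := d15_1 D16136 (iv7 F11803) F11815
def n16137 : Q := act 4 n7535
theorem D16137 : act 4 n7535 = n16137 := rfl
theorem F25676 : act 2 n16137 = n16121 := d1_1 D16137 (iv4 D16121) F11815
def n16138 : Q := act 6 n7535
theorem D16138 : act 6 n7535 = n16138 := rfl
theorem F25677 : act 2 n16138 = n16122 := d3_1 D16138 (iv6 D16122) F11815
def n16139 : Q := act 7 n7535
theorem D16139 : act 7 n7535 = n16139 := rfl
theorem F25678 : act 2 n16139 = n7554 := d4_1 D16139 (iv7 F11803) F11815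
theorem F25679 : act 5 n16139 = n7537 := d13_1 D16139 (iv7 D7537) D7535
theorem F25680 : act 1 n7554 = n16135 := d15_0 (iv0 D16135) D16139 F25678
theorem F25681 : act 1 n16120 = n16139 := d15_1 D16120 (iv7 D16139) (iv2 F11815)
theorem F25682 : act 1 n16139 = n16119 := d15_0 (iv0 D16119) F11803 (iv2 F25678)
def n16140 : Q := act 0 n7536
theorem D16140 : act 0 n7536 = n16140 := rfl
def n16141 : Q := act 1 n7536
theorem D16141 : act 1 n7536 = n16141 := rfl
theorem F25683 : act 1 n16141 = n16126 := d15_1 D16141 (iv7 D16126) F11816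
def n16142 : Q := act 5 n7536
theorem D16142 : act 5 n7536 = n16142 := rfl
theorem F25684 : act 2 n16142 = n16125 := d2_1 D16142 (iv5 D16125) F11816
def n16143 : Q := act 7 n7536
theorem D16143 : act 7 n7536 = n16143 := rfl
theorem F25685 : act 2 n16143 = n16126 := d4_1 D16143 (iv7 D16126) F11816
theorem F25686 : act 4 n16143 = n7546 := d11_1 D16143 (iv7 D7546) (iv4 F11773)
theorem F25688 : act 1 n16124 = n16143 := d15_1 D16124 (iv7 D16143) (iv2 F11816)
theorem F25689 : act 1 n16143 = n16123 := d15_0 (iv0 D16123) D16126 (iv2 F25685)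
def n16144 : Q := act 6 n7537
theorem D16144 : act 6 n7537 = n16144 := rfl
theorem F25690 : act 2 n16144 = n7555 := d3_1 D16144 (iv6 D7555) (iv2 F11774)
theorem F25691 : act 4 n16144 = n7547 := d10_1 D16144 (iv6 D7547) (iv4 F11775)
def n16146 : Q := act 3 n7538
theorem D16146 : act 3 n7538 = n16146 := rfl
def n16147 : Q := act 4 n7538
theorem D16147 : act 4 n7538 = n16147 := rfl
def n16148 : Q := act 5 n7538
theorem D16148 : act 5 n7538 = n16148 := rfl
def n16149 : Q := act 6 n7538
theorem D16149 : act 6 n7538 = n16149 := rfl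
def n16151 : Q := act 3 n7539
theorem D16151 : act 3 n7539 = n16151 := rfl
def n16155 : Q := act 0 n7540
theorem D16155 : act 0 n7540 = n16155 := rfl
def n16156 : Q := act 1 n7540
theorem D16156 : act 1 n7540 = n16156 := rfl
theorem F25694 : act 1 n16156 = n7556 := d15_1 D16156 (iv7 F25627) F25626
def n16157 : Q := act 3 n7540
theorem D16157 : act 3 n7540 = n16157 := rfl
def n16158 : Q := act 5 n7540
theorem D16158 : act 5 n7540 = n16158 := rfl
def n16159 : Q := act 6 n7540
theorem D16159 : act 6 n7540 = n16159 := rfl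
theorem F25695 : act 4 n16159 = n7541 := d10_1 D16159 (iv6 D7541) D7540
def n16160 : Q := act 7 n7540
theorem D16160 : act 7 n7540 = n16160 := rfl
theorem F25696 : act 2 n16160 = n7556 := d4_1 D16160 (iv7 F25627) F25626
theorem F25697 : act 4 n16160 = n7542 := d11_1 D16160 (iv7 D7542) D7540
theorem F25698 : act 1 n7556 = n16155 := d15_0 (iv0 D16155) D16160 F25696
def n16161 : Q := act 0 n7541
theorem D16161 : act 0 n7541 = n16161 := rfl
def n16162 : Q := act 1 n7541
theorem D16162 : act 1 n7541 = n16162 := rfl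
def n16163 : Q := act 5 n7541
theorem D16163 : act 5 n7541 = n16163 := rfl
theorem F25699 : act 6 n16163 = n7545 := d12_2 D7541 D16163 (iv5 D7545) (iv6 D3436) D3435
def n16164 : Q := act 7 n7541
theorem D16164 : act 7 n7541 = n16164 := rfl
def n16165 : Q := act 6 n7542
theorem D16165 : act 6 n7542 = n16165 := rfl
theorem F25700 : act 2 n16165 = n7557 := d3_1 D16165 (iv6 D7557) (iv2 F11778)
def n16166 : Q := act 2 n7543
theorem D16166 : act 2 n7543 = n16166 := rfl
theorem F25701 : act 7 n7544 = n16166 := d15_2 (iv0 D7543) D7544 (iv2 D16166)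
def n16167 : Q := act 3 n7543
theorem D16167 : act 3 n7543 = n16167 := rfl
def n16168 : Q := act 4 n7543
theorem D16168 : act 4 n7543 = n16168 := rfl
def n16169 : Q := act 5 n7543
theorem D16169 : act 5 n7543 = n16169 := rfl
def n16170 : Q := act 6 n7543
theorem D16170 : act 6 n7543 = n16170 := rfl
def n16171 : Q := act 7 n7543
theorem D16171 : act 7 n7543 = n16171 := rfl
theorem F25702 : act 2 n16171 = n7544 := d4_1 D16171 F25701 (iv2 D16166)
def n16173 : Q := act 4 n7544
theorem D16173 : act 4 n7544 = n16173 := rfl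
def n16174 : Q := act 5 n7544
theorem D16174 : act 5 n7544 = n16174 := rfl
def n16175 : Q := act 6 n7544
theorem D16175 : act 6 n7544 = n16175 := rfl
def n16176 : Q := act 0 n7545
theorem D16176 : act 0 n7545 = n16176 := rfl
def n16177 : Q := act 1 n7545
theorem D16177 : act 1 n7545 = n16177 := rfl
def n16178 : Q := act 4 n7545
theorem D16178 : act 4 n7545 = n16178 := rfl
def n16179 : Q := act 7 n7545
theorem D16179 : act 7 n7545 = n16179 := rfl
theorem F25703 : act 5 n16179 = n7546 := d13_1 D16179 (iv7 D7546) D7545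
def n16180 : Q := act 6 n7546
theorem D16180 : act 6 n7546 = n16180 := rfl
theorem F25704 : act 2 n16180 = n7561 := d3_1 D16180 (iv6 F25632) F25631
theorem F25705 : act 7 n16180 = n7547 := d14_2 D7546 D16180 (iv6 D7547) (iv7 D3437) D3436
theorem F25706 : act 1 n7559 = n16180 := d15_1 D7559 F25705 F11781
theorem F25707 : act 1 n16180 = n7558 := d15_0 (iv0 D7558) D7561 (iv2 F25704)
def n16181 : Q := act 0 n7547
theorem D16181 : act 0 n7547 = n16181 := rfl
def n16182 : Q := act 1 n7547
theorem D16182 : act 1 n7547 = n16182 := rfl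
def n16183 : Q := act 5 n7547
theorem D16183 : act 5 n7547 = n16183 := rfl
theorem F25710 : act 2 n16183 = n7560 := d2_1 D16183 (iv5 D7560) (iv2 F11781)
def n16184 : Q := act 5 n7548
theorem D16184 : act 5 n7548 = n16184 := rfl
theorem F25711 : act 2 n16184 = n15668 := d2_1 D16184 (iv5 D15668) (iv2 F25542)
theorem F25712 : act 7 n16184 = n15656 := d13_2 F25552 D16184 (iv5 D15656)
def n16185 : Q := act 6 n7548
theorem D16185 : act 6 n7548 = n16185 := rfl
theorem F25713 : act 2 n16185 = n15669 := d3_1 D16185 (iv6 D15669) (iv2 F25542)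
theorem F25714 : act 4 n16185 = n12550 := d10_1 D16185 (iv6 D12550) (iv4 F11782)
def n16186 : Q := act 5 n7550
theorem D16186 : act 5 n7550 = n16186 := rfl
theorem F25715 : act 2 n16186 = n7552 := d2_1 D16186 (iv5 D7552) D7550
theorem F25716 : act 3 n16186 = n16139 := d6_1 D16186 F25679 (iv3 F11806)
theorem F25717 : act 7 n16186 = n16133 := d13_2 F11810 D16186 (iv5 D16133)
theorem F25718 : act 1 n7552 = n15356 := d15_0 (iv0 F25670) (iv7 F25717) F25715
def n16187 : Q := act 6 n7550
theorem D16187 : act 6 n7550 = n16187 := rfl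
theorem F25719 : act 2 n16187 = n7553 := d3_1 D16187 (iv6 D7553) D7550
theorem F25720 : act 3 n16187 = n16144 := d7_1 D16187 (iv6 D16144) (iv3 F11806)
theorem F25721 : act 4 n16187 = n7553 := d10_1 D16187 (iv6 D7553) (iv4 F11808)
def n16188 : Q := act 4 n7552
theorem D16188 : act 4 n7552 = n16188 := rfl
theorem F25722 : act 1 n16188 = n15678 := d18_6 D3381 D7366 (iv1 F11807) F11808 D7552 D16188 (iv4 D15678) (iv0 D7375) (iv5 D3384)
theorem E3115 : n16151 = n2559 := (c20_6 D15678 (iv1 F25722) (iv4 D16188) F11784 (iv1 F11777) D16151 (iv4 D2559) F2199 (iv4 F2610) (iv3 F5376) D7375)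
theorem E3116 : n7539 = n6063 := (((D6063).symm.trans (sb E3115 (iv3 D16151)))).symm
theorem E3117 : n12818 = n3435 := ((D12818).symm.trans (sb E3116 (iv1 D7539)))
theorem E3118 : n12819 = n3440 := ((D12819).symm.trans (sb E3116 F11777))
theorem E3124 : n7748 = n7538 := (((D7538).symm.trans (sb E3117 (iv1 F21272)))).symm
theorem F25723 : act 1 n3435 = n6063 := (sb E3117 (iv0 D12818))
theorem F25724 : act 0 n3440 = n6063 := (sb E3118 (iv1 D12819))
theorem F25725 : act 2 n7538 = n3515 := (sb E3124 F12053)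
theorem E3125 : n16146 = n12787 := ((D16146).symm.trans (sb E3124 (iv3 F21220)))
theorem E3126 : n16148 = n3514 := ((D16148).symm.trans (sb E3124 (iv5 D7748)))
theorem F25726 : act 7 n7538 = n12820 := (sb E3124 (iv7 F21275))
theorem F25727 : act 3 n12787 = n7538 := (sb E3125 (iv3 D16146))
theorem F25728 : act 5 n3514 = n7538 := (sb E3126 (iv5 D16148))
theorem E3127 : n15695 = n13607 := ((c17_3 D2884 D6478 D13607 F25175 F11863 F25728 (iv0 D7538) (iv5 D3435) (iv0 D1509) (iv4 F2425))).symm
theorem E3128 : n15290 = n6483 := ((((iv1 F22794)).symm.trans (sb E3127 (iv1 F25179)))).symm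
theorem F25729 : act 2 n13607 = n7379 := (sb E3127 (iv2 D15695))
theorem F25730 : act 3 n13607 = n15314 := (sb E3127 F25174)
theorem F25731 : act 5 n13607 = n7642 := (sb E3127 F25175)
theorem F25732 : act 7 n13607 = n15287 := (sb E3127 F25176)
theorem E3130 : n13608 = n7239 := (((iv1 F22791)).symm.trans (sb E3128 (iv1 D15290)))
theorem F25733 : act 0 n7239 = n6478 := (sb E3130 (iv1 D13608))
theorem F25734 : act 1 n7239 = n6483 := (sb E3130 F22791)
theorem F25735 : act 1 n16137 = n15291 := d18_6 (iv1 D2885) F2425 D1509 D3434 D7535 D16137 (iv4 D15291) F25734 (iv5 D6483)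
theorem F25736 : act 2 n7751 = n16147 := d1_3 (iv4 D16147) F25725 D7751
theorem F25737 : act 2 n7752 = n16149 := d3_3 (iv6 D16149) F25725 D7752
theorem F25738 : act 0 n16121 = n15696 := d20_7 F2615 (iv1 F2200) D2559 D6063 (iv1 F25723) (iv3 F11767) D16121 (iv4 D15696) (iv3 D7379) (iv1 F5379)
theorem F25739 : act 4 n16155 = n15808 := d20_2 D7540 D16155 (iv3 D15808) (iv1 D7419) F5398 F2615 (iv1 F2200) D2559 D6063 (iv1 F25723)
def n16189 : Q := act 6 n7552
theorem D16189 : act 6 n7552 = n16189 := rfl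
theorem F25740 : act 3 n16189 = n7557 := d7_1 D16189 (iv6 D7557) (iv3 F11784)
def n16190 : Q := act 0 n7553
theorem D16190 : act 0 n7553 = n16190 := rfl
def n16191 : Q := act 1 n7553
theorem D16191 : act 1 n7553 = n16191 := rfl
def n16192 : Q := act 5 n7553
theorem D16192 : act 5 n7553 = n16192 := rfl
theorem F25741 : act 3 n16192 = n7560 := d6_1 D16192 (iv5 D7560) (iv3 F11785)
def n16193 : Q := act 7 n7553
theorem D16193 : act 7 n7553 = n16193 := rfl
theorem F25742 : act 3 n16193 = n7561 := d8_1 D16193 (iv7 D7561) (iv3 F11785)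
def n16194 : Q := act 4 n7554
theorem D16194 : act 4 n7554 = n16194 := rfl
theorem F25743 : act 7 n16194 = n16121 := d11_2 F11803 D16194 (iv4 D16121)
theorem F25744 : act 1 n15291 = n16194 := d15_1 F25735 F25743 (iv2 F25676)
theorem E3131 : n7749 = n7542 := (c20_5 F3996 (iv1 F2767) F2764 (iv3 F5524) D7749 (iv3 F11805) D16194 (iv1 F25744) (iv4 D15291) F11558 F5321)
theorem E3132 : n16110 = n12820 := (((iv1 F25625)).symm.trans (sb E3131 (iv1 F21276)))
theorem E3133 : n16109 = n3515 := ((F25624).symm.trans (sb E3131 (iv0 D7749)))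
theorem E3134 : n7750 = n7524 := (((iv1 F21278)).symm.trans (sb E3132 (iv1 D16110)))
theorem F25745 : act 1 n12820 = n7542 := (sb E3132 F25625)
theorem F25746 : act 0 n3515 = n7542 := (sb E3133 (iv1 F25624))
theorem F25747 : act 0 n7524 = n3515 := (sb E3134 (iv1 D7750))
theorem F25748 : act 1 n7524 = n12820 := (sb E3134 F21278)
theorem F25749 : act 5 n15542 = n16120 := d17_1 F25089 (iv1 D16120) (iv5 D7529) F11797 D7524 F25748 F21274 (iv0 D7735) D7738
theorem F25750 : act 0 n13623 = n15543 := d17_2 (iv1 F22790) D13623 (iv5 D15543) D15542 F25749 F25681 F25679 (iv0 F25467) (iv4 F22784)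
theorem F25751 : act 1 n7743 = n15542 := d18_8 (iv1 D16120) D16121 F25738 (iv4 D15696) F11674 F5440 D3513 D7743 F25749
theorem F25752 : act 0 n7742 = n12496 := d20_10 (iv4 D12496) (iv1 F9221) F5327 (iv3 F9195) (iv1 F9199) D7333 D15542 (iv1 F25751) (iv4 D7743) D7742
theorem E3135 : n15694 = n13633 := (c17_7 F11796 D7524 F25747 (iv5 D3515) (iv4 F5440) (iv5 F11674) D15694 (iv5 D13633) (iv0 D6485) F4482)
theorem F25753 : act 0 n13633 = n7379 := (sb E3135 (iv1 D15694))
theorem F25754 : act 1 n13633 = n15287 := (sb E3135 F25178)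
theorem E3136 : n15693 = n13637 := ((c17_2 (iv1 F10556) D13637 (iv1 F25173) (iv5 D15287) (iv4 F12044) (iv5 F21274) F25745 F11779 F11799 (iv4 F4485))).symm
theorem F25755 : act 0 n13637 = n15287 := (sb E3136 (iv1 F25173))
theorem F25756 : act 1 n13637 = n7379 := (sb E3136 (iv0 D15693))
def n16195 : Q := act 6 n7554
theorem D16195 : act 6 n7554 = n16195 := rfl
theorem F25757 : act 3 n16195 = n16165 := d7_1 D16195 (iv6 D16165) (iv3 F11805)
def n16196 : Q := act 0 n7555
theorem D16196 : act 0 n7555 = n16196 := rfl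
def n16197 : Q := act 1 n7555
theorem D16197 : act 1 n7555 = n16197 := rfl
def n16198 : Q := act 5 n7555
theorem D16198 : act 5 n7555 = n16198 := rfl
theorem F25758 : act 3 n16198 = n16183 := d6_1 D16198 (iv5 D16183) F11809
def n16199 : Q := act 7 n7555
theorem D16199 : act 7 n7555 = n16199 := rfl
theorem F25759 : act 3 n16199 = n16180 := d8_1 D16199 F25705 F11809
theorem F25760 : act 4 n16199 = n7561 := d11_1 D16199 (iv7 D7561) (iv4 F11786)
theorem F25761 : act 6 n16199 = n16126 := d14_1 D16199 (iv7 D16126) (iv6 D7530) (iv7 F11802) D7555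
def n16200 : Q := act 3 n7556
theorem D16200 : act 3 n7556 = n16200 := rfl
def n16201 : Q := act 5 n7556
theorem D16201 : act 5 n7556 = n16201 := rfl
def n16202 : Q := act 6 n7556
theorem D16202 : act 6 n7556 = n16202 := rfl
theorem F25762 : act 4 n16202 = n7557 := d10_1 D16202 (iv6 D7557) D7556
def n16203 : Q := act 0 n7557
theorem D16203 : act 0 n7557 = n16203 := rfl
def n16204 : Q := act 1 n7557
theorem D16204 : act 1 n7557 = n16204 := rfl
def n16205 : Q := act 5 n7557
theorem D16205 : act 5 n7557 = n16205 := rfl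
theorem F25763 : act 6 n16205 = n7560 := d12_2 D7557 D16205 (iv5 D7560) (iv6 D3441) D3440
def n16206 : Q := act 7 n7557
theorem D16206 : act 7 n7557 = n16206 := rfl
def n16207 : Q := act 2 n7558
theorem D16207 : act 2 n7558 = n16207 := rfl
theorem F25764 : act 7 n7559 = n16207 := d15_2 (iv0 D7558) D7559 (iv2 D16207)
def n16212 : Q := act 7 n7558
theorem D16212 : act 7 n7558 = n16212 := rfl
theorem F25765 : act 2 n16212 = n7559 := d4_1 D16212 F25764 (iv2 D16207)
def n16213 : Q := act 3 n7559
theorem D16213 : act 3 n7559 = n16213 := rfl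
def n16214 : Q := act 4 n7559
theorem D16214 : act 4 n7559 = n16214 := rfl
def n16215 : Q := act 5 n7559
theorem D16215 : act 5 n7559 = n16215 := rfl
def n16216 : Q := act 6 n7559
theorem D16216 : act 6 n7559 = n16216 := rfl
def n16217 : Q := act 0 n7560
theorem D16217 : act 0 n7560 = n16217 := rfl
def n16218 : Q := act 1 n7560
theorem D16218 : act 1 n7560 = n16218 := rfl
def n16219 : Q := act 4 n7560
theorem D16219 : act 4 n7560 = n16219 := rfl
def n16220 : Q := act 7 n7560
theorem D16220 : act 7 n7560 = n16220 := rfl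
theorem F25766 : act 5 n16220 = n7561 := d13_1 D16220 (iv7 D7561) D7560
def n16221 : Q := act 3 n7564
theorem D16221 : act 3 n7564 = n16221 := rfl
def n16222 : Q := act 5 n7564
theorem D16222 : act 5 n7564 = n16222 := rfl
theorem F25767 : act 2 n16222 = n7578 := d2_1 D16222 (iv5 D7578) (iv2 F11819)
def n16223 : Q := act 6 n7564
theorem D16223 : act 6 n7564 = n16223 := rfl
theorem F25768 : act 2 n16223 = n7579 := d3_1 D16223 (iv6 D7579) (iv2 F11819)
theorem F25769 : act 4 n16223 = n7565 := d10_1 D16223 (iv6 D7565) D7564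
def n16224 : Q := act 0 n7565
theorem D16224 : act 0 n7565 = n16224 := rfl
def n16225 : Q := act 1 n7565
theorem D16225 : act 1 n7565 = n16225 := rfl
theorem F25770 : act 1 n16225 = n7582 := d15_1 D16225 (iv7 D7582) (iv2 F11820)
def n16226 : Q := act 7 n7565
theorem D16226 : act 7 n7565 = n16226 := rfl
theorem F25771 : act 2 n16226 = n7582 := d4_1 D16226 (iv7 D7582) (iv2 F11820)
theorem F25772 : act 1 n7582 = n16224 := d15_0 (iv0 D16224) D16226 F25771
theorem F25773 : act 1 n7581 = n16226 := d15_1 D7581 (iv7 D16226) F11820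
theorem F25774 : act 1 n16226 = n7580 := d15_0 (iv0 D7580) D7582 (iv2 F25771)
def n16229 : Q := act 3 n7566
theorem D16229 : act 3 n7566 = n16229 := rfl
theorem F25777 : act 7 n16229 = n7572 := d8_2 F11821 D16229 (iv3 D7572)
def n16230 : Q := act 4 n7566
theorem D16230 : act 4 n7566 = n16230 := rfl
theorem F25778 : act 2 n16230 = n7568 := d1_1 D16230 (iv4 D7568) D7566
theorem F25779 : act 7 n16230 = n7573 := d11_2 F11821 D16230 (iv4 D7573)
def n16231 : Q := act 5 n7566
theorem D16231 : act 5 n7566 = n16231 := rfl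
theorem F25780 : act 2 n16231 = n7569 := d2_1 D16231 (iv5 D7569) D7566
theorem F25781 : act 7 n16231 = n7574 := d13_2 F11821 D16231 (iv5 D7574)
def n16232 : Q := act 6 n7566
theorem D16232 : act 6 n7566 = n16232 := rfl
theorem F25782 : act 2 n16232 = n7570 := d3_1 D16232 (iv6 D7570) D7566
def n16233 : Q := act 0 n7567
theorem D16233 : act 0 n7567 = n16233 := rfl
def n16234 : Q := act 1 n7567
theorem D16234 : act 1 n7567 = n16234 := rfl
def n16235 : Q := act 2 n7567
theorem D16235 : act 2 n7567 = n16235 := rfl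
def n16236 : Q := act 4 n7567
theorem D16236 : act 4 n7567 = n16236 := rfl
theorem F25783 : act 0 n16236 = n13657 := d20_7 F2606 (iv1 F2315) F2312 (iv3 F2623) D3445 D7567 D16236 F22813 F10559 (iv1 F4489)
theorem E3137 : n16234 = n16117 := (c18_9 (iv1 D7527) F11797 (iv1 F11795) (iv4 F4485) (iv5 F10560) (iv4 F22813) (iv0 F25783) (iv4 D16236) D16234 (iv5 D16117))
theorem F25784 : act 0 n16117 = n7567 := (sb E3137 (iv1 D16234))
theorem E3138 : n16233 = n16016 := ((c15_4 (iv0 D16233) (iv0 F25784) (iv7 F25647) F25646)).symm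
theorem F25785 : act 1 n16016 = n7567 := (sb E3138 (iv0 D16233))
def n16237 : Q := act 5 n7567
theorem D16237 : act 5 n7567 = n16237 := rfl
theorem F25786 : act 3 n16237 = n7569 := d6_1 D16237 (iv5 D7569) D7567
theorem F25787 : act 4 n16237 = n13256 := d17_4 (iv1 F11817) D16117 F25784 D16237 (iv5 D13256) F9800 (iv5 D3444) (iv0 F11798) (iv4 F11775)
def n16238 : Q := act 6 n7567
theorem D16238 : act 6 n7567 = n16238 := rfl
theorem F25788 : act 3 n16238 = n7570 := d7_1 D16238 (iv6 D7570) D7567
def n16239 : Q := act 7 n7567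
theorem D16239 : act 7 n7567 = n16239 := rfl
def n16240 : Q := act 0 n7568
theorem D16240 : act 0 n7568 = n16240 := rfl
theorem F25790 : act 4 n16240 = n15786 := d18_3 D3445 D7568 D16240 (iv5 D15786) (iv4 F11770) (iv0 D7532) (iv4 D3434) (iv0 D1509) D1512
theorem E3139 : n15775 = n3370 := (c20_5 D7568 D16240 F25790 F25297 (iv1 F25292) F5369 F2606 (iv1 F2315) F2312 (iv3 F2623) D3445)
theorem E3140 : n7409 = n7339 := (((D7339).symm.trans (sb E3139 (iv1 D15775)))).symm
theorem E3141 : n7414 = n7340 := (((D7340).symm.trans (sb E3139 F25292))).symm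
theorem E3143 : n15559 = n12538 := ((D15559).symm.trans (sb E3140 (iv2 F25432)))
theorem E3144 : n15765 = n15560 := (((D15560).symm.trans (sb E3140 (iv3 F25281)))).symm
theorem E3146 : n15562 = n3394 := ((D15562).symm.trans (sb E3140 (iv5 D7409)))
theorem E3148 : n15564 = n12533 := ((D15564).symm.trans (sb E3140 (iv7 F25419)))
theorem E3149 : n15786 = n15565 := (((D15565).symm.trans (sb E3141 (iv3 F25297)))).symm
theorem E3151 : n15567 = n3395 := ((D15567).symm.trans (sb E3141 (iv5 D7414)))
theorem F25791 : act 2 n12538 = n7339 := (sb E3143 (iv2 D15559))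
theorem F25792 : act 7 n12538 = n7340 := (sb E3143 (iv7 F25101))
theorem F25793 : act 5 n15560 = n7407 := (sb E3144 (iv5 D15765))
theorem F25794 : act 5 n3394 = n7339 := (sb E3146 (iv5 D15562))
theorem F25795 : act 2 n12533 = n7340 := (sb E3148 F25102)
theorem F25796 : act 7 n12533 = n7339 := (sb E3148 (iv7 D15564))
theorem F25797 : act 4 n15565 = n16240 := (sb E3149 (iv4 F25790))
theorem F25798 : act 5 n15565 = n7412 := (sb E3149 (iv5 D15786))
theorem F25799 : act 5 n3395 = n7340 := (sb E3151 (iv5 D15567))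
theorem E3153 : n15725 = n15493 := ((c17_7 (iv1 F9262) F25799 (iv1 D7340) (iv5 D3370) (iv4 F5353) D7319 D15493 (iv5 D15725) F20879 F20876)).symm
theorem F25800 : act 5 n15493 = n7387 := (sb E3153 (iv5 D15725))
def n16241 : Q := act 1 n7568
theorem D16241 : act 1 n7568 = n16241 := rfl
theorem F25801 : act 1 n16241 = n7573 := d15_1 D16241 (iv7 F25779) F25778
def n16242 : Q := act 3 n7568
theorem D16242 : act 3 n7568 = n16242 := rfl
def n16243 : Q := act 5 n7568
theorem D16243 : act 5 n7568 = n16243 := rfl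
def n16244 : Q := act 6 n7568
theorem D16244 : act 6 n7568 = n16244 := rfl
theorem F25802 : act 4 n16244 = n7570 := d10_1 D16244 (iv6 D7570) D7568
def n16245 : Q := act 7 n7568
theorem D16245 : act 7 n7568 = n16245 := rfl
theorem F25803 : act 2 n16245 = n7573 := d4_1 D16245 (iv7 F25779) F25778
theorem F25804 : act 4 n16245 = n7571 := d11_1 D16245 (iv7 D7571) D7568
theorem F25805 : act 1 n7573 = n16240 := d15_0 (iv0 D16240) D16245 F25803
def n16247 : Q := act 1 n7569
theorem D16247 : act 1 n7569 = n16247 := rfl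
theorem F25806 : act 1 n16247 = n7574 := d15_1 D16247 (iv7 F25781) F25780
def n16250 : Q := act 7 n7569
theorem D16250 : act 7 n7569 = n16250 := rfl
theorem F25807 : act 2 n16250 = n7574 := d4_1 D16250 (iv7 F25781) F25780
theorem F25808 : act 5 n16250 = n7571 := d13_1 D16250 (iv7 D7571) D7569
def n16251 : Q := act 0 n7570
theorem D16251 : act 0 n7570 = n16251 := rfl
def n16252 : Q := act 1 n7570
theorem D16252 : act 1 n7570 = n16252 := rfl
def n16253 : Q := act 5 n7570
theorem D16253 : act 5 n7570 = n16253 := rfl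
def n16254 : Q := act 7 n7570
theorem D16254 : act 7 n7570 = n16254 := rfl
def n16255 : Q := act 6 n7571
theorem D16255 : act 6 n7571 = n16255 := rfl
theorem F25810 : act 2 n16255 = n7575 := d3_1 D16255 (iv6 D7575) (iv2 F11822)
def n16256 : Q := act 0 n7572
theorem D16256 : act 0 n7572 = n16256 := rfl
def n16257 : Q := act 1 n7572
theorem D16257 : act 1 n7572 = n16257 := rfl
def n16258 : Q := act 2 n7572
theorem D16258 : act 2 n7572 = n16258 := rfl
def n16259 : Q := act 4 n7572
theorem D16259 : act 4 n7572 = n16259 := rfl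
theorem F25811 : act 5 n10723 = n16259 := d19_1 D10723 (iv4 D16259) (iv3 D7572) (iv1 D3446) (iv5 D1512) (iv4 F2425) (iv3 D1311) (iv1 F2140) D2517 F3996 (iv3 F3241) D4671 (iv5 F7298) (iv4 F12128) F12127 F12101 (iv5 F7321) (iv4 D4906) D4905
theorem F25812 : act 0 n10749 = n16259 := d20_1 F17283 (iv4 D16259) (iv3 D7572) (iv1 D3446) F2623 (iv4 F2312) (iv1 F2314) (iv4 F2590) (iv3 F5328) D7264
theorem F25813 : act 5 n7572 = n7742 := d18_4 D7264 F17283 F25812 (iv4 D16259) (iv4 F24915) (iv0 D15337) (iv4 D7254) (iv0 D3336) D3339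
theorem E3154 : n7744 = n3446 := (c6_3 F25813 (iv3 D7742) D7744 D7572)
theorem E3155 : n7574 = n3513 := ((D7574).symm.trans (sb E3154 (iv5 D7744)))
theorem E3156 : n16247 = n1550 := ((((iv1 D3513)).symm.trans (sb E3155 (iv1 F25806)))).symm
theorem E3158 : n16250 = n7741 := ((((iv2 F12048)).symm.trans (sb E3155 (iv2 F25807)))).symm
theorem F25814 : act 5 n3513 = n3446 := (sb E3155 (iv5 D7574))
theorem E3159 : n16231 = n7736 := (((F12047).symm.trans (sb E3155 (iv7 F25781)))).symm
theorem E3160 : n7569 = n3512 := (((D3512).symm.trans (sb E3156 (iv1 D16247)))).symm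
theorem F25815 : act 5 n7741 = n7571 := (sb E3158 F25808)
theorem F25816 : act 5 n7736 = n7566 := (sb E3159 (iv5 D16231))
theorem E3161 : n16237 = n7737 := (((D7737).symm.trans (sb E3160 (iv3 F25786)))).symm
theorem E3163 : n7739 = n3445 := ((D7739).symm.trans (sb E3160 (iv5 D7569)))
theorem E3165 : n13256 = n7746 := (((F12050).symm.trans (sb E3161 F25787))).symm
theorem F25817 : act 5 n7737 = n7567 := (sb E3161 (iv5 D16237))
theorem F25818 : act 5 n3445 = n3512 := (sb E3163 (iv5 D7739))
theorem F25819 : act 5 n7746 = n6293 := (sb E3165 (iv5 D13256))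
theorem E3166 : n15285 = n13639 := ((c17_7 D7746 F25819 (iv1 D6293) F4233 (iv4 F4485) (iv5 F10560) F22803 (iv5 D15285) F11867 F11863)).symm
theorem F25820 : act 5 n13639 = n7237 := (sb E3166 (iv5 D15285))
theorem E3167 : n13646 = n7640 := ((c17_1 D7640 (iv5 D13646) (iv1 F22770) (iv5 D13587) F10550 (iv5 F9797) F9799 F25818 (iv0 D3512) (iv4 F5440))).symm
theorem F25821 : act 5 n7640 = n6488 := (sb E3167 (iv5 D13646))
theorem E3168 : n13651 = n7641 := (c17_8 (iv1 F12046) F25814 (iv1 D3446) (iv5 D1512) (iv4 F2425) D2887 D6489 D13651 F11866 (iv4 F12044))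
theorem F25822 : act 5 n7641 = n6489 := (sb E3168 (iv5 D13651))
theorem F25823 : act 5 n13249 = n7743 := d17_3 D7532 D16128 F25648 (iv4 D7743) F25814 F9801 F9797 (iv0 D3431) D3434
theorem E3169 : n13251 = n7747 := ((c6_2 F25823 (iv3 F12052) (iv5 D13251) D13249)).symm
theorem F25824 : act 5 n7747 = n6292 := (sb E3169 (iv5 D13251))
theorem E3170 : n15280 = n13640 := ((c17_7 (iv1 F12051) F25824 (iv1 F9795) (iv5 D3444) (iv4 F4482) D6487 D13640 (iv5 D15280) (iv0 D7236) (iv4 F5526))).symm
theorem F25825 : act 5 n13640 = n7236 := (sb E3170 (iv5 D15280))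
theorem F25826 : act 1 n16236 = n13641 := d18_6 (iv1 F11865) F11863 D7746 (iv4 F12050) F25817 D16236 (iv4 D13641) D13640 F25825
def n16260 : Q := act 6 n7572
theorem D16260 : act 6 n7572 = n16260 := rfl
theorem F25827 : act 3 n16260 = n7575 := d7_1 D16260 (iv6 D7575) D7572
def n16261 : Q := act 3 n7573
theorem D16261 : act 3 n7573 = n16261 := rfl
def n16262 : Q := act 5 n7573
theorem D16262 : act 5 n7573 = n16262 := rfl
def n16263 : Q := act 6 n7573
theorem D16263 : act 6 n7573 = n16263 := rfl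
theorem F25828 : act 4 n16263 = n7575 := d10_1 D16263 (iv6 D7575) D7573
def n16264 : Q := act 0 n7575
theorem D16264 : act 0 n7575 = n16264 := rfl
def n16265 : Q := act 1 n7575
theorem D16265 : act 1 n7575 = n16265 := rfl
def n16266 : Q := act 5 n7575
theorem D16266 : act 5 n7575 = n16266 := rfl
def n16267 : Q := act 7 n7575
theorem D16267 : act 7 n7575 = n16267 := rfl
def n16268 : Q := act 2 n7576
theorem D16268 : act 2 n7576 = n16268 := rfl
theorem F25829 : act 7 n7577 = n16268 := d15_2 (iv0 D7576) D7577 (iv2 D16268)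
def n16269 : Q := act 3 n7576
theorem D16269 : act 3 n7576 = n16269 := rfl
def n16270 : Q := act 4 n7576
theorem D16270 : act 4 n7576 = n16270 := rfl
def n16271 : Q := act 5 n7576
theorem D16271 : act 5 n7576 = n16271 := rfl
def n16272 : Q := act 6 n7576
theorem D16272 : act 6 n7576 = n16272 := rfl
def n16273 : Q := act 7 n7576
theorem D16273 : act 7 n7576 = n16273 := rfl
theorem F25830 : act 2 n16273 = n7577 := d4_1 D16273 F25829 (iv2 D16268)
def n16274 : Q := act 3 n7577
theorem D16274 : act 3 n7577 = n16274 := rfl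
def n16275 : Q := act 4 n7577
theorem D16275 : act 4 n7577 = n16275 := rfl
theorem F25831 : act 3 n16275 = n8897 := d20_3 (iv4 F21943) (iv1 F21947) D16275 (iv1 F18159) F18156 D13641 (iv1 F25826) (iv4 D16236) (iv3 D7567) (iv1 F9799)
def n16276 : Q := act 5 n7577
theorem D16276 : act 5 n7577 = n16276 := rfl
def n16277 : Q := act 6 n7577
theorem D16277 : act 6 n7577 = n16277 := rfl
def n16278 : Q := act 0 n7578
theorem D16278 : act 0 n7578 = n16278 := rfl
def n16279 : Q := act 1 n7578
theorem D16279 : act 1 n7578 = n16279 := rfl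
def n16280 : Q := act 4 n7578
theorem D16280 : act 4 n7578 = n16280 := rfl
def n16281 : Q := act 6 n7578
theorem D16281 : act 6 n7578 = n16281 := rfl
def n16282 : Q := act 0 n7579
theorem D16282 : act 0 n7579 = n16282 := rfl
def n16283 : Q := act 1 n7579
theorem D16283 : act 1 n7579 = n16283 := rfl
def n16284 : Q := act 5 n7579
theorem D16284 : act 5 n7579 = n16284 := rfl
def n16285 : Q := act 7 n7579
theorem D16285 : act 7 n7579 = n16285 := rfl
theorem F25832 : act 4 n16285 = n7582 := d11_1 D16285 (iv7 D7582) (iv4 F11823)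
def n16286 : Q := act 2 n7580
theorem D16286 : act 2 n7580 = n16286 := rfl
theorem F25833 : act 7 n7581 = n16286 := d15_2 (iv0 D7580) D7581 (iv2 D16286)
def n16287 : Q := act 3 n7580
theorem D16287 : act 3 n7580 = n16287 := rfl
def n16288 : Q := act 4 n7580
theorem D16288 : act 4 n7580 = n16288 := rfl
def n16289 : Q := act 5 n7580
theorem D16289 : act 5 n7580 = n16289 := rfl
def n16290 : Q := act 6 n7580
theorem D16290 : act 6 n7580 = n16290 := rfl
def n16291 : Q := act 7 n7580
theorem D16291 : act 7 n7580 = n16291 := rfl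
theorem F25834 : act 2 n16291 = n7581 := d4_1 D16291 F25833 (iv2 D16286)
def n16292 : Q := act 3 n7581
theorem D16292 : act 3 n7581 = n16292 := rfl
def n16293 : Q := act 4 n7581
theorem D16293 : act 4 n7581 = n16293 := rfl
def n16294 : Q := act 5 n7581
theorem D16294 : act 5 n7581 = n16294 := rfl
def n16295 : Q := act 6 n7581
theorem D16295 : act 6 n7581 = n16295 := rfl
def n16296 : Q := act 2 n7583
theorem D16296 : act 2 n7583 = n16296 := rfl
theorem F25835 : act 7 n7584 = n16296 := d15_2 (iv0 D7583) D7584 (iv2 D16296)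
def n16297 : Q := act 3 n7583
theorem D16297 : act 3 n7583 = n16297 := rfl
theorem F25836 : act 4 n16297 = n15197 := d20_6 (iv4 D3463) (iv1 D1519) (iv4 F2631) (iv3 F5428) D7583 D16297 (iv1 D15197) (iv4 F22736) F22735 F11988
def n16298 : Q := act 4 n7583
theorem D16298 : act 4 n7583 = n16298 := rfl
def n16299 : Q := act 5 n7583
theorem D16299 : act 5 n7583 = n16299 := rfl
def n16300 : Q := act 6 n7583
theorem D16300 : act 6 n7583 = n16300 := rfl
def n16301 : Q := act 7 n7583
theorem D16301 : act 7 n7583 = n16301 := rfl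
theorem F25837 : act 2 n16301 = n7584 := d4_1 D16301 F25835 (iv2 D16296)
def n16302 : Q := act 3 n7584
theorem D16302 : act 3 n7584 = n16302 := rfl
def n16303 : Q := act 4 n7584
theorem D16303 : act 4 n7584 = n16303 := rfl
theorem F25838 : act 3 n15196 = n16303 := d20_5 (iv4 D6030) (iv1 F4048) (iv4 F5310) (iv3 F11530) D15196 (iv4 D16303) (iv1 D7584) (iv4 F10562) F10561 (iv1 F11986)
def n16304 : Q := act 5 n7584
theorem D16304 : act 5 n7584 = n16304 := rfl
def n16305 : Q := act 6 n7584
theorem D16305 : act 6 n7584 = n16305 := rfl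
def n16306 : Q := act 0 n7585
theorem D16306 : act 0 n7585 = n16306 := rfl
def n16307 : Q := act 1 n7585
theorem D16307 : act 1 n7585 = n16307 := rfl
def n16308 : Q := act 4 n7585
theorem D16308 : act 4 n7585 = n16308 := rfl
def n16311 : Q := act 4 n7586
theorem D16311 : act 4 n7586 = n16311 := rfl
def n16319 : Q := act 4 n7588
theorem D16319 : act 4 n7588 = n16319 := rfl
theorem F25841 : act 2 n16319 = n7589 := d1_1 D16319 (iv4 D7589) D7588
def n16320 : Q := act 6 n7588
theorem D16320 : act 6 n7588 = n16320 := rfl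
theorem F25842 : act 2 n16320 = n7590 := d3_1 D16320 (iv6 D7590) D7588
def n16321 : Q := act 0 n7589
theorem D16321 : act 0 n7589 = n16321 := rfl
def n16322 : Q := act 1 n7589
theorem D16322 : act 1 n7589 = n16322 := rfl
theorem F25843 : act 4 n15560 = n16322 := d20_6 (iv4 D896) D894 (iv4 F2606) (iv3 F5369) D7339 D15560 (iv1 D16322) (iv4 D7589) (iv3 D3450) (iv1 F2627)
def n16323 : Q := act 5 n7589
theorem D16323 : act 5 n7589 = n16323 := rfl
theorem F25844 : act 3 n16323 = n8224 := d6_1 D16323 (iv5 D8224) (iv3 F11827)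
def n16324 : Q := act 6 n7589
theorem D16324 : act 6 n7589 = n16324 := rfl
theorem F25845 : act 3 n16324 = n8225 := d7_1 D16324 (iv6 D8225) (iv3 F11827)
theorem F25846 : act 4 n16324 = n7590 := d10_1 D16324 (iv6 D7590) D7589
def n16325 : Q := act 0 n7590
theorem D16325 : act 0 n7590 = n16325 := rfl
def n16326 : Q := act 1 n7590
theorem D16326 : act 1 n7590 = n16326 := rfl
def n16327 : Q := act 5 n7590
theorem D16327 : act 5 n7590 = n16327 := rfl
theorem F25847 : act 3 n16327 = n7593 := d6_1 D16327 (iv5 D7593) (iv3 F11828)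
theorem F25848 : act 6 n16327 = n7942 := d12_2 D7590 D16327 (iv5 D7942) (iv6 D3594) (iv5 F5429)
def n16328 : Q := act 7 n7590
theorem D16328 : act 7 n7590 = n16328 := rfl
theorem F25849 : act 3 n16328 = n7594 := d8_1 D16328 (iv7 D7594) (iv3 F11828)
def n16329 : Q := act 2 n7591
theorem D16329 : act 2 n7591 = n16329 := rfl
def n16330 : Q := act 3 n7591
theorem D16330 : act 3 n7591 = n16330 := rfl
def n16331 : Q := act 4 n7591
theorem D16331 : act 4 n7591 = n16331 := rfl
def n16332 : Q := act 5 n7591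
theorem D16332 : act 5 n7591 = n16332 := rfl
def n16333 : Q := act 6 n7591
theorem D16333 : act 6 n7591 = n16333 := rfl
def n16334 : Q := act 7 n7591
theorem D16334 : act 7 n7591 = n16334 := rfl
def n16335 : Q := act 3 n7592
theorem D16335 : act 3 n7592 = n16335 := rfl
def n16336 : Q := act 4 n7592
theorem D16336 : act 4 n7592 = n16336 := rfl
def n16337 : Q := act 5 n7592
theorem D16337 : act 5 n7592 = n16337 := rfl
def n16338 : Q := act 6 n7592
theorem D16338 : act 6 n7592 = n16338 := rfl
def n16339 : Q := act 0 n7593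
theorem D16339 : act 0 n7593 = n16339 := rfl
def n16340 : Q := act 1 n7593
theorem D16340 : act 1 n7593 = n16340 := rfl
theorem F25852 : act 5 n16086 = n16340 := d21_6 (iv5 F2160) (iv1 F2161) D1507 D3426 D7511 D16086 (iv1 D16340) (iv5 D7593) (iv6 D3451) (iv1 F2627)
def n16341 : Q := act 4 n7593
theorem D16341 : act 4 n7593 = n16341 := rfl
theorem F25853 : act 6 n16341 = n7946 := d10_2 (iv6 F11829) D16341 (iv4 D7946)
def n16342 : Q := act 7 n7593
theorem D16342 : act 7 n7593 = n16342 := rfl
theorem F25854 : act 5 n16342 = n7594 := d13_1 D16342 (iv7 D7594) D7593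
def n16351 : Q := act 5 n7596
theorem D16351 : act 5 n7596 = n16351 := rfl
def n16353 : Q := act 4 n7597
theorem D16353 : act 4 n7597 = n16353 := rfl
theorem F25857 : act 2 n16353 = n7598 := d1_1 D16353 (iv4 D7598) D7597
def n16354 : Q := act 6 n7597
theorem D16354 : act 6 n7597 = n16354 := rfl
theorem F25858 : act 2 n16354 = n7599 := d3_1 D16354 (iv6 D7599) D7597
def n16355 : Q := act 0 n7598
theorem D16355 : act 0 n7598 = n16355 := rfl
def n16356 : Q := act 1 n7598
theorem D16356 : act 1 n7598 = n16356 := rfl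
theorem F25859 : act 3 n8565 = n16356 := d20_3 D8657 F13566 (iv4 F13494) (iv1 D16356) F11832 (iv4 D3642) D3640 D8058 F13562 (iv1 D8656)
theorem F25860 : act 4 n15371 = n16356 := d20_6 (iv4 F2312) (iv1 F2314) (iv4 F2590) (iv3 F5328) D7264 D15371 (iv1 D16356) (iv4 D7598) (iv3 D3452) (iv1 D1515)
theorem F25861 : act 5 n16356 = n8564 := d6_2 D8565 F25859 (iv3 D8564)
def n16357 : Q := act 5 n7598
theorem D16357 : act 5 n7598 = n16357 := rfl
theorem F25862 : act 3 n16357 = n8068 := d6_1 D16357 (iv5 D8068) (iv3 F11832)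
theorem F25863 : act 0 n8624 = n16357 := d19_0 (iv5 D16357) (iv4 D7598) (iv3 D3452) (iv1 D1515) (iv5 D818) (iv4 D469) (iv3 F738) D757 F1468 F775 (iv3 F399) (iv1 F1034) D268 D507 D845 D1562 (iv5 F7229) D3872 D8624
def n16358 : Q := act 6 n7598
theorem D16358 : act 6 n7598 = n16358 := rfl
theorem F25864 : act 3 n16358 = n8069 := d7_1 D16358 (iv6 D8069) (iv3 F11832)
theorem F25865 : act 4 n16358 = n7599 := d10_1 D16358 (iv6 D7599) D7598
def n16359 : Q := act 0 n7599
theorem D16359 : act 0 n7599 = n16359 := rfl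
def n16360 : Q := act 1 n7599
theorem D16360 : act 1 n7599 = n16360 := rfl
def n16361 : Q := act 5 n7599
theorem D16361 : act 5 n7599 = n16361 := rfl
theorem F25866 : act 3 n16361 = n7602 := d6_1 D16361 (iv5 D7602) (iv3 F11833)
theorem F25867 : act 6 n16361 = n8169 := d12_2 D7599 D16361 (iv5 D8169) (iv6 D3676) (iv5 F5431)
def n16362 : Q := act 7 n7599
theorem D16362 : act 7 n7599 = n16362 := rfl
theorem F25868 : act 3 n16362 = n7603 := d8_1 D16362 (iv7 D7603) (iv3 F11833)
def n16363 : Q := act 2 n7600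
theorem D16363 : act 2 n7600 = n16363 := rfl
def n16364 : Q := act 3 n7600
theorem D16364 : act 3 n7600 = n16364 := rfl
def n16365 : Q := act 4 n7600
theorem D16365 : act 4 n7600 = n16365 := rfl
def n16366 : Q := act 5 n7600
theorem D16366 : act 5 n7600 = n16366 := rfl
def n16367 : Q := act 6 n7600
theorem D16367 : act 6 n7600 = n16367 := rfl
def n16368 : Q := act 7 n7600
theorem D16368 : act 7 n7600 = n16368 := rfl
def n16369 : Q := act 3 n7601
theorem D16369 : act 3 n7601 = n16369 := rfl
def n16370 : Q := act 4 n7601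
theorem D16370 : act 4 n7601 = n16370 := rfl
def n16371 : Q := act 5 n7601
theorem D16371 : act 5 n7601 = n16371 := rfl
def n16372 : Q := act 6 n7601
theorem D16372 : act 6 n7601 = n16372 := rfl
def n16373 : Q := act 0 n7602
theorem D16373 : act 0 n7602 = n16373 := rfl
def n16374 : Q := act 1 n7602
theorem D16374 : act 1 n7602 = n16374 := rfl
theorem F25871 : act 5 n15987 = n16374 := d21_6 (iv5 D818) D815 D1504 D3417 D7480 D15987 (iv1 D16374) (iv5 D7602) (iv6 D3453) (iv1 D1515)
def n16375 : Q := act 4 n7602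
theorem D16375 : act 4 n7602 = n16375 := rfl
theorem F25872 : act 6 n16375 = n8173 := d10_2 (iv6 F11834) D16375 (iv4 D8173)
def n16376 : Q := act 7 n7602
theorem D16376 : act 7 n7602 = n16376 := rfl
theorem F25873 : act 5 n16376 = n7603 := d13_1 D16376 (iv7 D7603) D7602
def n16379 : Q := act 3 n7604
theorem D16379 : act 3 n7604 = n16379 := rfl
theorem F25876 : act 7 n16379 = n7610 := d8_2 F11836 D16379 (iv3 D7610)
def n16380 : Q := act 4 n7604
theorem D16380 : act 4 n7604 = n16380 := rfl
theorem F25877 : act 2 n16380 = n7606 := d1_1 D16380 (iv4 D7606) D7604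
theorem F25878 : act 7 n16380 = n7611 := d11_2 F11836 D16380 (iv4 D7611)
def n16381 : Q := act 5 n7604
theorem D16381 : act 5 n7604 = n16381 := rfl
theorem F25879 : act 2 n16381 = n7607 := d2_1 D16381 (iv5 D7607) D7604
theorem F25880 : act 7 n16381 = n7612 := d13_2 F11836 D16381 (iv5 D7612)
def n16382 : Q := act 6 n7604
theorem D16382 : act 6 n7604 = n16382 := rfl
theorem F25881 : act 2 n16382 = n7608 := d3_1 D16382 (iv6 D7608) D7604
def n16383 : Q := act 0 n7605
theorem D16383 : act 0 n7605 = n16383 := rfl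
def n16384 : Q := act 1 n7605
theorem D16384 : act 1 n7605 = n16384 := rfl
def n16385 : Q := act 2 n7605
theorem D16385 : act 2 n7605 = n16385 := rfl
def n16386 : Q := act 4 n7605
theorem D16386 : act 4 n7605 = n16386 := rfl
def n16387 : Q := act 5 n7605
theorem D16387 : act 5 n7605 = n16387 := rfl
theorem F25882 : act 3 n16387 = n7607 := d6_1 D16387 (iv5 D7607) D7605
def n16388 : Q := act 6 n7605
theorem D16388 : act 6 n7605 = n16388 := rfl
theorem F25883 : act 3 n16388 = n7608 := d7_1 D16388 (iv6 D7608) D7605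
def n16389 : Q := act 7 n7605
theorem D16389 : act 7 n7605 = n16389 := rfl
def n16390 : Q := act 0 n7606
theorem D16390 : act 0 n7606 = n16390 := rfl
def n16391 : Q := act 1 n7606
theorem D16391 : act 1 n7606 = n16391 := rfl
theorem F25885 : act 1 n16391 = n7611 := d15_1 D16391 (iv7 F25878) F25877
def n16392 : Q := act 3 n7606
theorem D16392 : act 3 n7606 = n16392 := rfl
def n16393 : Q := act 5 n7606
theorem D16393 : act 5 n7606 = n16393 := rfl
def n16394 : Q := act 6 n7606
theorem D16394 : act 6 n7606 = n16394 := rfl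
theorem F25886 : act 4 n16394 = n7608 := d10_1 D16394 (iv6 D7608) D7606
def n16395 : Q := act 7 n7606
theorem D16395 : act 7 n7606 = n16395 := rfl
theorem F25887 : act 2 n16395 = n7611 := d4_1 D16395 (iv7 F25878) F25877
theorem F25889 : act 1 n7611 = n16390 := d15_0 (iv0 D16390) D16395 F25887
def n16396 : Q := act 0 n7607
theorem D16396 : act 0 n7607 = n16396 := rfl
theorem F25890 : act 5 n16396 = n16091 := d21_2 D7607 D16396 (iv6 D16091) (iv1 D7512) (iv6 D3426) (iv5 D1507) (iv1 D816) D818 D1516 D3454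
def n16397 : Q := act 1 n7607
theorem D16397 : act 1 n7607 = n16397 := rfl
theorem F25891 : act 1 n16397 = n7612 := d15_1 D16397 (iv7 F25880) F25879
def n16398 : Q := act 4 n7607
theorem D16398 : act 4 n7607 = n16398 := rfl
def n16399 : Q := act 6 n7607
theorem D16399 : act 6 n7607 = n16399 := rfl
def n16400 : Q := act 7 n7607
theorem D16400 : act 7 n7607 = n16400 := rfl
theorem F25892 : act 2 n16400 = n7612 := d4_1 D16400 (iv7 F25880) F25879
theorem F25894 : act 1 n7612 = n16396 := d15_0 (iv0 D16396) D16400 F25892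
def n16401 : Q := act 0 n7608
theorem D16401 : act 0 n7608 = n16401 := rfl
def n16402 : Q := act 1 n7608
theorem D16402 : act 1 n7608 = n16402 := rfl
def n16403 : Q := act 5 n7608
theorem D16403 : act 5 n7608 = n16403 := rfl
theorem F25895 : act 0 n16403 = n12775 := d21_7 (iv5 D1507) (iv1 D816) D818 D1516 D3454 D7608 D16403 F21211 (iv6 D6048) F4063
def n16404 : Q := act 7 n7608
theorem D16404 : act 7 n7608 = n16404 := rfl
def n16405 : Q := act 6 n7609
theorem D16405 : act 6 n7609 = n16405 := rfl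
theorem F25896 : act 2 n16405 = n7613 := d3_1 D16405 (iv6 D7613) (iv2 F11837)
def n16406 : Q := act 0 n7610
theorem D16406 : act 0 n7610 = n16406 := rfl
def n16407 : Q := act 1 n7610
theorem D16407 : act 1 n7610 = n16407 := rfl
def n16408 : Q := act 2 n7610
theorem D16408 : act 2 n7610 = n16408 := rfl
def n16409 : Q := act 4 n7610
theorem D16409 : act 4 n7610 = n16409 := rfl
def n16410 : Q := act 5 n7610
theorem D16410 : act 5 n7610 = n16410 := rfl
theorem F25897 : act 3 n16410 = n7612 := d6_1 D16410 (iv5 D7612) D7610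
def n16411 : Q := act 6 n7610
theorem D16411 : act 6 n7610 = n16411 := rfl
theorem F25898 : act 3 n16411 = n7613 := d7_1 D16411 (iv6 D7613) D7610
def n16412 : Q := act 3 n7611
theorem D16412 : act 3 n7611 = n16412 := rfl
def n16413 : Q := act 5 n7611
theorem D16413 : act 5 n7611 = n16413 := rfl
def n16414 : Q := act 6 n7611
theorem D16414 : act 6 n7611 = n16414 := rfl
theorem F25899 : act 4 n16414 = n7613 := d10_1 D16414 (iv6 D7613) D7611
def n16415 : Q := act 4 n7612
theorem D16415 : act 4 n7612 = n16415 := rfl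
def n16416 : Q := act 6 n7612
theorem D16416 : act 6 n7612 = n16416 := rfl
theorem F25900 : act 0 n14852 = n16416 := d21_4 F5306 (iv1 F7629) D7073 D14852 (iv6 D16416) (iv5 D7612) (iv1 D3455) (iv5 F5308) (iv6 D3322) D3319
def n16417 : Q := act 0 n7613
theorem D16417 : act 0 n7613 = n16417 := rfl
def n16418 : Q := act 1 n7613
theorem D16418 : act 1 n7613 = n16418 := rfl
def n16419 : Q := act 5 n7613
theorem D16419 : act 5 n7613 = n16419 := rfl
theorem F25901 : act 0 n15986 = n16419 := d21_1 D15986 (iv5 D16419) (iv6 D7613) (iv1 D3455) (iv6 D1516) (iv5 D818) D815 D1504 D3417 D7480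
def n16420 : Q := act 7 n7613
theorem D16420 : act 7 n7613 = n16420 := rfl
def n16421 : Q := act 0 n7615
theorem D16421 : act 0 n7615 = n16421 := rfl
def n16422 : Q := act 1 n7615
theorem D16422 : act 1 n7615 = n16422 := rfl
def n16423 : Q := act 2 n7615
theorem D16423 : act 2 n7615 = n16423 := rfl
def n16424 : Q := act 4 n7615
theorem D16424 : act 4 n7615 = n16424 := rfl
theorem F25902 : act 3 n16424 = n12221 := d5_1 D16424 F20217 (iv3 D6501) F12422 D7615
def n16425 : Q := act 5 n7615
theorem D16425 : act 5 n7615 = n16425 := rfl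
theorem F25903 : act 3 n16425 = n7617 := d6_1 D16425 (iv5 D7617) D7615
def n16426 : Q := act 0 n7617
theorem D16426 : act 0 n7617 = n16426 := rfl
theorem F25904 : act 5 n16426 = n12492 := d17_3 D3457 D7617 D16426 F20814 (iv5 F11843) (iv0 D7631) (iv5 D3461) (iv0 D1518) (iv4 F2631)
theorem F25905 : act 1 n7622 = n16426 := d15_0 (iv0 D16426) (iv7 F21154) F21153
theorem F25906 : act 2 n15459 = n16426 := d2_3 F25904 F20813 D15459
def n16427 : Q := act 1 n7617
theorem D16427 : act 1 n7617 = n16427 := rfl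
theorem F25907 : act 1 n16427 = n7622 := d15_1 D16427 (iv7 F21151) F21150
theorem F25908 : act 7 n16427 = n15459 := d15_2 (iv0 D16426) D16427 F25906
theorem F25909 : act 5 n16427 = n14901 := d17_7 F12716 (iv5 D7966) F10569 (iv5 D6503) F12422 D7617 D16427 (iv0 F24545) F23104
def n16428 : Q := act 4 n7617
theorem D16428 : act 4 n7617 = n16428 := rfl
def n16429 : Q := act 6 n7617
theorem D16429 : act 6 n7617 = n16429 := rfl
def n16433 : Q := act 4 n7620
theorem D16433 : act 4 n7620 = n16433 := rfl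
theorem F25910 : act 3 n16433 = n13684 := d5_1 D16433 (iv4 D13684) (iv3 D6504) (iv4 F12417) D7620
def n16434 : Q := act 5 n7620
theorem D16434 : act 5 n7620 = n16434 := rfl
theorem F25911 : act 3 n16434 = n7622 := d6_1 D16434 (iv5 D7622) D7620
def n16435 : Q := act 6 n7620
theorem D16435 : act 6 n7620 = n16435 := rfl
theorem F25912 : act 3 n16435 = n7623 := d7_1 D16435 (iv6 D7623) D7620
def n16436 : Q := act 4 n7622
theorem D16436 : act 4 n7622 = n16436 := rfl
def n16437 : Q := act 6 n7622
theorem D16437 : act 6 n7622 = n16437 := rfl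
def n16438 : Q := act 5 n7623
theorem D16438 : act 5 n7623 = n16438 := rfl
theorem F25913 : act 2 n16438 = n15633 := d2_1 D16438 F25130 F21155
theorem F25914 : act 7 n16438 = n15634 := d13_2 F18693 D16438 F25133
theorem F25915 : act 0 n16438 = n12524 := d17_2 F20818 D16438 (iv5 D12524) (iv4 D5957) (iv5 F4725) F5296 (iv5 F5439) (iv0 F9218) D12493
theorem F25916 : act 1 n16438 = n12522 := d17_6 D2585 D6137 (iv1 F10523) (iv5 F10573) F12424 D16438 (iv5 D12522) F10675 F4140
def n16439 : Q := act 3 n7624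
theorem D16439 : act 3 n7624 = n16439 := rfl
def n16440 : Q := act 4 n7624
theorem D16440 : act 4 n7624 = n16440 := rfl
theorem F25917 : act 5 n16440 = n16436 := d16_1 D16440 (iv4 D16436) (iv5 D7622) F12417 D6506 D13687 F22850 (iv7 F23109) F23108
theorem F25918 : act 1 n16440 = n13681 := d18_6 (iv1 F21194) F12708 F10569 D13683 F22834 D16440 (iv4 D13681) D13680 (iv5 F22829)
def n16441 : Q := act 6 n7624
theorem D16441 : act 6 n7624 = n16441 := rfl
def n16442 : Q := act 3 n7625
theorem D16442 : act 3 n7625 = n16442 := rfl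
def n16443 : Q := act 4 n7625
theorem D16443 : act 4 n7625 = n16443 := rfl
theorem F25919 : act 5 n16443 = n16428 := d9_2 F22850 D16443 (iv4 D16428) (iv5 D7617) (iv4 F12422) D6503 D13683 F22834 D16440 F25917 (iv4 D16436) (iv5 D7622) F12417 D6506 D13687
theorem F25920 : act 0 n16443 = n13681 := d18_2 (iv1 F20722) D16443 (iv4 D13681) (iv5 D6500) F4491 D2893 (iv4 F12417) F9179 D12446
def n16444 : Q := act 6 n7625
theorem D16444 : act 6 n7625 = n16444 := rfl
def n16445 : Q := act 0 n7626
theorem D16445 : act 0 n7626 = n16445 := rfl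
def n16446 : Q := act 1 n7626
theorem D16446 : act 1 n7626 = n16446 := rfl
def n16447 : Q := act 3 n7626
theorem D16447 : act 3 n7626 = n16447 := rfl
def n16448 : Q := act 5 n7626
theorem D16448 : act 5 n7626 = n16448 := rfl
theorem F25921 : act 2 n16448 = n15239 := d2_1 D16448 F24833 F21162
theorem F25922 : act 7 n16448 = n12751 := d13_2 F24832 D16448 (iv5 F24833)
theorem F25923 : act 4 n16448 = n12446 := d16_2 D7626 D16448 (iv5 D12446) F9177 F3949 (iv4 F9177) D12446 F20721 F9365
theorem F25924 : act 1 n16446 = n16448 := d15_1 D16446 F25922 F21162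
theorem F25925 : act 1 n16448 = n16445 := d15_0 (iv0 D16445) (iv7 F24832) (iv2 F25921)
def n16449 : Q := act 0 n7629
theorem D16449 : act 0 n7629 = n16449 := rfl
def n16450 : Q := act 1 n7629
theorem D16450 : act 1 n7629 = n16450 := rfl
def n16451 : Q := act 2 n7629
theorem D16451 : act 2 n7629 = n16451 := rfl
def n16452 : Q := act 5 n7629
theorem D16452 : act 5 n7629 = n16452 := rfl
theorem F25927 : act 3 n16452 = n7630 := d6_1 D16452 (iv5 D7630) D7629
def n16453 : Q := act 0 n7630
theorem D16453 : act 0 n7630 = n16453 := rfl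
theorem F25928 : act 5 n16453 = n7964 := d17_3 F11990 D7630 D16453 F12708 D7966 (iv0 F12716) (iv5 D7871) (iv0 D3568) (iv4 F5594)
theorem F25929 : act 1 n7637 = n16453 := d15_0 (iv0 D16453) (iv7 F21186) F21185
theorem F25930 : act 2 n15428 = n16453 := d2_3 F25928 F12707 D15428
def n16454 : Q := act 1 n7630
theorem D16454 : act 1 n7630 = n16454 := rfl
theorem F25931 : act 1 n16454 = n7637 := d15_1 D16454 (iv7 F21177) F21176
theorem F25932 : act 7 n16454 = n15428 := d15_2 (iv0 D16453) D16454 F25930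
theorem F25933 : act 5 n16454 = n14895 := d17_7 F11351 F11348 F5435 (iv5 D3461) D3460 D7630 D16454 (iv0 F24537) (iv4 D12756)
def n16455 : Q := act 4 n7630
theorem D16455 : act 4 n7630 = n16455 := rfl
def n16456 : Q := act 6 n7630
theorem D16456 : act 6 n7630 = n16456 := rfl
def n16457 : Q := act 3 n7631
theorem D16457 : act 3 n7631 = n16457 := rfl
theorem F25934 : act 5 n16457 = n12153 := d6_2 (iv5 F11843) D16457 F20103
theorem F25935 : act 6 n16457 = n12103 := d7_2 (iv6 F11844) D16457 F20027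
theorem F25936 : act 7 n16457 = n12153 := d8_2 (iv7 F11847) D16457 F20103
theorem F25937 : act 1 n13685 = n16457 := d15_1 F23475 F25936 (iv2 F21333)
theorem F25938 : act 1 n16457 = n14062 := d15_1 F25937 F23473 (iv2 F22839)
def n16458 : Q := act 4 n7631
theorem D16458 : act 4 n7631 = n16458 := rfl
theorem F25939 : act 2 n16458 = n14901 := d1_1 D16458 F24543 F11845
theorem F25940 : act 6 n16458 = n12356 := d10_2 (iv6 F11844) D16458 (iv4 D12356)
theorem F25941 : act 7 n16458 = n12492 := d11_2 (iv7 F11847) D16458 F20814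
theorem F25942 : act 0 n16458 = n13687 := d17_0 F22850 (iv1 D7625) (iv5 D3459) F2631 F1530 D1519 D3464 F11846 D16458
theorem F25943 : act 0 n13683 = n16458 := d20_1 D13683 (iv4 D16458) D16457 (iv1 F25937) F22840 D13687 (iv1 F23112) F11601 (iv3 F12601) F10569
def n16459 : Q := act 0 n7632
theorem D16459 : act 0 n7632 = n16459 := rfl
theorem F25944 : act 4 n16459 = n7966 := d18_3 F5435 D7632 D16459 (iv5 D7966) (iv4 F12708) F21194 (iv4 D12760) (iv0 F11350) F11348
theorem F25945 : act 6 n16459 = n12353 := d21_5 D6604 (iv1 F23153) F23155 (iv6 F11848) D16459 (iv5 F20943) (iv1 F20946) F11716 F5402 (iv1 F4742)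
theorem F25946 : act 2 n14895 = n16459 := d15_3 (iv0 D16459) F12455 (iv7 F24535)
theorem F25947 : act 1 n7639 = n16459 := d15_0 (iv0 D16459) (iv7 F21193) F21191
theorem F25948 : act 7 n16459 = n7964 := d15_2 F21182 F25947 F12707
def n16460 : Q := act 3 n7632
theorem D16460 : act 3 n7632 = n16460 := rfl
theorem F25949 : act 4 n16460 = n16460 := d5_2 D7632 D16460 (iv3 D16460) (iv4 D7632) F5433
theorem F25950 : act 6 n16460 = n14044 := d7_2 (iv6 F11848) D16460 (iv3 D14044)
def n16461 : Q := act 5 n7632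
theorem D16461 : act 5 n7632 = n16461 := rfl
theorem F25951 : act 2 n16461 = n13679 := d2_1 D16461 F22828 F21178
theorem F25952 : act 7 n16461 = n13680 := d13_2 F21193 D16461 (iv5 F22829)
theorem F25953 : act 0 n16461 = n13579 := d17_2 (iv1 F12455) D16461 (iv5 D13579) F10533 F4472 (iv0 F5596) D7871 (iv0 F12448) (iv4 F11588)
theorem F25954 : act 1 n16461 = n7869 := d17_6 (iv1 D1519) F1530 D1518 D3461 D7632 D16461 (iv5 D7869) F11991 (iv4 D3463)
theorem F25955 : act 4 n16461 = n16445 := d18_5 (iv1 F23112) F11601 F5435 D7632 D16461 (iv0 D16445) (iv4 D7626) D7625 (iv5 F22850)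
def n16462 : Q := act 3 n7633
theorem D16462 : act 3 n7633 = n16462 := rfl
theorem F25956 : act 4 n16462 = n7636 := d5_2 D7633 D16462 (iv3 D7636) (iv4 D3463) D3462
def n16471 : Q := act 4 n7637
theorem D16471 : act 4 n7637 = n16471 := rfl
theorem F25967 : act 5 n16471 = n16445 := d16_1 D16471 (iv4 F25955) (iv5 D16461) (iv4 D7632) (iv5 D3461) D3460 D7630 (iv7 F21186) F21185
def n16473 : Q := act 5 n7638
theorem D16473 : act 5 n7638 = n16473 := rfl
theorem F25970 : act 0 n16473 = n8182 := d17_2 F12946 D16473 (iv5 D8182) (iv4 D3687) D3688 F12938 F12935 F12459 D7965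
theorem F25971 : act 1 n16473 = n8176 := d17_6 D2512 (iv5 F9135) (iv1 F9138) (iv5 F5439) (iv4 F11858) D16473 (iv5 D8176) F10670 F3981
def n16474 : Q := act 3 n7639
theorem D16474 : act 3 n7639 = n16474 := rfl
theorem F25972 : act 6 n16474 = n15275 := d7_2 (iv6 F11860) D16474 (iv3 D15275)
def n16475 : Q := act 5 n7639
theorem D16475 : act 5 n7639 = n16475 := rfl
theorem F25973 : act 2 n16475 = n13680 := d2_1 D16475 (iv5 F22829) F21191
theorem F25974 : act 7 n16475 = n13679 := d13_2 F21180 D16475 F22828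
theorem F25975 : act 0 n16475 = n7869 := d17_2 (iv1 F25947) D16475 (iv5 D7869) F5594 F2742 D3569 D7873 (iv0 F12715) (iv4 F25944)
theorem F25976 : act 1 n16475 = n13579 := d17_6 (iv1 F3952) F3949 (iv1 F3951) D3464 D7639 D16475 (iv5 D13579) F11989 (iv4 D3460)
theorem F25977 : act 4 n16475 = n16446 := d18_5 F25943 (iv4 D16458) (iv1 F11846) D7639 D16475 F25924 F25923 F20723 (iv5 F22834)
theorem F25978 : act 5 n16455 = n16446 := d9_14 (iv5 D16475) (iv4 D7639) (iv5 D3464) D3463 D7637 D16471 F25967 (iv4 F25955) (iv5 D16461) (iv4 D7632) (iv5 D3461) D3460 D7630 D16455 (iv4 F25977)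
def n16476 : Q := act 2 n7640
theorem D16476 : act 2 n7640 = n16476 := rfl
theorem F25979 : act 5 n16476 = n13643 := d2_2 (iv5 F25821) D16476 (iv2 D13643)
theorem F25980 : act 7 n7641 = n16476 := d15_2 (iv0 D7640) D7641 (iv2 D16476)
def n16477 : Q := act 3 n7640
theorem D16477 : act 3 n7640 = n16477 := rfl
theorem F25981 : act 5 n16477 = n13644 := d6_2 (iv5 F25821) D16477 (iv3 D13644)
theorem F25982 : act 4 n16477 = n15241 := d20_6 (iv4 D869) (iv1 F1574) D1527 D3466 D7640 D16477 (iv1 D15241) F11537 (iv3 D3327) F2581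
theorem E3171 : n15255 = n3911 := (c18_10 (iv1 F9341) D12694 (iv1 F21092) (iv4 F22808) (iv5 F25981) F25982 F24838 F21195 F11547 D15255)
theorem E3172 : n8749 = n7226 := ((D8749).symm.trans (sb E3171 (iv5 D15255)))
theorem F25983 : act 5 n7226 = n3911 := (sb E3172 (iv5 D8749))
theorem F25984 : act 5 n8746 = n15252 := d2_2 F25983 D8746 (iv2 D15252)
theorem F25985 : act 5 n8747 = n15253 := d6_2 F25983 D8747 (iv3 D15253)
theorem F25986 : act 5 n8751 = n15257 := d13_3 (iv7 D15257) F25983 D8751
theorem E3173 : n15260 = n3912 := (c2_3 F25986 F24853 D15260 (iv2 F13643))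
theorem E3174 : n8754 = n7227 := ((D8754).symm.trans (sb E3173 (iv5 D15260)))
theorem F25987 : act 5 n7227 = n3912 := (sb E3174 (iv5 D8754))
theorem F25988 : act 5 n8752 = n15258 := d6_2 F25987 D8752 (iv3 D15258)
def n16478 : Q := act 4 n7640
theorem D16478 : act 4 n7640 = n16478 := rfl
theorem F25989 : act 5 n16478 = n16270 := d18_4 (iv1 D3513) (iv4 F5440) D7640 D16478 (iv4 D16270) (iv0 D7576) (iv4 D3447) D3446 (iv5 F25814)
theorem F25990 : act 3 n16478 = n15332 := d20_3 (iv4 F5440) D7640 D16478 (iv1 D15332) (iv3 D7253) D7254 D15337 F24915 (iv3 D7742) (iv1 D3513)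
def n16479 : Q := act 6 n7640
theorem D16479 : act 6 n7640 = n16479 := rfl
def n16480 : Q := act 7 n7640
theorem D16480 : act 7 n7640 = n16480 := rfl
theorem F25992 : act 5 n16480 = n13648 := d13_1 D16480 (iv7 D13648) (iv5 F25821)
def n16481 : Q := act 3 n7641
theorem D16481 : act 3 n7641 = n16481 := rfl
theorem F25993 : act 5 n16481 = n13649 := d6_2 (iv5 F25822) D16481 (iv3 D13649)
def n16482 : Q := act 4 n7641
theorem D16482 : act 4 n7641 = n16482 := rfl
theorem F25994 : act 5 n16482 = n16275 := d18_4 D7735 F12044 (iv1 F11866) D16482 (iv4 D16275) F21947 F21943 F9799 F25818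
theorem F25995 : act 3 n16482 = n7920 := d20_3 F12044 (iv1 F11866) D16482 (iv1 F12536) (iv3 F11862) F11863 D7746 (iv4 F12050) (iv3 D7737) D7735
theorem F25996 : act 5 n7920 = n8897 := d6_2 (iv5 F25994) F25995 (iv3 F25831)
def n16483 : Q := act 6 n7641
theorem D16483 : act 6 n7641 = n16483 := rfl
def n16484 : Q := act 5 n7643
theorem D16484 : act 5 n7643 = n16484 := rfl
theorem F25997 : act 2 n16484 = n12050 := d2_1 D16484 (iv5 D12050) (iv2 F11868)
theorem F25998 : act 3 n16484 = n7646 := d6_1 D16484 (iv5 D7646) (iv3 F11869)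
theorem F25999 : act 6 n16484 = n12047 := d12_2 D7643 D16484 (iv5 D12047) (iv6 D5708) (iv5 F5444)
theorem F26000 : act 0 n12084 = n16484 := d21_7 (iv5 F4747) (iv1 F4750) F3742 D3074 D6793 D14271 (iv5 F23820) (iv5 D16484) (iv6 D7643) (iv1 F5447)
def n16485 : Q := act 4 n7646
theorem D16485 : act 4 n7646 = n16485 := rfl
theorem F26001 : act 6 n16485 = n14332 := d10_2 (iv6 F11871) D16485 (iv4 D14332)
def n16486 : Q := act 4 n7650
theorem D16486 : act 4 n7650 = n16486 := rfl
theorem F26002 : act 2 n16486 = n16485 := d1_1 D16486 (iv4 D16485) (iv2 F11874)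
theorem F26003 : act 6 n16486 = n14333 := d10_2 (iv6 F11875) D16486 (iv4 D14333)
def n16487 : Q := act 2 n7652
theorem D16487 : act 2 n7652 = n16487 := rfl
theorem F26004 : act 6 n16487 = n14440 := d3_2 (iv6 F11881) D16487 F24097
theorem F26005 : act 7 n7653 = n16487 := d15_2 (iv0 D7652) D7653 (iv2 D16487)
theorem F26006 : act 7 n14439 = n11901 := d14_4 F26005 F26004 (iv7 D14440) D14439 F23862
theorem F26007 : act 7 n14032 = n13841 := d13_2 F26006 F23860 (iv5 F24095)
theorem F26008 : act 2 n11901 = n7665 := d15_3 (iv0 F23855) (iv0 F24094) F26006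
theorem F26009 : act 2 n14439 = n11902 := d15_3 F23835 F23836 (iv7 F26006)
theorem F26010 : act 2 n14033 = n13841 := d2_3 (iv5 F24095) F26009 F23932
theorem E3175 : n14422 = n14320 := ((c3_3 D14439 F26009 (iv6 F23930) F24071)).symm
theorem F26011 : act 2 n14320 = n6903 := (sb E3175 F24071)
theorem E3176 : n6900 = n6840 := ((((iv5 D14320)).symm.trans (sb E3175 (iv5 D14422)))).symm
theorem F26012 : act 7 n14320 = n6908 := (sb E3175 F24072)
theorem E3177 : n14418 = n3110 := ((((iv1 F11096)).symm.trans (sb E3176 D14418))).symm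
theorem E3179 : n14317 = n3107 := ((D14317).symm.trans (sb E3176 (iv2 D6900)))
theorem E3180 : n14420 = n14318 := (((D14318).symm.trans (sb E3176 D14420))).symm
theorem E3181 : n14421 = n14319 := (((D14319).symm.trans (sb E3176 D14421))).symm
theorem E3182 : n14423 = n14321 := (((D14321).symm.trans (sb E3176 D14423))).symm
theorem E3183 : n14322 = n3108 := ((D14322).symm.trans (sb E3176 (iv7 F11186)))
theorem E3184 : n6905 = n6841 := ((((iv1 F11092)).symm.trans (sb E3177 (iv1 F24066)))).symm
theorem F26013 : act 2 n3107 = n6840 := (sb E3179 (iv2 D14317))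
theorem F26014 : act 7 n14318 = n6906 := (sb E3180 F24068)
theorem F26015 : act 2 n14319 = n6902 := (sb E3181 F24069)
theorem F26016 : act 7 n14319 = n6907 := (sb E3181 F24070)
theorem F26017 : act 2 n14321 = n6904 := (sb E3182 F24074)
theorem F26018 : act 7 n3108 = n6840 := (sb E3183 (iv7 D14322))
theorem F26019 : act 2 n6841 = n3108 := (sb E3184 F11187)
theorem E3185 : n14430 = n14323 := (((D14323).symm.trans (sb E3184 (iv3 F24083)))).symm
theorem E3186 : n14436 = n14324 := (((D14324).symm.trans (sb E3184 (iv4 F24087)))).symm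
theorem E3187 : n14440 = n7660 := ((((iv5 F11896)).symm.trans (sb E3184 (iv5 F24098)))).symm
theorem E3188 : n14445 = n14325 := (((D14325).symm.trans (sb E3184 D14445))).symm
theorem F26020 : act 7 n6841 = n3107 := (sb E3184 (iv7 D6905))
theorem F26021 : act 7 n14323 = n6901 := (sb E3185 (iv7 D14430))
theorem F26022 : act 2 n14324 = n6907 := (sb E3186 F24086)
theorem F26023 : act 7 n14324 = n6902 := (sb E3186 (iv7 D14436))
theorem F26024 : act 2 n7660 = n6908 := (sb E3187 F24097)
theorem E3189 : n16487 = n3471 := ((((iv6 D7660)).symm.trans (sb E3187 (iv6 F26004)))).symm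
theorem F26025 : act 7 n7660 = n6903 := (sb E3187 (iv7 D14440))
theorem F26026 : act 2 n14325 = n6909 := (sb E3188 F24100)
theorem E3190 : n7656 = n7652 := ((D7656).symm.trans (sb E3189 (iv2 D16487)))
theorem E3191 : n7661 = n7653 := ((D7661).symm.trans (sb E3189 (iv7 F26005)))
theorem F26027 : act 2 n7652 = n3471 := (sb E3190 (iv2 D7656))
theorem F26028 : act 7 n7652 = n3472 := (sb E3190 (iv7 F11893))
theorem F26029 : act 2 n7653 = n3472 := (sb E3191 F11897)
theorem F26030 : act 7 n7653 = n3471 := (sb E3191 (iv7 D7661))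
theorem F26031 : act 7 n11902 = n7665 := d4_2 (iv7 F26006) F26009 (iv2 F26008)
theorem F26032 : act 7 n13842 = n14033 := d13_2 F26031 (iv5 F23118) (iv5 F23932)
theorem F26033 : act 2 n14032 = n13842 := d4_3 F26032 F26010 (iv7 F26007)
theorem F26034 : act 7 n7657 = n7663 := d8_2 F26030 D7657 (iv3 F11898)
theorem F26035 : act 7 n7658 = n11327 := d11_2 F26030 D7658 (iv4 F19519)
theorem E3192 : n11321 = n11243 := (c8_3 F26035 (iv3 D11327) F18498 F19527)
theorem F26036 : act 2 n11243 = n5231 := (sb E3192 (iv2 D11321))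
theorem F26037 : act 7 n11243 = n5232 := (sb E3192 (iv7 F18498))
theorem F26038 : act 2 n11327 = n7663 := d15_3 F19938 (iv0 F19939) F26035
theorem F26039 : act 2 n7658 = n7657 := d4_1 (iv7 F26035) F26034 (iv2 F26038)
theorem E3193 : n11326 = n7662 := ((c0_5 D11327 F26038 (iv3 F11898) F26029 D7662 F18499)).symm
theorem F26040 : act 2 n7662 = n5232 := (sb E3193 F18499)
theorem F26041 : act 7 n7662 = n5231 := (sb E3193 (iv7 D11326))
theorem F26042 : act 7 n14428 = n14452 := d8_2 F26025 (iv3 F24078) (iv3 F24107)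
theorem F26043 : act 7 n14427 = n13502 := d11_2 F26021 D14427 (iv4 F23935)
theorem F26044 : act 1 n14426 = n14204 := d15_0 F23994 F26021 D14426
theorem F26045 : act 1 n14369 = n14426 := d15_0 F26044 (iv7 F23976) (iv2 F23990)
theorem F26046 : act 5 n14438 = n14426 := d17_5 (iv1 D1390) D1391 D3107 D6903 D14438 F26044 (iv5 D14204) F11149 (iv4 D3104)
theorem F26047 : act 2 n14428 = n14438 := d2_3 F26046 (iv2 D14426) D14428
theorem F26048 : act 1 n14438 = n11867 := d15_0 (iv0 F24106) (iv7 F26042) F26047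
theorem F26049 : act 0 n14408 = n11866 := d21_7 F26046 (iv1 F26045) (iv5 D14369) F11146 (iv1 F11143) D6893 D14408 (iv5 D11866) D11867 (iv1 F26048)
theorem F26050 : act 2 n14427 = n13501 := d15_3 (iv0 D13501) D13502 (iv7 F26043)
theorem F26051 : act 4 n13501 = n14426 := d1_2 D14427 F26050 (iv2 D14426)
theorem E3194 : n13499 = n11758 := ((c18_9 (iv1 D6421) D6422 D13501 F26051 (iv5 F26046) (iv4 D14438) F22597 (iv4 F10113) D11758 (iv5 D13499))).symm
theorem F26052 : act 2 n11758 = n11469 := (sb E3194 (iv2 F22928))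
theorem F26053 : act 3 n11758 = n14216 := (sb E3194 (iv3 F23742))
theorem F26054 : act 5 n11758 = n6421 := (sb E3194 (iv5 D13499))
theorem F26055 : act 6 n11758 = n11461 := (sb E3194 F22649)
def n16488 : Q := act 5 n7652
theorem D16488 : act 5 n7652 = n16488 := rfl
theorem F26056 : act 2 n16488 = n7659 := d2_1 D16488 (iv5 D7659) (iv2 F26027)
theorem F26057 : act 3 n16488 = n11324 := d6_1 D16488 (iv5 D11324) (iv3 F19466)
theorem F26058 : act 6 n16488 = n14455 := d12_2 (iv6 F11881) D16488 (iv5 D14455) (iv6 D6909) D6908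
theorem F26059 : act 7 n16488 = n7664 := d13_2 (iv7 F26028) D16488 (iv5 D7664)
theorem F26060 : act 0 n16488 = n13846 := d21_1 D16488 (iv5 D13846) (iv6 D6585) F22493 (iv6 D1378) (iv5 F3744) (iv1 F2102) (iv5 F2670) D3470 D7652
def n16489 : Q := act 5 n7653
theorem D16489 : act 5 n7653 = n16489 := rfl
theorem F26061 : act 2 n16489 = n7664 := d2_1 D16489 (iv5 D7664) (iv2 F26029)
theorem F26062 : act 7 n16489 = n7659 := d13_2 (iv7 F26030) D16489 (iv5 D7659)
theorem F26063 : act 0 n13846 = n16489 := d21_1 D13846 (iv5 D16489) (iv6 F23862) (iv1 F23836) (iv6 F24091) F24090 (iv1 D14310) (iv5 D6834) D6835 F22557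
def n16490 : Q := act 0 n7654
theorem D16490 : act 0 n7654 = n16490 := rfl
theorem F26064 : act 5 n16490 = n14293 := d21_2 D7654 D16490 F23852 F22472 F10368 D6671 D14032 (iv5 F23860) F23862 (iv1 D7653)
theorem F26065 : act 2 n7666 = n16490 := d15_3 (iv0 D16490) (iv0 F11886) F22548
theorem F26066 : act 7 n16490 = n7667 := d4_2 F22548 F26065 F11900
theorem F26067 : act 1 n7669 = n16490 := d15_1 F11904 F26066 F11900
def n16491 : Q := act 4 n7654
theorem D16491 : act 4 n7654 = n16491 := rfl
theorem F26068 : act 2 n16491 = n7668 := d1_1 D16491 (iv4 D7668) (iv2 F11883)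
theorem F26069 : act 6 n16491 = n12247 := d10_2 (iv6 F11885) D16491 (iv4 D12247)
def n16492 : Q := act 7 n7654
theorem D16492 : act 7 n7654 = n16492 := rfl
theorem F26070 : act 2 n16492 = n7669 := d4_1 D16492 (iv7 D7669) (iv2 F11883)
theorem F26071 : act 3 n16492 = n14307 := d8_1 D16492 (iv7 D14307) (iv3 F11884)
theorem F26072 : act 5 n16492 = n7655 := d13_1 D16492 (iv7 D7655) D7654
theorem F26073 : act 1 n7667 = n16492 := d15_1 D7667 (iv7 D16492) F11883
theorem F26074 : act 1 n16492 = n7666 := d15_1 F26073 (iv7 F22548) (iv2 F11900)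
def n16493 : Q := act 5 n7657
theorem D16493 : act 5 n7657 = n16493 := rfl
theorem F26075 : act 3 n16493 = n7659 := d6_1 D16493 (iv5 D7659) D7657
def n16494 : Q := act 5 n7658
theorem D16494 : act 5 n7658 = n16494 := rfl
theorem F26076 : act 2 n16494 = n16493 := d2_1 D16494 (iv5 D16493) (iv2 F26039)
def n16495 : Q := act 6 n7658
theorem D16495 : act 6 n7658 = n16495 := rfl
theorem F26077 : act 2 n16495 = n14452 := d3_1 D16495 F24104 (iv2 F26039)
theorem F26078 : act 4 n16495 = n7660 := d10_1 D16495 (iv6 D7660) D7658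
theorem F26079 : act 7 n14438 = n16495 := d11_0 F26078 F26025 D14438
theorem F26080 : act 1 n12079 = n16495 := d17_8 (iv1 F22529) F22549 (iv1 F11153) (iv5 D3105) D3104 D6892 F24003 F24002 F26078
def n16496 : Q := act 4 n7659
theorem D16496 : act 4 n7659 = n16496 := rfl
def n16497 : Q := act 6 n7659
theorem D16497 : act 6 n7659 = n16497 := rfl
theorem F26081 : act 2 n16497 = n14455 := d3_1 D16497 (iv6 F26058) F26056
theorem F26082 : act 5 n16497 = n14325 := d12_1 D16497 (iv6 D14325) (iv5 F11896) (iv6 D7660) D7659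
def n16498 : Q := act 5 n7662
theorem D16498 : act 5 n7662 = n16498 := rfl
theorem F26083 : act 2 n16498 = n11329 := d2_1 D16498 (iv5 D11329) (iv2 F26040)
theorem F26084 : act 3 n16498 = n7664 := d6_1 D16498 (iv5 D7664) D7662
theorem F26085 : act 7 n16498 = n11324 := d13_2 (iv7 F26041) D16498 (iv5 D11324)
def n16499 : Q := act 6 n7662
theorem D16499 : act 6 n7662 = n16499 := rfl
theorem F26086 : act 2 n16499 = n11330 := d3_1 D16499 (iv6 D11330) (iv2 F26040)
theorem F26087 : act 3 n16499 = n7665 := d7_1 D16499 (iv6 D7665) D7662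
theorem F26088 : act 4 n16499 = n11330 := d10_1 D16499 (iv6 D11330) (iv4 F19520)
theorem F26089 : act 0 n13340 = n11330 := d20_1 (iv4 F22206) (iv4 F26088) F26087 (iv1 F23857) F19592 F8522 (iv1 F4578) (iv4 F8643) D11973 F22227
def n16500 : Q := act 5 n7663
theorem D16500 : act 5 n7663 = n16500 := rfl
theorem F26090 : act 3 n16500 = n16489 := d6_1 D16500 (iv5 D16489) F11898
theorem F26091 : act 7 n16500 = n16493 := d13_2 F26034 D16500 (iv5 D16493)
def n16501 : Q := act 6 n7663
theorem D16501 : act 6 n7663 = n16501 := rfl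
theorem F26092 : act 3 n16501 = n11901 := d7_1 D16501 F23862 F11898
theorem F26093 : act 4 n16501 = n7665 := d10_1 D16501 (iv6 D7665) D7663
def n16502 : Q := act 4 n7664
theorem D16502 : act 4 n7664 = n16502 := rfl
def n16503 : Q := act 6 n7664
theorem D16503 : act 6 n7664 = n16503 := rfl
def n16504 : Q := act 3 n7666
theorem D16504 : act 3 n7666 = n16504 := rfl
theorem F26094 : act 5 n16504 = n14368 := d6_2 (iv5 F22547) D16504 F23987
theorem F26095 : act 7 n16504 = n14367 := d8_2 F22548 D16504 F23985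
theorem F26096 : act 0 n12039 = n16504 := d17_2 F19521 D12039 F26094 F23988 (iv5 F26064) (iv0 D16490) (iv5 D7654) D7653 F19519
def n16505 : Q := act 4 n7666
theorem D16505 : act 4 n7666 = n16505 := rfl
theorem F26097 : act 7 n16505 = n14393 := d11_2 F22548 D16505 (iv4 D14393)
def n16506 : Q := act 6 n7666
theorem D16506 : act 6 n7666 = n16506 := rfl
def n16507 : Q := act 3 n7667
theorem D16507 : act 3 n7667 = n16507 := rfl
theorem F26098 : act 2 n16507 = n11332 := d0_1 D16507 (iv3 F24019) F24018 F23985 (iv2 F11900)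
theorem F26099 : act 5 n16507 = n14309 := d6_2 F11899 D16507 F23915
theorem F26100 : act 1 n11245 = n16507 := d17_6 (iv1 D7054) D7055 F19422 (iv5 D5526) (iv4 F7701) D11245 F26099 (iv0 F24459) (iv4 D14804)
theorem F26101 : act 1 n16507 = n11334 := d15_1 F26100 (iv7 D11334) (iv2 F18284)
def n16508 : Q := act 4 n7667
theorem D16508 : act 4 n7667 = n16508 := rfl
theorem F26102 : act 2 n16508 = n14393 := d1_1 D16508 (iv4 D14393) (iv2 F11900)
def n16509 : Q := act 6 n7667
theorem D16509 : act 6 n7667 = n16509 := rfl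
theorem F26103 : act 2 n16509 = n14390 := d3_1 D16509 F24030 (iv2 F11900)
theorem F26104 : act 5 n16509 = n14312 := d12_1 D16509 (iv6 D14312) (iv5 D6834) D6835 F11899
def n16510 : Q := act 0 n7668
theorem D16510 : act 0 n7668 = n16510 := rfl
def n16511 : Q := act 1 n7668
theorem D16511 : act 1 n7668 = n16511 := rfl
def n16512 : Q := act 3 n7668
theorem D16512 : act 3 n7668 = n16512 := rfl
theorem F26105 : act 4 n16512 = n7690 := d5_2 D7668 D16512 (iv3 D7690) (iv4 D3486) (iv3 F5451)
theorem F26106 : act 6 n16512 = n12270 := d7_2 (iv6 F11901) D16512 (iv3 D12270)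
def n16513 : Q := act 5 n7668
theorem D16513 : act 5 n7668 = n16513 := rfl
def n16514 : Q := act 7 n7668
theorem D16514 : act 7 n7668 = n16514 := rfl
theorem F26107 : act 4 n16514 = n7669 := d11_1 D16514 (iv7 D7669) D7668
def n16515 : Q := act 6 n7669
theorem D16515 : act 6 n7669 = n16515 := rfl
theorem F26108 : act 3 n16515 = n7693 := d7_1 D16515 (iv6 D7693) (iv3 F11902)
theorem F26109 : act 5 n16515 = n16515 := d12_1 D16515 (iv6 D16515) F11903 F5454 (iv5 F11903)
theorem F26110 : act 7 n16515 = n12273 := d14_2 D7669 D16515 (iv6 D12273) (iv7 D5819) (iv6 F5452)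
def n16516 : Q := act 4 n7673
theorem D16516 : act 4 n7673 = n16516 := rfl
theorem F26111 : act 7 n16516 = n14493 := d11_2 (iv7 F11913) D16516 (iv4 D14493)
def n16517 : Q := act 6 n7673
theorem D16517 : act 6 n7673 = n16517 := rfl
theorem F26112 : act 3 n16517 = n7676 := d7_1 D16517 (iv6 D7676) (iv3 F11912)
theorem F26113 : act 5 n16517 = n12311 := d12_1 D16517 (iv6 D12311) F11916 (iv6 D7674) D7673
def n16518 : Q := act 1 n7675
theorem D16518 : act 1 n7675 = n16518 := rfl
theorem F26114 : act 1 n16518 = n7680 := d15_1 D16518 F11929 (iv2 F11919)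
theorem F26115 : act 7 n16518 = n13998 := d15_2 F23021 D16518 F23334
theorem F26116 : act 4 n16518 = n11480 := d18_7 (iv1 D2193) F1994 D1076 (iv4 F5458) D3478 D7675 D16518 F18756 (iv5 D5347)
theorem F26117 : act 2 n14485 = n16518 := d1_3 F26116 (iv2 F18759) (iv4 F24131)
def n16519 : Q := act 3 n7675
theorem D16519 : act 3 n7675 = n16519 := rfl
theorem F26118 : act 7 n16519 = n14496 := d8_2 (iv7 F11920) D16519 (iv3 D14496)
def n16520 : Q := act 5 n7675
theorem D16520 : act 5 n7675 = n16520 := rfl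
theorem F26119 : act 2 n16520 = n14487 := d2_1 D16520 (iv5 D14487) (iv2 F11919)
theorem F26120 : act 7 n16520 = n14497 := d13_2 (iv7 F11920) D16520 (iv5 D14497)
theorem F26121 : act 4 n16520 = n7730 := d16_2 D7675 D16520 F12022 (iv4 D5360) (iv5 D2204) (iv4 F5460) D3482 (iv7 F7853) F7859
theorem F26122 : act 0 n16520 = n11507 := d17_2 (iv1 D16518) D16520 F18818 F18671 F7928 F3560 D5345 D11480 (iv4 F26116)
theorem F26123 : act 1 n16520 = n11493 := d17_6 (iv1 D3485) (iv5 D1534) D1532 D3478 D7675 D16520 (iv5 D11493) (iv0 F11943) (iv4 D7686)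
def n16521 : Q := act 6 n7675
theorem D16521 : act 6 n7675 = n16521 := rfl
theorem F26124 : act 2 n16521 = n14488 := d3_1 D16521 (iv6 D14488) (iv2 F11919)
theorem F26125 : act 4 n16521 = n7676 := d10_1 D16521 (iv6 D7676) D7675
def n16522 : Q := act 0 n7676
theorem D16522 : act 0 n7676 = n16522 := rfl
theorem F26126 : act 6 n16522 = n12286 := d21_5 (iv5 D1534) D1532 D3478 D7676 D16522 F20371 (iv1 D12287) (iv5 F11945) (iv6 D7687) (iv1 D3485)
def n16523 : Q := act 1 n7676
theorem D16523 : act 1 n7676 = n16523 := rfl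
theorem F26127 : act 1 n16523 = n14491 := d15_1 D16523 (iv7 D14491) (iv2 F11921)
theorem F26128 : act 5 n16522 = n16523 := d21_0 (iv1 D16523) F11922 (iv6 D5844) (iv1 D2443) (iv6 F2677) (iv5 D1534) D1532 D3478 D7676 D16522
def n16524 : Q := act 7 n7676
theorem D16524 : act 7 n7676 = n16524 := rfl
theorem F26129 : act 2 n16524 = n14491 := d4_1 D16524 (iv7 D14491) (iv2 F11921)
theorem F26130 : act 5 n16524 = n12317 := d13_1 D16524 (iv7 D12317) (iv5 F11922)
theorem F26131 : act 6 n16524 = n14500 := d14_1 D16524 (iv7 D14500) (iv6 D6926) (iv7 F7858) D7676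
theorem F26132 : act 1 n14491 = n16522 := d15_0 (iv0 D16522) D16524 F26129
theorem F26133 : act 1 n14490 = n16524 := d15_1 D14490 (iv7 D16524) F11921
theorem E3195 : n14708 = n12315 := ((c21_11 (iv5 D14708) (iv1 F20447) (iv5 F26130) F26131 (iv1 F24147) (iv6 D6962) (iv5 F8239) (iv1 F8240) F5456 D5844 D12315)).symm
theorem F26134 : act 5 n12315 = n7017 := (sb E3195 (iv5 D14708))
theorem F26135 : act 1 n16524 = n14489 := d15_0 (iv0 D14489) D14491 (iv2 F26129)
def n16525 : Q := act 5 n7677
theorem D16525 : act 5 n7677 = n16525 := rfl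
theorem F26136 : act 3 n16525 = n11277 := d6_1 D16525 (iv5 D11277) (iv3 F11923)
theorem F26137 : act 7 n16525 = n13944 := d13_2 (iv7 F11924) D16525 (iv5 D13944)
def n16526 : Q := act 6 n7677
theorem D16526 : act 6 n7677 = n16526 := rfl
theorem F26138 : act 3 n16526 = n11278 := d7_1 D16526 (iv6 D11278) (iv3 F11923)
theorem F26139 : act 4 n16526 = n7679 := d10_1 D16526 (iv6 D7679) D7677
def n16527 : Q := act 0 n7678
theorem D16527 : act 0 n7678 = n16527 := rfl
theorem F26140 : act 5 n16527 = n14626 := d17_3 (iv1 F10315) D7678 D16527 F24307 (iv5 F23082) F23647 (iv5 D6744) F10988 F10985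
theorem F26141 : act 2 n14481 = n16527 := d15_3 (iv0 D16527) (iv0 F23761) (iv7 F24122)
theorem F26142 : act 1 n11832 = n16527 := d15_0 (iv0 D16527) F11926 (iv2 F19223)
theorem F26143 : act 7 n16527 = n14480 := d15_2 F23760 F26142 (iv2 F24119)
theorem F26144 : act 3 n14055 = n16527 := d8_3 F26143 (iv3 F24120) F23457
def n16528 : Q := act 4 n7678
theorem D16528 : act 4 n7678 = n16528 := rfl
theorem F26145 : act 7 n16528 = n14482 := d11_2 (iv7 F11926) D16528 (iv4 D14482)
def n16529 : Q := act 6 n7678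
theorem D16529 : act 6 n7678 = n16529 := rfl
theorem F26146 : act 3 n16529 = n7681 := d7_1 D16529 (iv6 D7681) (iv3 F11925)
theorem F26147 : act 0 n14544 = n16529 := d21_4 D14649 (iv1 F24332) F19443 D14544 (iv6 D16529) (iv5 D7678) F10314 D5551 (iv6 F10968) (iv1 F19552)
def n16530 : Q := act 3 n7680
theorem D16530 : act 3 n7680 = n16530 := rfl
theorem F26148 : act 7 n16530 = n14486 := d8_2 (iv7 F11929) D16530 (iv3 D14486)
def n16531 : Q := act 5 n7680
theorem D16531 : act 5 n7680 = n16531 := rfl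
theorem F26149 : act 2 n16531 = n14497 := d2_1 D16531 (iv5 D14497) (iv2 F11928)
theorem F26150 : act 4 n16531 = n7729 := d9_1 D16531 F12021 (iv4 D5358) (iv5 D2199) (iv4 F5458) D3478 D7675 D16520 F26121 F12022 (iv4 D5360) (iv5 D2204) (iv4 F5460) D3482 D7680
theorem F26151 : act 7 n16531 = n14487 := d13_2 (iv7 F11929) D16531 (iv5 D14487)
theorem F26152 : act 0 n16531 = n11493 := d17_2 F23020 D16531 (iv5 D11493) (iv4 D5350) (iv5 D2194) D2193 D5347 (iv0 F10612) D13766
theorem F26153 : act 1 n16531 = n11507 := d17_6 (iv1 F5472) F4847 (iv1 F2675) D3482 D7680 D16531 F18818 F18673 (iv4 D7683)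
def n16532 : Q := act 6 n7680
theorem D16532 : act 6 n7680 = n16532 := rfl
theorem F26154 : act 2 n16532 = n14498 := d3_1 D16532 (iv6 D14498) (iv2 F11928)
theorem F26155 : act 4 n16532 = n7681 := d10_1 D16532 (iv6 D7681) D7680
theorem F26156 : act 0 n14575 = n16532 := d21_4 D12303 (iv1 F24237) (iv5 D14574) D14575 (iv6 D16532) D16531 F26152 (iv5 D11493) F8136 (iv1 F8991)
def n16533 : Q := act 0 n7681
theorem D16533 : act 0 n7681 = n16533 := rfl
theorem F26157 : act 6 n16533 = n14566 := d21_5 F4847 (iv1 F2675) D3482 D7681 D16533 F24226 (iv1 F19669) F18980 (iv6 D7684) (iv1 F5472)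
theorem F26158 : act 5 n16533 = n14190 := d21_8 (iv5 F23702) (iv1 D11944) (iv5 F10633) (iv6 D6573) D6570 D13818 F23081 D16533 (iv6 F23788) (iv1 F23789)
theorem F26159 : act 2 n14499 = n16533 := d15_3 (iv0 D16533) (iv0 F11931) F24146
theorem F26160 : act 7 n16533 = n12282 := d4_2 F24146 F26159 F20359
theorem F26161 : act 1 n14500 = n16533 := d15_1 F24147 F26160 F20359
def n16534 : Q := act 7 n7681
theorem D16534 : act 7 n7681 = n16534 := rfl
theorem F26162 : act 2 n16534 = n14500 := d4_1 D16534 (iv7 D14500) (iv2 F11930)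
theorem F26163 : act 6 n16534 = n14491 := d14_1 D16534 (iv7 D14491) (iv6 D6920) F7853 D7681
theorem F26164 : act 1 n12282 = n16534 := d15_1 (iv0 F20361) (iv7 D16534) F11930
theorem F26165 : act 1 n16534 = n14499 := d15_1 F26164 (iv7 F24146) (iv2 F20359)
def n16535 : Q := act 4 n7682
theorem D16535 : act 4 n7682 = n16535 := rfl
theorem F26166 : act 7 n16535 = n14509 := d11_2 (iv7 F11933) D16535 (iv4 D14509)
theorem F26167 : act 0 n14222 = n16535 := d20_7 (iv4 F11209) (iv1 F11950) F11952 (iv3 F18562) F18563 (iv3 F11026) D14222 (iv4 D16535) (iv3 D7682) (iv1 F5472)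
def n16536 : Q := act 6 n7682
theorem D16536 : act 6 n7682 = n16536 := rfl
theorem F26168 : act 3 n16536 = n7684 := d7_1 D16536 (iv6 D7684) D7682
def n16537 : Q := act 3 n7683
theorem D16537 : act 3 n7683 = n16537 := rfl
theorem F26169 : act 7 n16537 = n14511 := d8_2 (iv7 F11935) D16537 (iv3 D14511)
def n16538 : Q := act 5 n7683
theorem D16538 : act 5 n7683 = n16538 := rfl
theorem F26170 : act 2 n16538 = n14504 := d2_1 D16538 (iv5 D14504) (iv2 F11934)
theorem F26171 : act 7 n16538 = n14512 := d13_2 (iv7 F11935) D16538 (iv5 D14512)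
theorem F26172 : act 4 n16538 = n7722 := d16_2 D7683 D16538 (iv5 D7722) F5516 (iv5 F3568) (iv4 F5133) F5470 F5469 (iv2 F5467)
def n16539 : Q := act 6 n7683
theorem D16539 : act 6 n7683 = n16539 := rfl
theorem F26173 : act 2 n16539 = n14505 := d3_1 D16539 (iv6 D14505) (iv2 F11934)
theorem F26174 : act 4 n16539 = n7684 := d10_1 D16539 (iv6 D7684) D7683
def n16540 : Q := act 0 n7684
theorem D16540 : act 0 n7684 = n16540 := rfl
theorem F26175 : act 6 n16540 = n12316 := d21_5 (iv5 D6588) (iv1 F5473) (iv5 F5465) D7684 D16540 F23518 (iv1 D7018) (iv5 F11199) (iv6 D6920) (iv1 F10651)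
theorem F26176 : act 0 n16540 = n14508 := d21_10 F24152 (iv1 F19673) (iv5 F24226) (iv6 F26157) (iv1 F26161) (iv6 F26131) F26130 (iv1 F20446) (iv5 F23518) (iv6 F26175)
def n16541 : Q := act 1 n7684
theorem D16541 : act 1 n7684 = n16541 := rfl
theorem F26177 : act 1 n16541 = n14508 := d15_1 D16541 (iv7 D14508) (iv2 F11937)
def n16542 : Q := act 7 n7684
theorem D16542 : act 7 n7684 = n16542 := rfl
theorem F26178 : act 2 n16542 = n14508 := d4_1 D16542 (iv7 D14508) (iv2 F11937)
theorem F26179 : act 5 n16542 = n11926 := d13_1 D16542 F19670 F18980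
theorem F26180 : act 6 n16542 = n14516 := d14_1 D16542 (iv7 D14516) (iv6 D6932) F5466 D7684
theorem F26181 : act 1 n14507 = n16542 := d15_1 D14507 (iv7 D16542) F11937
theorem F26182 : act 0 n14506 = n16542 := d21_4 F24138 (iv1 F20442) F23518 (iv6 F24151) F26180 F24157 (iv1 F20370) (iv5 F20371) (iv6 F26126) (iv1 F26132)
def n16543 : Q := act 4 n7685
theorem D16543 : act 4 n7685 = n16543 := rfl
theorem F26183 : act 7 n16543 = n14501 := d11_2 (iv7 F11939) D16543 (iv4 D14501)
def n16544 : Q := act 6 n7685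
theorem D16544 : act 6 n7685 = n16544 := rfl
theorem F26184 : act 3 n16544 = n7687 := d7_1 D16544 (iv6 D7687) D7685
theorem F26185 : act 5 n16544 = n12277 := d12_1 D16544 (iv6 D12277) (iv5 D5823) D5824 (iv5 F11938)
def n16545 : Q := act 3 n7686
theorem D16545 : act 3 n7686 = n16545 := rfl
theorem F26186 : act 7 n16545 = n14503 := d8_2 (iv7 F11942) D16545 (iv3 D14503)
def n16546 : Q := act 5 n7686
theorem D16546 : act 5 n7686 = n16546 := rfl
theorem F26187 : act 2 n16546 = n14512 := d2_1 D16546 (iv5 D14512) (iv2 F11941)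
theorem F26188 : act 4 n16546 = n7720 := d9_1 D16546 (iv5 D7720) F5515 F4438 (iv4 F4945) (iv5 F5465) D7683 D16538 F26172 (iv5 D7722) F5516 (iv5 F3568) (iv4 F5133) F5470 D7686
theorem F26189 : act 7 n16546 = n14504 := d13_2 (iv7 F11942) D16546 (iv5 D14504)
def n16547 : Q := act 6 n7686
theorem D16547 : act 6 n7686 = n16547 := rfl
theorem F26190 : act 2 n16547 = n14513 := d3_1 D16547 (iv6 D14513) (iv2 F11941)
theorem F26191 : act 4 n16547 = n7687 := d10_1 D16547 (iv6 D7687) D7686
def n16548 : Q := act 0 n7687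
theorem D16548 : act 0 n7687 = n16548 := rfl
def n16549 : Q := act 1 n7687
theorem D16549 : act 1 n7687 = n16549 := rfl
theorem F26192 : act 1 n16549 = n14516 := d15_1 D16549 (iv7 D14516) (iv2 F11944)
theorem F26193 : act 5 n14678 = n16549 := d21_6 (iv5 D5419) (iv1 F4997) (iv5 D3166) D3167 D7007 D14678 (iv1 D16549) F11945 (iv6 D5827) (iv1 F8233)
theorem E3196 : n14678 = n14515 := (c21_1 (iv5 F26193) (iv1 D14515) F11205 (iv6 D3147) D3144 D6959 F11222 D11926 (iv5 F26179) F26180 (iv1 F26192))
theorem F26194 : act 5 n14515 = n16549 := (sb E3196 F26193)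
theorem F26195 : act 6 n14515 = n7007 := (sb E3196 (iv6 D14678))
theorem F26196 : act 6 n12305 = n16549 := d21_5 (iv5 F4881) D5596 F8539 D5841 D12305 (iv5 F26194) (iv1 D14515) F11205 (iv6 D3147) D3144
def n16550 : Q := act 7 n7687
theorem D16550 : act 7 n7687 = n16550 := rfl
theorem F26197 : act 2 n16550 = n14516 := d4_1 D16550 (iv7 D14516) (iv2 F11944)
theorem F26198 : act 5 n16550 = n12288 := d13_1 D16550 (iv7 D12288) (iv5 F11945)
theorem F26199 : act 6 n16550 = n14508 := d14_1 D16550 (iv7 D14508) (iv6 D6929) (iv7 F5469) D7687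
theorem F26200 : act 1 n14516 = n16548 := d15_0 (iv0 D16548) D16550 F26197
theorem F26201 : act 1 n14515 = n16550 := d15_1 D14515 (iv7 D16550) F11944
theorem F26202 : act 5 n14514 = n16548 := d21_0 (iv1 F26200) F24157 (iv6 F20403) (iv1 F20405) (iv6 F11256) (iv5 D6972) (iv1 D3150) F4845 D6932 D14514
theorem F26203 : act 0 n14514 = n16550 := d21_1 (iv5 F26202) F26198 F20373 (iv1 F19018) F19016 F11198 (iv1 D5829) F5470 D7687 D16548
def n16551 : Q := act 3 n7688
theorem D16551 : act 3 n7688 = n16551 := rfl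
theorem F26204 : act 7 n16551 = n14520 := d8_2 F11948 D16551 (iv3 D14520)
def n16552 : Q := act 5 n7688
theorem D16552 : act 5 n7688 = n16552 := rfl
theorem F26205 : act 2 n16552 = n14518 := d2_1 D16552 (iv5 D14518) F11947
theorem F26206 : act 7 n16552 = n14521 := d13_2 F11948 D16552 (iv5 D14521)
theorem F26207 : act 4 n16552 = n7717 := d16_2 (iv4 F11946) D16552 (iv5 D7717) (iv4 D3504) (iv5 F2688) (iv4 F3849) F7925 (iv7 F8133) (iv2 F8132)
def n16553 : Q := act 6 n7688
theorem D16553 : act 6 n7688 = n16553 := rfl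
theorem F26208 : act 2 n16553 = n14519 := d3_1 D16553 (iv6 D14519) F11947
theorem F26209 : act 4 n16553 = n11424 := d10_1 D16553 (iv6 D11424) (iv4 F11946)
def n16554 : Q := act 3 n7689
theorem D16554 : act 3 n7689 = n16554 := rfl
theorem F26210 : act 7 n16554 = n14517 := d8_2 (iv7 F11951) D16554 (iv3 D14517)
def n16555 : Q := act 5 n7689
theorem D16555 : act 5 n7689 = n16555 := rfl
theorem F26211 : act 2 n16555 = n14521 := d2_1 D16555 (iv5 D14521) F11953
theorem F26212 : act 4 n16555 = n7713 := d9_1 D16555 (iv5 D7713) (iv4 D3502) F3871 (iv4 F5020) (iv5 F7923) (iv4 F11946) D16552 F26207 (iv5 D7717) (iv4 D3504) (iv5 F2688) (iv4 F3849) F7925 (iv4 F11952)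
theorem F26213 : act 7 n16555 = n14518 := d13_2 (iv7 F11951) D16555 (iv5 D14518)
def n16556 : Q := act 6 n7689
theorem D16556 : act 6 n7689 = n16556 := rfl
theorem F26214 : act 2 n16556 = n14522 := d3_1 D16556 (iv6 D14522) F11953
theorem F26215 : act 4 n16556 = n11425 := d10_1 D16556 (iv6 D11425) (iv4 F11952)
def n16557 : Q := act 0 n7690
theorem D16557 : act 0 n7690 = n16557 := rfl
def n16558 : Q := act 1 n7690
theorem D16558 : act 1 n7690 = n16558 := rfl
def n16559 : Q := act 2 n7690
theorem D16559 : act 2 n7690 = n16559 := rfl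
theorem F26216 : act 3 n16559 = n14525 := d0_2 D7690 D16559 (iv2 D14525) (iv3 D6935) (iv2 F5474)
theorem F26217 : act 6 n16559 = n12326 := d3_2 (iv6 F11954) D16559 (iv2 D12326)
def n16560 : Q := act 5 n7690
theorem D16560 : act 5 n7690 = n16560 := rfl
theorem F26218 : act 3 n16560 = n7691 := d6_1 D16560 (iv5 D7691) D7690
def n16561 : Q := act 7 n7690
theorem D16561 : act 7 n7690 = n16561 := rfl
theorem F26219 : act 3 n16561 = n7692 := d8_1 D16561 (iv7 D7692) D7690
def n16562 : Q := act 0 n7691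
theorem D16562 : act 0 n7691 = n16562 := rfl
theorem F26220 : act 5 n16562 = n7699 := d17_3 (iv1 D7689) D7691 D16562 (iv4 D7699) (iv5 D3489) F4937 D2172 D5309 (iv4 F11952)
theorem F26221 : act 4 n16562 = n7711 := d18_1 D16562 F11985 D11448 (iv5 F18788) F18787 F8140 (iv4 F11946) (iv0 D7688) D7691
theorem F26222 : act 1 n7731 = n16562 := d15_0 (iv0 D16562) F21209 F21207
theorem F26223 : act 2 n14528 = n16562 := d1_3 F26221 F18816 (iv4 F24166)
theorem F26224 : act 7 n14529 = n16562 := d11_0 F26221 F18811 (iv4 F24170)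
def n16563 : Q := act 1 n7691
theorem D16563 : act 1 n7691 = n16563 := rfl
theorem F26225 : act 1 n16563 = n7731 := d15_1 D16563 (iv7 F12031) (iv2 F11955)
theorem F26226 : act 7 n16563 = n14528 := d15_2 (iv0 D16562) D16563 F26223
theorem F26227 : act 5 n16563 = n7708 := d17_7 F10901 (iv5 D3482) (iv1 D1533) D1534 D3486 D7691 D16563 (iv0 F23520) (iv4 D14078)
theorem F26228 : act 4 n16563 = n7703 := d17_9 (iv1 F18826) F18824 (iv1 F8176) D7717 (iv4 F26207) (iv5 D16552) (iv0 D7688) D7691 D16563
theorem F26229 : act 2 n14529 = n16563 := d1_3 F26228 F18810 (iv4 F24170)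
def n16564 : Q := act 6 n7691
theorem D16564 : act 6 n7691 = n16564 := rfl
theorem F26230 : act 2 n16564 = n14530 := d3_1 D16564 (iv6 D14530) (iv2 F11955)
theorem F26231 : act 5 n16564 = n12331 := d12_1 D16564 (iv6 D12331) (iv5 D5848) (iv6 F5475) D7691
def n16565 : Q := act 6 n7692
theorem D16565 : act 6 n7692 = n16565 := rfl
theorem F26232 : act 2 n16565 = n14531 := d3_1 D16565 (iv6 D14531) (iv2 F11956)
theorem F26233 : act 4 n16565 = n7693 := d10_1 D16565 (iv6 D7693) (iv4 F11957)
theorem F26234 : act 7 n16565 = n12332 := d14_2 D7692 D16565 (iv6 D12332) (iv7 D5849) (iv6 F5475)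
theorem F26235 : act 1 n14764 = n16565 := d15_1 D14764 F26234 F20477
theorem F26236 : act 1 n16565 = n14763 := d15_0 (iv0 D14763) (iv7 F24173) (iv2 F26232)
def n16566 : Q := act 4 n7697
theorem D16566 : act 4 n7697 = n16566 := rfl
def n16567 : Q := act 6 n7697
theorem D16567 : act 6 n7697 = n16567 := rfl
theorem F26237 : act 3 n16567 = n7700 := d7_1 D16567 (iv6 D7700) (iv3 F11967)
theorem F26238 : act 5 n16567 = n13514 := d12_1 D16567 (iv6 D13514) F11970 (iv6 D7698) D7697
def n16568 : Q := act 3 n7699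
theorem D16568 : act 3 n7699 = n16568 := rfl
def n16569 : Q := act 6 n7699
theorem D16569 : act 6 n7699 = n16569 := rfl
theorem F26239 : act 4 n16569 = n7700 := d10_1 D16569 (iv6 D7700) D7699
def n16570 : Q := act 0 n7700
theorem D16570 : act 0 n7700 = n16570 := rfl
theorem F26240 : act 6 n16570 = n12341 := d21_5 (iv5 D2172) (iv1 F4937) D3489 D7700 D16570 F20495 (iv1 D12342) (iv5 F18669) (iv6 D11425) (iv1 D5309)
def n16571 : Q := act 1 n7700
theorem D16571 : act 1 n7700 = n16571 := rfl
theorem F26241 : act 5 n16570 = n16571 := d21_0 (iv1 D16571) F11972 (iv6 D6427) (iv1 D2826) (iv6 F3534) (iv5 D2172) (iv1 F4937) D3489 D7700 D16570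
def n16572 : Q := act 7 n7700
theorem D16572 : act 7 n7700 = n16572 := rfl
theorem F26242 : act 5 n16572 = n13517 := d13_1 D16572 (iv7 D13517) (iv5 F11972)
theorem F26243 : act 6 n16572 = n14821 := d14_1 D16572 F24485 (iv6 D11489) F8129 D7700
def n16573 : Q := act 3 n7701
theorem D16573 : act 3 n7701 = n16573 := rfl
theorem F26244 : act 4 n16573 = n13858 := d5_2 (iv4 F11973) D16573 (iv3 D13858) (iv4 D6591) F10071
theorem F26245 : act 7 n16573 = n14114 := d8_2 (iv7 F11975) D16573 F23594
def n16577 : Q := act 5 n7702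
theorem D16577 : act 5 n7702 = n16577 := rfl
theorem F26247 : act 3 n16577 = n7703 := d6_1 D16577 (iv5 D7703) D7702
def n16578 : Q := act 6 n7702
theorem D16578 : act 6 n7702 = n16578 := rfl
theorem F26248 : act 3 n16578 = n7704 := d7_1 D16578 (iv6 D7704) D7702
def n16579 : Q := act 6 n7703
theorem D16579 : act 6 n7703 = n16579 := rfl
def n16581 : Q := act 3 n7705
theorem D16581 : act 3 n7705 = n16581 := rfl
theorem F26254 : act 4 n16581 = n7710 := d5_2 D7705 D16581 (iv3 D7710) (iv4 D3501) (iv3 F5494)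
def n16582 : Q := act 5 n7705
theorem D16582 : act 5 n7705 = n16582 := rfl
theorem F26256 : act 4 n16582 = n13925 := d16_2 D7705 D16582 (iv5 D13925) (iv4 D6617) (iv5 D2962) F10283 D6038 F9396 F5493
theorem F26259 : act 6 n16582 = n16582 := d10_0 F26256 F23184 (iv4 F26256)
theorem F26260 : act 5 n12752 = n12752 := d12_3 F26259 (iv5 D16582) (iv6 F21165) F21165 D16582
theorem E3198 : n15466 = n12458 := (c17_5 F21167 F26260 (iv1 F24558) F24555 (iv4 F25011) (iv5 F25264) (iv0 F25267) (iv5 D12753) (iv0 F10333) (iv4 F11610))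
theorem E3199 : n7306 = n5923 := ((((iv6 D12458)).symm.trans (sb E3198 (iv6 D15466)))).symm
theorem E3200 : n3361 = n2502 := ((((iv1 D5923)).symm.trans (sb E3199 F11607))).symm
theorem E3201 : n5924 = n5920 := ((F9193).symm.trans (sb E3199 F11608))
theorem E3202 : n15464 = n7884 := (((F20095).symm.trans (sb E3199 (iv3 F25007)))).symm
theorem E3203 : n12454 = n6366 := (((iv4 F20739)).symm.trans (sb E3199 F11606))
theorem E3204 : n7400 = n3355 := (((iv5 F11696)).symm.trans (sb E3199 (iv5 D7306)))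
theorem E3205 : n6366 = n5922 := (((F20126).symm.trans (sb E3199 F11605))).symm
theorem E3206 : n7319 = n1169 := (((F3956).symm.trans (sb E3200 (iv3 F11635)))).symm
theorem E3207 : n5921 = n5920 := (((iv4 F9187)).symm.trans (sb E3200 (iv4 F9185)))
theorem E3208 : n1485 = n1484 := ((F3957).symm.trans (sb E3200 (iv5 D3361)))
theorem F26263 : act 0 n5920 = n5923 := (sb E3201 (iv1 F9193))
theorem E3210 : n12450 = n2508 := (((iv3 F20733)).symm.trans (sb E3201 F9189))
theorem F26264 : act 4 n5920 = n12456 := (sb E3201 (iv4 F20743))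
theorem E3211 : n3365 = n2501 := ((((iv5 D5920)).symm.trans (sb E3201 F9190))).symm
theorem E3212 : n12452 = n2501 := ((D12452).symm.trans (sb E3201 (tr F9191 E3211)))
theorem F26265 : act 7 n5920 = n2502 := (sb E3201 (iv7 D5924))
theorem E3213 : n15752 = n7305 := (((iv5 F25254)).symm.trans (sb E3202 (iv5 D15464)))
theorem E3215 : n12454 = n5922 := (E3203).trans E3205
theorem E3216 : n12456 = n2502 := ((((iv0 D5922)).symm.trans (sb E3215 F20746))).symm
theorem E3217 : n12453 = n5923 := ((F20749).symm.trans (sb E3215 F20739))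
theorem E3218 : n7635 = n1495 := (((F5340).symm.trans (sb E3204 (iv1 F11857)))).symm
theorem E3219 : n7151 = n2515 := (((F5341).symm.trans (sb E3204 (iv0 F11697)))).symm
theorem E3220 : n15743 = n1481 := ((((iv4 D3355)).symm.trans (sb E3204 (iv4 F25231)))).symm
theorem F26266 : act 5 n3355 = n5923 := (sb E3204 F11696)
theorem E3221 : n7307 = n3391 := ((D7307).symm.trans (sb E3204 (iv6 D7400)))
theorem E3222 : n12457 = n2709 := (((F5339).symm.trans (sb E3204 (iv7 F20753)))).symm
theorem F26267 : act 0 n5922 = n5920 := (sb E3205 F10375)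
theorem E3225 : n15493 = n2507 := (((D2507).symm.trans (sb E3206 D15493))).symm
theorem E3226 : n15490 = n804 := (((F2128).symm.trans (sb E3206 (iv2 F25040)))).symm
theorem E3228 : n3360 = n810 := (((F2129).symm.trans (sb E3206 (iv5 D7319)))).symm
theorem E3230 : n12451 = n2508 := (((E3210).symm.trans (((iv3 F20733)).symm.trans (sb E3207 (iv3 F20735))))).symm
theorem E3232 : n3363 = n3357 := ((((iv1 F5346)).symm.trans (sb E3208 D3363))).symm
theorem E3233 : n3364 = n3358 := ((((iv0 F5349)).symm.trans (sb E3208 D3364))).symm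
theorem E3234 : n3362 = n807 := ((((iv4 D1484)).symm.trans (sb E3208 (iv4 F5356)))).symm
theorem F26268 : act 5 n1484 = n2502 := (sb E3208 (iv5 F3957))
theorem F26269 : act 3 n2508 = n5920 := (sb E3210 F20733)
theorem E3239 : n5919 = n1492 := (((F3968).symm.trans (sb E3210 (iv5 D12450)))).symm
theorem F26270 : act 6 n2501 = n5920 := (sb E3212 (iv6 D12452))
theorem E3241 : n15462 = n11288 := ((D15462).symm.trans (sb E3213 (iv0 F25255)))
theorem E3242 : n15463 = n7915 := ((D15463).symm.trans (sb E3213 F25252))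
theorem F26271 : act 5 n7305 = n7884 := (sb E3213 F25254)
theorem E3243 : n15465 = n7397 := ((D15465).symm.trans (sb E3213 (iv6 D15752)))
theorem E3244 : n7910 = n6365 := (((F11603).symm.trans (sb E3213 (iv7 F25256)))).symm
theorem F26272 : act 4 n2502 = n5920 := (sb E3216 (iv4 F26264))
theorem F26273 : act 4 n5923 = n5922 := (sb E3217 (iv4 F20749))
theorem E3245 : n15755 = n12458 := (((D12458).symm.trans (sb E3217 (iv6 F25269)))).symm
theorem E3246 : n3465 = n3388 := (((D3388).symm.trans (sb E3218 F11854))).symm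
theorem E3248 : n7152 = n3389 := (((D3389).symm.trans (sb E3218 F11856))).symm
theorem E3249 : n3462 = n3390 := (((D3390).symm.trans (sb E3218 (iv6 D7635)))).symm
theorem E3250 : n5958 = n3304 := ((D5958).symm.trans (sb E3219 F11471))
theorem E3251 : n15028 = n1172 := ((((iv4 D2515)).symm.trans (sb E3219 D15028))).symm
theorem E3252 : n5959 = n3298 := ((D5959).symm.trans (sb E3219 (iv5 D7151)))
theorem E3253 : n6038 = n2970 := ((((iv6 F4654)).symm.trans (sb E3219 F11472))).symm
theorem E3255 : n7392 = n3356 := (((D3356).symm.trans (sb E3220 (iv6 D15743)))).symm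
theorem E3256 : n12752 = n3393 := ((((iv1 F5396)).symm.trans (sb E3221 F21167))).symm
theorem E3257 : n7633 = n1496 := ((((iv0 D3391)).symm.trans (sb E3221 F21168))).symm
theorem F26274 : act 6 n3391 = n3355 := (sb E3221 (iv6 D7307))
theorem E3259 : n14909 = n3392 := ((((iv7 F20131)).symm.trans (sb E3221 (iv7 F24556)))).symm
theorem F26275 : act 5 n2709 = n5922 := (sb E3222 (iv5 D12457))
theorem E3260 : n12376 = n6364 := ((((iv6 F10370)).symm.trans (sb E3222 F20752))).symm
theorem E3261 : n7387 = n5942 := (((D5942).symm.trans (sb E3225 F25800))).symm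
theorem E3262 : n7318 = n1171 := ((((iv5 F2134)).symm.trans (sb E3226 (iv5 D15490)))).symm
theorem E3264 : n7317 = n1491 := (((D1491).symm.trans (sb E3228 D7317))).symm
theorem F26276 : act 3 n810 = n1484 := (sb E3228 (iv3 D3360))
theorem E3265 : n1489 = n1487 := (((iv4 F2607)).symm.trans (sb E3228 F5353))
theorem E3267 : n5934 = n5929 := (((iv4 F9208)).symm.trans (sb E3230 F20736))
theorem E3268 : n7308 = n6125 := ((D7308).symm.trans (sb E3232 F10722))
theorem E3269 : n7322 = n1482 := ((((iv4 D3357)).symm.trans (sb E3232 F11649))).symm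
theorem E3270 : n7309 = n7150 := ((D7309).symm.trans (sb E3232 (iv5 F11467)))
theorem E3271 : n6367 = n2966 := (((iv6 F10378)).symm.trans (sb E3232 F5357))
theorem E3272 : n7326 = n7310 := (((D7310).symm.trans (sb E3233 D7326))).symm
theorem E3273 : n7323 = n1483 := ((((iv4 D3358)).symm.trans (sb E3233 F11639))).symm
theorem E3274 : n7311 = n6623 := ((D7311).symm.trans (sb E3233 (iv5 F10733)))
theorem E3275 : n7312 = n3257 := ((D7312).symm.trans (sb E3233 F10204))
theorem F26277 : act 6 n807 = n1484 := (sb E3234 (iv6 D3362))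
theorem E3277 : n12447 = n2513 := ((((iv1 F3983)).symm.trans (sb E3239 D12447))).symm
theorem E3278 : n12448 = n2512 := (((F3988).symm.trans (sb E3239 D12448))).symm
theorem E3279 : n12449 = n2514 := ((((iv2 F3984)).symm.trans (sb E3239 D12449))).symm
theorem F26278 : act 3 n1492 = n2501 := (sb E3239 (iv3 D5919))
theorem E3280 : n3376 = n2503 := (((iv4 F5372)).symm.trans (sb E3239 F9181))
theorem F26279 : act 0 n11288 = n7305 := (sb E3241 (iv1 D15462))
theorem F26280 : act 1 n11288 = n13406 := (sb E3241 F25005)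
theorem F26281 : act 0 n7915 = n13405 := (sb E3242 (iv1 F25006))
theorem E3283 : n13404 = n11262 := ((((iv0 F18339)).symm.trans (sb E3242 F25004))).symm
theorem F26282 : act 2 n7915 = n7305 := (sb E3242 (iv2 D15463))
theorem F26283 : act 7 n7915 = n13406 := (sb E3242 F25003)
theorem F26284 : act 6 n7397 = n7305 := (sb E3243 (iv6 D15465))
theorem F26285 : act 5 n6365 = n3582 := (sb E3244 (iv5 D7910))
theorem E3284 : n12336 = n7634 := ((((iv0 F20757)).symm.trans (sb E3245 F25272))).symm
theorem F26286 : act 4 n12458 = n7404 := (sb E3245 (iv4 D15755))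
theorem E3285 : n15754 = n15748 := (((iv5 F25264)).symm.trans (sb E3245 F25271))
theorem E3286 : n15753 = n15748 := (((E3285).symm.trans (((iv7 F25265)).symm.trans (sb E3245 F25270)))).symm
theorem E3287 : n7386 = n5938 := ((D7386).symm.trans (sb E3246 F9216))
theorem E3288 : n7388 = n6034 := ((D7388).symm.trans (sb E3246 (iv2 F9385)))
theorem E3289 : n7638 = n1497 := (((F5388).symm.trans (sb E3246 (iv4 F11858)))).symm
theorem E3290 : n7389 = n3305 := ((D7389).symm.trans (sb E3246 F5439))
theorem E3291 : n7390 = n1519 := ((D7390).symm.trans (sb E3246 (iv6 D3465)))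
theorem E3292 : n15027 = n3298 := (((E3252).symm.trans (((iv4 F9256)).symm.trans (sb E3248 (iv4 F24670))))).symm
theorem E3293 : n12377 = n7391 := (((D7391).symm.trans (sb E3248 (iv6 F20582)))).symm
theorem E3294 : n7393 = n7100 := ((D7393).symm.trans (sb E3249 F11395))
theorem E3295 : n7634 = n7394 := (((D7394).symm.trans (sb E3249 D7634))).symm
theorem E3296 : n7395 = n6029 := ((D7395).symm.trans (sb E3249 (iv7 F9369)))
theorem E3297 : n12525 = n3353 := (((F5337).symm.trans (sb E3250 D12525))).symm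
theorem E3298 : n12526 = n3349 := ((((iv0 F5334)).symm.trans (sb E3250 D12526))).symm
theorem E3299 : n12527 = n3492 := ((((iv2 F5487)).symm.trans (sb E3250 D12527))).symm
theorem F26287 : act 3 n3304 = n2515 := (sb E3250 (iv3 D5958))
theorem E3300 : n7165 = n2516 := ((D7165).symm.trans (sb E3250 F9252))
theorem E3302 : n6626 = n2545 := (((F5295).symm.trans (sb E3250 (iv6 F10744)))).symm
theorem F26288 : act 7 n3304 = n3388 := (sb E3250 F9253)
theorem E3303 : n12766 = n1338 := ((((iv6 F2454)).symm.trans (sb E3251 F24674))).symm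
theorem E3304 : n7149 = n3389 := (((iv4 F11465)).symm.trans (sb E3252 F9256))
theorem F26289 : act 5 n3298 = n2515 := (sb E3252 (iv5 D5959))
theorem F26290 : act 7 n3298 = n3389 := (sb E3252 F9255)
theorem E3306 : n6622 = n6620 := (((iv1 F10731)).symm.trans (sb E3253 (iv1 F10727)))
theorem E3307 : n6625 = n6624 := ((((iv0 F10737)).symm.trans (sb E3253 F10742))).symm
theorem E3308 : n6627 = n2543 := ((D6627).symm.trans (sb E3253 (iv5 D6038)))
theorem E3309 : n6628 = n3496 := ((D6628).symm.trans (sb E3253 F9396))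
theorem F26291 : act 1 n3356 = n3390 := (sb E3255 (iv0 D7392))
theorem F26292 : act 4 n3356 = n3391 := (sb E3255 F12651)
theorem E3313 : n7705 = n2971 := (((F5395).symm.trans (sb E3256 F21165))).symm
theorem E3314 : n16462 = n814 := (((F2613).symm.trans (sb E3257 D16462))).symm
theorem E3315 : n7405 = n7099 := ((D7405).symm.trans (sb E3259 (iv6 D14909)))
theorem E3316 : n5890 = n5888 := (((F10371).symm.trans (sb E3260 (iv1 D12376)))).symm
theorem E3317 : n7391 = n3296 := (((F10372).symm.trans (sb E3260 (tr F20584 E3293)))).symm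
theorem F26293 : act 0 n5942 = n3388 := (sb E3261 (iv1 D7387))
theorem E3319 : n12582 = n12493 := (((D12493).symm.trans (sb E3261 (iv4 F20964)))).symm
theorem E3321 : n3369 = n2511 := ((((iv4 F3981)).symm.trans (sb E3262 F11634))).symm
theorem E3330 : n12838 = n3380 := (((D3380).symm.trans (sb E3264 (iv4 F21297)))).symm
theorem E3333 : n3373 = n3367 := (((D3367).symm.trans (sb E3265 D3373))).symm
theorem E3334 : n3374 = n3368 := (((D3368).symm.trans (sb E3265 D3374))).symm
theorem E3335 : n3371 = n809 := ((((iv3 D1487)).symm.trans (sb E3265 (iv3 F5370)))).symm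
theorem F26294 : act 4 n1487 = n810 := (sb E3265 F2607)
theorem E3336 : n3375 = n3370 := (((D3370).symm.trans (sb E3265 D3375))).symm
theorem E3340 : n12475 = n3343 := ((D12475).symm.trans (sb E3267 (iv1 F9211)))
theorem E3341 : n12476 = n3342 := ((D12476).symm.trans (sb E3267 F9212))
theorem E3342 : n12470 = n3345 := (((iv2 F20766)).symm.trans (sb E3267 F9207))
theorem E3343 : n12478 = n2505 := (((F9202).symm.trans (sb E3267 (iv3 F20774)))).symm
theorem F26295 : act 4 n5929 = n2508 := (sb E3267 F9208)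
theorem E3344 : n12486 = n12477 := (((D12477).symm.trans (sb E3267 (iv5 F20795)))).symm
theorem F26296 : act 3 n6125 = n3357 := (sb E3268 (iv3 D7308))
theorem E3348 : n12160 = n12140 := (((iv4 F20110)).symm.trans (sb E3268 (iv4 F20076)))
theorem E3353 : n6619 = n2712 := ((((iv6 F4307)).symm.trans (sb E3269 (iv6 F11650)))).symm
theorem F26297 : act 0 n7150 = n3389 := (sb E3270 F11612)
theorem F26298 : act 5 n7150 = n3357 := (sb E3270 (iv5 D7309))
theorem E3356 : n7105 = n6616 := ((((iv1 F10712)).symm.trans (sb E3271 F11413))).symm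
theorem F26299 : act 6 n2966 = n3357 := (sb E3271 F10378)
theorem E3360 : n15473 = n5165 := ((D15473).symm.trans (sb E3272 (iv1 F11654)))
theorem E3361 : n15474 = n6127 := ((D15474).symm.trans (sb E3272 (iv0 F11653)))
theorem E3362 : n15475 = n6126 := ((D15475).symm.trans (sb E3272 (iv2 F18202)))
theorem E3363 : n8151 = n7886 := ((((iv4 F12487)).symm.trans (sb E3272 F12919))).symm
theorem E3364 : n15476 = n13443 := ((D15476).symm.trans (sb E3272 (iv5 F22371)))
theorem E3365 : n15477 = n7101 := ((D15477).symm.trans (sb E3272 F11651))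
theorem F26300 : act 7 n7310 = n6125 := (sb E3272 F11652)
theorem E3366 : n15506 = n1576 := (((F2747).symm.trans (sb E3273 D15506))).symm
theorem E3368 : n7102 = n3359 := (((D3359).symm.trans (sb E3273 (iv6 F11640)))).symm
theorem F26301 : act 1 n6623 = n3389 := (sb E3274 F11619)
theorem F26302 : act 5 n6623 = n3358 := (sb E3274 (iv5 D7311))
theorem F26303 : act 6 n3257 = n3358 := (sb E3275 (iv6 D7312))
theorem E3375 : n7334 = n2586 := (((F10068).symm.trans (sb E3277 F20724))).symm
theorem E3376 : n8157 = n5955 := (((D5955).symm.trans (sb E3278 (iv4 F20726)))).symm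
theorem E3377 : n5953 = n5927 := (((iv4 F9237)).symm.trans (sb E3279 F20729))
theorem E3378 : n5925 = n3687 := ((D5925).symm.trans (sb E3280 (iv1 F10672)))
theorem E3379 : n5926 = n3683 := ((D5926).symm.trans (sb E3280 (iv0 F10669)))
theorem F26304 : act 4 n2503 = n1492 := (sb E3280 F5372)
theorem E3381 : n7358 = n5928 := (((D5928).symm.trans (sb E3280 (iv5 F11665)))).symm
theorem F26305 : act 1 n11262 = n6365 := (sb E3283 (iv0 D13404))
theorem E3382 : n12336 = n7394 := (E3284).trans E3295
theorem E3383 : n15749 = n5855 := ((D15749).symm.trans (sb E3382 F20485))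
theorem E3384 : n15739 = n5854 := (((iv6 F25225)).symm.trans (sb E3382 (iv6 D12336)))
theorem E3385 : n15750 = n12753 := ((F25246).symm.trans (sb E3285 (iv0 F25267)))
theorem F26306 : act 5 n15748 = n12458 := (sb E3285 F25264)
theorem F26307 : act 6 n15748 = n7399 := (sb E3285 (iv6 D15754))
theorem E3386 : n15747 = n12458 := ((F25261).symm.trans (sb E3285 F25265))
theorem F26308 : act 4 n15748 = n7399 := (sb E3286 (iv4 D15753))
theorem F26309 : act 1 n5938 = n3388 := (sb E3287 (iv0 D7386))
theorem E3387 : n12537 = n6081 := (((F12644).symm.trans (sb E3287 (iv3 F20887)))).symm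
theorem E3388 : n12669 = n12489 := (((D12489).symm.trans (sb E3287 (iv4 F21078)))).symm
theorem F26310 : act 2 n6034 = n3388 := (sb E3288 (iv2 D7388))
theorem E3391 : n12759 = n3396 := (((iv4 F21188)).symm.trans (sb E3288 F11684))
theorem E3394 : n7960 = n3394 := (((D3394).symm.trans (sb E3289 (iv1 F12692)))).symm
theorem E3395 : n7965 = n3395 := (((D3395).symm.trans (sb E3289 (iv0 F12946)))).symm
theorem E3397 : n16473 = n3397 := (((D3397).symm.trans (sb E3289 D16473))).symm
theorem E3398 : n3463 = n3398 := (((D3398).symm.trans (sb E3289 (iv6 D7638)))).symm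
theorem F26311 : act 3 n3305 = n3389 := (sb E3290 F11685)
theorem F26312 : act 5 n3305 = n3388 := (sb E3290 (iv5 D7389))
theorem F26313 : act 3 n1519 = n3390 := (sb E3291 F11686)
theorem E3405 : n15735 = n3464 := (((D3464).symm.trans (sb E3291 D15735))).symm
theorem F26314 : act 6 n1519 = n3388 := (sb E3291 (iv6 D7390))
theorem E3407 : n13932 = n7150 := (((D7150).symm.trans (sb E3292 (iv1 F24672)))).symm
theorem E3408 : n12377 = n3296 := (E3293).trans E3317
theorem E3409 : n7148 = n5896 := ((D7148).symm.trans (sb E3408 F20580))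
theorem E3410 : n7234 = n5854 := ((((iv5 F10295)).symm.trans (sb E3408 F20581))).symm
theorem F26315 : act 0 n7100 = n3390 := (sb E3294 (iv1 D7393))
theorem F26316 : act 4 n7100 = n3392 := (sb E3294 F12658)
theorem F26317 : act 4 n6029 = n3393 := (sb E3296 F11691)
theorem F26318 : act 7 n6029 = n3390 := (sb E3296 (iv7 D7395))
theorem E3415 : n7413 = n3607 := ((((iv3 F12600)).symm.trans (sb E3297 F20871))).symm
theorem E3416 : n16127 = n7304 := (((D7304).symm.trans (sb E3297 (iv4 F25641)))).symm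
theorem E3417 : n7487 = n7294 := (((D7294).symm.trans (sb E3298 (iv4 F20873)))).symm
theorem E3418 : n7704 = n5962 := (((iv4 F11979)).symm.trans (sb E3299 F20876))
theorem E3420 : n7434 = n5960 := (((D5960).symm.trans (sb E3300 F12080))).symm
theorem E3421 : n12856 = n5961 := (((D5961).symm.trans (sb E3300 (iv0 F21321)))).symm
theorem F26319 : act 4 n2516 = n3304 := (sb E3300 (iv4 D7165))
theorem E3423 : n15058 = n5963 := (((D5963).symm.trans (sb E3300 D15058))).symm
theorem E3424 : n6039 = n3021 := ((((iv6 F4737)).symm.trans (sb E3300 F11497))).symm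
theorem F26320 : act 3 n2545 = n2970 := (sb E3302 (iv3 D6626))
theorem E3429 : n13929 = n2968 := (((D2968).symm.trans (sb E3303 (iv1 F23195)))).symm
theorem E3430 : n13935 = n2969 := (((D2969).symm.trans (sb E3303 F23207))).symm
theorem E3431 : n15024 = n3305 := ((((iv3 F26311)).symm.trans (sb E3304 (iv3 F24662)))).symm
theorem F26321 : act 4 n3389 = n3298 := (sb E3304 F11465)
theorem F26322 : act 1 n6620 = n2970 := (sb E3306 F10731)
theorem E3436 : n13933 = n11260 := ((D13933).symm.trans (sb E3307 (iv3 F18336)))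
theorem E3437 : n13934 = n5857 := ((D13934).symm.trans (sb E3307 F10739))
theorem F26323 : act 7 n6624 = n6620 := (sb E3307 (iv7 F10740))
theorem F26324 : act 5 n2543 = n2970 := (sb E3308 (iv5 D6627))
theorem F26325 : act 0 n3496 = n6624 := (sb E3309 (iv1 F10749))
theorem F26326 : act 7 n3496 = n2970 := (sb E3309 (iv7 D6628))
theorem E3442 : n16581 = n1357 := (((F4656).symm.trans (sb E3313 D16581))).symm
theorem F26327 : act 4 n2971 = n3496 := (sb E3313 (iv4 D7705))
theorem E3444 : n7636 = n1499 := ((((iv4 F2616)).symm.trans (sb E3314 F25956))).symm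
theorem E3445 : n14908 = n13547 := ((D14908).symm.trans (sb E3315 F22710))
theorem F26328 : act 6 n7099 = n3392 := (sb E3315 (iv6 D7405))
theorem E3446 : n12374 = n2490 := ((D12374).symm.trans (sb E3316 F9111))
theorem E3447 : n12375 = n2487 := ((((iv4 D5888)).symm.trans (sb E3316 (iv4 F20575)))).symm
theorem E3448 : n7314 = n3259 := ((((iv5 F10294)).symm.trans (sb E3316 F11623))).symm
theorem F26329 : act 6 n3296 = n3389 := (sb E3317 (iv6 D7391))
theorem E3452 : n7623 = n6007 := ((F20818).symm.trans (sb E3319 F25465))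
theorem F26330 : act 3 n12493 = n5981 := (sb E3319 (iv3 D12582))
theorem F26331 : act 2 n2511 = n1487 := (sb E3321 (iv2 D3369))
theorem E3453 : n5948 = n5946 := (((iv3 F9230)).symm.trans (sb E3321 (iv3 F9222)))
theorem E3454 : n7337 = n5952 := (((D5952).symm.trans (sb E3321 D7337))).symm
theorem E3456 : n7362 = n6070 := ((D7362).symm.trans (sb E3330 (iv3 D12838)))
theorem E3457 : n7327 = n3683 := ((D7327).symm.trans (sb E3333 F10659))
theorem E3458 : n7351 = n7328 := (((D7328).symm.trans (sb E3333 D7351))).symm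
theorem E3459 : n7329 = n2585 := ((D7329).symm.trans (sb E3333 F10660))
theorem E3460 : n7352 = n7330 := (((D7330).symm.trans (sb E3333 D7352))).symm
theorem E3461 : n7331 = n6394 := ((D7331).symm.trans (sb E3333 F10661))
theorem E3463 : n7353 = n7333 := (((D7333).symm.trans (sb E3334 D7353))).symm
theorem E3464 : n7354 = n7335 := (((D7335).symm.trans (sb E3334 D7354))).symm
theorem E3465 : n7336 = n5872 := ((D7336).symm.trans (sb E3334 F10665))
theorem E3468 : n7345 = n1488 := (((D1488).symm.trans (sb E3335 D7345))).symm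
theorem F26332 : act 6 n809 = n1487 := (sb E3335 (iv6 D3371))
theorem E3469 : n7355 = n7339 := (((D7339).symm.trans (sb E3336 D7355))).symm
theorem E3470 : n7356 = n7340 := (((D7340).symm.trans (sb E3336 D7356))).symm
theorem E3471 : n7357 = n7341 := (((D7341).symm.trans (sb E3336 D7357))).symm
theorem E3472 : n7349 = n7342 := (((D7342).symm.trans (sb E3336 (iv6 F11663)))).symm
theorem F26333 : act 1 n3343 = n5929 := (sb E3340 (iv0 D12475))
theorem F26334 : act 0 n3342 = n5929 := (sb E3341 (iv1 D12476))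
theorem F26335 : act 2 n3345 = n5929 := (sb E3342 F20766)
theorem E3473 : n7271 = n7263 := (((iv3 F11576)).symm.trans (sb E3342 F20767))
theorem F26336 : act 7 n2505 = n5929 := (sb E3343 (iv7 D12478))
theorem F26337 : act 0 n12477 = n7284 := (sb E3344 (iv1 F20796))
theorem F26338 : act 1 n12477 = n7283 := (sb E3344 F20797)
theorem F26339 : act 2 n12477 = n7286 := (sb E3344 F20794)
theorem F26340 : act 7 n12477 = n5933 := (sb E3344 (iv7 D12486))
theorem F26341 : act 0 n12140 = n8153 := (sb E3348 (iv1 F20113))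
theorem F26342 : act 1 n12140 = n5765 := (sb E3348 (iv0 D12160))
theorem F26343 : act 2 n12140 = n8150 := (sb E3348 (iv2 F20111))
theorem F26344 : act 4 n12140 = n6125 := (sb E3348 F20110)
theorem E3474 : n13926 = n11272 := (((F20077).symm.trans (sb E3348 (iv6 F23187)))).symm
theorem E3476 : n13923 = n3260 := ((((iv1 F10199)).symm.trans (sb E3353 (iv1 F23182)))).symm
theorem E3477 : n13826 = n3503 := ((((iv0 F10198)).symm.trans (sb E3353 (iv0 F23094)))).symm
theorem F26345 : act 4 n2712 = n2966 := (sb E3353 (iv4 D6619))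
theorem E3478 : n6617 = n6368 := (((D6368).symm.trans (sb E3353 F10724))).symm
theorem E3479 : n14915 = n3000 := (((F10716).symm.trans (sb E3356 (iv3 F24565)))).symm
theorem F26346 : act 1 n5165 = n7310 := (sb E3360 (iv0 D15473))
theorem F26347 : act 0 n6127 = n7310 := (sb E3361 (iv1 D15474))
theorem F26348 : act 2 n6126 = n7310 := (sb E3362 (iv2 D15475))
theorem F26349 : act 0 n7886 = n3669 := (sb E3363 (iv1 D8151))
theorem F26350 : act 1 n7886 = n12163 := (sb E3363 F20157)
theorem F26351 : act 2 n7886 = n12161 := (sb E3363 F20116)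
theorem F26352 : act 6 n7886 = n12099 := (sb E3363 F20020)
theorem F26353 : act 5 n13443 = n7310 := (sb E3364 (iv5 D15476))
theorem F26354 : act 6 n7101 = n7310 := (sb E3365 (iv6 D15477))
theorem E3481 : n14910 = n3576 := (((D3576).symm.trans (sb E3366 F25056))).symm
theorem F26355 : act 4 n3359 = n3257 := (sb E3368 (iv4 D7102))
theorem E3482 : n7315 = n7103 := ((D7315).symm.trans (sb E3368 (iv7 F11407)))
theorem E3484 : n15524 = n1620 := (((F4141).symm.trans (sb E3375 F25082))).symm
theorem F26356 : act 4 n2586 = n3368 := (sb E3375 (iv4 D7334))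
theorem E3489 : n12521 = n3673 := ((D12521).symm.trans (sb E3376 (iv3 D8157)))
theorem F26357 : act 4 n5927 = n2514 := (sb E3377 F9237)
theorem E3491 : n12520 = n12469 := (((D12469).symm.trans (sb E3377 (iv5 F20859)))).symm
theorem F26358 : act 6 n5927 = n3345 := (sb E3377 F9238)
theorem F26359 : act 7 n5927 = n2511 := (sb E3377 (iv7 D5953))
theorem F26360 : act 1 n3687 = n2503 := (sb E3378 (iv0 D5925))
theorem F26361 : act 2 n3687 = n12459 := (sb E3378 D12459)
theorem E3492 : n12460 = n8181 := (((D8181).symm.trans (sb E3378 D12460))).symm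
theorem F26362 : act 7 n3687 = n12464 := (sb E3378 D12464)
theorem F26363 : act 0 n3683 = n2503 := (sb E3379 (iv1 D5926))
theorem F26364 : act 2 n3683 = n12464 := (sb E3379 (iv2 F20759))
theorem F26365 : act 7 n3683 = n12459 := (sb E3379 F20758)
theorem E3503 : n12518 = n12471 := (((D12471).symm.trans (sb E3381 (iv1 F20850)))).symm
theorem E3504 : n12517 = n12472 := (((D12472).symm.trans (sb E3381 F20856))).symm
theorem E3505 : n15438 = n12473 := (((D12473).symm.trans (sb E3381 (iv4 F24984)))).symm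
theorem F26366 : act 4 n5855 = n7394 := (sb E3383 (iv4 D15749))
theorem F26367 : act 6 n5854 = n7394 := (sb E3384 F25225)
theorem F26368 : act 0 n12753 = n15748 := (sb E3385 (iv1 F25246))
theorem F26369 : act 7 n12753 = n7394 := (sb E3385 (iv7 D15750))
theorem F26370 : act 1 n12458 = n7394 := (sb E3386 (iv0 D15747))
theorem F26371 : act 7 n12458 = n15748 := (sb E3386 (iv7 F25261))
theorem E3507 : n12672 = n6507 := ((((iv0 F10574)).symm.trans (sb E3387 F25429))).symm
theorem E3508 : n7408 = n3602 := (((F12628).symm.trans (sb E3387 F25430))).symm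
theorem F26372 : act 3 n12489 = n7527 := (sb E3388 (iv3 F21079))
theorem F26373 : act 4 n3396 = n6034 := (sb E3391 F21188)
theorem E3509 : n15610 = n7416 := (((D7416).symm.trans (sb E3391 (iv5 F25119)))).symm
theorem E3510 : n7417 = n6032 := ((D7417).symm.trans (sb E3391 (iv6 D12759)))
theorem E3511 : n7410 = n7139 := ((D7410).symm.trans (sb E3394 F12694))
theorem E3512 : n7415 = n5971 := ((D7415).symm.trans (sb E3395 F12710))
theorem E3513 : n8182 = n7418 := (((D7418).symm.trans (sb E3397 F25970))).symm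
theorem E3514 : n8176 = n7419 := (((D7419).symm.trans (sb E3397 F25971))).symm
theorem E3515 : n7422 = n3567 := ((D7422).symm.trans (sb E3398 (iv1 F11991)))
theorem E3516 : n7423 = n6462 := ((D7423).symm.trans (sb E3398 (iv0 F11988)))
theorem F26374 : act 4 n3398 = n1519 := (sb E3398 (iv4 D3463))
theorem E3517 : n7637 = n7424 := (((D7424).symm.trans (sb E3398 D7637))).symm
theorem E3518 : n7425 = n6030 := ((D7425).symm.trans (sb E3398 (iv7 F9372)))
theorem F26375 : act 3 n3464 = n7394 := (sb E3405 F25220)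
theorem F26376 : act 4 n7150 = n6623 := (sb E3407 F23198)
theorem E3521 : n15023 = n3293 := (((F9123).symm.trans (sb E3409 D15023))).symm
theorem F26377 : act 3 n5896 = n3296 := (sb E3409 (iv3 D7148))
theorem E3522 : n12387 = n3299 := (((iv4 F20607)).symm.trans (sb E3409 F11463))
theorem E3523 : n12335 = n3329 := (((F9124).symm.trans (sb E3409 (iv5 F20482)))).symm
theorem F26378 : act 1 n5854 = n3359 := (sb E3410 F11627)
theorem E3524 : n15769 = n7874 := ((((iv1 F12459)).symm.trans (sb E3415 (iv1 F25285)))).symm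
theorem E3526 : n12532 = n6086 := ((((iv2 F12639)).symm.trans (sb E3415 (iv2 F25413)))).symm
theorem F26379 : act 4 n3607 = n3395 := (sb E3415 (iv4 D7413))
theorem E3530 : n12685 = n11435 := (((F18694).symm.trans (sb E3416 (iv0 F25643)))).symm
theorem E3531 : n15460 = n7532 := ((D15460).symm.trans (sb E3416 (iv3 D16127)))
theorem E3532 : n15451 = n3420 := ((D15451).symm.trans (sb E3417 (iv3 D7487)))
theorem E3533 : n16001 = n12940 := ((((iv5 F21495)).symm.trans (sb E3417 D16001))).symm
theorem E3534 : n16002 = n12389 := ((((iv6 F20617)).symm.trans (sb E3417 D16002))).symm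
theorem E3535 : n16578 = n3383 := (((F9258).symm.trans (sb E3418 (iv3 F26248)))).symm
theorem F26380 : act 4 n5962 = n3492 := (sb E3418 F11979)
theorem E3537 : n6713 = n3491 := (((iv6 F10945)).symm.trans (sb E3418 (iv6 D7704)))
theorem E3538 : n15853 = n12531 := (((D12531).symm.trans (sb E3420 (iv3 F25328)))).symm
theorem E3539 : n12533 = n12471 := ((D12533).symm.trans (sb E3420 (tr (iv5 F20851) E3503)))
theorem E3540 : n12534 = n3400 := ((D12534).symm.trans (sb E3420 (iv6 D7434)))
theorem F26381 : act 4 n5961 = n6081 := (sb E3421 (iv4 D12856))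
theorem E3541 : n12538 = n12472 := ((D12538).symm.trans (sb E3421 (tr F21320 E3504)))
theorem E3542 : n12539 = n12385 := ((D12539).symm.trans (sb E3421 F21318))
theorem E3544 : n12541 = n7330 := ((D12541).symm.trans (sb E3423 (tr F24690 E3460)))
theorem E3546 : n11496 = n6711 := (((D6711).symm.trans (sb E3424 (iv1 F18798)))).symm
theorem E3547 : n6712 = n6710 := ((D6712).symm.trans (sb E3424 F10943))
theorem F26382 : act 4 n3021 = n2545 := (sb E3424 (iv4 D6039))
theorem E3548 : n11505 = n6714 := (((D6714).symm.trans (sb E3424 (iv5 F18809)))).symm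
theorem E3549 : n6715 = n3501 := ((D6715).symm.trans (sb E3424 F9398))
theorem F26383 : act 4 n2968 = n6620 := (sb E3429 (iv4 D13929))
theorem F26384 : act 6 n2969 = n6624 := (sb E3430 (iv6 D13935))
theorem E3550 : n7162 = n7157 := (((iv4 F11481)).symm.trans (sb E3431 F24663))
theorem F26385 : act 3 n11260 = n6624 := (sb E3436 (iv3 D13933))
theorem F26386 : act 5 n5857 = n6624 := (sb E3437 (iv5 D13934))
theorem E3551 : n7710 = n3023 := ((((iv4 F4740)).symm.trans (sb E3442 F26254))).symm
theorem E3556 : n12754 = n3403 := (((D3403).symm.trans (sb E3444 (iv7 F21175)))).symm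
theorem F26387 : act 3 n13547 = n7099 := (sb E3445 (iv3 D14908))
theorem F26388 : act 5 n13547 = n13403 := (sb E3445 F24551)
theorem F26389 : act 7 n13547 = n13403 := (sb E3445 F24552)
theorem F26390 : act 3 n2490 = n5888 := (sb E3446 (iv3 D12374))
theorem E3557 : n5893 = n5891 := (((iv4 F9116)).symm.trans (sb E3446 F20571))
theorem E3558 : n7104 = n3520 := (((F5532).symm.trans (sb E3446 F20572))).symm
theorem F26391 : act 6 n2487 = n5888 := (sb E3447 (iv6 D12375))
theorem F26392 : act 0 n3259 = n3359 := (sb E3448 (iv1 D7314))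
theorem F26393 : act 6 n3259 = n6616 := (sb E3448 (iv6 F11622))
theorem F26394 : act 0 n6007 = n12489 := (sb E3452 (iv1 F20808))
theorem F26395 : act 1 n6007 = n12493 := (sb E3452 (iv0 F20818))
theorem E3559 : n12748 = n12671 := (((D12671).symm.trans (sb E3452 (iv2 F21155)))).symm
theorem E3560 : n16435 = n2531 := ((((iv3 D6007)).symm.trans (sb E3452 (iv3 F25912)))).symm
theorem E3561 : n16438 = n12673 := (((D12673).symm.trans (sb E3452 D16438))).symm
theorem E3562 : n12674 = n3458 := ((D12674).symm.trans (sb E3452 (iv6 D7623)))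
theorem E3563 : n12642 = n11435 := (((iv7 F21054)).symm.trans (sb E3452 (iv7 F18693)))
theorem E3566 : n12504 = n2509 := ((((iv2 D5946)).symm.trans (sb E3453 (iv2 F20829)))).symm
theorem F26396 : act 3 n5946 = n2511 := (sb E3453 F9230)
theorem E3567 : n12511 = n12503 := (((D12503).symm.trans (sb E3453 D12511))).symm
theorem F26397 : act 2 n5952 = n3370 := (sb E3454 F11657)
theorem E3568 : n15553 = n12519 := (((D12519).symm.trans (sb E3454 D15553))).symm
theorem E3569 : n15554 = n12515 := ((((iv6 F20843)).symm.trans (sb E3454 D15554))).symm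
theorem F26398 : act 3 n6070 = n3380 := (sb E3456 (iv3 D7362))
theorem E3574 : n15638 = n12839 := (((D12839).symm.trans (sb E3456 (iv4 F25139)))).symm
theorem E3575 : n15643 = n12840 := (((D12840).symm.trans (sb E3456 D15643))).symm
theorem E3576 : n12841 = n12345 := ((D12841).symm.trans (sb E3456 (iv6 F20504)))
theorem E3577 : n12842 = n3673 := ((D12842).symm.trans (sb E3456 (tr (iv7 F20863) E3489)))
theorem E3580 : n12464 = n3367 := ((F26364).symm.trans (sb E3457 (iv2 D7327)))
theorem E3581 : n15514 = n8175 := (((D8175).symm.trans (sb E3457 D15514))).symm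
theorem E3582 : n15516 = n7419 := (((E3514).symm.trans ((D8176).symm.trans (sb E3457 D15516)))).symm
theorem E3584 : n12459 = n3368 := ((F26365).symm.trans (sb E3457 (iv7 F11655)))
theorem E3588 : n15608 = n7898 := (((F12506).symm.trans (sb E3458 D15608))).symm
theorem E3590 : n15522 = n13447 := ((D15522).symm.trans (sb E3458 (iv6 F22380)))
theorem E3591 : n15523 = n8181 := ((D15523).symm.trans (sb E3458 (iv7 F12955)))
theorem F26399 : act 4 n2585 = n3367 := (sb E3459 (iv4 D7329))
theorem E3595 : n15530 = n7416 := ((D15530).symm.trans (sb E3460 (tr D15610 E3509)))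
theorem E3597 : n15612 = n15533 := (((D15533).symm.trans (sb E3460 D15612))).symm
theorem F26400 : act 6 n6394 = n3367 := (sb E3461 (iv6 D7331))
theorem E3607 : n15542 = n12523 := ((D15542).symm.trans (sb E3463 (iv4 F20866)))
theorem E3609 : n15544 = n12346 := ((D15544).symm.trans (sb E3463 (iv6 F20507)))
theorem E3611 : n15618 = n15548 := (((D15548).symm.trans (sb E3464 D15618))).symm
theorem F26401 : act 6 n5872 = n3368 := (sb E3465 (iv6 D7336))
theorem E3629 : n15575 = n3372 := (((D3372).symm.trans (sb E3468 (iv6 F25107)))).symm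
theorem E3631 : n15620 = n15561 := (((D15561).symm.trans (sb E3469 D15620))).symm
theorem E3634 : n15623 = n15566 := (((D15566).symm.trans (sb E3470 D15623))).symm
theorem E3636 : n15625 = n15569 := (((D15569).symm.trans (sb E3471 D15625))).symm
theorem E3637 : n15626 = n15570 := (((D15570).symm.trans (sb E3471 D15626))).symm
theorem E3639 : n15571 = n15439 := ((D15571).symm.trans (sb E3471 (iv5 F24987)))
theorem E3642 : n15602 = n15574 := (((D15574).symm.trans (sb E3472 D15602))).symm
theorem E3643 : n15604 = n15576 := (((D15576).symm.trans (sb E3472 D15604))).symm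
theorem E3644 : n15367 = n15366 := (((D15366).symm.trans (sb E3473 (iv1 F24938)))).symm
theorem E3645 : n15369 = n3340 := (((F11571).symm.trans (sb E3473 (iv2 F24940)))).symm
theorem F26402 : act 3 n7263 = n3345 := (sb E3473 F11576)
theorem E3646 : n15398 = n15368 := (((D15368).symm.trans (sb E3473 (iv5 F24962)))).symm
theorem F26403 : act 0 n11272 = n14060 := (sb E3474 (iv1 F23467))
theorem F26404 : act 1 n11272 = n14061 := (sb E3474 (iv0 F23470))
theorem F26405 : act 2 n11272 = n13442 := (sb E3474 F23186)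
theorem F26406 : act 4 n11272 = n6618 := (sb E3474 (iv4 D13926))
theorem F26407 : act 7 n11272 = n13441 := (sb E3474 F23188)
theorem F26408 : act 4 n3260 = n6616 := (sb E3476 (iv4 D13923))
theorem F26409 : act 4 n3503 = n6574 := (sb E3477 (iv4 D13826))
theorem F26410 : act 4 n6368 = n2962 := (sb E3478 (iv4 D6617))
theorem E3648 : n7127 = n6677 := (((D6677).symm.trans (sb E3479 F24566))).symm
theorem E3649 : n14911 = n7891 := (((D7891).symm.trans (sb E3481 (iv7 F24562)))).symm
theorem F26411 : act 6 n7103 = n6368 := (sb E3482 F11630)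
theorem F26412 : act 7 n7103 = n3359 := (sb E3482 (iv7 D7315))
theorem E3650 : n15258 = n3680 := ((((iv4 F5700)).symm.trans (sb E3484 F25077))).symm
theorem F26413 : act 3 n3673 = n5955 := (sb E3489 (iv3 D12521))
theorem E3651 : n8160 = n6694 := ((D8160).symm.trans (sb E3489 F20862))
theorem F26414 : act 7 n12469 = n5952 := (sb E3491 (iv7 D12520))
theorem F26415 : act 4 n8181 = n12917 := (sb E3492 F21467)
theorem F26416 : act 0 n12471 = n5952 := (sb E3503 (iv1 D12518))
theorem F26417 : act 1 n12472 = n5952 := (sb E3504 (iv0 D12517))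
theorem F26418 : act 5 n12473 = n7285 := (sb E3505 (iv5 D15438))
theorem F26419 : act 4 n6507 = n6007 := (sb E3507 (iv4 D12672))
theorem E3652 : n15770 = n7955 := ((((iv3 F12666)).symm.trans (sb E3508 D15770))).symm
theorem F26420 : act 4 n3602 = n3394 := (sb E3508 (iv4 D7408))
theorem F26421 : act 2 n6032 = n3398 := (sb E3510 F11704)
theorem E3657 : n12757 = n12556 := ((D12757).symm.trans (sb E3510 (iv3 F20912)))
theorem E3658 : n15800 = n12758 := (((D12758).symm.trans (sb E3510 D15800))).symm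
theorem F26422 : act 6 n6032 = n3396 := (sb E3510 (iv6 D7417))
theorem E3662 : n15766 = n15007 := (((D15007).symm.trans (sb E3511 (iv3 F25282)))).symm
theorem F26423 : act 6 n7139 = n3394 := (sb E3511 (iv6 D7410))
theorem E3667 : n15787 = n12569 := (((D12569).symm.trans (sb E3512 (iv3 F25298)))).symm
theorem F26424 : act 6 n5971 = n3395 := (sb E3512 (iv6 D7415))
theorem E3670 : n15805 = n3687 := ((D15805).symm.trans (sb E3513 (iv5 D8182)))
theorem E3671 : n15810 = n3683 := ((D15810).symm.trans (sb E3514 (iv5 D8176)))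
theorem F26425 : act 1 n3567 = n3398 := (sb E3515 (iv0 D7422))
theorem F26426 : act 0 n6462 = n3398 := (sb E3516 (iv1 D7423))
theorem E3682 : n16454 = n15830 := (((D15830).symm.trans (sb E3517 (iv1 F25931)))).symm
theorem E3683 : n16453 = n15831 := (((D15831).symm.trans (sb E3517 F25929))).symm
theorem E3684 : n16471 = n15832 := (((D15832).symm.trans (sb E3517 D16471))).symm
theorem E3686 : n15833 = n12755 := ((D15833).symm.trans (sb E3517 (iv7 F21177)))
theorem F26427 : act 7 n6030 = n3398 := (sb E3518 (iv7 D7425))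
theorem E3687 : n7155 = n7141 := ((((iv4 F11458)).symm.trans (sb E3521 F24661))).symm
theorem E3688 : n7153 = n7139 := ((D7153).symm.trans (sb E3522 (iv1 F20609)))
theorem E3689 : n7154 = n7138 := ((D7154).symm.trans (sb E3522 F20610))
theorem F26428 : act 4 n3299 = n5896 := (sb E3522 F20607)
theorem E3690 : n15301 = n7156 := (((D7156).symm.trans (sb E3522 (iv5 F24883)))).symm
theorem F26429 : act 3 n3329 = n5854 := (sb E3523 (iv3 D12335))
theorem E3691 : n7235 = n5873 := ((D7235).symm.trans (sb E3523 F20481))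
theorem F26430 : act 3 n7874 = n13405 := (sb E3524 F25661)
theorem F26431 : act 4 n6086 = n5960 := (sb E3526 (iv4 D12532))
theorem F26432 : act 3 n11435 = n6011 := (sb E3530 (iv3 D12685))
theorem F26433 : act 3 n7532 = n7304 := (sb E3531 (iv3 D15460))
theorem E3693 : n16129 = n7447 := ((D16129).symm.trans (sb E3531 F25000))
theorem F26434 : act 3 n3420 = n7294 := (sb E3532 (iv3 D15451))
theorem F26435 : act 3 n12940 = n7489 := (sb E3533 F25498)
theorem F26436 : act 3 n12389 = n7490 := (sb E3534 F25499)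
theorem E3694 : n7702 = n6608 := ((((iv6 F10704)).symm.trans (sb E3535 (iv6 D16578)))).symm
theorem F26437 : act 2 n3491 = n3021 := (sb E3537 (iv2 D6713))
theorem E3697 : n14130 = n7703 := (((D7703).symm.trans (sb E3537 D14130))).symm
theorem F26438 : act 6 n3491 = n5962 := (sb E3537 F10945)
theorem E3698 : n14117 = n6040 := ((((iv7 F9401)).symm.trans (sb E3537 (iv7 F23602)))).symm
theorem F26439 : act 6 n12531 = n7431 := (sb E3538 (iv6 D15853))
theorem F26440 : act 2 n12471 = n7340 := (sb E3539 F25795)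
theorem F26441 : act 5 n12471 = n5960 := (sb E3539 (iv5 D12533))
theorem F26442 : act 7 n12471 = n7339 := (sb E3539 F25796)
theorem F26443 : act 6 n3400 = n5960 := (sb E3540 (iv6 D12534))
theorem F26444 : act 2 n12472 = n7339 := (sb E3541 F25791)
theorem F26445 : act 5 n12472 = n5961 := (sb E3541 (iv5 D12538))
theorem F26446 : act 7 n12472 = n7340 := (sb E3541 F25792)
theorem F26447 : act 6 n12385 = n5961 := (sb E3542 (iv6 D12539))
theorem E3699 : n15531 = n5963 := ((D15531).symm.trans (sb E3544 (iv0 D12541)))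
theorem E3700 : n14118 = n7701 := ((D14118).symm.trans (sb E3546 F18794))
theorem E3701 : n14120 = n5356 := ((D14120).symm.trans (sb E3546 (iv4 D11496)))
theorem E3702 : n14122 = n7159 := ((D14122).symm.trans (sb E3546 F18795))
theorem E3703 : n14123 = n6605 := ((D14123).symm.trans (sb E3546 F18796))
theorem F26448 : act 0 n6710 = n3021 := (sb E3547 (iv1 D6712))
theorem E3708 : n14131 = n11450 := ((D14131).symm.trans (sb E3548 (iv1 F18812)))
theorem E3709 : n14132 = n5365 := ((D14132).symm.trans (sb E3548 (iv0 D11505)))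
theorem E3710 : n14529 = n14133 := (((D14133).symm.trans (sb E3548 (iv4 F24170)))).symm
theorem E3711 : n14135 = n7711 := ((D14135).symm.trans (sb E3548 (iv7 F18811)))
theorem F26449 : act 7 n3501 = n3021 := (sb E3549 (iv7 D6715))
theorem E3712 : n15045 = n6707 := ((D15045).symm.trans (sb E3550 (iv1 F11482)))
theorem E3713 : n15046 = n8178 := ((D15046).symm.trans (sb E3550 F12945))
theorem E3714 : n15040 = n12397 := (((iv2 F24678)).symm.trans (sb E3550 (iv2 F20637)))
theorem E3715 : n15048 = n3301 := (((F11478).symm.trans (sb E3550 (iv3 F24681)))).symm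
theorem F26450 : act 4 n7157 = n3305 := (sb E3550 F11481)
theorem E3716 : n15055 = n15047 := (((D15047).symm.trans (sb E3550 (iv5 F24684)))).symm
theorem F26451 : act 3 n3023 = n3501 := (sb E3551 (iv3 D7710))
theorem F26452 : act 3 n3403 = n6030 := (sb E3556 (iv3 D12754))
theorem E3717 : n12384 = n12378 := (((D12378).symm.trans (sb E3557 D12384))).symm
theorem E3718 : n12385 = n12379 := (((D12379).symm.trans (sb E3557 D12385))).symm
theorem E3719 : n12380 = n3286 := ((D12380).symm.trans (sb E3557 F9115))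
theorem E3720 : n12382 = n2488 := ((((iv3 D5891)).symm.trans (sb E3557 (iv3 F20593)))).symm
theorem F26453 : act 4 n5891 = n2490 := (sb E3557 F9116)
theorem E3721 : n12386 = n12381 := (((D12381).symm.trans (sb E3557 D12386))).symm
theorem E3724 : n14914 = n3292 := (((F5533).symm.trans (sb E3558 D14914))).symm
theorem F26454 : act 3 n3520 = n3259 := (sb E3558 (iv3 D7104))
theorem E3725 : n7761 = n3275 := ((D7761).symm.trans (sb E3558 F11410))
theorem F26455 : act 0 n12671 = n7294 := (sb E3559 (iv1 F21158))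
theorem F26456 : act 1 n12671 = n7304 := (sb E3559 F21159)
theorem F26457 : act 4 n12671 = n7874 := (sb E3559 F21156)
theorem F26458 : act 5 n12671 = n15633 := (sb E3559 (iv5 F25130))
theorem F26459 : act 6 n12671 = n6027 := (sb E3559 (iv6 D12748))
theorem F26460 : act 7 n12671 = n11498 := (sb E3559 F21157)
theorem E3726 : n7620 = n6010 := (((D6010).symm.trans (sb E3560 (iv6 D16435)))).symm
theorem F26461 : act 0 n12673 = n12524 := (sb E3561 F25915)
theorem F26462 : act 1 n12673 = n12522 := (sb E3561 F25916)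
theorem F26463 : act 2 n12673 = n15633 := (sb E3561 F25913)
theorem F26464 : act 7 n12673 = n15634 := (sb E3561 F25914)
theorem F26465 : act 6 n3458 = n6007 := (sb E3562 (iv6 D12674))
theorem E3727 : n6011 = n6001 := ((F26432).symm.trans (sb E3563 (iv3 D12642)))
theorem F26466 : act 7 n11435 = n6007 := (sb E3563 F21054)
theorem F26467 : act 6 n2509 = n5946 := (sb E3566 (iv6 D12504))
theorem F26468 : act 3 n12503 = n5952 := (sb E3567 F20837)
theorem F26469 : act 2 n12519 = n7341 := (sb E3568 F25093)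
theorem F26470 : act 2 n12515 = n7342 := (sb E3569 F25094)
theorem F26471 : act 3 n12839 = n7361 := (sb E3574 (iv3 D15638))
theorem F26472 : act 3 n12840 = n7363 := (sb E3575 F25140)
theorem F26473 : act 6 n12345 = n6070 := (sb E3576 (iv6 D12841))
theorem E3728 : n8156 = n6071 := ((D8156).symm.trans (sb E3577 F21298))
theorem E3729 : n8161 = n6070 := ((D8161).symm.trans (sb E3577 (iv7 D12842)))
theorem F26474 : act 2 n3367 = n3683 := (sb E3580 (iv2 F26364))
theorem F26475 : act 7 n3367 = n3687 := (sb E3580 (iv7 F26362))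
theorem F26476 : act 7 n8175 = n7333 := (sb E3581 F25068)
theorem E3730 : n15807 = n7330 := (((iv2 F25310)).symm.trans (sb E3582 F25071))
theorem E3731 : n15802 = n7335 := ((F25309).symm.trans (sb E3582 F25072))
theorem F26477 : act 2 n3368 = n3687 := (sb E3584 (iv2 F26361))
theorem F26478 : act 7 n3368 = n3683 := (sb E3584 (iv7 F26365))
theorem F26479 : act 3 n7898 = n8154 := (sb E3588 F25117)
theorem F26480 : act 6 n13447 = n7328 := (sb E3590 (iv6 D15522))
theorem F26481 : act 7 n8181 = n7328 := (sb E3591 (iv7 D15523))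
theorem F26482 : act 0 n7416 = n7335 := (sb E3595 (iv1 F25087))
theorem F26483 : act 1 n7416 = n7330 := (sb E3595 (iv0 D15530))
theorem F26484 : act 5 n15533 = n13916 := (sb E3597 F25121)
theorem F26485 : act 0 n12523 = n7743 := (sb E3607 (iv1 F25751))
theorem F26486 : act 1 n12523 = n7738 := (sb E3607 (iv0 F25089))
theorem F26487 : act 4 n12523 = n7333 := (sb E3607 (iv4 D15542))
theorem F26488 : act 5 n12523 = n16120 := (sb E3607 F25749)
theorem F26489 : act 6 n12346 = n7333 := (sb E3609 (iv6 D15544))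
theorem F26490 : act 5 n15548 = n14998 := (sb E3611 F25123)
theorem F26491 : act 5 n3372 = n7342 := (sb E3629 (iv5 D15575))
theorem F26492 : act 1 n15561 = n12942 := (sb E3631 F25124)
theorem F26493 : act 0 n15566 = n12942 := (sb E3634 F25125)
theorem F26494 : act 4 n15569 = n8171 := (sb E3636 F25126)
theorem F26495 : act 4 n15570 = n8172 := (sb E3637 F25127)
theorem F26496 : act 3 n15439 = n8692 := (sb E3639 F25103)
theorem F26497 : act 5 n15439 = n7341 := (sb E3639 (iv5 D15571))
theorem F26498 : act 5 n15574 = n15714 := (sb E3642 (iv5 F25210))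
theorem F26499 : act 5 n15576 = n7350 := (sb E3643 F25116)
theorem F26500 : act 0 n15366 = n7263 := (sb E3644 (iv1 D15367))
theorem E3732 : n7269 = n7268 := (((D7268).symm.trans (sb E3645 (iv1 F24943)))).symm
theorem F26501 : act 7 n3340 = n7263 := (sb E3645 (iv7 D15369))
theorem F26502 : act 3 n15368 = n7286 := (sb E3646 F24961)
theorem F26503 : act 7 n15368 = n7270 := (sb E3646 (iv7 D15398))
theorem E3736 : n14045 = n3277 := ((D14045).symm.trans (sb E3648 F11445))
theorem E3737 : n14972 = n13883 := ((((iv5 F23149)).symm.trans (sb E3648 D14972))).symm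
theorem F26504 : act 3 n7891 = n7103 := (sb E3649 (iv3 D14911))
theorem E3739 : n8170 = n7227 := (((iv3 F12929)).symm.trans (sb E3650 (iv3 D15258)))
theorem E3740 : n8752 = n8174 := ((((iv5 F12930)).symm.trans (sb E3650 (iv5 F25988)))).symm
theorem F26505 : act 6 n6694 = n3673 := (sb E3651 (iv6 D8160))
theorem F26506 : act 4 n7955 = n15940 := (sb E3652 (iv4 F25471))
theorem F26507 : act 3 n12556 = n6032 := (sb E3657 (iv3 D12757))
theorem F26508 : act 7 n12556 = n7629 := (sb E3657 F21184)
theorem F26509 : act 2 n12758 = n7424 := (sb E3658 F25303)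
theorem F26510 : act 4 n15007 = n15942 := (sb E3662 (iv4 F25472))
theorem F26511 : act 6 n15007 = n7407 := (sb E3662 (iv6 D15766))
theorem F26512 : act 6 n12569 = n7412 := (sb E3667 (iv6 D15787))
theorem F26513 : act 5 n3687 = n7418 := (sb E3670 (iv5 D15805))
theorem F26514 : act 5 n3683 = n7419 := (sb E3671 (iv5 D15810))
theorem F26515 : act 0 n15830 = n7630 := (sb E3682 (iv1 D16454))
theorem F26516 : act 5 n15830 = n14895 := (sb E3682 F25933)
theorem F26517 : act 7 n15830 = n15428 := (sb E3682 F25932)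
theorem F26518 : act 1 n15831 = n7630 := (sb E3683 (iv0 D16453))
theorem F26519 : act 2 n15831 = n15428 := (sb E3683 (iv2 F25930))
theorem F26520 : act 5 n15831 = n7964 := (sb E3683 F25928)
theorem F26521 : act 5 n15832 = n16445 := (sb E3684 F25967)
theorem F26522 : act 3 n12755 = n7442 := (sb E3686 F25319)
theorem F26523 : act 7 n12755 = n7424 := (sb E3686 (iv7 D15833))
theorem F26524 : act 2 n7141 = n3299 := (sb E3687 (iv2 D7155))
theorem E3741 : n14996 = n12392 := (((iv3 F24630)).symm.trans (sb E3687 (iv3 F20623)))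
theorem E3742 : n15039 = n15011 := ((((iv5 F24643)).symm.trans (sb E3687 D15039))).symm
theorem F26525 : act 1 n7139 = n3299 := (sb E3688 (iv0 D7153))
theorem E3744 : n15030 = n15007 := (((D15007).symm.trans (sb E3688 D15030))).symm
theorem F26526 : act 0 n7138 = n3299 := (sb E3689 (iv1 D7154))
theorem E3749 : n15035 = n15005 := (((D15005).symm.trans (sb E3689 D15035))).symm
theorem E3753 : n15041 = n15009 := ((D15041).symm.trans (sb E3690 (iv1 F24886)))
theorem E3754 : n15042 = n7244 := ((D15042).symm.trans (sb E3690 (iv0 D15301)))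
theorem E3755 : n12347 = n7927 := ((D12347).symm.trans (sb E3691 (iv1 F12552)))
theorem E3756 : n12348 = n3333 := ((D12348).symm.trans (sb E3691 F12553))
theorem E3757 : n12349 = n7760 := ((D12349).symm.trans (sb E3691 (iv2 F12060)))
theorem E3758 : n15275 = n2467 := ((((iv3 D5873)).symm.trans (sb E3691 D15275))).symm
theorem F26527 : act 4 n5873 = n3329 := (sb E3691 (iv4 D7235))
theorem E3760 : n12351 = n7639 := ((D12351).symm.trans (sb E3691 (iv6 F11860)))
theorem E3761 : n16017 = n15876 := (((D15876).symm.trans (sb E3693 F25649))).symm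
theorem F26528 : act 6 n7447 = n7532 := (sb E3693 (iv6 D16129))
theorem F26529 : act 3 n6608 = n3491 := (sb E3694 (iv3 D7702))
theorem E3765 : n16577 = n13907 := (((D13907).symm.trans (sb E3694 D16577))).symm
theorem E3766 : n13894 = n12768 := (((iv7 F23164)).symm.trans (sb E3694 (iv7 F21202)))
theorem F26530 : act 2 n7703 = n6714 := (sb E3697 F23608)
theorem F26531 : act 1 n6040 = n6711 := (sb E3698 (iv0 D14117))
theorem F26532 : act 0 n5963 = n7330 := (sb E3699 (iv1 D15531))
theorem F26533 : act 1 n5963 = n7335 := (sb E3699 F25084)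
theorem F26534 : act 2 n7701 = n6711 := (sb E3700 (iv2 D14118))
theorem F26535 : act 4 n5356 = n6711 := (sb E3701 (iv4 D14120))
theorem F26536 : act 6 n7159 = n6711 := (sb E3702 (iv6 D14122))
theorem F26537 : act 7 n6605 = n6711 := (sb E3703 (iv7 D14123))
theorem F26538 : act 1 n11450 = n6714 := (sb E3708 (iv0 D14131))
theorem F26539 : act 0 n5365 = n6714 := (sb E3709 (iv1 D14132))
theorem F26540 : act 0 n14133 = n6936 := (sb E3710 (iv1 D14529))
theorem F26541 : act 1 n14133 = n12774 := (sb E3710 F24168)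
theorem F26542 : act 2 n14133 = n16563 := (sb E3710 F26229)
theorem F26543 : act 5 n14133 = n11488 := (sb E3710 F24169)
theorem F26544 : act 7 n14133 = n16562 := (sb E3710 F26224)
theorem F26545 : act 3 n7711 = n6720 := (sb E3711 F23612)
theorem F26546 : act 7 n7711 = n6714 := (sb E3711 (iv7 D14135))
theorem F26547 : act 1 n6707 = n7157 := (sb E3712 (iv0 D15045))
theorem F26548 : act 0 n8178 = n7157 := (sb E3713 (iv1 D15046))
theorem F26549 : act 2 n12397 = n7157 := (sb E3714 F24678)
theorem F26550 : act 7 n3301 = n7157 := (sb E3715 (iv7 D15048))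
theorem F26551 : act 0 n15047 = n7958 := (sb E3716 (iv1 F24685))
theorem F26552 : act 1 n15047 = n7963 := (sb E3716 F24686)
theorem F26553 : act 2 n15047 = n15417 := (sb E3716 F24972)
theorem F26554 : act 7 n15047 = n7161 := (sb E3716 (iv7 D15055))
theorem F26555 : act 0 n12378 = n7141 := (sb E3717 (iv1 F20603))
theorem F26556 : act 2 n12378 = n7138 := (sb E3717 (iv2 F20599))
theorem F26557 : act 4 n12378 = n6448 := (sb E3717 F20600)
theorem F26558 : act 6 n12378 = n5972 := (sb E3717 F20601)
theorem F26559 : act 7 n12378 = n7139 := (sb E3717 F20602)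
theorem F26560 : act 1 n12379 = n7141 := (sb E3718 F20595)
theorem F26561 : act 2 n12379 = n7139 := (sb E3718 (iv2 F20597))
theorem F26562 : act 4 n12379 = n6449 := (sb E3718 F20596)
theorem F26563 : act 6 n12379 = n5961 := (sb E3718 F26447)
theorem F26564 : act 7 n12379 = n7138 := (sb E3718 (iv7 F20598))
theorem F26565 : act 2 n3286 = n5891 := (sb E3719 (iv2 D12380))
theorem E3767 : n7134 = n7132 := (((iv3 F11448)).symm.trans (sb E3719 F20586))
theorem F26566 : act 6 n2488 = n5891 := (sb E3720 (iv6 D12382))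
theorem F26567 : act 0 n12381 = n7926 := (sb E3721 F20605)
theorem F26568 : act 1 n12381 = n15303 := (sb E3721 F24889)
theorem F26569 : act 2 n12381 = n7140 := (sb E3721 F20604)
theorem E3768 : n7147 = n7125 := ((D7147).symm.trans (sb E3724 F24564))
theorem E3769 : n7123 = n3587 := ((D7123).symm.trans (sb E3725 F12556))
theorem E3770 : n7245 = n7124 := (((D7124).symm.trans (sb E3725 F12557))).symm
theorem F26570 : act 4 n3275 = n3520 := (sb E3725 (iv4 D7761))
theorem F26571 : act 6 n3275 = n6677 := (sb E3725 F12063)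
theorem F26572 : act 3 n6010 = n3458 := (sb E3726 (iv3 D7620))
theorem E3774 : n16433 = n12677 := ((((iv4 F21085)).symm.trans (sb E3726 D16433))).symm
theorem E3775 : n16434 = n12682 := (((D12682).symm.trans (sb E3726 D16434))).symm
theorem E3776 : n12744 = n12683 := (((D12683).symm.trans (sb E3726 (iv7 F21149)))).symm
theorem E3777 : n12640 = n2534 := ((D12640).symm.trans (sb E3727 (iv1 F9335)))
theorem E3778 : n12641 = n2532 := ((D12641).symm.trans (sb E3727 (iv0 D6011)))
theorem F26573 : act 3 n6001 = n11435 := (sb E3727 (iv3 F26432))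
theorem E3780 : n12686 = n12643 := (((D12643).symm.trans (sb E3727 D12686))).symm
theorem F26574 : act 2 n6071 = n3673 := (sb E3728 (iv2 D8156))
theorem E3784 : n12837 = n3674 := ((F21296).symm.trans (sb E3728 (iv7 F12924)))
theorem F26575 : act 7 n6070 = n3673 := (sb E3729 (iv7 D8161))
theorem F26576 : act 2 n7330 = n7419 := (sb E3730 F25310)
theorem F26577 : act 7 n7330 = n7418 := (sb E3730 (iv7 D15807))
theorem F26578 : act 2 n7335 = n7418 := (sb E3731 (iv2 D15802))
theorem F26579 : act 7 n7335 = n7419 := (sb E3731 (iv7 F25309))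
theorem F26580 : act 0 n7268 = n3340 := (sb E3732 (iv1 D7269))
theorem E3785 : n15390 = n15385 := (((D15385).symm.trans (sb E3732 (iv2 F24960)))).symm
theorem F26581 : act 3 n3277 = n6677 := (sb E3736 (iv3 D14045))
theorem E3790 : n13827 = n3504 := ((((iv7 F5506)).symm.trans (sb E3736 F23438))).symm
theorem F26582 : act 3 n13883 = n7129 := (sb E3737 F24620)
theorem F26583 : act 3 n7227 = n3680 := (sb E3739 F12929)
theorem E3791 : n15261 = n12851 := ((D15261).symm.trans (sb E3739 (iv6 F21303)))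
theorem E3792 : n15252 = n3676 := ((F24852).symm.trans (sb E3739 (iv7 D8170)))
theorem F26584 : act 3 n8174 = n3912 := (sb E3740 (iv3 D8752))
theorem F26585 : act 3 n12392 = n7141 := (sb E3741 F24630)
theorem F26586 : act 2 n15011 = n7156 := (sb E3742 F24677)
theorem E3793 : n15942 = n15073 := ((F26510).symm.trans (sb E3744 F24698))
theorem F26587 : act 4 n15005 = n15140 := (sb E3749 (iv4 F24753))
theorem F26588 : act 1 n15009 = n7156 := (sb E3753 (iv0 D15041))
theorem F26589 : act 0 n7244 = n7156 := (sb E3754 (iv1 D15042))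
theorem F26590 : act 1 n7927 = n5873 := (sb E3755 (iv0 D12347))
theorem F26591 : act 0 n3333 = n5873 := (sb E3756 (iv1 D12348))
theorem F26592 : act 2 n7760 = n5873 := (sb E3757 (iv2 D12349))
theorem F26593 : act 3 n7760 = n7082 := (sb E3757 F20510)
theorem E3794 : n16474 = n5875 := (((D5875).symm.trans (sb E3758 (iv6 F25972)))).symm
theorem F26594 : act 6 n7639 = n5873 := (sb E3760 (iv6 D12351))
theorem F26595 : act 3 n15876 = n7495 := (sb E3761 F25507)
theorem F26596 : act 6 n15876 = n7492 := (sb E3761 (iv6 D16017))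
theorem F26597 : act 3 n13907 = n7703 := (sb E3765 F26247)
theorem F26598 : act 0 n12768 = n6607 := (sb E3766 (iv1 F23165))
theorem F26599 : act 1 n12768 = n6606 := (sb E3766 (iv0 D13894))
theorem F26600 : act 2 n12768 = n6610 := (sb E3766 (iv2 F23162))
theorem F26601 : act 7 n12768 = n6608 := (sb E3766 F23164)
theorem E3797 : n14988 = n3284 := ((((iv2 D7132)).symm.trans (sb E3767 (iv2 F24626)))).symm
theorem F26602 : act 3 n7132 = n3286 := (sb E3767 F11448)
theorem E3798 : n14995 = n14987 := (((D14987).symm.trans (sb E3767 D14995))).symm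
theorem F26603 : act 0 n7125 = n3333 := (sb E3768 F12550)
theorem F26604 : act 1 n7125 = n7927 := (sb E3768 F12551)
theorem E3799 : n15019 = n12371 := ((((iv3 F20562)).symm.trans (sb E3768 D15019))).symm
theorem F26605 : act 4 n7125 = n3292 := (sb E3768 (iv4 D7147))
theorem F26606 : act 6 n7125 = n6576 := (sb E3768 F11462)
theorem F26607 : act 7 n7125 = n7760 := (sb E3768 (iv7 F12061))
theorem F26608 : act 1 n3587 = n3275 := (sb E3769 (iv0 D7123))
theorem E3801 : n14954 = n3333 := (((F5624).symm.trans (sb E3769 D14954))).symm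
theorem E3806 : n14959 = n7927 := (((D7927).symm.trans (sb E3769 D14959))).symm
theorem F26609 : act 1 n7124 = n7760 := (sb E3770 (iv0 F12554))
theorem E3807 : n15296 = n14960 := (((D14960).symm.trans (sb E3770 (iv3 F24879)))).symm
theorem E3808 : n14961 = n5367 := ((D14961).symm.trans (sb E3770 F11562))
theorem E3809 : n15303 = n14962 := (((D14962).symm.trans (sb E3770 (iv5 F24888)))).symm
theorem E3810 : n14963 = n5366 := ((D14963).symm.trans (sb E3770 F11563))
theorem F26610 : act 3 n12677 = n13684 := (sb E3774 F25910)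
theorem F26611 : act 3 n12682 = n7622 := (sb E3775 F25911)
theorem F26612 : act 3 n12683 = n6026 := (sb E3776 (iv3 D12744))
theorem F26613 : act 6 n12683 = n11499 := (sb E3776 F21148)
theorem E3811 : n6012 = n6006 := (((iv1 F9336)).symm.trans (sb E3777 (iv1 F21052)))
theorem F26614 : act 1 n2534 = n6001 := (sb E3777 (iv0 D12640))
theorem F26615 : act 0 n2532 = n6001 := (sb E3778 (iv1 D12641))
theorem F26616 : act 1 n12643 = n15666 := (sb E3780 (iv0 F25160))
theorem F26617 : act 3 n12643 = n11212 := (sb E3780 (iv3 F21087))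
theorem F26618 : act 2 n3674 = n6070 := (sb E3784 (iv2 D12837))
theorem F26619 : act 7 n3674 = n6071 := (sb E3784 (iv7 F21296))
theorem F26620 : act 7 n15385 = n7268 := (sb E3785 (iv7 D15390))
theorem F26621 : act 3 n3504 = n6575 := (sb E3790 (iv3 D13827))
theorem F26622 : act 6 n12851 = n7227 := (sb E3791 (iv6 D15261))
theorem E3812 : n8166 = n7226 := (((iv2 F12927)).symm.trans (sb E3792 (iv2 D15252)))
theorem E3813 : n8746 = n8169 := (((D8169).symm.trans (sb E3792 (iv5 F25984)))).symm
theorem F26623 : act 7 n3676 = n7227 := (sb E3792 (iv7 F24852))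
theorem F26624 : act 4 n15073 = n15007 := (sb E3793 (iv4 F26510))
theorem F26625 : act 6 n15073 = n7469 := (sb E3793 (iv6 D15942))
theorem F26626 : act 3 n5875 = n7639 := (sb E3794 (iv3 D16474))
theorem F26627 : act 6 n3284 = n7132 := (sb E3797 (iv6 D14988))
theorem F26628 : act 3 n14987 = n7140 := (sb E3798 F24629)
theorem F26629 : act 6 n12371 = n13829 := (sb E3799 F24659)
theorem F26630 : act 7 n3333 = n7124 := (sb E3801 (iv7 F24615))
theorem F26631 : act 2 n7927 = n7124 := (sb E3806 F24616)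
theorem F26632 : act 6 n14960 = n11504 := (sb E3807 F24880)
theorem F26633 : act 7 n14960 = n7240 := (sb E3807 (iv7 D15296))
theorem F26634 : act 4 n5367 = n7124 := (sb E3808 (iv4 D14961))
theorem F26635 : act 0 n14962 = n12381 := (sb E3809 (iv1 F26568))
theorem F26636 : act 1 n14962 = n15011 := (sb E3809 F24890)
theorem F26637 : act 2 n14962 = n15009 := (sb E3809 F24887)
theorem F26638 : act 7 n14962 = n7244 := (sb E3809 (iv7 D15303))
theorem F26639 : act 6 n5366 = n7124 := (sb E3810 (iv6 D14963))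
theorem F26640 : act 0 n6006 = n2532 := (sb E3811 (iv1 D6012))
theorem F26641 : act 1 n6006 = n2534 := (sb E3811 F9336)
theorem E3814 : n12690 = n12652 := ((((iv3 F21065)).symm.trans (sb E3811 D12690))).symm
theorem E3815 : n12691 = n12658 := ((((iv4 F21072)).symm.trans (sb E3811 D12691))).symm
theorem F26642 : act 2 n7226 = n3676 := (sb E3812 F12927)
theorem E3818 : n15253 = n12935 := ((D15253).symm.trans (sb E3812 (iv3 F21491)))
theorem E3819 : n15256 = n3675 := ((D15256).symm.trans (sb E3812 (iv6 D8166)))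
theorem F26643 : act 2 n8169 = n3911 := (sb E3813 (iv2 D8746))
theorem F26644 : act 7 n8169 = n3912 := (sb E3813 (iv7 F13642))
theorem F26645 : act 0 n12652 = n7461 := (sb E3814 F25573)
theorem F26646 : act 1 n12652 = n15655 := (sb E3814 (iv0 F25152))
theorem F26647 : act 4 n12652 = n11134 := (sb E3814 F21089)
theorem F26648 : act 0 n12658 = n15666 := (sb E3815 F25159)
theorem F26649 : act 1 n12935 = n15339 := (sb E3818 (iv0 F24918))
theorem F26650 : act 3 n12935 = n7226 := (sb E3818 (iv3 D15253))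
theorem F26651 : act 4 n12935 = n15316 := (sb E3818 F24896)
theorem F26652 : act 5 n12935 = n8747 := (sb E3818 (iv5 F25985))
theorem F26653 : act 6 n3675 = n7226 := (sb E3819 (iv6 D15256))
theorem F26654 : act 6 n15254 = n8146 := d10_2 F26653 D15254 F12915
theorem F26655 : act 5 n8750 = n16354 := d12_3 F26653 F25983 D8750 (iv6 D16354) F11831
theorem F26656 : act 2 n16361 = n8750 := d2_3 F26655 F25858 D16361
theorem F26657 : act 2 n8148 = n15254 := d3_3 F26654 (iv2 D8146) D8148
theorem F26658 : act 2 n8747 = n12938 := d2_1 F26652 (iv5 D12938) (iv2 F21490)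
theorem F26659 : act 2 n15316 = n12920 := d1_1 F26651 F21476 (iv2 F21490)
theorem F26660 : act 6 n15316 = n12918 := d10_2 D12935 F26651 F21469
theorem F26661 : act 1 n15339 = n12939 := d15_1 F26649 (iv7 D12939) (iv2 F21490)
theorem F26662 : act 7 n11134 = n12649 := d11_2 D12652 F26647 (iv4 D12649)
theorem F26663 : act 2 n12649 = n11133 := d15_3 (iv0 D11133) D11134 F26662
theorem E3820 : n15914 = n12648 := (c1_3 D12649 F26663 F25578 (iv2 D12648))
theorem F26664 : act 0 n12648 = n15655 := (sb E3820 (iv1 F25575))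
theorem F26665 : act 1 n12648 = n7461 := (sb E3820 (iv0 D15914))
theorem F26666 : act 4 n12648 = n11133 := (sb E3820 (iv4 F25578))
theorem F26667 : act 3 n12648 = n11498 := d20_9 (iv4 D12493) F26293 F5388 (iv3 D1497) (iv1 F1940) D2109 (iv4 F7576) D11133 (iv4 F26666) (iv1 F20819)
theorem F26668 : act 6 n11497 = n12648 := d7_0 F26667 (iv6 D11498) D11497
theorem F26669 : act 2 n12651 = n11497 := d3_3 F26668 (iv2 D12648) D12651
theorem E3821 : n12645 = n11433 := ((c0_5 (iv3 F21064) F26669 (iv3 D11497) F8156 D11433 F21059)).symm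
theorem F26670 : act 2 n11433 = n6005 := (sb E3821 F21059)
theorem F26671 : act 6 n11433 = n6001 := (sb E3821 (iv6 D12645))
theorem F26672 : act 2 n12667 = n11499 := d4_3 F18802 F26670 D12667
theorem F26673 : act 1 n12665 = n11499 := d15_1 D12665 F18802 F26670
theorem E3822 : n12665 = n6702 := (c20_5 (iv4 F26535) (iv1 F8148) D5360 D11499 (iv1 F26673) (iv3 D6702) (iv4 D3017) (iv1 D1355) D1356 D3021 D6711)
theorem E3823 : n14096 = n6005 := ((D14096).symm.trans (sb E3822 (iv1 D12665)))
theorem E3824 : n14097 = n11499 := ((D14097).symm.trans (sb E3822 F26673))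
theorem E3825 : n13865 = n12664 := (((D12664).symm.trans (sb E3823 (iv1 F23558)))).symm
theorem F26674 : act 1 n6005 = n6702 := (sb E3823 (iv0 D14096))
theorem F26675 : act 0 n11499 = n6702 := (sb E3824 (iv1 D14097))
theorem F26676 : act 1 n11499 = n12664 := (sb E3824 (tr F23562 E3825))
theorem F26677 : act 2 n12664 = n6594 := (sb E3825 (iv2 D13865))
theorem F26678 : act 3 n12664 = n14088 := (sb E3825 (iv3 F23535))
theorem F26679 : act 7 n12664 = n14098 := (sb E3825 (iv7 F23560))
theorem E3826 : n15008 = n14966 := ((c21_2 D7126 D14966 (iv5 D15008) F26423 (iv1 F9260) (iv6 F26438) D7703 (iv1 F18826) F18824 F26639 (iv1 D7124))).symm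
theorem F26681 : act 5 n14966 = n7139 := (sb E3826 (iv5 D15008))
theorem F26682 : act 0 n7717 = n14121 := d21_1 D7717 (iv5 D14121) (iv6 F26536) (iv1 F20641) F20639 (iv5 F24643) (iv1 F26636) (iv5 D14962) (iv6 F26639) (iv1 F8176)
theorem F26683 : act 2 n14906 = n14121 := d15_3 (iv0 F26682) (iv0 F23598) (iv7 F24550)
theorem F26684 : act 1 n7713 = n14121 := d15_0 (iv0 F26682) F12010 (iv2 F11995)
theorem F26685 : act 7 n14121 = n13893 := d15_2 F23599 F26684 (iv2 F23597)
theorem F26686 : act 2 n13829 = n7712 := d3_1 F26629 F11993 D12371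
theorem F26687 : act 7 n16460 = n14880 := d14_4 (iv7 F20564) F26629 (iv7 F23437) (iv6 F25950) (iv6 D14880)
theorem F26688 : act 2 n14888 = n16460 := d4_3 F26687 F24525 D14888
theorem F26689 : act 3 n14880 = n12760 := d8_1 F26687 F21193 D16460
theorem F26690 : act 1 n14886 = n16460 := d15_1 D14886 F26687 F24525
theorem F26691 : act 3 n12756 = n7718 := d0_4 (iv3 F24529) F26688 (iv3 D16460) (iv2 F21178) F12011
theorem E3827 : n14904 = n14044 := ((c3_3 (iv6 F24531) F26688 F25950 (iv2 D14904))).symm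
theorem F26692 : act 2 n14044 = n7097 := (sb E3827 (iv2 D14904))
theorem F26693 : act 1 n16460 = n14885 := d15_0 (iv0 D14885) D14888 F26688
theorem F26694 : act 1 n14903 = n13829 := d15_1 D14903 (iv7 F23437) F26692
theorem F26695 : act 4 n7715 = n12753 := d5_4 D12756 F26691 F12012 (iv3 F12001) F21170
theorem F26696 : act 1 n13829 = n14902 := d15_0 (iv0 D14902) (iv7 F11994) (iv2 F26686)
theorem F26697 : act 3 n16475 = n12354 := d6_3 (iv5 D12354) F26626 D16475
theorem F26698 : act 7 n15259 = n8148 := d11_2 F26623 D15259 F12918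
theorem F26699 : act 1 n15257 = n8167 := d15_0 (iv0 D8167) F26623 (iv2 F24853)
theorem F26700 : act 3 n8153 = n15259 := d8_3 F26698 F12917 D8153
theorem F26701 : act 3 n8179 = n12917 := d20_9 F9522 D6128 D12927 (iv3 F24928) F24930 (iv3 F26700) F12920 (iv1 F8886) D8179 (iv1 D12917)
theorem F26702 : act 0 n12920 = n15313 := d20_4 (iv4 F20117) (iv1 D6126) (iv4 F9528) (iv3 F21475) F24894 F21195 (iv1 F11550) D15259 (iv3 F26700) (iv1 F20114)
theorem E3828 : n15540 = n15284 := ((c20_1 D15284 (iv1 D15540) (iv4 F26487) (iv3 D12523) F10676 (iv3 F9538) (iv4 F21476) F26702 (iv4 D15313) (iv3 F11862) (iv1 F11867))).symm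
theorem F26703 : act 0 n15284 = n7333 := (sb E3828 (iv1 D15540))
theorem F26704 : act 1 n12920 = n7894 := d15_1 (iv0 F26702) F12500 (iv2 F24893)
theorem F26705 : act 0 n15543 = n13604 := d17_2 F26703 D15543 (iv5 D13604) (iv4 D6477) D6478 (iv0 F25733) (iv5 D7239) D7237 D15284
theorem E3829 : n15518 = n15283 := (c20_5 F4140 D2585 F26399 D7328 D15518 (iv3 D15283) D15284 F26703 (iv4 F26487) (iv3 D12523) F10676)
theorem F26706 : act 1 n15283 = n7328 := (sb E3829 (iv0 D15518))
theorem F26707 : act 6 n12917 = n14866 := d7_2 F22700 F26701 F24520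
theorem F26708 : act 7 n12917 = n7898 := d8_2 (iv7 F12948) F26701 F26479
theorem F26709 : act 2 n7898 = n12916 := d15_3 (iv0 D12916) D12917 F26708
theorem F26710 : act 2 n12917 = n7897 := d15_3 (iv0 D7897) D7898 (iv7 F26708)
theorem F26711 : act 2 n8163 = n12839 := d0_3 F26701 F26710 F12926 F26471 (iv2 F12947)
theorem F26712 : act 7 n7897 = n12916 := d4_2 (iv7 F26708) F26710 (iv2 F26709)
theorem F26713 : act 7 n12844 = n8163 := d8_2 F26712 F21465 (iv3 F12926)
theorem F26714 : act 4 n12916 = n15520 := d1_2 F12506 F26709 (iv2 D15520)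
theorem F26715 : act 3 n13828 = n7717 := d6_3 (iv5 D7717) F26621 D13828
theorem F26716 : act 0 n14047 = n12773 := d20_4 (iv4 D6394) F8673 (iv4 F10870) D14047 F21206 F9405 (iv1 F4058) D3504 F26621 F10638
theorem F26717 : act 4 n7724 = n14049 := d20_0 (iv1 D14049) (iv4 F22377) (iv3 D13446) (iv1 F10639) (iv3 F26621) (iv4 D3504) (iv1 D1547) D1548 D3508 D7724
theorem E3830 : n13837 = n11438 := ((c20_4 (iv4 D2186) D2184 D5328 D11438 (iv1 D13837) (iv3 D6579) (iv4 D2935) D2933 D6575 (iv3 F26621) F5507)).symm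
theorem F26718 : act 0 n11438 = n6579 := (sb E3830 (iv1 D13837))
theorem F26719 : act 1 n11438 = n14081 := (sb E3830 F23527)
theorem F26720 : act 2 n7721 = n13836 := d15_3 (iv0 D13836) (iv0 F26718) F18701
theorem F26721 : act 3 n13853 = n7724 := d20_5 (iv4 D6575) (iv1 F4538) D2946 D6589 D13853 F26717 (iv1 D14049) (iv4 F22377) (iv3 D13446) (iv1 F10639)
theorem F26722 : act 7 n12843 = n8162 := d8_2 F26619 D12843 (iv3 D8162)
theorem F26723 : act 7 n12845 = n8164 := d13_2 F26619 D12845 (iv5 D8164)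
theorem F26724 : act 2 n12523 = n8162 := d0_5 (iv3 D8162) F26618 F26398 (iv2 F9249) D12523
theorem F26725 : act 2 n12840 = n8164 := d2_3 (iv5 D8164) F26618 D12840
theorem F26726 : act 2 n12345 = n8165 := d3_3 (iv6 D8165) F26618 (iv6 F26473)
theorem F26727 : act 3 n8165 = n14855 := d0_2 D12345 F26726 (iv2 D14855) (iv3 D7074) (iv2 F9064)
theorem F26728 : act 7 n8165 = n14850 := d4_2 (iv7 F20505) F26726 (iv2 D14850)
theorem F26729 : act 1 n8165 = n14848 := d15_0 (iv0 D14848) (iv7 F20505) F26726
theorem E3831 : n14081 = n12846 := (c14_3 F26728 F24514 (iv7 F23524) (iv6 D12846) (iv7 F26619) D8165)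
theorem F26730 : act 0 n12846 = n11438 := (sb E3831 (iv1 F26719))
theorem F26731 : act 1 n12846 = n13836 := (sb E3831 F23525)
theorem F26732 : act 2 n12846 = n6694 := (sb E3831 (iv2 D14081))
theorem F26733 : act 3 n12846 = n13855 := (sb E3831 F23523)
theorem F26734 : act 7 n12846 = n13838 := (sb E3831 F23524)
theorem F26735 : act 1 n14849 = n8165 := d15_1 D14849 F26728 (iv2 D14850)
theorem E3832 : n15631 = n12843 := (c7_3 D12846 F26733 (iv6 F25128) (iv3 D12843))
theorem F26736 : act 2 n12843 = n7359 := (sb E3832 (iv2 D15631))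
theorem F26737 : act 6 n12843 = n13855 := (sb E3832 F25128)
theorem F26738 : act 1 n15630 = n8162 := d15_1 D15630 (iv7 F26722) F26736
theorem F26739 : act 1 n12843 = n7743 := d15_0 (iv0 F26485) F20868 (iv2 F26736)
theorem F26740 : act 5 n16119 = n12843 := d17_7 (iv1 D3513) D3515 F25746 F11779 (iv4 F11775) (iv5 F25679) F25682 F26739 (iv4 D7743)
theorem F26741 : act 2 n15632 = n16119 := d2_3 F26740 F26736 D15632
theorem F26742 : act 3 n12845 = n16119 := d6_3 F26740 (iv3 D12843) D12845
theorem F26743 : act 7 n16120 = n15632 := d15_2 (iv0 D16119) D16120 F26741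
theorem F26744 : act 3 n12524 = n16120 := d8_3 F26743 F25129 (iv7 F20870)
theorem F26745 : act 4 n15812 = n12524 := d20_2 D7420 D15812 F26744 (iv1 D16120) F11767 D7540 D16155 F25739 (iv3 D15808) (iv1 D7419)
theorem F26746 : act 2 n15644 = n15812 := d1_3 F26745 F20869 D15644
theorem F26747 : act 7 n15635 = n15812 := d11_0 F26745 F20870 D15635
theorem F26748 : act 5 n15435 = n15812 := d16_1 (iv4 F24982) F26745 (iv5 D12524) (iv4 D5957) (iv5 F4725) (iv4 F10915) (iv5 F12576) F21306 (iv2 F21305)
theorem F26749 : act 7 n15813 = n15644 := d15_2 (iv0 D15812) D15813 F26746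
theorem F26750 : act 5 n15436 = n15813 := d16_7 F26745 (iv5 D12524) (iv4 D5957) (iv5 F4725) (iv4 F10915) (iv5 F12576) (iv4 F24983) F26749 F26746
theorem F26751 : act 2 n15813 = n15635 := d4_3 F26747 (iv2 F26746) (iv7 F26749)
theorem F26752 : act 4 n12522 = n15813 := d1_0 F26751 (iv4 D15635) (iv2 F20864)
theorem F26753 : act 3 n12593 = n12522 := d20_5 F5385 F2776 (iv4 F4015) (iv3 F9296) D12593 F26752 (iv1 D15813) (iv4 D7420) F5398 (iv1 F5382)
theorem F26754 : act 2 n12845 = n12593 := d0_5 F26753 F20864 (iv3 F25129) F26741 (iv3 F26742)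
theorem E3833 : n12593 = n8159 := ((c6_1 D8159 F26753 (iv5 D12522) (iv3 F26413))).symm
theorem F26755 : act 0 n8159 = n7497 := (sb E3833 (iv1 F20973))
theorem F26756 : act 1 n8159 = n5984 := (sb E3833 (iv0 D12593))
theorem F26757 : act 2 n8159 = n12845 := (sb E3833 (iv2 F26754))
theorem F26758 : act 3 n8159 = n12522 := (sb E3833 F26753)
theorem F26759 : act 7 n12840 = n8159 := d8_0 F26758 F20865 (iv3 F26472)
theorem E3834 : n12594 = n8164 := ((c15_4 F20974 (iv0 F26755) (iv7 F26759) F26725)).symm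
theorem F26760 : act 0 n8164 = n5984 := (sb E3834 (iv1 D12594))
theorem F26761 : act 1 n8164 = n7497 := (sb E3834 F20974)
theorem F26762 : act 5 n15804 = n15430 := d18_4 (iv1 D15813) (iv4 D7420) D7418 D15804 (iv4 D15430) (iv0 D7283) D7285 D15436 F26750
theorem F26763 : act 5 n15809 = n15433 := d9_8 F26762 (iv4 D15430) (iv5 F12943) (iv4 D8178) (iv5 D3684) D3683 F26514 D15809 (iv4 D15433) F11589 F10935 (iv5 D3688) D3687 F26513 D15804
theorem F26764 : act 6 n14855 = n8162 := d7_2 D8165 F26727 (iv3 D8162)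
theorem F26765 : act 4 n8162 = n15541 := d1_2 (iv4 F26487) F26724 (iv2 D15541)
theorem F26766 : act 1 n8162 = n15629 := d15_0 (iv0 D15629) (iv7 F20868) F26724
theorem F26767 : act 1 n7738 = n12843 := d15_1 F26486 F26722 (iv2 F26724)
theorem F26768 : act 0 n16478 = n15541 := d20_1 D16478 (iv4 F26765) (iv3 D8162) (iv1 D3674) (iv3 D1616) (iv4 D869) (iv1 F1574) D1527 D3466 D7640
theorem F26769 : act 1 n16478 = n8175 := d15_1 (iv0 F26768) F26476 D15541
theorem E3835 : n12783 = n1617 := (c20_6 (iv4 D16478) (iv1 F11861) (iv4 F12044) F12043 (iv1 F11551) D12783 F2801 D1618 D3683 D8175 (iv1 F26769))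
theorem E3836 : n6045 = n3676 := ((((iv3 F5699)).symm.trans (sb E3835 (iv3 D12783)))).symm
theorem E3837 : n8167 = n2553 := ((D8167).symm.trans (sb E3836 (iv1 D6045)))
theorem E3838 : n8168 = n7228 := ((D8168).symm.trans (sb E3836 F11551))
theorem E3844 : n15257 = n6044 := (((D6044).symm.trans (sb E3837 (iv1 F26699)))).symm
theorem F26770 : act 1 n2553 = n3676 := (sb E3837 (iv0 D8167))
theorem F26771 : act 0 n7228 = n3676 := (sb E3838 (iv1 D8168))
theorem F26772 : act 2 n6044 = n7227 := (sb E3844 F24853)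
theorem E3845 : n12780 = n8751 := ((D12780).symm.trans (sb E3844 (iv5 F25986)))
theorem F26773 : act 7 n6044 = n7226 := (sb E3844 (iv7 D15257))
theorem F26774 : act 5 n8751 = n6044 := (sb E3845 (iv5 D12780))
theorem F26775 : act 7 n12935 = n12778 := d8_2 F26773 (iv3 F26650) (iv3 D12778)
theorem F26776 : act 7 n15254 = n12779 := d11_2 F26773 D15254 (iv4 D12779)
theorem F26777 : act 7 n12847 = n12781 := d14_4 F26773 (iv6 F26653) (iv7 F9440) D12847 (iv6 D12781)
theorem F26778 : act 2 n12781 = n12851 := d4_1 F26777 (iv7 D12851) (iv2 F21299)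
theorem F26779 : act 1 n12849 = n12781 := d15_1 D12849 (iv7 F26777) F21299
theorem F26780 : act 1 n12781 = n12848 := d15_0 (iv0 D12848) D12851 (iv2 F26778)
theorem F26781 : act 2 n12779 = n15259 := d4_1 F26776 F26698 F26657
theorem F26782 : act 2 n12778 = n12939 := d4_1 F26775 (iv7 D12939) (iv2 F21490)
theorem F26783 : act 1 n12937 = n12778 := d15_1 D12937 (iv7 F26775) F21490
theorem F26784 : act 1 n12778 = n12936 := d15_0 (iv0 D12936) D12939 (iv2 F26782)
theorem F26785 : act 4 n11212 = n11432 := d5_2 D12643 F26617 F18685 (iv4 F18692) (iv3 F26573)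
theorem F26786 : act 7 n11212 = n12675 := d8_2 (iv7 F21056) F26617 (iv3 D12675)
theorem F26787 : act 4 n12675 = n13686 := d11_1 F26786 F22846 (iv4 F26785)
theorem F26788 : act 6 n13684 = n12675 := d10_0 F26787 (iv6 D13686) D13684
theorem F26789 : act 5 n7883 = n13406 := d18_4 (iv1 D5761) (iv4 F8872) D12148 F20150 F22296 F21084 F26787 F22848 (iv5 D12152)
theorem F26790 : act 6 n13406 = n13548 := d21_3 F7685 D7883 F26789 (iv1 D13548) (iv6 D6447) F10327 (iv1 F18327) F18324 F26354 (iv1 F26346)
theorem F26791 : act 2 n13548 = n13403 := d3_1 F26790 F22294 D13406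
theorem F26792 : act 3 n13548 = n13548 := d7_1 F26790 (iv6 F26790) F22295
theorem F26793 : act 6 n11212 = n11431 := d14_3 (iv7 F22837) F26788 (iv7 F26786) F18683 (iv6 F20220)
theorem E3846 : n15885 = n12683 := ((c20_4 F5594 D3568 F12025 (iv3 F26612) (iv1 D15885) (iv3 D7453) (iv4 D3409) (iv1 D1501) (iv4 F2616) (iv3 F5399) (iv1 F26425))).symm
theorem F26794 : act 0 n12683 = n7453 := (sb E3846 (iv1 D15885))
theorem E3847 : n15884 = n12668 := ((c15_4 (iv0 D15884) (iv0 F26794) (iv7 D12683) (iv2 F21077))).symm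
theorem F26795 : act 1 n12668 = n7453 := (sb E3847 (iv0 D15884))
theorem E3848 : n15267 = n14849 := (c20_4 F5625 D3588 F12535 D15267 (iv1 D14849) (iv3 D7072) (iv4 D3226) F2558 D1449 D3275 (iv1 F26608))
theorem F26796 : act 3 n14849 = n7230 := (sb E3848 (iv3 D15267))
theorem E3849 : n15135 = n15017 := (c20_5 (iv4 F24693) F24794 (iv4 F24791) F24789 (iv1 F24800) (iv3 D15017) (iv4 D7146) (iv1 D3291) (iv4 F5225) (iv3 F26602) (iv1 F20627))
theorem F26797 : act 0 n15017 = n7191 := (sb E3849 (iv1 D15135))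
theorem F26798 : act 1 n15017 = n15145 := (sb E3849 F24800)
theorem E3850 : n16451 = n12564 := ((c3_3 (iv6 F21201) F26600 (iv6 F20924) (iv2 D16451))).symm
theorem F26799 : act 2 n12564 = n7629 := (sb E3850 (iv2 D16451))
theorem E3851 : n16450 = n12561 := (c15_1 D16450 (iv0 D12561) D12564 F26799)
theorem F26800 : act 0 n12561 = n7629 := (sb E3851 (iv1 D16450))
theorem E3852 : n12585 = n12577 := (c0_2 F26595 (iv2 F25462) (iv3 D12577) (iv2 F11367) D7447 D15876)
theorem F26801 : act 2 n12577 = n7495 := (sb E3852 F25462)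
theorem F26802 : act 6 n12577 = n5981 := (sb E3852 (iv6 D12585))
theorem E3853 : n16015 = n15015 := (c14_5 (iv7 F20956) F26802 (iv7 F25441) D7490 D16015 F24657)
theorem F26803 : act 7 n15015 = n7490 := (sb E3853 (iv7 D16015))
theorem E3854 : n16025 = n15886 := (c4_3 (iv7 F20956) F26801 D16025 (iv2 D15886))
theorem F26804 : act 7 n15886 = n7495 := (sb E3854 (iv7 D16025))
theorem E3855 : n16023 = n12668 := (c15_1 D16023 F26795 (iv7 F20956) F26801)
theorem F26805 : act 0 n12668 = n7495 := (sb E3855 (iv1 D16023))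
theorem E3856 : n16022 = n12683 := ((c15_1 (iv0 F26794) (iv0 D16022) (iv7 F26804) (iv2 D15886))).symm
theorem F26806 : act 1 n12683 = n7495 := (sb E3856 (iv0 D16022))
theorem F26807 : act 3 n15140 = n12388 := d5_1 F26587 (iv4 D12388) F12648 (iv4 F20526) D15005
theorem F26808 : act 6 n15140 = n12579 := d10_2 (iv6 F24640) F26587 F20959
theorem F26809 : act 7 n16118 = n15140 := d14_0 F26808 F20960 F26528 (iv7 F25466) D16118
theorem E3857 : n16118 = n15017 := ((c8_4 F26809 F26807 F20613 D15017)).symm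
theorem F26810 : act 2 n15017 = n16132 := (sb E3857 (iv2 F25666))
theorem F26811 : act 6 n15017 = n7527 := (sb E3857 (iv6 D16118))
theorem F26812 : act 7 n15017 = n15140 := (sb E3857 F26809)
theorem F26813 : act 2 n15140 = n15134 := d15_3 (iv0 D15134) (iv0 F26797) F26812
theorem F26814 : act 7 n16132 = n15134 := d4_2 (iv7 F26812) F26810 (iv2 F26813)
theorem E3858 : n16132 = n15141 := (c15_4 F24754 F24759 (iv7 F26812) F26810)
theorem F26815 : act 2 n15141 = n15017 := (sb E3858 (iv2 F26810))
theorem F26816 : act 3 n15141 = n12590 := (sb E3858 F25667)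
theorem F26817 : act 6 n15141 = n7533 := (sb E3858 (iv6 D16132))
theorem F26818 : act 7 n15141 = n15134 := (sb E3858 F26814)
theorem F26819 : act 3 n15080 = n14979 := d20_5 F26562 (iv1 D6449) (iv4 F5299) (iv3 F11500) D15080 (iv4 D14979) (iv1 F20626) F20624 F26585 (iv1 F26560)
theorem E3859 : n15351 = n15278 := ((c20_10 D15353 F24930 (iv4 D15259) F26583 (iv1 F10677) D12523 F26487 F25083 (iv4 D15279) D15278 (iv1 D15351))).symm
theorem F26820 : act 0 n15278 = n7258 := (sb E3859 (iv1 D15351))
theorem F26821 : act 4 n14048 = n7725 := d20_0 (iv1 D7725) (iv4 F8171) (iv3 D5364) (iv1 F5501) F26581 (iv4 D6677) (iv1 D3000) D3001 D6680 D14048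
theorem E3860 : n13831 = n12770 := (c20_4 (iv4 D6391) F8164 (iv4 F10642) D13831 (iv1 D12770) (iv3 D6041) (iv4 D2551) F2569 (iv4 F5214) F26581 F10862)
theorem F26822 : act 3 n12770 = n6577 := (sb E3860 (iv3 D13831))
theorem F26823 : act 7 n12770 = n14047 := (sb E3860 (iv7 F23440))
theorem E3861 : n14080 = n7721 := ((c20_4 F8101 (iv1 F3567) (iv4 F5516) D7721 (iv1 D14080) (iv3 D6694) (iv4 D3011) (iv1 F4697) D6677 (iv3 F26581) (iv1 F8103))).symm
theorem F26824 : act 0 n7721 = n6694 := (sb E3861 (iv1 D14080))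
theorem F26825 : act 1 n7721 = n13838 := (sb E3861 F23526)
theorem F26826 : act 7 n14079 = n13836 := d15_2 F26825 F23522 (iv2 F26720)
theorem F26827 : act 2 n11438 = n14079 := d4_3 F26826 (iv2 F26720) (iv7 F18701)
theorem F26828 : act 6 n14079 = n13546 := d3_2 (iv6 F18700) F26827 (iv2 D13546)
theorem F26829 : act 2 n14047 = n12769 := d15_3 (iv0 D12769) D12770 F26823
theorem F26830 : act 7 n15808 = n15543 := d8_2 F26579 D15808 F25090
theorem F26831 : act 7 n15809 = n15547 := d11_2 F26579 D15809 (iv4 D15547)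
theorem F26832 : act 2 n15547 = n15804 := d16_9 (iv4 D15804) (iv5 F26513) (iv4 D3687) D3688 (iv4 F10935) (iv5 F11589) D15433 (iv5 F26763) F26831
theorem F26833 : act 5 n8175 = n15808 := d13_3 F26830 (iv5 D15543) (iv7 F26476)
theorem F26834 : act 4 n7747 = n15630 := d18_1 (iv1 F12051) (iv1 D15630) (iv4 F12931) F26833 (iv4 F25739) (iv0 D16155) (iv4 D7540) F25723 F9420
theorem F26835 : act 3 n15630 = n15337 := d5_1 F26834 F24915 (iv3 D7742) D7743 (iv3 F12052)
theorem E3862 : n16135 = n15632 := ((c17_2 (iv1 D15630) D15632 (iv1 F25680) (iv5 D7554) (iv4 D3439) D3440 F11780 (iv5 F25728) D7747 F26834)).symm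
theorem F26836 : act 0 n15632 = n7554 := (sb E3862 (iv1 F25680))
theorem F26837 : act 1 n15632 = n7535 := (sb E3862 (iv0 D16135))
theorem F26838 : act 7 n16136 = n16119 := d15_2 F26837 D16136 (iv2 F26741)
theorem F26839 : act 2 n16120 = n16136 := d4_3 F26838 (iv2 F26741) (iv7 F26743)
theorem F26840 : act 3 n8164 = n16136 := d8_3 F26838 (iv3 F26742) F26723
theorem F26841 : act 5 n8162 = n16136 := d13_3 F26838 F26740 F26722
theorem E3863 : n15629 = n7737 := ((c17_10 (iv1 F26766) F26841 (iv1 D16136) (iv5 D7535) (iv4 D3434) D3435 F25723 F9420 F12049 (iv4 F12050))).symm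
theorem F26842 : act 0 n7737 = n8162 := (sb E3863 (iv1 F26766))
theorem F26843 : act 1 n7737 = n7359 := (sb E3863 (iv0 D15629))
theorem F26844 : act 3 n7746 = n15338 := d20_9 (iv4 D7254) (iv1 F9225) F9223 F26396 (iv1 F10670) D8175 F12931 (iv1 F26843) F12050 (iv1 D15338)
theorem F26845 : act 5 n15338 = n13254 := d6_2 (iv5 F25819) F26844 (iv3 D13254)
theorem F26846 : act 0 n13254 = n15656 := d17_2 (iv1 F24916) F26845 (iv5 D15656) (iv4 D7366) (iv5 F17284) (iv0 D7264) (iv5 D3339) D3337 D7259
theorem F26847 : act 1 n13254 = n15668 := d15_1 (iv0 F26846) F25576 F25574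
theorem F26848 : act 0 n10308 = n15635 := d20_7 D16194 (iv1 F25744) (iv4 D15291) F11558 F5321 (iv3 F9263) (iv4 F16396) (iv4 D15635) (iv3 F25129) F26836
theorem F26849 : act 1 n10308 = n15644 := d15_1 (iv0 F26848) (iv7 F26749) F26751
theorem F26850 : act 1 n15796 = n15635 := d15_0 (iv0 F26848) F16397 (iv2 F25300)
theorem F26851 : act 1 n15644 = n15796 := d15_0 F26850 F26747 (iv2 F26746)
theorem E3864 : n16051 = n7363 := (c20_6 F5324 (iv1 D1637) (iv4 F2621) (iv3 F5413) D7503 D16051 D15644 (iv1 F26849) F16396 F9263 (iv1 F5326))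
theorem E3865 : n12840 = n7503 := (((iv3 F26472)).symm.trans (sb E3864 (iv3 D16051)))
theorem E3866 : n16050 = n8164 := ((D16050).symm.trans (sb E3865 F26725))
theorem F26852 : act 3 n7503 = n7363 := (sb E3865 F26472)
theorem E3867 : n16053 = n6070 := ((D16053).symm.trans (sb E3865 (iv5 D12840)))
theorem E3868 : n16055 = n8159 := ((D16055).symm.trans (sb E3865 F26759))
theorem F26853 : act 2 n8164 = n7503 := (sb E3866 (iv2 D16050))
theorem E3869 : n12845 = n7504 := (((iv7 F26723)).symm.trans (sb E3866 (iv7 F25584)))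
theorem F26854 : act 5 n6070 = n7503 := (sb E3867 (iv5 D16053))
theorem F26855 : act 7 n8159 = n7503 := (sb E3868 (iv7 D16055))
theorem F26856 : act 2 n7504 = n8159 := (sb E3869 (iv2 F26757))
theorem E3870 : n16119 = n16056 := (((D16056).symm.trans (sb E3869 F26742))).symm
theorem E3871 : n16058 = n6071 := ((D16058).symm.trans (sb E3869 (iv5 D12845)))
theorem F26857 : act 7 n7504 = n8164 := (sb E3869 F26723)
theorem F26858 : act 0 n16056 = n16139 := (sb E3870 (iv1 F25682))
theorem F26859 : act 1 n16056 = n7529 := (sb E3870 (iv0 D16119))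
theorem F26860 : act 2 n16056 = n15632 := (sb E3870 (iv2 F26741))
theorem F26861 : act 5 n16056 = n12843 := (sb E3870 F26740)
theorem F26862 : act 7 n16056 = n16136 := (sb E3870 (iv7 F26838))
theorem F26863 : act 5 n6071 = n7504 := (sb E3871 (iv5 D16058))
theorem F26864 : act 5 n16043 = n12143 := d17_7 (iv1 F9442) F26863 (iv1 D7504) (iv5 D3424) D3423 D7501 D16043 F20088 F12915
theorem E3872 : n16072 = n2534 := (c21_6 F26863 (iv1 D7504) (iv5 D3424) D3425 D7507 D16072 F4032 D3911 (iv5 F25983) (iv6 F26653) (iv1 F9442))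
theorem E3873 : n7507 = n6018 := (((D6018).symm.trans (sb E3872 (iv6 D16072)))).symm
theorem E3874 : n16033 = n12713 := (((D12713).symm.trans (sb E3873 (iv1 F25521)))).symm
theorem E3875 : n12714 = n3425 := ((D12714).symm.trans (sb E3873 (iv0 D7507)))
theorem E3876 : n16068 = n12639 := ((((iv2 F21050)).symm.trans (sb E3873 D16068))).symm
theorem E3880 : n16073 = n12435 := ((((iv7 F20701)).symm.trans (sb E3873 D16073))).symm
theorem F26865 : act 0 n12713 = n7508 := (sb E3874 (iv1 F25520))
theorem F26866 : act 2 n12713 = n7510 := (sb E3874 F25518)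
theorem F26867 : act 7 n12713 = n7498 := (sb E3874 (iv7 D16033))
theorem F26868 : act 0 n3425 = n6018 := (sb E3875 (iv1 D12714))
theorem F26869 : act 7 n12639 = n7508 := (sb E3876 (iv7 F25594))
theorem F26870 : act 2 n12435 = n7508 := (sb E3880 F25595)
theorem E3881 : n16014 = n15208 := ((c21_8 D12591 (iv1 F20969) (iv5 F26863) D12846 F26730 F18700 (iv5 F11533) D15208 (iv5 D16014) (iv6 D7490) (iv1 F9293))).symm
theorem F26871 : act 5 n15208 = n7490 := (sb E3881 (iv5 D16014))
theorem E3882 : n16074 = n15127 := (c0_3 (iv3 F20700) F26870 D16074 F24738 F11530 (iv2 F9176))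
theorem F26872 : act 3 n15127 = n7508 := (sb E3882 (iv3 D16074))
theorem E3883 : n16077 = n12416 := (c3_3 D12435 F26870 D16077 (iv2 F20686))
theorem F26873 : act 6 n12416 = n7508 := (sb E3883 (iv6 D16077))
theorem F26874 : act 3 n15645 = n16054 := d7_3 (iv6 D16054) F26852 D15645
theorem F26875 : act 0 n7930 = n7742 := d20_1 (iv4 F12571) (iv4 F24915) (iv3 F26835) (iv1 D15630) (iv3 D7359) (iv4 D3378) (iv1 F3990) (iv4 F26357) F9195 (iv1 F9226)
theorem F26876 : act 0 n16477 = n12500 := d20_4 (iv4 F12931) (iv1 F26769) (iv4 D16478) D16477 (iv3 D12500) (iv4 F12571) F26875 (iv4 F24915) (iv3 F26835) (iv1 D15630)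
theorem F26877 : act 2 n15806 = n15548 := d3_3 (iv6 D15548) F26578 D15806
theorem F26878 : act 5 n14868 = n15806 := d2_0 F26877 F26490 F24634
theorem F26879 : act 7 n15803 = n15521 := d8_2 F26577 D15803 F25074
theorem F26880 : act 7 n15804 = n15532 := d11_2 F26577 D15804 (iv4 D15532)
theorem F26881 : act 2 n15532 = n15809 := d4_1 F26880 F26831 F26832
theorem F26882 : act 5 n8181 = n15803 := d13_3 F26879 (iv5 D15521) (iv7 F26481)
theorem F26883 : act 2 n15811 = n15533 := d3_3 (iv6 D15533) F26576 D15811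
theorem F26884 : act 5 n14139 = n15811 := d2_0 F26883 F26484 (iv2 F23619)
theorem F26885 : act 7 n8158 = n12839 := d11_2 F26575 D8158 (iv4 D12839)
theorem F26886 : act 2 n12844 = n8158 := d4_3 F26885 (iv2 F26711) (iv7 F26713)
theorem F26887 : act 3 n12164 = n8158 := d8_3 F26885 F26471 (iv7 F20161)
theorem F26888 : act 6 n8158 = n14065 := d7_2 (iv6 F20160) F26887 (iv3 D14065)
theorem F26889 : act 3 n15634 = n12644 := d6_3 (iv5 D12644) F26573 (iv5 F25133)
theorem E3884 : n12680 = n12577 := (c20_5 F12441 (iv1 F5601) (iv4 F12417) (iv3 F26572) D12680 (iv3 D12577) (iv4 D5977) (iv1 F4009) (iv4 F5401) F26452 (iv1 F12444))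
theorem F26890 : act 1 n12577 = n6010 := (sb E3884 (iv0 D12680))
theorem E3885 : n15886 = n12681 := ((c15_2 F26890 D12681 F26804 (iv2 F26801))).symm
theorem F26891 : act 2 n12681 = n7453 := (sb E3885 (iv2 D15886))
theorem F26892 : act 7 n12681 = n7495 := (sb E3885 F26804)
theorem E3886 : n15006 = n14967 := (c21_1 D15006 (iv1 D14967) (iv5 D7126) F26571 F10862 F10431 (iv5 F11456) (iv1 D7136) (iv5 D3285) D3286 D7138)
theorem F26893 : act 5 n14967 = n7138 := (sb E3886 (iv5 D15006))
theorem F26894 : act 0 n11170 = n15266 := d20_4 (iv4 F8001) F7999 D5105 D11170 F24856 F11555 (iv1 F5530) (iv4 F26570) (iv3 D3275) (iv1 F5027)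
theorem F26895 : act 1 n13546 = n15266 := d15_0 (iv0 F26894) F18128 D13546
theorem F26896 : act 1 n15262 = n13546 := d15_0 F26895 (iv7 D15266) (iv2 F24854)
theorem E3887 : n12423 = n12406 := ((c20_3 F26557 F12569 (iv4 F20664) (iv3 D12423) (iv1 D5909) (iv3 D2497) (iv4 D1165) D1163 D2488 D5891 D12378)).symm
theorem F26897 : act 3 n12406 = n5909 := (sb E3887 (iv3 D12423))
theorem F26898 : act 3 n12425 = n15271 := d6_3 F24859 F26897 D12425
theorem E3888 : n15119 = n12426 := ((c7_3 (iv6 F20665) F26897 D12426 F24729)).symm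
theorem F26899 : act 3 n12426 = n7188 := (sb E3888 F24729)
theorem F26900 : act 7 n12426 = n7184 := (sb E3888 (iv7 D15119))
theorem E3889 : n12417 = n12403 := (c8_3 D12406 F26897 F20690 F20659)
theorem F26901 : act 2 n12403 = n5908 := (sb E3889 (iv2 D12417))
theorem F26902 : act 7 n12403 = n5909 := (sb E3889 (iv7 F20690))
theorem E3890 : n15071 = n12418 := ((c0_3 (iv3 F20659) F26901 D12418 F24697 F11500 (iv2 F9147))).symm
theorem F26903 : act 2 n12418 = n7171 := (sb E3890 F24697)
theorem F26904 : act 6 n12418 = n7168 := (sb E3890 (iv6 D15071))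
theorem E3891 : n12421 = n12401 := (c3_3 D12403 F26901 D12421 (iv2 D12401))
theorem F26905 : act 6 n12401 = n5908 := (sb E3891 (iv6 D12421))
theorem F26906 : act 4 n12396 = n15814 := d16_0 (iv5 D15814) (iv4 D7420) (iv5 D3397) (iv4 F5388) (iv5 F26312) (iv4 F26450) D15047 F26554 (iv2 F20634)
theorem F26907 : act 2 n15814 = n15054 := d1_1 F26906 (iv4 D15054) (iv2 F20634)
theorem F26908 : act 5 n15054 = n15796 := d2_2 D15814 F26907 F25300
theorem E3892 : n15116 = n13867 := (c20_5 F10935 F7946 (iv4 F5302) (iv3 F11512) D15116 F23132 F10694 F4695 (iv4 F5290) (iv3 F11478) (iv1 F26547))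
theorem F26909 : act 1 n13867 = n7184 := (sb E3892 (iv0 D15116))
theorem F26910 : act 7 n14119 = n13891 := d8_2 F26537 D14119 F23159
theorem F26911 : act 6 n15053 = n14119 := d14_5 F26910 (iv6 D13891) (iv7 F10931) D14108 (iv7 F24683)
theorem F26912 : act 2 n14134 = n16579 := d3_3 (iv6 D16579) F26530 D14134
theorem E3893 : n13544 = n7229 := (c20_5 (iv4 D5669) F4370 D2864 D6446 D13544 F11552 F5317 D3329 (iv4 F26527) (iv3 D5873) (iv1 F8726))
theorem E3894 : n15264 = n6446 := ((D15264).symm.trans (sb E3893 (iv0 D13544)))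
theorem F26913 : act 0 n6446 = n7229 := (sb E3894 (iv1 D15264))
theorem F26914 : act 7 n13545 = n15262 := d15_2 (iv0 F26913) D13545 F24854
theorem F26915 : act 2 n11170 = n15263 := d15_3 (iv0 D15263) (iv0 F26913) (iv7 F18128)
theorem F26916 : act 3 n15263 = n13535 := d0_2 D11170 F26915 (iv2 D13535) (iv3 D6439) (iv2 F7609)
theorem F26917 : act 7 n15263 = n13546 := d4_2 (iv7 F18128) F26915 (iv2 D13546)
theorem F26918 : act 1 n11170 = n15262 := d15_0 F26896 (iv7 F26917) (iv2 F26915)
theorem F26919 : act 2 n13545 = n15266 := d15_3 (iv0 F26894) F26918 (iv7 F26914)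
theorem F26920 : act 1 n13545 = n15263 := d15_0 (iv0 D15263) D15266 (iv2 F26919)
theorem F26921 : act 0 n11209 = n12112 := d20_7 (iv4 F20526) F26526 F26428 F26377 (iv1 F10372) D13403 F22293 F20034 F8849 F12091
theorem F26922 : act 0 n13549 = n13403 := d20_10 F22293 F26921 F20034 F8849 F12091 (iv3 F12648) D12388 F20614 F11509 (iv3 F22711)
theorem F26923 : act 1 n11208 = n13403 := d15_0 (iv0 F26922) (iv7 D13549) (iv2 F18204)
theorem E3895 : n12427 = n12403 := ((c20_4 (iv4 F12696) F12699 (iv4 F9148) (iv3 F20659) (iv1 F20692) F9157 F3944 (iv1 F2121) D1461 D3299 (iv1 F26525))).symm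
theorem F26924 : act 0 n12403 = n5912 := (sb E3895 (iv1 F20692))
theorem F26925 : act 1 n12403 = n5910 := (sb E3895 (iv0 D12427))
theorem E3896 : n12428 = n12422 := (c15_2 F26925 D12428 (iv7 D12422) (iv2 F26901))
theorem F26926 : act 0 n12422 = n5910 := (sb E3896 (iv1 D12428))
theorem F26927 : act 1 n12422 = n5912 := (sb E3896 F20693)
theorem F26928 : act 0 n12402 = n15265 := d21_7 F25983 (iv1 F9341) (iv5 D6013) (iv6 F9155) (iv1 F26925) (iv6 D12403) D12402 (iv5 D15265) (iv6 D7229) D7226
theorem F26929 : act 0 n15272 = n15043 := d20_7 (iv4 F24235) F24236 F20438 (iv3 F20657) F26928 F24855 D15272 (iv4 D15043) F11477 (iv1 F11454)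
theorem F26930 : act 1 n15106 = n15265 := d15_0 (iv0 F26928) F20658 (iv2 F24721)
theorem F26931 : act 3 n11127 = n9354 := d19_7 D7418 (iv5 F26513) (iv4 D3687) D3686 (iv1 F8885) (iv5 F7567) (iv4 F18061) (iv1 F17224) (iv5 D10680) (iv4 D4890) (iv3 D2018) (iv1 D1014) (iv5 D646) (iv4 F853) (iv3 D565) D563 D884 (iv4 F2615) (iv3 F5398)
theorem F26932 : act 3 n9441 = n7882 := d5_3 (iv4 F18061) F26931 F14666 F12480 (iv3 F7566)
theorem F26933 : act 5 n9353 = n11127 := d6_0 F26931 (iv5 D9354) D9353
theorem F26934 : act 6 n9354 = n11125 := d7_2 D11127 F26931 (iv3 D11125)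
theorem F26935 : act 3 n7909 = n12149 := d20_5 D9442 F14670 (iv4 F14666) (iv3 F26931) F18062 F20094 (iv1 D7884) (iv4 F12480) (iv3 F26932) (iv1 D9441)
theorem F26936 : act 6 n7880 = n9441 := d10_2 F26934 F18053 (iv4 F14666)
theorem F26937 : act 2 n12150 = n9353 := d2_3 F26933 F18060 D12150
theorem F26938 : act 5 n7882 = n9946 := d6_2 (iv5 F14665) F26932 (iv3 D9946)
theorem F26939 : act 2 n9946 = n7905 := d2_1 F26938 (iv5 D7905) (iv2 F12479)
theorem E3897 : n16449 = n12562 := ((c15_1 D12562 (iv0 D16449) (iv7 F26508) F20911)).symm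
theorem F26940 : act 1 n12562 = n7629 := (sb E3897 (iv0 D16449))
theorem E3898 : n16005 = n15443 := (c1_2 F26506 (iv2 F25502) (iv4 D15443) (iv2 F12665))
theorem F26941 : act 2 n15443 = n15940 := (sb E3898 F25502)
theorem F26942 : act 3 n15443 = n7488 := (sb E3898 (iv3 D16005))
theorem E3899 : n15396 = n15395 := (c15_1 D15396 (iv0 D15395) (iv7 F26503) F24939)
theorem F26943 : act 0 n15395 = n7270 := (sb E3899 (iv1 D15396))
theorem E3900 : n15437 = n13228 := ((c8_3 D15439 F26496 (iv7 F22033) (iv3 D15437))).symm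
theorem F26944 : act 3 n13228 = n7285 := (sb E3900 (iv3 D15437))
theorem F26945 : act 3 n15397 = n10848 := d5_5 (iv4 F22032) F26944 (iv4 D7285) (iv3 F11575) D15397
theorem F26946 : act 5 n10847 = n15397 := d6_0 F26945 (iv5 D10848) D10847
theorem F26947 : act 3 n12716 = n8172 := d20_5 F3437 (iv1 F2934) (iv4 F4034) D6019 D12716 (iv4 F26495) (iv1 D15570) (iv4 D7341) F5369 (iv1 F3439)
theorem E3901 : n12716 = n12584 := ((c6_1 D12584 F26947 F20820 F26330)).symm
theorem F26948 : act 0 n12584 = n7597 := (sb E3901 (iv1 F21108))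
theorem F26949 : act 1 n12584 = n6019 := (sb E3901 (iv0 D12716))
theorem F26950 : act 3 n12584 = n8172 := (sb E3901 F26947)
theorem F26951 : act 3 n12941 = n16128 := d0_2 F26950 F21502 F25646 F25506 F25460
theorem F26952 : act 3 n16117 = n8171 := d8_3 (iv7 F21500) F26951 F25647
theorem E3902 : n12717 = n12589 := (c15_2 F26949 D12717 (iv7 F25446) F25460)
theorem F26953 : act 0 n12589 = n6019 := (sb E3902 (iv1 D12717))
theorem F26954 : act 1 n12589 = n7597 := (sb E3902 F21113)
theorem E3903 : n12590 = n12400 := (c21_10 D12402 F26928 (iv5 D15265) (iv6 D7229) D7226 (iv6 F26653) (iv5 F11831) (iv1 F26954) (iv5 D12589) D12590 (iv1 D12400))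
theorem F26955 : act 2 n12400 = n7490 := (sb E3903 (iv2 F25457))
theorem F26956 : act 3 n12400 = n15141 := (sb E3903 (iv3 F26816))
theorem F26957 : act 6 n12400 = n5982 := (sb E3903 (iv6 D12590))
theorem E3904 : n15015 = n12399 := ((c15_2 F20655 F20651 F26803 (iv2 F26955))).symm
theorem F26958 : act 3 n12399 = n7144 := (sb E3904 (iv3 D15015))
theorem F26959 : act 6 n12399 = n7453 := (sb E3904 F24657)
theorem F26960 : act 7 n12399 = n7490 := (sb E3904 F26803)
theorem E3905 : n7839 = n6009 := (c21_2 D12787 (iv1 F21222) (iv5 D6009) D6010 (iv1 F26890) F26802 D12584 F26948 F11831 F26653 (iv1 F11547))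
theorem E3906 : n12660 = n3557 := (((iv1 F21073)).symm.trans (sb E3905 (iv1 D7839)))
theorem E3907 : n12787 = n12659 := (((F21076).symm.trans (sb E3905 F21222))).symm
theorem E3908 : n7838 = n6004 := ((D7838).symm.trans (sb E3906 (iv1 D12660)))
theorem F26961 : act 1 n3557 = n6009 := (sb E3906 F21073)
theorem F26962 : act 2 n12659 = n6047 := (sb E3907 F21219)
theorem F26963 : act 3 n12659 = n7538 := (sb E3907 F25727)
theorem F26964 : act 5 n12659 = n6046 := (sb E3907 (iv5 D12787))
theorem F26965 : act 7 n12659 = n7840 := (sb E3907 F21221)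
theorem F26966 : act 1 n6004 = n3557 := (sb E3908 (iv0 D7838))
theorem F26967 : act 0 n12202 = n15243 := d17_2 (iv1 F20196) D12202 (iv5 D15243) F11537 (iv5 F5581) F26961 (iv5 D6009) F9332 (iv4 F20194)
theorem F26968 : act 5 n12498 = n13909 := d21_6 (iv5 F17284) (iv1 F20828) (iv5 D12503) (iv6 F26467) D5944 D12498 (iv1 D13909) (iv5 D6609) F4648 D3381
theorem E3909 : n15096 = n12389 := (c20_6 F7637 (iv1 F3433) (iv4 F4938) D3311 D7179 D15096 (iv4 D12389) (iv1 D5895) (iv4 F26453) (iv3 D5891) (iv1 F7639))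
theorem E3910 : n7490 = n7179 := ((F26436).symm.trans (sb E3909 (iv3 D15096)))
theorem E3913 : n15095 = n12400 := ((D15095).symm.trans (sb E3910 (iv2 F26955)))
theorem F26969 : act 3 n7179 = n12389 := (sb E3910 (iv3 F26436))
theorem E3914 : n16007 = n15097 := (((D15097).symm.trans (sb E3910 (iv4 F25503)))).symm
theorem E3915 : n15208 = n15098 := (((D15098).symm.trans (sb E3910 (iv5 F26871)))).symm
theorem E3916 : n15099 = n3420 := ((D15099).symm.trans (sb E3910 (iv6 D7490)))
theorem E3917 : n15100 = n12399 := ((D15100).symm.trans (sb E3910 (iv7 F26960)))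
theorem F26970 : act 2 n12400 = n7179 := (sb E3913 (iv2 D15095))
theorem F26971 : act 7 n12400 = n7180 := (sb E3913 (iv7 F24717))
theorem F26972 : act 6 n15097 = n7488 := (sb E3914 (iv6 D16007))
theorem F26973 : act 1 n15098 = n7211 := (sb E3915 (iv0 D15208))
theorem F26974 : act 6 n3420 = n7179 := (sb E3916 (iv6 D15099))
theorem F26975 : act 2 n12399 = n7180 := (sb E3917 F24718)
theorem F26976 : act 7 n12399 = n7179 := (sb E3917 (iv7 D15100))
theorem E3918 : n15134 = n15101 := ((c0_3 (iv3 F26958) F26975 D15101 (iv2 F26813) F26807 F20611)).symm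
theorem F26977 : act 0 n15101 = n15145 := (sb E3918 (iv1 F24787))
theorem F26978 : act 1 n15101 = n7191 := (sb E3918 (iv0 D15134))
theorem F26979 : act 2 n15101 = n15140 := (sb E3918 (iv2 F26813))
theorem F26980 : act 7 n15101 = n15141 := (sb E3918 (iv7 F26818))
theorem E3919 : n15104 = n12681 := (c3_3 (iv6 F26959) F26975 D15104 F26891)
theorem F26981 : act 6 n12681 = n7180 := (sb E3919 (iv6 D15104))
theorem F26982 : act 4 n15196 = n15875 := d20_0 (iv1 D15875) (iv4 F20934) (iv3 D12569) (iv1 F9285) F26452 (iv4 D6030) (iv1 F4048) (iv4 F5310) (iv3 F11530) D15196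
theorem F26983 : act 0 n12579 = n16303 := d20_10 (iv4 D16303) (iv1 D7584) (iv4 F10562) F10561 (iv1 F11986) (iv3 F26452) F5401 (iv1 F4004) D5980 D12579
theorem F26984 : act 1 n15876 = n16303 := d15_0 (iv0 F26983) F20960 D15876
theorem F26985 : act 4 n13891 = n15948 := d20_6 (iv4 D2949) (iv1 F2481) (iv4 F4740) F26451 F10701 (iv3 F23159) (iv1 D15948) F11726 F5407 (iv1 F4893)
theorem E3920 : n13864 = n11433 := ((c20_4 F10700 (iv1 D5316) D5317 D11433 (iv1 D13864) (iv3 D6594) (iv4 D2949) (iv1 F2481) (iv4 F4740) F26451 F10701)).symm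
theorem F26986 : act 0 n11433 = n6594 := (sb E3920 (iv1 D13864))
theorem F26987 : act 1 n11433 = n14098 := (sb E3920 F23563)
theorem E3921 : n14084 = n12597 := ((c20_5 (iv4 F5106) F3616 (iv4 F4019) (iv3 F9298) D12597 (iv3 D14084) (iv4 D6696) F4719 D3501 (iv3 F26451) (iv1 F4742))).symm
theorem F26988 : act 3 n12597 = n6696 := (sb E3921 (iv3 D14084))
theorem F26989 : act 7 n12597 = n14100 := (sb E3921 F23567)
theorem E3922 : n13863 = n12667 := (c15_2 F26987 F23561 (iv7 D12667) (iv2 F26670))
theorem F26990 : act 0 n12667 = n14098 := (sb E3922 (iv1 F23561))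
theorem F26991 : act 1 n12667 = n6594 := (sb E3922 (iv0 D13863))
theorem F26992 : act 6 n15948 = n13889 := d10_2 D13891 F26985 (iv4 D13889)
theorem F26993 : act 6 n15850 = n15937 := d3_2 F26439 D15850 (iv2 F25416)
theorem F26994 : act 6 n15851 = n12620 := d10_2 F26439 D15851 (iv4 F21015)
theorem F26995 : act 2 n15939 = n15851 := d3_3 F26994 F25424 D15939
theorem F26996 : act 4 n15850 = n15939 := d1_0 F26995 (iv4 D15851) D15850
theorem F26997 : act 4 n12228 = n11213 := d20_0 (iv1 D11213) (iv4 F10373) (iv3 D6365) F4303 (iv3 F26287) (iv4 F26319) D5960 (iv4 F26431) (iv3 F21328) (iv1 F21332)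
theorem F26998 : act 2 n11213 = n12675 := d1_1 F26997 F26787 F22843
theorem F26999 : act 6 n11213 = n12226 := d10_2 D12228 F26997 (iv4 D12226)
theorem F27000 : act 3 n15461 = n12228 := d20_5 (iv4 D2515) (iv1 F2596) D3355 D7305 D15461 F26997 (iv1 D11213) (iv4 F10373) (iv3 D6365) F4303
theorem F27001 : act 2 n13405 = n15461 := d0_5 F27000 (iv2 F22843) F22844 (iv2 F12456) F26430
theorem F27002 : act 6 n11241 = n15461 := d7_0 F27000 (iv6 D12228) F18281
theorem F27003 : act 7 n11262 = n15461 := d8_0 F27000 F20227 F18625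
theorem F27004 : act 7 n13405 = n11288 := d4_2 F27003 (iv2 F27001) F18404
theorem F27005 : act 6 n7872 = n13405 := d14_5 F27004 (iv6 D11288) F10266 (iv6 F10565) (iv7 F12450)
theorem F27006 : act 0 n11122 = n15075 := d20_7 (iv4 D7144) F9127 (iv4 F26428) (iv3 D3299) (iv1 F5180) D5118 (iv4 F18046) F24701 F11500 (iv1 F20615)
theorem E3923 : n16297 = n15874 := ((c20_11 F25836 (iv1 D15197) (iv4 F22736) F22735 F26426 F5399 F2616 D1500 D3406 D7447 D15874)).symm
theorem F27007 : act 3 n15874 = n7583 := (sb E3923 (iv3 D16297))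
theorem F27008 : act 4 n15874 = n15197 := (sb E3923 F25836)
theorem F27009 : act 0 n16298 = n12579 := d20_7 F2616 D1500 D3406 D7447 D15874 F27007 D16298 F20959 (iv3 D7436) (iv1 D3401)
theorem F27010 : act 3 n13441 = n11274 := d5_3 F26410 (iv3 F10422) D13441 F18355 (iv3 F10380)
theorem F27011 : act 0 n12600 = n14100 := d20_4 (iv4 F7729) (iv1 F4393) (iv4 F9303) (iv3 F20979) F23566 F10927 F4735 (iv4 F26382) (iv3 D3021) D3019
theorem F27012 : act 1 n12592 = n14100 := d15_0 (iv0 F27011) (iv7 D12600) (iv2 F20971)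
theorem F27013 : act 0 n15851 = n16424 := d20_7 F9177 (iv1 F3951) (iv4 F26374) F5399 D3400 D7431 D15851 (iv4 D16424) (iv3 D7615) (iv1 F9180)
theorem E3924 : n16031 = n12435 := (c20_5 (iv4 F12076) (iv1 F5549) (iv4 F5416) (iv3 F11752) (iv1 F25516) F20700 F9177 (iv1 F3951) (iv4 F26374) F5399 D3400)
theorem F27014 : act 0 n12435 = n7498 := (sb E3924 (iv1 D16031))
theorem F27015 : act 1 n12435 = n7510 := (sb E3924 F25516)
theorem E3925 : n16030 = n12639 := (c15_2 F27015 F25519 F26869 (iv2 F26870))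
theorem F27016 : act 0 n12639 = n7510 := (sb E3925 (iv1 F25519))
theorem F27017 : act 1 n12639 = n7498 := (sb E3925 (iv0 D16030))
theorem E3926 : n12704 = n3676 := (c21_9 D8159 F26755 (iv5 D7497) D7498 (iv1 F27017) (iv6 D12639) F9330 (iv1 F9343) D12704 (iv6 D3676) D3673)
theorem E3927 : n8169 = n6015 := ((D8169).symm.trans (sb E3926 (iv5 D12704)))
theorem E3928 : n12701 = n3911 := (((iv2 F21097)).symm.trans (sb E3927 F26643))
theorem E3929 : n12702 = n3679 := ((D12702).symm.trans (sb E3927 F12928))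
theorem F27018 : act 5 n6015 = n3676 := (sb E3927 (iv5 D8169))
theorem E3930 : n16361 = n12705 := (((D12705).symm.trans (sb E3927 (iv6 F25867)))).symm
theorem E3931 : n12696 = n3912 := ((F21096).symm.trans (sb E3927 F26644))
theorem F27019 : act 2 n3911 = n6015 := (sb E3928 F21097)
theorem E3932 : n8751 = n6014 := ((D8751).symm.trans (sb E3928 (iv7 D12701)))
theorem F27020 : act 3 n3679 = n6015 := (sb E3929 (iv3 D12702))
theorem F27021 : act 2 n12705 = n8750 := (sb E3930 F26656)
theorem F27022 : act 3 n12705 = n7602 := (sb E3930 F25866)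
theorem F27023 : act 5 n12705 = n7599 := (sb E3930 (iv5 D16361))
theorem F27024 : act 7 n3912 = n6015 := (sb E3931 (iv7 F21096))
theorem F27025 : act 2 n6014 = n3912 := (sb E3932 F13643)
theorem E3933 : n12699 = n6044 := ((D12699).symm.trans (sb E3932 F26774))
theorem F27026 : act 7 n6014 = n3911 := (sb E3932 (iv7 D8751))
theorem F27027 : act 5 n6044 = n6014 := (sb E3933 (iv5 D12699))
theorem F27028 : act 5 n12697 = n12778 := d6_2 F27027 D12697 (iv3 D12778)
theorem F27029 : act 7 n8747 = n12697 := d13_0 F27028 (iv7 F26775) F26652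
theorem F27030 : act 7 n8748 = n12698 := d11_2 F27026 D8748 (iv4 D12698)
theorem F27031 : act 2 n8753 = n12698 := d1_3 (iv4 D12698) F27025 D8753
theorem F27032 : act 2 n8755 = n12700 := d3_3 (iv6 D12700) F27025 D8755
theorem F27033 : act 7 n12703 = n8753 := d11_2 F27024 D12703 (iv4 D8753)
theorem F27034 : act 2 n8748 = n12703 := d4_3 F27033 F27031 (iv7 F27030)
theorem F27035 : act 5 n12762 = n12208 := d17_1 (iv1 F24839) (iv1 D12208) (iv5 D5784) F3812 D2533 D6015 F27018 (iv0 F26771) (iv4 F24835)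
theorem F27036 : act 0 n14082 = n12666 := d21_7 F9330 (iv1 F9343) F27018 (iv6 D3676) D3673 (iv6 F26505) D14082 (iv5 D12666) (iv6 D6005) D6000
theorem F27037 : act 3 n12936 = n12496 := d20_5 (iv4 F26356) (iv1 D2586) (iv4 F4140) (iv3 F9538) D12936 (iv4 D12496) (iv1 F9221) F5327 (iv3 F9195) (iv1 F9199)
theorem F27038 : act 3 n12099 = n7888 := d5_3 F26355 D7101 (iv4 F20019) F12490 F5611
theorem F27039 : act 3 n15315 = n12923 := d20_5 (iv4 D1614) D1613 D3666 (iv3 F11564) D15315 F21478 F26347 (iv4 F12487) (iv3 D7886) F5610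
theorem F27040 : act 4 n12939 = n15315 := d5_0 F27039 F21478 F9529 (iv4 F9542) (iv3 F21493)
theorem F27041 : act 7 n12920 = n15315 := d8_0 F27039 (iv7 D12923) (iv3 F21475)
theorem E3934 : n12848 = n12490 := (c20_5 F10673 (iv1 D2565) (iv4 F4081) (iv3 F9444) D12848 (iv3 D12490) (iv4 D5941) (iv1 D2507) (iv4 F3965) (iv3 F9202) (iv1 F26333))
theorem F27042 : act 0 n12490 = n12781 := (sb E3934 (iv1 F26780))
theorem F27043 : act 1 n12490 = n6073 := (sb E3934 (iv0 D12848))
theorem E3935 : n15446 = n12849 := (c15_4 F26779 (iv0 F27042) F20809 D15446)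
theorem F27044 : act 2 n12849 = n7292 := (sb E3935 (iv2 D15446))
theorem F27045 : act 3 n12125 = n9741 := d19_3 (iv1 F26305) F18338 (iv4 F20055) F15217 (iv5 D4540) (iv4 D1894) F1843 (iv1 F1761) F1759 F1138 (iv3 F1685) (iv1 F1687) (iv5 D808) (iv4 D464) D463 F2418 D1256 D2709 D6365
theorem F27046 : act 3 n9724 = n12118 := d5_3 (iv4 F20055) F27045 F15215 F20045 (iv3 F18226)
theorem F27047 : act 5 n9740 = n12125 := d6_0 F27045 (iv5 D9741) D9740
theorem F27048 : act 6 n9741 = n12123 := d7_2 D12125 F27045 (iv3 D12123)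
theorem F27049 : act 6 n12116 = n9724 := d10_2 F27048 F20054 (iv4 F15215)
theorem F27050 : act 5 n12118 = n9723 := d6_2 D9724 F27046 (iv3 D9723)
theorem F27051 : act 0 n9437 = n15442 := d19_16 (iv1 F3972) F3968 (iv4 F26304) (iv3 D2503) (iv1 F2758) (iv5 F5384) F5385 (iv3 F5661) (iv1 F7022) (iv5 D4821) (iv4 F6715) F6714 F6550 D4466 (iv4 F7261) D9437 (iv5 D15442) (iv4 D7290) (iv3 D3347)
theorem F27052 : act 4 n15452 = n15453 := d20_0 (iv1 D15453) (iv4 F12701) (iv3 D7962) F10667 (iv3 F9202) F26295 (iv1 F3971) D3352 D7301 D15452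
theorem E3936 : n15445 = n12851 := ((c20_4 (iv4 D3601) (iv1 F4088) (iv4 F9448) (iv3 F21302) (iv1 D15445) (iv3 D7292) (iv4 D3348) (iv1 F3972) (iv4 F26295) F9202 (iv1 F10686))).symm
theorem F27053 : act 0 n12851 = n7292 := (sb E3936 (iv1 D15445))
theorem E3937 : n15444 = n12847 := ((c15_4 (iv0 D15444) (iv0 F27053) (iv7 D12851) (iv2 F21299))).symm
theorem F27054 : act 1 n12847 = n7292 := (sb E3937 (iv0 D15444))
theorem F27055 : act 3 n12176 = n7877 := d5_3 F26292 D7397 (iv4 F20175) F12465 F5605
theorem F27056 : act 6 n7875 = n12176 := d7_0 F27055 (iv6 D7877) D7875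
theorem F27057 : act 0 n12162 = n11215 := d17_2 (iv1 D12161) D12162 (iv5 D11215) (iv4 F10373) F26285 (iv0 D3582) (iv5 F4137) D6126 F20117
def n16583 : Q := act 0 n7706
theorem D16583 : act 0 n7706 = n16583 := rfl
theorem F27058 : act 5 n16583 = n11707 := d17_3 (iv1 F10289) D7706 D16583 (iv4 D11707) (iv5 F10881) (iv0 D6685) (iv5 D3006) (iv0 F10048) (iv4 F8749)
theorem F27059 : act 1 n12009 = n16583 := d15_0 (iv0 D16583) (iv7 F18755) (iv2 F19862)
def n16584 : Q := act 4 n7706
theorem D16584 : act 4 n7706 = n16584 := rfl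
def n16585 : Q := act 6 n7706
theorem D16585 : act 6 n7706 = n16585 := rfl
theorem F27060 : act 3 n16585 = n7709 := d7_1 D16585 (iv6 D7709) (iv3 F11981)
theorem F27061 : act 0 n14790 = n16585 := d21_4 (iv5 F24652) (iv1 F24655) F22233 D14790 (iv6 D16585) (iv5 D7706) F10288 D5672 (iv6 F10576) (iv1 F19554)
def n16586 : Q := act 3 n7708
theorem D16586 : act 3 n7708 = n16586 := rfl
def n16587 : Q := act 6 n7708
theorem D16587 : act 6 n7708 = n16587 := rfl
theorem F27062 : act 4 n16587 = n7709 := d10_1 D16587 (iv6 D7709) D7708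
theorem F27063 : act 0 n14569 = n16587 := d21_4 D12319 (iv1 F24229) (iv5 D14568) D14569 (iv6 D16587) (iv5 F26227) (iv1 D16563) (iv5 D7691) F5475 D5845
def n16588 : Q := act 0 n7709
theorem D16588 : act 0 n7709 = n16588 := rfl
theorem F27064 : act 6 n16588 = n14814 := d21_5 F8138 (iv1 F5275) D3499 D7709 D16588 F24478 (iv1 F19751) F19749 (iv6 D11424) (iv1 F8140)
theorem F27065 : act 5 n16588 = n13774 := d21_8 (iv5 F23032) (iv1 D13432) (iv5 F10609) (iv6 D6543) D6540 D13739 F22987 D16588 (iv6 F23373) (iv1 F23374)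
theorem F27066 : act 2 n14822 = n16588 := d15_3 (iv0 D16588) (iv0 F11984) D14822
theorem F27067 : act 7 n16588 = n12338 := d4_2 D14822 F27066 F20488
theorem F27068 : act 1 n14821 = n16588 := d15_1 D14821 F27067 F20488
def n16589 : Q := act 7 n7709
theorem D16589 : act 7 n7709 = n16589 := rfl
theorem F27069 : act 2 n16589 = n14821 := d4_1 D16589 F24485 F18777
theorem F27070 : act 1 n12338 = n16589 := d15_1 (iv0 F20490) (iv7 D16589) (iv2 F18777)
theorem F27071 : act 1 n16589 = n14822 := d15_1 F27070 (iv7 D14822) (iv2 F20488)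
def n16590 : Q := act 6 n7711
theorem D16590 : act 6 n7711 = n16590 := rfl
theorem F27072 : act 3 n16590 = n14145 := d7_1 D16590 (iv6 D14145) (iv3 F26545)
def n16591 : Q := act 0 n7712
theorem D16591 : act 0 n7712 = n16591 := rfl
theorem F27073 : act 1 n14044 = n16591 := d15_0 (iv0 D16591) F11994 (iv2 F26692)
def n16592 : Q := act 1 n7712
theorem D16592 : act 1 n7712 = n16592 := rfl
theorem F27074 : act 1 n16592 = n14044 := d15_1 D16592 F23437 F26686
def n16593 : Q := act 5 n7712
theorem D16593 : act 5 n7712 = n16593 := rfl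
theorem F27075 : act 3 n16593 = n7713 := d6_1 D16593 (iv5 D7713) D7712
theorem F27076 : act 7 n16593 = n14905 := d13_2 (iv7 F11994) D16593 (iv5 D14905)
def n16594 : Q := act 6 n7713
theorem D16594 : act 6 n7713 = n16594 := rfl
theorem F27077 : act 2 n16594 = n14975 := d3_1 D16594 F24621 (iv2 F11995)
theorem F27078 : act 5 n16594 = n12373 := d12_1 D16594 (iv6 D12373) (iv5 D5887) (iv6 F5499) D7713
def n16595 : Q := act 6 n7717
theorem D16595 : act 6 n7717 = n16595 := rfl
theorem F27079 : act 2 n16595 = n14907 := d3_1 D16595 (iv6 D14907) (iv2 F12009)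
def n16596 : Q := act 5 n7718
theorem D16596 : act 5 n7718 = n16596 := rfl
theorem F27080 : act 2 n16596 = n14897 := d2_1 D16596 F24538 (iv2 F12011)
theorem F27081 : act 3 n16596 = n13679 := d6_1 D16596 F22828 F26691
theorem F27082 : act 7 n16596 = n12354 := d13_2 (iv7 F12013) D16596 (iv5 D12354)
theorem F27083 : act 0 n16596 = n12572 := d17_2 (iv1 F12015) D16596 (iv5 D12572) F12656 (iv5 F5632) (iv0 F5633) (iv5 F8098) F9457 F11584
theorem F27084 : act 1 n16596 = n12570 := d17_6 D2521 F9083 (iv1 D5877) (iv5 F5510) (iv4 F12012) D16596 (iv5 D12570) (iv0 D5971) F4003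
def n16597 : Q := act 0 n7719
theorem D16597 : act 0 n7719 = n16597 := rfl
def n16598 : Q := act 1 n7719
theorem D16598 : act 1 n7719 = n16598 := rfl
def n16599 : Q := act 2 n7719
theorem D16599 : act 2 n7719 = n16599 := rfl
theorem F27085 : act 3 n16599 = n14079 := d0_2 D7719 D16599 (iv2 F26827) (iv3 D11438) F8088
def n16600 : Q := act 4 n7719
theorem D16600 : act 4 n7719 = n16600 := rfl
theorem F27086 : act 3 n16600 = n11294 := d5_1 D16600 (iv4 D11294) F9911 (iv4 F5515) D7719
def n16601 : Q := act 5 n7719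
theorem D16601 : act 5 n7719 = n16601 := rfl
theorem F27087 : act 3 n16601 = n7720 := d6_1 D16601 (iv5 D7720) D7719
def n16602 : Q := act 6 n7720
theorem D16602 : act 6 n7720 = n16602 := rfl
theorem F27088 : act 2 n16602 = n15215 := d3_1 D16602 F24824 F18702
theorem F27089 : act 5 n16602 = n12439 := d12_1 D16602 (iv6 D12439) F9164 F7627 D7720
def n16603 : Q := act 4 n7721
theorem D16603 : act 4 n7721 = n16603 := rfl
theorem F27090 : act 3 n16603 = n11298 := d5_1 D16603 F18433 F7906 (iv4 F5516) D7721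
def n16604 : Q := act 5 n7721
theorem D16604 : act 5 n7721 = n16604 := rfl
theorem F27091 : act 3 n16604 = n7722 := d6_1 D16604 (iv5 D7722) D7721
def n16605 : Q := act 6 n7721
theorem D16605 : act 6 n7721 = n16605 := rfl
theorem F27092 : act 3 n16605 = n7723 := d7_1 D16605 (iv6 D7723) D7721
def n16606 : Q := act 6 n7722
theorem D16606 : act 6 n7722 = n16606 := rfl
def n16607 : Q := act 5 n7723
theorem D16607 : act 5 n7723 = n16607 := rfl
theorem F27093 : act 2 n16607 = n15878 := d2_1 D16607 F25348 F18707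
theorem F27094 : act 7 n16607 = n15879 := d13_2 F18131 D16607 F25352
theorem F27095 : act 0 n16607 = n12580 := d17_2 (iv1 F18710) D16607 (iv5 D12580) (iv4 D5980) (iv5 F9079) (iv0 D5876) (iv5 F5510) (iv0 F5513) D7092
theorem F27096 : act 1 n16607 = n12578 := d17_6 D3523 D7768 F12082 (iv5 F8168) (iv4 F12016) D16607 (iv5 D12578) F12678 F4027
def n16608 : Q := act 0 n7724
theorem D16608 : act 0 n7724 = n16608 := rfl
theorem F27097 : act 2 n7728 = n16608 := d15_3 (iv0 D16608) (iv0 D7724) D7728
theorem F27098 : act 7 n16608 = n7726 := d4_2 D7728 F27097 (iv2 D7726)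
theorem F27099 : act 1 n7725 = n16608 := d15_1 D7725 F27098 (iv2 D7726)
def n16609 : Q := act 2 n7724
theorem D16609 : act 2 n7724 = n16609 := rfl
theorem F27100 : act 7 n7725 = n16609 := d15_2 (iv0 D7724) D7725 (iv2 D16609)
def n16610 : Q := act 5 n7724
theorem D16610 : act 5 n7724 = n16610 := rfl
def n16611 : Q := act 6 n7724
theorem D16611 : act 6 n7724 = n16611 := rfl
theorem F27101 : act 5 n16611 = n15173 := d21_6 D7524 F25747 (iv5 D3515) (iv6 F5517) D7724 D16611 (iv1 D15173) (iv5 D7202) F5303 F11796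
def n16612 : Q := act 7 n7724
theorem D16612 : act 7 n7724 = n16612 := rfl
theorem F27102 : act 2 n16612 = n7725 := d4_1 D16612 F27100 (iv2 D16609)
def n16613 : Q := act 3 n7725
theorem D16613 : act 3 n7725 = n16613 := rfl
def n16614 : Q := act 5 n7725
theorem D16614 : act 5 n7725 = n16614 := rfl
def n16615 : Q := act 6 n7725
theorem D16615 : act 6 n7725 = n16615 := rfl
def n16616 : Q := act 0 n7726
theorem D16616 : act 0 n7726 = n16616 := rfl
theorem F27103 : act 6 n16616 = n15184 := d21_5 D3435 D7538 (iv5 F25728) (iv6 F12018) D16616 (iv5 D15184) (iv1 D7204) (iv5 D3317) F2574 D1509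
theorem F27104 : act 1 n7728 = n16616 := d15_0 (iv0 D16616) (iv7 F27098) (iv2 F27097)
theorem F27105 : act 4 n13853 = n16616 := d20_0 (iv1 F27104) (iv4 F18808) F18807 (iv1 F8176) F26621 (iv4 D6575) (iv1 F4538) D2946 D6589 D13853
def n16617 : Q := act 1 n7726
theorem D16617 : act 1 n7726 = n16617 := rfl
theorem F27106 : act 1 n16617 = n7728 := d15_1 D16617 (iv7 D7728) D7726
theorem F27107 : act 3 n16617 = n14048 := d20_5 F5214 (iv1 F3898) (iv4 F5518) (iv3 F12020) (iv1 F27106) F26821 (iv1 D7725) (iv4 F8171) (iv3 D5364) (iv1 F5501)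
theorem F27108 : act 4 n16617 = n13854 := d20_0 (iv1 D13854) (iv4 F22375) (iv3 D13445) (iv1 F10863) (iv3 F26581) F5214 (iv1 F3898) (iv4 F5518) (iv3 F12020) (iv1 F27106)
def n16618 : Q := act 5 n7726
theorem D16618 : act 5 n7726 = n16618 := rfl
theorem F27109 : act 2 n16618 = n7727 := d2_1 D16618 (iv5 D7727) D7726
def n16619 : Q := act 0 n7727
theorem D16619 : act 0 n7727 = n16619 := rfl
def n16620 : Q := act 1 n7727
theorem D16620 : act 1 n7727 = n16620 := rfl
def n16621 : Q := act 4 n7727
theorem D16621 : act 4 n7727 = n16621 := rfl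
def n16622 : Q := act 6 n7727
theorem D16622 : act 6 n7727 = n16622 := rfl
theorem F27110 : act 3 n16622 = n7732 := d7_1 D16622 (iv6 D7732) (iv3 F12019)
theorem F27111 : act 5 n16622 = n7752 := d12_1 D16622 (iv6 D7752) (iv5 D3515) (iv6 F5517) D7727
def n16623 : Q := act 7 n7727
theorem D16623 : act 7 n7727 = n16623 := rfl
theorem F27112 : act 3 n16623 = n7733 := d8_1 D16623 (iv7 D7733) (iv3 F12019)
theorem F27113 : act 5 n16623 = n7728 := d13_1 D16623 (iv7 D7728) D7727
def n16624 : Q := act 6 n7728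
theorem D16624 : act 6 n7728 = n16624 := rfl
theorem F27114 : act 3 n16624 = n7734 := d7_1 D16624 (iv6 D7734) (iv3 F12020)
theorem F27115 : act 4 n16624 = n14960 := d10_1 D16624 F26632 F18808
theorem F27116 : act 7 n16624 = n7753 := d14_2 D7728 D16624 (iv6 D7753) (iv7 D3516) (iv6 F5517)
def n16625 : Q := act 3 n7729
theorem D16625 : act 3 n7729 = n16625 := rfl
theorem F27117 : act 5 n16625 = n11497 := d6_2 (iv5 F12021) D16625 (iv3 D11497)
def n16626 : Q := act 6 n7729
theorem D16626 : act 6 n7729 = n16626 := rfl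
def n16627 : Q := act 3 n7730
theorem D16627 : act 3 n7730 = n16627 := rfl
theorem F27118 : act 5 n16627 = n11499 := d6_2 (iv5 F12022) D16627 (iv3 D11499)
theorem F27119 : act 0 n16627 = n14082 := d20_4 (iv4 F18784) (iv1 F26123) F26121 D16627 F23528 (iv4 F23395) (iv1 F23396) (iv4 D6718) (iv3 F10946) (iv1 F26538)
theorem E3938 : n16351 = n3421 := (c21_3 (iv5 F21110) (iv1 F21114) D16351 D7495 (iv1 F26806) F26613 (iv5 F27118) F27119 (iv5 D14082) F26505 (iv1 F9441))
theorem E3939 : n7596 = n7494 := (((D7494).symm.trans (sb E3938 (iv5 D16351)))).symm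
theorem E3940 : n16009 = n3452 := (((iv1 F25505)).symm.trans (sb E3939 (iv1 D7596)))
theorem E3941 : n16008 = n12718 := ((F25504).symm.trans (sb E3939 F21114))
theorem E3947 : n7595 = n7489 := ((D7595).symm.trans (sb E3940 (iv1 D16009)))
theorem F27120 : act 1 n3452 = n7494 := (sb E3940 F25505)
theorem F27121 : act 0 n12718 = n7494 := (sb E3941 (iv1 F25504))
theorem F27122 : act 0 n7489 = n12718 := (sb E3947 (iv1 F21112))
theorem F27123 : act 1 n7489 = n3452 := (sb E3947 (iv0 D7595))
theorem F27124 : act 0 n16040 = n8147 := d17_2 (iv1 F20168) D16040 (iv5 D8147) F5696 (iv5 F5431) F27120 (iv5 D7494) F9295 (iv4 F20164)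
theorem E3952 : n12788 = n12663 := (c21_2 D6047 D12788 F21075 D12668 F26805 (iv6 D7495) D7494 (iv1 F27120) F5431 D3676 (iv1 F26770))
theorem F27125 : act 0 n12663 = n7840 := (sb E3952 (iv1 F21224))
theorem F27126 : act 1 n12663 = n6047 := (sb E3952 (iv0 D12788))
theorem E3953 : n12789 = n12644 := (c15_2 F27126 D12789 F21058 (iv2 F21074))
theorem F27127 : act 0 n12644 = n6047 := (sb E3953 (iv1 D12789))
theorem F27128 : act 1 n12644 = n7840 := (sb E3953 F21225)
def n16628 : Q := act 6 n7730
theorem D16628 : act 6 n7730 = n16628 := rfl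
def n16629 : Q := act 3 n7731
theorem D16629 : act 3 n7731 = n16629 := rfl
theorem F27129 : act 5 n16629 = n14527 := d6_2 (iv5 F12030) D16629 F24164
theorem F27130 : act 7 n16629 = n14526 := d8_2 F12031 D16629 F24163
def n16630 : Q := act 6 n7731
theorem D16630 : act 6 n7731 = n16630 := rfl
theorem F27131 : act 4 n16630 = n7732 := d10_1 D16630 (iv6 D7732) D7731
def n16631 : Q := act 0 n7732
theorem D16631 : act 0 n7732 = n16631 := rfl
def n16632 : Q := act 1 n7732
theorem D16632 : act 1 n7732 = n16632 := rfl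
theorem F27132 : act 5 n12738 = n16632 := d21_6 (iv5 D2528) (iv1 D1177) D1179 D2537 D6023 D12738 (iv1 D16632) F12032 (iv6 D3517) (iv1 F4025)
def n16633 : Q := act 7 n7732
theorem D16633 : act 7 n7732 = n16633 := rfl
theorem F27133 : act 5 n16633 = n7756 := d13_1 D16633 (iv7 D7756) (iv5 F12032)
theorem F27134 : act 1 n16403 = n16633 := d15_1 (iv0 F25895) (iv7 D16633) (iv2 F21210)
def n16634 : Q := act 6 n7733
theorem D16634 : act 6 n7733 = n16634 := rfl
theorem F27135 : act 4 n16634 = n14530 := d10_1 D16634 (iv6 D14530) (iv4 F12033)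
def n16635 : Q := act 6 n7735
theorem D16635 : act 6 n7735 = n16635 := rfl
theorem F27136 : act 2 n16635 = n7753 := d3_1 D16635 (iv6 D7753) F12042
theorem F27137 : act 3 n16635 = n15262 := d7_1 D16635 (iv6 D15262) (iv3 F12043)
theorem F27138 : act 4 n16635 = n15288 := d10_1 D16635 (iv6 D15288) (iv4 F12044)
def n16636 : Q := act 0 n7736
theorem D16636 : act 0 n7736 = n16636 := rfl
theorem F27139 : act 1 n7741 = n16636 := d15_0 (iv0 D16636) (iv7 F12047) (iv2 F12048)
def n16637 : Q := act 1 n7736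
theorem D16637 : act 1 n7736 = n16637 := rfl
def n16638 : Q := act 3 n7736
theorem D16638 : act 3 n7736 = n16638 := rfl
theorem F27141 : act 5 n16638 = n16229 := d6_2 (iv5 F25816) D16638 (iv3 D16229)
theorem F27142 : act 7 n16638 = n7742 := d8_2 F12047 D16638 (iv3 D7742)
def n16639 : Q := act 4 n7736
theorem D16639 : act 4 n7736 = n16639 := rfl
theorem F27143 : act 2 n16639 = n7738 := d1_1 D16639 (iv4 D7738) D7736
theorem F27144 : act 7 n16639 = n7743 := d11_2 F12047 D16639 (iv4 D7743)
def n16640 : Q := act 6 n7736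
theorem D16640 : act 6 n7736 = n16640 := rfl
theorem F27145 : act 2 n16640 = n7740 := d3_1 D16640 (iv6 D7740) D7736
def n16641 : Q := act 2 n7737
theorem D16641 : act 2 n7737 = n16641 := rfl
theorem F27146 : act 5 n16641 = n16235 := d2_2 (iv5 F25817) D16641 (iv2 D16235)
theorem F27147 : act 7 n15630 = n16641 := d15_2 F26843 D15630 (iv2 D16641)
def n16642 : Q := act 6 n7737
theorem D16642 : act 6 n7737 = n16642 := rfl
theorem F27148 : act 3 n16642 = n7740 := d7_1 D16642 (iv6 D7740) D7737
def n16643 : Q := act 7 n7737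
theorem D16643 : act 7 n7737 = n16643 := rfl
theorem F27149 : act 2 n16643 = n15630 := d4_1 D16643 F27147 (iv2 D16641)
theorem F27150 : act 3 n16643 = n7741 := d8_1 D16643 (iv7 D7741) D7737
theorem F27151 : act 5 n16643 = n16239 := d13_1 D16643 (iv7 D16239) (iv5 F25817)
theorem F27152 : act 2 n7742 = n15337 := d0_3 F27150 F12048 D7742 (iv3 F26835) (iv2 F27149)
theorem F27153 : act 5 n15337 = n16258 := d2_2 F25813 F27152 (iv2 D16258)
theorem E3954 : n16638 = n15338 := ((c15_2 (iv0 D15337) D15338 F27142 F27152)).symm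
theorem E3955 : n7746 = n7736 := (((iv3 F26844)).symm.trans (sb E3954 (iv3 D16638)))
theorem E3956 : n16229 = n13254 := (((F26845).symm.trans (sb E3954 F27141))).symm
theorem F27154 : act 7 n15338 = n7742 := (sb E3954 F27142)
theorem E3957 : n16636 = n3516 := ((D16636).symm.trans (sb E3955 (iv1 F12049)))
theorem E3958 : n16637 = n3514 := ((D16637).symm.trans (sb E3955 (iv0 D7746)))
theorem F27155 : act 3 n7736 = n15338 := (sb E3955 F26844)
theorem E3959 : n16639 = n7737 := ((D16639).symm.trans (sb E3955 (iv4 F12050)))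
theorem E3960 : n7566 = n6293 := ((F25816).symm.trans (sb E3955 F25819))
theorem F27156 : act 7 n13254 = n7572 := (sb E3956 F25777)
theorem E3961 : n7747 = n7741 := (((iv1 F12051)).symm.trans (sb E3957 (iv1 F27139)))
theorem F27157 : act 1 n3516 = n7736 := (sb E3957 (iv0 D16636))
theorem F27158 : act 0 n3514 = n7736 := (sb E3958 (iv1 D16637))
theorem E3962 : n16641 = n7738 := ((D16641).symm.trans (sb E3959 F27143))
theorem F27159 : act 4 n7737 = n7736 := (sb E3959 (iv4 D16639))
theorem E3963 : n16643 = n7743 := ((D16643).symm.trans (sb E3959 F27144))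
theorem E3966 : n13253 = n3445 := (((iv2 F22053)).symm.trans (sb E3960 (iv2 D7566)))
theorem E3967 : n16230 = n13255 := (((D13255).symm.trans (sb E3960 D16230))).symm
theorem F27160 : act 5 n6293 = n7736 := (sb E3960 (iv5 F25816))
theorem E3968 : n16232 = n13257 := (((D13257).symm.trans (sb E3960 D16232))).symm
theorem E3969 : n13248 = n3446 := ((F22052).symm.trans (sb E3960 (iv7 F11821)))
theorem F27161 : act 0 n7741 = n3514 := (sb E3961 (iv1 D7747))
theorem F27162 : act 1 n7741 = n3516 := (sb E3961 F12051)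
theorem F27163 : act 4 n7741 = n15630 := (sb E3961 F26834)
theorem E3970 : n7571 = n6292 := ((F25815).symm.trans (sb E3961 F25824))
theorem F27164 : act 2 n7738 = n7737 := (sb E3962 (iv2 D16641))
theorem F27165 : act 5 n7738 = n16235 := (sb E3962 F27146)
theorem F27166 : act 7 n7738 = n15630 := (sb E3962 (iv7 F27147))
theorem F27167 : act 2 n7743 = n15630 := (sb E3963 F27149)
theorem F27168 : act 3 n7743 = n7741 := (sb E3963 F27150)
theorem E3971 : n16239 = n13249 := ((((iv5 F25823)).symm.trans (sb E3963 F27151))).symm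
theorem F27169 : act 7 n7743 = n7737 := (sb E3963 (iv7 D16643))
theorem F27170 : act 2 n3445 = n6293 := (sb E3966 F22053)
theorem F27171 : act 2 n13255 = n7568 := (sb E3967 F25778)
theorem F27172 : act 7 n13255 = n7573 := (sb E3967 F25779)
theorem F27173 : act 2 n13257 = n7570 := (sb E3968 F25782)
theorem F27174 : act 7 n3446 = n6293 := (sb E3969 (iv7 F22052))
theorem F27175 : act 2 n6292 = n3446 := (sb E3970 F11822)
theorem E3972 : n16245 = n13250 := (((D13250).symm.trans (sb E3970 (iv4 F25804)))).symm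
theorem F27176 : act 5 n6292 = n7741 := (sb E3970 (iv5 F25815))
theorem E3973 : n16255 = n13252 := (((D13252).symm.trans (sb E3970 D16255))).symm
theorem F27177 : act 7 n6292 = n3445 := (sb E3970 (iv7 D7571))
theorem F27178 : act 7 n13249 = n7567 := (sb E3971 (iv7 D16239))
theorem F27179 : act 2 n13250 = n7573 := (sb E3972 F25803)
theorem F27180 : act 7 n13250 = n7568 := (sb E3972 (iv7 D16245))
theorem F27181 : act 2 n13252 = n7575 := (sb E3973 F25810)
theorem F27182 : act 7 n16236 = n13654 := d11_2 F27178 D16236 (iv4 F22810)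
theorem F27183 : act 1 n16235 = n16131 := d15_0 F25665 F27178 D16235
theorem F27184 : act 1 n16128 = n16235 := d15_0 F27183 F25664 (iv2 F25646)
theorem F27185 : act 2 n16236 = n13653 := d15_3 (iv0 D13653) D13654 (iv7 F27182)
theorem F27186 : act 4 n13653 = n16235 := d1_2 D16236 F27185 (iv2 D16235)
theorem F27187 : act 4 n16640 = n16642 := d10_3 (iv6 D16642) F27159 D16640
theorem F27188 : act 1 n16258 = n15656 := d15_0 (iv0 F26846) F27156 D16258
theorem F27189 : act 1 n15668 = n16258 := d15_0 F27188 (iv7 F25712) F25711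
theorem E3974 : n16257 = n15897 := ((c17_2 F11772 D15897 (iv1 D16257) F25813 (iv4 F24915) F27153 F27188 (iv5 D15656) F11812 F11794)).symm
theorem F27190 : act 0 n15897 = n7572 := (sb E3974 (iv1 D16257))
theorem F27191 : act 0 n16259 = n15375 := d18_2 F27190 D16259 (iv4 D15375) F24947 D7371 (iv0 F11813) F11808 (iv0 F11811) D15897
theorem E3975 : n16256 = n16184 := ((c15_4 (iv0 D16256) (iv0 F27190) (iv7 F25576) (iv2 F25711))).symm
theorem F27192 : act 1 n16184 = n7572 := (sb E3975 (iv0 D16256))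
theorem E3976 : n12549 = n12505 := ((c17_3 (iv1 D5945) D5947 D12505 (iv5 D12549) (iv4 F11782) D16184 F27192 F25813 (iv0 F26875) F12571)).symm
theorem F27193 : act 2 n12505 = n7265 := (sb E3976 F25556)
theorem F27194 : act 5 n12505 = n5965 := (sb E3976 (iv5 D12549))
theorem F27195 : act 7 n12505 = n7264 := (sb E3976 F25557)
theorem E3977 : n12553 = n12506 := (c15_4 F20833 F20832 F27195 (iv2 F25562))
theorem F27196 : act 2 n12506 = n7264 := (sb E3977 F25562)
theorem F27197 : act 5 n12506 = n5966 := (sb E3977 (iv5 D12553))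
theorem F27198 : act 7 n12506 = n7265 := (sb E3977 F25563)
theorem F27199 : act 0 n15362 = n13907 := d21_7 (iv5 F27197) (iv1 D12506) (iv5 D5947) F26467 (iv1 F9227) D7261 D15362 (iv5 D13907) F10704 (iv1 F9272)
theorem E3978 : n12561 = n12554 := (c21_5 D7260 F24909 (iv5 D5968) D5969 D12561 (iv6 D12554) (iv5 F27197) (iv1 D12506) (iv5 D5947) F26467 (iv1 F9227))
theorem F27200 : act 0 n12554 = n7629 := (sb E3978 F26800)
theorem F27201 : act 1 n12554 = n5969 := (sb E3978 (iv0 D12561))
theorem E3979 : n15662 = n12562 := ((c15_2 F27201 D12562 (iv7 D15662) (iv2 F25564))).symm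
theorem F27202 : act 7 n12562 = n7368 := (sb E3979 (iv7 D15662))
theorem E3980 : n15910 = n12746 := ((c20_4 F10533 (iv1 F5597) F12027 D12746 (iv1 D15910) (iv3 F25369) F25370 F27200 F11842 (iv3 D7629) (iv1 F11989))).symm
theorem F27203 : act 0 n12746 = n7459 := (sb E3980 (iv1 D15910))
theorem E3981 : n16423 = n15909 := (c15_4 (iv0 D15909) (iv0 F27203) F21152 D16423)
theorem F27204 : act 2 n15909 = n7615 := (sb E3981 (iv2 D16423))
theorem F27206 : act 1 n15362 = n13912 := d15_1 (iv0 F27199) (iv7 D13912) (iv2 F23170)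
theorem E3982 : n15659 = n12564 := (c21_5 D3339 D7264 F17284 D7368 D15659 F20924 (iv5 F23174) (iv1 F27206) (iv5 D15362) (iv6 D7261) (iv1 D3337))
theorem F27207 : act 1 n12564 = n7368 := (sb E3982 (iv0 D15659))
theorem E3983 : n15660 = n12556 := (c15_2 F27207 D15660 F26508 (iv2 F26799))
theorem F27208 : act 0 n12556 = n7368 := (sb E3983 (iv1 D15660))
theorem F27209 : act 0 n16302 = n15657 := d20_10 F25154 (iv1 F27207) F20923 F20922 (iv1 F9286) D7436 (iv4 F20959) F26983 (iv4 D16303) D16302
theorem F27210 : act 3 n12627 = n15657 := d20_5 F11585 (iv1 D3524) (iv4 F4027) (iv3 F9317) D12627 F25154 (iv1 F27207) F20923 F20922 (iv1 F9286)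
theorem F27211 : act 6 n15655 = n12627 := d7_0 F27210 (iv6 D15657) D15655
theorem E3984 : n12497 = n7375 := (c21_1 D12497 (iv1 F20910) (iv5 D12555) D12556 F27208 (iv6 D7368) (iv5 F17284) (iv1 F20828) (iv5 D12503) (iv6 F26467) D5944)
theorem E3985 : n15679 = n5944 := ((D15679).symm.trans (sb E3984 (iv5 D12497)))
theorem F27212 : act 5 n5944 = n7375 := (sb E3985 (iv5 D15679))
theorem F27213 : act 5 n15676 = n12494 := d2_2 F27212 D15676 (iv2 D12494)
theorem F27214 : act 5 n15677 = n12495 := d6_2 F27212 D15677 (iv3 D12495)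
theorem F27215 : act 5 n15681 = n12499 := d13_3 (iv7 D12499) F27212 D15681
theorem F27216 : act 3 n15678 = n10618 := d19_3 D5944 F27212 D15678 F17152 F14429 F6074 F3038 (iv1 F1769) (iv5 D639) F598 D611 F1124 F921 (iv4 F740) F739 (iv1 F678) D704 D1170 D2509
theorem F27217 : act 5 n10617 = n15678 := d6_0 F27216 (iv5 D10618) D10617
theorem F27218 : act 7 n10727 = n15678 := d8_0 F27216 F17151 (iv3 F17253)
theorem E3986 : n15681 = n7255 := (c11_3 F27218 (iv4 D15678) D15681 F17254)
theorem E3987 : n15329 = n7376 := (((iv2 F24907)).symm.trans (sb E3986 F25168))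
theorem E3988 : n12499 = n3336 := ((((iv5 D7255)).symm.trans (sb E3986 F27215))).symm
theorem E3989 : n15344 = n7375 := ((D15344).symm.trans (sb E3986 (iv7 D15681)))
theorem F27219 : act 2 n7376 = n7255 := (sb E3987 F24907)
theorem E3990 : n15684 = n7252 := ((D15684).symm.trans (sb E3987 (iv5 D15329)))
theorem E3991 : n15676 = n7260 := ((F25167).symm.trans (sb E3987 F24908))
theorem E3992 : n7252 = n5945 := ((D7252).symm.trans (sb E3988 F20823))
theorem E3993 : n7257 = n5944 := ((D7257).symm.trans (sb E3988 (iv7 D12499)))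
theorem F27220 : act 7 n7375 = n7255 := (sb E3989 (iv7 D15344))
theorem E3994 : n15684 = n5945 := (E3990).trans E3992
theorem E3995 : n12501 = n7376 := ((D12501).symm.trans (sb E3994 (iv5 D15684)))
theorem F27221 : act 2 n7260 = n7375 := (sb E3991 (iv2 D15676))
theorem E3996 : n12494 = n3337 := ((((iv5 D7260)).symm.trans (sb E3991 F27213))).symm
theorem F27222 : act 7 n7260 = n7376 := (sb E3991 (iv7 F25167))
theorem F27223 : act 2 n5945 = n3336 := (sb E3992 (iv2 D7252))
theorem E3999 : n15327 = n12500 := (((D12500).symm.trans (sb E3992 D15327))).symm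
theorem E4000 : n15328 = n7930 := ((((iv4 F12571)).symm.trans (sb E3992 D15328))).symm
theorem E4001 : n15330 = n12502 := (((D12502).symm.trans (sb E3992 D15330))).symm
theorem E4002 : n15336 = n12495 := (((D12495).symm.trans (sb E3993 (iv3 F24914)))).symm
theorem E4003 : n15342 = n12496 := (((D12496).symm.trans (sb E3993 (iv4 F24922)))).symm
theorem E4004 : n15349 = n12498 := (((D12498).symm.trans (sb E3993 D15349))).symm
theorem F27224 : act 7 n5944 = n3336 := (sb E3993 (iv7 D7257))
theorem F27225 : act 5 n7376 = n5945 := (sb E3995 (iv5 D12501))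
theorem F27226 : act 2 n3337 = n5944 := (sb E3996 (iv2 D12494))
theorem F27227 : act 7 n3337 = n5945 := (sb E3996 (iv7 F20821))
theorem F27228 : act 7 n12500 = n7258 := (sb E3999 F24903)
theorem F27229 : act 2 n7930 = n7254 := (sb E4000 F24904)
theorem E4005 : n12930 = n3591 := ((((iv3 D7930)).symm.trans (sb E4000 (iv3 F24906)))).symm
theorem F27230 : act 7 n7930 = n7259 := (sb E4000 F24905)
theorem F27231 : act 2 n12502 = n7256 := (sb E4001 F24911)
theorem F27232 : act 7 n12495 = n7253 := (sb E4002 (iv7 D15336))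
theorem F27233 : act 2 n12496 = n7259 := (sb E4003 F24921)
theorem F27234 : act 7 n12496 = n7254 := (sb E4003 (iv7 D15342))
theorem F27235 : act 2 n12498 = n7261 := (sb E4004 F24926)
theorem E4006 : n7929 = n6129 := ((D7929).symm.trans (sb E4005 F21489))
theorem E4007 : n7934 = n6128 := ((D7934).symm.trans (sb E4005 (iv7 D12930)))
theorem F27236 : act 2 n6129 = n3591 := (sb E4006 (iv2 D7929))
theorem E4008 : n12926 = n3592 := ((F21488).symm.trans (sb E4006 (iv7 F12570)))
theorem F27237 : act 7 n6128 = n3591 := (sb E4007 (iv7 D7934))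
theorem F27238 : act 2 n3592 = n6128 := (sb E4008 (iv2 D12926))
theorem F27239 : act 7 n3592 = n6129 := (sb E4008 (iv7 F21488))
theorem F27240 : act 7 n12931 = n7935 := d8_2 F27239 D12931 (iv3 D7935)
theorem F27241 : act 7 n12932 = n7936 := d11_2 F27239 D12932 (iv4 D7936)
theorem F27242 : act 7 n12933 = n7937 := d13_2 F27239 D12933 (iv5 D7937)
theorem F27243 : act 1 n12939 = n7935 := d15_1 F26661 (iv7 F27240) (iv2 F24917)
theorem F27244 : act 1 n7935 = n12935 := d15_1 F27243 F26775 F26782
theorem F27245 : act 2 n12936 = n7935 := d0_5 (iv3 D7935) F27238 F11569 (iv2 F27233) (iv3 F27037)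
theorem F27246 : act 2 n12927 = n7936 := d1_3 (iv4 D7936) F27238 D12927
theorem F27247 : act 2 n12928 = n7937 := d2_3 (iv5 D7937) F27238 D12928
theorem F27248 : act 2 n12929 = n7938 := d3_3 (iv6 D7938) F27238 D12929
theorem F27249 : act 7 n15339 = n12936 := d4_0 F27245 (iv7 F27240) (iv2 F24917)
theorem E4009 : n12937 = n12931 := (c15_2 (iv0 D12936) D12937 F27240 (iv2 F27245))
theorem F27250 : act 0 n12931 = n6131 := (sb E4009 (iv1 D12937))
theorem F27251 : act 1 n12931 = n12778 := (sb E4009 F26783)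
theorem F27252 : act 7 n7931 = n12927 := d11_2 F27237 D7931 (iv4 D12927)
theorem F27253 : act 7 n7932 = n12928 := d13_2 F27237 D7932 (iv5 D12928)
theorem F27254 : act 2 n12933 = n7932 := d4_3 F27253 F27247 (iv7 F27242)
theorem F27255 : act 2 n12932 = n7931 := d4_3 F27252 F27246 (iv7 F27241)
theorem F27256 : act 2 n7933 = n12934 := d3_3 (iv6 D12934) F27236 D7933
theorem F27257 : act 2 n15362 = n13909 := d2_3 (iv5 F26968) F27235 D15362
theorem F27258 : act 7 n8145 = n12143 := d11_2 F27232 F12914 (iv4 F20822)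
theorem F27259 : act 7 n15334 = n15677 := d13_2 F27232 D15334 F27214
theorem F27260 : act 2 n12143 = n8144 := d15_3 (iv0 D8144) D8145 F27258
theorem F27261 : act 2 n8145 = n12142 := d15_3 (iv0 D12142) D12143 (iv7 F27258)
theorem F27262 : act 4 n12142 = n15333 := d1_2 F12914 F27261 (iv2 D15333)
theorem F27263 : act 7 n12142 = n8144 := d4_2 (iv7 F27258) F27261 (iv2 F27260)
theorem F27264 : act 5 n12500 = n15682 := d6_2 F27225 D12500 (iv3 D15682)
theorem F27265 : act 7 n15682 = n15354 := d13_2 (iv7 F27228) F27264 (iv5 D15354)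
theorem F27266 : act 7 n15683 = n15358 := d11_2 F27222 D15683 (iv4 D15358)
theorem F27267 : act 2 n15678 = n15358 := d1_3 (iv4 D15358) F27221 D15678
theorem F27268 : act 2 n15680 = n15359 := d3_3 (iv6 D15359) F27221 D15680
theorem F27269 : act 2 n15683 = n10727 := d4_3 F27218 F27267 (iv7 F27266)
theorem F27270 : act 5 n10725 = n15683 := d2_0 F27269 (iv5 D10727) D10725
theorem F27271 : act 1 n15683 = n16188 := d15_0 F25722 (iv7 F27218) (iv2 F27269)
theorem F27272 : act 2 n15343 = n15685 := d3_3 (iv6 D15685) F27219 D15343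
theorem F27273 : act 4 n15378 = n15668 := d18_7 (iv1 F24923) (iv4 D7259) (iv1 D3337) F2589 D3339 D7266 D15378 F27189 (iv5 F27153)
theorem E4010 : n12725 = n12609 := (c20_5 F4487 F2892 (iv4 F4041) D6021 D12725 (iv3 F25162) (iv4 F27273) (iv1 D15378) (iv4 D7266) F5328 (iv1 F4490))
theorem F27274 : act 0 n12609 = n7588 := (sb E4010 (iv1 F21127))
theorem F27275 : act 1 n12609 = n6021 := (sb E4010 (iv0 D12725))
theorem E4011 : n12726 = n12614 := (c15_2 F27275 D12726 F25548 (iv2 F25536))
theorem F27276 : act 0 n12614 = n6021 := (sb E4011 (iv1 D12726))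
theorem F27277 : act 1 n12614 = n7588 := (sb E4011 F21132)
def n16644 : Q := act 3 n7738
theorem D16644 : act 3 n7738 = n16644 := rfl
theorem F27278 : act 2 n16644 = n15338 := d0_1 D16644 (iv3 F27155) (iv2 D7736) D7737 (iv2 F27164)
theorem F27279 : act 4 n16644 = n15338 := d5_2 D7738 D16644 (iv3 F27155) (iv4 F27159) (iv3 D7737)
theorem F27280 : act 7 n16644 = n15337 := d8_2 (iv7 F27166) D16644 (iv3 F26835)
theorem F27281 : act 0 n16644 = n7930 := d20_10 F12571 (iv1 D5945) F3973 (iv3 D2509) (iv1 F2668) D3466 F5440 D3512 D7738 D16644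
theorem F27282 : act 1 n16644 = n12496 := d15_1 (iv0 F27281) F27234 (iv2 F27229)
def n16645 : Q := act 6 n7738
theorem D16645 : act 6 n7738 = n16645 := rfl
theorem F27283 : act 2 n16645 = n16642 := d3_1 D16645 (iv6 D16642) (iv2 F27164)
theorem F27284 : act 4 n16645 = n7740 := d10_1 D16645 (iv6 D7740) D7738
def n16646 : Q := act 0 n7740
theorem D16646 : act 0 n7740 = n16646 := rfl
def n16647 : Q := act 1 n7740
theorem D16647 : act 1 n7740 = n16647 := rfl
def n16648 : Q := act 5 n7740
theorem D16648 : act 5 n7740 = n16648 := rfl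
theorem F27285 : act 6 n16648 = n16253 := d12_2 D7740 D16648 (iv5 D16253) (iv6 D7570) F25818
def n16649 : Q := act 7 n7740
theorem D16649 : act 7 n7740 = n16649 := rfl
def n16650 : Q := act 6 n7741
theorem D16650 : act 6 n7741 = n16650 := rfl
theorem F27286 : act 2 n16650 = n7745 := d3_1 D16650 (iv6 D7745) (iv2 F12048)
def n16651 : Q := act 6 n7742
theorem D16651 : act 6 n7742 = n16651 := rfl
theorem F27287 : act 3 n16651 = n7745 := d7_1 D16651 (iv6 D7745) D7742
def n16652 : Q := act 6 n7743
theorem D16652 : act 6 n7743 = n16652 := rfl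
theorem F27289 : act 4 n16652 = n7745 := d10_1 D16652 (iv6 D7745) D7743
def n16653 : Q := act 0 n7745
theorem D16653 : act 0 n7745 = n16653 := rfl
def n16654 : Q := act 1 n7745
theorem D16654 : act 1 n7745 = n16654 := rfl
def n16655 : Q := act 5 n7745
theorem D16655 : act 5 n7745 = n16655 := rfl
theorem F27290 : act 6 n16655 = n16266 := d12_2 D7745 D16655 (iv5 D16266) (iv6 D7575) (iv5 F25814)
def n16656 : Q := act 7 n7745
theorem D16656 : act 7 n7745 = n16656 := rfl
def n16657 : Q := act 0 n7751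
theorem D16657 : act 0 n7751 = n16657 := rfl
def n16658 : Q := act 1 n7751
theorem D16658 : act 1 n7751 = n16658 := rfl
def n16659 : Q := act 5 n7751
theorem D16659 : act 5 n7751 = n16659 := rfl
theorem F27291 : act 1 n16659 = n16276 := d17_6 (iv1 F9801) (iv5 F25814) (iv1 D3513) D3515 D7751 D16659 (iv5 D16276) F21947 F21943
def n16660 : Q := act 6 n7751
theorem D16660 : act 6 n7751 = n16660 := rfl
theorem F27292 : act 4 n16660 = n7752 := d10_1 D16660 (iv6 D7752) D7751
def n16661 : Q := act 0 n7752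
theorem D16661 : act 0 n7752 = n16661 := rfl
def n16662 : Q := act 1 n7752
theorem D16662 : act 1 n7752 = n16662 := rfl
def n16663 : Q := act 7 n7752
theorem D16663 : act 7 n7752 = n16663 := rfl
theorem F27293 : act 3 n16663 = n7756 := d8_1 D16663 (iv7 D7756) (iv3 F12054)
def n16664 : Q := act 0 n7753
theorem D16664 : act 0 n7753 = n16664 := rfl
def n16665 : Q := act 1 n7753
theorem D16665 : act 1 n7753 = n16665 := rfl
def n16666 : Q := act 5 n7753
theorem D16666 : act 5 n7753 = n16666 := rfl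
theorem F27294 : act 3 n16666 = n7759 := d6_1 D16666 (iv5 D7759) (iv3 F12055)
def n16667 : Q := act 2 n7754
theorem D16667 : act 2 n7754 = n16667 := rfl
theorem F27295 : act 7 n7755 = n16667 := d15_2 (iv0 D7754) D7755 (iv2 D16667)
def n16668 : Q := act 3 n7754
theorem D16668 : act 3 n7754 = n16668 := rfl
def n16669 : Q := act 4 n7754
theorem D16669 : act 4 n7754 = n16669 := rfl
def n16670 : Q := act 5 n7754
theorem D16670 : act 5 n7754 = n16670 := rfl
def n16671 : Q := act 6 n7754
theorem D16671 : act 6 n7754 = n16671 := rfl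
theorem F27296 : act 5 n16671 = n8772 := d21_6 F2629 F1633 D1551 D3517 D7754 D16671 (iv1 D8772) (iv5 D3917) (iv6 D1692) (iv1 F2628)
def n16672 : Q := act 7 n7754
theorem D16672 : act 7 n7754 = n16672 := rfl
theorem F27297 : act 2 n16672 = n7755 := d4_1 D16672 F27295 (iv2 D16667)
def n16673 : Q := act 3 n7755
theorem D16673 : act 3 n7755 = n16673 := rfl
def n16674 : Q := act 4 n7755
theorem D16674 : act 4 n7755 = n16674 := rfl
def n16675 : Q := act 5 n7755
theorem D16675 : act 5 n7755 = n16675 := rfl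
def n16676 : Q := act 6 n7755
theorem D16676 : act 6 n7755 = n16676 := rfl
def n16677 : Q := act 3 n7757
theorem D16677 : act 3 n7757 = n16677 := rfl
theorem F27298 : act 7 n16677 = n15269 := d8_2 (iv7 F12564) D16677 (iv3 D15269)
def n16678 : Q := act 5 n7757
theorem D16678 : act 5 n7757 = n16678 := rfl
theorem F27299 : act 2 n16678 = n15268 := d2_1 D16678 (iv5 D15268) (iv2 F12563)
theorem F27300 : act 7 n16678 = n15270 := d13_2 (iv7 F12564) D16678 (iv5 D15270)
theorem F27301 : act 0 n16678 = n15016 := d17_2 D7757 D16678 (iv5 D15016) (iv4 D7144) F9121 F9120 F5538 (iv0 D3519) (iv4 F5528)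
theorem F27302 : act 1 n16678 = n15018 := d17_6 F12568 (iv5 F12089) F12090 F10516 F12562 D16678 (iv5 D15018) F20666 F20664
def n16679 : Q := act 6 n7757
theorem D16679 : act 6 n7757 = n16679 := rfl
theorem F27303 : act 2 n16679 = n13687 := d3_1 D16679 F22849 (iv2 F12563)
theorem F27304 : act 4 n16679 = n7873 := d10_1 D16679 F12453 F12562
theorem F27305 : act 7 n16679 = n13683 := d14_2 (iv7 F12564) D16679 F22833 (iv7 F10867) (iv6 F12040)
theorem F27306 : act 0 n16679 = n12492 := d21_4 D15018 (iv1 F27302) (iv5 D16678) D16679 (iv6 D12492) D12491 (iv1 F24733) F24731 (iv6 F20665) (iv1 F20666)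
theorem F27307 : act 5 n16679 = n12750 := d21_6 D1507 (iv1 F4073) F4070 D3518 D7757 D16679 (iv1 D12750) (iv5 D6028) (iv6 D2538) (iv1 F2161)
theorem F27308 : act 0 n14901 = n16679 := d21_4 D3429 D7515 F11755 D14901 (iv6 D16679) D16678 F27301 (iv5 D15016) F11461 F11594
def n16680 : Q := act 3 n7758
theorem D16680 : act 3 n7758 = n16680 := rfl
theorem F27309 : act 6 n16680 = n14047 := d7_2 F12560 D16680 (iv3 D14047)
theorem F27310 : act 7 n16680 = n14849 := d8_2 F12561 D16680 F26796
theorem F27311 : act 0 n16680 = n12345 := d20_4 F12546 (iv1 F9431) (iv4 F12558) D16680 (iv3 D12345) (iv4 D5871) (iv1 D2466) D2467 D5873 (iv1 F26590)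
theorem F27312 : act 1 n16680 = n14850 := d15_1 (iv0 F27311) (iv7 F26728) (iv2 F26726)
theorem F27313 : act 2 n16680 = n14848 := d15_3 (iv0 D14848) D14849 (iv7 F27310)
theorem F27314 : act 6 n14848 = n12769 := d3_2 (iv6 F27309) F27313 (iv2 F26829)
def n16681 : Q := act 5 n7758
theorem D16681 : act 5 n7758 = n16681 := rfl
theorem F27315 : act 2 n16681 = n15270 := d2_1 D16681 (iv5 D15270) F12559
theorem F27316 : act 7 n16681 = n15268 := d13_2 F12561 D16681 (iv5 D15268)
theorem F27317 : act 0 n16681 = n15018 := d17_2 (iv1 F12058) D16681 (iv5 D15018) (iv4 D7146) (iv5 F9118) (iv0 D5894) F5532 F5530 (iv4 F11555)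
theorem F27318 : act 1 n16681 = n15016 := d17_6 D6448 (iv5 F12697) F12699 F9433 (iv4 F12558) D16681 (iv5 D15016) F20615 F5299
def n16682 : Q := act 4 n7759
theorem D16682 : act 4 n7759 = n16682 := rfl
theorem F27319 : act 2 n16682 = n15272 := d1_1 D16682 (iv4 D15272) (iv2 F12059)
def n16683 : Q := act 5 n7760
theorem D16683 : act 5 n7760 = n16683 := rfl
theorem F27320 : act 2 n16683 = n12350 := d2_1 D16683 (iv5 D12350) (iv2 F26592)
theorem F27321 : act 3 n16683 = n14879 := d6_1 D16683 (iv5 D14879) (iv3 F26593)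
theorem F27322 : act 7 n16683 = n14964 := d13_2 F26607 D16683 (iv5 D14964)
theorem F27323 : act 0 n16683 = n14967 := d17_2 (iv1 F12555) D16683 F26893 F20526 F12089 (iv0 F12568) (iv5 D7928) (iv0 D3588) (iv4 F5625)
theorem F27324 : act 1 n16683 = n14966 := d17_6 (iv1 F9126) (iv5 F9118) F9119 F5538 D7760 D16683 F26681 F26525 F26428
def n16684 : Q := act 6 n7762
theorem D16684 : act 6 n7762 = n16684 := rfl
theorem F27325 : act 2 n16684 = n12190 := d3_1 D16684 (iv6 D12190) (iv2 F12065)
def n16685 : Q := act 5 n7763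
theorem D16685 : act 5 n7763 = n16685 := rfl
theorem F27326 : act 2 n16685 = n12191 := d2_1 D16685 (iv5 D12191) (iv2 F12068)
def n16686 : Q := act 7 n7763
theorem D16686 : act 7 n7763 = n16686 := rfl
theorem F27327 : act 2 n16686 = n12192 := d4_1 D16686 (iv7 D12192) (iv2 F12068)
theorem F27328 : act 4 n16686 = n7766 := d11_1 D16686 (iv7 D7766) (iv4 F12069)
theorem F27329 : act 6 n16686 = n12184 := d14_1 D16686 (iv7 D12184) (iv6 D5777) (iv7 F5540) D7763
theorem F27330 : act 1 n12181 = n16686 := d15_1 (iv0 F20181) (iv7 D16686) F12068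
theorem F27331 : act 1 n16686 = n12180 := d15_1 F27330 F20178 (iv2 F20180)
def n16687 : Q := act 5 n7765
theorem D16687 : act 5 n7765 = n16687 := rfl
theorem F27332 : act 2 n16687 = n7911 := d2_1 D16687 F12661 F20138
theorem F27333 : act 3 n16687 = n16687 := d6_1 D16687 (iv5 D16687) F20142
theorem F27334 : act 7 n16687 = n13531 := d13_2 F20141 D16687 (iv5 F22682)
theorem F27335 : act 0 n16687 = n11269 := d21_1 D16687 F18350 (iv6 D6435) D6432 (iv6 F10476) (iv5 D6385) (iv1 F7655) (iv5 F18182) (iv6 F18262) (iv1 F18263)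
theorem F27336 : act 6 n16687 = n7883 := d21_3 F18261 (iv1 F18263) D16687 (iv1 F12484) (iv6 F9531) F9530 (iv1 F12482) (iv5 F26271) (iv6 F26284) (iv1 F18264)
theorem F27337 : act 0 n11205 = n16687 := d21_10 (iv5 D16687) (iv1 D7765) F5544 (iv6 D3522) F2710 (iv6 F3442) (iv5 D2114) D2112 D5133 D11205
def n16688 : Q := act 6 n7765
theorem D16688 : act 6 n7765 = n16688 := rfl
theorem F27338 : act 2 n16688 = n13547 := d3_1 D16688 F22709 F20138
theorem F27339 : act 3 n16688 = n16688 := d7_1 D16688 (iv6 D16688) F20142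
theorem F27340 : act 5 n16688 = n13548 := d12_1 D16688 (iv6 F26790) (iv5 F26789) (iv6 F27336) (iv5 D16687)
theorem F27341 : act 7 n16688 = n13548 := d14_2 F20141 D16688 (iv6 F26790) (iv7 F26283) (iv6 F18257)
theorem F27342 : act 0 n16688 = n13549 := d21_10 F22712 F21463 F12494 F12495 (iv1 F7768) D11296 F18429 F27337 (iv5 D16687) D16688
theorem F27343 : act 0 n11208 = n16688 := d21_4 F10474 F18198 (iv5 D11207) D11208 (iv6 D16688) D16687 F27335 F18350 (iv6 D6435) D6432
def n16689 : Q := act 5 n7774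
theorem D16689 : act 5 n7774 = n16689 := rfl
theorem F27344 : act 7 n16689 = n8441 := d13_2 (iv7 F16799) D16689 (iv5 D8441)
theorem F27345 : act 0 n7780 = n16689 := d21_7 (iv5 F9781) (iv1 F9784) (iv5 D3782) F16797 (iv1 D3527) D3529 D7780 (iv5 D16689) (iv6 D7774) (iv1 F5906)
def n16690 : Q := act 1 n7777
theorem D16690 : act 1 n7777 = n16690 := rfl
theorem F27346 : act 1 n16690 = n7781 := d15_1 D16690 (iv7 D7781) (iv2 F12248)
theorem F27347 : act 7 n16690 = n7778 := d15_2 (iv0 F14687) D16690 (iv2 F14734)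
theorem F27348 : act 3 n12881 = n16690 := d20_3 (iv4 F21359) (iv1 F21361) D12881 (iv1 D16690) (iv3 F13793) F13794 F17007 F21531 (iv3 D8075) (iv1 F12861)
theorem F27349 : act 6 n16690 = n16690 := d7_2 F21387 F27348 (iv3 F27348)
theorem F27350 : act 2 n7779 = n16690 := d4_3 F27347 (iv2 F14734) F14733
def n16691 : Q := act 5 n7777
theorem D16691 : act 5 n7777 = n16691 := rfl
theorem F27351 : act 2 n16691 = n7780 := d2_1 D16691 (iv5 D7780) (iv2 F12248)
theorem F27352 : act 1 n16691 = n8441 := d17_6 F16806 D4595 F13939 (iv5 D8964) (iv4 F12249) D16691 (iv5 D8441) (iv0 F16845) (iv4 D5067)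
def n16692 : Q := act 7 n7777
theorem D16692 : act 7 n7777 = n16692 := rfl
theorem F27353 : act 2 n16692 = n7781 := d4_1 D16692 (iv7 D7781) (iv2 F12248)
theorem F27354 : act 4 n16692 = n8965 := d11_1 D16692 (iv7 D8965) (iv4 F12249)
theorem F27355 : act 6 n16692 = n10268 := d14_1 D16692 F16962 F16812 F5905 D7777
theorem F27356 : act 1 n7779 = n16692 := d15_1 D7779 (iv7 D16692) F12248
theorem F27357 : act 1 n16692 = n7778 := d15_1 F27356 (iv7 F27347) (iv2 F27350)
def n16693 : Q := act 3 n7778
theorem D16693 : act 3 n7778 = n16693 := rfl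
theorem F27358 : act 6 n16693 = n8390 := d7_2 (iv6 F16874) D16693 F13185
theorem F27359 : act 7 n16693 = n12881 := d8_2 F27347 D16693 F27348
theorem F27360 : act 4 n16693 = n8392 := d20_6 (iv4 F4112) (iv1 D1729) (iv4 F2714) (iv3 F5554) D7778 D16693 (iv1 F21353) F9486 F5671 (iv1 F4109)
theorem F27361 : act 2 n12879 = n16693 := d1_3 F27360 (iv2 F16904) D12879
def n16694 : Q := act 5 n7778
theorem D16694 : act 5 n7778 = n16694 := rfl
theorem F27362 : act 0 n11084 = n16694 := d21_1 D11084 (iv5 D16694) F16874 (iv1 F6776) (iv6 D4661) D4660 (iv1 F6739) (iv5 F6932) D8863 F13814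
def n16695 : Q := act 3 n7779
theorem D16695 : act 3 n7779 = n16695 := rfl
theorem F27363 : act 4 n16695 = n9157 := d5_2 F14630 D16695 (iv3 F17570) (iv4 D9410) D9409
theorem F27364 : act 6 n16695 = n16695 := d7_2 F14717 D16695 (iv3 D16695)
theorem F27365 : act 0 n9591 = n16695 := d20_1 D9591 F27363 (iv3 F17570) (iv1 F17578) F15058 F14265 F17514 (iv4 D9570) F6199 (iv1 F6213)
theorem E4012 : n9590 = n9468 := ((c20_5 F15059 F17400 (iv4 D4289) D4288 D9468 (iv3 D9590) D9591 F27365 F27363 (iv3 F17570) (iv1 F17578))).symm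
theorem F27366 : act 3 n9468 = n4323 := (sb E4012 (iv3 D9590))
theorem F27367 : act 6 n9468 = n9106 := (sb E4012 F17536)
theorem F27368 : act 7 n9468 = n9329 := (sb E4012 (iv7 F17531))
theorem F27369 : act 1 n8922 = n16695 := d15_0 (iv0 F27365) (iv7 F17532) F14518
theorem F27370 : act 0 n8918 = n9405 := d20_10 (iv4 F17568) (iv1 F17565) (iv4 D9646) D9645 F17571 F17570 (iv4 F27363) (iv1 F27369) F13897 (iv3 F13883)
def n16696 : Q := act 5 n7779
theorem D16696 : act 5 n7779 = n16696 := rfl
theorem F27371 : act 0 n16696 = n11084 := d17_2 (iv1 F27356) D16696 (iv5 D11084) (iv4 D5067) D5068 F16897 (iv5 D8974) F13944 (iv4 F27354)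
def n16697 : Q := act 4 n7780
theorem D16697 : act 4 n7780 = n16697 := rfl
def n16698 : Q := act 3 n7782
theorem D16698 : act 3 n7782 = n16698 := rfl
def n16699 : Q := act 5 n7784
theorem D16699 : act 5 n7784 = n16699 := rfl
theorem F27372 : act 2 n16699 = n8302 := d2_1 D16699 (iv5 F13459) F12828
theorem F27373 : act 3 n16699 = n13095 := d6_1 D16699 F21843 F12843
theorem F27374 : act 7 n16699 = n10466 := d13_2 (iv7 F12801) D16699 (iv5 F16663)
theorem F27375 : act 0 n16699 = n10469 := d17_2 F12973 D16699 F16672 F6871 D8868 F16667 (iv5 F13459) F14306 F14305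
theorem F27376 : act 1 n16699 = n10441 := d17_6 (iv1 D2609) D2611 D6213 F14048 D7784 D16699 (iv5 D10441) (iv0 F9629) F9627
theorem F27377 : act 4 n16699 = n13057 := d18_5 (iv1 D3533) F2715 D3532 D7784 D16699 (iv0 D13057) (iv4 D6215) D6214 F14051
def n16700 : Q := act 6 n7788
theorem D16700 : act 6 n7788 = n16700 := rfl
theorem F27378 : act 3 n16700 = n7790 := d7_1 D16700 (iv6 D7790) D7788
theorem F27379 : act 7 n16700 = n8487 := d14_2 F13788 D16700 (iv6 D8487) F13082 F16998
def n16701 : Q := act 5 n7790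
theorem D16701 : act 5 n7790 = n16701 := rfl
theorem F27380 : act 7 n16701 = n8492 := d13_2 F16989 D16701 (iv5 D8492)
theorem F27381 : act 0 n16701 = n8839 := d21_1 D16701 F13740 F12899 (iv1 F16996) (iv6 D6207) D6206 F14053 F5855 D7791 (iv1 F13732)
def n16702 : Q := act 5 n7791
theorem D16702 : act 5 n7791 = n16702 := rfl
theorem F27382 : act 2 n16702 = n7794 := d2_1 D16702 (iv5 D7794) (iv2 F12256)
def n16703 : Q := act 4 n7792
theorem D16703 : act 4 n7792 = n16703 := rfl
theorem F27383 : act 2 n16703 = n8026 := d1_1 D16703 F12805 (iv2 F14297)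
theorem F27384 : act 6 n16703 = n8024 := d10_2 (iv6 F14298) D16703 (iv4 F12831)
theorem F27385 : act 7 n16703 = n13043 := d11_2 F16997 D16703 F21738
theorem F27386 : act 1 n10832 = n13043 := d15_1 (iv0 F17375) (iv7 F27385) F27383
theorem F27387 : act 0 n13199 = n12965 := d20_1 D13199 (iv4 F21839) F21838 (iv1 F27386) (iv3 D10832) (iv4 D4938) (iv1 F6023) (iv4 F12264) (iv3 F12738) (iv1 F12741)
theorem F27388 : act 1 n13196 = n12965 := d15_0 (iv0 F27387) F21981 (iv2 F21975)
def n16704 : Q := act 5 n7792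
theorem D16704 : act 5 n7792 = n16704 := rfl
theorem F27389 : act 2 n16704 = n16701 := d2_1 D16704 (iv5 D16701) (iv2 F14297)
theorem F27390 : act 7 n16704 = n13046 := d13_2 F16997 D16704 (iv5 D13046)
theorem F27391 : act 0 n8859 = n16704 := d21_7 (iv5 F5855) (iv1 F14056) (iv5 D6210) (iv6 F16983) (iv1 D3945) D3947 D8859 (iv5 D16704) F14298 (iv1 F5887)
def n16705 : Q := act 0 n7794
theorem D16705 : act 0 n7794 = n16705 := rfl
def n16706 : Q := act 1 n7794
theorem D16706 : act 1 n7794 = n16706 := rfl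
theorem F27392 : act 5 n8524 = n16706 := d21_0 (iv1 D16706) (iv5 D7794) (iv6 D3535) D3532 F16982 D3794 F14293 F9765 D8856 F17007
def n16707 : Q := act 4 n7794
theorem D16707 : act 4 n7794 = n16707 := rfl
def n16708 : Q := act 3 n7795
theorem D16708 : act 3 n7795 = n16708 := rfl
def n16709 : Q := act 4 n7796
theorem D16709 : act 4 n7796 = n16709 := rfl
theorem F27393 : act 2 n16709 = n7831 := d1_1 D16709 F12383 (iv2 F12259)
theorem F27394 : act 5 n16709 = n9228 := d9_2 D7796 D16709 (iv4 D9228) (iv5 D4175) (iv4 D1784) (iv5 D938) (iv4 F1593) D1565 D3553 D7829 (iv4 F17247) F17246 (iv4 D9144) (iv5 D4103) (iv4 F5565)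
theorem F27395 : act 7 n16709 = n7818 := d11_2 (iv7 F12260) D16709 (iv4 D7818)
theorem F27396 : act 0 n16709 = n7827 := d18_2 (iv1 F12261) D16709 (iv4 F12379) (iv5 D4728) (iv4 D1958) F6541 (iv4 F1656) (iv0 F6432) (iv5 F7218)
theorem F27397 : act 1 n16709 = n7826 := d18_6 (iv1 D4119) (iv4 D1771) D1768 (iv4 F5565) D7796 D16709 F12375 (iv0 F13371) (iv5 F13369)
def n16710 : Q := act 6 n7796
theorem D16710 : act 6 n7796 = n16710 := rfl
theorem F27398 : act 2 n16710 = n7835 := d3_1 D16710 (iv6 D7835) (iv2 F12259)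
def n16711 : Q := act 5 n7797
theorem D16711 : act 5 n7797 = n16711 := rfl
theorem F27399 : act 2 n16711 = n7837 := d2_1 D16711 (iv5 D7837) (iv2 F12263)
theorem F27400 : act 7 n16711 = n8545 := d13_2 (iv7 F12265) D16711 (iv5 D8545)
theorem F27401 : act 1 n16711 = n7811 := d17_6 (iv1 F17458) D4131 F14247 (iv5 D9146) (iv4 F12264) D16711 (iv5 D7811) F17500 F5689
theorem F27402 : act 0 n16711 = n8686 := d21_1 D16711 (iv5 F17497) F17498 (iv1 D3891) (iv6 D1686) (iv5 F2864) (iv1 F5841) F12297 F12295 F12266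
def n16712 : Q := act 6 n7800
theorem D16712 : act 6 n7800 = n16712 := rfl
theorem F27403 : act 3 n16712 = n7802 := d7_1 D16712 (iv6 D7802) D7800
def n16713 : Q := act 5 n7802
theorem D16713 : act 5 n7802 = n16713 := rfl
theorem F27404 : act 2 n16713 = n7811 := d2_1 D16713 (iv5 D7811) (iv2 F12336)
theorem F27405 : act 7 n16713 = n8686 := d13_2 F17499 D16713 (iv5 F17497)
theorem F27406 : act 0 n16713 = n7837 := d17_2 (iv1 F17489) D16713 (iv5 D7837) F5579 D4184 (iv0 F14255) (iv5 D9150) (iv0 F17461) (iv4 F12904)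
theorem F27407 : act 0 n8545 = n16713 := d21_7 (iv5 F5577) F6938 (iv5 D1671) F7172 D1667 D3815 D8545 (iv5 D16713) (iv6 D7802) (iv1 F12287)
def n16714 : Q := act 5 n7804
theorem D16714 : act 5 n7804 = n16714 := rfl
theorem F27408 : act 2 n16714 = n8503 := d2_1 D16714 (iv5 F13787) F13785
theorem F27409 : act 3 n16714 = n12944 := d6_1 D16714 (iv5 D12944) F12337
theorem F27410 : act 7 n16714 = n8550 := d13_2 (iv7 F12815) D16714 F13306
theorem F27411 : act 0 n16714 = n7820 := d17_2 (iv1 F12769) D16714 F12364 F6434 (iv5 F13317) F13130 F13126 F9466 D7988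
theorem E4013 : n8549 = n8503 := ((c15_4 (iv0 D8549) D8550 (iv7 F27410) F27408)).symm
theorem F27412 : act 1 n8503 = n3825 := (sb E4013 (iv0 D8549))
theorem F27413 : act 0 n8548 = n16714 := d17_2 F9670 D8548 (iv5 D16714) (iv4 F13786) F13787 F27412 (iv5 D3825) D3823 (iv4 F9669)
def n16715 : Q := act 6 n7805
theorem D16715 : act 6 n7805 = n16715 := rfl
theorem F27414 : act 2 n16715 = n7806 := d3_1 D16715 (iv6 D7806) D7805
theorem F27415 : act 4 n16715 = n12861 := d10_1 D16715 (iv6 D12861) F12344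
def n16716 : Q := act 0 n7806
theorem D16716 : act 0 n7806 = n16716 := rfl
def n16717 : Q := act 1 n7806
theorem D16717 : act 1 n7806 = n16717 := rfl
def n16718 : Q := act 5 n7806
theorem D16718 : act 5 n7806 = n16718 := rfl
theorem F27416 : act 3 n16718 = n7811 := d6_1 D16718 (iv5 D7811) (iv3 F12338)
def n16719 : Q := act 7 n7806
theorem D16719 : act 7 n7806 = n16719 := rfl
theorem F27417 : act 3 n16719 = n7812 := d8_1 D16719 (iv7 D7812) (iv3 F12338)
theorem F27418 : act 4 n12901 = n16719 := d20_8 F12904 F17461 (iv4 F14251) F14250 F17514 (iv3 F14927) F12882 (iv1 F21417) F27417 F17486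
theorem F27419 : act 7 n7993 = n12901 := d11_0 F27418 (iv7 D16719) (iv4 F12775)
theorem F27420 : act 2 n12901 = n8111 := d4_1 F27419 F21419 F21340
theorem F27421 : act 6 n12901 = n8262 := d14_1 F27419 F13771 F13588 (iv7 F12341) D7993
theorem E4014 : n12900 = n12861 := ((c15_4 (iv0 D12900) D12901 (iv7 F27419) (iv2 F21340))).symm
theorem F27422 : act 0 n12861 = n8113 := (sb E4014 (iv1 F21411))
theorem F27423 : act 1 n12861 = n6115 := (sb E4014 (iv0 D12900))
def n16720 : Q := act 0 n7808
theorem D16720 : act 0 n7808 = n16720 := rfl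
theorem F27424 : act 4 n16720 = n10544 := d20_2 (iv4 F12346) D16720 F17595 (iv1 F21353) F9485 F4116 (iv1 F2242) D1612 D3664 (iv1 F17500)
theorem F27425 : act 2 n9405 = n16720 := d15_3 (iv0 D16720) F17516 (iv7 F14720)
theorem F27426 : act 3 n16720 = n9470 := d0_2 D9405 F27425 (iv2 D9470) (iv3 D4288) F14719
theorem F27427 : act 6 n16720 = n8584 := d3_2 (iv6 F16857) F27425 F17471
theorem F27428 : act 7 n16720 = n9490 := d4_2 (iv7 F14720) F27425 (iv2 D9490)
theorem F27429 : act 1 n8918 = n9490 := d15_1 (iv0 F27370) (iv7 F27428) (iv2 F27425)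
theorem F27430 : act 0 n16712 = n12879 := d20_10 (iv4 D12879) (iv1 F21362) F21359 (iv3 F21358) (iv1 F21361) F17597 F17591 (iv1 F27429) F13884 (iv3 F27403)
theorem F27431 : act 1 n16712 = n12881 := d15_1 (iv0 F27430) (iv7 F27359) (iv2 F27361)
theorem F27432 : act 1 n9489 = n16720 := d15_1 D9489 F27428 (iv2 D9490)
def n16721 : Q := act 5 n7808
theorem D16721 : act 5 n7808 = n16721 := rfl
theorem F27433 : act 1 n16721 = n9499 := d17_6 (iv1 D3891) D3892 F12347 (iv5 D7811) (iv4 F12346) D16721 F16790 F14569 (iv4 D8683)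
theorem F27434 : act 4 n16721 = n10843 := d18_5 (iv1 D4341) (iv4 F5689) (iv1 F17500) (iv4 F12346) D16721 (iv0 D10843) (iv4 D4945) D4944 F17502
def n16722 : Q := act 7 n7808
theorem D16722 : act 7 n7808 = n16722 := rfl
theorem F27435 : act 2 n16722 = n9489 := d4_1 D16722 F17545 F13882
theorem F27436 : act 4 n16722 = n7812 := d11_1 D16722 (iv7 D7812) (iv4 F12346)
theorem F27437 : act 6 n16722 = n9697 := d14_1 D16722 F15132 F13592 F12303 D7808
theorem F27438 : act 1 n9490 = n16722 := d15_1 F27429 (iv7 D16722) (iv2 F13882)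
theorem F27439 : act 1 n16722 = n9405 := d15_1 F27438 F14720 D9490
def n16723 : Q := act 5 n7809
theorem D16723 : act 5 n7809 = n16723 := rfl
theorem F27440 : act 2 n16723 = n9616 := d2_1 D16723 (iv5 D9616) (iv2 F17454)
theorem F27441 : act 0 n16723 = n7817 := d21_1 D16723 (iv5 D7817) (iv6 D3547) (iv1 D1563) F1594 D892 D1681 F7229 D3542 D7809
def n16724 : Q := act 4 n7811
theorem D16724 : act 4 n7811 = n16724 := rfl
def n16725 : Q := act 7 n7811
theorem D16725 : act 7 n7811 = n16725 := rfl
theorem F27442 : act 2 n16725 = n8686 := d4_1 D16725 (iv7 F27405) F27404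
theorem F27443 : act 5 n16725 = n7812 := d13_1 D16725 (iv7 D7812) D7811
theorem F27444 : act 1 n8545 = n16725 := d15_1 (iv0 F27407) (iv7 D16725) (iv2 F27404)
theorem F27445 : act 1 n16725 = n7837 := d15_1 F27444 F12394 (iv2 F13303)
def n16726 : Q := act 6 n7813
theorem D16726 : act 6 n7813 = n16726 := rfl
theorem F27446 : act 2 n16726 = n7815 := d3_1 D16726 (iv6 D7815) D7813
theorem F27447 : act 4 n16726 = n12799 := d10_1 D16726 (iv6 D12799) (iv4 F12350)
theorem F27448 : act 0 n16726 = n8200 := d21_4 D12987 (iv1 F21593) F13542 D16726 (iv6 D8200) D8199 (iv1 F13418) F12369 F7188 F9598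
theorem F27449 : act 0 n12988 = n16726 := d21_4 (iv5 F13510) (iv1 F21590) (iv5 D12987) D12988 (iv6 D16726) (iv5 F13542) (iv1 F16295) (iv5 D10285) (iv6 F16741) (iv1 F12309)
def n16727 : Q := act 6 n7814
theorem D16727 : act 6 n7814 = n16727 := rfl
theorem F27450 : act 2 n16727 = n12799 := d3_1 D16727 (iv6 D12799) (iv2 F12351)
theorem F27451 : act 3 n16727 = n9104 := d7_1 D16727 F14166 (iv3 F12352)
theorem F27452 : act 4 n16727 = n7815 := d10_1 D16727 (iv6 D7815) D7814
theorem F27453 : act 0 n16727 = n12946 := d21_4 D8278 (iv1 F21929) F21928 D16727 (iv6 D12946) (iv5 F13466) (iv1 F21262) F21260 F9709 (iv1 F9711)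
theorem F27454 : act 0 n8279 = n16727 := d21_4 (iv5 F21895) (iv1 F21897) (iv5 D8278) D8279 (iv6 D16727) (iv5 F21928) (iv1 F21930) (iv5 D8291) (iv6 F16981) (iv1 F12796)
theorem F27455 : act 1 n8279 = n13198 := d15_1 (iv0 F27454) F21980 (iv2 F27450)
theorem F27456 : act 1 n13198 = n12946 := d15_1 F27455 (iv7 F21565) F21563
def n16728 : Q := act 5 n7815
theorem D16728 : act 5 n7815 = n16728 := rfl
theorem F27457 : act 3 n16728 = n7817 := d6_1 D16728 (iv5 D7817) (iv3 F12356)
def n16729 : Q := act 5 n7816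
theorem D16729 : act 5 n7816 = n16729 := rfl
theorem F27458 : act 3 n16729 = n9105 := d6_1 D16729 (iv5 D9105) (iv3 F12357)
theorem F27459 : act 0 n16729 = n9492 := d21_1 D16729 (iv5 D9492) F14703 (iv1 F17516) (iv6 D7808) (iv5 F7317) (iv1 F13382) (iv5 D8554) D8555 F16786
def n16730 : Q := act 4 n7817
theorem D16730 : act 4 n7817 = n16730 := rfl
def n16731 : Q := act 3 n7818
theorem D16731 : act 3 n7818 = n16731 := rfl
def n16732 : Q := act 5 n7818
theorem D16732 : act 5 n7818 = n16732 := rfl
theorem F27460 : act 2 n16732 = n7829 := d2_1 D16732 (iv5 D7829) (iv2 F12359)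
theorem F27461 : act 7 n16732 = n9228 := d13_2 F27395 D16732 (iv5 F27394)
theorem F27462 : act 4 n16732 = n9230 := d16_2 D7818 D16732 F14429 F6074 F3039 (iv4 F2722) (iv5 F5577) (iv7 D3555) (iv2 F5573)
def n16733 : Q := act 6 n7818
theorem D16733 : act 6 n7818 = n16733 := rfl
theorem F27463 : act 2 n16733 = n7830 := d3_1 D16733 (iv6 D7830) (iv2 F12359)
theorem F27464 : act 4 n16733 = n7819 := d10_1 D16733 (iv6 D7819) D7818
def n16734 : Q := act 0 n7819
theorem D16734 : act 0 n7819 = n16734 := rfl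
def n16735 : Q := act 1 n7819
theorem D16735 : act 1 n7819 = n16735 := rfl
theorem F27465 : act 1 n16735 = n7834 := d15_1 D16735 (iv7 D7834) (iv2 F12362)
def n16736 : Q := act 7 n7819
theorem D16736 : act 7 n7819 = n16736 := rfl
theorem F27466 : act 2 n16736 = n7834 := d4_1 D16736 (iv7 D7834) (iv2 F12362)
theorem F27467 : act 5 n16736 = n8616 := d13_1 D16736 (iv7 D8616) (iv5 F12363)
theorem F27468 : act 1 n7834 = n16734 := d15_0 (iv0 D16734) D16736 F27466
theorem F27469 : act 1 n7833 = n16736 := d15_1 D7833 (iv7 D16736) F12362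
theorem F27470 : act 1 n16736 = n7832 := d15_0 (iv0 D7832) D7834 (iv2 F27466)
def n16737 : Q := act 2 n7820
theorem D16737 : act 2 n7820 = n16737 := rfl
theorem F27471 : act 3 n16737 = n8571 := d0_2 D7820 D16737 F13411 F5835 (iv2 F7217)
theorem F27472 : act 5 n16737 = n8268 := d2_2 (iv5 F12364) D16737 F13050
theorem F27473 : act 7 n16737 = n8548 := d4_2 (iv7 F12365) D16737 F13304
theorem F27474 : act 1 n16737 = n8503 := d15_0 F27412 (iv7 F12365) D16737
theorem F27475 : act 1 n8550 = n16737 := d15_0 F27474 (iv7 F21771) F21769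
def n16738 : Q := act 4 n7820
theorem D16738 : act 4 n7820 = n16738 := rfl
theorem F27476 : act 7 n16738 = n8551 := d11_2 (iv7 F12365) D16738 (iv4 D8551)
theorem F27477 : act 0 n16738 = n7998 := d18_2 F27411 D16738 (iv4 D7998) (iv5 D3619) F2771 D3617 (iv4 F5653) D7804 D16714
def n16739 : Q := act 6 n7820
theorem D16739 : act 6 n7820 = n16739 := rfl
theorem F27478 : act 3 n16739 = n7822 := d7_1 D16739 (iv6 D7822) D7820
def n16740 : Q := act 3 n7821
theorem D16740 : act 3 n7821 = n16740 := rfl
theorem F27479 : act 7 n16740 = n8564 := d8_2 (iv7 F12367) D16740 (iv3 D8564)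
def n16741 : Q := act 5 n7821
theorem D16741 : act 5 n7821 = n16741 := rfl
theorem F27480 : act 2 n16741 = n8587 := d2_1 D16741 (iv5 D8587) (iv2 F12366)
theorem F27481 : act 7 n16741 = n8565 := d13_2 (iv7 F12367) D16741 (iv5 D8565)
theorem F27482 : act 4 n16741 = n9222 := d16_2 D7821 D16741 (iv5 D9222) (iv4 F7185) (iv5 D4030) (iv4 F6424) F7170 F7168 (iv2 F7217)
def n16742 : Q := act 6 n7821
theorem D16742 : act 6 n7821 = n16742 := rfl
theorem F27483 : act 2 n16742 = n8588 := d3_1 D16742 (iv6 D8588) (iv2 F12366)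
theorem F27484 : act 4 n16742 = n7822 := d10_1 D16742 (iv6 D7822) D7821
def n16743 : Q := act 0 n7822
theorem D16743 : act 0 n7822 = n16743 := rfl
def n16744 : Q := act 1 n7822
theorem D16744 : act 1 n7822 = n16744 := rfl
theorem F27485 : act 1 n16744 = n8592 := d15_1 D16744 (iv7 D8592) (iv2 F12368)
def n16745 : Q := act 5 n7822
theorem D16745 : act 5 n7822 = n16745 := rfl
theorem F27486 : act 2 n16745 = n8591 := d2_1 D16745 (iv5 D8591) (iv2 F12368)
theorem F27487 : act 6 n16745 = n8570 := d12_2 D7822 D16745 (iv5 D8570) (iv6 D3843) (iv5 F7218)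
def n16746 : Q := act 7 n7822
theorem D16746 : act 7 n7822 = n16746 := rfl
theorem F27488 : act 2 n16746 = n8592 := d4_1 D16746 (iv7 D8592) (iv2 F12368)
theorem F27489 : act 6 n16746 = n8569 := d14_1 D16746 (iv7 D8569) (iv6 D3837) (iv7 F7219) D7822
theorem F27490 : act 1 n8592 = n16743 := d15_0 (iv0 D16743) D16746 F27488
theorem F27491 : act 1 n8590 = n16746 := d15_1 D8590 (iv7 D16746) F12368
theorem F27492 : act 1 n16746 = n8589 := d15_0 (iv0 D8589) D8592 (iv2 F27488)
def n16747 : Q := act 2 n7823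
theorem D16747 : act 2 n7823 = n16747 := rfl
theorem F27493 : act 3 n16747 = n8548 := d0_2 D7823 D16747 F13304 F5817 F7169
theorem F27494 : act 5 n16747 = n8342 := d2_2 (iv5 F12369) D16747 (iv2 F13158)
theorem F27495 : act 7 n16747 = n8571 := d4_2 (iv7 F12370) D16747 F13411
theorem F27496 : act 1 n16747 = n8575 := d15_0 (iv0 D8575) (iv7 F12370) D16747
theorem F27497 : act 1 n8453 = n16747 := d15_0 F27496 (iv7 F13480) F13258
def n16748 : Q := act 4 n7823
theorem D16748 : act 4 n7823 = n16748 := rfl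
theorem F27498 : act 7 n16748 = n8576 := d11_2 (iv7 F12370) D16748 (iv4 D8576)
theorem F27499 : act 0 n16748 = n8044 := d18_2 (iv1 F13418) D16748 (iv4 D8044) (iv5 D3636) D3635 (iv0 F12354) (iv4 D7814) F12204 D8199
theorem F27500 : act 1 n16748 = n8033 := d18_6 D2601 D6182 F9630 (iv4 F6430) (iv5 F12369) D16748 (iv4 D8033) (iv0 F13327) (iv5 D2604)
def n16749 : Q := act 6 n7823
theorem D16749 : act 6 n7823 = n16749 := rfl
theorem F27501 : act 3 n16749 = n7825 := d7_1 D16749 (iv6 D7825) D7823
theorem F27502 : act 5 n16749 = n16749 := d12_1 D16749 (iv6 D16749) F12369 F7188 (iv5 F12369)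
def n16750 : Q := act 3 n7824
theorem D16750 : act 3 n7824 = n16750 := rfl
theorem F27503 : act 7 n16750 = n8586 := d8_2 (iv7 F12372) D16750 (iv3 D8586)
def n16751 : Q := act 5 n7824
theorem D16751 : act 5 n7824 = n16751 := rfl
theorem F27504 : act 2 n16751 = n8565 := d2_1 D16751 (iv5 D8565) (iv2 F12371)
theorem F27505 : act 4 n16751 = n9219 := d9_1 D16751 (iv5 D9219) F13399 F13397 F5828 (iv5 F7218) D7821 D16741 F27482 (iv5 D9222) (iv4 F7185) (iv5 D4030) (iv4 F6424) F7170 D7824
theorem F27506 : act 7 n16751 = n8587 := d13_2 (iv7 F12372) D16751 (iv5 D8587)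
def n16752 : Q := act 6 n7824
theorem D16752 : act 6 n7824 = n16752 := rfl
theorem F27507 : act 2 n16752 = n8566 := d3_1 D16752 (iv6 D8566) (iv2 F12371)
theorem F27508 : act 4 n16752 = n7825 := d10_1 D16752 (iv6 D7825) D7824
def n16753 : Q := act 0 n7825
theorem D16753 : act 0 n7825 = n16753 := rfl
def n16754 : Q := act 1 n7825
theorem D16754 : act 1 n7825 = n16754 := rfl
theorem F27509 : act 1 n16754 = n8569 := d15_1 D16754 (iv7 D8569) (iv2 F12373)
def n16755 : Q := act 7 n7825
theorem D16755 : act 7 n7825 = n16755 := rfl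
theorem F27510 : act 2 n16755 = n8569 := d4_1 D16755 (iv7 D8569) (iv2 F12373)
theorem F27511 : act 5 n16755 = n16755 := d13_1 D16755 (iv7 D16755) F12374
theorem F27512 : act 6 n16755 = n8592 := d14_1 D16755 (iv7 D8592) (iv6 D3852) (iv7 F7168) D7825
theorem F27513 : act 1 n8569 = n16753 := d15_0 (iv0 D16753) D16755 F27510
theorem F27514 : act 1 n8568 = n16755 := d15_1 D8568 (iv7 D16755) F12373
theorem F27515 : act 1 n16755 = n8567 := d15_0 (iv0 D8567) D8569 (iv2 F27510)
def n16756 : Q := act 3 n7826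
theorem D16756 : act 3 n7826 = n16756 := rfl
theorem F27516 : act 7 n16756 = n10475 := d8_2 F12377 D16756 (iv3 D10475)
def n16757 : Q := act 5 n7826
theorem D16757 : act 5 n7826 = n16757 := rfl
theorem F27517 : act 2 n16757 = n8656 := d2_1 D16757 F13561 F12376
theorem F27518 : act 7 n16757 = n8655 := d13_2 F12377 D16757 (iv5 F13570)
theorem F27519 : act 4 n16757 = n9213 := d16_2 (iv4 F12375) D16757 (iv5 D9213) (iv4 D4169) F7124 D1958 D4728 F6826 (iv2 F6875)
theorem F27520 : act 0 n16757 = n8612 := d17_2 D7826 D16757 (iv5 D8612) (iv4 D3868) (iv5 D1680) (iv0 F6432) (iv5 F7218) (iv0 D3551) D3553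
theorem F27521 : act 1 n16757 = n8659 := d17_6 (iv1 F13853) F13338 (iv1 F6539) (iv5 F6876) (iv4 F12375) D16757 F13575 F13520 (iv4 F13847)
def n16758 : Q := act 6 n7826
theorem D16758 : act 6 n7826 = n16758 := rfl
theorem F27522 : act 2 n16758 = n10535 := d3_1 D16758 (iv6 D10535) F12376
theorem F27523 : act 4 n16758 = n10480 := d10_1 D16758 (iv6 D10480) (iv4 F12375)
def n16759 : Q := act 3 n7827
theorem D16759 : act 3 n7827 = n16759 := rfl
theorem F27524 : act 7 n16759 = n10534 := d8_2 (iv7 F12378) D16759 (iv3 D10534)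
theorem F27525 : act 5 n12952 = n16759 := d13_3 F27524 F16732 (iv7 F21539)
def n16760 : Q := act 5 n7827
theorem D16760 : act 5 n7827 = n16760 := rfl
theorem F27526 : act 2 n16760 = n8655 := d2_1 D16760 (iv5 F13570) (iv2 F12380)
theorem F27527 : act 3 n16760 = n12952 := d6_1 D16760 F27525 (iv3 D16759)
theorem F27528 : act 4 n16760 = n9203 := d9_1 D16760 (iv5 D9203) (iv4 D4164) F7120 (iv4 F3293) (iv5 F6876) (iv4 F12375) D16757 F27519 (iv5 D9213) (iv4 D4169) F7124 D1958 D4728 F12379
theorem F27529 : act 7 n16760 = n8656 := d13_2 (iv7 F12378) D16760 F13561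
theorem F27530 : act 0 n16760 = n8659 := d17_2 F27396 D16760 F13575 F5848 F2864 F6428 F7170 F12262 D16709
theorem F27531 : act 1 n16760 = n8612 := d17_6 (iv1 F15483) (iv5 D9848) (iv1 F6546) D4728 F12379 D16760 (iv5 D8612) D8610 (iv4 F14310)
def n16761 : Q := act 6 n7827
theorem D16761 : act 6 n7827 = n16761 := rfl
theorem F27532 : act 2 n16761 = n10476 := d3_1 D16761 (iv6 D10476) (iv2 F12380)
theorem F27533 : act 4 n16761 = n10434 := d10_1 D16761 (iv6 D10434) F12379
def n16762 : Q := act 0 n7828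
theorem D16762 : act 0 n7828 = n16762 := rfl
def n16763 : Q := act 1 n7828
theorem D16763 : act 1 n7828 = n16763 := rfl
def n16764 : Q := act 2 n7828
theorem D16764 : act 2 n7828 = n16764 := rfl
theorem F27534 : act 4 n16764 = n7840 := d1_2 (iv4 F12381) D16764 (iv2 D7840)
def n16765 : Q := act 5 n7828
theorem D16765 : act 5 n7828 = n16765 := rfl
theorem F27535 : act 3 n16765 = n7829 := d6_1 D16765 (iv5 D7829) D7828
def n16766 : Q := act 6 n7828
theorem D16766 : act 6 n7828 = n16766 := rfl
theorem F27536 : act 3 n16766 = n7830 := d7_1 D16766 (iv6 D7830) D7828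
theorem F27537 : act 4 n16766 = n7841 := d10_1 D16766 (iv6 D7841) (iv4 F12381)
def n16767 : Q := act 6 n7829
theorem D16767 : act 6 n7829 = n16767 := rfl
def n16768 : Q := act 7 n7829
theorem D16768 : act 7 n7829 = n16768 := rfl
theorem F27538 : act 2 n16768 = n9228 := d4_1 D16768 (iv7 F27461) F27460
theorem F27539 : act 4 n16768 = n9192 := d11_1 D16768 (iv7 F17250) F17247
theorem F27540 : act 5 n16768 = n7831 := d13_1 D16768 (iv7 D7831) D7829
def n16769 : Q := act 0 n7830
theorem D16769 : act 0 n7830 = n16769 := rfl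
def n16770 : Q := act 1 n7830
theorem D16770 : act 1 n7830 = n16770 := rfl
def n16771 : Q := act 5 n7830
theorem D16771 : act 5 n7830 = n16771 := rfl
def n16772 : Q := act 7 n7830
theorem D16772 : act 7 n7830 = n16772 := rfl
theorem F27541 : act 4 n16772 = n7834 := d11_1 D16772 (iv7 D7834) (iv4 F12382)
def n16773 : Q := act 6 n7831
theorem D16773 : act 6 n7831 = n16773 := rfl
theorem F27542 : act 4 n16773 = n7835 := d10_1 D16773 (iv6 D7835) (iv4 F12383)
def n16774 : Q := act 2 n7832
theorem D16774 : act 2 n7832 = n16774 := rfl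
theorem F27543 : act 7 n7833 = n16774 := d15_2 (iv0 D7832) D7833 (iv2 D16774)
def n16775 : Q := act 3 n7832
theorem D16775 : act 3 n7832 = n16775 := rfl
def n16776 : Q := act 4 n7832
theorem D16776 : act 4 n7832 = n16776 := rfl
def n16777 : Q := act 5 n7832
theorem D16777 : act 5 n7832 = n16777 := rfl
def n16778 : Q := act 6 n7832
theorem D16778 : act 6 n7832 = n16778 := rfl
def n16779 : Q := act 7 n7832
theorem D16779 : act 7 n7832 = n16779 := rfl
theorem F27544 : act 2 n16779 = n7833 := d4_1 D16779 F27543 (iv2 D16774)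
def n16780 : Q := act 3 n7833
theorem D16780 : act 3 n7833 = n16780 := rfl
def n16781 : Q := act 4 n7833
theorem D16781 : act 4 n7833 = n16781 := rfl
def n16782 : Q := act 5 n7833
theorem D16782 : act 5 n7833 = n16782 := rfl
def n16783 : Q := act 6 n7833
theorem D16783 : act 6 n7833 = n16783 := rfl
def n16784 : Q := act 6 n7834
theorem D16784 : act 6 n7834 = n16784 := rfl
theorem F27545 : act 3 n16784 = n7856 := d7_1 D16784 (iv6 D7856) (iv3 F12386)
theorem F27546 : act 7 n16784 = n7835 := d14_2 D7834 D16784 (iv6 D7835) (iv7 D3555) D3554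
def n16785 : Q := act 0 n7835
theorem D16785 : act 0 n7835 = n16785 := rfl
def n16786 : Q := act 1 n7835
theorem D16786 : act 1 n7835 = n16786 := rfl
def n16787 : Q := act 5 n7835
theorem D16787 : act 5 n7835 = n16787 := rfl
theorem F27547 : act 3 n16787 = n7859 := d6_1 D16787 (iv5 D7859) (iv3 F12388)
theorem F27548 : act 6 n16787 = n7837 := d12_2 D7835 D16787 (iv5 D7837) (iv6 D3556) (iv5 F5577)
def n16788 : Q := act 3 n7836
theorem D16788 : act 3 n7836 = n16788 := rfl
theorem F27549 : act 4 n16788 = n8262 := d5_2 F15130 D16788 (iv3 F16947) (iv4 F16944) (iv3 F16922)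
theorem F27550 : act 6 n16788 = n16719 := d7_2 F12392 D16788 F27417
theorem F27551 : act 7 n16788 = n8679 := d8_2 (iv7 F12391) D16788 (iv3 D8679)
def n16789 : Q := act 5 n7836
theorem D16789 : act 5 n7836 = n16789 := rfl
theorem F27552 : act 2 n16789 = n8684 := d2_1 D16789 (iv5 D8684) F12389
theorem F27553 : act 7 n16789 = n8681 := d13_2 (iv7 F12391) D16789 (iv5 D8681)
theorem F27554 : act 0 n16789 = n16723 := d17_2 D7836 D16789 (iv5 D16723) (iv4 F13604) D9174 (iv0 F14449) (iv5 D9252) (iv0 D4182) (iv4 F5579)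
theorem F27555 : act 1 n16789 = n8140 := d15_1 (iv0 F27554) (iv7 F14987) (iv2 F27440)
def n16790 : Q := act 4 n7837
theorem D16790 : act 4 n7837 = n16790 := rfl
theorem F27556 : act 7 n16790 = n8687 := d11_2 (iv7 F12394) D16790 (iv4 D8687)
def n16791 : Q := act 6 n7840
theorem D16791 : act 6 n7840 = n16791 := rfl
theorem F27557 : act 2 n16791 = n7841 := d3_1 D16791 (iv6 D7841) D7840
def n16792 : Q := act 0 n7841
theorem D16792 : act 0 n7841 = n16792 := rfl
def n16793 : Q := act 1 n7841
theorem D16793 : act 1 n7841 = n16793 := rfl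
def n16794 : Q := act 5 n7841
theorem D16794 : act 5 n7841 = n16794 := rfl
theorem F27558 : act 3 n16794 = n7844 := d6_1 D16794 (iv5 D7844) (iv3 F12396)
theorem F27559 : act 6 n16794 = n15265 := d12_2 D7841 D16794 (iv5 D15265) (iv6 D7229) (iv5 F5581)
def n16795 : Q := act 7 n7841
theorem D16795 : act 7 n7841 = n16795 := rfl
theorem F27560 : act 3 n16795 = n7845 := d8_1 D16795 (iv7 D7845) (iv3 F12396)
def n16796 : Q := act 2 n7842
theorem D16796 : act 2 n7842 = n16796 := rfl
theorem F27561 : act 7 n7843 = n16796 := d15_2 (iv0 D7842) D7843 (iv2 D16796)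
def n16797 : Q := act 3 n7842
theorem D16797 : act 3 n7842 = n16797 := rfl
def n16798 : Q := act 4 n7842
theorem D16798 : act 4 n7842 = n16798 := rfl
def n16799 : Q := act 5 n7842
theorem D16799 : act 5 n7842 = n16799 := rfl
def n16800 : Q := act 7 n7842
theorem D16800 : act 7 n7842 = n16800 := rfl
theorem F27562 : act 2 n16800 = n7843 := d4_1 D16800 F27561 (iv2 D16796)
def n16801 : Q := act 3 n7843
theorem D16801 : act 3 n7843 = n16801 := rfl
def n16802 : Q := act 4 n7843
theorem D16802 : act 4 n7843 = n16802 := rfl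
def n16803 : Q := act 5 n7843
theorem D16803 : act 5 n7843 = n16803 := rfl
def n16804 : Q := act 6 n7843
theorem D16804 : act 6 n7843 = n16804 := rfl
def n16805 : Q := act 0 n7844
theorem D16805 : act 0 n7844 = n16805 := rfl
def n16806 : Q := act 1 n7844
theorem D16806 : act 1 n7844 = n16806 := rfl
theorem F27563 : act 5 n13267 = n16806 := d21_6 (iv5 D2525) (iv1 F2150) (iv5 F2308) D2640 D6296 D13267 (iv1 D16806) (iv5 D7844) (iv6 D3558) (iv1 F4017)
def n16807 : Q := act 4 n7844
theorem D16807 : act 4 n7844 = n16807 := rfl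
theorem F27564 : act 6 n16807 = n15272 := d10_2 (iv6 F12397) D16807 (iv4 D15272)
def n16808 : Q := act 7 n7844
theorem D16808 : act 7 n7844 = n16808 := rfl
theorem F27565 : act 5 n16808 = n7845 := d13_1 D16808 (iv7 D7845) D7844
def n16811 : Q := act 3 n7846
theorem D16811 : act 3 n7846 = n16811 := rfl
theorem F27568 : act 7 n16811 = n7852 := d8_2 F12399 D16811 (iv3 D7852)
def n16812 : Q := act 4 n7846
theorem D16812 : act 4 n7846 = n16812 := rfl
theorem F27569 : act 2 n16812 = n7848 := d1_1 D16812 (iv4 D7848) D7846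
theorem F27570 : act 7 n16812 = n7853 := d11_2 F12399 D16812 (iv4 D7853)
def n16813 : Q := act 5 n7846
theorem D16813 : act 5 n7846 = n16813 := rfl
theorem F27571 : act 2 n16813 = n7849 := d2_1 D16813 (iv5 D7849) D7846
theorem F27572 : act 7 n16813 = n7854 := d13_2 F12399 D16813 (iv5 D7854)
def n16814 : Q := act 6 n7846
theorem D16814 : act 6 n7846 = n16814 := rfl
theorem F27573 : act 2 n16814 = n7850 := d3_1 D16814 (iv6 D7850) D7846
def n16815 : Q := act 0 n7847
theorem D16815 : act 0 n7847 = n16815 := rfl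
def n16816 : Q := act 1 n7847
theorem D16816 : act 1 n7847 = n16816 := rfl
def n16817 : Q := act 2 n7847
theorem D16817 : act 2 n7847 = n16817 := rfl
def n16818 : Q := act 4 n7847
theorem D16818 : act 4 n7847 = n16818 := rfl
def n16819 : Q := act 5 n7847
theorem D16819 : act 5 n7847 = n16819 := rfl
theorem F27574 : act 3 n16819 = n7849 := d6_1 D16819 (iv5 D7849) D7847
def n16820 : Q := act 6 n7847
theorem D16820 : act 6 n7847 = n16820 := rfl
theorem F27575 : act 3 n16820 = n7850 := d7_1 D16820 (iv6 D7850) D7847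
def n16821 : Q := act 7 n7847
theorem D16821 : act 7 n7847 = n16821 := rfl
def n16822 : Q := act 0 n7848
theorem D16822 : act 0 n7848 = n16822 := rfl
def n16823 : Q := act 1 n7848
theorem D16823 : act 1 n7848 = n16823 := rfl
theorem F27577 : act 1 n16823 = n7853 := d15_1 D16823 (iv7 F27570) F27569
def n16824 : Q := act 3 n7848
theorem D16824 : act 3 n7848 = n16824 := rfl
def n16825 : Q := act 5 n7848
theorem D16825 : act 5 n7848 = n16825 := rfl
def n16826 : Q := act 6 n7848
theorem D16826 : act 6 n7848 = n16826 := rfl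
theorem F27578 : act 4 n16826 = n7850 := d10_1 D16826 (iv6 D7850) D7848
def n16827 : Q := act 7 n7848
theorem D16827 : act 7 n7848 = n16827 := rfl
theorem F27579 : act 2 n16827 = n7853 := d4_1 D16827 (iv7 F27570) F27569
theorem F27581 : act 1 n7853 = n16822 := d15_0 (iv0 D16822) D16827 F27579
def n16828 : Q := act 0 n7849
theorem D16828 : act 0 n7849 = n16828 := rfl
theorem F27582 : act 5 n16828 = n8741 := d21_2 D7849 D16828 (iv6 D8741) (iv1 D3908) (iv6 D1690) F1661 (iv1 D844) D846 D1568 D3559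
def n16829 : Q := act 1 n7849
theorem D16829 : act 1 n7849 = n16829 := rfl
theorem F27583 : act 1 n16829 = n7854 := d15_1 D16829 (iv7 F27572) F27571
def n16830 : Q := act 4 n7849
theorem D16830 : act 4 n7849 = n16830 := rfl
def n16831 : Q := act 6 n7849
theorem D16831 : act 6 n7849 = n16831 := rfl
theorem F27584 : act 0 n16831 = n8470 := d21_4 (iv5 F2724) D3559 D7849 D16831 (iv6 D8470) D8469 F13691 (iv5 D8815) (iv6 D3928) (iv1 D1694)
def n16832 : Q := act 7 n7849
theorem D16832 : act 7 n7849 = n16832 := rfl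
theorem F27585 : act 2 n16832 = n7854 := d4_1 D16832 (iv7 F27572) F27571
theorem F27587 : act 1 n7854 = n16828 := d15_0 (iv0 D16828) D16832 F27585
def n16833 : Q := act 0 n7850
theorem D16833 : act 0 n7850 = n16833 := rfl
def n16834 : Q := act 1 n7850
theorem D16834 : act 1 n7850 = n16834 := rfl
def n16835 : Q := act 7 n7850
theorem D16835 : act 7 n7850 = n16835 := rfl
def n16836 : Q := act 6 n7851
theorem D16836 : act 6 n7851 = n16836 := rfl
theorem F27588 : act 2 n16836 = n7855 := d3_1 D16836 (iv6 D7855) (iv2 F12400)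
def n16837 : Q := act 0 n7852
theorem D16837 : act 0 n7852 = n16837 := rfl
def n16838 : Q := act 1 n7852
theorem D16838 : act 1 n7852 = n16838 := rfl
def n16839 : Q := act 2 n7852
theorem D16839 : act 2 n7852 = n16839 := rfl
def n16840 : Q := act 4 n7852
theorem D16840 : act 4 n7852 = n16840 := rfl
def n16841 : Q := act 5 n7852
theorem D16841 : act 5 n7852 = n16841 := rfl
theorem F27589 : act 3 n16841 = n7854 := d6_1 D16841 (iv5 D7854) D7852
def n16842 : Q := act 6 n7852
theorem D16842 : act 6 n7852 = n16842 := rfl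
theorem F27590 : act 3 n16842 = n7855 := d7_1 D16842 (iv6 D7855) D7852
def n16843 : Q := act 3 n7853
theorem D16843 : act 3 n7853 = n16843 := rfl
def n16844 : Q := act 5 n7853
theorem D16844 : act 5 n7853 = n16844 := rfl
def n16845 : Q := act 6 n7853
theorem D16845 : act 6 n7853 = n16845 := rfl
theorem F27591 : act 4 n16845 = n7855 := d10_1 D16845 (iv6 D7855) D7853
def n16846 : Q := act 4 n7854
theorem D16846 : act 4 n7854 = n16846 := rfl
def n16847 : Q := act 0 n7855
theorem D16847 : act 0 n7855 = n16847 := rfl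
theorem F27592 : act 5 n16847 = n13222 := d21_0 (iv1 F22021) F13623 (iv6 F9791) (iv1 F9793) D8741 (iv5 F27582) (iv1 F27587) (iv5 D7854) D7855 D16847
def n16848 : Q := act 1 n7855
theorem D16848 : act 1 n7855 = n16848 := rfl
def n16849 : Q := act 5 n7855
theorem D16849 : act 5 n7855 = n16849 := rfl
theorem F27593 : act 0 n8701 = n16849 := d21_1 D8701 (iv5 D16849) (iv6 D7855) (iv1 D3560) (iv6 D1568) (iv5 D846) D843 (iv5 F1660) D1688 D3898
def n16850 : Q := act 7 n7855
theorem D16850 : act 7 n7855 = n16850 := rfl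
def n16851 : Q := act 5 n7856
theorem D16851 : act 5 n7856 = n16851 := rfl
theorem F27594 : act 6 n16851 = n8816 := d12_2 D7856 D16851 (iv5 D8816) (iv6 D3929) (iv5 F5583)
theorem F27595 : act 7 n16851 = n7859 := d13_2 (iv7 F12401) D16851 (iv5 D7859)
def n16852 : Q := act 2 n7857
theorem D16852 : act 2 n7857 = n16852 := rfl
theorem F27596 : act 7 n7858 = n16852 := d15_2 (iv0 D7857) D7858 (iv2 D16852)
def n16853 : Q := act 3 n7857
theorem D16853 : act 3 n7857 = n16853 := rfl
def n16854 : Q := act 4 n7857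
theorem D16854 : act 4 n7857 = n16854 := rfl
def n16855 : Q := act 5 n7857
theorem D16855 : act 5 n7857 = n16855 := rfl
def n16856 : Q := act 7 n7857
theorem D16856 : act 7 n7857 = n16856 := rfl
def n16857 : Q := act 3 n7858
theorem D16857 : act 3 n7858 = n16857 := rfl
def n16858 : Q := act 4 n7858
theorem D16858 : act 4 n7858 = n16858 := rfl
def n16859 : Q := act 5 n7858
theorem D16859 : act 5 n7858 = n16859 := rfl
def n16860 : Q := act 6 n7858
theorem D16860 : act 6 n7858 = n16860 := rfl
def n16861 : Q := act 0 n7859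
theorem D16861 : act 0 n7859 = n16861 := rfl
def n16862 : Q := act 1 n7859
theorem D16862 : act 1 n7859 = n16862 := rfl
theorem F27598 : act 5 n13300 = n16862 := d21_6 (iv5 D884) (iv1 F1412) (iv5 F2313) D2644 D6309 D13300 (iv1 D16862) (iv5 D7859) (iv6 D3562) (iv1 F2726)
def n16863 : Q := act 4 n7859
theorem D16863 : act 4 n7859 = n16863 := rfl
theorem F27599 : act 6 n16863 = n7860 := d10_2 (iv6 F12402) D16863 (iv4 D7860)
def n16864 : Q := act 3 n7860
theorem D16864 : act 3 n7860 = n16864 := rfl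
theorem F27600 : act 5 n16864 = n13314 := d6_2 (iv5 F12404) D16864 (iv3 D13314)
theorem F27601 : act 7 n16864 = n8843 := d8_2 (iv7 F12403) D16864 (iv3 D8843)
def n16865 : Q := act 0 n7861
theorem D16865 : act 0 n7861 = n16865 := rfl
theorem F27602 : act 2 n11134 = n16865 := d15_3 (iv0 D16865) (iv0 F21060) (iv7 F26662)
theorem F27603 : act 1 n11135 = n16865 := d15_0 (iv0 D16865) F12407 D11135
theorem F27604 : act 7 n16865 = n11133 := d15_2 (iv0 F21061) F27603 (iv2 F26663)
def n16866 : Q := act 2 n7861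
theorem D16866 : act 2 n7861 = n16866 := rfl
theorem F27605 : act 3 n16866 = n12193 := d0_2 D7861 D16866 (iv2 F20193) F8903 (iv2 F5585)
theorem F27606 : act 4 n16866 = n7867 := d1_2 (iv4 F12406) D16866 (iv2 D7867)
theorem F27607 : act 7 n16866 = n11135 := d4_2 (iv7 F12407) D16866 (iv2 D11135)
theorem F27608 : act 1 n16866 = n11133 := d15_0 (iv0 D11133) (iv7 F12407) D16866
theorem F27609 : act 1 n11134 = n16866 := d15_0 F27608 (iv7 F27604) (iv2 F27602)
def n16867 : Q := act 6 n7861
theorem D16867 : act 6 n7861 = n16867 := rfl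
theorem F27610 : act 3 n16867 = n7862 := d7_1 D16867 (iv6 D7862) D7861
theorem F27611 : act 4 n16867 = n7868 := d10_1 D16867 (iv6 D7868) (iv4 F12406)
def n16868 : Q := act 0 n7862
theorem D16868 : act 0 n7862 = n16868 := rfl
theorem F27612 : act 4 n16868 = n7878 := d20_2 (iv4 F12409) D16868 (iv3 F12468) F12412 F8856 (iv4 F9177) (iv1 F9179) F12417 D6504 (iv1 F12413)
theorem F27613 : act 2 n12221 = n16868 := d1_3 F27612 (iv2 F12467) (iv4 F20217)
theorem F27614 : act 6 n11292 = n16868 := d10_0 F27612 F12466 D11292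
theorem F27615 : act 7 n12222 = n16868 := d11_0 F27612 (iv7 F18279) F20219
theorem F27616 : act 0 n16868 = n12136 := d20_1 (iv4 F27612) F20065 F8856 (iv1 F3951) F26313 F5391 D3391 (iv4 F26292) (iv3 F5605) D7878
def n16869 : Q := act 1 n7862
theorem D16869 : act 1 n7862 = n16869 := rfl
theorem F27617 : act 1 n16869 = n12136 := d15_1 D16869 F20066 (iv2 F12408)
theorem F27618 : act 7 n16869 = n12221 := d15_2 (iv0 D16868) D16869 F27613
theorem F27619 : act 4 n7872 = n16869 := d20_6 F12025 (iv1 F9363) F5310 (iv3 F4471) (iv1 F5597) D7872 (iv1 D16869) F12409 F5590 D3568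
theorem F27620 : act 2 n16869 = n12222 := d1_1 F27619 (iv4 F20219) (iv2 F18280)
def n16870 : Q := act 5 n7862
theorem D16870 : act 5 n7862 = n16870 := rfl
theorem F27621 : act 2 n16870 = n12223 := d2_1 D16870 (iv5 D12223) (iv2 F12408)
def n16871 : Q := act 7 n7862
theorem D16871 : act 7 n7862 = n16871 := rfl
theorem F27622 : act 2 n16871 = n12136 := d4_1 D16871 F20066 (iv2 F12408)
theorem F27623 : act 4 n16871 = n7864 := d11_1 D16871 (iv7 D7864) (iv4 F12409)
theorem F27624 : act 6 n16871 = n11124 := d14_1 D16871 (iv7 D11124) F7554 (iv7 F5586) D7862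
theorem F27625 : act 1 n12222 = n16871 := d15_1 D12222 (iv7 D16871) F12408
theorem F27626 : act 1 n16871 = n12221 := d15_1 F27625 (iv7 F27618) F27620
def n16872 : Q := act 4 n7863
theorem D16872 : act 4 n7863 = n16872 := rfl
theorem F27627 : act 2 n16872 = n12224 := d1_1 D16872 (iv4 D12224) F12411
theorem F27628 : act 6 n16872 = n11770 := d10_2 (iv6 F12410) D16872 (iv4 D11770)
theorem F27629 : act 7 n16872 = n12226 := d11_2 F12414 D16872 (iv4 D12226)
theorem F27630 : act 1 n16872 = n11240 := d15_0 (iv0 F22838) F22837 (iv2 F27627)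
def n16873 : Q := act 2 n7865
theorem D16873 : act 2 n7865 = n16873 := rfl
theorem F27631 : act 7 n7866 = n16873 := d15_2 (iv0 D7865) D7866 (iv2 D16873)
def n16874 : Q := act 4 n7865
theorem D16874 : act 4 n7865 = n16874 := rfl
theorem F27632 : act 3 n16874 = n13620 := d5_1 D16874 (iv4 D13620) (iv3 D6481) D6482 (iv3 F12431)
theorem F27633 : act 0 n16874 = n15916 := d20_1 D16874 (iv4 D15916) (iv3 D7461) (iv1 D3412) (iv3 D1503) F1528 F1611 D1572 D3566 D7865
theorem F27634 : act 0 n16039 = n16874 := d20_1 (iv4 F25577) (iv4 D16874) F12431 (iv1 F25427) (iv3 D12536) F26381 F9454 (iv4 F18801) (iv3 F26667) F26664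
def n16875 : Q := act 5 n7865
theorem D16875 : act 5 n7865 = n16875 := rfl
theorem F27635 : act 3 n16875 = n13623 := d6_1 D16875 (iv5 D13623) (iv3 F12431)
def n16876 : Q := act 6 n7865
theorem D16876 : act 6 n7865 = n16876 := rfl
theorem F27636 : act 3 n16876 = n13624 := d7_1 D16876 (iv6 D13624) (iv3 F12431)
def n16877 : Q := act 7 n7865
theorem D16877 : act 7 n7865 = n16877 := rfl
theorem F27637 : act 2 n16877 = n7866 := d4_1 D16877 F27631 (iv2 D16873)
theorem F27638 : act 3 n16877 = n13592 := d8_1 D16877 F22777 (iv3 F12431)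
def n16878 : Q := act 3 n7866
theorem D16878 : act 3 n7866 = n16878 := rfl
theorem F27639 : act 2 n16878 = n13603 := d0_1 D16878 (iv3 D13603) (iv2 F22776) (iv3 F27638) F27637
theorem F27640 : act 4 n16878 = n16003 := d20_6 F11775 F11798 (iv4 F4482) (iv3 F7640) (iv1 F12436) D16878 (iv1 F25500) (iv4 D7493) D7492 F25467
theorem F27641 : act 0 n12548 = n16878 := d20_10 F27640 (iv1 F25500) (iv4 D7493) D7492 F25467 (iv3 F11806) F11808 D7548 F11782 D12548
theorem F27642 : act 1 n15652 = n16878 := d15_0 (iv0 F27641) F25555 D15652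
theorem F27643 : act 7 n15651 = n16878 := d15_2 F25529 F25528 F27639
theorem F27644 : act 3 n16873 = n15651 := d8_3 F27643 (iv3 D16878) F27631
def n16879 : Q := act 4 n7866
theorem D16879 : act 4 n7866 = n16879 := rfl
theorem F27645 : act 0 n16879 = n16039 := d20_1 D16879 F25577 (iv3 D15655) (iv1 F11807) F11806 F11775 F11798 (iv4 F4482) (iv3 F7640) (iv1 F12436)
theorem F27646 : act 3 n11233 = n16879 := d20_5 F3811 (iv1 D2124) D2125 D5167 D11233 (iv4 D16879) (iv1 D7866) (iv4 F12406) (iv3 D7861) F5587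
theorem F27647 : act 0 n15916 = n16879 := d20_7 (iv4 F25569) (iv1 F20163) (iv4 D7496) (iv3 F9308) (iv1 F9312) D7461 D15916 (iv4 D16879) D16878 (iv1 F27642)
def n16880 : Q := act 5 n7866
theorem D16880 : act 5 n7866 = n16880 := rfl
def n16881 : Q := act 6 n7866
theorem D16881 : act 6 n7866 = n16881 := rfl
def n16882 : Q := act 6 n7867
theorem D16882 : act 6 n7867 = n16882 := rfl
theorem F27648 : act 2 n16882 = n7868 := d3_1 D16882 (iv6 D7868) D7867
theorem F27649 : act 3 n16882 = n13588 := d7_1 D16882 (iv6 D13588) (iv3 F12433)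
def n16883 : Q := act 0 n7868
theorem D16883 : act 0 n7868 = n16883 := rfl
def n16884 : Q := act 1 n7868
theorem D16884 : act 1 n7868 = n16884 := rfl
def n16885 : Q := act 5 n7868
theorem D16885 : act 5 n7868 = n16885 := rfl
theorem F27650 : act 3 n16885 = n7869 := d6_1 D16885 (iv5 D7869) (iv3 F12438)
def n16886 : Q := act 7 n7868
theorem D16886 : act 7 n7868 = n16886 := rfl
theorem F27651 : act 3 n16886 = n7870 := d8_1 D16886 (iv7 D7870) (iv3 F12438)
theorem F27652 : act 6 n16886 = n11179 := d14_1 D16886 (iv7 D11179) F7632 (iv7 F5592) D7868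
def n16887 : Q := act 4 n7869
theorem D16887 : act 4 n7869 = n16887 := rfl
theorem F27653 : act 2 n16887 = n13681 := d1_1 D16887 (iv4 D13681) (iv2 F12439)
def n16888 : Q := act 7 n7869
theorem D16888 : act 7 n7869 = n16888 := rfl
theorem F27654 : act 2 n16888 = n13579 := d4_1 D16888 F22740 (iv2 F12439)
theorem F27655 : act 5 n16888 = n7870 := d13_1 D16888 (iv7 D7870) D7869
theorem F27656 : act 1 n13680 = n16888 := d15_1 D13680 (iv7 D16888) F12439
theorem F27657 : act 1 n16888 = n13679 := d15_1 F27656 (iv7 F25974) F25973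
def n16889 : Q := act 5 n7872
theorem D16889 : act 5 n7872 = n16889 := rfl
theorem F27658 : act 3 n16889 = n7873 := d6_1 D16889 (iv5 D7873) D7872
theorem F27659 : act 7 n16889 = n13682 := d13_2 (iv7 F12450) D16889 (iv5 D13682)
theorem F27660 : act 6 n16889 = n12836 := d21_3 F18236 (iv1 F18239) D16889 F21463 F12495 F7754 (iv1 F3501) D5212 (iv6 F12466) F18238
def n16890 : Q := act 1 n7875
theorem D16890 : act 1 n7875 = n16890 := rfl
theorem F27661 : act 7 n16890 = n11213 := d15_2 (iv0 F21083) D16890 F26998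
theorem F27662 : act 4 n11390 = n16890 := d20_0 (iv1 D16890) F12460 (iv3 D7305) F5340 D3388 F5388 D3394 (iv4 F26420) (iv3 F12666) F18627
theorem F27663 : act 2 n16890 = n11212 := d1_1 F27662 F26785 F18684
theorem F27664 : act 6 n16890 = n11389 := d10_2 D11390 F27662 (iv4 D11389)
theorem F27665 : act 1 n16890 = n11214 := d15_0 F21084 (iv7 F26786) (iv2 F27663)
def n16891 : Q := act 2 n7875
theorem D16891 : act 2 n7875 = n16891 := rfl
theorem F27666 : act 4 n16891 = n7915 := d1_2 (iv4 F12460) D16891 F26282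
theorem F27667 : act 6 n16891 = n13581 := d3_2 (iv6 F27056) D16891 (iv2 F22743)
theorem F27668 : act 7 n16891 = n11214 := d4_2 (iv7 F12461) D16891 (iv2 D11214)
theorem F27669 : act 1 n16891 = n11212 := d15_0 (iv0 D11212) (iv7 F12461) D16891
theorem F27670 : act 1 n11213 = n16891 := d15_0 F27669 F26786 (iv2 F26998)
def n16892 : Q := act 5 n7875
theorem D16892 : act 5 n7875 = n16892 := rfl
theorem F27671 : act 3 n16892 = n7876 := d6_1 D16892 (iv5 D7876) D7875
theorem F27672 : act 7 n16892 = n11215 := d13_2 (iv7 F12461) D16892 (iv5 D11215)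
theorem F27673 : act 0 n16892 = n8152 := d17_2 (iv1 D16890) D16892 (iv5 D8152) F5697 (iv5 F3797) D5761 D12152 (iv0 F20102) F27662
def n16893 : Q := act 6 n7876
theorem D16893 : act 6 n7876 = n16893 := rfl
theorem F27674 : act 4 n16893 = n11216 := d10_1 D16893 (iv6 D11216) (iv4 F12463)
def n16894 : Q := act 5 n7877
theorem D16894 : act 5 n7877 = n16894 := rfl
def n16895 : Q := act 7 n7877
theorem D16895 : act 7 n7877 = n16895 := rfl
theorem F27675 : act 3 n16895 = n13582 := d8_1 D16895 F22748 F27055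
theorem F27676 : act 4 n16895 = n7879 := d11_1 D16895 (iv7 D7879) (iv4 F12465)
theorem F27677 : act 6 n16895 = n11211 := d14_1 D16895 (iv7 D11211) F7658 (iv7 F5603) D7877
theorem F27678 : act 1 n13684 = n16895 := d15_1 (iv0 F22838) (iv7 D16895) (iv2 F18276)
theorem F27679 : act 1 n16895 = n16872 := d15_1 F27678 F27629 (iv2 F22836)
def n16896 : Q := act 5 n7878
theorem D16896 : act 5 n7878 = n16896 := rfl
theorem F27680 : act 2 n16896 = n13682 := d2_1 D16896 (iv5 D13682) F12467
theorem F27681 : act 3 n16896 = n14062 := d6_1 D16896 F23472 F12468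
theorem F27682 : act 6 n16896 = n11293 := d12_2 (iv6 F12466) D16896 (iv5 D11293) (iv6 D5213) D5212
def n16897 : Q := act 0 n7880
theorem D16897 : act 0 n7880 = n16897 := rfl
def n16898 : Q := act 1 n7880
theorem D16898 : act 1 n7880 = n16898 := rfl
def n16899 : Q := act 2 n7880
theorem D16899 : act 2 n7880 = n16899 := rfl
theorem F27683 : act 3 n16899 = n7899 := d0_2 D7880 D16899 (iv2 D7899) (iv3 D3579) (iv2 F5607)
theorem F27684 : act 6 n16899 = n9743 := d3_2 (iv6 F26936) D16899 F15222
def n16900 : Q := act 5 n7880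
theorem D16900 : act 5 n7880 = n16900 := rfl
theorem F27685 : act 3 n16900 = n7881 := d6_1 D16900 (iv5 D7881) D7880
theorem F27686 : act 7 n16900 = n12213 := d13_2 F18241 D16900 F20210
def n16901 : Q := act 6 n7881
theorem D16901 : act 6 n7881 = n16901 := rfl
theorem F27687 : act 2 n16901 = n7902 := d3_1 D16901 (iv6 D7902) (iv2 F12474)
theorem F27688 : act 4 n16901 = n8149 := d10_1 D16901 (iv6 D8149) (iv4 F12476)
def n16902 : Q := act 7 n7882
theorem D16902 : act 7 n7882 = n16902 := rfl
theorem F27689 : act 2 n16902 = n7906 := d4_1 D16902 (iv7 D7906) (iv2 F12479)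
theorem F27690 : act 3 n16902 = n9744 := d8_1 D16902 F15225 F26932
theorem F27691 : act 4 n16902 = n7885 := d11_1 D16902 (iv7 D7885) (iv4 F12480)
theorem F27692 : act 5 n16902 = n9875 := d13_1 D16902 (iv7 F15685) (iv5 F26938)
theorem F27693 : act 6 n16902 = n15637 := d14_1 D16902 F25136 (iv6 D11228) F7680 D7882
theorem F27694 : act 1 n7904 = n16902 := d15_1 D7904 (iv7 D16902) F12479
theorem F27695 : act 1 n16902 = n7903 := d15_1 F27694 (iv7 F21324) F21323
def n16903 : Q := act 6 n7884
theorem D16903 : act 6 n7884 = n16903 := rfl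
theorem F27696 : act 2 n16903 = n7916 := d3_1 D16903 (iv6 D7916) (iv2 F20144)
theorem F27697 : act 3 n16903 = n12458 := d7_1 D16903 (iv6 D12458) F20095
theorem F27698 : act 0 n16903 = n16896 := d21_4 (iv5 F18406) F26279 F26271 D16903 F27682 (iv5 D11293) (iv1 F18320) F18317 (iv6 F21486) F21487
theorem F27699 : act 1 n16903 = n16889 := d15_1 (iv0 F27698) F27659 (iv2 F27680)
def n16904 : Q := act 5 n7886
theorem D16904 : act 5 n7886 = n16904 := rfl
theorem F27700 : act 3 n16904 = n7887 := d6_1 D16904 (iv5 D7887) D7886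
def n16905 : Q := act 6 n7887
theorem D16905 : act 6 n7887 = n16905 := rfl
def n16906 : Q := act 5 n7888
theorem D16906 : act 5 n7888 = n16906 := rfl
def n16907 : Q := act 7 n7888
theorem D16907 : act 7 n7888 = n16907 := rfl
theorem F27701 : act 3 n16907 = n13527 := d8_1 D16907 F22671 F27038
theorem F27702 : act 4 n16907 = n7891 := d11_1 D16907 (iv7 D7891) (iv4 F12490)
theorem F27703 : act 6 n16907 = n11274 := d14_1 D16907 (iv7 D11274) F8867 F8864 D7888
def n16908 : Q := act 4 n7889
theorem D16908 : act 4 n7889 = n16908 := rfl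
theorem F27704 : act 2 n16908 = n15246 := d1_1 D16908 F24844 F21294
theorem F27705 : act 7 n16908 = n15247 := d11_2 (iv7 F21462) D16908 (iv4 F24845)
theorem F27706 : act 0 n16908 = n15249 := d20_1 D16908 F24847 F11544 (iv1 F5530) F26454 (iv4 D3259) D3257 (iv4 F26355) (iv3 F5611) D7889
theorem F27707 : act 0 n7896 = n16908 := d20_1 (iv4 F12505) (iv4 D16908) F21295 (iv1 F12528) F11544 (iv4 F11555) (iv1 F12058) F12558 (iv3 F12522) (iv1 D7918)
def n16909 : Q := act 5 n7889
theorem D16909 : act 5 n7889 = n16909 := rfl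
theorem F27708 : act 2 n16909 = n13549 := d2_1 D16909 F22712 F21294
theorem F27709 : act 7 n16909 = n11208 := d13_2 (iv7 F21462) D16909 F21459
theorem F27710 : act 0 n16909 = n13548 := d21_1 D16909 (iv5 F27340) (iv6 D16688) (iv1 D7765) (iv6 D3522) (iv5 D1556) D1554 (iv5 F2746) D3576 D7889
theorem F27711 : act 0 n13547 = n16909 := d21_10 (iv5 D16909) (iv1 F18453) F18450 (iv6 D11302) (iv1 F7776) D11269 F18350 F12663 F12661 (iv6 F22709)
def n16910 : Q := act 6 n7889
theorem D16910 : act 6 n7889 = n16910 := rfl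
theorem F27712 : act 2 n16910 = n16889 := d3_1 D16910 F27660 F21294
theorem F27713 : act 3 n16910 = n12227 := d7_1 D16910 F20226 (iv3 F21295)
theorem F27714 : act 7 n16910 = n16896 := d14_2 (iv7 F21462) D16910 F27682 (iv7 F23060) F23059
theorem F27715 : act 5 n16910 = n11241 := d21_6 (iv5 D1556) D1554 (iv5 F2746) D3576 D7889 D16910 (iv1 D11241) F7698 (iv6 D5170) (iv1 F3474)
theorem F27716 : act 1 n7916 = n16910 := d15_1 (iv0 F22832) F27714 F27680
def n16911 : Q := act 4 n7890
theorem D16911 : act 4 n7890 = n16911 := rfl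
theorem F27717 : act 2 n16911 = n15247 := d1_1 D16911 (iv4 F24845) F21460
theorem F27718 : act 6 n16911 = n14063 := d10_2 F18580 D16911 F23477
theorem F27719 : act 7 n16911 = n15246 := d11_2 F21293 D16911 F24844
theorem F27720 : act 0 n16911 = n7896 := d20_7 F12535 (iv1 F12041) F12036 (iv3 F8179) F8182 (iv3 F12492) D16911 F12505 F5621 D3588
theorem F27721 : act 0 n15249 = n16911 := d20_1 (iv4 F24847) (iv4 D16911) F12492 (iv1 D3589) (iv3 F5621) (iv4 F12505) F27707 (iv4 D16908) F21295 (iv1 F12528)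
def n16912 : Q := act 0 n7892
theorem D16912 : act 0 n7892 = n16912 := rfl
def n16913 : Q := act 1 n7892
theorem D16913 : act 1 n7892 = n16913 := rfl
def n16914 : Q := act 2 n7892
theorem D16914 : act 2 n7892 = n16914 := rfl
theorem F27722 : act 3 n16914 = n8150 := d0_2 D7892 D16914 (iv2 F26343) (iv3 D12140) (iv2 F8866)
theorem F27723 : act 4 n16914 = n16914 := d1_2 F12496 D16914 (iv2 D16914)
def n16915 : Q := act 5 n7892
theorem D16915 : act 5 n7892 = n16915 := rfl
theorem F27724 : act 3 n16915 = n7893 := d6_1 D16915 (iv5 D7893) D7892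
def n16916 : Q := act 6 n7893
theorem D16916 : act 6 n7893 = n16916 := rfl
def n16917 : Q := act 1 n7894
theorem D16917 : act 1 n7894 = n16917 := rfl
theorem F27725 : act 7 n16917 = n15316 := d15_2 F26704 D16917 F26659
theorem F27726 : act 4 n12778 = n16917 := d20_0 (iv1 D16917) F12499 (iv3 D3586) F2757 D2509 F3973 D5944 D12496 (iv3 F27037) (iv1 F26784)
theorem F27727 : act 2 n16917 = n15315 := d1_1 F27726 (iv4 F27040) (iv2 F26782)
theorem F27728 : act 0 n15313 = n16917 := d20_1 D15313 (iv4 F27726) (iv3 D12778) (iv1 F11549) (iv3 F12043) F12044 (iv1 F11866) D16482 F25995 (iv1 F12536)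
def n16918 : Q := act 2 n7894
theorem D16918 : act 2 n7894 = n16918 := rfl
theorem F27729 : act 3 n16918 = n15242 := d0_2 D7894 D16918 (iv2 D15242) (iv3 D7220) F5615
theorem F27730 : act 4 n16918 = n7922 := d1_2 (iv4 F12499) D16918 (iv2 D7922)
theorem F27731 : act 7 n16918 = n15313 := d4_2 (iv7 F12500) D16918 F24893
theorem F27732 : act 1 n16918 = n15315 := d15_0 (iv0 D15315) (iv7 F12500) D16918
theorem F27733 : act 1 n15316 = n16918 := d15_0 F27732 (iv7 F27041) (iv2 F26659)
theorem F27734 : act 0 n16482 = n8175 := d20_1 D16482 F12931 (iv3 D7359) F10653 (iv3 F21493) F27040 (iv1 F27732) F27730 F12537 (iv1 F11866)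
theorem F27735 : act 0 n8181 = n16481 := d20_4 F9542 (iv1 F4146) D3687 D8181 (iv3 D16481) D16482 F27734 F12931 (iv3 D7359) F10653
theorem F27736 : act 1 n15520 = n16481 := d15_0 (iv0 F27735) F26481 D15520
theorem F27737 : act 0 n15541 = n16482 := d20_7 (iv4 F26714) (iv1 F21466) F12507 (iv3 F9439) (iv1 F9443) D8162 F26765 (iv4 D16482) D16481 (iv1 F27736)
def n16919 : Q := act 5 n7894
theorem D16919 : act 5 n7894 = n16919 := rfl
theorem F27738 : act 3 n16919 = n7895 := d6_1 D16919 (iv5 D7895) D7894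
theorem F27739 : act 7 n16919 = n15317 := d13_2 (iv7 F12500) D16919 (iv5 D15317)
def n16920 : Q := act 6 n7894
theorem D16920 : act 6 n7894 = n16920 := rfl
theorem F27740 : act 3 n16920 = n7896 := d7_1 D16920 (iv6 D7896) D7894
theorem F27741 : act 4 n16920 = n7923 := d10_1 D16920 (iv6 D7923) (iv4 F12499)
theorem F27742 : act 0 n16920 = n13529 := d20_7 (iv4 D3226) F2558 D1449 D3275 (iv1 F26608) (iv3 F12542) (iv4 F27741) F22679 (iv3 D6439) (iv1 F7629)
def n16921 : Q := act 6 n7895
theorem D16921 : act 6 n7895 = n16921 := rfl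
theorem F27743 : act 2 n16921 = n15245 := d3_1 D16921 (iv6 D15245) (iv2 F12501)
theorem F27744 : act 4 n16921 = n12765 := d10_1 D16921 (iv6 D12765) (iv4 F12502)
def n16922 : Q := act 5 n7896
theorem D16922 : act 5 n7896 = n16922 := rfl
theorem F27745 : act 2 n16922 = n15248 := d2_1 D16922 (iv5 D15248) (iv2 F12504)
def n16923 : Q := act 7 n7896
theorem D16923 : act 7 n7896 = n16923 := rfl
theorem F27746 : act 2 n16923 = n15249 := d4_1 D16923 (iv7 D15249) (iv2 F12504)
theorem F27747 : act 4 n16923 = n7919 := d11_1 D16923 (iv7 D7919) (iv4 F12505)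
theorem F27748 : act 6 n16923 = n11395 := d14_1 D16923 (iv7 D11395) F7907 F5693 D7896
theorem F27749 : act 1 n15247 = n16923 := d15_1 D15247 (iv7 D16923) F12504
theorem F27750 : act 1 n16923 = n15246 := d15_1 F27749 (iv7 F27719) F27717
def n16924 : Q := act 4 n7897
theorem D16924 : act 4 n7897 = n16924 := rfl
theorem F27751 : act 2 n16924 = n8181 := d1_1 D16924 F26415 F26710
theorem F27752 : act 3 n16924 = n15541 := d5_1 D16924 (iv4 F26765) (iv3 D8162) D8163 (iv3 F12926)
theorem F27753 : act 7 n16924 = n15520 := d11_2 (iv7 F26712) D16924 (iv4 F26714)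
theorem F27754 : act 1 n15519 = n16924 := d15_1 D15519 F27753 (iv2 D15520)
theorem F27755 : act 6 n14865 = n16924 := d3_0 F27751 F12954 D14865
theorem F27756 : act 1 n16924 = n15283 := d15_0 F26706 (iv7 F26481) (iv2 F27751)
def n16925 : Q := act 5 n7897
theorem D16925 : act 5 n7897 = n16925 := rfl
def n16926 : Q := act 6 n7897
theorem D16926 : act 6 n7897 = n16926 := rfl
theorem F27757 : act 2 n16926 = n14866 := d3_1 D16926 (iv6 F26707) F26710
theorem F27758 : act 4 n16926 = n14865 := d10_1 D16926 F27755 (iv4 D16924)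
def n16927 : Q := act 5 n7898
theorem D16927 : act 5 n7898 = n16927 := rfl
def n16928 : Q := act 6 n7898
theorem D16928 : act 6 n7898 = n16928 := rfl
theorem F27759 : act 3 n16928 = n12028 := d7_1 D16928 F19904 (iv3 F26479)
theorem F27760 : act 4 n16928 = n13447 := d10_1 D16928 F26480 F12506
theorem F27761 : act 0 n16928 = n16600 := d20_7 F9405 (iv1 F4058) D3504 F26621 F10638 D13447 (iv4 F27760) (iv4 D16600) (iv3 D7719) (iv1 F9407)
def n16929 : Q := act 5 n7899
theorem D16929 : act 5 n7899 = n16929 := rfl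
theorem F27762 : act 2 n16929 = n7900 := d2_1 D16929 (iv5 D7900) D7899
def n16930 : Q := act 6 n7899
theorem D16930 : act 6 n7899 = n16930 := rfl
theorem F27763 : act 2 n16930 = n7901 := d3_1 D16930 (iv6 D7901) D7899
theorem F27764 : act 3 n16930 = n9743 := d7_1 D16930 (iv6 F27684) F27683
theorem F27765 : act 4 n16930 = n7939 := d10_1 D16930 (iv6 D7939) (iv4 F12507)
theorem F27766 : act 0 n16930 = n15423 := d20_7 F2591 D1478 D3348 D7292 (iv1 F27054) F21300 (iv4 F27765) (iv4 D15423) (iv3 D7280) (iv1 D3343)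
theorem F27767 : act 5 n9873 = n16930 := d6_0 F27764 F15219 D9873
def n16931 : Q := act 0 n7900
theorem D16931 : act 0 n7900 = n16931 := rfl
def n16932 : Q := act 1 n7900
theorem D16932 : act 1 n7900 = n16932 := rfl
def n16933 : Q := act 4 n7900
theorem D16933 : act 4 n7900 = n16933 := rfl
def n16934 : Q := act 6 n7900
theorem D16934 : act 6 n7900 = n16934 := rfl
theorem F27768 : act 3 n16934 = n7902 := d7_1 D16934 (iv6 D7902) (iv3 F12508)
def n16935 : Q := act 0 n7901
theorem D16935 : act 0 n7901 = n16935 := rfl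
def n16936 : Q := act 1 n7901
theorem D16936 : act 1 n7901 = n16936 := rfl
theorem F27769 : act 3 n7903 = n16936 := d20_3 F8872 (iv1 F10687) F12598 (iv1 D16936) F12509 F5618 D3582 D7909 F26935 (iv1 D12149)
theorem F27770 : act 4 n7957 = n16936 := d20_6 (iv4 D3348) (iv1 F3972) (iv4 F26295) F9202 (iv1 F10686) D7957 (iv1 D16936) F12510 F5629 (iv1 F10681)
theorem F27771 : act 7 n16936 = n15423 := d11_2 (iv7 F12682) F27770 (iv4 D15423)
theorem F27772 : act 2 n15423 = n16935 := d15_3 (iv0 D16935) D16936 F27771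
theorem F27773 : act 4 n16935 = n15422 := d1_2 D15423 F27772 (iv2 D15422)
def n16937 : Q := act 5 n7901
theorem D16937 : act 5 n7901 = n16937 := rfl
theorem F27774 : act 2 n16937 = n9873 := d2_1 D16937 F27767 F27763
theorem F27775 : act 3 n16937 = n7905 := d6_1 D16937 (iv5 D7905) (iv3 F12509)
def n16938 : Q := act 7 n7901
theorem D16938 : act 7 n7901 = n16938 := rfl
theorem F27776 : act 3 n16938 = n7906 := d8_1 D16938 (iv7 D7906) (iv3 F12509)
theorem F27777 : act 4 n16938 = n7943 := d11_1 D16938 (iv7 D7943) (iv4 F12510)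
theorem F27778 : act 6 n16938 = n15315 := d14_1 D16938 (iv7 F27041) (iv6 D12920) F9523 D7901
theorem F27779 : act 0 n15423 = n16938 := d20_7 (iv4 D5941) (iv1 D2507) (iv4 F3965) (iv3 F9202) (iv1 F26333) D7280 D15423 F27777 F12575 (iv1 F10658)
def n16939 : Q := act 0 n7902
theorem D16939 : act 0 n7902 = n16939 := rfl
def n16940 : Q := act 1 n7902
theorem D16940 : act 1 n7902 = n16940 := rfl
def n16941 : Q := act 5 n7902
theorem D16941 : act 5 n7902 = n16941 := rfl
theorem F27780 : act 6 n16941 = n7905 := d12_2 D7902 D16941 (iv5 D7905) (iv6 D3581) D3580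
def n16942 : Q := act 7 n7902
theorem D16942 : act 7 n7902 = n16942 := rfl
def n16943 : Q := act 5 n7903
theorem D16943 : act 5 n7903 = n16943 := rfl
theorem F27781 : act 2 n16943 = n15442 := d2_1 D16943 (iv5 D15442) F12513
theorem F27782 : act 0 n16943 = n9740 := d17_2 D7903 D16943 F27047 F20055 (iv5 F18338) F26305 F26285 (iv0 D3582) (iv4 F5618)
def n16944 : Q := act 6 n7903
theorem D16944 : act 6 n7903 = n16944 := rfl
theorem F27783 : act 2 n16944 = n14898 := d3_1 D16944 F24541 F12513
theorem F27784 : act 4 n16944 = n7956 := d10_1 D16944 (iv6 D7956) F12598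
theorem F27785 : act 0 n13530 = n16944 := d21_4 D5752 D12131 F20061 D13530 (iv6 D16944) D16943 F27782 F27047 (iv6 D12125) (iv1 D5750)
def n16945 : Q := act 3 n7904
theorem D16945 : act 3 n7904 = n16945 := rfl
theorem F27786 : act 4 n16945 = n12490 := d5_2 F12595 D16945 (iv3 D12490) (iv4 D5941) (iv3 F12594)
theorem F27787 : act 7 n16945 = n15441 := d8_2 (iv7 F12512) D16945 (iv3 D15441)
def n16946 : Q := act 5 n7904
theorem D16946 : act 5 n7904 = n16946 := rfl
theorem F27788 : act 7 n16946 = n15442 := d13_2 (iv7 F12512) D16946 (iv5 D15442)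
theorem F27789 : act 0 n9740 = n16946 := d19_0 (iv5 D16946) (iv4 F12595) F12594 (iv1 D2507) F2129 (iv4 F26294) (iv3 D1487) (iv1 F2587) D3335 F5324 D3740 (iv1 F7184) (iv5 D3955) (iv4 F6530) F6529 (iv1 F6525) D4517 (iv4 F7078) D9740
def n16947 : Q := act 6 n7904
theorem D16947 : act 6 n7904 = n16947 := rfl
theorem F27790 : act 4 n16947 = n12153 := d10_1 D16947 (iv6 D12153) F12595
def n16948 : Q := act 0 n7905
theorem D16948 : act 0 n7905 = n16948 := rfl
def n16949 : Q := act 1 n7905
theorem D16949 : act 1 n7905 = n16949 := rfl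
theorem F27791 : act 1 n16949 = n9875 := d15_1 D16949 (iv7 F15685) F26939
theorem F27792 : act 5 n13862 = n16949 := d21_6 D7895 (iv1 F18073) (iv5 D11131) D11132 F18076 D13862 (iv1 D16949) (iv5 D7905) (iv6 D3581) D3578
def n16950 : Q := act 4 n7905
theorem D16950 : act 4 n7905 = n16950 := rfl
theorem F27793 : act 2 n16950 = n10151 := d1_1 D16950 F15997 F26939
def n16951 : Q := act 7 n7905
theorem D16951 : act 7 n7905 = n16951 := rfl
theorem F27794 : act 2 n16951 = n9875 := d4_1 D16951 (iv7 F15685) F26939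
theorem F27795 : act 5 n16951 = n7906 := d13_1 D16951 (iv7 D7906) D7905
theorem F27796 : act 1 n9875 = n16948 := d15_0 (iv0 D16948) D16951 F27794
def n16952 : Q := act 5 n7909
theorem D16952 : act 5 n7909 = n16952 := rfl
theorem F27797 : act 0 n9418 = n16952 := d19_0 (iv5 D16952) (iv4 D7909) (iv3 F12664) F26267 (iv5 D5920) (iv4 D2501) F2124 (iv1 F1584) F1582 F813 F417 (iv1 F479) (iv5 F90) D336 D632 D970 F7259 D4271 D9418
def n16953 : Q := act 6 n7909
theorem D16953 : act 6 n7909 = n16953 := rfl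
theorem F27798 : act 4 n16953 = n7911 := d10_1 D16953 (iv6 D7911) D7909
def n16954 : Q := act 3 n7914
theorem D16954 : act 3 n7914 = n16954 := rfl
theorem F27799 : act 4 n16954 = n16954 := d5_2 D7914 D16954 (iv3 D16954) (iv4 D7914) F20120
def n16955 : Q := act 5 n7914
theorem D16955 : act 5 n7914 = n16955 := rfl
def n16956 : Q := act 6 n7914
theorem D16956 : act 6 n7914 = n16956 := rfl
theorem F27800 : act 4 n16956 = n7916 := d10_1 D16956 (iv6 D7916) D7914
def n16957 : Q := act 5 n7916
theorem D16957 : act 5 n7916 = n16957 := rfl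
theorem F27801 : act 3 n16957 = n16957 := d6_1 D16957 (iv5 D16957) F20122
theorem F27802 : act 6 n16957 = n13531 := d12_2 D7916 D16957 (iv5 F22682) F18257 (iv5 D7915)
theorem F27803 : act 0 n16957 = n16889 := d21_1 D16957 (iv5 D16889) F27005 (iv1 D13405) (iv6 F22294) (iv5 F26388) F27711 (iv5 D16909) D16910 (iv1 F27716)
theorem F27804 : act 0 n16896 = n16957 := d21_10 (iv5 D16957) F22832 (iv5 D13682) F10565 (iv1 F18334) F18337 (iv5 D5270) (iv1 F10330) D11293 (iv6 F27682)
theorem F27805 : act 7 n16957 = n7916 := d15_2 F27699 (iv0 F27803) (iv2 F27696)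
def n16958 : Q := act 4 n7917
theorem D16958 : act 4 n7917 = n16958 := rfl
theorem F27806 : act 2 n16958 = n15250 := d1_1 D16958 (iv4 D15250) (iv2 F12531)
theorem F27807 : act 7 n16958 = n15251 := d11_2 (iv7 F12530) D16958 (iv4 D15251)
theorem F27808 : act 0 n16958 = n16907 := d20_1 D16958 F27702 F26504 F11409 (iv3 F26454) (iv4 F26570) (iv1 F26608) F5625 (iv3 F5621) D7917
def n16959 : Q := act 5 n7917
theorem D16959 : act 5 n7917 = n16959 := rfl
theorem F27809 : act 2 n16959 = n12115 := d2_1 D16959 F20043 (iv2 F12531)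
theorem F27810 : act 3 n16959 = n16909 := d6_1 D16959 (iv5 D16909) F21295
theorem F27811 : act 6 n16959 = n12120 := d12_2 F20226 D16959 (iv5 F20228) (iv6 D12228) D12227
theorem F27812 : act 7 n16959 = n11119 := d13_2 (iv7 F12530) D16959 F18037
theorem F27813 : act 0 n16959 = n12114 := d21_1 D16959 (iv5 F20039) F11460 F12610 (iv6 D2880) F2420 F2649 (iv5 F2752) D3585 D7917
theorem F27814 : act 0 n12113 = n16959 := d21_10 (iv5 D16959) (iv1 F12528) F11545 F11546 (iv1 F8422) D11392 F18629 F12673 F12669 (iv6 F20035)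
def n16960 : Q := act 4 n7918
theorem D16960 : act 4 n7918 = n16960 := rfl
theorem F27815 : act 2 n16960 = n15251 := d1_1 D16960 (iv4 D15251) (iv2 F12523)
theorem F27816 : act 6 n16960 = n14060 := d10_2 F12520 D16960 (iv4 D14060)
theorem F27817 : act 7 n16960 = n15250 := d11_2 F12532 D16960 (iv4 D15250)
theorem F27818 : act 1 n16960 = n16907 := d18_6 F26922 F22293 F26921 F20034 F12521 D16960 F27702 (iv0 F21463) (iv5 F22712)
theorem F27819 : act 0 n16960 = n12139 := d20_1 D16960 F20075 F9520 (iv1 F21464) (iv3 D12836) F12562 (iv1 F12057) F11555 (iv3 F11544) (iv1 F12519)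
theorem F27820 : act 1 n16958 = n12139 := d15_0 (iv0 F27819) F27817 (iv2 F27806)
def n16961 : Q := act 2 n7920
theorem D16961 : act 2 n7920 = n16961 := rfl
theorem F27821 : act 7 n7921 = n16961 := d15_2 (iv0 D7920) D7921 (iv2 D16961)
def n16962 : Q := act 4 n7920
theorem D16962 : act 4 n7920 = n16962 := rfl
def n16963 : Q := act 6 n7920
theorem D16963 : act 6 n7920 = n16963 := rfl
def n16964 : Q := act 7 n7920
theorem D16964 : act 7 n7920 = n16964 := rfl
theorem F27822 : act 2 n16964 = n7921 := d4_1 D16964 F27821 (iv2 D16961)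
def n16965 : Q := act 3 n7921
theorem D16965 : act 3 n7921 = n16965 := rfl
def n16966 : Q := act 4 n7921
theorem D16966 : act 4 n7921 = n16966 := rfl
theorem F27823 : act 3 n16912 = n16966 := d20_5 (iv4 D5164) F3463 D3577 D7892 D16912 (iv4 D16966) (iv1 D7921) (iv4 F12499) (iv3 D7894) (iv1 F7682)
def n16967 : Q := act 5 n7921
theorem D16967 : act 5 n7921 = n16967 := rfl
def n16968 : Q := act 6 n7921
theorem D16968 : act 6 n7921 = n16968 := rfl
def n16969 : Q := act 6 n7922
theorem D16969 : act 6 n7922 = n16969 := rfl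
theorem F27824 : act 2 n16969 = n7923 := d3_1 D16969 (iv6 D7923) D7922
theorem F27825 : act 3 n16969 = n15288 := d7_1 D16969 (iv6 D15288) (iv3 F12537)
def n16970 : Q := act 0 n7923
theorem D16970 : act 0 n7923 = n16970 := rfl
def n16971 : Q := act 1 n7923
theorem D16971 : act 1 n7923 = n16971 := rfl
def n16972 : Q := act 5 n7923
theorem D16972 : act 5 n7923 = n16972 := rfl
theorem F27826 : act 3 n16972 = n7926 := d6_1 D16972 (iv5 D7926) (iv3 F12542)
def n16973 : Q := act 7 n7923
theorem D16973 : act 7 n7923 = n16973 := rfl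
theorem F27827 : act 3 n16973 = n7927 := d8_1 D16973 (iv7 D7927) (iv3 F12542)
theorem F27828 : act 6 n16973 = n11447 := d14_1 D16973 (iv7 D11447) F8100 (iv7 F5623) D7923
def n16974 : Q := act 4 n7926
theorem D16974 : act 4 n7926 = n16974 := rfl
theorem F27829 : act 2 n16974 = n15302 := d1_1 D16974 (iv4 D15302) (iv2 F12544)
theorem F27830 : act 1 n16974 = n15093 := d18_6 (iv1 F12038) (iv4 F12039) (iv1 D3589) (iv4 F5625) D7926 D16974 (iv4 D15093) D15092 F24714
def n16975 : Q := act 5 n7930
theorem D16975 : act 5 n7930 = n16975 := rfl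
theorem F27831 : act 2 n16975 = n15340 := d2_1 D16975 (iv5 D15340) (iv2 F27229)
theorem F27832 : act 3 n16975 = n7932 := d6_1 D16975 (iv5 D7932) D7930
theorem F27833 : act 7 n16975 = n15356 := d13_2 (iv7 F27230) D16975 (iv5 D15356)
theorem F27834 : act 0 n16975 = n16107 := d17_2 F27281 D16975 (iv5 D16107) F11794 D16133 F25671 (iv5 D15340) D15338 (iv4 F27279)
theorem F27835 : act 1 n16975 = n16186 := d17_6 (iv1 F9271) D12555 (iv1 F20909) F27225 (iv4 F12571) D16975 (iv5 D16186) F11807 (iv4 D7366)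
theorem F27836 : act 4 n15687 = n16975 := d18_7 F11813 (iv4 D7371) (iv1 D3382) F2609 D3384 D7377 D15687 F27835 (iv5 D16186)
theorem F27837 : act 5 n9063 = n15687 := d16_3 D15678 (iv5 F27217) F17148 F27836 (iv5 D16975) F12571 (iv5 F27225) (iv7 F27222) F27221
theorem E4015 : n12623 = n7932 := (c20_5 F5378 F2772 (iv4 F4022) (iv3 F9315) D12623 (iv3 F27832) (iv4 F27836) (iv1 D15687) (iv4 D7377) F5376 D3385)
theorem F27838 : act 0 n7932 = n7466 := (sb E4015 (iv1 F21020))
theorem F27839 : act 1 n7932 = n5993 := (sb E4015 (iv0 D12623))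
theorem E4016 : n12624 = n7937 := (c15_2 F27839 D12624 (iv7 F27242) F27254)
theorem F27840 : act 0 n7937 = n5993 := (sb E4016 (iv1 D12624))
theorem F27841 : act 1 n7937 = n7466 := (sb E4016 F21021)
theorem F27842 : act 1 n12621 = n16927 := d17_6 (iv1 F9537) D7937 F27840 (iv5 D5993) D5992 D12621 (iv5 D16927) F21472 F21469
theorem F27843 : act 1 n15928 = n16925 := d17_6 D3591 D7932 F27838 (iv5 D7466) D7465 D15928 (iv5 D16925) (iv0 D7897) F5616
theorem F27844 : act 1 n16925 = n12621 := d15_1 F27843 F21017 (iv2 F25392)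
theorem F27845 : act 3 n15687 = n9064 := d6_1 F27837 (iv5 D9064) D9063
def n16976 : Q := act 6 n7930
theorem D16976 : act 6 n7930 = n16976 := rfl
theorem F27847 : act 3 n16976 = n7933 := d7_1 D16976 (iv6 D7933) D7930
theorem F27848 : act 4 n16976 = n12502 := d10_1 D16976 (iv6 D12502) (iv4 F12571)
def n16977 : Q := act 0 n7931
theorem D16977 : act 0 n7931 = n16977 := rfl
theorem F27849 : act 4 n16977 = n16481 := d20_2 D7931 D16977 (iv3 D16481) (iv1 D7641) (iv3 D3466) (iv4 D1527) F1573 D856 D1583 D3591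
theorem F27850 : act 1 n7936 = n16977 := d15_0 (iv0 D16977) F27252 F27246
theorem F27851 : act 3 n16962 = n16977 := d20_9 (iv4 D7936) (iv1 D3592) (iv4 F5616) (iv3 D3579) D3578 D7894 F12499 D7920 D16962 (iv1 F27850)
def n16978 : Q := act 1 n7931
theorem D16978 : act 1 n7931 = n16978 := rfl
theorem F27852 : act 1 n16978 = n7936 := d15_1 D16978 (iv7 F27241) F27255
def n16979 : Q := act 3 n7931
theorem D16979 : act 3 n7931 = n16979 := rfl
theorem F27853 : act 4 n16979 = n12500 := d5_2 D7931 D16979 (iv3 D12500) (iv4 F12571) (iv3 D7930)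
theorem F27854 : act 7 n16979 = n15353 := d8_2 (iv7 F27252) D16979 F24928
theorem F27855 : act 0 n16979 = n8148 := d20_4 F5616 D3591 D7931 D16979 F12917 F5697 D3670 D8154 (iv3 F26479) (iv1 D7898)
theorem F27856 : act 1 n16979 = n12779 := d15_1 (iv0 F27855) (iv7 F26776) (iv2 F26657)
def n16980 : Q := act 5 n7931
theorem D16980 : act 5 n7931 = n16980 := rfl
def n16981 : Q := act 6 n7931
theorem D16981 : act 6 n7931 = n16981 := rfl
theorem F27857 : act 4 n16981 = n7933 := d10_1 D16981 (iv6 D7933) D7931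
def n16982 : Q := act 4 n7932
theorem D16982 : act 4 n7932 = n16982 := rfl
def n16983 : Q := act 6 n7932
theorem D16983 : act 6 n7932 = n16983 := rfl
def n16984 : Q := act 0 n7933
theorem D16984 : act 0 n7933 = n16984 := rfl
def n16985 : Q := act 1 n7933
theorem D16985 : act 1 n7933 = n16985 := rfl
def n16986 : Q := act 5 n7933
theorem D16986 : act 5 n7933 = n16986 := rfl
def n16987 : Q := act 7 n7933
theorem D16987 : act 7 n7933 = n16987 := rfl
def n16988 : Q := act 4 n7935
theorem D16988 : act 4 n7935 = n16988 := rfl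
theorem F27858 : act 0 n16962 = n16988 := d20_10 (iv4 D16988) (iv1 F27243) F27040 F27039 (iv1 F21480) F26701 (iv4 F26415) F27735 (iv4 F27849) (iv3 F27851)
def n16989 : Q := act 5 n7935
theorem D16989 : act 5 n7935 = n16989 := rfl
theorem F27859 : act 3 n16989 = n7937 := d6_1 D16989 (iv5 D7937) D7935
def n16990 : Q := act 6 n7935
theorem D16990 : act 6 n7935 = n16990 := rfl
theorem F27860 : act 3 n16990 = n7938 := d7_1 D16990 (iv6 D7938) D7935
def n16991 : Q := act 5 n7936
theorem D16991 : act 5 n7936 = n16991 := rfl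
def n16992 : Q := act 6 n7936
theorem D16992 : act 6 n7936 = n16992 := rfl
theorem F27861 : act 4 n16992 = n7938 := d10_1 D16992 (iv6 D7938) D7936
def n16993 : Q := act 4 n7937
theorem D16993 : act 4 n7937 = n16993 := rfl
def n16994 : Q := act 6 n7937
theorem D16994 : act 6 n7937 = n16994 := rfl
def n16996 : Q := act 1 n7938
theorem D16996 : act 1 n7938 = n16996 := rfl
def n16997 : Q := act 5 n7938
theorem D16997 : act 5 n7938 = n16997 := rfl
def n16998 : Q := act 7 n7938
theorem D16998 : act 7 n7938 = n16998 := rfl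
def n16999 : Q := act 0 n7939
theorem D16999 : act 0 n7939 = n16999 := rfl
def n17000 : Q := act 1 n7939
theorem D17000 : act 1 n7939 = n17000 := rfl
theorem F27862 : act 1 n17000 = n7943 := d15_1 D17000 (iv7 D7943) (iv2 F12573)
theorem F27863 : act 3 n15387 = n17000 := d20_9 (iv4 F27765) F27766 (iv4 D15423) (iv3 D7280) (iv1 D3343) (iv3 F5329) F5330 D7268 D15387 (iv1 D17000)
def n17001 : Q := act 5 n7939
theorem D17001 : act 5 n7939 = n17001 := rfl
theorem F27864 : act 2 n17001 = n7942 := d2_1 D17001 (iv5 D7942) (iv2 F12573)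
def n17002 : Q := act 7 n7939
theorem D17002 : act 7 n7939 = n17002 := rfl
theorem F27865 : act 2 n17002 = n7943 := d4_1 D17002 (iv7 D7943) (iv2 F12573)
theorem F27866 : act 3 n17002 = n12781 := d8_1 D17002 (iv7 F26777) F21300
theorem F27867 : act 6 n17002 = n12778 := d14_1 D17002 (iv7 F26775) (iv6 D12935) F9534 D7939
theorem F27868 : act 1 n7943 = n16999 := d15_0 (iv0 D16999) D17002 F27865
theorem F27869 : act 1 n7941 = n17002 := d15_1 D7941 (iv7 D17002) F12573
theorem F27870 : act 1 n17002 = n7940 := d15_0 (iv0 D7940) D7943 (iv2 F27865)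
def n17003 : Q := act 2 n7940
theorem D17003 : act 2 n7940 = n17003 := rfl
theorem F27871 : act 7 n7941 = n17003 := d15_2 (iv0 D7940) D7941 (iv2 D17003)
def n17004 : Q := act 3 n7940
theorem D17004 : act 3 n7940 = n17004 := rfl
theorem F27872 : act 4 n17004 = n15366 := d20_6 (iv4 D3606) (iv1 D1586) (iv4 F2760) (iv3 F5629) D7940 D17004 F26500 F11572 F26402 (iv1 F10668)
def n17005 : Q := act 4 n7940
theorem D17005 : act 4 n7940 = n17005 := rfl
def n17006 : Q := act 5 n7940
theorem D17006 : act 5 n7940 = n17006 := rfl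
def n17007 : Q := act 6 n7940
theorem D17007 : act 6 n7940 = n17007 := rfl
def n17008 : Q := act 7 n7940
theorem D17008 : act 7 n7940 = n17008 := rfl
theorem F27873 : act 2 n17008 = n7941 := d4_1 D17008 F27871 (iv2 D17003)
def n17009 : Q := act 3 n7941
theorem D17009 : act 3 n7941 = n17009 := rfl
def n17010 : Q := act 4 n7941
theorem D17010 : act 4 n7941 = n17010 := rfl
def n17011 : Q := act 5 n7941
theorem D17011 : act 5 n7941 = n17011 := rfl
def n17012 : Q := act 6 n7941
theorem D17012 : act 6 n7941 = n17012 := rfl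
def n17013 : Q := act 0 n7942
theorem D17013 : act 0 n7942 = n17013 := rfl
def n17014 : Q := act 1 n7942
theorem D17014 : act 1 n7942 = n17014 := rfl
def n17015 : Q := act 4 n7942
theorem D17015 : act 4 n7942 = n17015 := rfl
def n17016 : Q := act 7 n7942
theorem D17016 : act 7 n7942 = n17016 := rfl
theorem F27874 : act 3 n17016 = n7947 := d8_1 D17016 (iv7 D7947) (iv3 F12574)
theorem F27875 : act 5 n17016 = n7943 := d13_1 D17016 (iv7 D7943) D7942
def n17017 : Q := act 3 n7944
theorem D17017 : act 3 n7944 = n17017 := rfl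
def n17018 : Q := act 6 n7944
theorem D17018 : act 6 n7944 = n17018 := rfl
def n17019 : Q := act 3 n7945
theorem D17019 : act 3 n7945 = n17019 := rfl
theorem F27876 : act 5 n17019 = n14090 := d6_2 (iv5 F12576) D17019 F23543
def n17020 : Q := act 6 n7945
theorem D17020 : act 6 n7945 = n17020 := rfl
theorem F27877 : act 5 n17020 = n14091 := d12_1 D17020 (iv6 D14091) (iv5 D6698) D6699 (iv5 F12576)
def n17021 : Q := act 0 n7946
theorem D17021 : act 0 n7946 = n17021 := rfl
theorem F27878 : act 4 n17021 = n12483 := d18_3 (iv1 D7945) D7946 D17021 F20785 F11479 (iv0 F9552) (iv4 F9153) F11515 (iv5 F12576)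
theorem F27879 : act 2 n15430 = n17021 := d1_3 F27878 (iv2 F20786) D15430
theorem F27880 : act 7 n15433 = n17021 := d11_0 F27878 (iv7 F20787) D15433
theorem F27881 : act 5 n15547 = n17021 := d16_1 D15547 F27878 F20785 F11479 (iv5 D6137) F26399 D7330 F26577 (iv2 F26578)
def n17022 : Q := act 1 n7946
theorem D17022 : act 1 n7946 = n17022 := rfl
theorem F27882 : act 7 n17022 = n15430 := d15_2 (iv0 D17021) D17022 F27879
theorem F27883 : act 4 n17022 = n12484 := d18_7 (iv1 F10668) (iv4 D3606) (iv1 D1586) (iv4 F2760) D3597 D7946 D17022 F20789 F11590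
theorem F27884 : act 2 n15433 = n17022 := d1_3 F27883 (iv2 F20792) D15433
theorem F27885 : act 5 n15532 = n17022 := d9_0 F27883 F20791 F10699 (iv5 D6140) F26356 D7335 D15547 F27881 F27878 F20785 F11479 (iv5 D6137) F26399 D7330 D15532
def n17023 : Q := act 3 n7946
theorem D17023 : act 3 n7946 = n17023 := rfl
def n17024 : Q := act 5 n7946
theorem D17024 : act 5 n7946 = n17024 := rfl
theorem F27886 : act 4 n17024 = n8174 := d16_2 D7946 D17024 F12930 F5700 (iv5 F4084) (iv4 F9448) (iv5 F21314) (iv7 D12855) F9446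
theorem F27887 : act 7 n17024 = n8173 := d16_8 (iv4 D12942) (iv5 D6134) F4140 F2257 (iv4 F2760) D3597 D7946 D17024 (iv2 F21503)
theorem F27888 : act 1 n17024 = n15561 := d17_8 (iv1 F20765) (iv5 D12469) (iv1 F9199) D7335 D15547 F27881 (iv0 D17021) D17024 (iv4 D15561)
theorem F27889 : act 0 n17024 = n15566 := d18_0 (iv4 D15566) (iv1 D7340) D7341 (iv5 F26497) F24986 F20788 (iv4 F27878) (iv0 D17021) D17024
def n17025 : Q := act 7 n7946
theorem D17025 : act 7 n7946 = n17025 := rfl
theorem F27890 : act 4 n17025 = n7947 := d11_1 D17025 (iv7 D7947) D7946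
theorem F27891 : act 5 n17025 = n8173 := d13_1 D17025 (iv7 F27887) (iv5 D17024)
theorem F27892 : act 1 n15433 = n17025 := d15_1 (iv0 F24980) (iv7 D17025) (iv2 F21312)
theorem F27893 : act 1 n17025 = n15430 := d15_1 F27892 (iv7 F27882) (iv2 F27884)
def n17026 : Q := act 6 n7947
theorem D17026 : act 6 n7947 = n17026 := rfl
def n17027 : Q := act 4 n7954
theorem D17027 : act 4 n7954 = n17027 := rfl
theorem F27894 : act 2 n17027 = n12151 := d1_1 D17027 F20096 F12588
theorem F27895 : act 3 n17027 = n9675 := d5_1 D17027 F15227 (iv3 F27690) F27691 (iv3 F12589)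
theorem F27896 : act 6 n17027 = n12163 := d10_2 (iv6 F12591) D17027 F20156
theorem F27897 : act 7 n17027 = n11127 := d11_2 (iv7 F12592) D17027 F18061
theorem F27898 : act 0 n17027 = n12149 := d18_2 D7954 D17027 F20094 (iv5 F26271) (iv4 F12460) D16890 (iv4 F27662) (iv0 F18627) (iv5 D7955)
theorem F27899 : act 1 n17027 = n12148 := d18_6 D11229 (iv4 F18250) (iv1 F20158) F20156 (iv5 F12590) D17027 F20150 (iv0 D7883) (iv5 F7685)
theorem F27900 : act 5 n9674 = n17027 := d13_3 F27897 (iv5 F26933) (iv7 F15073)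
def n17028 : Q := act 6 n7955
theorem D17028 : act 6 n7955 = n17028 := rfl
theorem F27901 : act 2 n17028 = n12114 := d3_1 D17028 (iv6 F20040) (iv2 F12665)
theorem F27902 : act 3 n17028 = n7961 := d7_1 D17028 (iv6 D7961) (iv3 F12666)
theorem F27903 : act 5 n17028 = n12113 := d12_1 D17028 F20035 (iv5 F12669) (iv6 D7956) D7955
theorem F27904 : act 7 n17028 = n12113 := d14_2 F21329 D17028 F20035 F12672 (iv6 F21330)
theorem F27905 : act 0 n17028 = n11119 := d21_4 (iv5 F3797) (iv1 F10687) D7955 D17028 (iv6 D11119) (iv5 F8684) (iv1 F8688) F8830 (iv6 F10057) F10054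
theorem F27906 : act 0 n12115 = n17028 := d21_4 D12152 (iv1 F22848) F22845 F22719 (iv6 D17028) (iv5 D7955) D7954 F12590 (iv6 F12591) (iv1 F12593)
def n17029 : Q := act 0 n7957
theorem D17029 : act 0 n7957 = n17029 := rfl
theorem F27907 : act 1 n15422 = n17029 := d15_0 (iv0 D17029) F12682 D15422
def n17030 : Q := act 1 n7957
theorem D17030 : act 1 n7957 = n17030 := rfl
def n17031 : Q := act 2 n7957
theorem D17031 : act 2 n7957 = n17031 := rfl
theorem F27908 : act 3 n17031 = n15415 := d0_2 D7957 D17031 (iv2 D15415) (iv3 D7277) (iv2 F12633)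
theorem F27909 : act 7 n17031 = n15422 := d4_2 (iv7 F12682) D17031 (iv2 D15422)
theorem F27910 : act 1 n17031 = n15420 := d15_0 (iv0 D15420) (iv7 F12682) D17031
theorem F27911 : act 1 n17030 = n15422 := d15_1 D17030 (iv7 F27909) (iv2 D17031)
theorem F27912 : act 1 n15421 = n17031 := d15_1 D15421 F27909 (iv2 D15422)
def n17032 : Q := act 5 n7957
theorem D17032 : act 5 n7957 = n17032 := rfl
theorem F27913 : act 3 n17032 = n7958 := d6_1 D17032 (iv5 D7958) D7957
theorem F27914 : act 7 n17032 = n15424 := d13_2 (iv7 F12682) D17032 (iv5 D15424)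
def n17033 : Q := act 6 n7957
theorem D17033 : act 6 n7957 = n17033 := rfl
theorem F27915 : act 3 n17033 = n7959 := d7_1 D17033 (iv6 D7959) D7957
theorem F27916 : act 7 n14894 = n17033 := d8_0 F27915 (iv7 F12687) D14894
def n17034 : Q := act 4 n7958
theorem D17034 : act 4 n7958 = n17034 := rfl
theorem F27917 : act 2 n17034 = n15418 := d1_1 D17034 (iv4 D15418) (iv2 F12683)
theorem F27918 : act 7 n17034 = n15426 := d11_2 (iv7 F12684) D17034 (iv4 D15426)
theorem F27919 : act 5 n17034 = n15566 := d16_1 D17034 (iv4 D15566) (iv5 F25799) (iv4 F26379) (iv5 D3607) D3606 D7963 F12704 (iv2 F12683)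
theorem F27920 : act 0 n17034 = n15124 := d18_2 F26551 D17034 (iv4 D15124) (iv5 D7187) F5302 (iv0 F7946) (iv4 F10935) F26547 D15047
theorem F27921 : act 0 n15118 = n15447 := d20_4 D17034 F27920 (iv4 D15124) (iv3 F24728) F24989 D15449 F24994 (iv4 D15054) (iv3 F24680) F26551
def n17035 : Q := act 6 n7958
theorem D17035 : act 6 n7958 = n17035 := rfl
theorem F27922 : act 2 n17035 = n15419 := d3_1 D17035 (iv6 D15419) (iv2 F12683)
def n17036 : Q := act 0 n7962
theorem D17036 : act 0 n7962 = n17036 := rfl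
theorem F27923 : act 1 n15415 = n17036 := d15_0 (iv0 D17036) F12702 D15415
def n17037 : Q := act 1 n7962
theorem D17037 : act 1 n7962 = n17037 := rfl
def n17038 : Q := act 2 n7962
theorem D17038 : act 2 n7962 = n17038 := rfl
theorem F27924 : act 3 n17038 = n15422 := d0_2 D7962 D17038 (iv2 D15422) (iv3 D7280) (iv2 F12635)
theorem F27925 : act 4 n17038 = n15454 := d1_2 (iv4 F12701) D17038 (iv2 D15454)
theorem F27926 : act 7 n17038 = n15415 := d4_2 (iv7 F12702) D17038 (iv2 D15415)
theorem F27927 : act 1 n17038 = n15413 := d15_0 (iv0 D15413) (iv7 F12702) D17038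
theorem F27928 : act 1 n17037 = n15415 := d15_1 D17037 (iv7 F27926) (iv2 D17038)
theorem F27929 : act 1 n15414 = n17038 := d15_1 D15414 F27926 (iv2 D15415)
theorem F27930 : act 4 n15414 = n17037 := d20_0 (iv1 D17037) F12701 (iv3 D7301) F10678 (iv3 F5629) (iv4 F12510) D16935 F27773 (iv3 F27924) (iv1 F27929)
theorem F27931 : act 3 n17029 = n15414 := d20_5 F2760 D1585 D3601 D7957 D17029 F27930 (iv1 D17037) F12701 (iv3 D7301) F10678
theorem F27932 : act 3 n15420 = n17037 := d20_5 F5630 (iv1 F4082) (iv4 F10673) D7280 D15420 (iv4 F27930) (iv1 D15414) (iv4 F20798) (iv3 D12487) F10688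
def n17039 : Q := act 5 n7962
theorem D17039 : act 5 n7962 = n17039 := rfl
theorem F27933 : act 3 n17039 = n7963 := d6_1 D17039 (iv5 D7963) D7962
theorem F27934 : act 7 n17039 = n15416 := d13_2 (iv7 F12702) D17039 (iv5 D15416)
def n17040 : Q := act 6 n7962
theorem D17040 : act 6 n7962 = n17040 := rfl
theorem F27935 : act 3 n17040 = n7964 := d7_1 D17040 (iv6 D7964) D7962
theorem F27936 : act 4 n17040 = n15456 := d10_1 D17040 (iv6 D15456) (iv4 F12701)
def n17041 : Q := act 4 n7963
theorem D17041 : act 4 n7963 = n17041 := rfl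
theorem F27937 : act 2 n17041 = n15426 := d1_1 D17041 (iv4 D15426) (iv2 F12703)
theorem F27938 : act 5 n17041 = n15561 := d9_2 D7963 D17041 (iv4 D15561) (iv5 F25794) (iv4 F26420) (iv5 D3602) D3601 D7958 D17034 F27919 (iv4 D15566) (iv5 F25799) (iv4 F26379) (iv5 D3607) D3606
theorem F27939 : act 7 n17041 = n15418 := d11_2 (iv7 F12704) D17041 (iv4 D15418)
theorem F27940 : act 1 n17041 = n15124 := d18_6 F10680 F9448 (iv1 F4087) D3606 D7963 D17041 (iv4 D15124) (iv0 F11592) (iv5 D7293)
def n17042 : Q := act 6 n7963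
theorem D17042 : act 6 n7963 = n17042 := rfl
theorem F27941 : act 2 n17042 = n15427 := d3_1 D17042 (iv6 D15427) (iv2 F12703)
def n17043 : Q := act 5 n7967
theorem D17043 : act 5 n7967 = n17043 := rfl
theorem F27942 : act 2 n17043 = n12800 := d2_1 D17043 (iv5 D12800) (iv2 F12718)
theorem F27943 : act 3 n17043 = n10083 := d6_1 D17043 F15942 (iv3 F12960)
theorem F27944 : act 7 n17043 = n12796 := d13_2 (iv7 F12719) D17043 (iv5 D12796)
theorem F27945 : act 1 n17043 = n12954 := d17_6 F6466 (iv5 F4224) (iv1 F9749) F14007 D7967 D17043 F21542 (iv0 F9725) (iv4 D6228)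
theorem F27946 : act 4 n17043 = n13131 := d18_5 (iv1 D3610) F2761 D3609 D7967 D17043 F21906 F9759 F9748 F14010
theorem E4017 : n13163 = n13131 := ((c1_1 F27946 F21939 (iv4 F21248) (iv2 F27942))).symm
theorem F27947 : act 2 n13131 = n6264 := (sb E4017 F21939)
theorem F27948 : act 7 n13131 = n6263 := (sb E4017 (iv7 D13163))
theorem E4018 : n13159 = n13130 := (c15_4 (iv0 D13130) D13131 F27948 D13159)
theorem F27949 : act 2 n13130 = n6263 := (sb E4018 (iv2 D13159))
theorem F27950 : act 7 n13130 = n6264 := (sb E4018 (iv7 F21936))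
def n17044 : Q := act 6 n7970
theorem D17044 : act 6 n7970 = n17044 := rfl
theorem F27951 : act 3 n17044 = n7973 := d7_1 D17044 (iv6 D7973) D7970
def n17045 : Q := act 5 n7971
theorem D17045 : act 5 n7971 = n17045 := rfl
theorem F27952 : act 2 n17045 = n12796 := d2_1 D17045 (iv5 D12796) (iv2 F12725)
theorem F27953 : act 3 n17045 = n8846 := d6_1 D17045 (iv5 F13764) (iv3 F12727)
theorem F27954 : act 7 n17045 = n12800 := d13_2 (iv7 F12726) D17045 (iv5 D12800)
theorem F27955 : act 0 n17045 = n12954 := d17_2 F12845 D17045 F21542 (iv4 F9723) D13093 F21836 (iv5 D12796) (iv0 F12355) F12844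
theorem F27956 : act 4 n17045 = n13130 := d18_5 (iv1 F5636) F4066 (iv1 F5641) D7971 D17045 (iv0 D13130) (iv4 D6251) D6250 F14007
def n17046 : Q := act 6 n7971
theorem D17046 : act 6 n7971 = n17046 := rfl
theorem F27957 : act 2 n17046 = n12797 := d3_1 D17046 (iv6 D12797) (iv2 F12725)
theorem F27958 : act 3 n17046 = n12861 := d7_1 D17046 (iv6 D12861) (iv3 F12727)
theorem F27959 : act 4 n17046 = n7973 := d10_1 D17046 (iv6 D7973) D7971
def n17047 : Q := act 5 n7973
theorem D17047 : act 5 n7973 = n17047 := rfl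
theorem F27960 : act 2 n17047 = n12798 := d2_1 D17047 (iv5 D12798) (iv2 F12731)
theorem F27961 : act 7 n17047 = n13201 := d13_2 F21436 D17047 (iv5 F21985)
theorem F27962 : act 0 n17047 = n7982 := d21_7 (iv5 F14007) (iv1 D6250) (iv5 D2628) (iv6 F4067) (iv1 F5641) D7973 D17047 (iv5 D7982) (iv6 D3613) D3609
theorem F27963 : act 0 n13088 = n17047 := d21_7 D3612 F14021 (iv5 D2619) F7207 D2615 D6226 D13088 (iv5 D17047) (iv6 D7973) (iv1 D3610)
def n17048 : Q := act 4 n7974
theorem D17048 : act 4 n7974 = n17048 := rfl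
theorem F27964 : act 2 n17048 = n7978 := d1_1 D17048 (iv4 D7978) (iv2 F12732)
theorem F27965 : act 7 n17048 = n12803 := d11_2 (iv7 F12734) D17048 (iv4 D12803)
theorem F27966 : act 0 n17048 = n12811 := d18_2 (iv1 F12736) D17048 (iv4 F21820) (iv5 D13089) (iv4 D6228) F6467 F2295 (iv0 F6461) (iv5 F14017)
theorem F27967 : act 1 n17048 = n12810 := d18_6 F12355 (iv4 D6050) (iv1 F5640) F5638 D7974 D17048 F21854 (iv0 F21853) (iv5 D8040)
def n17049 : Q := act 6 n7974
theorem D17049 : act 6 n7974 = n17049 := rfl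
theorem F27968 : act 2 n17049 = n7979 := d3_1 D17049 (iv6 D7979) (iv2 F12732)
theorem F27969 : act 3 n17049 = n16710 := d7_1 D17049 (iv6 D16710) (iv3 F12733)
def n17050 : Q := act 5 n7975
theorem D17050 : act 5 n7975 = n17050 := rfl
theorem F27970 : act 2 n17050 = n7982 := d2_1 D17050 (iv5 D7982) (iv2 F12737)
theorem F27971 : act 3 n17050 = n16711 := d6_1 D17050 (iv5 D16711) (iv3 F12738)
theorem F27972 : act 7 n17050 = n13088 := d13_2 (iv7 F12740) D17050 (iv5 D13088)
theorem F27973 : act 0 n17050 = n13201 := d21_1 D17050 (iv5 F21985) (iv6 F21438) (iv1 D6274) (iv6 D2634) (iv5 F4224) (iv1 F9749) F14007 (iv6 F13906) (iv1 F12742)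
theorem F27974 : act 0 n12798 = n17050 := d21_1 D12798 (iv5 D17050) (iv6 D7975) (iv1 F5642) D6057 D12802 F21449 (iv5 D12911) F9513 (iv1 F17555)
def n17051 : Q := act 5 n7978
theorem D17051 : act 5 n7978 = n17051 := rfl
theorem F27975 : act 3 n17051 = n16659 := d6_1 D17051 (iv5 D16659) (iv3 F12745)
theorem F27976 : act 7 n17051 = n12813 := d13_2 (iv7 F12746) D17051 (iv5 D12813)
def n17052 : Q := act 6 n7978
theorem D17052 : act 6 n7978 = n17052 := rfl
theorem F27977 : act 3 n17052 = n16660 := d7_1 D17052 (iv6 D16660) (iv3 F12745)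
theorem F27978 : act 4 n17052 = n7979 := d10_1 D17052 (iv6 D7979) D7978
def n17053 : Q := act 0 n7979
theorem D17053 : act 0 n7979 = n17053 := rfl
def n17054 : Q := act 1 n7979
theorem D17054 : act 1 n7979 = n17054 := rfl
def n17055 : Q := act 5 n7979
theorem D17055 : act 5 n7979 = n17055 := rfl
theorem F27979 : act 3 n17055 = n7985 := d6_1 D17055 (iv5 D7985) (iv3 F12747)
theorem F27980 : act 6 n17055 = n7982 := d12_2 D7979 D17055 (iv5 D7982) (iv6 D3613) D3612
def n17056 : Q := act 7 n7979
theorem D17056 : act 7 n7979 = n17056 := rfl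
theorem F27981 : act 3 n17056 = n7986 := d8_1 D17056 (iv7 D7986) (iv3 F12747)
theorem F27982 : act 6 n17056 = n12817 := d14_1 D17056 (iv7 D12817) (iv6 D6062) (iv7 F5644) D7979
def n17057 : Q := act 4 n7980
theorem D17057 : act 4 n7980 = n17057 := rfl
theorem F27983 : act 2 n17057 = n13199 := d1_1 D17057 (iv4 D13199) F14034
theorem F27984 : act 3 n17057 = n10251 := d5_1 D17057 F16928 (iv3 D9106) D9107 F14170
theorem F27985 : act 7 n17057 = n13196 := d11_2 (iv7 F14033) D17057 (iv4 D13196)
theorem F27986 : act 0 n17057 = n13094 := d20_1 D17057 F21839 (iv3 D12965) (iv1 D6158) F4157 F2263 F1626 (iv4 F2769) (iv3 F5645) D7980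
theorem F27987 : act 0 n12945 = n17057 := d20_10 (iv4 D17057) (iv1 F12748) F9707 F9706 F7231 (iv3 F12356) (iv4 F27452) F27453 F21515 (iv3 F21512)
def n17058 : Q := act 5 n7980
theorem D17058 : act 5 n7980 = n17058 := rfl
theorem F27988 : act 2 n17058 = n13200 := d2_1 D17058 (iv5 D13200) F14034
theorem F27989 : act 7 n17058 = n13197 := d13_2 (iv7 F14033) D17058 (iv5 D13197)
theorem F27990 : act 1 n17058 = n12911 := d15_0 (iv0 F21449) (iv7 F21983) (iv2 F27988)
def n17059 : Q := act 0 n7982
theorem D17059 : act 0 n7982 = n17059 := rfl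
theorem F27991 : act 5 n17059 = n8131 := d21_2 D7982 D17059 (iv6 F17535) (iv1 F12748) (iv6 D6226) D6225 (iv1 F9703) (iv5 F14030) D6057 F14031
theorem F27992 : act 2 n13201 = n17059 := d15_3 (iv0 D17059) (iv0 F27962) F27961
theorem F27993 : act 1 n13088 = n17059 := d15_0 (iv0 D17059) F12751 (iv2 F21814)
theorem F27994 : act 7 n17059 = n12798 := d15_2 (iv0 F27963) F27993 (iv2 F27960)
def n17060 : Q := act 4 n7982
theorem D17060 : act 4 n7982 = n17060 := rfl
theorem F27995 : act 7 n17060 = n13202 := d11_2 (iv7 F12751) D17060 (iv4 D13202)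
def n17061 : Q := act 2 n7983
theorem D17061 : act 2 n7983 = n17061 := rfl
theorem F27996 : act 6 n17061 = n16832 := d3_2 (iv6 F12752) D17061 F27585
theorem F27997 : act 7 n7984 = n17061 := d15_2 (iv0 D7983) D7984 (iv2 D17061)
def n17062 : Q := act 3 n7983
theorem D17062 : act 3 n7983 = n17062 := rfl
theorem F27998 : act 6 n17062 = n16841 := d7_2 (iv6 F12752) D17062 F27589
def n17063 : Q := act 4 n7983
theorem D17063 : act 4 n7983 = n17063 := rfl
theorem F27999 : act 6 n17063 = n16846 := d10_2 (iv6 F12752) D17063 (iv4 D16846)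
def n17064 : Q := act 5 n7983
theorem D17064 : act 5 n7983 = n17064 := rfl
theorem F28000 : act 6 n17064 = n16849 := d12_2 (iv6 F12752) D17064 (iv5 D16849) (iv6 D7855) D7854
theorem F28001 : act 0 n16849 = n8706 := d21_10 (iv5 D8706) (iv1 D3899) D3900 F5854 (iv1 F5652) (iv6 F12756) (iv5 D7985) D7983 D17064 F28000
def n17065 : Q := act 7 n7983
theorem D17065 : act 7 n7983 = n17065 := rfl
theorem F28002 : act 2 n17065 = n7984 := d4_1 D17065 F27997 (iv2 D17061)
def n17066 : Q := act 3 n7984
theorem D17066 : act 3 n7984 = n17066 := rfl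
def n17067 : Q := act 4 n7984
theorem D17067 : act 4 n7984 = n17067 := rfl
def n17068 : Q := act 5 n7984
theorem D17068 : act 5 n7984 = n17068 := rfl
def n17069 : Q := act 6 n7984
theorem D17069 : act 6 n7984 = n17069 := rfl
theorem F28003 : act 7 n17069 = n16831 := d14_2 (iv7 F27997) D17069 (iv6 D16831) D16832 (iv6 F27996)
def n17070 : Q := act 0 n7985
theorem D17070 : act 0 n7985 = n17070 := rfl
def n17071 : Q := act 1 n7985
theorem D17071 : act 1 n7985 = n17071 := rfl
theorem F28004 : act 1 n17071 = n16851 := d15_1 D17071 F27595 (iv2 F12755)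
theorem F28005 : act 5 n8821 = n17071 := d21_6 (iv5 D1222) (iv1 F1401) (iv5 F1662) D1696 D3930 D8821 (iv1 D17071) (iv5 D7985) (iv6 D3614) F2766
def n17072 : Q := act 4 n7985
theorem D17072 : act 4 n7985 = n17072 := rfl
theorem F28006 : act 2 n17072 = n16863 := d1_1 D17072 (iv4 D16863) (iv2 F12755)
theorem F28007 : act 6 n17072 = n7987 := d10_2 (iv6 F12756) D17072 (iv4 D7987)
def n17073 : Q := act 7 n7985
theorem D17073 : act 7 n7985 = n17073 := rfl
theorem F28008 : act 2 n17073 = n16851 := d4_1 D17073 F27595 (iv2 F12755)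
theorem F28009 : act 5 n17073 = n7986 := d13_1 D17073 (iv7 D7986) D7985
theorem F28010 : act 6 n17073 = n13295 := d14_1 D17073 F22100 F9822 (iv7 F5651) (iv6 F12756)
theorem F28011 : act 1 n16851 = n17070 := d15_0 (iv0 D17070) D17073 F28008
theorem F28012 : act 1 n16862 = n17073 := d15_1 D16862 (iv7 D17073) F12755
theorem F28013 : act 1 n17073 = n16861 := d15_0 (iv0 D16861) (iv7 F27595) (iv2 F28008)
def n17074 : Q := act 3 n7987
theorem D17074 : act 3 n7987 = n17074 := rfl
theorem F28014 : act 5 n17074 = n8843 := d6_2 (iv5 F12764) D17074 (iv3 D8843)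
theorem F28015 : act 7 n17074 = n13314 := d8_2 (iv7 F12763) D17074 (iv3 D13314)
def n17075 : Q := act 5 n7988
theorem D17075 : act 5 n7988 = n17075 := rfl
theorem F28016 : act 2 n17075 = n8606 := d2_1 D17075 F13515 (iv2 F12766)
theorem F28017 : act 3 n17075 = n8632 := d6_1 D17075 F13542 (iv3 F12767)
theorem F28018 : act 7 n17075 = n8619 := d13_2 (iv7 F12768) D17075 F13532
theorem F28019 : act 0 n17075 = n8546 := d17_2 F12813 D17075 (iv5 D8546) (iv4 F9669) D13047 F21749 F13515 (iv0 F12812) F12811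
theorem F28020 : act 1 n17075 = n8486 := d17_6 (iv1 D3721) (iv5 F5672) (iv1 F13768) (iv5 D7989) D7988 D17075 (iv5 D8486) F6873 F5729
theorem E4019 : n8617 = n8486 := ((c15_1 F28020 (iv0 D8617) (iv7 F13516) (iv2 F28016))).symm
theorem F28021 : act 1 n8486 = n3871 := (sb E4019 (iv0 D8617))
def n17076 : Q := act 6 n7988
theorem D17076 : act 6 n7988 = n17076 := rfl
theorem F28022 : act 2 n17076 = n8679 := d3_1 D17076 F13586 (iv2 F12766)
theorem F28023 : act 3 n17076 = n16726 := d7_1 D17076 (iv6 D16726) (iv3 F12767)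
theorem F28024 : act 4 n17076 = n7990 := d10_1 D17076 (iv6 D7990) D7988
theorem F28025 : act 0 n8487 = n17076 := d21_4 F7230 (iv1 F28021) (iv5 D8486) D8487 (iv6 D17076) D17075 F28019 (iv5 D8546) (iv6 F17002) (iv1 D7804)
theorem F28026 : act 1 n8487 = n16788 := d15_1 (iv0 F28025) F27551 (iv2 F28022)
def n17077 : Q := act 4 n7989
theorem D17077 : act 4 n7989 = n17077 := rfl
def n17078 : Q := act 6 n7989
theorem D17078 : act 6 n7989 = n17078 := rfl
def n17079 : Q := act 5 n7990
theorem D17079 : act 5 n7990 = n17079 := rfl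
theorem F28027 : act 0 n8114 = n17079 := d21_1 D8114 (iv5 D17079) (iv6 D7990) (iv1 F9466) F9464 D8845 F13756 (iv5 D7992) D7993 F17607
def n17080 : Q := act 6 n7991
theorem D17080 : act 6 n7991 = n17080 := rfl
theorem F28028 : act 3 n17080 = n7993 := d7_1 D17080 (iv6 D7993) D7991
theorem F28029 : act 4 n17080 = n9340 := d10_1 D17080 (iv6 D9340) (iv4 F12772)
theorem F28030 : act 0 n8973 = n17080 := d20_1 D8973 F28029 F14548 D16720 F27426 (iv4 F14735) (iv1 F27357) F27354 F13941 (iv1 F13944)
theorem F28031 : act 0 n17080 = n8968 := d20_7 (iv4 F15014) (iv1 F14695) (iv4 D4294) D4293 (iv1 F17516) (iv3 F14548) (iv4 F28029) (iv4 D8968) D8967 (iv1 F17572)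
def n17081 : Q := act 4 n7992
theorem D17081 : act 4 n7992 = n17081 := rfl
def n17082 : Q := act 6 n7992
theorem D17082 : act 6 n7992 = n17082 := rfl
def n17083 : Q := act 5 n7993
theorem D17083 : act 5 n7993 = n17083 := rfl
theorem F28032 : act 0 n17083 = n8002 := d21_7 D7989 F13767 (iv5 D8845) (iv6 F9464) F9468 D7993 D17083 (iv5 D8002) (iv6 D3620) D3616
def n17084 : Q := act 4 n7994
theorem D17084 : act 4 n7994 = n17084 := rfl
theorem F28033 : act 2 n17084 = n7998 := d1_1 D17084 (iv4 D7998) (iv2 F12776)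
theorem F28034 : act 0 n17084 = n8551 := d18_2 F13315 D17084 (iv4 D8551) (iv5 D3825) F5729 (iv0 F5882) F5878 F5880 D8269
def n17085 : Q := act 6 n7994
theorem D17085 : act 6 n7994 = n17085 := rfl
theorem F28035 : act 2 n17085 = n7999 := d3_1 D17085 (iv6 D7999) (iv2 F12776)
def n17086 : Q := act 5 n7995
theorem D17086 : act 5 n7995 = n17086 := rfl
theorem F28036 : act 2 n17086 = n8002 := d2_1 D17086 (iv5 D8002) (iv2 F12777)
def n17087 : Q := act 4 n7996
theorem D17087 : act 4 n7996 = n17087 := rfl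
def n17088 : Q := act 6 n7996
theorem D17088 : act 6 n7996 = n17088 := rfl
theorem F28037 : act 5 n17088 = n17088 := d12_1 D17088 (iv6 D17088) (iv5 F13310) F7211 F13310
def n17089 : Q := act 4 n7997
theorem D17089 : act 4 n7997 = n17089 := rfl
def n17090 : Q := act 6 n7997
theorem D17090 : act 6 n7997 = n17090 := rfl
def n17091 : Q := act 0 n7998
theorem D17091 : act 0 n7998 = n17091 := rfl
theorem F28038 : act 4 n17091 = n8548 := d18_3 (iv1 D7997) D7998 D17091 (iv5 D8548) (iv4 F6451) (iv0 D3939) F2888 D3940 (iv5 F13317)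
theorem F28039 : act 2 n8551 = n17091 := d15_3 (iv0 D17091) (iv0 F27477) F27476
def n17092 : Q := act 5 n7998
theorem D17092 : act 5 n7998 = n17092 := rfl
def n17093 : Q := act 6 n7998
theorem D17093 : act 6 n7998 = n17093 := rfl
theorem F28040 : act 4 n17093 = n7999 := d10_1 D17093 (iv6 D7999) D7998
def n17094 : Q := act 0 n7999
theorem D17094 : act 0 n7999 = n17094 := rfl
def n17095 : Q := act 1 n7999
theorem D17095 : act 1 n7999 = n17095 := rfl
def n17096 : Q := act 5 n7999
theorem D17096 : act 5 n7999 = n17096 := rfl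
theorem F28041 : act 3 n17096 = n8005 := d6_1 D17096 (iv5 D8005) (iv3 F12779)
theorem F28042 : act 6 n17096 = n8002 := d12_2 D7999 D17096 (iv5 D8002) (iv6 D3620) D3619
def n17097 : Q := act 7 n7999
theorem D17097 : act 7 n7999 = n17097 := rfl
theorem F28043 : act 3 n17097 = n8006 := d8_1 D17097 (iv7 D8006) (iv3 F12779)
def n17098 : Q := act 4 n8000
theorem D17098 : act 4 n8000 = n17098 := rfl
theorem F28044 : act 2 n17098 = n16788 := d1_1 D17098 F27549 (iv2 F13772)
theorem F28045 : act 7 n17098 = n17076 := d11_2 (iv7 F13590) D17098 F28024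
def n17099 : Q := act 5 n8000
theorem D17099 : act 5 n8000 = n17099 := rfl
theorem F28046 : act 7 n17099 = n17079 := d13_2 (iv7 F13590) D17099 (iv5 D17079)
def n17100 : Q := act 5 n8001
theorem D17100 : act 5 n8001 = n17100 := rfl
theorem F28047 : act 2 n17100 = n17079 := d2_1 D17100 (iv5 D17079) F13589
theorem F28048 : act 0 n17100 = n12903 := d21_1 D17100 (iv5 D12903) F9501 (iv1 F27423) (iv6 D12861) F13764 (iv1 F13759) F12872 (iv6 F13039) (iv1 F13043)
def n17101 : Q := act 0 n8002
theorem D17101 : act 0 n8002 = n17101 := rfl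
theorem F28049 : act 5 n17101 = n8111 := d21_2 D8002 D17101 (iv6 F21420) (iv1 F13041) F13039 (iv5 F12872) (iv1 F13760) F13761 (iv6 F13588) (iv1 D8001)
def n17102 : Q := act 4 n8002
theorem D17102 : act 4 n8002 = n17102 := rfl
def n17103 : Q := act 2 n8003
theorem D17103 : act 2 n8003 = n17103 := rfl
theorem F28050 : act 7 n8004 = n17103 := d15_2 (iv0 D8003) D8004 (iv2 D17103)
def n17104 : Q := act 3 n8003
theorem D17104 : act 3 n8003 = n17104 := rfl
def n17105 : Q := act 4 n8003
theorem D17105 : act 4 n8003 = n17105 := rfl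
def n17106 : Q := act 5 n8003
theorem D17106 : act 5 n8003 = n17106 := rfl
def n17107 : Q := act 6 n8003
theorem D17107 : act 6 n8003 = n17107 := rfl
theorem F28051 : act 5 n17107 = n8015 := d21_6 (iv5 D863) D860 D1592 D3621 D8003 D17107 (iv1 D8015) F5662 (iv6 D1720) F1709
def n17108 : Q := act 7 n8003
theorem D17108 : act 7 n8003 = n17108 := rfl
theorem F28052 : act 2 n17108 = n8004 := d4_1 D17108 F28050 (iv2 D17103)
def n17109 : Q := act 3 n8004
theorem D17109 : act 3 n8004 = n17109 := rfl
def n17110 : Q := act 4 n8004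
theorem D17110 : act 4 n8004 = n17110 := rfl
def n17111 : Q := act 5 n8004
theorem D17111 : act 5 n8004 = n17111 := rfl
def n17112 : Q := act 6 n8004
theorem D17112 : act 6 n8004 = n17112 := rfl
def n17113 : Q := act 0 n8005
theorem D17113 : act 0 n8005 = n17113 := rfl
def n17114 : Q := act 1 n8005
theorem D17114 : act 1 n8005 = n17114 := rfl
def n17115 : Q := act 4 n8005
theorem D17115 : act 4 n8005 = n17115 := rfl
theorem F28053 : act 6 n17115 = n8007 := d10_2 (iv6 F12781) D17115 (iv4 D8007)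
def n17116 : Q := act 7 n8005
theorem D17116 : act 7 n8005 = n17116 := rfl
theorem F28054 : act 5 n17116 = n8006 := d13_1 D17116 (iv7 D8006) D8005
def n17117 : Q := act 3 n8007
theorem D17117 : act 3 n8007 = n17117 := rfl
def n17118 : Q := act 5 n8008
theorem D17118 : act 5 n8008 = n17118 := rfl
theorem F28055 : act 0 n8123 = n17118 := d21_7 (iv5 F13140) (iv1 F13143) (iv5 D4743) F7134 F3280 D3967 (iv5 F12888) (iv5 D17118) (iv6 D8008) F6117
def n17119 : Q := act 6 n8009
theorem D17119 : act 6 n8009 = n17119 := rfl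
theorem F28056 : act 2 n17119 = n10832 := d3_1 D17119 F17374 F14303
theorem F28057 : act 3 n17119 = n8010 := d7_1 D17119 (iv6 D8010) D8009
theorem F28058 : act 4 n17119 = n10832 := d10_1 D17119 F17374 F14305
theorem F28059 : act 0 n17119 = n16703 := d21_4 (iv5 F13442) (iv1 F21537) F13854 D17119 F27384 F16663 (iv1 D10466) (iv5 D4759) F7135 F5733
theorem F28060 : act 0 n8276 = n17119 := d21_4 D9163 F14290 F13442 D8276 (iv6 D17119) (iv5 F13854) F14295 (iv5 D8476) (iv6 F16984) (iv1 F12802)
theorem F28061 : act 0 n16700 = n17098 := d20_10 (iv4 D17098) (iv1 F13041) F13038 (iv3 F13822) F13825 (iv3 F28057) F28058 F17375 F12805 (iv3 F27378)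
theorem F28062 : act 1 n16700 = n8679 := d15_1 (iv0 F28061) (iv7 F27551) (iv2 F28044)
def n17120 : Q := act 5 n8010
theorem D17120 : act 5 n8010 = n17120 := rfl
theorem F28063 : act 0 n17120 = n8120 := d17_2 F13825 D17120 (iv5 D8120) F5677 D4325 (iv0 F17548) (iv5 D8930) F7025 (iv4 F13823)
def n17121 : Q := act 4 n8011
theorem D17121 : act 4 n8011 = n17121 := rfl
theorem F28064 : act 2 n17121 = n8012 := d1_1 D17121 (iv4 D8012) (iv2 F12784)
theorem F28065 : act 0 n17121 = n9032 := d18_2 (iv1 F12785) D17121 (iv4 D9032) (iv5 D4055) (iv4 D1753) F3010 (iv4 F5909) (iv0 D3952) D3955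
theorem F28066 : act 1 n17121 = n9007 := d18_6 F13807 (iv4 D4209) (iv1 F3055) (iv4 F5659) D8011 D17121 (iv4 D9007) (iv0 F13809) (iv5 F13805)
def n17122 : Q := act 6 n8011
theorem D17122 : act 6 n8011 = n17122 := rfl
theorem F28067 : act 2 n17122 = n8013 := d3_1 D17122 (iv6 D8013) (iv2 F12784)
theorem F28068 : act 5 n17122 = n8878 := d12_1 D17122 (iv6 D8878) (iv5 D3961) (iv6 F5660) D8011
def n17123 : Q := act 0 n8012
theorem D17123 : act 0 n8012 = n17123 := rfl
theorem F28069 : act 4 n17123 = n9009 := d18_3 F7021 D8012 D17123 F14061 F5977 F6417 (iv4 F2930) (iv0 F3280) D4743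
theorem F28070 : act 2 n9032 = n17123 := d15_3 (iv0 D17123) (iv0 F21828) F21827
theorem F28071 : act 7 n17123 = n9007 := d4_2 F21827 F28070 (iv2 F21826)
def n17124 : Q := act 5 n8012
theorem D17124 : act 5 n8012 = n17124 := rfl
def n17125 : Q := act 6 n8012
theorem D17125 : act 6 n8012 = n17125 := rfl
theorem F28072 : act 4 n17125 = n8013 := d10_1 D17125 (iv6 D8013) D8012
def n17126 : Q := act 0 n8013
theorem D17126 : act 0 n8013 = n17126 := rfl
def n17127 : Q := act 1 n8013
theorem D17127 : act 1 n8013 = n17127 := rfl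
def n17128 : Q := act 7 n8013
theorem D17128 : act 7 n8013 = n17128 := rfl
theorem F28073 : act 3 n17128 = n8016 := d8_1 D17128 (iv7 D8016) (iv3 F12787)
theorem F28074 : act 5 n17128 = n8893 := d13_1 D17128 (iv7 D8893) (iv5 F12788)
def n17129 : Q := act 2 n8014
theorem D17129 : act 2 n8014 = n17129 := rfl
theorem F28075 : act 7 n8015 = n17129 := d15_2 (iv0 D8014) D8015 (iv2 D17129)
def n17130 : Q := act 3 n8014
theorem D17130 : act 3 n8014 = n17130 := rfl
def n17131 : Q := act 4 n8014
theorem D17131 : act 4 n8014 = n17131 := rfl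
def n17132 : Q := act 5 n8014
theorem D17132 : act 5 n8014 = n17132 := rfl
def n17133 : Q := act 6 n8014
theorem D17133 : act 6 n8014 = n17133 := rfl
def n17134 : Q := act 7 n8014
theorem D17134 : act 7 n8014 = n17134 := rfl
theorem F28076 : act 2 n17134 = n8015 := d4_1 D17134 F28075 (iv2 D17129)
def n17135 : Q := act 3 n8015
theorem D17135 : act 3 n8015 = n17135 := rfl
def n17136 : Q := act 4 n8015
theorem D17136 : act 4 n8015 = n17136 := rfl
def n17137 : Q := act 6 n8015
theorem D17137 : act 6 n8015 = n17137 := rfl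
def n17138 : Q := act 6 n8025
theorem D17138 : act 6 n8025 = n17138 := rfl
theorem F28077 : act 3 n17138 = n8034 := d7_1 D17138 (iv6 D8034) (iv3 F12803)
def n17139 : Q := act 0 n8026
theorem D17139 : act 0 n8026 = n17139 := rfl
theorem F28078 : act 3 n17139 = n8896 := d20_5 F27447 F21641 F12840 (iv3 F12804) D17139 (iv4 F14441) F16934 (iv4 F14040) (iv3 F21595) F27449
theorem F28079 : act 1 n13043 = n17139 := d15_0 (iv0 D17139) F16988 (iv2 F21737)
theorem F28080 : act 7 n17139 = n17119 := d15_2 F27386 F28079 F28056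
def n17140 : Q := act 5 n8026
theorem D17140 : act 5 n8026 = n17140 := rfl
theorem F28081 : act 3 n17140 = n8037 := d6_1 D17140 (iv5 D8037) (iv3 F12804)
def n17141 : Q := act 6 n8028
theorem D17141 : act 6 n8028 = n17141 := rfl
theorem F28082 : act 2 n17141 = n16700 := d3_1 D17141 (iv6 D16700) (iv2 F12810)
theorem F28083 : act 3 n17141 = n8030 := d7_1 D17141 (iv6 D8030) D8028
theorem F28084 : act 4 n17141 = n16700 := d10_1 D17141 (iv6 D16700) (iv4 F12811)
theorem F28085 : act 0 n17076 = n17141 := d21_4 D8486 (iv1 F28020) (iv5 D17075) D17076 (iv6 D17141) (iv5 F13306) (iv1 D8550) (iv5 D3825) F7174 (iv1 F6873)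
theorem F28086 : act 1 n16788 = n17141 := d15_0 (iv0 F28085) (iv7 F28045) F28044
def n17142 : Q := act 6 n8029
theorem D17142 : act 6 n8029 = n17142 := rfl
def n17143 : Q := act 0 n8030
theorem D17143 : act 0 n8030 = n17143 := rfl
theorem F28087 : act 4 n17143 = n8682 := d20_2 (iv4 F12840) D17143 (iv3 D8682) (iv1 D3891) F2865 F1663 F1388 (iv4 F2263) (iv3 F4157) F13347
theorem F28088 : act 3 n17143 = n9334 := d20_5 (iv4 F13587) (iv1 F28062) (iv4 F28084) F28083 D17143 (iv4 D9334) (iv1 F6124) (iv4 F13823) F13822 (iv1 F13043)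
theorem F28089 : act 2 n13198 = n17143 := d15_3 (iv0 D17143) (iv0 F21641) (iv7 F21980)
theorem F28090 : act 1 n12966 = n17143 := d15_0 (iv0 D17143) F17004 (iv2 F21563)
theorem F28091 : act 7 n17143 = n16727 := d15_2 F21642 F28090 F27450
def n17144 : Q := act 5 n8030
theorem D17144 : act 5 n8030 = n17144 := rfl
def n17145 : Q := act 1 n8033
theorem D17145 : act 1 n8033 = n17145 := rfl
theorem F28092 : act 1 n17145 = n8044 := d15_1 D17145 F13453 (iv2 F13454)
theorem F28093 : act 4 n17145 = n8571 := d18_7 D8186 F12964 (iv1 F12724) (iv4 D3630) D3631 D8033 D17145 F13419 (iv5 D8188)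
theorem F28094 : act 2 n8576 = n17145 := d1_3 F28093 F13411 D8576
def n17146 : Q := act 6 n8033
theorem D17146 : act 6 n8033 = n17146 := rfl
theorem F28095 : act 4 n17146 = n8034 := d10_1 D17146 (iv6 D8034) D8033
def n17147 : Q := act 0 n8034
theorem D17147 : act 0 n8034 = n17147 := rfl
def n17148 : Q := act 1 n8034
theorem D17148 : act 1 n8034 = n17148 := rfl
def n17149 : Q := act 5 n8034
theorem D17149 : act 5 n8034 = n17149 := rfl
theorem F28096 : act 6 n17149 = n8037 := d12_2 D8034 D17149 (iv5 D8037) (iv6 D3632) D3631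
def n17150 : Q := act 7 n8034
theorem D17150 : act 7 n8034 = n17150 := rfl
def n17151 : Q := act 5 n8035
theorem D17151 : act 5 n8035 = n17151 := rfl
theorem F28097 : act 2 n17151 = n12970 := d2_1 D17151 F21570 F13350
theorem F28098 : act 7 n17151 = n12950 := d13_2 (iv7 F13354) D17151 (iv5 D12950)
theorem F28099 : act 0 n17151 = n12968 := d21_1 D17151 F21567 (iv6 F21568) (iv1 D6197) (iv6 D2605) D2604 F13327 (iv5 D3631) D3632 D8035
theorem F28100 : act 0 n12967 = n17151 := d21_1 F21677 (iv5 D17151) F13353 (iv1 F12860) F21675 D8082 F21572 F21570 F9580 (iv1 F12856)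
def n17152 : Q := act 0 n8037
theorem D17152 : act 0 n8037 = n17152 := rfl
theorem F28101 : act 5 n17152 = n8055 := d21_2 D8037 D17152 (iv6 F13353) (iv1 F13355) (iv6 F16974) (iv5 F13342) (iv1 D6154) (iv5 D2591) D2592 F13347
theorem F28102 : act 2 n8087 = n17152 := d15_3 (iv0 D17152) F17009 D8087
theorem F28103 : act 1 n8085 = n17152 := d15_0 (iv0 D17152) (iv7 F17010) (iv2 F13361)
theorem F28104 : act 7 n17152 = n8054 := d15_2 D8085 F28103 F12857
def n17153 : Q := act 4 n8037
theorem D17153 : act 4 n8037 = n17153 := rfl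
def n17154 : Q := act 6 n8040
theorem D17154 : act 6 n8040 = n17154 := rfl
theorem F28105 : act 3 n17154 = n8045 := d7_1 D17154 (iv6 D8045) (iv3 F12849)
def n17155 : Q := act 6 n8042
theorem D17155 : act 6 n8042 = n17155 := rfl
theorem F28106 : act 3 n17155 = n13053 := d7_1 D17155 (iv6 D13053) F14047
def n17156 : Q := act 3 n8044
theorem D17156 : act 3 n8044 = n17156 := rfl
def n17157 : Q := act 5 n8044
theorem D17157 : act 5 n8044 = n17157 := rfl
def n17158 : Q := act 6 n8044
theorem D17158 : act 6 n8044 = n17158 := rfl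
theorem F28107 : act 4 n17158 = n8045 := d10_1 D17158 (iv6 D8045) D8044
def n17159 : Q := act 0 n8045
theorem D17159 : act 0 n8045 = n17159 := rfl
def n17160 : Q := act 1 n8045
theorem D17160 : act 1 n8045 = n17160 := rfl
def n17161 : Q := act 7 n8045
theorem D17161 : act 7 n8045 = n17161 := rfl
def n17162 : Q := act 3 n8050
theorem D17162 : act 3 n8050 = n17162 := rfl
def n17163 : Q := act 5 n8050
theorem D17163 : act 5 n8050 = n17163 := rfl
theorem F28108 : act 2 n17163 = n8068 := d2_1 D17163 (iv5 D8068) (iv2 F12854)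
theorem F28109 : act 4 n17163 = n8224 := d16_2 D8050 D17163 (iv5 D8224) (iv4 D3704) (iv5 D1624) (iv4 F2258) D2591 F4156 (iv2 F5667)
def n17164 : Q := act 6 n8050
theorem D17164 : act 6 n8050 = n17164 := rfl
theorem F28110 : act 2 n17164 = n8069 := d3_1 D17164 (iv6 D8069) (iv2 F12854)
theorem F28111 : act 4 n17164 = n8051 := d10_1 D17164 (iv6 D8051) D8050
def n17165 : Q := act 0 n8051
theorem D17165 : act 0 n8051 = n17165 := rfl
def n17166 : Q := act 1 n8051
theorem D17166 : act 1 n8051 = n17166 := rfl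
theorem F28112 : act 1 n17166 = n8073 := d15_1 D17166 (iv7 D8073) (iv2 F12855)
def n17167 : Q := act 5 n8051
theorem D17167 : act 5 n8051 = n17167 := rfl
theorem F28113 : act 2 n17167 = n8072 := d2_1 D17167 (iv5 D8072) (iv2 F12855)
theorem F28114 : act 6 n17167 = n8054 := d12_2 D8051 D17167 (iv5 D8054) (iv6 D3639) D3638
def n17168 : Q := act 7 n8051
theorem D17168 : act 7 n8051 = n17168 := rfl
theorem F28115 : act 2 n17168 = n8073 := d4_1 D17168 (iv7 D8073) (iv2 F12855)
theorem F28116 : act 1 n8073 = n17165 := d15_0 (iv0 D17165) D17168 F28115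
theorem F28117 : act 1 n8071 = n17168 := d15_1 D8071 (iv7 D17168) F12855
theorem F28118 : act 1 n17168 = n8070 := d15_0 (iv0 D8070) D8073 (iv2 F28115)
def n17169 : Q := act 3 n8052
theorem D17169 : act 3 n8052 = n17169 := rfl
theorem F28119 : act 6 n17169 = n13024 := d7_2 F21568 D17169 (iv3 D13024)
theorem F28120 : act 7 n17169 = n8080 := d8_2 (iv7 F21681) D17169 (iv3 D8080)
def n17170 : Q := act 4 n8052
theorem D17170 : act 4 n8052 = n17170 := rfl
theorem F28121 : act 2 n17170 = n8076 := d1_1 D17170 (iv4 D8076) (iv2 F21680)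
theorem F28122 : act 6 n17170 = n8516 := d10_2 F21568 D17170 F13285
theorem F28123 : act 7 n17170 = n8081 := d11_2 (iv7 F21681) D17170 (iv4 D8081)
theorem F28124 : act 3 n8519 = n17170 := d20_5 F2961 (iv1 D1708) (iv4 F2914) (iv3 F5894) (iv1 F17001) (iv4 D17170) (iv1 F12859) (iv4 F9486) F9485 (iv1 F4118)
def n17171 : Q := act 3 n8053
theorem D17171 : act 3 n8053 = n17171 := rfl
theorem F28125 : act 6 n17171 = n17171 := d7_2 F21678 D17171 (iv3 D17171)
theorem F28126 : act 7 n17171 = n8075 := d8_2 (iv7 F21679) D17171 (iv3 D8075)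
theorem F28127 : act 4 n17171 = n8858 := d20_6 (iv4 D1831) F2875 (iv4 F2783) (iv3 F5671) (iv1 F12856) D17171 (iv1 D8858) F5895 F5894 F3116
def n17172 : Q := act 4 n8053
theorem D17172 : act 4 n8053 = n17172 := rfl
theorem F28128 : act 2 n17172 = n8081 := d1_1 D17172 (iv4 D8081) (iv2 F21676)
theorem F28129 : act 6 n17172 = n17172 := d10_2 F21678 D17172 (iv4 D17172)
theorem F28130 : act 7 n17172 = n8076 := d11_2 (iv7 F21679) D17172 (iv4 D8076)
theorem F28131 : act 3 n17172 = n16717 := d20_3 F9486 (iv1 F12856) D17172 (iv1 D16717) F12338 (iv4 F12346) D16720 F27424 F17595 (iv1 F21353)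
theorem F28132 : act 6 n16717 = n16717 := d7_2 F28129 F28131 (iv3 F28131)
def n17173 : Q := act 4 n8054
theorem D17173 : act 4 n8054 = n17173 := rfl
theorem F28133 : act 2 n17173 = n8086 := d1_1 D17173 (iv4 D8086) (iv2 F12857)
def n17174 : Q := act 6 n8057
theorem D17174 : act 6 n8057 = n17174 := rfl
theorem F28134 : act 3 n17174 = n8060 := d7_1 D17174 (iv6 D8060) D8057
def n17175 : Q := act 1 n8058
theorem D17175 : act 1 n8058 = n17175 := rfl
theorem F28135 : act 1 n17175 = n8063 := d15_1 D17175 (iv7 F21545) F21544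
def n17176 : Q := act 6 n8058
theorem D17176 : act 6 n8058 = n17176 := rfl
theorem F28136 : act 4 n17176 = n8060 := d10_1 D17176 (iv6 D8060) D8058
def n17177 : Q := act 0 n8060
theorem D17177 : act 0 n8060 = n17177 := rfl
def n17178 : Q := act 1 n8060
theorem D17178 : act 1 n8060 = n17178 := rfl
def n17179 : Q := act 5 n8060
theorem D17179 : act 5 n8060 = n17179 := rfl
theorem F28137 : act 6 n17179 = n8286 := d12_2 D8060 D17179 (iv5 D8286) (iv6 D3727) F13443
def n17180 : Q := act 7 n8060
theorem D17180 : act 7 n8060 = n17180 := rfl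
def n17181 : Q := act 2 n8062
theorem D17181 : act 2 n8062 = n17181 := rfl
theorem F28138 : act 3 n17181 = n8476 := d0_2 D8062 D17181 F21536 (iv3 D12951) F13436
theorem F28139 : act 5 n17181 = n8288 := d2_2 (iv5 F13438) D17181 (iv2 D8288)
theorem F28140 : act 7 n17181 = n13093 := d4_2 F21543 D17181 F21832
theorem F28141 : act 1 n17181 = n17043 := d15_0 F27945 F21543 D17181
theorem F28142 : act 1 n17045 = n17181 := d15_0 F28141 F27944 (iv2 F27952)
theorem F28143 : act 4 n13141 = n17181 := d18_7 (iv1 F12846) (iv4 F12844) F12355 (iv4 D6050) F14026 D6255 D13141 F28141 (iv5 D17043)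
def n17182 : Q := act 4 n8062
theorem D17182 : act 4 n8062 = n17182 := rfl
theorem F28144 : act 2 n17182 = n13141 := d1_1 D17182 F28143 (iv2 D17181)
theorem F28145 : act 7 n17182 = n13140 := d11_2 F21543 D17182 F21922
theorem F28146 : act 0 n17182 = n13126 := d18_2 F21841 D17182 (iv4 D13126) F14010 D7971 (iv0 F12845) (iv4 F12844) F12728 D12800
theorem F28147 : act 1 n17182 = n13128 := d18_6 (iv1 F6462) (iv4 F9729) (iv1 F13107) F13109 (iv5 F13438) D17182 (iv4 D13128) F9749 F4224
def n17183 : Q := act 6 n8062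
theorem D17183 : act 6 n8062 = n17183 := rfl
theorem F28148 : act 3 n17183 = n8065 := d7_1 D17183 (iv6 D8065) D8062
theorem F28149 : act 5 n17183 = n17154 := d12_1 D17183 (iv6 D17154) (iv5 D8040) F16980 (iv5 F13438)
def n17184 : Q := act 3 n8063
theorem D17184 : act 3 n8063 = n17184 := rfl
def n17185 : Q := act 5 n8063
theorem D17185 : act 5 n8063 = n17185 := rfl
theorem F28150 : act 2 n17185 = n16759 := d2_1 D17185 (iv5 F27525) F21538
def n17186 : Q := act 6 n8063
theorem D17186 : act 6 n8063 = n17186 := rfl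
theorem F28151 : act 4 n17186 = n8065 := d10_1 D17186 (iv6 D8065) D8063
def n17187 : Q := act 0 n8065
theorem D17187 : act 0 n8065 = n17187 := rfl
def n17188 : Q := act 1 n8065
theorem D17188 : act 1 n8065 = n17188 := rfl
def n17189 : Q := act 7 n8065
theorem D17189 : act 7 n8065 = n17189 := rfl
theorem F28152 : act 5 n17189 = n17161 := d13_1 D17189 (iv7 D17161) (iv5 F17008)
def n17190 : Q := act 3 n8066
theorem D17190 : act 3 n8066 = n17190 := rfl
def n17191 : Q := act 5 n8066
theorem D17191 : act 5 n8066 = n17191 := rfl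
theorem F28153 : act 1 n17191 = n8313 := d17_6 (iv1 F13418) F12369 F9598 D12987 F21591 D17191 (iv5 D8313) D8312 (iv4 F13120)
def n17192 : Q := act 6 n8066
theorem D17192 : act 6 n8066 = n17192 := rfl
def n17193 : Q := act 3 n8067
theorem D17193 : act 3 n8067 = n17193 := rfl
def n17194 : Q := act 5 n8067
theorem D17194 : act 5 n8067 = n17194 := rfl
theorem F28154 : act 0 n17194 = n8313 := d17_2 F21522 D17194 (iv5 D8313) (iv4 D3736) (iv5 D1635) D1633 F13439 F9568 D12948
def n17195 : Q := act 6 n8067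
theorem D17195 : act 6 n8067 = n17195 := rfl
def n17196 : Q := act 0 n8068
theorem D17196 : act 0 n8068 = n17196 := rfl
theorem F28155 : act 5 n17196 = n13013 := d17_3 (iv1 D8067) D8068 D17196 F21652 F13478 (iv0 F12308) (iv5 F13510) F21592 (iv4 F16296)
def n17197 : Q := act 1 n8068
theorem D17197 : act 1 n8068 = n17197 := rfl
theorem F28156 : act 5 n17197 = n13014 := d17_7 (iv1 F13329) (iv5 D3636) (iv1 D1597) D1599 D3642 D8068 D17197 F21656 (iv4 D8299)
theorem F28157 : act 3 n8748 = n17197 := d19_19 (iv1 D17197) (iv5 D8068) (iv4 D3642) F2778 D1601 F2780 (iv4 F1681) F1680 (iv1 F1683) (iv5 F922) (iv4 F926) F927 (iv1 F1365) (iv5 F1513) D1471 D3327 D7226 F25983 D8748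
def n17198 : Q := act 4 n8068
theorem D17198 : act 4 n8068 = n17198 := rfl
theorem F28159 : act 5 n17198 = n8206 := d16_3 D3642 D8068 D17198 (iv4 D8206) (iv5 D3700) (iv4 F4150) D6151 F9567 F5667
def n17199 : Q := act 6 n8068
theorem D17199 : act 6 n8068 = n17199 := rfl
def n17200 : Q := act 0 n8069
theorem D17200 : act 0 n8069 = n17200 := rfl
def n17201 : Q := act 1 n8069
theorem D17201 : act 1 n8069 = n17201 := rfl
def n17202 : Q := act 5 n8069
theorem D17202 : act 5 n8069 = n17202 := rfl
def n17203 : Q := act 7 n8069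
theorem D17203 : act 7 n8069 = n17203 := rfl
theorem F28160 : act 4 n17203 = n8073 := d11_1 D17203 (iv7 D8073) (iv4 F12864)
def n17204 : Q := act 2 n8070
theorem D17204 : act 2 n8070 = n17204 := rfl
theorem F28161 : act 7 n8071 = n17204 := d15_2 (iv0 D8070) D8071 (iv2 D17204)
def n17205 : Q := act 3 n8070
theorem D17205 : act 3 n8070 = n17205 := rfl
def n17206 : Q := act 4 n8070
theorem D17206 : act 4 n8070 = n17206 := rfl
def n17207 : Q := act 5 n8070
theorem D17207 : act 5 n8070 = n17207 := rfl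
def n17208 : Q := act 6 n8070
theorem D17208 : act 6 n8070 = n17208 := rfl
def n17209 : Q := act 7 n8070
theorem D17209 : act 7 n8070 = n17209 := rfl
theorem F28162 : act 2 n17209 = n8071 := d4_1 D17209 F28161 (iv2 D17204)
def n17210 : Q := act 3 n8071
theorem D17210 : act 3 n8071 = n17210 := rfl
def n17211 : Q := act 4 n8071
theorem D17211 : act 4 n8071 = n17211 := rfl
def n17212 : Q := act 5 n8071
theorem D17212 : act 5 n8071 = n17212 := rfl
def n17213 : Q := act 6 n8071
theorem D17213 : act 6 n8071 = n17213 := rfl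
def n17214 : Q := act 0 n8072
theorem D17214 : act 0 n8072 = n17214 := rfl
def n17215 : Q := act 1 n8072
theorem D17215 : act 1 n8072 = n17215 := rfl
def n17216 : Q := act 4 n8072
theorem D17216 : act 4 n8072 = n17216 := rfl
theorem F28163 : act 6 n17216 = n8086 := d10_2 (iv6 F12866) D17216 (iv4 D8086)
def n17217 : Q := act 7 n8072
theorem D17217 : act 7 n8072 = n17217 := rfl
theorem F28164 : act 3 n17217 = n8110 := d8_1 D17217 (iv7 D8110) (iv3 F12865)
theorem F28165 : act 5 n17217 = n8073 := d13_1 D17217 (iv7 D8073) D8072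
def n17218 : Q := act 0 n8075
theorem D17218 : act 0 n8075 = n17218 := rfl
def n17219 : Q := act 2 n8075
theorem D17219 : act 2 n8075 = n17219 := rfl
theorem F28166 : act 4 n17219 = n8519 := d1_2 F21531 D17219 F21696
theorem F28167 : act 6 n17219 = n8517 := d3_2 (iv6 F21530) D17219 (iv2 F21694)
def n17220 : Q := act 5 n8075
theorem D17220 : act 5 n8075 = n17220 := rfl
theorem F28168 : act 3 n17220 = n8077 := d6_1 D17220 (iv5 D8077) D8075
def n17221 : Q := act 0 n8076
theorem D17221 : act 0 n8076 = n17221 := rfl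
theorem F28169 : act 1 n8081 = n17221 := d15_0 (iv0 D17221) (iv7 F28130) F28128
theorem F28170 : act 3 n9562 = n17221 := d20_9 (iv4 D8081) (iv1 D3645) (iv4 F4102) F4101 D2574 (iv3 F6200) (iv4 D4318) D4315 D9562 (iv1 F28169)
theorem F28171 : act 6 n17221 = n17143 := d7_2 F17538 F28170 F28088
def n17222 : Q := act 1 n8076
theorem D17222 : act 1 n8076 = n17222 := rfl
theorem F28172 : act 1 n17222 = n8081 := d15_1 D17222 (iv7 F28123) F28121
def n17223 : Q := act 3 n8076
theorem D17223 : act 3 n8076 = n17223 := rfl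
theorem F28173 : act 7 n17223 = n16717 := d8_2 F28130 D17223 (iv3 F28131)
theorem F28174 : act 0 n17223 = n16719 := d20_4 F4102 D3644 D8076 D17223 F27417 (iv4 F27436) (iv1 F27438) (iv4 F17591) (iv3 F17597) (iv1 D6107)
theorem F28175 : act 4 n16716 = n17223 := d20_2 F12775 D16716 (iv3 D17223) D17221 (iv3 F28170) (iv4 D9562) (iv1 F6212) (iv4 F12884) (iv3 F21412) (iv1 F21418)
theorem F28176 : act 3 n8524 = n16716 := d5_5 F28175 (iv3 D17223) (iv4 D8076) D8075 (iv4 F21531)
theorem F28177 : act 0 n16715 = n17223 := d20_1 (iv4 F27415) (iv4 F28175) (iv3 F28176) F21532 (iv3 D8130) F5682 (iv1 F2952) F4112 D6115 (iv1 F27423)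
theorem F28178 : act 2 n16716 = n17223 := d0_1 F28176 (iv3 D17223) (iv2 F28121) (iv3 F28124) F21696
theorem F28179 : act 6 n16716 = n8521 := d7_2 D8524 F28176 (iv3 D8521)
def n17224 : Q := act 5 n8076
theorem D17224 : act 5 n8076 = n17224 := rfl
def n17225 : Q := act 4 n8077
theorem D17225 : act 4 n8077 = n17225 := rfl
def n17226 : Q := act 6 n8077
theorem D17226 : act 6 n8077 = n17226 := rfl
def n17227 : Q := act 0 n8080
theorem D17227 : act 0 n8080 = n17227 := rfl
def n17228 : Q := act 1 n8080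
theorem D17228 : act 1 n8080 = n17228 := rfl
def n17229 : Q := act 2 n8080
theorem D17229 : act 2 n8080 = n17229 := rfl
theorem F28180 : act 6 n17229 = n17229 := d3_2 F21701 D17229 (iv2 D17229)
def n17230 : Q := act 4 n8080
theorem D17230 : act 4 n8080 = n17230 := rfl
def n17231 : Q := act 5 n8080
theorem D17231 : act 5 n8080 = n17231 := rfl
theorem F28182 : act 3 n17231 = n8082 := d6_1 D17231 (iv5 D8082) D8080
def n17232 : Q := act 3 n8081
theorem D17232 : act 3 n8081 = n17232 := rfl
theorem F28183 : act 6 n17232 = n17232 := d7_2 F21702 D17232 (iv3 D17232)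
theorem F28184 : act 7 n17232 = n8519 := d8_2 F28123 D17232 F28124
theorem F28185 : act 0 n17232 = n8856 := d20_4 F21359 (iv1 F12860) D8081 D17232 F13793 F12249 F16883 (iv4 F16520) (iv3 F16905) (iv1 F21362)
theorem F28186 : act 0 n8130 = n17232 := d20_4 F4104 (iv1 F2959) (iv4 F5682) D8130 (iv3 D17232) (iv4 D8081) (iv1 D3645) (iv4 F4102) F4101 D2574
theorem F28187 : act 2 n8858 = n17232 := d15_3 (iv0 F28186) (iv0 F21532) (iv7 F21697)
theorem F28188 : act 5 n16705 = n17232 := d21_2 D7794 D16705 F28183 F28185 (iv6 D8856) (iv5 F9765) F14292 (iv5 D3798) D3799 (iv1 F16990)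
def n17233 : Q := act 5 n8081
theorem D17233 : act 5 n8081 = n17233 := rfl
theorem F28189 : act 3 n17233 = n16705 := d6_1 D17233 F28188 (iv3 D17232)
def n17234 : Q := act 4 n8082
theorem D17234 : act 4 n8082 = n17234 := rfl
def n17235 : Q := act 6 n8082
theorem D17235 : act 6 n8082 = n17235 := rfl
theorem F28190 : act 5 n17235 = n17235 := d12_1 D17235 (iv6 D17235) (iv5 D8082) F21675 D8082
def n17236 : Q := act 3 n8085
theorem D17236 : act 3 n8085 = n17236 := rfl
theorem F28191 : act 5 n17236 = n12965 := d6_2 F16972 D17236 (iv3 D12965)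
def n17237 : Q := act 4 n8085
theorem D17237 : act 4 n8085 = n17237 := rfl
def n17238 : Q := act 6 n8085
theorem D17238 : act 6 n8085 = n17238 := rfl
theorem F28192 : act 2 n17238 = n17179 := d3_1 D17238 F28137 (iv2 F13361)
theorem F28193 : act 5 n17238 = n12956 := d12_1 D17238 (iv6 D12956) F13342 F16974 F16972
def n17239 : Q := act 0 n8086
theorem D17239 : act 0 n8086 = n17239 := rfl
def n17240 : Q := act 1 n8086
theorem D17240 : act 1 n8086 = n17240 := rfl
def n17241 : Q := act 3 n8086
theorem D17241 : act 3 n8086 = n17241 := rfl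
theorem F28194 : act 4 n17241 = n8126 := d5_2 D8086 D17241 (iv3 D8126) (iv4 D3659) (iv3 F5670)
def n17242 : Q := act 5 n8086
theorem D17242 : act 5 n8086 = n17242 := rfl
def n17243 : Q := act 7 n8086
theorem D17243 : act 7 n8086 = n17243 := rfl
theorem F28195 : act 4 n17243 = n8087 := d11_1 D17243 (iv7 D8087) D8086
def n17244 : Q := act 6 n8087
theorem D17244 : act 6 n8087 = n17244 := rfl
theorem F28196 : act 3 n17244 = n8129 := d7_1 D17244 (iv6 D8129) (iv3 F12870)
def n17245 : Q := act 4 n8090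
theorem D17245 : act 4 n8090 = n17245 := rfl
theorem F28197 : act 2 n17245 = n8091 := d1_1 D17245 (iv4 D8091) D8090
def n17246 : Q := act 6 n8090
theorem D17246 : act 6 n8090 = n17246 := rfl
theorem F28198 : act 2 n17246 = n8092 := d3_1 D17246 (iv6 D8092) D8090
def n17247 : Q := act 0 n8091
theorem D17247 : act 0 n8091 = n17247 := rfl
theorem F28199 : act 4 n17247 = n17075 := d18_3 F13757 D8091 D17247 (iv5 D17075) (iv4 D7988) (iv0 D3616) F2771 D3617 D7992
def n17248 : Q := act 5 n8091
theorem D17248 : act 5 n8091 = n17248 := rfl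
theorem F28200 : act 3 n17248 = n13655 := d6_1 D17248 (iv5 D13655) (iv3 F12873)
def n17249 : Q := act 6 n8091
theorem D17249 : act 6 n8091 = n17249 := rfl
theorem F28201 : act 3 n17249 = n13656 := d7_1 D17249 (iv6 D13656) (iv3 F12873)
theorem F28202 : act 4 n17249 = n8092 := d10_1 D17249 (iv6 D8092) D8091
def n17250 : Q := act 0 n8092
theorem D17250 : act 0 n8092 = n17250 := rfl
def n17251 : Q := act 1 n8092
theorem D17251 : act 1 n8092 = n17251 := rfl
def n17252 : Q := act 5 n8092
theorem D17252 : act 5 n8092 = n17252 := rfl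
theorem F28203 : act 3 n17252 = n8095 := d6_1 D17252 (iv5 D8095) (iv3 F12874)
theorem F28204 : act 6 n17252 = n8264 := d12_2 D8092 D17252 (iv5 D8264) F5721 (iv5 F5672)
def n17253 : Q := act 7 n8092
theorem D17253 : act 7 n8092 = n17253 := rfl
theorem F28205 : act 3 n17253 = n8096 := d8_1 D17253 (iv7 D8096) (iv3 F12874)
def n17257 : Q := act 5 n8093
theorem D17257 : act 5 n8093 = n17257 := rfl
def n17258 : Q := act 6 n8093
theorem D17258 : act 6 n8093 = n17258 := rfl
def n17262 : Q := act 5 n8094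
theorem D17262 : act 5 n8094 = n17262 := rfl
def n17264 : Q := act 0 n8095
theorem D17264 : act 0 n8095 = n17264 := rfl
def n17265 : Q := act 1 n8095
theorem D17265 : act 1 n8095 = n17265 := rfl
theorem F28208 : act 5 n17133 = n17265 := d21_6 (iv5 D872) (iv1 F1628) D1595 D3627 D8014 D17133 (iv1 D17265) (iv5 D8095) (iv6 D3649) (iv1 F2782)
def n17266 : Q := act 4 n8095
theorem D17266 : act 4 n8095 = n17266 := rfl
theorem F28209 : act 6 n17266 = n8265 := d10_2 (iv6 F12875) D17266 (iv4 D8265)
def n17267 : Q := act 7 n8095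
theorem D17267 : act 7 n8095 = n17267 := rfl
theorem F28210 : act 5 n17267 = n8096 := d13_1 D17267 (iv7 D8096) D8095
theorem F28211 : act 6 n17267 = n17116 := d14_1 D17267 (iv7 D17116) F12781 (iv7 F5724) (iv6 F12875)
def n17268 : Q := act 0 n8097
theorem D17268 : act 0 n8097 = n17268 := rfl
theorem F28212 : act 1 n8102 = n17268 := d15_0 (iv0 D17268) (iv7 F12877) (iv2 F12879)
def n17270 : Q := act 3 n8097
theorem D17270 : act 3 n8097 = n17270 := rfl
theorem F28214 : act 7 n17270 = n8103 := d8_2 F12877 D17270 (iv3 D8103)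
def n17271 : Q := act 4 n8097
theorem D17271 : act 4 n8097 = n17271 := rfl
theorem F28215 : act 2 n17271 = n8099 := d1_1 D17271 (iv4 D8099) D8097
theorem F28216 : act 7 n17271 = n8104 := d11_2 F12877 D17271 (iv4 D8104)
def n17272 : Q := act 5 n8097
theorem D17272 : act 5 n8097 = n17272 := rfl
theorem F28217 : act 2 n17272 = n8100 := d2_1 D17272 (iv5 D8100) D8097
theorem F28218 : act 7 n17272 = n8105 := d13_2 F12877 D17272 (iv5 D8105)
def n17273 : Q := act 6 n8097
theorem D17273 : act 6 n8097 = n17273 := rfl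
theorem F28219 : act 2 n17273 = n8101 := d3_1 D17273 (iv6 D8101) D8097
theorem F28220 : act 5 n13004 = n17273 := d2_0 F28219 F12878 (iv2 F21626)
theorem F28221 : act 7 n17273 = n13002 := d13_2 D13004 F28220 (iv5 D13002)
def n17274 : Q := act 0 n8098
theorem D17274 : act 0 n8098 = n17274 := rfl
def n17275 : Q := act 1 n8098
theorem D17275 : act 1 n8098 = n17275 := rfl
def n17276 : Q := act 2 n8098
theorem D17276 : act 2 n8098 = n17276 := rfl
def n17277 : Q := act 4 n8098
theorem D17277 : act 4 n8098 = n17277 := rfl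
def n17278 : Q := act 5 n8098
theorem D17278 : act 5 n8098 = n17278 := rfl
theorem F28222 : act 3 n17278 = n8100 := d6_1 D17278 (iv5 D8100) D8098
def n17279 : Q := act 6 n8098
theorem D17279 : act 6 n8098 = n17279 := rfl
theorem F28223 : act 3 n17279 = n8101 := d7_1 D17279 (iv6 D8101) D8098
theorem F28224 : act 5 n13005 = n17279 := d6_0 F28223 F12878 D13005
def n17280 : Q := act 7 n8098
theorem D17280 : act 7 n8098 = n17280 := rfl
theorem F28225 : act 3 n17280 = n8102 := d8_1 D17280 (iv7 D8102) D8098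
def n17281 : Q := act 0 n8099
theorem D17281 : act 0 n8099 = n17281 := rfl
def n17282 : Q := act 1 n8099
theorem D17282 : act 1 n8099 = n17282 := rfl
def n17283 : Q := act 3 n8099
theorem D17283 : act 3 n8099 = n17283 := rfl
def n17284 : Q := act 5 n8099
theorem D17284 : act 5 n8099 = n17284 := rfl
def n17285 : Q := act 6 n8099
theorem D17285 : act 6 n8099 = n17285 := rfl
theorem F28227 : act 4 n17285 = n8101 := d10_1 D17285 (iv6 D8101) D8099
def n17286 : Q := act 7 n8099
theorem D17286 : act 7 n8099 = n17286 := rfl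
theorem F28228 : act 2 n17286 = n8104 := d4_1 D17286 (iv7 F28216) F28215
theorem F28229 : act 4 n17286 = n8102 := d11_1 D17286 (iv7 D8102) D8099
theorem F28230 : act 1 n8104 = n17281 := d15_0 (iv0 D17281) D17286 F28228
def n17287 : Q := act 0 n8100
theorem D17287 : act 0 n8100 = n17287 := rfl
theorem F28231 : act 5 n17287 = n17137 := d21_2 D8100 D17287 (iv6 D17137) (iv1 D8015) (iv6 D3627) (iv5 D1595) (iv1 D861) D863 D1602 D3650
theorem F28232 : act 6 n17106 = n17287 := d12_0 F28231 (iv6 D17137) (iv5 F28051) (iv6 D17107) D17106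
theorem F28233 : act 0 n17287 = n8105 := d21_10 (iv5 D8105) (iv1 D3651) D3652 F5674 (iv1 F5658) (iv6 F12781) (iv5 D8005) D8003 D17106 F28232
def n17288 : Q := act 1 n8100
theorem D17288 : act 1 n8100 = n17288 := rfl
theorem F28234 : act 1 n17288 = n8105 := d15_1 D17288 (iv7 F28218) F28217
def n17289 : Q := act 4 n8100
theorem D17289 : act 4 n8100 = n17289 := rfl
def n17290 : Q := act 6 n8100
theorem D17290 : act 6 n8100 = n17290 := rfl
theorem F28235 : act 5 n17290 = n13007 := d12_1 D17290 (iv6 D13007) (iv5 F12878) (iv6 D8101) D8100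
def n17291 : Q := act 7 n8100
theorem D17291 : act 7 n8100 = n17291 := rfl
theorem F28236 : act 2 n17291 = n8105 := d4_1 D17291 (iv7 F28218) F28217
theorem F28237 : act 5 n17291 = n8102 := d13_1 D17291 (iv7 D8102) D8100
def n17292 : Q := act 0 n8101
theorem D17292 : act 0 n8101 = n17292 := rfl
def n17293 : Q := act 1 n8101
theorem D17293 : act 1 n8101 = n17293 := rfl
theorem F28238 : act 1 n17293 = n13002 := d15_1 D17293 (iv7 F28221) F28219
theorem F28239 : act 6 n8908 = n17293 := d21_3 F5662 D3970 D8908 (iv1 D17293) (iv6 D8101) D8100 D17287 F28231 (iv6 D17137) (iv1 D8015)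
def n17294 : Q := act 7 n8101
theorem D17294 : act 7 n8101 = n17294 := rfl
theorem F28240 : act 2 n17294 = n13002 := d4_1 D17294 (iv7 F28221) F28219
theorem F28241 : act 5 n17294 = n12999 := d13_1 D17294 (iv7 F21624) (iv5 F12878)
theorem F28242 : act 1 n13002 = n17292 := d15_0 (iv0 D17292) D17294 F28240
def n17295 : Q := act 6 n8102
theorem D17295 : act 6 n8102 = n17295 := rfl
theorem F28243 : act 2 n17295 = n8106 := d3_1 D17295 (iv6 D8106) (iv2 F12879)
def n17296 : Q := act 0 n8103
theorem D17296 : act 0 n8103 = n17296 := rfl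
def n17297 : Q := act 1 n8103
theorem D17297 : act 1 n8103 = n17297 := rfl
def n17298 : Q := act 2 n8103
theorem D17298 : act 2 n8103 = n17298 := rfl
def n17299 : Q := act 4 n8103
theorem D17299 : act 4 n8103 = n17299 := rfl
def n17300 : Q := act 5 n8103
theorem D17300 : act 5 n8103 = n17300 := rfl
theorem F28244 : act 3 n17300 = n8105 := d6_1 D17300 (iv5 D8105) D8103
def n17301 : Q := act 6 n8103
theorem D17301 : act 6 n8103 = n17301 := rfl
theorem F28245 : act 3 n17301 = n8106 := d7_1 D17301 (iv6 D8106) D8103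
def n17302 : Q := act 3 n8104
theorem D17302 : act 3 n8104 = n17302 := rfl
def n17303 : Q := act 5 n8104
theorem D17303 : act 5 n8104 = n17303 := rfl
def n17304 : Q := act 6 n8104
theorem D17304 : act 6 n8104 = n17304 := rfl
theorem F28246 : act 4 n17304 = n8106 := d10_1 D17304 (iv6 D8106) D8104
def n17305 : Q := act 4 n8105
theorem D17305 : act 4 n8105 = n17305 := rfl
def n17306 : Q := act 6 n8105
theorem D17306 : act 6 n8105 = n17306 := rfl
theorem F28247 : act 0 n8267 = n17306 := d21_4 (iv5 D3622) F2910 (iv5 F5727) D8267 (iv6 D17306) (iv5 D8105) (iv1 D3651) D3652 F5674 (iv1 F5658)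
def n17307 : Q := act 0 n8106
theorem D17307 : act 0 n8106 = n17307 := rfl
def n17308 : Q := act 1 n8106
theorem D17308 : act 1 n8106 = n17308 := rfl
def n17309 : Q := act 5 n8106
theorem D17309 : act 5 n8106 = n17309 := rfl
theorem F28248 : act 0 n17106 = n17309 := d21_1 D17106 (iv5 D17309) (iv6 D8106) (iv1 D3651) (iv6 D1602) (iv5 D863) D860 D1592 D3621 D8003
def n17310 : Q := act 7 n8106
theorem D17310 : act 7 n8106 = n17310 := rfl
theorem F28249 : act 6 n17310 = n13002 := d14_1 D17310 (iv7 F28221) (iv6 D17273) (iv7 F12877) D8106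
def n17311 : Q := act 2 n8107
theorem D17311 : act 2 n8107 = n17311 := rfl
theorem F28250 : act 7 n8108 = n17311 := d15_2 (iv0 D8107) D8108 (iv2 D17311)
def n17312 : Q := act 3 n8107
theorem D17312 : act 3 n8107 = n17312 := rfl
def n17313 : Q := act 4 n8107
theorem D17313 : act 4 n8107 = n17313 := rfl
def n17314 : Q := act 5 n8107
theorem D17314 : act 5 n8107 = n17314 := rfl
def n17315 : Q := act 7 n8107
theorem D17315 : act 7 n8107 = n17315 := rfl
theorem F28251 : act 2 n17315 = n8108 := d4_1 D17315 F28250 (iv2 D17311)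
def n17316 : Q := act 3 n8108
theorem D17316 : act 3 n8108 = n17316 := rfl
def n17317 : Q := act 4 n8108
theorem D17317 : act 4 n8108 = n17317 := rfl
def n17318 : Q := act 6 n8108
theorem D17318 : act 6 n8108 = n17318 := rfl
def n17319 : Q := act 0 n8109
theorem D17319 : act 0 n8109 = n17319 := rfl
def n17320 : Q := act 1 n8109
theorem D17320 : act 1 n8109 = n17320 := rfl
def n17321 : Q := act 3 n8109
theorem D17321 : act 3 n8109 = n17321 := rfl
theorem F28252 : act 6 n17321 = n8126 := d7_2 (iv6 F12880) D17321 (iv3 D8126)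
def n17322 : Q := act 5 n8109
theorem D17322 : act 5 n8109 = n17322 := rfl
def n17323 : Q := act 7 n8109
theorem D17323 : act 7 n8109 = n17323 := rfl
theorem F28253 : act 4 n17323 = n8110 := d11_1 D17323 (iv7 D8110) D8109
def n17324 : Q := act 6 n8110
theorem D17324 : act 6 n8110 = n17324 := rfl
theorem F28254 : act 7 n17324 = n8129 := d14_2 D8110 D17324 (iv6 D8129) (iv7 D3660) (iv6 F5674)
def n17325 : Q := act 3 n8111
theorem D17325 : act 3 n8111 = n17325 := rfl
theorem F28255 : act 6 n17325 = n13199 := d7_2 F21420 D17325 F21982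
theorem F28256 : act 7 n17325 = n17046 := d8_2 (iv7 F21419) D17325 F27958
theorem F28257 : act 4 n17325 = n12909 := d20_6 F2914 D1707 (iv4 F2995) D3654 D8111 D17325 (iv1 D12909) F9512 (iv3 D6119) F4123
def n17326 : Q := act 4 n8111
theorem D17326 : act 4 n8111 = n17326 := rfl
theorem F28258 : act 2 n17326 = n16719 := d1_1 D17326 (iv4 F27418) F27420
theorem F28259 : act 6 n17326 = n17098 := d10_2 F21420 D17326 (iv4 D17098)
theorem F28260 : act 7 n17326 = n16715 := d11_2 (iv7 F21419) D17326 F27415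
theorem F28261 : act 1 n16717 = n17326 := d15_1 D16717 F28260 F27414
theorem F28262 : act 1 n17326 = n16716 := d15_0 (iv0 D16716) D16719 (iv2 F28258)
def n17327 : Q := act 5 n8113
theorem D17327 : act 5 n8113 = n17327 := rfl
theorem F28263 : act 2 n17327 = n8114 := d2_1 D17327 (iv5 D8114) D8113
theorem F28264 : act 0 n17327 = n17100 := d21_1 D17327 (iv5 D17100) F13588 (iv1 D6089) F4090 D3942 D8846 (iv5 F13764) D12861 F27422
theorem F28265 : act 0 n17099 = n17327 := d21_1 D17099 (iv5 D17327) (iv6 F13206) (iv1 F13209) F17477 (iv5 F13317) (iv1 D7997) (iv5 D3619) D3620 D8000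
theorem F28266 : act 1 n17099 = n12903 := d15_1 (iv0 F28265) F21422 (iv2 F28263)
def n17328 : Q := act 1 n8114
theorem D17328 : act 1 n8114 = n17328 := rfl
theorem F28267 : act 7 n17328 = n17100 := d15_2 (iv0 F28027) D17328 F28047
theorem F28268 : act 5 n8262 = n17328 := d21_0 (iv1 D17328) (iv5 D8114) (iv6 F5764) (iv1 F17603) (iv6 D8270) D8269 F13315 (iv5 D7994) D7995 (iv1 F13042)
theorem F28269 : act 2 n17328 = n17099 := d2_1 F28268 (iv5 D17099) F13772
def n17329 : Q := act 4 n8114
theorem D17329 : act 4 n8114 = n17329 := rfl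
def n17330 : Q := act 6 n8114
theorem D17330 : act 6 n8114 = n17330 := rfl
theorem F28270 : act 3 n17330 = n8116 := d7_1 D17330 (iv6 D8116) (iv3 F12883)
def n17331 : Q := act 3 n8115
theorem D17331 : act 3 n8115 = n17331 := rfl
def n17332 : Q := act 6 n8115
theorem D17332 : act 6 n8115 = n17332 := rfl
theorem F28271 : act 4 n17332 = n8116 := d10_1 D17332 (iv6 D8116) D8115
def n17333 : Q := act 0 n8116
theorem D17333 : act 0 n8116 = n17333 := rfl
def n17334 : Q := act 1 n8116
theorem D17334 : act 1 n8116 = n17334 := rfl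
def n17335 : Q := act 7 n8116
theorem D17335 : act 7 n8116 = n17335 := rfl
def n17336 : Q := act 3 n8118
theorem D17336 : act 3 n8118 = n17336 := rfl
theorem F28272 : act 6 n17336 = n17139 := d7_2 (iv6 F17561) D17336 F28078
def n17337 : Q := act 5 n8118
theorem D17337 : act 5 n8118 = n17337 := rfl
theorem F28273 : act 0 n17337 = n8123 := d17_2 (iv1 F14926) D17337 F12888 F5920 D4092 D9110 F17522 F6213 D9570
def n17338 : Q := act 5 n8119
theorem D17338 : act 5 n8119 = n17338 := rfl
theorem F28274 : act 2 n17338 = n8120 := d2_1 D17338 (iv5 D8120) D8119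
def n17339 : Q := act 0 n8120
theorem D17339 : act 0 n8120 = n17339 := rfl
def n17340 : Q := act 4 n8120
theorem D17340 : act 4 n8120 = n17340 := rfl
def n17341 : Q := act 6 n8120
theorem D17341 : act 6 n8120 = n17341 := rfl
theorem F28275 : act 3 n17341 = n8122 := d7_1 D17341 (iv6 D8122) (iv3 F12886)
theorem F28276 : act 5 n17341 = n17341 := d12_1 D17341 (iv6 D17341) (iv5 D8120) F5678 D8120
def n17342 : Q := act 3 n8121
theorem D17342 : act 3 n8121 = n17342 := rfl
def n17343 : Q := act 6 n8121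
theorem D17343 : act 6 n8121 = n17343 := rfl
theorem F28277 : act 4 n17343 = n8122 := d10_1 D17343 (iv6 D8122) D8121
def n17344 : Q := act 0 n8122
theorem D17344 : act 0 n8122 = n17344 := rfl
theorem F28278 : act 6 n17344 = n17111 := d21_5 F9509 (iv1 F4118) D3657 D8122 D17344 (iv5 D17111) (iv1 D8004) D8005 F12781 (iv1 F9511)
def n17345 : Q := act 1 n8122
theorem D17345 : act 1 n8122 = n17345 := rfl
def n17346 : Q := act 7 n8122
theorem D17346 : act 7 n8122 = n17346 := rfl
theorem F28279 : act 5 n17346 = n17346 := d13_1 D17346 (iv7 D17346) F12887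
def n17347 : Q := act 2 n8123
theorem D17347 : act 2 n8123 = n17347 := rfl
theorem F28280 : act 5 n17347 = n8865 := d2_2 (iv5 F12888) D17347 F13821
def n17348 : Q := act 4 n8123
theorem D17348 : act 4 n8123 = n17348 := rfl
def n17349 : Q := act 6 n8123
theorem D17349 : act 6 n8123 = n17349 := rfl
theorem F28281 : act 3 n17349 = n8125 := d7_1 D17349 (iv6 D8125) D8123
theorem F28282 : act 5 n17349 = n8894 := d12_1 D17349 (iv6 D8894) F5918 D3967 (iv5 F12888)
def n17350 : Q := act 3 n8124
theorem D17350 : act 3 n8124 = n17350 := rfl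
theorem F28283 : act 5 n17350 = n17117 := d6_2 (iv5 F12889) D17350 (iv3 D17117)
def n17351 : Q := act 6 n8124
theorem D17351 : act 6 n8124 = n17351 := rfl
theorem F28284 : act 2 n17351 = n17266 := d3_1 D17351 F28209 F13046
theorem F28285 : act 4 n17351 = n8125 := d10_1 D17351 (iv6 D8125) D8124
def n17352 : Q := act 0 n8125
theorem D17352 : act 0 n8125 = n17352 := rfl
def n17353 : Q := act 1 n8125
theorem D17353 : act 1 n8125 = n17353 := rfl
theorem F28286 : act 1 n17353 = n17267 := d15_1 D17353 (iv7 D17267) (iv2 F12890)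
def n17354 : Q := act 7 n8125
theorem D17354 : act 7 n8125 = n17354 := rfl
theorem F28287 : act 2 n17354 = n17267 := d4_1 D17354 (iv7 D17267) (iv2 F12890)
theorem F28288 : act 5 n17354 = n8915 := d13_1 D17354 F13877 (iv5 F12891)
theorem F28289 : act 1 n17267 = n17352 := d15_0 (iv0 D17352) D17354 F28287
theorem F28290 : act 1 n17265 = n17354 := d15_1 D17265 (iv7 D17354) F12890
theorem F28291 : act 1 n17354 = n17264 := d15_0 (iv0 D17264) D17267 (iv2 F28287)
def n17355 : Q := act 0 n8126
theorem D17355 : act 0 n8126 = n17355 := rfl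
def n17356 : Q := act 1 n8126
theorem D17356 : act 1 n8126 = n17356 := rfl
def n17357 : Q := act 2 n8126
theorem D17357 : act 2 n8126 = n17357 := rfl
def n17358 : Q := act 5 n8126
theorem D17358 : act 5 n8126 = n17358 := rfl
theorem F28292 : act 3 n17358 = n8127 := d6_1 D17358 (iv5 D8127) D8126
theorem F28293 : act 7 n8266 = n17358 := d8_0 F28292 F12893 D8266
def n17359 : Q := act 7 n8126
theorem D17359 : act 7 n8126 = n17359 := rfl
theorem F28294 : act 3 n17359 = n8128 := d8_1 D17359 (iv7 D8128) D8126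
theorem F28295 : act 5 n17359 = n8266 := d13_1 D17359 F28293 (iv5 D17358)
def n17360 : Q := act 6 n8127
theorem D17360 : act 6 n8127 = n17360 := rfl
theorem F28296 : act 4 n17360 = n8267 := d10_1 D17360 (iv6 D8267) (iv4 F12892)
def n17361 : Q := act 6 n8128
theorem D17361 : act 6 n8128 = n17361 := rfl
theorem F28297 : act 4 n17361 = n8129 := d10_1 D17361 (iv6 D8129) (iv4 F12894)
def n17362 : Q := act 0 n8129
theorem D17362 : act 0 n8129 = n17362 := rfl
def n17363 : Q := act 1 n8129
theorem D17363 : act 1 n8129 = n17363 := rfl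
def n17364 : Q := act 2 n8130
theorem D17364 : act 2 n8130 = n17364 := rfl
theorem F28298 : act 3 n17364 = n16692 := d0_2 D8130 D17364 F27353 F12251 F5683
theorem F28299 : act 4 n17364 = n17364 := d1_2 F12898 D17364 (iv2 D17364)
theorem F28300 : act 6 n17364 = n8491 := d3_2 (iv6 F12899) D17364 F16992
theorem F28301 : act 7 n17364 = n8856 := d4_2 (iv7 F12900) D17364 F13792
theorem F28302 : act 1 n17364 = n8519 := d15_0 F17001 (iv7 F12900) D17364
theorem F28303 : act 1 n8858 = n17364 := d15_0 F28302 (iv7 F28184) (iv2 F28187)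
def n17365 : Q := act 4 n8131
theorem D17365 : act 4 n8131 = n17365 := rfl
theorem F28304 : act 2 n17365 = n17325 := d1_1 D17365 F28257 (iv2 F21437)
theorem F28305 : act 6 n17365 = n17057 := d10_2 F17535 D17365 (iv4 D17057)
theorem F28306 : act 7 n17365 = n12797 := d11_2 (iv7 F17533) D17365 F21244
theorem F28307 : act 0 n17365 = n17230 := d20_1 D17365 (iv4 D17230) (iv3 D8080) (iv1 D3645) F2779 F1631 D865 D1609 D3662 D8131
theorem F28308 : act 1 n17046 = n17230 := d15_0 (iv0 F28307) F28306 (iv2 F27957)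
theorem E4020 : n17222 = n17044 := ((c20_10 (iv4 D8076) (iv1 F12861) (iv4 F21359) F21358 (iv1 F12860) D8080 D17230 (iv1 F28308) F27959 (iv3 F27951) (iv1 D17222))).symm
theorem F28309 : act 0 n17044 = n8076 := (sb E4020 (iv1 D17222))
theorem F28310 : act 1 n17044 = n8081 := (sb E4020 F28172)
theorem E4021 : n17325 = n17228 := (c20_10 D17230 (iv1 F28308) F27959 (iv3 F27951) F28309 D17223 (iv4 F28175) (iv1 F28262) (iv4 D17326) D17325 (iv1 D17228))
theorem F28311 : act 2 n17228 = n17365 := (sb E4021 (iv2 F28304))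
theorem F28312 : act 3 n17228 = n8111 := (sb E4021 (iv3 D17325))
theorem F28313 : act 4 n17228 = n12909 := (sb E4021 F28257)
theorem F28314 : act 6 n17228 = n13199 := (sb E4021 F28255)
theorem F28315 : act 7 n17228 = n17046 := (sb E4021 F28256)
theorem E4022 : n17227 = n12797 := ((c15_4 (iv0 D17227) D17228 F28315 F27957)).symm
theorem F28316 : act 1 n12797 = n8080 := (sb E4022 (iv0 D17227))
def n17366 : Q := act 5 n8133
theorem D17366 : act 5 n8133 = n17366 := rfl
theorem F28317 : act 2 n17366 = n8134 := d2_1 D17366 (iv5 D8134) D8133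
theorem F28318 : act 3 n17366 = n16723 := d6_1 D17366 (iv5 D16723) F17455
theorem F28319 : act 0 n17366 = n12802 := d21_1 D17366 (iv5 D12802) (iv6 D6057) (iv1 D2556) F2197 D1228 D2629 (iv5 F14026) D6052 F17554
theorem F28320 : act 0 n17058 = n17366 := d21_1 D17058 (iv5 D17366) (iv6 F17469) (iv1 D6247) (iv6 D2625) D2624 (iv1 F14022) (iv5 D3612) D3613 D7980
def n17367 : Q := act 4 n8134
theorem D17367 : act 4 n8134 = n17367 := rfl
def n17368 : Q := act 6 n8134
theorem D17368 : act 6 n8134 = n17368 := rfl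
theorem F28321 : act 3 n17368 = n8136 := d7_1 D17368 (iv6 D8136) (iv3 F12902)
def n17369 : Q := act 3 n8135
theorem D17369 : act 3 n8135 = n17369 := rfl
def n17370 : Q := act 6 n8135
theorem D17370 : act 6 n8135 = n17370 := rfl
theorem F28322 : act 4 n17370 = n8136 := d10_1 D17370 (iv6 D8136) D8135
def n17371 : Q := act 0 n8136
theorem D17371 : act 0 n8136 = n17371 := rfl
theorem F28323 : act 6 n17371 = n8825 := d21_5 (iv5 D3530) (iv1 F3117) D3663 D8136 D17371 (iv5 D8825) (iv1 D3931) D3932 F5865 (iv1 F5556)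
def n17372 : Q := act 1 n8136
theorem D17372 : act 1 n8136 = n17372 := rfl
def n17373 : Q := act 7 n8136
theorem D17373 : act 7 n8136 = n17373 := rfl
def n17374 : Q := act 3 n8138
theorem D17374 : act 3 n8138 = n17374 := rfl
theorem F28324 : act 4 n17374 = n17221 := d5_2 F17543 D17374 (iv3 F28170) (iv4 D9562) (iv3 F17542)
theorem F28325 : act 6 n17374 = n8682 := d7_2 (iv6 F17498) D17374 (iv3 D8682)
theorem F28326 : act 7 n17374 = n16712 := d8_2 (iv7 F17499) D17374 F27403
def n17375 : Q := act 5 n8139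
theorem D17375 : act 5 n8139 = n17375 := rfl
theorem F28327 : act 2 n17375 = n8140 := d2_1 D17375 (iv5 D8140) D8139
theorem F28328 : act 7 n17375 = n16723 := d13_2 F17456 D17375 (iv5 D16723)
theorem F28329 : act 1 n17375 = n8681 := d17_6 D2032 D4939 (iv1 F17508) (iv5 D9649) (iv4 F12904) D17375 (iv5 D8681) (iv0 D3890) F2866
theorem F28330 : act 0 n17375 = n8684 := d21_1 D17375 (iv5 D8684) (iv6 F17498) (iv1 D8138) F5690 D8140 (iv1 F27555) (iv5 D16789) (iv6 F12392) F17486
def n17376 : Q := act 4 n8140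
theorem D17376 : act 4 n8140 = n17376 := rfl
def n17377 : Q := act 6 n8140
theorem D17377 : act 6 n8140 = n17377 := rfl
theorem F28331 : act 3 n17377 = n8142 := d7_1 D17377 (iv6 D8142) (iv3 F12906)
theorem F28332 : act 5 n17377 = n17377 := d12_1 D17377 (iv6 D17377) (iv5 D8140) F5690 D8140
def n17378 : Q := act 3 n8141
theorem D17378 : act 3 n8141 = n17378 := rfl
def n17379 : Q := act 6 n8141
theorem D17379 : act 6 n8141 = n17379 := rfl
theorem F28333 : act 4 n17379 = n8142 := d10_1 D17379 (iv6 D8142) D8141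
def n17380 : Q := act 0 n8142
theorem D17380 : act 0 n8142 = n17380 := rfl
theorem F28334 : act 6 n17380 = n17068 := d21_5 F5873 (iv1 F5684) D3665 D8142 D17380 (iv5 D17068) (iv1 D7984) D7985 F12756 (iv1 F5872)
def n17381 : Q := act 1 n8142
theorem D17381 : act 1 n8142 = n17381 := rfl
def n17382 : Q := act 7 n8142
theorem D17382 : act 7 n8142 = n17382 := rfl
theorem F28335 : act 5 n17382 = n17382 := d13_1 D17382 (iv7 D17382) F12908
def n17383 : Q := act 6 n8143
theorem D17383 : act 6 n8143 = n17383 := rfl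
theorem F28336 : act 2 n17383 = n12765 := d3_1 D17383 (iv6 D12765) (iv2 F12909)
theorem F28337 : act 4 n17383 = n15245 := d10_1 D17383 (iv6 D15245) (iv4 F12911)
def n17384 : Q := act 3 n8144
theorem D17384 : act 3 n8144 = n17384 := rfl
def n17385 : Q := act 4 n8144
theorem D17385 : act 4 n8144 = n17385 := rfl
theorem F28338 : act 2 n17385 = n12495 := d1_1 D17385 F20822 F27260
theorem F28339 : act 7 n17385 = n15333 := d11_2 F27263 D17385 (iv4 F27262)
theorem F28340 : act 1 n15332 = n17385 := d15_1 D15332 F28339 (iv2 D15333)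
theorem F28341 : act 3 n15352 = n17385 := d0_0 F28338 (iv3 D12495) (iv2 F27226) D7258 D15352
theorem F28342 : act 1 n17385 = n15331 := d15_0 (iv0 D15331) (iv7 F27232) (iv2 F28338)
theorem F28343 : act 0 n15352 = n16477 := d20_4 (iv4 F5696) D8144 D17385 (iv3 F28341) (iv3 D16477) D16478 F26768 (iv4 F26765) (iv3 D8162) (iv1 D3674)
def n17386 : Q := act 5 n8144
theorem D17386 : act 5 n8144 = n17386 := rfl
theorem F28344 : act 2 n17386 = n16043 := d2_1 D17386 F26864 F27260
theorem F28345 : act 0 n17386 = n16026 := d17_2 D8144 D17386 (iv5 D16026) (iv4 D7496) D7497 (iv0 F26755) (iv5 D8159) (iv0 D3673) (iv4 F5696)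
theorem F28346 : act 1 n17386 = n12168 := d15_1 (iv0 F28345) F20170 (iv2 F25511)
def n17387 : Q := act 6 n8144
theorem D17387 : act 6 n8144 = n17387 := rfl
def n17388 : Q := act 3 n8145
theorem D17388 : act 3 n8145 = n17388 := rfl
theorem F28347 : act 4 n17388 = n15339 := d5_2 F12914 D17388 (iv3 D15339) (iv4 D7254) D7253
theorem F28348 : act 0 n16966 = n17388 := d20_1 D16966 F28347 (iv3 D15339) D15337 (iv3 F26835) (iv4 F27163) F27161 (iv4 F11863) F11862 (iv1 F12540)
theorem F28349 : act 0 n12495 = n16965 := d20_4 F24915 F25752 (iv4 D12496) D12495 (iv3 D16965) D16966 F28348 F28347 (iv3 D15339) D15337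
theorem F28350 : act 0 n17388 = n16962 := d20_1 (iv4 F28347) (iv4 D16962) (iv3 F25995) F27734 (iv3 D8175) (iv4 D3683) (iv1 F4147) (iv4 F9542) (iv3 F21493) (iv1 F26661)
theorem F28351 : act 1 n15333 = n16965 := d15_0 (iv0 F28349) F27232 D15333
theorem F28352 : act 0 n16988 = n16966 := d20_7 (iv4 F27262) (iv1 F20084) F12915 (iv3 F9533) (iv1 F9537) D7935 D16988 (iv4 D16966) D16965 (iv1 F28351)
def n17389 : Q := act 5 n8145
theorem D17389 : act 5 n8145 = n17389 := rfl
theorem F28353 : act 7 n17389 = n16043 := d13_2 (iv7 F27258) D17389 F26864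
theorem F28354 : act 0 n17389 = n12168 := d17_2 (iv1 F20089) D17389 (iv5 D12168) F8891 D5984 (iv0 F26760) (iv5 D8164) F9443 (iv4 F20085)
theorem F28355 : act 2 n17389 = n16042 := d15_3 (iv0 D16042) D16043 (iv7 F28353)
theorem F28356 : act 5 n16042 = n12142 := d2_2 D17389 F28355 (iv2 F27261)
theorem F28357 : act 7 n16042 = n17386 := d4_2 (iv7 F28353) F28355 F28344
theorem F28358 : act 1 n17389 = n16026 := d15_0 (iv0 F28345) (iv7 F28357) (iv2 F28355)
def n17390 : Q := act 6 n8145
theorem D17390 : act 6 n8145 = n17390 := rfl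
theorem F28359 : act 4 n17390 = n15335 := d10_1 D17390 (iv6 D15335) F12914
def n17391 : Q := act 5 n8146
theorem D17391 : act 5 n8146 = n17391 := rfl
theorem F28360 : act 2 n17391 = n8147 := d2_1 D17391 (iv5 D8147) D8146
def n17392 : Q := act 0 n8147
theorem D17392 : act 0 n8147 = n17392 := rfl
def n17393 : Q := act 4 n8147
theorem D17393 : act 4 n8147 = n17393 := rfl
def n17394 : Q := act 6 n8147
theorem D17394 : act 6 n8147 = n17394 := rfl
theorem F28361 : act 3 n17394 = n8149 := d7_1 D17394 (iv6 D8149) (iv3 F12916)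
def n17395 : Q := act 0 n8148
theorem D17395 : act 0 n8148 = n17395 := rfl
theorem F28362 : act 4 n17395 = n15352 := d20_2 (iv4 F12918) D17395 F28341 (iv1 F28340) (iv3 F25990) (iv4 D16478) (iv1 F11861) (iv4 F12044) F12043 F26771
theorem F28363 : act 2 n15353 = n17395 := d15_3 (iv0 D17395) (iv0 F27855) F27854
theorem F28364 : act 1 n12779 = n17395 := d15_0 (iv0 D17395) (iv7 F26698) (iv2 F26781)
def n17396 : Q := act 5 n8148
theorem D17396 : act 5 n8148 = n17396 := rfl
theorem F28365 : act 3 n17396 = n8152 := d6_1 D17396 (iv5 D8152) (iv3 F12917)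
def n17397 : Q := act 0 n8149
theorem D17397 : act 0 n8149 = n17397 := rfl
def n17398 : Q := act 1 n8149
theorem D17398 : act 1 n8149 = n17398 := rfl
def n17399 : Q := act 5 n8149
theorem D17399 : act 5 n8149 = n17399 := rfl
theorem F28366 : act 6 n17399 = n8152 := d12_2 D8149 D17399 (iv5 D8152) (iv6 D3669) D3668
def n17400 : Q := act 7 n8149
theorem D17400 : act 7 n8149 = n17400 := rfl
def n17401 : Q := act 5 n8150
theorem D17401 : act 5 n8150 = n17401 := rfl
def n17402 : Q := act 0 n8152
theorem D17402 : act 0 n8152 = n17402 := rfl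
theorem F28367 : act 5 n17402 = n11214 := d17_3 F26349 D8152 D17402 (iv4 F22296) (iv5 F26789) (iv0 D7883) (iv5 F7685) F26346 (iv4 F12487)
theorem F28368 : act 2 n11215 = n17402 := d15_3 (iv0 D17402) (iv0 F27673) F27672
def n17403 : Q := act 4 n8152
theorem D17403 : act 4 n8152 = n17403 := rfl
theorem F28369 : act 5 n17403 = n10343 := d16_3 (iv4 F5697) D8152 D17403 F16458 F27900 (iv4 D17027) F12590 (iv7 D5767) F3799
theorem F28370 : act 3 n17403 = n10344 := d19_3 F26349 D8152 D17403 F16462 (iv5 D4950) (iv4 D2038) (iv3 D1019) (iv1 F1210) F1209 F603 (iv3 F421) (iv1 F706) F1040 D497 D841 D1554 (iv5 F2746) D3575 D7886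
def n17404 : Q := act 7 n8152
theorem D17404 : act 7 n8152 = n17404 := rfl
theorem F28371 : act 5 n17404 = n8153 := d13_1 D17404 (iv7 D8153) D8152
theorem F28372 : act 0 n11215 = n17404 := d17_2 (iv1 D11213) D11215 F28371 F12920 (iv5 F8874) F12642 D7291 (iv0 F20229) F26997
def n17405 : Q := act 5 n8154
theorem D17405 : act 5 n8154 = n17405 := rfl
theorem F28373 : act 3 n17405 = n16927 := d6_1 D17405 (iv5 D16927) F26479
def n17406 : Q := act 4 n8155
theorem D17406 : act 4 n8155 = n17406 := rfl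
theorem F28374 : act 5 n17406 = n16948 := d17_5 (iv1 D5761) F3797 D3670 D8155 D17406 (iv0 D16948) (iv5 D7905) D7904 (iv4 F12595)
def n17407 : Q := act 0 n8158
theorem D17407 : act 0 n8158 = n17407 := rfl
theorem F28375 : act 4 n17407 = n16965 := d20_2 D8158 D17407 (iv3 D16965) (iv1 D7921) (iv3 D3586) (iv4 D1581) (iv1 F1615) D869 D1616 D3673
theorem F28376 : act 1 n8163 = n17407 := d15_0 (iv0 D17407) F26885 (iv2 F26711)
def n17408 : Q := act 1 n8158
theorem D17408 : act 1 n8158 = n17408 := rfl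
theorem F28377 : act 1 n17408 = n8163 := d15_1 D17408 (iv7 F26713) F26886
def n17409 : Q := act 5 n8158
theorem D17409 : act 5 n8158 = n17409 := rfl
def n17410 : Q := act 4 n8159
theorem D17410 : act 4 n8159 = n17410 := rfl
theorem F28378 : act 2 n17410 = n16057 := d1_1 D17410 (iv4 D16057) F26856
theorem F28379 : act 7 n17410 = n16052 := d11_2 (iv7 F26855) D17410 (iv4 D16052)
def n17411 : Q := act 6 n8159
theorem D17411 : act 6 n8159 = n17411 := rfl
theorem F28380 : act 2 n17411 = n16059 := d3_1 D17411 (iv6 D16059) F26856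
def n17412 : Q := act 5 n8163
theorem D17412 : act 5 n8163 = n17412 := rfl
theorem F28381 : act 3 n17412 = n16925 := d6_1 D17412 (iv5 D16925) F12926
def n17413 : Q := act 6 n8163
theorem D17413 : act 6 n8163 = n17413 := rfl
theorem F28382 : act 3 n17413 = n16926 := d7_1 D17413 (iv6 D16926) F12926
theorem F28383 : act 4 n17413 = n8165 := d10_1 D17413 (iv6 D8165) D8163
def n17414 : Q := act 4 n8164
theorem D17414 : act 4 n8164 = n17414 := rfl
theorem F28384 : act 2 n17414 = n16052 := d1_1 D17414 (iv4 D16052) (iv2 F26853)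
theorem F28385 : act 7 n17414 = n16057 := d11_2 F26857 D17414 (iv4 D16057)
def n17415 : Q := act 6 n8164
theorem D17415 : act 6 n8164 = n17415 := rfl
theorem F28386 : act 2 n17415 = n16054 := d3_1 D17415 (iv6 D16054) (iv2 F26853)
def n17416 : Q := act 5 n8165
theorem D17416 : act 5 n8165 = n17416 := rfl
theorem F28387 : act 2 n17416 = n15084 := d2_1 D17416 F24705 F26726
theorem F28388 : act 0 n12420 = n17416 := d21_1 D12420 (iv5 D17416) (iv6 D8165) (iv1 D3674) D3676 (iv5 F27018) (iv1 D6015) (iv5 D2533) (iv6 F3941) D5908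
theorem F28389 : act 1 n12420 = n14851 := d15_1 (iv0 F28388) (iv7 F24706) (iv2 F28387)
theorem E4023 : n15209 = n15103 := ((c21_1 D15103 (iv1 D15209) F11533 (iv6 F18700) F26718 (iv6 F11324) D14851 (iv1 F28389) (iv5 D12420) (iv6 F26905) (iv1 F20656))).symm
theorem F28390 : act 0 n15103 = n7211 := (sb E4023 (iv1 D15209))
def n17417 : Q := act 6 n8171
theorem D17417 : act 6 n8171 = n17417 := rfl
def n17418 : Q := act 6 n8172
theorem D17418 : act 6 n8172 = n17418 := rfl
def n17419 : Q := act 0 n8173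
theorem D17419 : act 0 n8173 = n17419 := rfl
theorem F28391 : act 5 n17419 = n15426 := d17_3 (iv1 F27893) F27891 D17419 (iv4 D15426) (iv5 D7281) F26333 D12477 F26338 D15430
theorem F28392 : act 4 n17419 = n12472 := d18_1 D17419 (iv1 D12472) D12473 F26418 (iv4 D7285) D7284 D15433 F27892 F27891
theorem F28393 : act 2 n15561 = n17419 := d1_3 F28392 F26444 D15561
theorem F28394 : act 7 n15566 = n17419 := d11_0 F28392 F26446 D15566
def n17420 : Q := act 1 n8173
theorem D17420 : act 1 n8173 = n17420 := rfl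
theorem F28395 : act 7 n17420 = n15561 := d15_2 (iv0 D17419) D17420 F28393
theorem F28396 : act 4 n17420 = n12471 := d17_9 F26416 (iv5 D5952) (iv1 F10670) F26514 D15809 F26763 F27892 F27891 D17420
theorem F28397 : act 2 n15566 = n17420 := d1_3 F28396 F26440 D15566
theorem F28398 : act 5 n15418 = n17420 := d9_0 F28396 F26441 (iv4 F26431) (iv5 D6086) (iv4 F10673) D7281 D15426 (iv5 F28391) F28392 F26445 F26381 (iv5 D6081) (iv4 F10684) D7278 D15418
def n17421 : Q := act 3 n8173
theorem D17421 : act 3 n8173 = n17421 := rfl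
def n17422 : Q := act 6 n8174
theorem D17422 : act 6 n8174 = n17422 := rfl
theorem F28399 : act 3 n17422 = n8755 := d7_1 D17422 (iv6 D8755) (iv3 F26584)
def n17423 : Q := act 2 n8175
theorem D17423 : act 2 n8175 = n17423 := rfl
theorem F28400 : act 3 n17423 = n15520 := d0_2 D8175 D17423 (iv2 D15520) (iv3 D7328) F26474
theorem F28401 : act 4 n17423 = n12843 := d1_2 (iv4 F12931) D17423 F26736
theorem F28402 : act 7 n17423 = n15541 := d4_2 (iv7 F26476) D17423 (iv2 D15541)
theorem F28403 : act 1 n17423 = n15279 := d15_0 (iv0 F25083) (iv7 F26476) D17423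
theorem F28404 : act 1 n15284 = n17423 := d15_1 (iv0 F26703) F28402 (iv2 D15541)
def n17424 : Q := act 3 n8177
theorem D17424 : act 3 n8177 = n17424 := rfl
theorem F28405 : act 5 n17424 = n13405 := d6_2 (iv5 F12935) D17424 (iv3 F26430)
theorem F28406 : act 6 n17424 = n13549 := d7_2 (iv6 F12936) D17424 F22711
theorem F28407 : act 7 n17424 = n11174 := d8_2 (iv7 F12939) D17424 F18137
theorem F28408 : act 0 n17424 = n13443 := d20_4 D7164 (iv1 F20685) F20682 D17424 F22370 (iv4 F26376) F26297 F26321 F5289 D3303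
def n17425 : Q := act 3 n8178
theorem D17425 : act 3 n8178 = n17425 := rfl
theorem F28409 : act 4 n17425 = n15056 := d5_2 D8178 D17425 (iv3 D15056) (iv4 D7164) (iv3 F10070)
theorem F28410 : act 5 n17425 = n15429 := d6_2 (iv5 F12943) D17425 (iv3 D15429)
theorem F28411 : act 6 n17425 = n16573 := d7_2 (iv6 F12941) D17425 (iv3 D16573)
theorem F28412 : act 7 n17425 = n13882 := d8_2 (iv7 F12942) D17425 F23148
def n17426 : Q := act 5 n8179
theorem D17426 : act 5 n8179 = n17426 := rfl
theorem F28413 : act 2 n17426 = n15639 := d2_1 D17426 (iv5 D15639) (iv2 F12947)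
theorem F28414 : act 7 n17426 = n17405 := d13_2 (iv7 F12948) D17426 (iv5 D17405)
def n17427 : Q := act 4 n8180
theorem D17427 : act 4 n8180 = n17427 := rfl
theorem F28415 : act 2 n17427 = n13862 := d1_1 D17427 F23130 (iv2 F12949)
theorem F28416 : act 6 n17427 = n12015 := d10_2 (iv6 F12951) D17427 (iv4 D12015)
theorem F28417 : act 7 n17427 = n17406 := d11_2 (iv7 F12952) D17427 (iv4 D17406)
theorem F28418 : act 0 n17427 = n12125 := d17_0 (iv5 F27047) F27789 (iv5 D16946) (iv4 F12595) D12152 (iv0 F20102) F18626 (iv0 F12953) D17427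
def n17428 : Q := act 1 n8181
theorem D17428 : act 1 n8181 = n17428 := rfl
theorem F28419 : act 1 n17428 = n15520 := d15_1 D17428 (iv7 F27753) F27751
theorem F28420 : act 3 n15350 = n17428 := d20_3 (iv4 F9391) D12761 (iv4 F24927) (iv1 D17428) (iv3 D8181) (iv4 D3687) (iv1 D1619) (iv4 F2801) (iv3 F5699) (iv1 F26770)
theorem F28421 : act 4 n17428 = n16978 := d20_6 (iv4 F24915) (iv1 F24923) (iv4 D7259) D7258 D15350 F28420 (iv1 D16978) (iv4 D7931) D7930 F26875
def n17429 : Q := act 6 n8184
theorem D17429 : act 6 n8184 = n17429 := rfl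
theorem F28422 : act 3 n17429 = n8193 := d7_1 D17429 (iv6 D8193) (iv3 F12961)
theorem F28423 : act 5 n17429 = n10118 := d12_1 D17429 (iv6 D10118) (iv5 D4600) F16744 D8184
def n17430 : Q := act 5 n8186
theorem D17430 : act 5 n8186 = n17430 := rfl
theorem F28424 : act 2 n17430 = n8603 := d2_1 D17430 F13510 F12965
theorem F28425 : act 3 n17430 = n8619 := d6_1 D17430 F13532 F12968
theorem F28426 : act 7 n17430 = n8632 := d13_2 (iv7 F12967) D17430 F13542
theorem F28427 : act 0 n17430 = n8355 := d17_2 D8186 D17430 (iv5 D8355) (iv4 D3751) F13340 F9475 (iv5 D6100) F4096 D3692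
theorem F28428 : act 1 n17430 = n8343 := d17_6 F5997 D8291 (iv1 F21898) F21895 (iv4 F12964) D17430 (iv5 D8343) (iv0 F5823) D3846
theorem F28429 : act 4 n17430 = n17175 := d18_5 (iv1 F4154) D3635 (iv1 F12796) (iv4 F12964) D17430 F28135 (iv4 D8063) F9568 (iv5 D6151)
def n17431 : Q := act 6 n8186
theorem D17431 : act 6 n8186 = n17431 := rfl
theorem F28430 : act 2 n17431 = n16712 := d3_1 D17431 (iv6 D16712) F12965
theorem F28431 : act 3 n17431 = n16715 := d7_1 D17431 (iv6 D16715) F12968
theorem F28432 : act 4 n17431 = n17044 := d10_1 D17431 (iv6 D17044) (iv4 F12964)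
theorem F28433 : act 0 n17431 = n16693 := d20_7 F14313 (iv1 F17462) (iv4 F12904) (iv3 F21441) (iv1 F21446) (iv3 F27951) (iv4 F28432) F27360 (iv3 F17595) (iv1 F17566)
def n17432 : Q := act 6 n8188
theorem D17432 : act 6 n8188 = n17432 := rfl
def n17433 : Q := act 1 n8192
theorem D17433 : act 1 n8192 = n17433 := rfl
theorem F28434 : act 1 n17433 = n8201 := d15_1 D17433 (iv7 F13367) (iv2 F13368)
theorem F28435 : act 4 n17433 = n9005 := d18_7 F12353 (iv4 D7814) F12102 (iv4 D3692) D3693 D8192 D17433 F14044 (iv5 D8029)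
def n17434 : Q := act 3 n8192
theorem D17434 : act 3 n8192 = n17434 := rfl
def n17435 : Q := act 5 n8192
theorem D17435 : act 5 n8192 = n17435 := rfl
def n17436 : Q := act 6 n8192
theorem D17436 : act 6 n8192 = n17436 := rfl
theorem F28436 : act 4 n17436 = n8193 := d10_1 D17436 (iv6 D8193) D8192
def n17437 : Q := act 0 n8193
theorem D17437 : act 0 n8193 = n17437 := rfl
def n17438 : Q := act 1 n8193
theorem D17438 : act 1 n8193 = n17438 := rfl
def n17439 : Q := act 7 n8193
theorem D17439 : act 7 n8193 = n17439 := rfl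
def n17440 : Q := act 5 n8198
theorem D17440 : act 5 n8198 = n17440 := rfl
theorem F28437 : act 3 n17440 = n8204 := d6_1 D17440 (iv5 D8204) (iv3 F12978)
def n17441 : Q := act 6 n8199
theorem D17441 : act 6 n8199 = n17441 := rfl
theorem F28438 : act 3 n17441 = n10302 := d7_1 D17441 (iv6 D10302) (iv3 F12980)
def n17442 : Q := act 5 n8200
theorem D17442 : act 5 n8200 = n17442 := rfl
theorem F28439 : act 3 n17442 = n16689 := d6_1 D17442 (iv5 D16689) (iv3 F12981)
def n17443 : Q := act 3 n8201
theorem D17443 : act 3 n8201 = n17443 := rfl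
def n17444 : Q := act 5 n8201
theorem D17444 : act 5 n8201 = n17444 := rfl
def n17445 : Q := act 6 n8201
theorem D17445 : act 6 n8201 = n17445 := rfl
theorem F28440 : act 4 n17445 = n8202 := d10_1 D17445 (iv6 D8202) D8201
def n17446 : Q := act 0 n8202
theorem D17446 : act 0 n8202 = n17446 := rfl
def n17447 : Q := act 1 n8202
theorem D17447 : act 1 n8202 = n17447 := rfl
def n17448 : Q := act 5 n8202
theorem D17448 : act 5 n8202 = n17448 := rfl
theorem F28441 : act 6 n17448 = n8204 := d12_2 D8202 D17448 (iv5 D8204) (iv6 D3699) D3698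
def n17449 : Q := act 7 n8202
theorem D17449 : act 7 n8202 = n17449 := rfl
def n17450 : Q := act 4 n8204
theorem D17450 : act 4 n8204 = n17450 := rfl
def n17451 : Q := act 3 n8206
theorem D17451 : act 3 n8206 = n17451 := rfl
def n17452 : Q := act 6 n8206
theorem D17452 : act 6 n8206 = n17452 := rfl
theorem F28442 : act 2 n17452 = n8225 := d3_1 D17452 (iv6 D8225) (iv2 F12984)
theorem F28443 : act 4 n17452 = n8207 := d10_1 D17452 (iv6 D8207) D8206
def n17453 : Q := act 0 n8207
theorem D17453 : act 0 n8207 = n17453 := rfl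
def n17454 : Q := act 1 n8207
theorem D17454 : act 1 n8207 = n17454 := rfl
theorem F28444 : act 1 n17454 = n8229 := d15_1 D17454 (iv7 D8229) (iv2 F12985)
def n17455 : Q := act 5 n8207
theorem D17455 : act 5 n8207 = n17455 := rfl
theorem F28445 : act 2 n17455 = n8228 := d2_1 D17455 (iv5 D8228) (iv2 F12985)
theorem F28446 : act 6 n17455 = n8210 := d12_2 D8207 D17455 (iv5 D8210) (iv6 D3701) D3700
def n17456 : Q := act 7 n8207
theorem D17456 : act 7 n8207 = n17456 := rfl
theorem F28447 : act 2 n17456 = n8229 := d4_1 D17456 (iv7 D8229) (iv2 F12985)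
theorem F28448 : act 1 n8229 = n17453 := d15_0 (iv0 D17453) D17456 F28447
theorem F28449 : act 1 n8227 = n17456 := d15_1 D8227 (iv7 D17456) F12985
theorem F28450 : act 1 n17456 = n8226 := d15_0 (iv0 D8226) D8229 (iv2 F28447)
def n17457 : Q := act 4 n8210
theorem D17457 : act 4 n8210 = n17457 := rfl
theorem F28451 : act 2 n17457 = n8240 := d1_1 D17457 (iv4 D8240) (iv2 F12991)
def n17458 : Q := act 7 n8210
theorem D17458 : act 7 n8210 = n17458 := rfl
theorem F28452 : act 2 n17458 = n8241 := d4_1 D17458 (iv7 D8241) (iv2 F12991)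
theorem F28453 : act 3 n17458 = n17151 := d8_1 D17458 F28098 F21527
theorem F28454 : act 5 n17458 = n8211 := d13_1 D17458 (iv7 D8211) D8210
theorem F28455 : act 1 n8239 = n17458 := d15_1 D8239 (iv7 D17458) F12991
theorem F28456 : act 1 n17458 = n8238 := d15_1 F28455 (iv7 F21384) F21383
def n17459 : Q := act 0 n8214
theorem D17459 : act 0 n8214 = n17459 := rfl
theorem F28457 : act 4 n17459 = n13125 := d18_3 D3702 D8214 D17459 F21895 (iv4 F12964) (iv0 D8186) (iv4 D3692) (iv0 D1621) D1624
theorem F28458 : act 1 n8219 = n17459 := d15_0 (iv0 D17459) (iv7 F21364) F21363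
theorem F28459 : act 7 n13150 = n17459 := d11_0 F28457 F21896 D13150
def n17460 : Q := act 1 n8214
theorem D17460 : act 1 n8214 = n17460 := rfl
theorem F28460 : act 1 n17460 = n8219 := d15_1 D17460 (iv7 F21368) F21367
theorem F28461 : act 4 n17460 = n13149 := d18_7 F5834 (iv4 D3846) F5823 (iv4 D3746) F13334 D8214 D17460 F21929 (iv5 D8278)
theorem F28462 : act 2 n13150 = n17460 := d1_3 F28461 (iv2 D13149) D13150
def n17461 : Q := act 3 n8214
theorem D17461 : act 3 n8214 = n17461 := rfl
def n17462 : Q := act 5 n8214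
theorem D17462 : act 5 n8214 = n17462 := rfl
def n17463 : Q := act 6 n8214
theorem D17463 : act 6 n8214 = n17463 := rfl
theorem F28463 : act 4 n17463 = n8216 := d10_1 D17463 (iv6 D8216) D8214
def n17464 : Q := act 0 n8216
theorem D17464 : act 0 n8216 = n17464 := rfl
def n17465 : Q := act 1 n8216
theorem D17465 : act 1 n8216 = n17465 := rfl
def n17466 : Q := act 7 n8216
theorem D17466 : act 7 n8216 = n17466 := rfl
theorem F28464 : act 5 n17466 = n17439 := d13_1 D17466 (iv7 D17439) F17022
def n17467 : Q := act 6 n8218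
theorem D17467 : act 6 n8218 = n17467 := rfl
theorem F28465 : act 2 n17467 = n10455 := d3_1 D17467 (iv6 D10455) (iv2 F13337)
theorem F28466 : act 3 n17467 = n8221 := d7_1 D17467 (iv6 D8221) D8218
def n17468 : Q := act 3 n8219
theorem D17468 : act 3 n8219 = n17468 := rfl
def n17469 : Q := act 5 n8219
theorem D17469 : act 5 n8219 = n17469 := rfl
def n17470 : Q := act 6 n8219
theorem D17470 : act 6 n8219 = n17470 := rfl
theorem F28467 : act 4 n17470 = n8221 := d10_1 D17470 (iv6 D8221) D8219
def n17471 : Q := act 0 n8221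
theorem D17471 : act 0 n8221 = n17471 := rfl
def n17472 : Q := act 1 n8221
theorem D17472 : act 1 n8221 = n17472 := rfl
def n17473 : Q := act 5 n8221
theorem D17473 : act 5 n8221 = n17473 := rfl
theorem F28468 : act 6 n17473 = n8236 := d12_2 D8221 D17473 (iv5 D8236) F16761 F13340
def n17474 : Q := act 7 n8221
theorem D17474 : act 7 n8221 = n17474 := rfl
def n17475 : Q := act 3 n8222
theorem D17475 : act 3 n8222 = n17475 := rfl
def n17476 : Q := act 5 n8222
theorem D17476 : act 5 n8222 = n17476 := rfl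
theorem F28469 : act 1 n17476 = n8378 := d17_6 F13420 (iv5 D6240) F9632 D13008 F21631 D17476 (iv5 D8378) D8377 (iv4 F14045)
def n17477 : Q := act 6 n8222
theorem D17477 : act 6 n8222 = n17477 := rfl
def n17478 : Q := act 3 n8223
theorem D17478 : act 3 n8223 = n17478 := rfl
theorem F28470 : act 4 n17478 = n9087 := d5_2 F21640 D17478 (iv3 F21741) (iv4 D13044) (iv3 F21637)
theorem F28471 : act 5 n8866 = n17478 := d16_1 D8866 F28470 F14358 (iv4 D9198) F7137 F6535 D3959 (iv7 F6854) F6853
def n17479 : Q := act 5 n8223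
theorem D17479 : act 5 n8223 = n17479 := rfl
theorem F28472 : act 3 n17479 = n8866 := d6_1 D17479 F28471 (iv3 D17478)
theorem F28473 : act 4 n17479 = n16759 := d16_2 F21640 D17479 (iv5 F27525) (iv4 D12952) F13345 D6182 D13008 F21629 (iv2 F21636)
theorem F28474 : act 0 n17479 = n8378 := d17_2 (iv1 F21343) D17479 (iv5 D8378) (iv4 D3758) (iv5 D1642) D1640 F13340 F9475 D12862
def n17480 : Q := act 6 n8223
theorem D17480 : act 6 n8223 = n17480 := rfl
def n17481 : Q := act 0 n8224
theorem D17481 : act 0 n8224 = n17481 := rfl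
theorem F28475 : act 5 n17481 = n12992 := d17_3 (iv1 D8223) D8224 D17481 F21611 (iv5 D12944) F12838 (iv5 F14035) (iv0 F21639) F21640
def n17482 : Q := act 1 n8224
theorem D17482 : act 1 n8224 = n17482 := rfl
theorem F28476 : act 5 n17482 = n12993 := d17_7 F13414 (iv5 D3698) (iv1 D1622) D1624 D3704 D8224 D17482 F21615 (iv4 D8363)
theorem F28477 : act 3 n8880 = n17482 := d19_19 (iv1 D17482) (iv5 D8224) (iv4 D3704) F2802 (iv1 F1710) (iv5 D912) (iv4 D592) F510 D316 F551 F516 (iv3 F905) F907 D578 (iv4 F1629) D1594 D3623 (iv5 F7337) D8880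
def n17483 : Q := act 6 n8224
theorem D17483 : act 6 n8224 = n17483 := rfl
def n17484 : Q := act 0 n8225
theorem D17484 : act 0 n8225 = n17484 := rfl
def n17485 : Q := act 1 n8225
theorem D17485 : act 1 n8225 = n17485 := rfl
def n17486 : Q := act 5 n8225
theorem D17486 : act 5 n8225 = n17486 := rfl
def n17487 : Q := act 7 n8225
theorem D17487 : act 7 n8225 = n17487 := rfl
theorem F28478 : act 4 n17487 = n8229 := d11_1 D17487 (iv7 D8229) (iv4 F12997)
def n17488 : Q := act 2 n8226
theorem D17488 : act 2 n8226 = n17488 := rfl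
theorem F28479 : act 7 n8227 = n17488 := d15_2 (iv0 D8226) D8227 (iv2 D17488)
def n17489 : Q := act 3 n8226
theorem D17489 : act 3 n8226 = n17489 := rfl
def n17490 : Q := act 4 n8226
theorem D17490 : act 4 n8226 = n17490 := rfl
def n17491 : Q := act 5 n8226
theorem D17491 : act 5 n8226 = n17491 := rfl
def n17492 : Q := act 6 n8226
theorem D17492 : act 6 n8226 = n17492 := rfl
def n17493 : Q := act 7 n8226
theorem D17493 : act 7 n8226 = n17493 := rfl
theorem F28480 : act 2 n17493 = n8227 := d4_1 D17493 F28479 (iv2 D17488)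
def n17494 : Q := act 3 n8227
theorem D17494 : act 3 n8227 = n17494 := rfl
def n17495 : Q := act 4 n8227
theorem D17495 : act 4 n8227 = n17495 := rfl
def n17496 : Q := act 5 n8227
theorem D17496 : act 5 n8227 = n17496 := rfl
def n17497 : Q := act 6 n8227
theorem D17497 : act 6 n8227 = n17497 := rfl
def n17498 : Q := act 0 n8228
theorem D17498 : act 0 n8228 = n17498 := rfl
def n17499 : Q := act 1 n8228
theorem D17499 : act 1 n8228 = n17499 := rfl
def n17500 : Q := act 4 n8228
theorem D17500 : act 4 n8228 = n17500 := rfl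
theorem F28481 : act 6 n17500 = n8240 := d10_2 (iv6 F12999) D17500 (iv4 D8240)
def n17501 : Q := act 7 n8228
theorem D17501 : act 7 n8228 = n17501 := rfl
theorem F28482 : act 3 n17501 = n8255 := d8_1 D17501 (iv7 D8255) (iv3 F12998)
theorem F28483 : act 5 n17501 = n8229 := d13_1 D17501 (iv7 D8229) D8228
def n17502 : Q := act 5 n8231
theorem D17502 : act 5 n8231 = n17502 := rfl
theorem F28484 : act 3 n17502 = n8233 := d6_1 D17502 (iv5 D8233) D8231
theorem F28485 : act 7 n17502 = n10252 := d13_2 F16763 D17502 (iv5 D10252)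
def n17503 : Q := act 0 n8232
theorem D17503 : act 0 n8232 = n17503 := rfl
theorem F28486 : act 4 n17503 = n13198 := d20_2 D8232 D17503 (iv3 D13198) (iv1 D6274) F4225 F2317 F1416 (iv4 F1634) (iv3 F2803) D3706
theorem F28487 : act 2 n8682 = n17503 := d15_3 (iv0 D17503) (iv0 F15243) (iv7 F13594)
theorem F28488 : act 1 n8235 = n17503 := d15_0 (iv0 D17503) (iv7 F21597) F21594
theorem F28489 : act 7 n17503 = n16726 := d15_2 F15244 F28488 F27446
theorem F28490 : act 3 n17098 = n17503 := d20_3 F5657 D8000 D17098 (iv1 F28488) F16803 (iv4 F13249) (iv1 F16927) (iv4 F16935) (iv3 F16940) (iv1 D8001)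
def n17504 : Q := act 3 n8232
theorem D17504 : act 3 n8232 = n17504 := rfl
theorem F28491 : act 4 n17504 = n8988 := d5_2 D8232 D17504 F13978 (iv4 F13002) (iv3 D8231)
theorem F28492 : act 6 n17504 = n8919 := d7_2 (iv6 F13010) D17504 (iv3 F13889)
theorem F28493 : act 7 n17504 = n9004 := d8_2 F21597 D17504 (iv3 F21595)
theorem F28494 : act 0 n17504 = n9107 := d20_4 F4158 D3706 D8232 D17504 F14170 D17057 F27986 F21839 (iv3 D12965) (iv1 D6158)
theorem F28495 : act 0 n9104 = n17504 := d20_4 D8235 (iv1 F15244) (iv4 F27452) F27451 (iv3 D17504) (iv4 D8232) (iv1 F12994) (iv4 F13352) F13351 (iv1 F12993)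
def n17505 : Q := act 5 n8232
theorem D17505 : act 5 n8232 = n17505 := rfl
theorem F28496 : act 2 n17505 = n17442 := d2_1 D17505 (iv5 D17442) (iv2 F13009)
theorem F28497 : act 4 n17505 = n17239 := d18_5 (iv1 D6158) F4158 D3706 D8232 D17505 (iv0 D17239) (iv4 D8086) D8085 (iv5 F16972)
def n17506 : Q := act 0 n8233
theorem D17506 : act 0 n8233 = n17506 := rfl
theorem F28498 : act 5 n17506 = n12866 := d17_3 D3706 D8233 D17506 F21359 (iv5 F28101) (iv0 D17152) (iv5 D8037) (iv0 F13347) F4158
theorem F28499 : act 2 n12884 = n17506 := d15_3 (iv0 D17506) F16985 D12884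
theorem F28500 : act 1 n8236 = n17506 := d15_0 (iv0 D17506) (iv7 F21601) F21599
theorem F28501 : act 7 n17506 = n12865 := d15_2 (iv0 F16805) F28500 F21354
theorem F28502 : act 3 n17152 = n17506 := d8_3 F28501 F21355 (iv7 F28104)
def n17507 : Q := act 4 n8233
theorem D17507 : act 4 n8233 = n17507 := rfl
theorem F28503 : act 2 n17507 = n17450 := d1_1 D17507 (iv4 D17450) (iv2 F13011)
def n17508 : Q := act 6 n8233
theorem D17508 : act 6 n8233 = n17508 := rfl
theorem F28504 : act 2 n17508 = n17448 := d3_1 D17508 F28441 (iv2 F13011)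
theorem F28505 : act 5 n17508 = n8370 := d12_1 D17508 (iv6 D8370) (iv5 F13324) (iv6 F13004) D8233
def n17509 : Q := act 5 n8234
theorem D17509 : act 5 n8234 = n17509 := rfl
theorem F28506 : act 2 n17509 = n10458 := d2_1 D17509 (iv5 D10458) (iv2 F16800)
theorem F28507 : act 3 n17509 = n8236 := d6_1 D17509 (iv5 D8236) D8234
theorem F28508 : act 7 n17509 = n17440 := d13_2 (iv7 F13012) D17509 (iv5 D17440)
theorem F28509 : act 0 n17509 = n9170 := d17_2 (iv1 F14286) D17509 (iv5 D9170) F6044 D4131 (iv0 F6956) (iv5 D2034) D2033 D4941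
def n17510 : Q := act 5 n8235
theorem D17510 : act 5 n8235 = n17510 := rfl
theorem F28510 : act 3 n17510 = n8441 := d6_1 D17510 (iv5 D8441) (iv3 F16803)
theorem F28511 : act 7 n17510 = n17442 := d13_2 (iv7 F13013) D17510 (iv5 D17442)
theorem F28512 : act 4 n17510 = n17240 := d20_6 D8007 (iv1 F22123) (iv4 D13312) D13311 F22118 (iv3 F28510) (iv1 D17240) (iv4 D8086) F5670 (iv1 F5658)
def n17511 : Q := act 4 n8236
theorem D17511 : act 4 n8236 = n17511 := rfl
theorem F28513 : act 7 n17511 = n17450 := d11_2 (iv7 F13014) D17511 (iv4 D17450)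
def n17512 : Q := act 3 n8238
theorem D17512 : act 3 n8238 = n17512 := rfl
theorem F28514 : act 5 n17512 = n8973 := d6_2 (iv5 F21352) D17512 F21350
def n17513 : Q := act 4 n8238
theorem D17513 : act 4 n8238 = n17513 := rfl
def n17514 : Q := act 6 n8238
theorem D17514 : act 6 n8238 = n17514 := rfl
def n17515 : Q := act 3 n8239
theorem D17515 : act 3 n8239 = n17515 := rfl
theorem F28516 : act 5 n17515 = n10544 := d6_2 F13427 D17515 F17595
theorem F28517 : act 1 n10833 = n17515 := d17_6 F17449 D4337 (iv1 F17493) (iv5 D4939) D4938 D10833 F28516 (iv0 F17024) F14251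
theorem F28518 : act 0 n10837 = n17515 := d21_1 D10837 F28516 (iv6 D10544) (iv1 F7165) (iv6 D4771) (iv5 F6876) (iv1 F14279) (iv5 D9160) D9161 F14287
def n17516 : Q := act 4 n8239
theorem D17516 : act 4 n8239 = n17516 := rfl
def n17517 : Q := act 6 n8239
theorem D17517 : act 6 n8239 = n17517 := rfl
def n17518 : Q := act 0 n8240
theorem D17518 : act 0 n8240 = n17518 := rfl
def n17519 : Q := act 1 n8240
theorem D17519 : act 1 n8240 = n17519 := rfl
def n17520 : Q := act 3 n8240
theorem D17520 : act 3 n8240 = n17520 := rfl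
theorem F28519 : act 4 n17520 = n8266 := d5_2 D8240 D17520 (iv3 D8266) (iv4 D3718) (iv3 F5711)
def n17521 : Q := act 5 n8240
theorem D17521 : act 5 n8240 = n17521 := rfl
def n17522 : Q := act 7 n8240
theorem D17522 : act 7 n8240 = n17522 := rfl
theorem F28520 : act 4 n17522 = n8241 := d11_1 D17522 (iv7 D8241) D8240
def n17523 : Q := act 6 n8241
theorem D17523 : act 6 n8241 = n17523 := rfl
theorem F28521 : act 3 n17523 = n8267 := d7_1 D17523 (iv6 D8267) (iv3 F13019)
def n17525 : Q := act 1 n8242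
theorem D17525 : act 1 n8242 = n17525 := rfl
theorem F28523 : act 1 n17525 = n8247 := d15_1 D17525 (iv7 D8247) D8242
def n17526 : Q := act 3 n8242
theorem D17526 : act 3 n8242 = n17526 := rfl
theorem F28524 : act 7 n17526 = n8248 := d8_2 F13021 D17526 (iv3 D8248)
def n17527 : Q := act 4 n8242
theorem D17527 : act 4 n8242 = n17527 := rfl
theorem F28525 : act 2 n17527 = n8244 := d1_1 D17527 (iv4 D8244) D8242
theorem F28526 : act 7 n17527 = n8249 := d11_2 F13021 D17527 (iv4 D8249)
def n17528 : Q := act 5 n8242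
theorem D17528 : act 5 n8242 = n17528 := rfl
theorem F28527 : act 2 n17528 = n8245 := d2_1 D17528 (iv5 D8245) D8242
theorem F28528 : act 7 n17528 = n8250 := d13_2 F13021 D17528 (iv5 D8250)
def n17529 : Q := act 6 n8242
theorem D17529 : act 6 n8242 = n17529 := rfl
theorem F28529 : act 2 n17529 = n8246 := d3_1 D17529 (iv6 D8246) D8242
def n17530 : Q := act 0 n8243
theorem D17530 : act 0 n8243 = n17530 := rfl
def n17531 : Q := act 1 n8243
theorem D17531 : act 1 n8243 = n17531 := rfl
def n17532 : Q := act 2 n8243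
theorem D17532 : act 2 n8243 = n17532 := rfl
def n17533 : Q := act 4 n8243
theorem D17533 : act 4 n8243 = n17533 := rfl
def n17534 : Q := act 5 n8243
theorem D17534 : act 5 n8243 = n17534 := rfl
theorem F28530 : act 3 n17534 = n8245 := d6_1 D17534 (iv5 D8245) D8243
def n17535 : Q := act 6 n8243
theorem D17535 : act 6 n8243 = n17535 := rfl
theorem F28531 : act 3 n17535 = n8246 := d7_1 D17535 (iv6 D8246) D8243
def n17536 : Q := act 7 n8243
theorem D17536 : act 7 n8243 = n17536 := rfl
theorem F28532 : act 3 n17536 = n8247 := d8_1 D17536 (iv7 D8247) D8243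
def n17537 : Q := act 0 n8244
theorem D17537 : act 0 n8244 = n17537 := rfl
def n17538 : Q := act 1 n8244
theorem D17538 : act 1 n8244 = n17538 := rfl
def n17539 : Q := act 3 n8244
theorem D17539 : act 3 n8244 = n17539 := rfl
def n17540 : Q := act 5 n8244
theorem D17540 : act 5 n8244 = n17540 := rfl
def n17541 : Q := act 6 n8244
theorem D17541 : act 6 n8244 = n17541 := rfl
theorem F28534 : act 4 n17541 = n8246 := d10_1 D17541 (iv6 D8246) D8244
def n17542 : Q := act 7 n8244
theorem D17542 : act 7 n8244 = n17542 := rfl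
theorem F28535 : act 2 n17542 = n8249 := d4_1 D17542 (iv7 F28526) F28525
theorem F28536 : act 4 n17542 = n8247 := d11_1 D17542 (iv7 D8247) D8244
theorem F28537 : act 1 n8249 = n17537 := d15_0 (iv0 D17537) D17542 F28535
def n17543 : Q := act 0 n8245
theorem D17543 : act 0 n8245 = n17543 := rfl
theorem F28538 : act 5 n17543 = n17112 := d21_2 D8245 D17543 (iv6 D17112) (iv1 D8004) (iv6 D3621) (iv5 D1592) (iv1 F1627) D872 D1626 D3710
def n17544 : Q := act 1 n8245
theorem D17544 : act 1 n8245 = n17544 := rfl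
theorem F28539 : act 1 n17544 = n8250 := d15_1 D17544 (iv7 F28528) F28527
def n17545 : Q := act 4 n8245
theorem D17545 : act 4 n8245 = n17545 := rfl
def n17546 : Q := act 6 n8245
theorem D17546 : act 6 n8245 = n17546 := rfl
def n17547 : Q := act 7 n8245
theorem D17547 : act 7 n8245 = n17547 := rfl
theorem F28540 : act 2 n17547 = n8250 := d4_1 D17547 (iv7 F28528) F28527
theorem F28541 : act 5 n17547 = n8247 := d13_1 D17547 (iv7 D8247) D8245
theorem F28542 : act 1 n8250 = n17543 := d15_0 (iv0 D17543) D17547 F28540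
theorem F28543 : act 6 n17311 = n17547 := d3_0 F28540 (iv6 F13023) D17311
theorem F28544 : act 7 n17546 = n17318 := d14_4 F28250 F28543 (iv7 D17547) D17546 (iv6 D17318)
def n17548 : Q := act 0 n8246
theorem D17548 : act 0 n8246 = n17548 := rfl
def n17549 : Q := act 1 n8246
theorem D17549 : act 1 n8246 = n17549 := rfl
def n17550 : Q := act 7 n8246
theorem D17550 : act 7 n8246 = n17550 := rfl
def n17551 : Q := act 6 n8247
theorem D17551 : act 6 n8247 = n17551 := rfl
theorem F28545 : act 2 n17551 = n8251 := d3_1 D17551 (iv6 D8251) (iv2 F13022)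
def n17552 : Q := act 0 n8248
theorem D17552 : act 0 n8248 = n17552 := rfl
def n17553 : Q := act 1 n8248
theorem D17553 : act 1 n8248 = n17553 := rfl
def n17554 : Q := act 2 n8248
theorem D17554 : act 2 n8248 = n17554 := rfl
def n17555 : Q := act 4 n8248
theorem D17555 : act 4 n8248 = n17555 := rfl
def n17556 : Q := act 5 n8248
theorem D17556 : act 5 n8248 = n17556 := rfl
theorem F28546 : act 3 n17556 = n8250 := d6_1 D17556 (iv5 D8250) D8248
theorem F28547 : act 6 n17312 = n17556 := d7_0 F28546 (iv6 F13023) D17312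
def n17557 : Q := act 6 n8248
theorem D17557 : act 6 n8248 = n17557 := rfl
theorem F28548 : act 3 n17557 = n8251 := d7_1 D17557 (iv6 D8251) D8248
def n17558 : Q := act 3 n8249
theorem D17558 : act 3 n8249 = n17558 := rfl
def n17559 : Q := act 5 n8249
theorem D17559 : act 5 n8249 = n17559 := rfl
def n17560 : Q := act 6 n8249
theorem D17560 : act 6 n8249 = n17560 := rfl
theorem F28549 : act 4 n17560 = n8251 := d10_1 D17560 (iv6 D8251) D8249
def n17561 : Q := act 4 n8250
theorem D17561 : act 4 n8250 = n17561 := rfl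
theorem F28550 : act 6 n17561 = n17313 := d10_2 F13023 D17561 (iv4 D17313)
def n17562 : Q := act 0 n8251
theorem D17562 : act 0 n8251 = n17562 := rfl
theorem F28551 : act 5 n17562 = n8850 := d21_0 (iv1 F13780) (iv5 F12789) (iv6 F13148) (iv1 F13150) D17112 (iv5 F28538) (iv1 F28542) (iv5 D8250) D8251 D17562
def n17563 : Q := act 1 n8251
theorem D17563 : act 1 n8251 = n17563 := rfl
def n17564 : Q := act 5 n8251
theorem D17564 : act 5 n8251 = n17564 := rfl
theorem F28552 : act 6 n17564 = n17314 := d12_2 D8251 D17564 (iv5 D17314) F13023 (iv5 D8250)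
theorem F28553 : act 0 n17132 = n17564 := d21_1 D17132 (iv5 D17564) (iv6 D8251) (iv1 D3711) (iv6 D1626) (iv5 D872) (iv1 F1628) D1595 D3627 D8014
theorem F28554 : act 0 n17564 = n17107 := d21_4 D3652 D8107 D17314 (iv6 F28552) (iv6 D17107) D17106 F28248 (iv5 D17309) (iv6 D8106) (iv1 D3651)
def n17565 : Q := act 7 n8251
theorem D17565 : act 7 n8251 = n17565 := rfl
def n17566 : Q := act 2 n8252
theorem D17566 : act 2 n8252 = n17566 := rfl
theorem F28555 : act 7 n8253 = n17566 := d15_2 (iv0 D8252) D8253 (iv2 D17566)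
def n17567 : Q := act 3 n8252
theorem D17567 : act 3 n8252 = n17567 := rfl
def n17568 : Q := act 4 n8252
theorem D17568 : act 4 n8252 = n17568 := rfl
def n17569 : Q := act 5 n8252
theorem D17569 : act 5 n8252 = n17569 := rfl
def n17570 : Q := act 6 n8252
theorem D17570 : act 6 n8252 = n17570 := rfl
def n17571 : Q := act 7 n8252
theorem D17571 : act 7 n8252 = n17571 := rfl
theorem F28556 : act 2 n17571 = n8253 := d4_1 D17571 F28555 (iv2 D17566)
def n17572 : Q := act 3 n8253
theorem D17572 : act 3 n8253 = n17572 := rfl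
def n17573 : Q := act 4 n8253
theorem D17573 : act 4 n8253 = n17573 := rfl
def n17574 : Q := act 6 n8253
theorem D17574 : act 6 n8253 = n17574 := rfl
def n17575 : Q := act 0 n8254
theorem D17575 : act 0 n8254 = n17575 := rfl
def n17576 : Q := act 1 n8254
theorem D17576 : act 1 n8254 = n17576 := rfl
def n17577 : Q := act 3 n8254
theorem D17577 : act 3 n8254 = n17577 := rfl
theorem F28557 : act 6 n17577 = n8266 := d7_2 (iv6 F13024) D17577 (iv3 D8266)
def n17578 : Q := act 5 n8254
theorem D17578 : act 5 n8254 = n17578 := rfl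
def n17579 : Q := act 7 n8254
theorem D17579 : act 7 n8254 = n17579 := rfl
theorem F28558 : act 4 n17579 = n8255 := d11_1 D17579 (iv7 D8255) D8254
def n17580 : Q := act 6 n8255
theorem D17580 : act 6 n8255 = n17580 := rfl
theorem F28559 : act 7 n17580 = n8267 := d14_2 D8255 D17580 (iv6 D8267) (iv7 D3719) (iv6 F5713)
def n17581 : Q := act 4 n8256
theorem D17581 : act 4 n8256 = n17581 := rfl
theorem F28560 : act 2 n17581 = n9250 := d1_1 D17581 F14441 (iv2 F13867)
theorem F28561 : act 3 n17581 = n9349 := d5_1 D17581 F14563 (iv3 D4940) D4941 (iv3 F13026)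
theorem F28562 : act 7 n17581 = n10244 := d11_2 (iv7 F13864) D17581 F16930
theorem F28563 : act 0 n17581 = n9835 := d20_1 D17581 (iv4 F16320) F16319 F16846 (iv3 D3933) F2870 F2903 F2900 D3714 D8256
theorem F28564 : act 0 n8988 = n17581 := d20_10 (iv4 D17581) F13826 F13823 F5953 (iv1 F7025) (iv3 F13900) (iv4 F16950) (iv1 F16753) F13002 (iv3 F13978)
def n17582 : Q := act 5 n8256
theorem D17582 : act 5 n8256 = n17582 := rfl
theorem F28565 : act 3 n17582 = n10837 := d6_1 D17582 (iv5 D10837) (iv3 F13026)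
def n17583 : Q := act 5 n8257
theorem D17583 : act 5 n8257 = n17583 := rfl
theorem F28566 : act 2 n17583 = n8258 := d2_1 D17583 (iv5 D8258) D8257
theorem F28567 : act 3 n17583 = n17086 := d6_1 D17583 (iv5 D17086) (iv3 F13027)
theorem F28568 : act 7 n17583 = n17347 := d13_2 F13824 D17583 F28280
theorem F28569 : act 1 n17583 = n17118 := d17_6 F17521 D8925 F14530 (iv5 D9333) (iv4 F13028) D17583 (iv5 D17118) F17515 F5677
theorem F28570 : act 0 n17583 = n17337 := d21_1 D17583 (iv5 D17337) F17561 (iv1 D8896) (iv6 D3967) (iv5 F5918) (iv1 F13838) F13840 (iv6 F13861) (iv1 F13862)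
def n17584 : Q := act 0 n8258
theorem D17584 : act 0 n8258 = n17584 := rfl
theorem F28571 : act 5 n17584 = n9572 := d21_2 D8258 D17584 (iv6 F17559) F13826 (iv6 D8865) D8864 F13820 (iv5 F7027) D8010 F12783
theorem F28572 : act 1 n17347 = n17584 := d15_0 (iv0 D17584) F13031 D17347
theorem F28573 : act 2 n17337 = n17584 := d2_3 F28571 F17560 D17337
theorem F28574 : act 7 n17118 = n17584 := d13_0 F28571 F17557 D17118
def n17585 : Q := act 1 n8258
theorem D17585 : act 1 n8258 = n17585 := rfl
theorem F28575 : act 1 n17585 = n17347 := d15_1 D17585 (iv7 F28568) F28566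
theorem F28576 : act 7 n17585 = n17337 := d15_2 (iv0 D17584) D17585 F28573
theorem F28577 : act 5 n17585 = n9155 := d17_7 F17525 D9332 F14524 (iv5 D4221) (iv4 F5714) D8258 D17585 F17518 F12884
theorem F28578 : act 2 n17118 = n17585 := d2_3 F28577 F14271 D17118
def n17586 : Q := act 4 n8258
theorem D17586 : act 4 n8258 = n17586 := rfl
theorem F28579 : act 7 n17586 = n17348 := d11_2 (iv7 F13031) D17586 (iv4 D17348)
def n17587 : Q := act 6 n8258
theorem D17587 : act 6 n8258 = n17587 := rfl
theorem F28580 : act 3 n17587 = n8260 := d7_1 D17587 (iv6 D8260) (iv3 F13030)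
theorem F28581 : act 5 n17587 = n8328 := d12_1 D17587 (iv6 D8328) F5742 (iv6 F5715) D8258
def n17588 : Q := act 3 n8259
theorem D17588 : act 3 n8259 = n17588 := rfl
theorem F28582 : act 7 n17588 = n17350 := d8_2 (iv7 F13033) D17588 (iv3 D17350)
def n17589 : Q := act 6 n8259
theorem D17589 : act 6 n8259 = n17589 := rfl
theorem F28583 : act 2 n17589 = n17115 := d3_1 D17589 F28053 (iv2 F13032)
theorem F28584 : act 4 n17589 = n8260 := d10_1 D17589 (iv6 D8260) D8259
def n17590 : Q := act 0 n8260
theorem D17590 : act 0 n8260 = n17590 := rfl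
def n17591 : Q := act 1 n8260
theorem D17591 : act 1 n8260 = n17591 := rfl
theorem F28585 : act 1 n17591 = n17116 := d15_1 D17591 (iv7 D17116) (iv2 F13035)
theorem F28586 : act 5 n17258 = n17591 := d21_6 (iv5 D877) D875 (iv5 F2780) D3649 D8093 D17258 (iv1 D17591) F13036 (iv6 D3741) (iv1 D1637)
def n17592 : Q := act 7 n8260
theorem D17592 : act 7 n8260 = n17592 := rfl
theorem F28587 : act 2 n17592 = n17116 := d4_1 D17592 (iv7 D17116) (iv2 F13035)
theorem F28588 : act 5 n17592 = n8331 := d13_1 D17592 (iv7 D8331) (iv5 F13036)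
theorem F28589 : act 6 n17592 = n17354 := d14_1 D17592 (iv7 D17354) (iv6 D8125) (iv7 F5717) D8260
theorem F28590 : act 1 n17116 = n17590 := d15_0 (iv0 D17590) D17592 F28587
theorem F28591 : act 1 n17114 = n17592 := d15_1 D17114 (iv7 D17592) F13035
theorem F28592 : act 5 n17307 = n17590 := d21_0 (iv1 F28590) F28054 (iv6 F13135) (iv1 F13137) D17137 (iv5 F28231) F28233 (iv5 D8105) D8106 D17307
theorem F28593 : act 0 n17133 = n13007 := d21_1 (iv5 F28208) (iv5 F28235) (iv6 D17290) D17287 (iv6 F28232) (iv5 D17106) (iv1 F13151) (iv5 F28588) F28589 (iv1 F28290)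
theorem F28594 : act 1 n17592 = n17113 := d15_0 (iv0 D17113) D17116 (iv2 F28587)
def n17593 : Q := act 5 n8263
theorem D17593 : act 5 n8263 = n17593 := rfl
theorem F28595 : act 2 n17593 = n8264 := d2_1 D17593 (iv5 D8264) D8263
theorem F28596 : act 3 n17593 = n17347 := d6_1 D17593 F28280 F13822
theorem F28597 : act 7 n17593 = n17086 := d13_2 (iv7 F13040) D17593 (iv5 D17086)
theorem F28598 : act 0 n17593 = n17083 := d21_1 D17593 (iv5 D17083) (iv6 D7993) (iv1 D3617) D3620 D8002 D17101 F28049 (iv6 F21420) (iv1 F13041)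
theorem F28599 : act 0 n17101 = n17593 := d21_7 (iv5 F13317) (iv1 D7997) (iv5 D3619) D3620 D8000 F21420 (iv5 F28049) (iv5 D17593) F13039 (iv1 F5881)
def n17594 : Q := act 0 n8264
theorem D17594 : act 0 n8264 = n17594 := rfl
theorem F28600 : act 5 n17594 = n12861 := d21_8 D7994 (iv1 F13309) (iv5 D8271) F7210 (iv1 D3721) (iv6 F5721) D8264 D17594 (iv6 D12861) (iv1 F9461)
theorem F28601 : act 1 n17086 = n17594 := d15_0 (iv0 D17594) F13045 (iv2 F28036)
theorem F28602 : act 2 n17083 = n17594 := d2_3 F28600 F21340 D17083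
theorem F28603 : act 7 n17101 = n17594 := d13_0 F28600 (iv7 F21419) (iv5 F28049)
def n17595 : Q := act 1 n8264
theorem D17595 : act 1 n8264 = n17595 := rfl
theorem F28604 : act 1 n17595 = n17086 := d15_1 D17595 (iv7 F28597) F28595
theorem F28605 : act 7 n17595 = n17083 := d15_2 (iv0 D17594) D17595 F28602
theorem F28606 : act 5 n12901 = n17595 := d21_6 D8269 F13315 (iv5 D7994) D7995 (iv1 F13042) (iv6 F27421) (iv1 D17595) (iv5 D8264) F5721 D3720
theorem F28607 : act 2 n17595 = n17101 := d2_1 F28606 F28049 (iv2 F27420)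
def n17596 : Q := act 4 n8264
theorem D17596 : act 4 n8264 = n17596 := rfl
theorem F28608 : act 7 n17596 = n17102 := d11_2 (iv7 F13045) D17596 (iv4 D17102)
def n17597 : Q := act 3 n8265
theorem D17597 : act 3 n8265 = n17597 := rfl
theorem F28609 : act 5 n17597 = n17588 := d6_2 (iv5 F13048) D17597 (iv3 D17588)
theorem F28610 : act 7 n17597 = n17117 := d8_2 (iv7 F13047) D17597 (iv3 D17117)
def n17598 : Q := act 0 n8266
theorem D17598 : act 0 n8266 = n17598 := rfl
def n17599 : Q := act 1 n8266
theorem D17599 : act 1 n8266 = n17599 := rfl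
def n17600 : Q := act 2 n8266
theorem D17600 : act 2 n8266 = n17600 := rfl
def n17601 : Q := act 1 n8267
theorem D17601 : act 1 n8267 = n17601 := rfl
def n17602 : Q := act 6 n8268
theorem D17602 : act 6 n8268 = n17602 := rfl
theorem F28611 : act 2 n17602 = n8553 := d3_1 D17602 (iv6 D8553) (iv2 F13050)
theorem F28613 : act 4 n17602 = n8270 := d10_1 D17602 (iv6 D8270) D8268
theorem F28615 : act 0 n8521 = n17602 := d20_10 F28613 F17602 F13205 F13204 (iv1 F17412) (iv3 F13829) (iv4 F16676) (iv1 F17625) (iv4 D8522) D8521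
def n17603 : Q := act 4 n8269
theorem D17603 : act 4 n8269 = n17603 := rfl
theorem F28616 : act 2 n17603 = n17089 := d1_1 D17603 (iv4 D17089) (iv2 F13313)
theorem F28617 : act 7 n17603 = n17087 := d11_2 F13312 D17603 (iv4 D17087)
def n17604 : Q := act 6 n8269
theorem D17604 : act 6 n8269 = n17604 := rfl
theorem F28618 : act 2 n17604 = n17090 := d3_1 D17604 (iv6 D17090) (iv2 F13313)
theorem F28619 : act 3 n17604 = n13113 := d7_1 D17604 (iv6 D13113) (iv3 F13055)
def n17605 : Q := act 5 n8270
theorem D17605 : act 5 n8270 = n17605 := rfl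
theorem F28622 : act 0 n8419 = n17605 := d21_1 D8419 (iv5 D17605) (iv6 D8270) (iv1 F5880) (iv6 F9464) (iv5 F13126) (iv1 F13130) F13317 (iv6 F17477) (iv1 D8417)
def n17606 : Q := act 4 n8271
theorem D17606 : act 4 n8271 = n17606 := rfl
theorem F28623 : act 2 n17606 = n17087 := d1_1 D17606 (iv4 D17087) F13311
theorem F28624 : act 7 n17606 = n17089 := d11_2 (iv7 F13314) D17606 (iv4 D17089)
def n17607 : Q := act 6 n8271
theorem D17607 : act 6 n8271 = n17607 := rfl
theorem F28625 : act 2 n17607 = n17088 := d3_1 D17607 (iv6 D17088) F13311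
theorem F28626 : act 5 n17607 = n17607 := d12_1 D17607 (iv6 D17607) (iv5 D8271) F7210 D8271
def n17608 : Q := act 1 n8276
theorem D17608 : act 1 n8276 = n17608 := rfl
theorem F28627 : act 1 n17608 = n16703 := d15_1 D17608 F27385 F21737
theorem F28628 : act 7 n17608 = n10832 := d15_2 (iv0 F28060) D17608 (iv2 F28056)
theorem F28629 : act 4 n17139 = n17608 := d20_0 (iv1 D17608) F13096 (iv3 F13270) F28025 F28023 F27447 F21641 F12840 (iv3 F12804) D17139
theorem F28630 : act 3 n9251 = n17608 := d20_3 F5579 D4182 D9251 (iv1 D17608) F13095 (iv4 F13102) F27454 F27452 F12356 F7216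
theorem F28631 : act 2 n17608 = n17139 := d0_1 F28630 F28078 (iv2 F13867) F13026 (iv2 F14442)
def n17609 : Q := act 5 n8276
theorem D17609 : act 5 n8276 = n17609 := rfl
theorem F28632 : act 3 n17609 = n8286 := d6_1 D17609 (iv5 D8286) (iv3 F13095)
theorem F28633 : act 7 n17609 = n17140 := d13_2 F16988 D17609 (iv5 D17140)
def n17610 : Q := act 5 n8277
theorem D17610 : act 5 n8277 = n17610 := rfl
theorem F28634 : act 2 n17610 = n8486 := d2_1 D17610 (iv5 D8486) (iv2 F13097)
theorem F28635 : act 3 n17610 = n8278 := d6_1 D17610 (iv5 D8278) D8277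
theorem F28636 : act 7 n17610 = n8546 := d13_2 (iv7 F13099) D17610 (iv5 D8546)
theorem F28637 : act 0 n17610 = n8606 := d17_2 (iv1 F13101) D17610 F13515 (iv4 F12340) (iv5 F13761) F13760 F12872 F5875 F6451
theorem F28638 : act 1 n17610 = n8619 := d17_6 (iv1 D7804) F7230 (iv1 F28021) (iv5 D8486) (iv4 F13098) D17610 F13532 F13789 F13786
def n17611 : Q := act 6 n8277
theorem D17611 : act 6 n8277 = n17611 := rfl
theorem F28639 : act 2 n17611 = n8487 := d3_1 D17611 (iv6 D8487) (iv2 F13097)
theorem F28640 : act 3 n17611 = n8279 := d7_1 D17611 (iv6 D8279) D8277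
theorem F28641 : act 4 n17611 = n8487 := d10_1 D17611 (iv6 D8487) (iv4 F13098)
theorem F28642 : act 7 n17611 = n17141 := d14_2 (iv7 F13099) D17611 (iv6 D17141) (iv7 F12815) F17002
theorem F28643 : act 0 n17611 = n8679 := d21_4 (iv5 F13532) (iv1 F28638) (iv5 D17610) D17611 F13586 (iv5 F13515) (iv1 F21749) (iv5 D13047) F16998 (iv1 F13789)
theorem F28644 : act 1 n17611 = n17098 := d15_1 (iv0 F28643) F28045 F28022
def n17612 : Q := act 6 n8278
theorem D17612 : act 6 n8278 = n17612 := rfl
def n17613 : Q := act 5 n8279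
theorem D17613 : act 5 n8279 = n17613 := rfl
theorem F28645 : act 7 n17613 = n17144 := d13_2 F17004 D17613 (iv5 D17144)
def n17614 : Q := act 4 n8286
theorem D17614 : act 4 n8286 = n17614 := rfl
theorem F28646 : act 2 n17614 = n17237 := d1_1 D17614 (iv4 D17237) F13361
theorem F28647 : act 7 n17614 = n17153 := d11_2 (iv7 F17010) D17614 (iv4 D17153)
def n17615 : Q := act 6 n8291
theorem D17615 : act 6 n8291 = n17615 := rfl
theorem F28648 : act 3 n17615 = n8481 := d7_1 D17615 (iv6 D8481) (iv3 F13112)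
theorem F28649 : act 5 n17615 = n17155 := d12_1 D17615 (iv6 D17155) (iv5 D8042) F16981 D8291
def n17616 : Q := act 3 n8299
theorem D17616 : act 3 n8299 = n17616 := rfl
def n17617 : Q := act 5 n8299
theorem D17617 : act 5 n8299 = n17617 := rfl
theorem F28651 : act 4 n17617 = n8378 := d16_2 D8299 D17617 (iv5 D8378) (iv4 D3758) (iv5 D1642) (iv4 F2275) D2604 F4187 (iv2 F5736)
def n17618 : Q := act 6 n8299
theorem D17618 : act 6 n8299 = n17618 := rfl
theorem F28652 : act 2 n17618 = n8314 := d3_1 D17618 (iv6 D8314) (iv2 F13115)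
theorem F28653 : act 4 n17618 = n8300 := d10_1 D17618 (iv6 D8300) D8299
def n17619 : Q := act 0 n8300
theorem D17619 : act 0 n8300 = n17619 := rfl
def n17620 : Q := act 1 n8300
theorem D17620 : act 1 n8300 = n17620 := rfl
theorem F28654 : act 1 n17620 = n8317 := d15_1 D17620 (iv7 D8317) (iv2 F13116)
theorem F28655 : act 5 n17208 = n17620 := d21_6 (iv5 D3636) (iv1 D1597) D1599 D3643 D8070 D17208 (iv1 D17620) F13117 (iv6 D8300) (iv1 F13329)
def n17621 : Q := act 7 n8300
theorem D17621 : act 7 n8300 = n17621 := rfl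
theorem F28656 : act 2 n17621 = n8317 := d4_1 D17621 (iv7 D8317) (iv2 F13116)
theorem F28657 : act 5 n17621 = n17621 := d13_1 D17621 (iv7 D17621) F13117
theorem F28658 : act 1 n8317 = n17619 := d15_0 (iv0 D17619) D17621 F28656
theorem F28659 : act 1 n8316 = n17621 := d15_1 D8316 (iv7 D17621) F13116
theorem F28660 : act 1 n17621 = n8315 := d15_0 (iv0 D8315) D8317 (iv2 F28656)
def n17622 : Q := act 6 n8302
theorem D17622 : act 6 n8302 = n17622 := rfl
theorem F28661 : act 3 n17622 = n8305 := d7_1 D17622 (iv6 D8305) D8302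
def n17623 : Q := act 1 n8303
theorem D17623 : act 1 n8303 = n17623 := rfl
theorem F28662 : act 1 n17623 = n8308 := d15_1 D17623 (iv7 F13453) F13458
theorem F28663 : act 7 n17623 = n17145 := d15_2 F13482 D17623 (iv2 F28094)
theorem F28664 : act 4 n17623 = n16747 := d18_7 (iv1 F12348) F12350 (iv1 F12838) (iv4 D6143) (iv5 F13421) D8303 D17623 F27496 F13478
theorem F28665 : act 2 n16748 = n17623 := d1_3 F28664 (iv2 D16747) D16748
def n17624 : Q := act 3 n8303
theorem D17624 : act 3 n8303 = n17624 := rfl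
theorem F28666 : act 4 n17624 = n10611 := d5_2 D8303 D17624 F17134 (iv4 F13277) (iv3 D8302)
theorem F28667 : act 7 n17624 = n8648 := d8_2 (iv7 F13457) D17624 (iv3 F13554)
theorem F28668 : act 0 n17624 = n16768 := d19_4 D2588 (iv5 F13421) D8303 D17624 F27540 F12383 F5576 (iv1 F2726) (iv5 D884) F1068 (iv3 D611) (iv1 F558) F557 F80 (iv3 F60) (iv1 F365) D421 D723 D1212
theorem F28669 : act 5 n8609 = n17624 := d17_1 D8609 F28668 F27540 F12383 F5577 F12287 (iv5 F12290) (iv0 D3866) D3868
theorem F28670 : act 1 n17624 = n16732 := d15_1 (iv0 F28668) F27461 (iv2 F27538)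
theorem F28671 : act 2 n17624 = n8644 := d2_1 F28669 (iv5 D8644) (iv2 F13848)
def n17625 : Q := act 5 n8303
theorem D17625 : act 5 n8303 = n17625 := rfl
theorem F28672 : act 2 n17625 = n17157 := d2_1 D17625 (iv5 D17157) F13458
theorem F28673 : act 3 n17625 = n8609 := d6_1 D17625 F28669 (iv3 D17624)
theorem F28674 : act 7 n17625 = n8647 := d13_2 (iv7 F13457) D17625 F13555
theorem F28675 : act 4 n17625 = n17482 := d16_2 D8303 D17625 F28476 F21617 F13466 (iv4 D6148) F13426 F13425 F13422
def n17626 : Q := act 6 n8303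
theorem D17626 : act 6 n8303 = n17626 := rfl
theorem F28676 : act 2 n17626 = n17158 := d3_1 D17626 (iv6 D17158) F13458
theorem F28677 : act 4 n17626 = n8305 := d10_1 D17626 (iv6 D8305) D8303
def n17627 : Q := act 0 n8305
theorem D17627 : act 0 n8305 = n17627 := rfl
def n17628 : Q := act 1 n8305
theorem D17628 : act 1 n8305 = n17628 := rfl
theorem F28678 : act 1 n17628 = n17161 := d15_1 D17628 (iv7 D17161) (iv2 F13469)
def n17629 : Q := act 7 n8305
theorem D17629 : act 7 n8305 = n17629 := rfl
theorem F28679 : act 2 n17629 = n17161 := d4_1 D17629 (iv7 D17161) (iv2 F13469)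
theorem F28680 : act 6 n17629 = n17150 := d14_1 D17629 (iv7 D17150) (iv6 D8034) F13423 D8305
theorem F28681 : act 1 n17161 = n17627 := d15_0 (iv0 D17627) D17629 F28679
theorem F28682 : act 1 n17160 = n17629 := d15_1 D17160 (iv7 D17629) F13469
theorem F28683 : act 1 n17629 = n17159 := d15_0 (iv0 D17159) D17161 (iv2 F28679)
def n17630 : Q := act 2 n8307
theorem D17630 : act 2 n8307 = n17630 := rfl
theorem F28684 : act 3 n17630 = n10466 := d0_2 D8307 D17630 F16664 F12803 (iv2 F13424)
theorem F28685 : act 5 n17630 = n12795 := d2_2 (iv5 F13428) D17630 (iv2 F21238)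
theorem F28686 : act 7 n17630 = n13095 := d4_2 F13452 D17630 (iv2 F21842)
theorem F28687 : act 1 n17630 = n13098 := d15_0 (iv0 F21853) F13452 D17630
theorem F28688 : act 1 n13089 = n17630 := d15_0 F28687 (iv7 D13098) (iv2 F21816)
theorem F28689 : act 4 n13101 = n17630 := d18_7 (iv1 F13107) F13109 F5998 (iv4 D2618) D2619 D6236 D13101 F28687 F21852
def n17631 : Q := act 4 n8307
theorem D17631 : act 4 n8307 = n17631 := rfl
theorem F28690 : act 2 n17631 = n13101 := d1_1 D17631 F28689 (iv2 D17630)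
theorem F28691 : act 7 n17631 = n13100 := d11_2 F13452 D17631 F21862
theorem F28692 : act 0 n17631 = n12808 := d18_2 (iv1 F21819) D17631 (iv4 D12808) F14013 D6228 F13108 F13109 F9717 D6242
theorem F28693 : act 1 n17631 = n12805 := d18_6 D2555 D6050 D12795 F21236 (iv5 F13428) D17631 (iv4 D12805) (iv0 D6059) (iv5 D2558)
def n17632 : Q := act 6 n8307
theorem D17632 : act 6 n8307 = n17632 := rfl
theorem F28694 : act 3 n17632 = n8310 := d7_1 D17632 (iv6 D8310) D8307
def n17633 : Q := act 3 n8308
theorem D17633 : act 3 n8308 = n17633 := rfl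
theorem F28695 : act 7 n17633 = n17156 := d8_2 F13453 D17633 (iv3 D17156)
def n17634 : Q := act 5 n8308
theorem D17634 : act 5 n8308 = n17634 := rfl
theorem F28696 : act 2 n17634 = n8647 := d2_1 D17634 F13555 F13454
theorem F28697 : act 4 n17634 = n17481 := d9_1 D17634 F28475 F21611 (iv5 D12944) (iv4 D6143) (iv5 F13421) D8303 D17625 F28675 F28476 F21617 F13466 (iv4 D6148) F13426 D8308
theorem F28698 : act 7 n17634 = n17157 := d13_2 F13453 D17634 (iv5 D17157)
def n17635 : Q := act 6 n8308
theorem D17635 : act 6 n8308 = n17635 := rfl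
theorem F28699 : act 2 n17635 = n17146 := d3_1 D17635 (iv6 D17146) F13454
theorem F28700 : act 4 n17635 = n8310 := d10_1 D17635 (iv6 D8310) D8308
def n17636 : Q := act 0 n8310
theorem D17636 : act 0 n8310 = n17636 := rfl
def n17637 : Q := act 1 n8310
theorem D17637 : act 1 n8310 = n17637 := rfl
theorem F28701 : act 1 n17637 = n17150 := d15_1 D17637 (iv7 D17150) F13455
def n17638 : Q := act 5 n8310
theorem D17638 : act 5 n8310 = n17638 := rfl
theorem F28702 : act 2 n17638 = n17149 := d2_1 D17638 (iv5 D17149) F13455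
theorem F28703 : act 6 n17638 = n12947 := d12_2 D8310 D17638 (iv5 D12947) (iv6 D6150) F13426
def n17639 : Q := act 7 n8310
theorem D17639 : act 7 n8310 = n17639 := rfl
theorem F28704 : act 2 n17639 = n17150 := d4_1 D17639 (iv7 D17150) F13455
theorem F28705 : act 6 n17639 = n17161 := d14_1 D17639 (iv7 D17161) (iv6 D8045) (iv7 F13425) D8310
theorem F28706 : act 1 n17150 = n17636 := d15_0 (iv0 D17636) D17639 F28704
theorem F28707 : act 1 n17148 = n17639 := d15_1 D17148 (iv7 D17639) (iv2 F13455)
theorem F28708 : act 1 n17639 = n17147 := d15_0 (iv0 D17147) D17150 (iv2 F28704)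
def n17640 : Q := act 3 n8311
theorem D17640 : act 3 n8311 = n17640 := rfl
def n17641 : Q := act 5 n8311
theorem D17641 : act 5 n8311 = n17641 := rfl
theorem F28709 : act 2 n17641 = n17197 := d2_1 D17641 F28156 F21659
theorem F28710 : act 7 n17641 = n17196 := d13_2 (iv7 F21655) D17641 F28155
theorem F28711 : act 4 n17641 = n17444 := d16_2 (iv4 F13429) D17641 (iv5 D17444) (iv4 D8201) (iv5 D3698) D3697 D8199 (iv7 F13257) (iv2 F13258)
theorem F28712 : act 0 n17641 = n17163 := d17_2 D8311 D17641 (iv5 D17163) (iv4 D8050) (iv5 D3638) F4148 (iv5 F13421) (iv0 D3734) D3736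
theorem F28713 : act 1 n17641 = n12959 := d17_6 F16297 (iv5 F7226) F12102 D8188 (iv4 F13429) D17641 (iv5 D12959) D12958 (iv4 F21553)
def n17642 : Q := act 6 n8311
theorem D17642 : act 6 n8311 = n17642 := rfl
theorem F28714 : act 4 n17642 = n17432 := d10_1 D17642 (iv6 D17432) (iv4 F13429)
def n17643 : Q := act 3 n8312
theorem D17643 : act 3 n8312 = n17643 := rfl
def n17644 : Q := act 5 n8312
theorem D17644 : act 5 n8312 = n17644 := rfl
theorem F28715 : act 2 n17644 = n17196 := d2_1 D17644 F28155 (iv2 F21654)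
theorem F28716 : act 4 n17644 = n17435 := d9_1 D17644 (iv5 D17435) (iv4 D8192) (iv5 D3693) D3692 D8188 (iv4 F13429) D17641 F28711 (iv5 D17444) (iv4 D8201) (iv5 D3698) D3697 D8199 F13120
theorem F28717 : act 7 n17644 = n17197 := d13_2 F21657 D17644 F28156
theorem F28718 : act 0 n17644 = n12959 := d17_2 F21645 D17644 (iv5 D12959) (iv4 D6155) (iv5 D2591) D2589 F13426 F9640 D13010
theorem F28719 : act 1 n17644 = n17163 := d17_6 (iv1 F28428) (iv5 D17430) (iv1 F12966) D8199 F13120 D17644 (iv5 D17163) F21548 F21547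
theorem F28720 : act 3 n12698 = n17644 := d19_19 F28718 (iv5 D12959) (iv4 D6155) F4155 (iv1 F2893) (iv5 D1701) (iv4 D902) F863 F970 F966 F906 F795 F796 D714 D1192 D2553 D6044 F27027 D12698
theorem F28721 : act 5 n17643 = n12698 := d6_0 F28720 (iv5 D17644) D17643
def n17645 : Q := act 6 n8312
theorem D17645 : act 6 n8312 = n17645 := rfl
theorem F28722 : act 4 n17645 = n17441 := d10_1 D17645 (iv6 D17441) F13120
def n17646 : Q := act 4 n8313
theorem D17646 : act 4 n8313 = n17646 := rfl
theorem F28724 : act 5 n17646 = n8363 := d16_3 D3736 D8313 D17646 (iv4 D8363) (iv5 D3754) (iv4 F4181) D6190 F9639 F5736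
def n17647 : Q := act 6 n8313
theorem D17647 : act 6 n8313 = n17647 := rfl
def n17648 : Q := act 0 n8314
theorem D17648 : act 0 n8314 = n17648 := rfl
def n17649 : Q := act 1 n8314
theorem D17649 : act 1 n8314 = n17649 := rfl
def n17650 : Q := act 5 n8314
theorem D17650 : act 5 n8314 = n17650 := rfl
def n17651 : Q := act 7 n8314
theorem D17651 : act 7 n8314 = n17651 := rfl
theorem F28725 : act 4 n17651 = n8317 := d11_1 D17651 (iv7 D8317) (iv4 F13121)
def n17652 : Q := act 2 n8315
theorem D17652 : act 2 n8315 = n17652 := rfl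
theorem F28726 : act 7 n8316 = n17652 := d15_2 (iv0 D8315) D8316 (iv2 D17652)
def n17653 : Q := act 3 n8315
theorem D17653 : act 3 n8315 = n17653 := rfl
def n17654 : Q := act 4 n8315
theorem D17654 : act 4 n8315 = n17654 := rfl
def n17655 : Q := act 5 n8315
theorem D17655 : act 5 n8315 = n17655 := rfl
def n17656 : Q := act 6 n8315
theorem D17656 : act 6 n8315 = n17656 := rfl
def n17657 : Q := act 7 n8315
theorem D17657 : act 7 n8315 = n17657 := rfl
theorem F28727 : act 2 n17657 = n8316 := d4_1 D17657 F28726 (iv2 D17652)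
def n17658 : Q := act 3 n8316
theorem D17658 : act 3 n8316 = n17658 := rfl
def n17659 : Q := act 4 n8316
theorem D17659 : act 4 n8316 = n17659 := rfl
def n17660 : Q := act 5 n8316
theorem D17660 : act 5 n8316 = n17660 := rfl
theorem F28728 : act 6 n17165 = n17660 := d21_5 F13421 (iv1 F4148) D3638 D8051 D17165 (iv5 D17660) (iv1 D8316) F5738 (iv6 D3737) D3734
def n17661 : Q := act 6 n8316
theorem D17661 : act 6 n8316 = n17661 := rfl
def n17662 : Q := act 4 n8320
theorem D17662 : act 4 n8320 = n17662 := rfl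
theorem F28729 : act 2 n17662 = n8321 := d1_1 D17662 (iv4 D8321) D8320
theorem F28730 : act 7 n17662 = n17084 := d11_2 (iv7 F13127) D17662 (iv4 D17084)
theorem F28731 : act 0 n17662 = n16738 := d18_2 (iv1 F13128) D17662 (iv4 D16738) F12364 F6434 F5881 F5730 F5875 F13310
theorem F28732 : act 1 n17662 = n17091 := d18_6 F12813 (iv4 D7988) (iv1 F9466) F9463 (iv5 F13126) D17662 F28038 F21772 F21770
def n17663 : Q := act 6 n8320
theorem D17663 : act 6 n8320 = n17663 := rfl
theorem F28733 : act 2 n17663 = n8322 := d3_1 D17663 (iv6 D8322) D8320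
theorem F28734 : act 3 n17663 = n17122 := d7_1 D17663 (iv6 D17122) (iv3 F13125)
def n17664 : Q := act 0 n8321
theorem D17664 : act 0 n8321 = n17664 := rfl
theorem F28735 : act 4 n17664 = n16737 := d18_3 F13308 D8321 D17664 F27472 (iv4 D8268) (iv0 D3720) F2809 D3721 D8271
theorem F28736 : act 2 n16738 = n17664 := d15_3 (iv0 D17664) (iv0 F13305) (iv7 F27476)
theorem F28737 : act 1 n17084 = n17664 := d15_0 (iv0 D17664) F13131 (iv2 F28033)
theorem F28738 : act 7 n17664 = n17091 := d15_2 (iv0 F28034) F28737 (iv2 F28039)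
def n17665 : Q := act 5 n8321
theorem D17665 : act 5 n8321 = n17665 := rfl
theorem F28739 : act 7 n17665 = n17092 := d13_2 (iv7 F13131) D17665 (iv5 D17092)
def n17666 : Q := act 6 n8321
theorem D17666 : act 6 n8321 = n17666 := rfl
theorem F28740 : act 4 n17666 = n8322 := d10_1 D17666 (iv6 D8322) D8321
def n17667 : Q := act 0 n8322
theorem D17667 : act 0 n8322 = n17667 := rfl
def n17668 : Q := act 1 n8322
theorem D17668 : act 1 n8322 = n17668 := rfl
def n17669 : Q := act 7 n8322
theorem D17669 : act 7 n8322 = n17669 := rfl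
theorem F28741 : act 3 n17669 = n8325 := d8_1 D17669 (iv7 D8325) (iv3 F13132)
theorem F28742 : act 6 n17669 = n17097 := d14_1 D17669 (iv7 D17097) (iv6 D7999) (iv7 F5740) D8322
def n17670 : Q := act 2 n8323
theorem D17670 : act 2 n8323 = n17670 := rfl
theorem F28743 : act 7 n8324 = n17670 := d15_2 (iv0 D8323) D8324 (iv2 D17670)
def n17671 : Q := act 3 n8323
theorem D17671 : act 3 n8323 = n17671 := rfl
def n17672 : Q := act 4 n8323
theorem D17672 : act 4 n8323 = n17672 := rfl
def n17673 : Q := act 5 n8323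
theorem D17673 : act 5 n8323 = n17673 := rfl
def n17674 : Q := act 6 n8323
theorem D17674 : act 6 n8323 = n17674 := rfl
theorem F28744 : act 5 n17674 = n17353 := d21_6 (iv5 D1213) (iv1 F2220) (iv5 F2812) D3739 D8323 D17674 (iv1 D17353) F12891 (iv6 D3973) (iv1 F2934)
def n17675 : Q := act 7 n8323
theorem D17675 : act 7 n8323 = n17675 := rfl
theorem F28745 : act 2 n17675 = n8324 := d4_1 D17675 F28743 (iv2 D17670)
def n17676 : Q := act 3 n8324
theorem D17676 : act 3 n8324 = n17676 := rfl
def n17677 : Q := act 4 n8324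
theorem D17677 : act 4 n8324 = n17677 := rfl
def n17678 : Q := act 5 n8324
theorem D17678 : act 5 n8324 = n17678 := rfl
theorem F28746 : act 6 n17678 = n8329 := d21_3 (iv5 F12789) (iv1 F13133) D17678 (iv1 F13149) (iv6 F13135) (iv5 F13778) (iv1 F13781) D8913 (iv6 F13875) (iv1 F13780)
def n17679 : Q := act 6 n8324
theorem D17679 : act 6 n8324 = n17679 := rfl
def n17680 : Q := act 4 n8326
theorem D17680 : act 4 n8326 = n17680 := rfl
theorem F28747 : act 2 n17680 = n8327 := d1_1 D17680 (iv4 D8327) D8326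
theorem F28748 : act 7 n17680 = n17121 := d11_2 (iv7 F13141) D17680 (iv4 D17121)
theorem F28749 : act 0 n17680 = n13091 := d18_2 (iv1 F13142) D17680 (iv4 D13091) (iv5 D6230) F6414 (iv0 F6412) (iv4 F2927) F3303 D4821
theorem F28750 : act 1 n17680 = n17123 := d18_6 F12246 (iv4 D3976) (iv1 F3058) D4217 (iv5 F13140) D17680 F28069 F16384 F16381
def n17681 : Q := act 6 n8326
theorem D17681 : act 6 n8326 = n17681 := rfl
theorem F28751 : act 2 n17681 = n8328 := d3_1 D17681 (iv6 D8328) D8326
theorem F28752 : act 3 n17681 = n17085 := d7_1 D17681 (iv6 D17085) (iv3 F13139)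
def n17682 : Q := act 5 n8327
theorem D17682 : act 5 n8327 = n17682 := rfl
theorem F28753 : act 7 n17682 = n17124 := d13_2 (iv7 F13144) D17682 (iv5 D17124)
def n17683 : Q := act 6 n8327
theorem D17683 : act 6 n8327 = n17683 := rfl
theorem F28754 : act 4 n17683 = n8328 := d10_1 D17683 (iv6 D8328) D8327
def n17684 : Q := act 0 n8328
theorem D17684 : act 0 n8328 = n17684 := rfl
def n17685 : Q := act 1 n8328
theorem D17685 : act 1 n8328 = n17685 := rfl
def n17686 : Q := act 7 n8328
theorem D17686 : act 7 n8328 = n17686 := rfl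
theorem F28755 : act 3 n17686 = n8331 := d8_1 D17686 (iv7 D8331) (iv3 F13145)
theorem F28756 : act 6 n17686 = n17128 := d14_1 D17686 (iv7 D17128) (iv6 D8013) (iv7 F5743) D8328
def n17687 : Q := act 2 n8329
theorem D17687 : act 2 n8329 = n17687 := rfl
theorem F28757 : act 7 n8330 = n17687 := d15_2 (iv0 D8329) D8330 (iv2 D17687)
def n17688 : Q := act 3 n8329
theorem D17688 : act 3 n8329 = n17688 := rfl
def n17689 : Q := act 4 n8329
theorem D17689 : act 4 n8329 = n17689 := rfl
def n17690 : Q := act 5 n8329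
theorem D17690 : act 5 n8329 = n17690 := rfl
def n17691 : Q := act 7 n8329
theorem D17691 : act 7 n8329 = n17691 := rfl
theorem F28758 : act 2 n17691 = n8330 := d4_1 D17691 F28757 (iv2 D17687)
def n17692 : Q := act 3 n8330
theorem D17692 : act 3 n8330 = n17692 := rfl
def n17693 : Q := act 4 n8330
theorem D17693 : act 4 n8330 = n17693 := rfl
def n17694 : Q := act 5 n8330
theorem D17694 : act 5 n8330 = n17694 := rfl
def n17695 : Q := act 6 n8330
theorem D17695 : act 6 n8330 = n17695 := rfl
def n17698 : Q := act 3 n8332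
theorem D17698 : act 3 n8332 = n17698 := rfl
theorem F28761 : act 7 n17698 = n8338 := d8_2 F13152 D17698 (iv3 D8338)
def n17699 : Q := act 4 n8332
theorem D17699 : act 4 n8332 = n17699 := rfl
theorem F28762 : act 2 n17699 = n8334 := d1_1 D17699 (iv4 D8334) D8332
theorem F28763 : act 7 n17699 = n8339 := d11_2 F13152 D17699 (iv4 D8339)
def n17700 : Q := act 5 n8332
theorem D17700 : act 5 n8332 = n17700 := rfl
theorem F28764 : act 2 n17700 = n8335 := d2_1 D17700 (iv5 D8335) D8332
theorem F28765 : act 7 n17700 = n8340 := d13_2 F13152 D17700 (iv5 D8340)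
def n17701 : Q := act 6 n8332
theorem D17701 : act 6 n8332 = n17701 := rfl
theorem F28766 : act 2 n17701 = n8336 := d3_1 D17701 (iv6 D8336) D8332
theorem F28767 : act 5 n17571 = n17701 := d2_0 F28766 F13153 (iv2 F28556)
theorem F28768 : act 7 n17701 = n17569 := d13_2 D17571 F28767 (iv5 D17569)
def n17702 : Q := act 0 n8333
theorem D17702 : act 0 n8333 = n17702 := rfl
def n17703 : Q := act 1 n8333
theorem D17703 : act 1 n8333 = n17703 := rfl
def n17704 : Q := act 2 n8333
theorem D17704 : act 2 n8333 = n17704 := rfl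
def n17705 : Q := act 4 n8333
theorem D17705 : act 4 n8333 = n17705 := rfl
def n17706 : Q := act 5 n8333
theorem D17706 : act 5 n8333 = n17706 := rfl
theorem F28769 : act 3 n17706 = n8335 := d6_1 D17706 (iv5 D8335) D8333
def n17707 : Q := act 6 n8333
theorem D17707 : act 6 n8333 = n17707 := rfl
theorem F28770 : act 3 n17707 = n8336 := d7_1 D17707 (iv6 D8336) D8333
theorem F28771 : act 5 n17572 = n17707 := d6_0 F28770 F13153 D17572
def n17708 : Q := act 7 n8333
theorem D17708 : act 7 n8333 = n17708 := rfl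
theorem F28772 : act 3 n17708 = n8337 := d8_1 D17708 (iv7 D8337) D8333
def n17709 : Q := act 0 n8334
theorem D17709 : act 0 n8334 = n17709 := rfl
def n17710 : Q := act 1 n8334
theorem D17710 : act 1 n8334 = n17710 := rfl
theorem F28773 : act 1 n17710 = n8339 := d15_1 D17710 (iv7 F28763) F28762
def n17711 : Q := act 3 n8334
theorem D17711 : act 3 n8334 = n17711 := rfl
def n17712 : Q := act 5 n8334
theorem D17712 : act 5 n8334 = n17712 := rfl
def n17713 : Q := act 6 n8334
theorem D17713 : act 6 n8334 = n17713 := rfl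
theorem F28774 : act 4 n17713 = n8336 := d10_1 D17713 (iv6 D8336) D8334
def n17714 : Q := act 7 n8334
theorem D17714 : act 7 n8334 = n17714 := rfl
theorem F28775 : act 2 n17714 = n8339 := d4_1 D17714 (iv7 F28763) F28762
theorem F28776 : act 4 n17714 = n8337 := d11_1 D17714 (iv7 D8337) D8334
theorem F28777 : act 1 n8339 = n17709 := d15_0 (iv0 D17709) D17714 F28775
def n17715 : Q := act 0 n8335
theorem D17715 : act 0 n8335 = n17715 := rfl
theorem F28778 : act 5 n17715 = n8914 := d21_2 D8335 D17715 (iv6 D8914) (iv1 D3971) (iv6 D1720) (iv5 D912) F1110 D877 D1638 D3742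
theorem F28779 : act 6 n17562 = n17715 := d12_0 F28778 (iv6 D8914) D8913 (iv6 F13875) (iv5 F28551)
theorem F28780 : act 0 n17715 = n8340 := d21_10 (iv5 D8340) (iv1 D3743) F2820 (iv6 D1638) D1636 D3739 (iv5 F5886) D8850 (iv5 F28551) F28779
def n17716 : Q := act 1 n8335
theorem D17716 : act 1 n8335 = n17716 := rfl
theorem F28781 : act 1 n17716 = n8340 := d15_1 D17716 (iv7 F28765) F28764
def n17717 : Q := act 4 n8335
theorem D17717 : act 4 n8335 = n17717 := rfl
def n17718 : Q := act 6 n8335
theorem D17718 : act 6 n8335 = n17718 := rfl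
theorem F28782 : act 5 n17718 = n17574 := d12_1 D17718 (iv6 D17574) (iv5 F13153) (iv6 D8336) D8335
theorem F28783 : act 0 n17718 = n17258 := d21_10 F28586 (iv1 D17591) F13036 (iv6 D3741) (iv1 D1637) D1638 F2820 D3742 D8335 D17718
theorem F28784 : act 0 n17111 = n17574 := d21_1 D17111 (iv5 F28782) (iv6 D17718) D17715 (iv6 F28779) F28551 (iv1 F13780) (iv5 F12789) (iv6 F13148) (iv1 F13150)
theorem F28785 : act 0 n17307 = n17718 := d21_1 (iv5 F28592) F28782 (iv6 D17574) (iv1 D8253) F5713 (iv5 D1629) D1627 D3715 D8260 D17590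
theorem F28786 : act 2 n17310 = n17718 := d15_3 (iv0 F28785) (iv0 D17307) D17310
theorem E4024 : n17700 = n13002 := (c3_4 (iv6 F28249) F28786 (iv6 D17718) (iv2 F28764))
theorem E4025 : n17294 = n8335 := (((iv2 F28240)).symm.trans (sb E4024 F28764))
theorem E4026 : n8332 = n6177 := ((((iv5 D13002)).symm.trans (sb E4024 (iv5 D17700)))).symm
theorem E4027 : n17273 = n8340 := (((iv7 F28221)).symm.trans (sb E4024 F28765))
theorem F28787 : act 2 n8335 = n13002 := (sb E4025 F28240)
theorem E4028 : n12999 = n3742 := ((((iv5 D8335)).symm.trans (sb E4025 F28241))).symm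
theorem F28788 : act 7 n8335 = n8101 := (sb E4025 (iv7 D17294))
theorem E4031 : n17698 = n13000 := (((D13000).symm.trans (sb E4026 D17698))).symm
theorem E4032 : n17699 = n13001 := (((D13001).symm.trans (sb E4026 D17699))).symm
theorem E4033 : n17701 = n13003 := (((D13003).symm.trans (sb E4026 D17701))).symm
theorem E4034 : n13004 = n3743 := ((D13004).symm.trans (sb E4026 (iv7 F13152)))
theorem F28789 : act 2 n8340 = n8101 := (sb E4027 F28219)
theorem E4035 : n8097 = n6110 := ((((iv6 F13155)).symm.trans (sb E4027 (iv6 D17273)))).symm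
theorem F28790 : act 7 n8340 = n13002 := (sb E4027 F28221)
theorem F28791 : act 2 n3742 = n6177 := (sb E4028 (iv2 D12999))
theorem E4036 : n8337 = n6178 := ((D8337).symm.trans (sb E4028 (iv7 F21624)))
theorem F28792 : act 7 n13000 = n8338 := (sb E4031 F28761)
theorem F28793 : act 2 n13001 = n8334 := (sb E4032 F28762)
theorem F28794 : act 7 n13001 = n8339 := (sb E4032 F28763)
theorem F28795 : act 2 n13003 = n8336 := (sb E4033 F28766)
theorem E4037 : n17571 = n12982 := (((F21625).symm.trans (sb E4033 (iv5 F28767)))).symm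
theorem F28796 : act 7 n13003 = n17569 := (sb E4033 F28768)
theorem F28797 : act 7 n3743 = n6177 := (sb E4034 (iv7 D13004))
theorem E4038 : n17268 = n3653 := ((((iv1 F9493)).symm.trans (sb E4035 D17268))).symm
theorem E4040 : n12885 = n3650 := ((D12885).symm.trans (sb E4035 (iv2 D8097)))
theorem E4041 : n17270 = n12886 := (((D12886).symm.trans (sb E4035 D17270))).symm
theorem E4042 : n17271 = n12887 := (((D12887).symm.trans (sb E4035 D17271))).symm
theorem E4043 : n17272 = n12888 := (((D12888).symm.trans (sb E4035 D17272))).symm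
theorem E4044 : n12889 = n3651 := ((D12889).symm.trans (sb E4035 (iv7 F12877)))
theorem F28798 : act 2 n6178 = n3743 := (sb E4036 F13154)
theorem E4045 : n17708 = n13005 := (((D13005).symm.trans (sb E4036 (iv3 F28772)))).symm
theorem E4046 : n17714 = n13006 := (((D13006).symm.trans (sb E4036 (iv4 F28776)))).symm
theorem F28799 : act 7 n6178 = n3742 := (sb E4036 (iv7 D8337))
theorem F28800 : act 2 n12982 = n8253 := (sb E4037 F28556)
theorem F28801 : act 7 n12982 = n8252 := (sb E4037 (iv7 D17571))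
theorem E4047 : n8102 = n6111 := ((((iv1 F9488)).symm.trans (sb E4038 (iv1 F28212)))).symm
theorem F28802 : act 2 n3650 = n6110 := (sb E4040 (iv2 D12885))
theorem F28803 : act 7 n12886 = n8103 := (sb E4041 F28214)
theorem F28804 : act 2 n12887 = n8099 := (sb E4042 F28215)
theorem F28805 : act 7 n12887 = n8104 := (sb E4042 F28216)
theorem F28806 : act 2 n12888 = n8100 := (sb E4043 F28217)
theorem F28807 : act 7 n12888 = n8105 := (sb E4043 F28218)
theorem F28808 : act 7 n3651 = n6110 := (sb E4044 (iv7 D12889))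
theorem F28809 : act 7 n13005 = n8333 := (sb E4045 (iv7 D17708))
theorem F28810 : act 2 n13006 = n8339 := (sb E4046 F28775)
theorem F28811 : act 7 n13006 = n8334 := (sb E4046 (iv7 D17714))
theorem F28812 : act 2 n6111 = n3651 := (sb E4047 F12879)
theorem E4048 : n17280 = n12890 := (((D12890).symm.trans (sb E4047 (iv3 F28225)))).symm
theorem E4049 : n17286 = n12891 := (((D12891).symm.trans (sb E4047 (iv4 F28229)))).symm
theorem E4050 : n17291 = n12892 := (((D12892).symm.trans (sb E4047 (iv5 F28237)))).symm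
theorem E4051 : n17295 = n12893 := (((D12893).symm.trans (sb E4047 D17295))).symm
theorem F28813 : act 7 n6111 = n3650 := (sb E4047 (iv7 D8102))
theorem F28814 : act 7 n12890 = n8098 := (sb E4048 (iv7 D17280))
theorem F28815 : act 2 n12891 = n8104 := (sb E4049 F28228)
theorem F28816 : act 7 n12891 = n8099 := (sb E4049 (iv7 D17286))
theorem F28817 : act 2 n12892 = n8105 := (sb E4050 F28236)
theorem F28818 : act 7 n12892 = n8100 := (sb E4050 (iv7 D17291))
theorem F28819 : act 2 n12893 = n8106 := (sb E4051 F28243)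
theorem F28820 : act 7 n17718 = n12893 := d4_2 D17310 F28786 F28819
theorem E4052 : n17308 = n17258 := (c15_1 D17308 (iv0 F28783) F28820 F28819)
theorem F28821 : act 0 n17258 = n8106 := (sb E4052 (iv1 D17308))
theorem F28822 : act 7 n17706 = n17279 := d13_2 F28809 D17706 (iv5 F28224)
theorem E4053 : n17566 = n12981 := (c15_4 (iv0 D12981) D12982 F28801 D17566)
theorem F28823 : act 2 n12981 = n8252 := (sb E4053 (iv2 D17566))
theorem F28824 : act 7 n12981 = n8253 := (sb E4053 (iv7 F28555))
theorem F28825 : act 2 n8341 = n13007 := d3_3 (iv6 D13007) F28798 D8341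
theorem F28826 : act 7 n17285 = n17717 := d11_2 F28788 (iv4 F28227) (iv4 D17717)
def n17719 : Q := act 0 n8336
theorem D17719 : act 0 n8336 = n17719 := rfl
def n17720 : Q := act 1 n8336
theorem D17720 : act 1 n8336 = n17720 := rfl
theorem F28827 : act 1 n17720 = n17569 := d15_1 D17720 (iv7 F28796) F28795
theorem F28828 : act 6 n17132 = n17720 := d21_3 (iv5 F5662) D8014 D17132 (iv1 D17720) (iv6 D8336) D8335 D17715 F28778 (iv6 D8914) (iv1 D3971)
def n17721 : Q := act 7 n8336
theorem D17721 : act 7 n8336 = n17721 := rfl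
theorem F28829 : act 2 n17721 = n17569 := d4_1 D17721 (iv7 F28796) F28795
theorem F28830 : act 5 n17721 = n12981 := d13_1 D17721 F28824 (iv5 F13153)
theorem F28831 : act 1 n17569 = n17719 := d15_0 (iv0 D17719) D17721 F28829
def n17722 : Q := act 0 n8338
theorem D17722 : act 0 n8338 = n17722 := rfl
def n17723 : Q := act 1 n8338
theorem D17723 : act 1 n8338 = n17723 := rfl
def n17724 : Q := act 2 n8338
theorem D17724 : act 2 n8338 = n17724 := rfl
def n17725 : Q := act 4 n8338
theorem D17725 : act 4 n8338 = n17725 := rfl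
def n17726 : Q := act 5 n8338
theorem D17726 : act 5 n8338 = n17726 := rfl
theorem F28832 : act 3 n17726 = n8340 := d6_1 D17726 (iv5 D8340) D8338
theorem F28833 : act 6 n12886 = n17726 := d7_0 F28832 (iv6 F13155) D12886
def n17727 : Q := act 6 n8338
theorem D17727 : act 6 n8338 = n17727 := rfl
theorem F28834 : act 3 n17727 = n8341 := d7_1 D17727 (iv6 D8341) D8338
def n17728 : Q := act 3 n8339
theorem D17728 : act 3 n8339 = n17728 := rfl
def n17729 : Q := act 5 n8339
theorem D17729 : act 5 n8339 = n17729 := rfl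
def n17730 : Q := act 6 n8339
theorem D17730 : act 6 n8339 = n17730 := rfl
theorem F28835 : act 4 n17730 = n8341 := d10_1 D17730 (iv6 D8341) D8339
def n17731 : Q := act 4 n8340
theorem D17731 : act 4 n8340 = n17731 := rfl
theorem F28836 : act 2 n17731 = n17285 := d1_1 D17731 F28227 (iv2 F28789)
theorem F28837 : act 6 n17731 = n12887 := d10_2 F13155 D17731 (iv4 D12887)
def n17732 : Q := act 0 n8341
theorem D17732 : act 0 n8341 = n17732 := rfl
theorem F28838 : act 5 n17732 = n17352 := d21_0 (iv1 F28289) F28210 (iv6 F13779) (iv1 F13781) D8914 (iv5 F28778) F28780 (iv5 D8340) D8341 D17732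
def n17733 : Q := act 1 n8341
theorem D17733 : act 1 n8341 = n17733 := rfl
def n17734 : Q := act 5 n8341
theorem D17734 : act 5 n8341 = n17734 := rfl
theorem F28839 : act 2 n17734 = n17290 := d2_1 D17734 F28235 (iv2 F28825)
theorem F28840 : act 6 n17734 = n12888 := d12_2 D8341 D17734 (iv5 D12888) F13155 (iv5 D8340)
theorem F28841 : act 0 n17257 = n17734 := d21_1 D17257 (iv5 D17734) (iv6 D8341) (iv1 D3743) (iv6 D1638) (iv5 D877) D875 (iv5 F2780) D3649 D8093
theorem F28842 : act 0 n17734 = n17262 := d21_10 (iv5 D17262) (iv1 D8094) D8095 F12875 F5725 (iv6 F9490) (iv5 D6112) D6110 D12888 (iv6 F28840)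
def n17735 : Q := act 7 n8341
theorem D17735 : act 7 n8341 = n17735 := rfl
theorem F28843 : act 6 n17735 = n17569 := d14_1 D17735 (iv7 F28796) (iv6 D13003) (iv7 F28797) D8341
theorem F28844 : act 1 n17133 = n17735 := d15_1 (iv0 F28593) (iv7 D17735) F28825
def n17736 : Q := act 6 n8343
theorem D17736 : act 6 n8343 = n17736 := rfl
theorem F28845 : act 5 n17736 = n17432 := d12_1 D17736 (iv6 D17432) (iv5 D8188) (iv6 F16759) D8343
def n17737 : Q := act 6 n8355
theorem D17737 : act 6 n8355 = n17737 := rfl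
theorem F28846 : act 3 n17737 = n8438 := d7_1 D17737 (iv6 D8438) (iv3 F13170)
def n17738 : Q := act 3 n8363
theorem D17738 : act 3 n8363 = n17738 := rfl
def n17739 : Q := act 6 n8363
theorem D17739 : act 6 n8363 = n17739 := rfl
theorem F28847 : act 2 n17739 = n8379 := d3_1 D17739 (iv6 D8379) (iv2 F13173)
theorem F28848 : act 4 n17739 = n8364 := d10_1 D17739 (iv6 D8364) D8363
def n17740 : Q := act 0 n8364
theorem D17740 : act 0 n8364 = n17740 := rfl
def n17741 : Q := act 1 n8364
theorem D17741 : act 1 n8364 = n17741 := rfl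
theorem F28849 : act 1 n17741 = n8383 := d15_1 D17741 (iv7 D8383) (iv2 F13174)
def n17742 : Q := act 5 n8364
theorem D17742 : act 5 n8364 = n17742 := rfl
theorem F28850 : act 2 n17742 = n8382 := d2_1 D17742 (iv5 D8382) (iv2 F13174)
theorem F28851 : act 6 n17742 = n8365 := d12_2 D8364 D17742 (iv5 D8365) (iv6 D3755) D3754
def n17743 : Q := act 7 n8364
theorem D17743 : act 7 n8364 = n17743 := rfl
theorem F28852 : act 2 n17743 = n8383 := d4_1 D17743 (iv7 D8383) (iv2 F13174)
theorem F28853 : act 1 n8383 = n17740 := d15_0 (iv0 D17740) D17743 F28852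
theorem F28854 : act 1 n8381 = n17743 := d15_1 D8381 (iv7 D17743) F13174
theorem F28855 : act 1 n17743 = n8380 := d15_0 (iv0 D8380) D8383 (iv2 F28852)
def n17744 : Q := act 4 n8365
theorem D17744 : act 4 n8365 = n17744 := rfl
theorem F28856 : act 2 n17744 = n8395 := d1_1 D17744 (iv4 D8395) (iv2 F13175)
theorem F28857 : act 7 n17744 = n17744 := d11_2 F13176 D17744 (iv4 D17744)
def n17745 : Q := act 6 n8367
theorem D17745 : act 6 n8367 = n17745 := rfl
theorem F28858 : act 3 n17745 = n8370 := d7_1 D17745 (iv6 D8370) D8367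
def n17746 : Q := act 0 n8368
theorem D17746 : act 0 n8368 = n17746 := rfl
theorem F28859 : act 4 n17746 = n12807 := d18_3 D3756 D8368 D17746 F21260 (iv4 F13156) (iv0 D8342) (iv4 D3746) (iv0 D1639) D1642
theorem F28860 : act 1 n8373 = n17746 := d15_0 (iv0 D17746) (iv7 F13363) F13368
theorem F28861 : act 2 n17433 = n17746 := d1_3 F28859 F21259 (iv4 F28435)
theorem F28862 : act 7 n13109 = n17746 := d11_0 F28859 F21261 D13109
def n17747 : Q := act 1 n8368
theorem D17747 : act 1 n8368 = n17747 := rfl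
theorem F28863 : act 1 n17747 = n8373 := d15_1 D17747 F13367 F13364
theorem F28864 : act 7 n17747 = n17433 := d15_2 (iv0 D17746) D17747 F28861
theorem F28865 : act 4 n17747 = n8573 := d18_7 F13894 F13891 F12308 (iv4 D6092) F13324 D8368 D17747 (iv0 F21510) (iv5 D12944)
def n17748 : Q := act 3 n8368
theorem D17748 : act 3 n8368 = n17748 := rfl
theorem F28867 : act 7 n17748 = n17434 := d8_2 F13363 D17748 (iv3 D17434)
def n17749 : Q := act 5 n8368
theorem D17749 : act 5 n8368 = n17749 := rfl
theorem F28868 : act 2 n17749 = n17444 := d2_1 D17749 (iv5 D17444) F13364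
theorem F28869 : act 7 n17749 = n17435 := d13_2 F13363 D17749 (iv5 D17435)
theorem F28870 : act 4 n17749 = n17197 := d16_2 D8368 D17749 F28156 (iv4 F21658) F13256 (iv4 D6097) F13320 (iv7 F13321) (iv2 F13322)
def n17750 : Q := act 6 n8368
theorem D17750 : act 6 n8368 = n17750 := rfl
theorem F28871 : act 2 n17750 = n17445 := d3_1 D17750 (iv6 D17445) F13364
theorem F28872 : act 4 n17750 = n8370 := d10_1 D17750 (iv6 D8370) D8368
def n17751 : Q := act 0 n8370
theorem D17751 : act 0 n8370 = n17751 := rfl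
def n17753 : Q := act 7 n8370
theorem D17753 : act 7 n8370 = n17753 := rfl
theorem F28874 : act 2 n17753 = n17449 := d4_1 D17753 (iv7 D17449) F13365
theorem F28875 : act 6 n17753 = n17439 := d14_1 D17753 (iv7 D17439) (iv6 D8193) (iv7 F13323) D8370
theorem F28876 : act 1 n17449 = n17751 := d15_0 (iv0 D17751) D17753 F28874
theorem F28877 : act 1 n17447 = n17753 := d15_1 D17447 (iv7 D17753) (iv2 F13365)
theorem F28878 : act 1 n17753 = n17446 := d15_0 (iv0 D17446) D17449 (iv2 F28874)
def n17754 : Q := act 6 n8372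
theorem D17754 : act 6 n8372 = n17754 := rfl
theorem F28879 : act 2 n17754 = n10472 := d3_1 D17754 (iv6 D10472) (iv2 F13370)
theorem F28880 : act 3 n17754 = n8375 := d7_1 D17754 (iv6 D8375) D8372
theorem F28881 : act 5 n17754 = n10461 := d12_1 D17754 (iv6 D10461) (iv5 D4757) F16738 F13369
def n17755 : Q := act 3 n8373
theorem D17755 : act 3 n8373 = n17755 := rfl
theorem F28882 : act 7 n17755 = n17443 := d8_2 (iv7 F13367) D17755 (iv3 D17443)
def n17756 : Q := act 5 n8373
theorem D17756 : act 5 n8373 = n17756 := rfl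
theorem F28883 : act 2 n17756 = n17435 := d2_1 D17756 (iv5 D17435) F13368
theorem F28884 : act 4 n17756 = n17196 := d9_1 D17756 F28155 F21652 F13478 (iv4 D6092) F13324 D8368 D17749 F28870 F28156 (iv4 F21658) F13256 (iv4 D6097) F13320 D8373
theorem F28885 : act 7 n17756 = n17444 := d13_2 (iv7 F13367) D17756 (iv5 D17444)
def n17757 : Q := act 6 n8373
theorem D17757 : act 6 n8373 = n17757 := rfl
theorem F28886 : act 2 n17757 = n17436 := d3_1 D17757 (iv6 D17436) F13368
theorem F28887 : act 4 n17757 = n8375 := d10_1 D17757 (iv6 D8375) D8373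
def n17758 : Q := act 0 n8375
theorem D17758 : act 0 n8375 = n17758 := rfl
def n17759 : Q := act 1 n8375
theorem D17759 : act 1 n8375 = n17759 := rfl
theorem F28888 : act 1 n17759 = n17439 := d15_1 D17759 (iv7 D17439) (iv2 F13373)
def n17760 : Q := act 7 n8375
theorem D17760 : act 7 n8375 = n17760 := rfl
theorem F28889 : act 2 n17760 = n17439 := d4_1 D17760 (iv7 D17439) (iv2 F13373)
theorem F28890 : act 6 n17760 = n17449 := d14_1 D17760 (iv7 D17449) (iv6 D8202) F13321 D8375
theorem F28891 : act 1 n17439 = n17758 := d15_0 (iv0 D17758) D17760 F28889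
theorem F28892 : act 1 n17438 = n17760 := d15_1 D17438 (iv7 D17760) F13373
theorem F28893 : act 1 n17760 = n17437 := d15_0 (iv0 D17437) D17439 (iv2 F28889)
def n17761 : Q := act 3 n8376
theorem D17761 : act 3 n8376 = n17761 := rfl
def n17762 : Q := act 5 n8376
theorem D17762 : act 5 n8376 = n17762 := rfl
theorem F28894 : act 2 n17762 = n17482 := d2_1 D17762 F28476 (iv2 F21618)
theorem F28896 : act 4 n17762 = n17157 := d16_2 (iv4 F13318) D17762 (iv5 D17157) (iv4 D8044) (iv5 D3636) D3635 D8042 F13468 (iv2 F13467)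
theorem F28897 : act 0 n17762 = n17198 := d17_2 D8376 D17762 F28159 (iv4 D8206) (iv5 D3700) F4092 F13324 (iv0 D3756) D3758
theorem F28898 : act 1 n17762 = n12873 := d17_6 (iv1 F21898) F21895 (iv1 F12724) D8029 (iv4 F13318) D17762 (iv5 D12873) D12872 (iv4 F21375)
def n17763 : Q := act 6 n8376
theorem D17763 : act 6 n8376 = n17763 := rfl
theorem F28899 : act 4 n17763 = n17142 := d10_1 D17763 (iv6 D17142) (iv4 F13318)
def n17764 : Q := act 3 n8377
theorem D17764 : act 3 n8377 = n17764 := rfl
theorem F28900 : act 4 n17764 = n10643 := d5_2 F14045 D17764 (iv3 F21766) (iv4 D13052) F14047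
def n17765 : Q := act 5 n8377
theorem D17765 : act 5 n8377 = n17765 := rfl
theorem F28901 : act 2 n17765 = n17481 := d2_1 D17765 F28475 (iv2 F21613)
theorem F28902 : act 4 n17765 = n8647 := d9_1 D17765 F13555 (iv4 D8033) (iv5 D3631) D3630 D8029 (iv4 F13318) D17762 F28896 (iv5 D17157) (iv4 D8044) (iv5 D3636) D3635 D8042 F14045
theorem F28903 : act 7 n17765 = n17482 := d13_2 F21616 D17765 F28476
theorem F28904 : act 0 n17765 = n12873 := d17_2 F21606 D17765 (iv5 D12873) (iv4 D6104) (iv5 D2571) D2569 F13320 F9612 D12990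
theorem F28905 : act 1 n17765 = n17198 := d17_6 (iv1 F21929) F21928 F12354 D8042 F14045 D17765 F28159 F21373 F21372
def n17766 : Q := act 6 n8377
theorem D17766 : act 6 n8377 = n17766 := rfl
theorem F28906 : act 4 n17766 = n17155 := d10_1 D17766 (iv6 D17155) F14045
def n17768 : Q := act 0 n8379
theorem D17768 : act 0 n8379 = n17768 := rfl
def n17769 : Q := act 1 n8379
theorem D17769 : act 1 n8379 = n17769 := rfl
def n17770 : Q := act 5 n8379
theorem D17770 : act 5 n8379 = n17770 := rfl
def n17771 : Q := act 7 n8379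
theorem D17771 : act 7 n8379 = n17771 := rfl
theorem F28907 : act 4 n17771 = n8383 := d11_1 D17771 (iv7 D8383) (iv4 F13179)
def n17772 : Q := act 2 n8380
theorem D17772 : act 2 n8380 = n17772 := rfl
theorem F28908 : act 7 n8381 = n17772 := d15_2 (iv0 D8380) D8381 (iv2 D17772)
def n17773 : Q := act 3 n8380
theorem D17773 : act 3 n8380 = n17773 := rfl
def n17774 : Q := act 4 n8380
theorem D17774 : act 4 n8380 = n17774 := rfl
def n17775 : Q := act 5 n8380
theorem D17775 : act 5 n8380 = n17775 := rfl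
def n17776 : Q := act 6 n8380
theorem D17776 : act 6 n8380 = n17776 := rfl
def n17777 : Q := act 7 n8380
theorem D17777 : act 7 n8380 = n17777 := rfl
theorem F28909 : act 2 n17777 = n8381 := d4_1 D17777 F28908 (iv2 D17772)
def n17778 : Q := act 3 n8381
theorem D17778 : act 3 n8381 = n17778 := rfl
def n17779 : Q := act 4 n8381
theorem D17779 : act 4 n8381 = n17779 := rfl
def n17780 : Q := act 5 n8381
theorem D17780 : act 5 n8381 = n17780 := rfl
def n17781 : Q := act 6 n8381
theorem D17781 : act 6 n8381 = n17781 := rfl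
def n17782 : Q := act 0 n8382
theorem D17782 : act 0 n8382 = n17782 := rfl
def n17783 : Q := act 1 n8382
theorem D17783 : act 1 n8382 = n17783 := rfl
def n17784 : Q := act 4 n8382
theorem D17784 : act 4 n8382 = n17784 := rfl
theorem F28910 : act 6 n17784 = n8395 := d10_2 (iv6 F13181) D17784 (iv4 D8395)
def n17785 : Q := act 7 n8382
theorem D17785 : act 7 n8382 = n17785 := rfl
theorem F28911 : act 3 n17785 = n8409 := d8_1 D17785 (iv7 D8409) (iv3 F13180)
theorem F28912 : act 5 n17785 = n8383 := d13_1 D17785 (iv7 D8383) D8382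
theorem F28913 : act 6 n17785 = n17785 := d14_1 D17785 (iv7 D17785) F13181 F5756 (iv6 F13181)
def n17786 : Q := act 5 n8385
theorem D17786 : act 5 n8385 = n17786 := rfl
theorem F28915 : act 1 n17786 = n8580 := d17_6 (iv1 D3761) D3762 (iv1 F16908) (iv5 D8386) D8385 D17786 (iv5 D8580) (iv0 F17604) (iv4 D8390)
def n17787 : Q := act 4 n8386
theorem D17787 : act 4 n8386 = n17787 := rfl
def n17788 : Q := act 6 n8386
theorem D17788 : act 6 n8386 = n17788 := rfl
def n17789 : Q := act 5 n8390
theorem D17789 : act 5 n8390 = n17789 := rfl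
theorem F28917 : act 2 n17789 = n17786 := d2_1 D17789 (iv5 D17786) F15762
theorem F28918 : act 3 n17789 = n10315 := d6_1 D17789 (iv5 D10315) (iv3 F13185)
theorem F28920 : act 0 n17789 = n8580 := d21_1 D17789 (iv5 D8580) (iv6 D3848) F5823 F16759 D8188 (iv1 F13419) (iv5 D8571) D8572 (iv1 F17605)
def n17790 : Q := act 4 n8391
theorem D17790 : act 4 n8391 = n17790 := rfl
theorem F28921 : act 2 n17790 = n17787 := d1_1 D17790 (iv4 D17787) F15763
theorem F28922 : act 7 n17790 = n17790 := d11_2 F15755 D17790 (iv4 D17790)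
def n17791 : Q := act 6 n8391
theorem D17791 : act 6 n8391 = n17791 := rfl
theorem F28923 : act 2 n17791 = n17788 := d3_1 D17791 (iv6 D17788) F15763
theorem F28924 : act 5 n17791 = n17517 := d12_1 D17791 (iv6 D17517) (iv5 F13427) (iv6 D8392) D8391
def n17792 : Q := act 0 n8395
theorem D17792 : act 0 n8395 = n17792 := rfl
def n17793 : Q := act 1 n8395
theorem D17793 : act 1 n8395 = n17793 := rfl
theorem F28926 : act 1 n17793 = n17744 := d15_1 D17793 F28857 F28856
def n17794 : Q := act 3 n8395
theorem D17794 : act 3 n8395 = n17794 := rfl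
theorem F28927 : act 4 n17794 = n8424 := d5_2 D8395 D17794 (iv3 D8424) (iv4 D3771) (iv3 F5755)
def n17795 : Q := act 5 n8395
theorem D17795 : act 5 n8395 = n17795 := rfl
def n17797 : Q := act 1 n8396
theorem D17797 : act 1 n8396 = n17797 := rfl
theorem F28931 : act 1 n17797 = n8401 := d15_1 D17797 (iv7 D8401) D8396
def n17798 : Q := act 3 n8396
theorem D17798 : act 3 n8396 = n17798 := rfl
theorem F28932 : act 7 n17798 = n8402 := d8_2 F13189 D17798 (iv3 D8402)
def n17799 : Q := act 4 n8396
theorem D17799 : act 4 n8396 = n17799 := rfl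
theorem F28933 : act 2 n17799 = n8398 := d1_1 D17799 (iv4 D8398) D8396
theorem F28934 : act 7 n17799 = n8403 := d11_2 F13189 D17799 (iv4 D8403)
def n17800 : Q := act 5 n8396
theorem D17800 : act 5 n8396 = n17800 := rfl
theorem F28935 : act 2 n17800 = n8399 := d2_1 D17800 (iv5 D8399) D8396
theorem F28936 : act 7 n17800 = n8404 := d13_2 F13189 D17800 (iv5 D8404)
def n17801 : Q := act 6 n8396
theorem D17801 : act 6 n8396 = n17801 := rfl
theorem F28937 : act 2 n17801 = n8400 := d3_1 D17801 (iv6 D8400) D8396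
theorem F28938 : act 5 n17315 = n17801 := d2_0 F28937 F13190 (iv2 F28251)
theorem F28939 : act 7 n17801 = n17314 := d13_2 D17315 F28938 (iv5 D17314)
theorem F28940 : act 7 n17564 = n8405 := d14_2 F28939 (iv6 F28552) (iv6 D8405) F13189 D17801
theorem F28941 : act 5 n8405 = n17565 := d13_1 F28940 (iv7 D17565) D17564
theorem F28942 : act 0 n8908 = n17565 := d21_1 D8908 (iv5 F28941) (iv6 D8405) (iv1 D3764) (iv6 D1644) (iv5 D879) F1070 D912 D1720 D3970
def n17802 : Q := act 0 n8397
theorem D17802 : act 0 n8397 = n17802 := rfl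
def n17803 : Q := act 1 n8397
theorem D17803 : act 1 n8397 = n17803 := rfl
def n17804 : Q := act 2 n8397
theorem D17804 : act 2 n8397 = n17804 := rfl
def n17805 : Q := act 4 n8397
theorem D17805 : act 4 n8397 = n17805 := rfl
def n17806 : Q := act 5 n8397
theorem D17806 : act 5 n8397 = n17806 := rfl
theorem F28943 : act 3 n17806 = n8399 := d6_1 D17806 (iv5 D8399) D8397
def n17807 : Q := act 6 n8397
theorem D17807 : act 6 n8397 = n17807 := rfl
theorem F28944 : act 3 n17807 = n8400 := d7_1 D17807 (iv6 D8400) D8397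
theorem F28945 : act 5 n17316 = n17807 := d6_0 F28944 F13190 D17316
def n17808 : Q := act 7 n8397
theorem D17808 : act 7 n8397 = n17808 := rfl
theorem F28946 : act 3 n17808 = n8401 := d8_1 D17808 (iv7 D8401) D8397
def n17809 : Q := act 0 n8398
theorem D17809 : act 0 n8398 = n17809 := rfl
def n17810 : Q := act 1 n8398
theorem D17810 : act 1 n8398 = n17810 := rfl
def n17811 : Q := act 3 n8398
theorem D17811 : act 3 n8398 = n17811 := rfl
def n17812 : Q := act 5 n8398
theorem D17812 : act 5 n8398 = n17812 := rfl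
def n17813 : Q := act 6 n8398
theorem D17813 : act 6 n8398 = n17813 := rfl
theorem F28948 : act 4 n17813 = n8400 := d10_1 D17813 (iv6 D8400) D8398
def n17814 : Q := act 7 n8398
theorem D17814 : act 7 n8398 = n17814 := rfl
theorem F28949 : act 2 n17814 = n8403 := d4_1 D17814 (iv7 F28934) F28933
theorem F28950 : act 4 n17814 = n8401 := d11_1 D17814 (iv7 D8401) D8398
theorem F28951 : act 1 n8403 = n17809 := d15_0 (iv0 D17809) D17814 F28949
def n17815 : Q := act 0 n8399
theorem D17815 : act 0 n8399 = n17815 := rfl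
theorem F28952 : act 5 n17815 = n16414 := d17_3 D3763 D8399 D17815 F25899 D16419 (iv0 F25901) (iv5 D15986) (iv0 D7480) F5408
theorem E4054 : n16391 = n3649 := (c21_5 D8399 D17815 F28952 (iv6 D16414) (iv1 F25885) (iv6 D3649) F2780 (iv1 F1637) D879 D1644 D3763)
theorem E4055 : n8093 = n7606 := ((D8093).symm.trans (sb E4054 (iv1 D16391)))
theorem E4056 : n8094 = n7611 := ((D8094).symm.trans (sb E4054 F25885))
theorem E4057 : n16390 = n8915 := ((D16390).symm.trans (sb E4055 (iv1 F13879)))
theorem F28953 : act 1 n7606 = n3649 := (sb E4055 (iv0 D8093))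
theorem E4061 : n17257 = n16393 := (((D16393).symm.trans (sb E4055 D17257))).symm
theorem E4062 : n17258 = n16394 := (((D16394).symm.trans (sb E4055 D17258))).symm
theorem F28954 : act 0 n7611 = n3649 := (sb E4056 (iv1 D8094))
theorem E4066 : n17262 = n16413 := (((D16413).symm.trans (sb E4056 D17262))).symm
theorem F28955 : act 0 n8915 = n7611 := (sb E4057 (iv1 F25889))
theorem F28956 : act 1 n8915 = n7606 := (sb E4057 (iv0 D16390))
theorem F28957 : act 0 n16393 = n17734 := (sb E4061 F28841)
theorem F28958 : act 0 n16394 = n8106 := (sb E4062 F28821)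
theorem F28959 : act 1 n16394 = n17718 := (sb E4062 (iv0 F28783))
theorem F28960 : act 5 n16394 = n17591 := (sb E4062 F28586)
theorem F28961 : act 1 n16413 = n17734 := (sb E4066 (iv0 F28842))
theorem E4068 : n17689 = n12792 := (c17_10 (iv1 F21233) (iv5 F27133) (iv1 F27134) (iv5 D16403) (iv4 F25886) F28960 F28585 F28054 F13149 D17689)
theorem F28962 : act 4 n12792 = n8329 := (sb E4068 (iv4 D17689))
theorem F28963 : act 4 n15233 = n17133 := d17_4 (iv1 F9362) (iv5 F20714) (iv1 F20716) D15233 F28208 F28290 F28288 F28956 (iv4 D7606)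
theorem E4069 : n17131 = n7842 := (c10_4 F24829 F28963 (iv6 D17133) D17131)
theorem E4070 : n16798 = n8014 := ((D16798).symm.trans (sb E4069 (iv4 D17131)))
theorem F28964 : act 4 n8014 = n7842 := (sb E4070 (iv4 D16798))
theorem F28966 : act 4 n16800 = n17134 := d11_3 (iv7 D17134) F28964 D16800
theorem E4071 : n8763 = n3970 := (c18_8 D8014 F28964 (iv1 F21288) F21284 F9426 (iv4 F9807) F9811 D8763 (iv0 D3970) (iv5 F5662))
theorem E4072 : n8907 = n3915 := ((D8907).symm.trans (sb E4071 (iv4 D8763)))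
theorem F28967 : act 4 n3915 = n3970 := (sb E4072 (iv4 D8907))
theorem F28968 : act 4 n8905 = n8761 := d1_2 F28967 D8905 (iv2 D8761)
theorem F28969 : act 4 n8909 = n8765 := d10_3 (iv6 D8765) F28967 D8909
theorem F28970 : act 4 n8910 = n8766 := d11_3 (iv7 D8766) F28967 D8910
theorem F28971 : act 4 n17107 = n16671 := d17_4 (iv1 F13782) F13778 (iv1 F13137) (iv5 F28051) F27296 F22068 F22066 F9811 F28967
theorem E4073 : n16669 = n8003 := (c10_4 D17107 F28971 (iv6 D16671) D16669)
theorem E4074 : n17105 = n7754 := ((D17105).symm.trans (sb E4073 (iv4 D16669)))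
theorem F28972 : act 4 n7754 = n8003 := (sb E4074 (iv4 D17105))
theorem F28974 : act 4 n17108 = n16672 := d11_3 (iv7 D16672) F28972 D17108
theorem E4075 : n16674 = n8004 := (c1_3 F28974 F27297 D16674 (iv2 F28052))
theorem E4076 : n17110 = n7755 := ((D17110).symm.trans (sb E4075 (iv4 D16674)))
theorem F28975 : act 4 n7755 = n8004 := (sb E4076 (iv4 D17110))
theorem F28976 : act 4 n17112 = n16676 := d10_3 (iv6 D16676) F28975 D17112
theorem E4077 : n8768 = n3971 := (c1_3 F28970 F13648 D8768 (iv2 F13874))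
theorem E4078 : n8912 = n3916 := ((D8912).symm.trans (sb E4077 (iv4 D8768)))
theorem F28977 : act 4 n3916 = n3971 := (sb E4078 (iv4 D8912))
theorem F28978 : act 4 n8914 = n8770 := d10_3 (iv6 D8770) F28977 D8914
theorem E4079 : n17136 = n7843 := (c18_2 (iv1 F13137) D17136 (iv1 D7843) F5582 F2724 (iv4 F2869) D3916 F28977 F13781 F13778)
theorem E4080 : n16802 = n8015 := ((D16802).symm.trans (sb E4079 (iv4 D17136)))
theorem F28979 : act 4 n8015 = n7843 := (sb E4080 (iv4 D16802))
theorem F28980 : act 4 n16804 = n17137 := d10_3 (iv6 D17137) F28979 D16804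
theorem F28981 : act 1 n13574 = n15232 := d18_6 (iv1 F9361) D7611 F28954 F5673 (iv5 F10529) (iv4 F22738) (iv4 D15232) F20716 F20714
def n17816 : Q := act 1 n8399
theorem D17816 : act 1 n8399 = n17816 := rfl
theorem F28982 : act 1 n17816 = n8404 := d15_1 D17816 (iv7 F28936) F28935
def n17817 : Q := act 4 n8399
theorem D17817 : act 4 n8399 = n17817 := rfl
def n17818 : Q := act 6 n8399
theorem D17818 : act 6 n8399 = n17818 := rfl
theorem F28983 : act 5 n17818 = n17318 := d12_1 D17818 (iv6 D17318) (iv5 F13190) (iv6 D8400) D8399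
def n17819 : Q := act 7 n8399
theorem D17819 : act 7 n8399 = n17819 := rfl
theorem F28984 : act 2 n17819 = n8404 := d4_1 D17819 (iv7 F28936) F28935
theorem F28985 : act 5 n17819 = n8401 := d13_1 D17819 (iv7 D8401) D8399
theorem F28986 : act 1 n8404 = n17815 := d15_0 (iv0 D17815) D17819 F28984
theorem F28987 : act 0 n8405 = n17673 := d21_10 (iv5 D17673) (iv1 F13136) F12789 D8915 F28955 D16414 (iv5 F28952) (iv1 F28986) (iv5 D8404) D8405
def n17820 : Q := act 0 n8400
theorem D17820 : act 0 n8400 = n17820 := rfl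
def n17821 : Q := act 1 n8400
theorem D17821 : act 1 n8400 = n17821 := rfl
theorem F28988 : act 1 n17821 = n17314 := d15_1 D17821 (iv7 F28939) F28937
def n17822 : Q := act 7 n8400
theorem D17822 : act 7 n8400 = n17822 := rfl
theorem F28989 : act 2 n17822 = n17314 := d4_1 D17822 (iv7 F28939) F28937
theorem F28990 : act 5 n17822 = n17311 := d13_1 D17822 (iv7 F28250) (iv5 F13190)
theorem F28991 : act 1 n17314 = n17820 := d15_0 (iv0 D17820) D17822 F28989
def n17823 : Q := act 6 n8401
theorem D17823 : act 6 n8401 = n17823 := rfl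
theorem F28992 : act 2 n17823 = n8405 := d3_1 D17823 (iv6 D8405) (iv2 F13191)
theorem F28993 : act 1 n17823 = n17107 := d15_0 (iv0 F28554) F28940 (iv2 F28992)
def n17824 : Q := act 0 n8402
theorem D17824 : act 0 n8402 = n17824 := rfl
def n17825 : Q := act 1 n8402
theorem D17825 : act 1 n8402 = n17825 := rfl
def n17826 : Q := act 2 n8402
theorem D17826 : act 2 n8402 = n17826 := rfl
def n17827 : Q := act 4 n8402
theorem D17827 : act 4 n8402 = n17827 := rfl
def n17828 : Q := act 5 n8402
theorem D17828 : act 5 n8402 = n17828 := rfl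
theorem F28994 : act 3 n17828 = n8404 := d6_1 D17828 (iv5 D8404) D8402
def n17829 : Q := act 6 n8402
theorem D17829 : act 6 n8402 = n17829 := rfl
theorem F28995 : act 3 n17829 = n8405 := d7_1 D17829 (iv6 D8405) D8402
def n17830 : Q := act 3 n8403
theorem D17830 : act 3 n8403 = n17830 := rfl
def n17831 : Q := act 5 n8403
theorem D17831 : act 5 n8403 = n17831 := rfl
def n17832 : Q := act 6 n8403
theorem D17832 : act 6 n8403 = n17832 := rfl
theorem F28996 : act 4 n17832 = n8405 := d10_1 D17832 (iv6 D8405) D8403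
def n17833 : Q := act 4 n8404
theorem D17833 : act 4 n8404 = n17833 := rfl
def n17834 : Q := act 1 n8405
theorem D17834 : act 1 n8405 = n17834 := rfl
def n17835 : Q := act 2 n8406
theorem D17835 : act 2 n8406 = n17835 := rfl
theorem F28997 : act 7 n8407 = n17835 := d15_2 (iv0 D8406) D8407 (iv2 D17835)
def n17836 : Q := act 3 n8406
theorem D17836 : act 3 n8406 = n17836 := rfl
def n17837 : Q := act 4 n8406
theorem D17837 : act 4 n8406 = n17837 := rfl
def n17838 : Q := act 5 n8406
theorem D17838 : act 5 n8406 = n17838 := rfl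
def n17839 : Q := act 7 n8406
theorem D17839 : act 7 n8406 = n17839 := rfl
theorem F28998 : act 2 n17839 = n8407 := d4_1 D17839 F28997 (iv2 D17835)
def n17840 : Q := act 3 n8407
theorem D17840 : act 3 n8407 = n17840 := rfl
def n17841 : Q := act 4 n8407
theorem D17841 : act 4 n8407 = n17841 := rfl
def n17842 : Q := act 6 n8407
theorem D17842 : act 6 n8407 = n17842 := rfl
def n17843 : Q := act 0 n8408
theorem D17843 : act 0 n8408 = n17843 := rfl
def n17844 : Q := act 1 n8408
theorem D17844 : act 1 n8408 = n17844 := rfl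
def n17846 : Q := act 5 n8408
theorem D17846 : act 5 n8408 = n17846 := rfl
def n17847 : Q := act 7 n8408
theorem D17847 : act 7 n8408 = n17847 := rfl
theorem F29000 : act 4 n17847 = n8409 := d11_1 D17847 (iv7 D8409) D8408
def n17848 : Q := act 5 n8412
theorem D17848 : act 5 n8412 = n17848 := rfl
theorem F29002 : act 2 n17848 = n8413 := d2_1 D17848 (iv5 D8413) D8412
theorem F29004 : act 1 n17848 = n10533 := d17_6 F17464 D9019 (iv1 F14127) (iv5 D9052) (iv4 F17480) D17848 (iv5 D10533) (iv0 F17405) F5758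
theorem F29005 : act 0 n17848 = n8874 := d21_1 D17848 (iv5 D8874) (iv6 D3960) (iv1 D1715) (iv6 F2775) D3626 (iv1 F7022) (iv5 D4821) D4822 (iv1 F17404)
def n17849 : Q := act 4 n8413
theorem D17849 : act 4 n8413 = n17849 := rfl
theorem F29006 : act 7 n17849 = n17849 := d11_2 F13200 D17849 (iv4 D17849)
def n17850 : Q := act 6 n8413
theorem D17850 : act 6 n8413 = n17850 := rfl
theorem F29007 : act 3 n17850 = n8415 := d7_1 D17850 (iv6 D8415) (iv3 F13199)
def n17851 : Q := act 3 n8414
theorem D17851 : act 3 n8414 = n17851 := rfl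
theorem F29008 : act 7 n17851 = n17851 := d8_2 F13201 D17851 (iv3 D17851)
def n17852 : Q := act 6 n8414
theorem D17852 : act 6 n8414 = n17852 := rfl
theorem F29009 : act 4 n17852 = n8415 := d10_1 D17852 (iv6 D8415) D8414
def n17853 : Q := act 0 n8415
theorem D17853 : act 0 n8415 = n17853 := rfl
def n17854 : Q := act 1 n8415
theorem D17854 : act 1 n8415 = n17854 := rfl
def n17855 : Q := act 7 n8415
theorem D17855 : act 7 n8415 = n17855 := rfl
def n17856 : Q := act 5 n8417
theorem D17856 : act 5 n8417 = n17856 := rfl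
theorem F29013 : act 0 n17856 = n8419 := d21_1 D17856 (iv5 D8419) F5764 D8111 (iv6 F21420) D17099 F28265 (iv5 D17327) (iv6 F13206) (iv1 F13209)
def n17857 : Q := act 5 n8418
theorem D17857 : act 5 n8418 = n17857 := rfl
theorem F29014 : act 2 n17857 = n8419 := d2_1 D17857 (iv5 D8419) D8418
theorem F29015 : act 3 n17857 = n17848 := d6_1 D17857 (iv5 D17848) (iv3 F13204)
theorem F29016 : act 7 n17857 = n17857 := d13_2 F13207 D17857 (iv5 D17857)
theorem F29017 : act 0 n17857 = n17856 := d21_1 D17857 (iv5 D17856) F17477 (iv1 D3940) (iv6 F4090) (iv5 F5739) (iv1 F13316) (iv5 D8269) D8270 F17602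
theorem F29018 : act 0 n17605 = n17857 := d21_1 D17605 (iv5 D17857) F13206 (iv1 F21417) F27421 F28268 (iv1 D17328) (iv5 D8114) (iv6 F5764) (iv1 F17603)
def n17858 : Q := act 4 n8419
theorem D17858 : act 4 n8419 = n17858 := rfl
theorem F29019 : act 7 n17858 = n17858 := d11_2 F13211 D17858 (iv4 D17858)
def n17859 : Q := act 6 n8419
theorem D17859 : act 6 n8419 = n17859 := rfl
theorem F29020 : act 3 n17859 = n8421 := d7_1 D17859 (iv6 D8421) (iv3 F13210)
theorem F29021 : act 5 n17859 = n17330 := d12_1 D17859 (iv6 D17330) (iv5 D8114) (iv6 F5764) D8419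
def n17860 : Q := act 3 n8420
theorem D17860 : act 3 n8420 = n17860 := rfl
theorem F29022 : act 5 n17860 = n17851 := d6_2 (iv5 F13214) D17860 (iv3 D17851)
theorem F29023 : act 7 n17860 = n17860 := d8_2 F13213 D17860 (iv3 D17860)
def n17861 : Q := act 6 n8420
theorem D17861 : act 6 n8420 = n17861 := rfl
theorem F29024 : act 2 n17861 = n17852 := d3_1 D17861 (iv6 D17852) (iv2 F13212)
theorem F29025 : act 4 n17861 = n8421 := d10_1 D17861 (iv6 D8421) D8420
def n17862 : Q := act 0 n8421
theorem D17862 : act 0 n8421 = n17862 := rfl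
def n17863 : Q := act 1 n8421
theorem D17863 : act 1 n8421 = n17863 := rfl
theorem F29026 : act 1 n17863 = n17855 := d15_1 D17863 (iv7 D17855) (iv2 F13217)
def n17864 : Q := act 7 n8421
theorem D17864 : act 7 n8421 = n17864 := rfl
theorem F29027 : act 2 n17864 = n17855 := d4_1 D17864 (iv7 D17855) (iv2 F13217)
theorem F29028 : act 5 n17864 = n17335 := d13_1 D17864 (iv7 D17335) (iv5 F13218)
theorem F29030 : act 1 n17855 = n17862 := d15_0 (iv0 D17862) D17864 F29027
theorem F29031 : act 1 n17854 = n17864 := d15_1 D17854 (iv7 D17864) F13217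
theorem F29032 : act 1 n17864 = n17853 := d15_0 (iv0 D17853) D17855 (iv2 F29027)
def n17865 : Q := act 3 n8422
theorem D17865 : act 3 n8422 = n17865 := rfl
theorem F29033 : act 7 n17865 = n17865 := d8_2 F13221 D17865 (iv3 D17865)
def n17866 : Q := act 6 n8422
theorem D17866 : act 6 n8422 = n17866 := rfl
theorem F29034 : act 4 n17866 = n8429 := d10_1 D17866 (iv6 D8429) (iv4 F13219)
def n17867 : Q := act 3 n8423
theorem D17867 : act 3 n8423 = n17867 := rfl
theorem F29035 : act 5 n17867 = n17865 := d6_2 (iv5 F13223) D17867 (iv3 D17865)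
theorem F29036 : act 7 n17867 = n17867 := d8_2 F13226 D17867 (iv3 D17867)
def n17868 : Q := act 6 n8423
theorem D17868 : act 6 n8423 = n17868 := rfl
theorem F29037 : act 2 n17868 = n17866 := d3_1 D17868 (iv6 D17866) F13225
theorem F29038 : act 4 n17868 = n8434 := d10_1 D17868 (iv6 D8434) (iv4 F13224)
def n17869 : Q := act 0 n8424
theorem D17869 : act 0 n8424 = n17869 := rfl
def n17870 : Q := act 1 n8424
theorem D17870 : act 1 n8424 = n17870 := rfl
def n17871 : Q := act 2 n8424
theorem D17871 : act 2 n8424 = n17871 := rfl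
theorem F29039 : act 7 n17871 = n17871 := d4_2 F13227 D17871 (iv2 D17871)
theorem F29040 : act 1 n17871 = n17869 := d15_0 (iv0 D17869) F13227 D17871
theorem F29041 : act 1 n17870 = n17871 := d15_1 D17870 F29039 (iv2 D17871)
def n17872 : Q := act 4 n8428
theorem D17872 : act 4 n8428 = n17872 := rfl
theorem F29043 : act 1 n17872 = n10548 := d18_6 (iv1 D4826) F3304 (iv1 F17406) (iv4 F5771) D8428 D17872 (iv4 D10548) (iv0 F17026) (iv5 D10547)
def n17873 : Q := act 6 n8428
theorem D17873 : act 6 n8428 = n17873 := rfl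
theorem F29044 : act 3 n17873 = n8429 := d7_1 D17873 (iv6 D8429) (iv3 F13232)
def n17874 : Q := act 0 n8429
theorem D17874 : act 0 n8429 = n17874 := rfl
def n17875 : Q := act 1 n8429
theorem D17875 : act 1 n8429 = n17875 := rfl
def n17876 : Q := act 7 n8429
theorem D17876 : act 7 n8429 = n17876 := rfl
def n17877 : Q := act 4 n8433
theorem D17877 : act 4 n8433 = n17877 := rfl
theorem F29046 : act 7 n17877 = n17877 := d11_2 F13241 D17877 (iv4 D17877)
def n17878 : Q := act 6 n8433
theorem D17878 : act 6 n8433 = n17878 := rfl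
theorem F29047 : act 3 n17878 = n8434 := d7_1 D17878 (iv6 D8434) (iv3 F13240)
theorem F29048 : act 5 n17878 = n17368 := d12_1 D17878 (iv6 D17368) (iv5 D8134) (iv6 F5777) D8433
def n17879 : Q := act 0 n8434
theorem D17879 : act 0 n8434 = n17879 := rfl
def n17880 : Q := act 1 n8434
theorem D17880 : act 1 n8434 = n17880 := rfl
theorem F29049 : act 1 n17880 = n17876 := d15_1 D17880 (iv7 D17876) (iv2 F13242)
def n17881 : Q := act 7 n8434
theorem D17881 : act 7 n8434 = n17881 := rfl
theorem F29050 : act 2 n17881 = n17876 := d4_1 D17881 (iv7 D17876) (iv2 F13242)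
theorem F29051 : act 5 n17881 = n17373 := d13_1 D17881 (iv7 D17373) (iv5 F13243)
theorem F29053 : act 1 n17876 = n17879 := d15_0 (iv0 D17879) D17881 F29050
theorem F29054 : act 1 n17875 = n17881 := d15_1 D17875 (iv7 D17881) F13242
theorem F29055 : act 1 n17881 = n17874 := d15_0 (iv0 D17874) D17876 (iv2 F29050)
def n17882 : Q := act 6 n8435
theorem D17882 : act 6 n8435 = n17882 := rfl
theorem F29056 : act 2 n17882 = n9416 := d3_1 D17882 (iv6 D9416) (iv2 F13244)
theorem F29057 : act 4 n17882 = n10855 := d10_1 D17882 (iv6 D10855) (iv4 F13246)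
def n17883 : Q := act 5 n8436
theorem D17883 : act 5 n8436 = n17883 := rfl
theorem F29058 : act 2 n17883 = n9832 := d2_1 D17883 (iv5 D9832) (iv2 F13248)
def n17884 : Q := act 0 n8437
theorem D17884 : act 0 n8437 = n17884 := rfl
theorem F29059 : act 4 n17884 = n10211 := d18_3 (iv1 F7084) D8437 D17884 F16143 (iv4 F13957) (iv0 F12125) F12128 (iv0 D3526) (iv5 F2867)
theorem F29060 : act 1 n8445 = n17884 := d15_0 (iv0 D17884) (iv7 F16303) F16302
def n17885 : Q := act 1 n8437
theorem D17885 : act 1 n8437 = n17885 := rfl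
theorem F29061 : act 1 n17885 = n8445 := d15_1 D17885 (iv7 F16322) F16321
theorem F29062 : act 4 n17885 = n10210 := d18_7 D4637 F6688 (iv1 F6458) (iv4 D3777) D3778 D8437 D17885 (iv0 D10210) (iv5 D4639)
def n17886 : Q := act 3 n8437
theorem D17886 : act 3 n8437 = n17886 := rfl
def n17887 : Q := act 5 n8437
theorem D17887 : act 5 n8437 = n17887 := rfl
theorem F29063 : act 4 n17887 = n10174 := d16_2 D8437 D17887 F16012 (iv4 F7371) F7052 F3169 D3782 (iv7 F6769) F6768
def n17888 : Q := act 6 n8437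
theorem D17888 : act 6 n8437 = n17888 := rfl
theorem F29064 : act 4 n17888 = n8438 := d10_1 D17888 (iv6 D8438) D8437
def n17889 : Q := act 0 n8438
theorem D17889 : act 0 n8438 = n17889 := rfl
def n17890 : Q := act 1 n8438
theorem D17890 : act 1 n8438 = n17890 := rfl
def n17891 : Q := act 5 n8438
theorem D17891 : act 5 n8438 = n17891 := rfl
theorem F29065 : act 6 n17891 = n8441 := d12_2 D8438 D17891 (iv5 D8441) (iv6 D3779) D3778
def n17892 : Q := act 7 n8438
theorem D17892 : act 7 n8438 = n17892 := rfl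
def n17893 : Q := act 5 n8439
theorem D17893 : act 5 n8439 = n17893 := rfl
theorem F29066 : act 2 n17893 = n8832 := d2_1 D17893 (iv5 D8832) (iv2 F16809)
theorem F29067 : act 3 n17893 = n16702 := d6_1 D17893 (iv5 D16702) (iv3 F16810)
theorem F29068 : act 1 n17893 = n16694 := d17_6 D4001 D8969 F16842 (iv5 D8990) (iv4 F16811) D17893 (iv5 D16694) (iv0 D7778) F5555
theorem F29069 : act 0 n17893 = n16696 := d21_1 D17893 (iv5 D16696) F14717 (iv1 D7779) (iv6 D3529) (iv5 F2867) (iv1 F7084) (iv5 D3778) D3779 D8439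
def n17894 : Q := act 4 n8441
theorem D17894 : act 4 n8441 = n17894 := rfl
def n17895 : Q := act 4 n8443
theorem D17895 : act 4 n8443 = n17895 := rfl
def n17896 : Q := act 6 n8443
theorem D17896 : act 6 n8443 = n17896 := rfl
theorem F29070 : act 3 n17896 = n8446 := d7_1 D17896 (iv6 D8446) (iv3 F13250)
def n17897 : Q := act 3 n8445
theorem D17897 : act 3 n8445 = n17897 := rfl
def n17898 : Q := act 5 n8445
theorem D17898 : act 5 n8445 = n17898 := rfl
theorem F29071 : act 4 n17898 = n10173 := d9_1 D17898 F16011 (iv4 F13246) (iv5 D8435) (iv4 D3777) D3778 D8437 D17887 F29063 F16012 (iv4 F7371) F7052 F3169 D3782 D8445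
def n17899 : Q := act 6 n8445
theorem D17899 : act 6 n8445 = n17899 := rfl
theorem F29072 : act 4 n17899 = n8446 := d10_1 D17899 (iv6 D8446) D8445
def n17900 : Q := act 0 n8446
theorem D17900 : act 0 n8446 = n17900 := rfl
def n17901 : Q := act 1 n8446
theorem D17901 : act 1 n8446 = n17901 := rfl
def n17902 : Q := act 7 n8446
theorem D17902 : act 7 n8446 = n17902 := rfl
def n17903 : Q := act 3 n8451
theorem D17903 : act 3 n8451 = n17903 := rfl
def n17904 : Q := act 6 n8451
theorem D17904 : act 6 n8451 = n17904 := rfl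
theorem F29073 : act 2 n17904 = n8462 := d3_1 D17904 (iv6 D8462) (iv2 F13253)
theorem F29074 : act 4 n17904 = n8452 := d10_1 D17904 (iv6 D8452) D8451
def n17905 : Q := act 0 n8452
theorem D17905 : act 0 n8452 = n17905 := rfl
def n17906 : Q := act 1 n8452
theorem D17906 : act 1 n8452 = n17906 := rfl
theorem F29075 : act 1 n17906 = n8465 := d15_1 D17906 (iv7 D8465) (iv2 F13254)
def n17907 : Q := act 7 n8452
theorem D17907 : act 7 n8452 = n17907 := rfl
theorem F29076 : act 2 n17907 = n8465 := d4_1 D17907 (iv7 D8465) (iv2 F13254)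
theorem F29077 : act 5 n17907 = n17907 := d13_1 D17907 (iv7 D17907) F13255
theorem F29078 : act 1 n8465 = n17905 := d15_0 (iv0 D17905) D17907 F29076
theorem F29079 : act 1 n8464 = n17907 := d15_1 D8464 (iv7 D17907) F13254
theorem F29080 : act 1 n17907 = n8463 := d15_0 (iv0 D8463) D8465 (iv2 F29076)
def n17908 : Q := act 6 n8453
theorem D17908 : act 6 n8453 = n17908 := rfl
theorem F29081 : act 2 n17908 = n17432 := d3_1 D17908 (iv6 D17432) F13258
theorem F29082 : act 3 n17908 = n8455 := d7_1 D17908 (iv6 D8455) D8453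
def n17909 : Q := act 0 n8454
theorem D17909 : act 0 n8454 = n17909 := rfl
theorem F29083 : act 4 n17909 = n10208 := d18_3 D3785 D8454 D17909 (iv5 D10208) (iv4 F6695) F6408 (iv4 D3777) (iv0 D1652) D1655
theorem F29084 : act 1 n8457 = n17909 := d15_0 (iv0 D17909) (iv7 F16378) F16377
def n17910 : Q := act 1 n8454
theorem D17910 : act 1 n8454 = n17910 := rfl
theorem F29085 : act 1 n17910 = n8457 := d15_1 D17910 (iv7 F16386) F16385
theorem F29086 : act 4 n17910 = n10207 := d18_7 (iv1 F12958) (iv4 F12959) F12244 F12175 F6929 D8454 D17910 F16127 (iv5 D8954)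
def n17911 : Q := act 3 n8454
theorem D17911 : act 3 n8454 = n17911 := rfl
def n17912 : Q := act 5 n8454
theorem D17912 : act 5 n8454 = n17912 := rfl
theorem F29087 : act 4 n17912 = n10171 := d16_2 D8454 D17912 (iv5 D10171) (iv4 F6923) (iv5 D4232) F5901 F6932 F12179 (iv2 F12177)
def n17913 : Q := act 6 n8454
theorem D17913 : act 6 n8454 = n17913 := rfl
theorem F29088 : act 4 n17913 = n8455 := d10_1 D17913 (iv6 D8455) D8454
def n17914 : Q := act 0 n8455
theorem D17914 : act 0 n8455 = n17914 := rfl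
def n17915 : Q := act 1 n8455
theorem D17915 : act 1 n8455 = n17915 := rfl
def n17916 : Q := act 7 n8455
theorem D17916 : act 7 n8455 = n17916 := rfl
def n17917 : Q := act 4 n8456
theorem D17917 : act 4 n8456 = n17917 := rfl
theorem F29089 : act 0 n17917 = n10442 := d18_2 (iv1 F13810) D17917 (iv4 D10442) (iv5 D4743) (iv4 D1964) D1962 (iv4 F5785) F6472 D4055
theorem F29090 : act 1 n17917 = n10531 := d18_6 D3623 F6281 F6301 (iv4 F13804) F13805 D17917 (iv4 D10531) F7022 (iv5 D3626)
def n17918 : Q := act 6 n8456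
theorem D17918 : act 6 n8456 = n17918 := rfl
theorem F29091 : act 3 n17918 = n8458 := d7_1 D17918 (iv6 D8458) D8456
def n17919 : Q := act 3 n8457
theorem D17919 : act 3 n8457 = n17919 := rfl
def n17920 : Q := act 5 n8457
theorem D17920 : act 5 n8457 = n17920 := rfl
theorem F29092 : act 4 n17920 = n10168 := d9_1 D17920 (iv5 D10168) (iv4 F15042) (iv5 D9659) F12175 F6929 D8454 D17912 F29087 (iv5 D10171) (iv4 F6923) (iv5 D4232) F5901 F6932 D8457
def n17921 : Q := act 6 n8457
theorem D17921 : act 6 n8457 = n17921 := rfl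
theorem F29093 : act 4 n17921 = n8458 := d10_1 D17921 (iv6 D8458) D8457
def n17922 : Q := act 0 n8458
theorem D17922 : act 0 n8458 = n17922 := rfl
def n17923 : Q := act 1 n8458
theorem D17923 : act 1 n8458 = n17923 := rfl
def n17924 : Q := act 5 n8458
theorem D17924 : act 5 n8458 = n17924 := rfl
def n17925 : Q := act 7 n8458
theorem D17925 : act 7 n8458 = n17925 := rfl
def n17926 : Q := act 3 n8459
theorem D17926 : act 3 n8459 = n17926 := rfl
def n17927 : Q := act 5 n8459
theorem D17927 : act 5 n8459 = n17927 := rfl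
theorem F29094 : act 4 n17927 = n10161 := d16_2 F13963 D17927 (iv5 D10161) (iv4 D4617) F6930 D4012 (iv5 F13325) (iv7 F13362) (iv2 F13960)
theorem F29095 : act 0 n17927 = n10912 := d17_2 D8459 D17927 F17730 (iv4 D8688) F5852 F5900 F6929 (iv0 D3785) D3787
theorem F29096 : act 1 n17927 = n13228 := d17_6 (iv1 F16141) F16143 (iv1 D8980) D8981 F13963 D17927 (iv5 D13228) (iv0 F16208) (iv4 D10248)
def n17928 : Q := act 6 n8459
theorem D17928 : act 6 n8459 = n17928 := rfl
def n17929 : Q := act 3 n8460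
theorem D17929 : act 3 n8460 = n17929 := rfl
theorem F29097 : act 4 n17929 = n17748 := d5_2 F13259 D17929 (iv3 D17748) (iv4 D8368) D8367
def n17930 : Q := act 5 n8460
theorem D17930 : act 5 n8460 = n17930 := rfl
theorem F29098 : act 4 n17930 = n10152 := d9_1 D17930 (iv5 D10152) (iv4 D4612) F6924 D4007 D8981 F13963 D17927 F29094 (iv5 D10161) (iv4 D4617) F6930 D4012 (iv5 F13325) F13259
theorem F29099 : act 0 n17930 = n13228 := d17_2 F16263 D17930 (iv5 D13228) (iv4 D6286) F4230 D3950 F6932 F6739 D10274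
theorem F29100 : act 1 n17930 = n10912 := d17_6 D10210 F16137 (iv1 F13952) (iv5 F13325) F13259 D17930 F17730 (iv0 F16148) (iv4 D10212)
def n17931 : Q := act 6 n8460
theorem D17931 : act 6 n8460 = n17931 := rfl
theorem F29101 : act 4 n17931 = n17745 := d10_1 D17931 (iv6 D17745) F13259
def n17932 : Q := act 0 n8461
theorem D17932 : act 0 n8461 = n17932 := rfl
theorem F29102 : act 5 n17932 = n8690 := d17_1 D17932 (iv1 F22028) F22025 (iv4 D10858) (iv5 D4950) D4949 (iv5 F16012) (iv0 F16276) F16274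
theorem F29103 : act 4 n17932 = n10124 := d18_3 (iv1 F16277) F16274 D17932 (iv5 D10124) (iv4 D4602) F7082 D4969 F7388 (iv5 F16011)
theorem F29104 : act 1 n10175 = n17932 := d15_0 (iv0 D17932) (iv7 F16399) F16398
def n17933 : Q := act 1 n8461
theorem D17933 : act 1 n8461 = n17933 := rfl
theorem F29105 : act 1 n17933 = n10175 := d15_1 D17933 (iv7 F16475) F16473
theorem F29106 : act 5 n17933 = n8691 := d17_7 (iv1 F9784) (iv5 D3782) (iv1 D1653) D1655 D3787 D8461 D17933 (iv0 F22027) (iv4 D13226)
theorem F29107 : act 4 n10092 = n17933 := d9_15 F29106 (iv4 F13613) (iv5 D4600) (iv4 D1914) D1915 D4602 D10124 (iv4 F29103) F29102 F13612 (iv5 D4587) (iv4 D1909) D1910 D4591 D10092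
def n17934 : Q := act 6 n8461
theorem D17934 : act 6 n8461 = n17934 := rfl
def n17935 : Q := act 0 n8462
theorem D17935 : act 0 n8462 = n17935 := rfl
def n17936 : Q := act 1 n8462
theorem D17936 : act 1 n8462 = n17936 := rfl
def n17937 : Q := act 5 n8462
theorem D17937 : act 5 n8462 = n17937 := rfl
def n17938 : Q := act 7 n8462
theorem D17938 : act 7 n8462 = n17938 := rfl
theorem F29108 : act 4 n17938 = n8465 := d11_1 D17938 (iv7 D8465) (iv4 F13260)
def n17939 : Q := act 2 n8463
theorem D17939 : act 2 n8463 = n17939 := rfl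
theorem F29109 : act 7 n8464 = n17939 := d15_2 (iv0 D8463) D8464 (iv2 D17939)
def n17940 : Q := act 3 n8463
theorem D17940 : act 3 n8463 = n17940 := rfl
def n17941 : Q := act 4 n8463
theorem D17941 : act 4 n8463 = n17941 := rfl
def n17942 : Q := act 5 n8463
theorem D17942 : act 5 n8463 = n17942 := rfl
def n17943 : Q := act 6 n8463
theorem D17943 : act 6 n8463 = n17943 := rfl
def n17944 : Q := act 7 n8463
theorem D17944 : act 7 n8463 = n17944 := rfl
theorem F29110 : act 2 n17944 = n8464 := d4_1 D17944 F29109 (iv2 D17939)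
def n17945 : Q := act 3 n8464
theorem D17945 : act 3 n8464 = n17945 := rfl
def n17946 : Q := act 4 n8464
theorem D17946 : act 4 n8464 = n17946 := rfl
def n17947 : Q := act 5 n8464
theorem D17947 : act 5 n8464 = n17947 := rfl
def n17948 : Q := act 6 n8464
theorem D17948 : act 6 n8464 = n17948 := rfl
def n17950 : Q := act 1 n8466
theorem D17950 : act 1 n8466 = n17950 := rfl
theorem F29112 : act 1 n17950 = n8471 := d15_1 D17950 (iv7 D8471) D8466
def n17951 : Q := act 3 n8466
theorem D17951 : act 3 n8466 = n17951 := rfl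
theorem F29113 : act 7 n17951 = n8472 := d8_2 F13263 D17951 (iv3 D8472)
def n17952 : Q := act 4 n8466
theorem D17952 : act 4 n8466 = n17952 := rfl
theorem F29114 : act 2 n17952 = n8468 := d1_1 D17952 (iv4 D8468) D8466
theorem F29115 : act 7 n17952 = n8473 := d11_2 F13263 D17952 (iv4 D8473)
def n17953 : Q := act 5 n8466
theorem D17953 : act 5 n8466 = n17953 := rfl
theorem F29116 : act 2 n17953 = n8469 := d2_1 D17953 (iv5 D8469) D8466
theorem F29117 : act 7 n17953 = n8474 := d13_2 F13263 D17953 (iv5 D8474)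
def n17954 : Q := act 6 n8466
theorem D17954 : act 6 n8466 = n17954 := rfl
theorem F29118 : act 2 n17954 = n8470 := d3_1 D17954 (iv6 D8470) D8466
def n17955 : Q := act 0 n8467
theorem D17955 : act 0 n8467 = n17955 := rfl
def n17956 : Q := act 1 n8467
theorem D17956 : act 1 n8467 = n17956 := rfl
def n17957 : Q := act 2 n8467
theorem D17957 : act 2 n8467 = n17957 := rfl
def n17958 : Q := act 4 n8467
theorem D17958 : act 4 n8467 = n17958 := rfl
def n17959 : Q := act 5 n8467
theorem D17959 : act 5 n8467 = n17959 := rfl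
theorem F29119 : act 3 n17959 = n8469 := d6_1 D17959 (iv5 D8469) D8467
def n17960 : Q := act 6 n8467
theorem D17960 : act 6 n8467 = n17960 := rfl
theorem F29120 : act 3 n17960 = n8470 := d7_1 D17960 (iv6 D8470) D8467
def n17961 : Q := act 7 n8467
theorem D17961 : act 7 n8467 = n17961 := rfl
theorem F29121 : act 3 n17961 = n8471 := d8_1 D17961 (iv7 D8471) D8467
def n17963 : Q := act 1 n8468
theorem D17963 : act 1 n8468 = n17963 := rfl
theorem F29122 : act 1 n17963 = n8473 := d15_1 D17963 (iv7 F29115) F29114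
def n17966 : Q := act 6 n8468
theorem D17966 : act 6 n8468 = n17966 := rfl
theorem F29123 : act 4 n17966 = n8470 := d10_1 D17966 (iv6 D8470) D8468
def n17967 : Q := act 7 n8468
theorem D17967 : act 7 n8468 = n17967 := rfl
theorem F29125 : act 4 n17967 = n8471 := d11_1 D17967 (iv7 D8471) D8468
def n17968 : Q := act 4 n8469
theorem D17968 : act 4 n8469 = n17968 := rfl
def n17969 : Q := act 6 n8469
theorem D17969 : act 6 n8469 = n17969 := rfl
theorem F29127 : act 0 n17969 = n13300 := d21_10 F27598 (iv1 D16862) (iv5 D7859) (iv6 D3562) (iv1 F2726) D1656 F2839 D3789 D8469 D17969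
theorem F29128 : act 4 n16402 = n17969 := d17_9 F29127 F27598 (iv1 D16862) (iv5 D7859) (iv4 F9412) (iv5 F21211) (iv0 F25895) (iv5 D16403) D16402
theorem F29129 : act 6 n17968 = n16402 := d10_0 F29128 (iv6 D17969) D17968
theorem F29130 : act 5 n16092 = n17968 := d21_2 D7513 D16092 F29129 (iv1 D16402) (iv6 D7608) D7607 D16396 F25890 (iv6 D16091) (iv1 D7512)
theorem E4081 : n17963 = n3426 := (c17_1 (iv1 F29122) D7513 D16092 F29130 (iv4 D17968) (iv5 D8469) (iv0 D3789) F2839 D3790 D8473)
theorem E4082 : n8468 = n7511 := (((D7511).symm.trans (sb E4081 (iv1 D17963)))).symm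
theorem E4083 : n8473 = n7512 := (((D7512).symm.trans (sb E4081 F29122))).symm
theorem E4085 : n17952 = n16082 := (((D16082).symm.trans (sb E4082 (iv2 F29114)))).symm
theorem E4087 : n16084 = n3789 := ((D16084).symm.trans (sb E4082 (iv4 D8468)))
theorem E4089 : n17966 = n16086 := (((D16086).symm.trans (sb E4082 D17966))).symm
theorem E4090 : n17967 = n16087 := (((D16087).symm.trans (sb E4082 D17967))).symm
theorem E4091 : n16089 = n3790 := ((D16089).symm.trans (sb E4083 (iv4 D8473)))
theorem F29131 : act 4 n16082 = n8466 := (sb E4085 (iv4 D17952))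
theorem F29132 : act 4 n3789 = n7511 := (sb E4087 (iv4 D16084))
theorem F29133 : act 4 n16086 = n8470 := (sb E4089 F29123)
theorem F29134 : act 4 n16087 = n8471 := (sb E4090 F29125)
theorem F29135 : act 4 n3790 = n7512 := (sb E4091 (iv4 D16089))
theorem F29136 : act 4 n16091 = n8475 := d10_3 (iv6 D8475) F29135 D16091
def n17970 : Q := act 7 n8469
theorem D17970 : act 7 n8469 = n17970 := rfl
theorem F29137 : act 2 n17970 = n8474 := d4_1 D17970 (iv7 F29117) F29116
theorem F29138 : act 5 n17970 = n8471 := d13_1 D17970 (iv7 D8471) D8469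
theorem F29139 : act 6 n13213 = n17970 := d3_0 F29137 (iv6 F13265) D13213
theorem F29140 : act 7 n17969 = n13221 := d14_4 F22013 F29139 (iv7 D17970) D17969 (iv6 D13221)
def n17971 : Q := act 0 n8470
theorem D17971 : act 0 n8470 = n17971 := rfl
theorem F29141 : act 2 n17069 = n17971 := d15_3 (iv0 D17971) (iv0 F27584) (iv7 F28003)
theorem F29142 : act 6 n17971 = n17065 := d3_2 D17069 F29141 F28002
def n17972 : Q := act 7 n8470
theorem D17972 : act 7 n8470 = n17972 := rfl
def n17973 : Q := act 6 n8471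
theorem D17973 : act 6 n8471 = n17973 := rfl
theorem F29143 : act 2 n17973 = n8475 := d3_1 D17973 (iv6 D8475) (iv2 F13264)
def n17974 : Q := act 0 n8472
theorem D17974 : act 0 n8472 = n17974 := rfl
def n17975 : Q := act 1 n8472
theorem D17975 : act 1 n8472 = n17975 := rfl
def n17976 : Q := act 2 n8472
theorem D17976 : act 2 n8472 = n17976 := rfl
def n17977 : Q := act 4 n8472
theorem D17977 : act 4 n8472 = n17977 := rfl
def n17978 : Q := act 5 n8472
theorem D17978 : act 5 n8472 = n17978 := rfl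
theorem F29144 : act 3 n17978 = n8474 := d6_1 D17978 (iv5 D8474) D8472
theorem F29145 : act 6 n13214 = n17978 := d7_0 F29144 (iv6 F13265) D13214
def n17979 : Q := act 6 n8472
theorem D17979 : act 6 n8472 = n17979 := rfl
theorem F29146 : act 3 n17979 = n8475 := d7_1 D17979 (iv6 D8475) D8472
def n17980 : Q := act 4 n8474
theorem D17980 : act 4 n8474 = n17980 := rfl
theorem F29147 : act 6 n17980 = n13215 := d10_2 F13265 D17980 (iv4 D13215)
def n17981 : Q := act 0 n8475
theorem D17981 : act 0 n8475 = n17981 := rfl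
theorem F29148 : act 5 n17981 = n8827 := d21_0 (iv1 F22102) (iv5 D13295) (iv6 D6308) (iv1 F4240) D3928 D8815 F13693 (iv5 D8474) D8475 D17981
def n17982 : Q := act 1 n8475
theorem D17982 : act 1 n8475 = n17982 := rfl
def n17983 : Q := act 5 n8475
theorem D17983 : act 5 n8475 = n17983 := rfl
theorem F29149 : act 6 n17983 = n13216 := d12_2 D8475 D17983 (iv5 D13216) F13265 (iv5 D8474)
theorem F29150 : act 1 n17983 = n13299 := d17_6 D3454 D7607 D16396 F25890 F29136 D17983 (iv5 D13299) (iv0 D6309) F4243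
theorem F29151 : act 0 n17983 = n13304 := d21_10 (iv5 D13304) (iv1 D6310) D6311 F9822 (iv1 F5899) (iv6 F9774) (iv5 D6283) D6281 D13216 (iv6 F29149)
def n17984 : Q := act 7 n8475
theorem D17984 : act 7 n8475 = n17984 := rfl
def n17985 : Q := act 6 n8476
theorem D17985 : act 6 n8476 = n17985 := rfl
def n17986 : Q := act 0 n8480
theorem D17986 : act 0 n8480 = n17986 := rfl
theorem F29152 : act 1 n8488 = n17986 := d15_0 (iv0 D17986) (iv7 F21740) F21739
def n17987 : Q := act 1 n8480
theorem D17987 : act 1 n8480 = n17987 := rfl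
theorem F29153 : act 1 n17987 = n8488 := d15_1 D17987 (iv7 F21751) F21750
def n17988 : Q := act 6 n8480
theorem D17988 : act 6 n8480 = n17988 := rfl
theorem F29154 : act 4 n17988 = n8481 := d10_1 D17988 (iv6 D8481) D8480
def n17989 : Q := act 0 n8481
theorem D17989 : act 0 n8481 = n17989 := rfl
def n17990 : Q := act 1 n8481
theorem D17990 : act 1 n8481 = n17990 := rfl
def n17991 : Q := act 7 n8481
theorem D17991 : act 7 n8481 = n17991 := rfl
def n17992 : Q := act 4 n8486
theorem D17992 : act 4 n8486 = n17992 := rfl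
def n17993 : Q := act 6 n8486
theorem D17993 : act 6 n8486 = n17993 := rfl
theorem F29155 : act 3 n17993 = n8489 := d7_1 D17993 (iv6 D8489) (iv3 F13269)
def n17994 : Q := act 5 n8487
theorem D17994 : act 5 n8487 = n17994 := rfl
theorem F29156 : act 3 n17994 = n8492 := d6_1 D17994 (iv5 D8492) (iv3 F13270)
def n17995 : Q := act 3 n8488
theorem D17995 : act 3 n8488 = n17995 := rfl
def n17996 : Q := act 5 n8488
theorem D17996 : act 5 n8488 = n17996 := rfl
def n17997 : Q := act 6 n8488
theorem D17997 : act 6 n8488 = n17997 := rfl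
theorem F29157 : act 4 n17997 = n8489 := d10_1 D17997 (iv6 D8489) D8488
def n17998 : Q := act 0 n8489
theorem D17998 : act 0 n8489 = n17998 := rfl
def n17999 : Q := act 1 n8489
theorem D17999 : act 1 n8489 = n17999 := rfl
def n18000 : Q := act 5 n8489
theorem D18000 : act 5 n8489 = n18000 := rfl
theorem F29158 : act 6 n18000 = n8492 := d12_2 D8489 D18000 (iv5 D8492) (iv6 D3799) D3798
def n18001 : Q := act 7 n8489
theorem D18001 : act 7 n8489 = n18001 := rfl
def n18002 : Q := act 5 n8491
theorem D18002 : act 5 n8491 = n18002 := rfl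
theorem F29159 : act 2 n18002 = n8836 := d2_1 D18002 (iv5 D8836) (iv2 F16992)
theorem F29160 : act 7 n18002 = n16702 := d13_2 (iv7 F16994) D18002 (iv5 D16702)
theorem F29161 : act 0 n18002 = n16706 := d21_1 D18002 (iv5 F27392) (iv6 D8524) (iv1 D3807) (iv6 D1661) D1660 D3802 (iv5 F13465) (iv6 F14298) (iv1 F16991)
theorem F29162 : act 1 n18002 = n16705 := d15_0 (iv0 D16705) (iv7 F13735) (iv2 F29159)
def n18003 : Q := act 1 n8492
theorem D18003 : act 1 n8492 = n18003 := rfl
theorem F29163 : act 1 n18003 = n16704 := d15_1 D18003 F27390 F21743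
theorem F29164 : act 5 n17364 = n18003 := d21_0 (iv1 D18003) (iv5 D8492) (iv6 D3799) (iv1 D1658) D1661 D3808 (iv1 F17000) (iv5 D8518) D8519 (iv1 F28302)
theorem F29165 : act 2 n18003 = n8839 := d2_1 F29164 F13740 D17364
def n18004 : Q := act 4 n8492
theorem D18004 : act 4 n8492 = n18004 := rfl
def n18005 : Q := act 3 n8494
theorem D18005 : act 3 n8494 = n18005 := rfl
def n18006 : Q := act 5 n8494
theorem D18006 : act 5 n8494 = n18006 := rfl
theorem F29166 : act 2 n18006 = n8509 := d2_1 D18006 (iv5 D8509) (iv2 F13271)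
theorem F29167 : act 7 n18006 = n10488 := d13_2 F21755 D18006 (iv5 F21756)
theorem F29168 : act 4 n18006 = n13058 := d16_2 D8494 D18006 (iv5 D13058) (iv4 D6215) (iv5 D2611) F2282 D2611 F4203 (iv2 F5792)
theorem F29169 : act 0 n18006 = n9202 := d17_2 (iv1 F21779) D18006 F22003 (iv4 F22000) F21534 (iv0 F9628) (iv5 F16672) (iv0 F27375) F27377
theorem F29170 : act 1 n18006 = n10489 := d17_6 (iv1 F14054) (iv5 D6206) (iv1 F4194) D3800 D8494 D18006 F21997 (iv0 D13205) (iv4 D6279)
def n18007 : Q := act 6 n8494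
theorem D18007 : act 6 n8494 = n18007 := rfl
theorem F29171 : act 2 n18007 = n8510 := d3_1 D18007 (iv6 D8510) (iv2 F13271)
theorem F29172 : act 4 n18007 = n8495 := d10_1 D18007 (iv6 D8495) D8494
def n18008 : Q := act 0 n8495
theorem D18008 : act 0 n8495 = n18008 := rfl
def n18009 : Q := act 1 n8495
theorem D18009 : act 1 n8495 = n18009 := rfl
theorem F29173 : act 1 n18009 = n8514 := d15_1 D18009 (iv7 D8514) (iv2 F13272)
def n18010 : Q := act 5 n8495
theorem D18010 : act 5 n8495 = n18010 := rfl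
theorem F29174 : act 2 n18010 = n8513 := d2_1 D18010 (iv5 D8513) (iv2 F13272)
theorem F29175 : act 6 n18010 = n8496 := d12_2 D8495 D18010 (iv5 D8496) (iv6 D3801) D3800
def n18011 : Q := act 7 n8495
theorem D18011 : act 7 n8495 = n18011 := rfl
theorem F29176 : act 2 n18011 = n8514 := d4_1 D18011 (iv7 D8514) (iv2 F13272)
theorem F29177 : act 1 n8514 = n18008 := d15_0 (iv0 D18008) D18011 F29176
theorem F29178 : act 1 n8512 = n18011 := d15_1 D8512 (iv7 D18011) F13272
theorem F29179 : act 1 n18011 = n8511 := d15_0 (iv0 D8511) D8514 (iv2 F29176)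
def n18013 : Q := act 6 n8498
theorem D18013 : act 6 n8498 = n18013 := rfl
theorem F29182 : act 2 n18013 = n17142 := d3_1 D18013 (iv6 D17142) F13467
theorem F29183 : act 3 n18013 = n8501 := d7_1 D18013 (iv6 D8501) D8498
def n18014 : Q := act 0 n8499
theorem D18014 : act 0 n8499 = n18014 := rfl
theorem F29184 : act 4 n18014 = n10441 := d18_3 D3802 D8499 D18014 (iv5 D10441) F6850 (iv0 F6852) (iv4 D3793) (iv0 D1657) D1660
theorem F29185 : act 1 n8504 = n18014 := d15_0 (iv0 D18014) (iv7 F21763) F21762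
theorem F29186 : act 2 n10467 = n18014 := d1_3 F29184 F16627 D10467
def n18015 : Q := act 1 n8499
theorem D18015 : act 1 n8499 = n18015 := rfl
theorem F29187 : act 1 n18015 = n8504 := d15_1 D18015 (iv7 F21775) F21774
theorem F29188 : act 7 n18015 = n10467 := d15_2 (iv0 D18014) D18015 F29186
theorem F29189 : act 4 n18015 = n10469 := d18_7 (iv1 F12802) (iv4 F14267) F14269 (iv4 F12831) F13465 D8499 D18015 (iv0 F27375) (iv5 D16699)
def n18016 : Q := act 6 n8499
theorem D18016 : act 6 n8499 = n18016 := rfl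
theorem F29190 : act 4 n18016 = n8501 := d10_1 D18016 (iv6 D8501) D8499
def n18017 : Q := act 0 n8501
theorem D18017 : act 0 n8501 = n18017 := rfl
def n18018 : Q := act 1 n8501
theorem D18018 : act 1 n8501 = n18018 := rfl
def n18019 : Q := act 5 n8501
theorem D18019 : act 5 n8501 = n18019 := rfl
theorem F29191 : act 6 n18019 = n16704 := d12_2 D8501 D18019 (iv5 D16704) F14298 F13465
def n18020 : Q := act 7 n8501
theorem D18020 : act 7 n8501 = n18020 := rfl
def n18021 : Q := act 4 n8503
theorem D18021 : act 4 n8503 = n18021 := rfl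
theorem F29192 : act 0 n18021 = n17089 := d18_2 (iv1 F27412) D18021 (iv4 D17089) F13317 (iv4 F6434) (iv0 F13100) F13098 F6873 D3825
theorem F29193 : act 1 n18021 = n17087 := d18_6 D3616 D7988 (iv1 F12769) (iv4 F13786) F13787 D18021 (iv4 D17087) (iv0 D7996) (iv5 D3619)
def n18022 : Q := act 6 n8503
theorem D18022 : act 6 n8503 = n18022 := rfl
theorem F29194 : act 3 n18022 = n8506 := d7_1 D18022 (iv6 D8506) D8503
def n18023 : Q := act 3 n8504
theorem D18023 : act 3 n8504 = n18023 := rfl
def n18024 : Q := act 5 n8504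
theorem D18024 : act 5 n8504 = n18024 := rfl
theorem F29195 : act 2 n18024 = n10642 := d2_1 D18024 (iv5 F21764) F21762
theorem F29196 : act 4 n18024 = n10654 := d9_1 D18024 (iv5 F17204) (iv4 F16666) (iv5 F16663) (iv4 F12831) F13465 D8499 (iv5 F14159) (iv4 F17130) (iv5 F17132) (iv4 F13277) (iv5 F13459) F9562 F13460 D8504
def n18025 : Q := act 6 n8504
theorem D18025 : act 6 n8504 = n18025 := rfl
theorem F29197 : act 4 n18025 = n8506 := d10_1 D18025 (iv6 D8506) D8504
def n18026 : Q := act 0 n8506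
theorem D18026 : act 0 n8506 = n18026 := rfl
def n18027 : Q := act 1 n8506
theorem D18027 : act 1 n8506 = n18027 := rfl
def n18028 : Q := act 7 n8506
theorem D18028 : act 7 n8506 = n18028 := rfl
def n18029 : Q := act 3 n8507
theorem D18029 : act 3 n8507 = n18029 := rfl
def n18030 : Q := act 6 n8507
theorem D18030 : act 6 n8507 = n18030 := rfl
def n18031 : Q := act 6 n8508
theorem D18031 : act 6 n8508 = n18031 := rfl
theorem F29198 : act 4 n18031 = n17622 := d10_1 D18031 (iv6 D17622) F13277
def n18032 : Q := act 0 n8509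
theorem D18032 : act 0 n8509 = n18032 := rfl
theorem F29199 : act 5 n18032 = n8724 := d17_1 D18032 (iv1 F21990) F21988 (iv4 F17197) (iv5 D8726) D8725 (iv5 F13630) D10488 F16696
theorem F29200 : act 2 n9202 = n18032 := d15_3 (iv0 D18032) (iv0 F13279) (iv7 F14368)
theorem F29201 : act 1 n10488 = n18032 := d15_0 (iv0 D18032) (iv7 F21782) F21781
theorem F29202 : act 4 n17996 = n18032 := d18_5 (iv1 F21990) (iv4 D13203) F14292 D8488 D17996 (iv0 D18032) (iv4 F16696) F29201 F29199
theorem F29203 : act 7 n18032 = n10489 := d15_2 D10488 F29201 (iv2 D10489)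
theorem F29204 : act 3 n18032 = n10551 := d0_2 D9202 F29200 (iv2 D10551) (iv3 D4829) (iv2 F7139)
def n18033 : Q := act 6 n8509
theorem D18033 : act 6 n8509 = n18033 := rfl
def n18034 : Q := act 0 n8510
theorem D18034 : act 0 n8510 = n18034 := rfl
def n18035 : Q := act 1 n8510
theorem D18035 : act 1 n8510 = n18035 := rfl
def n18036 : Q := act 5 n8510
theorem D18036 : act 5 n8510 = n18036 := rfl
def n18037 : Q := act 7 n8510
theorem D18037 : act 7 n8510 = n18037 := rfl
theorem F29205 : act 4 n18037 = n8514 := d11_1 D18037 (iv7 D8514) (iv4 F13280)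
def n18038 : Q := act 2 n8511
theorem D18038 : act 2 n8511 = n18038 := rfl
theorem F29206 : act 7 n8512 = n18038 := d15_2 (iv0 D8511) D8512 (iv2 D18038)
def n18039 : Q := act 3 n8511
theorem D18039 : act 3 n8511 = n18039 := rfl
def n18040 : Q := act 4 n8511
theorem D18040 : act 4 n8511 = n18040 := rfl
def n18041 : Q := act 5 n8511
theorem D18041 : act 5 n8511 = n18041 := rfl
def n18042 : Q := act 6 n8511
theorem D18042 : act 6 n8511 = n18042 := rfl
def n18043 : Q := act 7 n8511
theorem D18043 : act 7 n8511 = n18043 := rfl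
theorem F29207 : act 2 n18043 = n8512 := d4_1 D18043 F29206 (iv2 D18038)
def n18044 : Q := act 3 n8512
theorem D18044 : act 3 n8512 = n18044 := rfl
def n18045 : Q := act 4 n8512
theorem D18045 : act 4 n8512 = n18045 := rfl
def n18046 : Q := act 5 n8512
theorem D18046 : act 5 n8512 = n18046 := rfl
def n18047 : Q := act 6 n8512
theorem D18047 : act 6 n8512 = n18047 := rfl
def n18048 : Q := act 0 n8513
theorem D18048 : act 0 n8513 = n18048 := rfl
def n18049 : Q := act 1 n8513
theorem D18049 : act 1 n8513 = n18049 := rfl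
def n18050 : Q := act 4 n8513
theorem D18050 : act 4 n8513 = n18050 := rfl
def n18051 : Q := act 7 n8513
theorem D18051 : act 7 n8513 = n18051 := rfl
theorem F29209 : act 3 n18051 = n8541 := d8_1 D18051 (iv7 D8541) (iv3 F13281)
theorem F29210 : act 5 n18051 = n8514 := d13_1 D18051 (iv7 D8514) D8513
theorem F29211 : act 6 n18051 = n18051 := d14_1 D18051 (iv7 D18051) F13282 F5800 (iv6 F13282)
def n18052 : Q := act 5 n8516
theorem D18052 : act 5 n8516 = n18052 := rfl
theorem F29212 : act 3 n18052 = n8518 := d6_1 D18052 (iv5 D8518) D8516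
theorem F29213 : act 7 n18052 = n18052 := d13_2 F21685 D18052 (iv5 D18052)
theorem F29214 : act 4 n18052 = n17793 := d18_5 (iv1 F5753) (iv4 F9644) (iv1 F9651) (iv4 F13285) D18052 F28926 (iv4 D17744) (iv0 F16907) (iv5 D8386)
theorem F29215 : act 0 n18052 = n13111 := d21_1 D18052 (iv5 D13111) (iv6 D6241) F9632 F17003 D12944 F21510 (iv5 D8573) D8574 F17610
theorem F29216 : act 7 n17793 = n17793 := d11_2 F29213 F29214 (iv4 F29214)
theorem F29217 : act 2 n17793 = n17792 := d15_3 (iv0 D17792) D17793 F29216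
def n18053 : Q := act 5 n8517
theorem D18053 : act 5 n8517 = n18053 := rfl
def n18054 : Q := act 4 n8518
theorem D18054 : act 4 n8518 = n18054 := rfl
def n18055 : Q := act 6 n8518
theorem D18055 : act 6 n8518 = n18055 := rfl
def n18056 : Q := act 5 n8519
theorem D18056 : act 5 n8519 = n18056 := rfl
theorem F29221 : act 2 n18056 = n16706 := d2_1 D18056 (iv5 F27392) (iv2 F21696)
theorem F29222 : act 7 n18056 = n16705 := d13_2 F28184 D18056 F28188
theorem F29223 : act 0 n18056 = n16702 := d21_1 D18056 (iv5 D16702) (iv6 D7791) (iv1 F5892) F16983 D6210 F14055 F4227 D3947 (iv1 F17001)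
theorem F29224 : act 0 n8836 = n18056 := d21_1 D8836 (iv5 D18056) (iv6 D8519) (iv1 F5797) (iv6 D3801) D3800 (iv1 F9678) F14051 D7790 F13348
def n18057 : Q := act 2 n8521
theorem D18057 : act 2 n8521 = n18057 := rfl
theorem F29225 : act 3 n18057 = n13022 := d0_2 D8521 D18057 F21703 (iv3 D8516) (iv2 F21687)
theorem F29226 : act 6 n18057 = n17223 := d3_2 F28179 D18057 (iv2 F28178)
theorem F29227 : act 7 n18057 = n18057 := d4_2 F21689 D18057 (iv2 D18057)
theorem F29228 : act 1 n18057 = n17602 := d15_0 (iv0 F28615) F21689 D18057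
theorem F29229 : act 1 n8553 = n18057 := d15_1 (iv0 F17624) F29227 (iv2 D18057)
theorem F29230 : act 4 n8521 = n18057 := d20_0 (iv1 F29229) (iv4 F17476) F17475 F17428 F17436 (iv4 F17438) F17437 F13402 (iv3 F13376) F17624
def n18058 : Q := act 5 n8521
theorem D18058 : act 5 n8521 = n18058 := rfl
theorem F29231 : act 3 n18058 = n8523 := d6_1 D18058 (iv5 D8523) D8521
def n18059 : Q := act 5 n8522
theorem D18059 : act 5 n8522 = n18059 := rfl
theorem F29233 : act 2 n18059 = n18053 := d2_1 D18059 (iv5 D18053) (iv2 F21694)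
theorem F29234 : act 3 n18059 = n13023 := d6_1 D18059 (iv5 D13023) (iv3 F13287)
def n18060 : Q := act 4 n8523
theorem D18060 : act 4 n8523 = n18060 := rfl
theorem F29236 : act 2 n18060 = n18054 := d1_1 D18060 (iv4 D18054) (iv2 F21692)
def n18061 : Q := act 6 n8523
theorem D18061 : act 6 n8523 = n18061 := rfl
theorem F29238 : act 2 n18061 = n18055 := d3_1 D18061 (iv6 D18055) (iv2 F21692)
def n18062 : Q := act 0 n8527
theorem D18062 : act 0 n8527 = n18062 := rfl
theorem F29239 : act 4 n18062 = n18053 := d18_3 F17005 D8527 D18062 (iv5 D18053) (iv4 D8517) (iv0 D3806) F2843 D3807 D8523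
def n18063 : Q := act 1 n8527
theorem D18063 : act 1 n8527 = n18063 := rfl
theorem F29243 : act 4 n18059 = n18063 := d20_6 (iv4 F13219) (iv1 F13220) (iv4 D6203) (iv3 F9652) (iv1 F21710) (iv3 F29234) (iv1 D18063) (iv4 D8527) F5799 (iv1 F5775)
theorem F29244 : act 2 n18063 = n18062 := d1_1 F29243 F29239 (iv2 F29233)
def n18064 : Q := act 3 n8527
theorem D18064 : act 3 n8527 = n18064 := rfl
theorem F29246 : act 4 n18064 = n8542 := d5_2 D8527 D18064 (iv3 D8542) (iv4 D3813) (iv3 F5799)
theorem F29247 : act 7 n18064 = n18064 := d8_2 F13290 D18064 (iv3 D18064)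
def n18067 : Q := act 1 n8528
theorem D18067 : act 1 n8528 = n18067 := rfl
theorem F29250 : act 1 n18067 = n8533 := d15_1 D18067 (iv7 D8533) D8528
def n18068 : Q := act 3 n8528
theorem D18068 : act 3 n8528 = n18068 := rfl
theorem F29251 : act 7 n18068 = n8534 := d8_2 F13291 D18068 (iv3 D8534)
def n18069 : Q := act 4 n8528
theorem D18069 : act 4 n8528 = n18069 := rfl
theorem F29252 : act 2 n18069 = n8530 := d1_1 D18069 (iv4 D8530) D8528
theorem F29253 : act 7 n18069 = n8535 := d11_2 F13291 D18069 (iv4 D8535)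
def n18070 : Q := act 5 n8528
theorem D18070 : act 5 n8528 = n18070 := rfl
theorem F29254 : act 2 n18070 = n8531 := d2_1 D18070 (iv5 D8531) D8528
theorem F29255 : act 7 n18070 = n8536 := d13_2 F13291 D18070 (iv5 D8536)
def n18071 : Q := act 6 n8528
theorem D18071 : act 6 n8528 = n18071 := rfl
theorem F29256 : act 2 n18071 = n8532 := d3_1 D18071 (iv6 D8532) D8528
def n18072 : Q := act 0 n8529
theorem D18072 : act 0 n8529 = n18072 := rfl
def n18073 : Q := act 1 n8529
theorem D18073 : act 1 n8529 = n18073 := rfl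
def n18074 : Q := act 2 n8529
theorem D18074 : act 2 n8529 = n18074 := rfl
def n18075 : Q := act 4 n8529
theorem D18075 : act 4 n8529 = n18075 := rfl
def n18076 : Q := act 5 n8529
theorem D18076 : act 5 n8529 = n18076 := rfl
theorem F29257 : act 3 n18076 = n8531 := d6_1 D18076 (iv5 D8531) D8529
def n18077 : Q := act 6 n8529
theorem D18077 : act 6 n8529 = n18077 := rfl
theorem F29258 : act 3 n18077 = n8532 := d7_1 D18077 (iv6 D8532) D8529
def n18078 : Q := act 7 n8529
theorem D18078 : act 7 n8529 = n18078 := rfl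
theorem F29259 : act 3 n18078 = n8533 := d8_1 D18078 (iv7 D8533) D8529
def n18080 : Q := act 1 n8530
theorem D18080 : act 1 n8530 = n18080 := rfl
theorem F29260 : act 1 n18080 = n8535 := d15_1 D18080 (iv7 F29253) F29252
def n18083 : Q := act 6 n8530
theorem D18083 : act 6 n8530 = n18083 := rfl
theorem F29261 : act 4 n18083 = n8532 := d10_1 D18083 (iv6 D8532) D8530
def n18084 : Q := act 7 n8530
theorem D18084 : act 7 n8530 = n18084 := rfl
theorem F29263 : act 4 n18084 = n8533 := d11_1 D18084 (iv7 D8533) D8530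
def n18085 : Q := act 0 n8531
theorem D18085 : act 0 n8531 = n18085 := rfl
theorem F29265 : act 5 n18085 = n13305 := d21_2 D8531 D18085 (iv6 D13305) (iv1 D6310) (iv6 D2644) F2313 (iv1 F1411) D887 D1663 D3809
def n18086 : Q := act 1 n8531
theorem D18086 : act 1 n8531 = n18086 := rfl
theorem F29266 : act 1 n18086 = n8536 := d15_1 D18086 (iv7 F29255) F29254
def n18087 : Q := act 4 n8531
theorem D18087 : act 4 n8531 = n18087 := rfl
def n18088 : Q := act 6 n8531
theorem D18088 : act 6 n8531 = n18088 := rfl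
def n18089 : Q := act 7 n8531
theorem D18089 : act 7 n8531 = n18089 := rfl
theorem F29267 : act 2 n18089 = n8536 := d4_1 D18089 (iv7 F29255) F29254
theorem F29268 : act 5 n18089 = n8533 := d13_1 D18089 (iv7 D8533) D8531
theorem F29269 : act 1 n8536 = n18085 := d15_0 (iv0 D18085) D18089 F29267
theorem F29270 : act 0 n8537 = n12829 := d21_10 (iv5 D12829) (iv1 F9427) F5583 D3929 (iv1 F9820) D13305 (iv5 F29265) (iv1 F29269) (iv5 D8536) D8537
theorem E4092 : n17982 = n12830 := ((c21_4 F13669 F29270 (iv5 D12829) D12830 (iv1 D17982) (iv6 D8475) D8474 (iv1 F13696) (iv5 F13671) (iv6 D8797) D8794)).symm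
theorem F29271 : act 0 n12830 = n8475 := (sb E4092 (iv1 D17982))
def n18090 : Q := act 0 n8532
theorem D18090 : act 0 n8532 = n18090 := rfl
def n18091 : Q := act 1 n8532
theorem D18091 : act 1 n8532 = n18091 := rfl
def n18092 : Q := act 7 n8532
theorem D18092 : act 7 n8532 = n18092 := rfl
def n18093 : Q := act 6 n8533
theorem D18093 : act 6 n8533 = n18093 := rfl
theorem F29272 : act 2 n18093 = n8537 := d3_1 D18093 (iv6 D8537) (iv2 F13292)
def n18094 : Q := act 0 n8534
theorem D18094 : act 0 n8534 = n18094 := rfl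
def n18095 : Q := act 1 n8534
theorem D18095 : act 1 n8534 = n18095 := rfl
def n18096 : Q := act 2 n8534
theorem D18096 : act 2 n8534 = n18096 := rfl
def n18097 : Q := act 4 n8534
theorem D18097 : act 4 n8534 = n18097 := rfl
def n18098 : Q := act 5 n8534
theorem D18098 : act 5 n8534 = n18098 := rfl
theorem F29273 : act 3 n18098 = n8536 := d6_1 D18098 (iv5 D8536) D8534
def n18099 : Q := act 6 n8534
theorem D18099 : act 6 n8534 = n18099 := rfl
theorem F29274 : act 3 n18099 = n8537 := d7_1 D18099 (iv6 D8537) D8534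
def n18102 : Q := act 6 n8535
theorem D18102 : act 6 n8535 = n18102 := rfl
theorem F29275 : act 4 n18102 = n8537 := d10_1 D18102 (iv6 D8537) D8535
def n18103 : Q := act 4 n8536
theorem D18103 : act 4 n8536 = n18103 := rfl
def n18104 : Q := act 1 n8537
theorem D18104 : act 1 n8537 = n18104 := rfl
def n18105 : Q := act 7 n8537
theorem D18105 : act 7 n8537 = n18105 := rfl
def n18106 : Q := act 2 n8538
theorem D18106 : act 2 n8538 = n18106 := rfl
theorem F29276 : act 7 n8539 = n18106 := d15_2 (iv0 D8538) D8539 (iv2 D18106)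
def n18107 : Q := act 3 n8538
theorem D18107 : act 3 n8538 = n18107 := rfl
def n18108 : Q := act 4 n8538
theorem D18108 : act 4 n8538 = n18108 := rfl
def n18109 : Q := act 5 n8538
theorem D18109 : act 5 n8538 = n18109 := rfl
theorem F29277 : act 6 n18109 = n8800 := d12_2 (iv6 F21793) D18109 (iv5 F21794) (iv6 D13080) D13079
def n18110 : Q := act 7 n8538
theorem D18110 : act 7 n8538 = n18110 := rfl
theorem F29278 : act 2 n18110 = n8539 := d4_1 D18110 F29276 (iv2 D18106)
def n18111 : Q := act 3 n8539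
theorem D18111 : act 3 n8539 = n18111 := rfl
def n18112 : Q := act 4 n8539
theorem D18112 : act 4 n8539 = n18112 := rfl
def n18113 : Q := act 6 n8539
theorem D18113 : act 6 n8539 = n18113 := rfl
def n18114 : Q := act 0 n8540
theorem D18114 : act 0 n8540 = n18114 := rfl
def n18115 : Q := act 1 n8540
theorem D18115 : act 1 n8540 = n18115 := rfl
def n18116 : Q := act 3 n8540
theorem D18116 : act 3 n8540 = n18116 := rfl
theorem F29279 : act 6 n18116 = n8542 := d7_2 (iv6 F13293) D18116 (iv3 D8542)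
def n18117 : Q := act 5 n8540
theorem D18117 : act 5 n8540 = n18117 := rfl
def n18118 : Q := act 7 n8540
theorem D18118 : act 7 n8540 = n18118 := rfl
theorem F29280 : act 4 n18118 = n8541 := d11_1 D18118 (iv7 D8541) D8540
def n18119 : Q := act 0 n8542
theorem D18119 : act 0 n8542 = n18119 := rfl
def n18120 : Q := act 1 n8542
theorem D18120 : act 1 n8542 = n18120 := rfl
def n18121 : Q := act 2 n8542
theorem D18121 : act 2 n8542 = n18121 := rfl
theorem F29282 : act 7 n18121 = n18121 := d4_2 F13296 D18121 (iv2 D18121)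
theorem F29283 : act 1 n18121 = n18119 := d15_0 (iv0 D18119) F13296 D18121
theorem F29284 : act 1 n18120 = n18121 := d15_1 D18120 F29282 (iv2 D18121)
def n18122 : Q := act 3 n8543
theorem D18122 : act 3 n8543 = n18122 := rfl
theorem F29285 : act 5 n18122 = n10751 := d6_2 (iv5 F13299) D18122 (iv3 D10751)
theorem F29286 : act 7 n18122 = n8611 := d8_2 (iv7 F13298) D18122 (iv3 D8611)
def n18123 : Q := act 6 n8543
theorem D18123 : act 6 n8543 = n18123 := rfl
theorem F29287 : act 2 n18123 = n8664 := d3_1 D18123 (iv6 D8664) (iv2 F13297)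
theorem F29288 : act 4 n18123 = n8544 := d10_1 D18123 (iv6 D8544) D8543
def n18124 : Q := act 0 n8544
theorem D18124 : act 0 n8544 = n18124 := rfl
def n18125 : Q := act 1 n8544
theorem D18125 : act 1 n8544 = n18125 := rfl
theorem F29289 : act 1 n18125 = n8675 := d15_1 D18125 F13583 (iv2 F13302)
def n18126 : Q := act 5 n8544
theorem D18126 : act 5 n8544 = n18126 := rfl
theorem F29290 : act 2 n18126 = n8678 := d2_1 D18126 (iv5 D8678) (iv2 F13302)
theorem F29291 : act 6 n18126 = n8545 := d12_2 D8544 D18126 (iv5 D8545) (iv6 D3815) D3814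
def n18127 : Q := act 7 n8544
theorem D18127 : act 7 n8544 = n18127 := rfl
theorem F29292 : act 2 n18127 = n8675 := d4_1 D18127 F13583 (iv2 F13302)
theorem F29293 : act 6 n18127 = n8616 := d14_1 D18127 (iv7 D8616) (iv6 D3869) (iv7 F5804) D8544
theorem F29294 : act 1 n8675 = n18124 := d15_0 (iv0 D18124) D18127 F29292
theorem F29295 : act 1 n8677 = n18127 := d15_1 D8677 (iv7 D18127) F13302
theorem F29296 : act 1 n18127 = n8676 := d15_0 (iv0 D8676) (iv7 F13583) (iv2 F29292)
def n18128 : Q := act 4 n8545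
theorem D18128 : act 4 n8545 = n18128 := rfl
theorem F29297 : act 2 n18128 = n8687 := d1_1 D18128 (iv4 D8687) (iv2 F13303)
def n18129 : Q := act 4 n8546
theorem D18129 : act 4 n8546 = n18129 := rfl
def n18130 : Q := act 6 n8546
theorem D18130 : act 6 n8546 = n18130 := rfl
def n18131 : Q := act 6 n8548
theorem D18131 : act 6 n8548 = n18131 := rfl
theorem F29298 : act 2 n18131 = n8552 := d3_1 D18131 (iv6 D8552) (iv2 F13304)
theorem F29299 : act 5 n18131 = n18131 := d12_1 D18131 (iv6 D18131) (iv5 D8548) F7212 D8548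
def n18132 : Q := act 4 n8550
theorem D18132 : act 4 n8550 = n18132 := rfl
theorem F29300 : act 0 n18132 = n17087 := d18_2 (iv1 F27475) D18132 (iv4 D17087) (iv5 F13310) F6451 (iv0 F9670) F9669 (iv0 F13053) (iv5 F27472)
theorem F29301 : act 1 n18132 = n17089 := d18_6 F9468 (iv4 F5653) (iv1 F12814) (iv4 F12811) (iv5 F13306) D18132 (iv4 D17089) F13130 F13126
def n18133 : Q := act 6 n8550
theorem D18133 : act 6 n8550 = n18133 := rfl
theorem F29302 : act 3 n18133 = n17142 := d7_1 D18133 (iv6 D17142) F13307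
def n18134 : Q := act 3 n8551
theorem D18134 : act 3 n8551 = n18134 := rfl
theorem F29303 : act 4 n18134 = n8564 := d5_2 D8551 D18134 (iv3 D8564) (iv4 D3836) (iv3 F5817)
def n18135 : Q := act 5 n8551
theorem D18135 : act 5 n8551 = n18135 := rfl
theorem F29304 : act 0 n18135 = n17248 := d17_2 F28034 D18135 (iv5 D17248) (iv4 D8091) F5672 D3721 D8271 F13309 D17084
def n18136 : Q := act 6 n8551
theorem D18136 : act 6 n8551 = n18136 := rfl
theorem F29305 : act 4 n18136 = n8552 := d10_1 D18136 (iv6 D8552) D8551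
def n18137 : Q := act 0 n8552
theorem D18137 : act 0 n8552 = n18137 := rfl
def n18138 : Q := act 1 n8552
theorem D18138 : act 1 n8552 = n18138 := rfl
def n18139 : Q := act 7 n8552
theorem D18139 : act 7 n8552 = n18139 := rfl
theorem F29306 : act 3 n18139 = n8569 := d8_1 D18139 (iv7 D8569) (iv3 F13374)
theorem F29307 : act 5 n18139 = n18139 := d13_1 D18139 (iv7 D18139) F13375
def n18140 : Q := act 5 n8553
theorem D18140 : act 5 n8553 = n18140 := rfl
theorem F29308 : act 3 n18140 = n8570 := d6_1 D18140 (iv5 D8570) (iv3 F13376)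
def n18141 : Q := act 6 n8554
theorem D18141 : act 6 n8554 = n18141 := rfl
theorem F29310 : act 2 n18141 = n9730 := d3_1 D18141 (iv6 D9730) (iv2 F13378)
theorem F29311 : act 3 n18141 = n17882 := d7_1 D18141 (iv6 D17882) (iv3 F13379)
def n18142 : Q := act 5 n8555
theorem D18142 : act 5 n8555 = n18142 := rfl
theorem F29312 : act 2 n18142 = n9499 := d2_1 D18142 F16790 (iv2 F16788)
theorem F29313 : act 3 n18142 = n17883 := d6_1 D18142 (iv5 D17883) (iv3 F13384)
def n18143 : Q := act 6 n8556
theorem D18143 : act 6 n8556 = n18143 := rfl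
theorem F29314 : act 3 n18143 = n8559 := d7_1 D18143 (iv6 D8559) (iv3 F13386)
theorem F29315 : act 5 n18143 = n18143 := d12_1 D18143 (iv6 D18143) (iv5 D8556) F7203 D8556
def n18144 : Q := act 6 n8557
theorem D18144 : act 6 n8557 = n18144 := rfl
theorem F29316 : act 2 n18144 = n9367 := d3_1 D18144 (iv6 D9367) F13389
def n18145 : Q := act 3 n8558
theorem D18145 : act 3 n8558 = n18145 := rfl
theorem F29317 : act 5 n18145 = n10747 := d6_2 (iv5 F13392) D18145 (iv3 D10747)
theorem F29318 : act 7 n18145 = n9218 := d8_2 (iv7 F13400) D18145 (iv3 D9218)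
def n18146 : Q := act 6 n8558
theorem D18146 : act 6 n8558 = n18146 := rfl
theorem F29319 : act 2 n18146 = n9223 := d3_1 D18146 (iv6 D9223) (iv2 F13391)
theorem F29320 : act 4 n18146 = n8559 := d10_1 D18146 (iv6 D8559) D8558
def n18147 : Q := act 0 n8559
theorem D18147 : act 0 n8559 = n18147 := rfl
def n18148 : Q := act 1 n8559
theorem D18148 : act 1 n8559 = n18148 := rfl
def n18149 : Q := act 7 n8559
theorem D18149 : act 7 n8559 = n18149 := rfl
theorem F29321 : act 5 n18149 = n18149 := d13_1 D18149 (iv7 D18149) F13395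
def n18150 : Q := act 6 n8560
theorem D18150 : act 6 n8560 = n18150 := rfl
theorem F29322 : act 2 n18150 = n8582 := d3_1 D18150 (iv6 D8582) (iv2 F13396)
theorem F29323 : act 4 n18150 = n9220 := d10_1 D18150 (iv6 D9220) F13399
def n18151 : Q := act 5 n8561
theorem D18151 : act 5 n8561 = n18151 := rfl
theorem F29324 : act 2 n18151 = n8585 := d2_1 D18151 (iv5 D8585) (iv2 F13401)
theorem F29325 : act 7 n18151 = n18151 := d13_2 F13403 D18151 (iv5 D18151)
def n18152 : Q := act 3 n8562
theorem D18152 : act 3 n8562 = n18152 := rfl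
theorem F29327 : act 4 n18152 = n17755 := d5_2 (iv4 F13404) D18152 (iv3 D17755) (iv4 D8373) D8372
def n18153 : Q := act 5 n8562
theorem D18153 : act 5 n8562 = n18153 := rfl
theorem F29328 : act 4 n18153 = n10657 := d16_2 (iv4 F13404) D18153 F17206 F14360 (iv5 D4375) (iv4 F6038) D9160 F14277 (iv2 F13370)
def n18154 : Q := act 6 n8562
theorem D18154 : act 6 n8562 = n18154 := rfl
theorem F29329 : act 4 n18154 = n17754 := d10_1 D18154 (iv6 D17754) (iv4 F13404)
def n18155 : Q := act 3 n8563
theorem D18155 : act 3 n8563 = n18155 := rfl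
def n18156 : Q := act 5 n8563
theorem D18156 : act 5 n8563 = n18156 := rfl
theorem F29330 : act 4 n18156 = n10658 := d9_1 D18156 F17212 F14366 F13388 F12186 F13369 (iv4 F13404) D18153 F29328 F17206 F14360 (iv5 D4375) (iv4 F6038) D9160 F14280
def n18157 : Q := act 6 n8563
theorem D18157 : act 6 n8563 = n18157 := rfl
def n18158 : Q := act 1 n8564
theorem D18158 : act 1 n8564 = n18158 := rfl
def n18159 : Q := act 2 n8564
theorem D18159 : act 2 n8564 = n18159 := rfl
def n18160 : Q := act 6 n8564
theorem D18160 : act 6 n8564 = n18160 := rfl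
theorem F29331 : act 3 n18160 = n8566 := d7_1 D18160 (iv6 D8566) D8564
def n18161 : Q := act 0 n8565
theorem D18161 : act 0 n8565 = n18161 := rfl
theorem F29332 : act 5 n18161 = n8622 := d17_1 D18161 (iv1 F13537) D8636 F13545 (iv5 D4902) (iv0 D2022) D2025 D4914 (iv4 F13494)
theorem F29333 : act 1 n8587 = n18161 := d15_0 (iv0 D18161) (iv7 F27481) F27480
def n18162 : Q := act 1 n8565
theorem D18162 : act 1 n8565 = n18162 := rfl
theorem F29334 : act 1 n18162 = n8587 := d15_1 D18162 (iv7 F27506) F27504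
theorem F29335 : act 5 n18162 = n8623 := d17_7 (iv1 D1682) (iv5 D892) D889 D1671 D3836 D8565 D18162 F13538 (iv4 D3877)
def n18163 : Q := act 6 n8565
theorem D18163 : act 6 n8565 = n18163 := rfl
theorem F29336 : act 4 n18163 = n10750 := d10_1 D18163 (iv6 D10750) (iv4 F13494)
def n18164 : Q := act 0 n8566
theorem D18164 : act 0 n8566 = n18164 := rfl
def n18165 : Q := act 1 n8566
theorem D18165 : act 1 n8566 = n18165 := rfl
def n18166 : Q := act 5 n8566
theorem D18166 : act 5 n8566 = n18166 := rfl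
def n18167 : Q := act 7 n8566
theorem D18167 : act 7 n8566 = n18167 := rfl
theorem F29337 : act 4 n18167 = n8569 := d11_1 D18167 (iv7 D8569) (iv4 F13407)
def n18168 : Q := act 2 n8567
theorem D18168 : act 2 n8567 = n18168 := rfl
theorem F29338 : act 7 n8568 = n18168 := d15_2 (iv0 D8567) D8568 (iv2 D18168)
def n18169 : Q := act 3 n8567
theorem D18169 : act 3 n8567 = n18169 := rfl
def n18170 : Q := act 4 n8567
theorem D18170 : act 4 n8567 = n18170 := rfl
def n18171 : Q := act 5 n8567
theorem D18171 : act 5 n8567 = n18171 := rfl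
def n18172 : Q := act 6 n8567
theorem D18172 : act 6 n8567 = n18172 := rfl
def n18173 : Q := act 7 n8567
theorem D18173 : act 7 n8567 = n18173 := rfl
theorem F29339 : act 2 n18173 = n8568 := d4_1 D18173 F29338 (iv2 D18168)
def n18174 : Q := act 3 n8568
theorem D18174 : act 3 n8568 = n18174 := rfl
def n18175 : Q := act 4 n8568
theorem D18175 : act 4 n8568 = n18175 := rfl
def n18176 : Q := act 5 n8568
theorem D18176 : act 5 n8568 = n18176 := rfl
def n18177 : Q := act 6 n8568
theorem D18177 : act 6 n8568 = n18177 := rfl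
def n18178 : Q := act 4 n8570
theorem D18178 : act 4 n8570 = n18178 := rfl
theorem F29340 : act 2 n18178 = n8602 := d1_1 D18178 (iv4 D8602) (iv2 F13409)
def n18179 : Q := act 6 n8571
theorem D18179 : act 6 n8571 = n18179 := rfl
theorem F29342 : act 2 n18179 = n8577 := d3_1 D18179 (iv6 D8577) (iv2 F13411)
def n18180 : Q := act 5 n8572
theorem D18180 : act 5 n8572 = n18180 := rfl
theorem F29343 : act 2 n18180 = n8580 := d2_1 D18180 (iv5 D8580) (iv2 F13470)
theorem F29344 : act 7 n18180 = n18180 := d13_2 F13472 D18180 (iv5 D18180)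
theorem F29345 : act 0 n18180 = n17789 := d17_2 F17600 D18180 (iv5 D17789) (iv4 D8390) D8391 F16910 (iv5 D8365) F5753 D8385
theorem F29346 : act 1 n18180 = n17786 := d17_6 F17610 D18052 F29215 (iv5 D13111) (iv4 F13471) D18180 (iv5 D17786) F17601 (iv4 F13476)
def n18181 : Q := act 6 n8573
theorem D18181 : act 6 n8573 = n18181 := rfl
theorem F29347 : act 2 n18181 = n13110 := d3_1 D18181 (iv6 D13110) (iv2 F13473)
def n18182 : Q := act 5 n8574
theorem D18182 : act 5 n8574 = n18182 := rfl
def n18183 : Q := act 6 n8575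
theorem D18183 : act 6 n8575 = n18183 := rfl
theorem F29351 : act 2 n18183 = n17441 := d3_1 D18183 (iv6 D17441) F13479
def n18184 : Q := act 3 n8576
theorem D18184 : act 3 n8576 = n18184 := rfl
theorem F29352 : act 4 n18184 = n8586 := d5_2 D8576 D18184 (iv3 D8586) (iv4 D3851) (iv3 F5835)
def n18185 : Q := act 5 n8576
theorem D18185 : act 5 n8576 = n18185 := rfl
theorem F29353 : act 0 n18185 = n17185 := d17_2 (iv1 F13482) D18185 (iv5 D17185) (iv4 D8063) (iv5 F13439) F4185 D6190 F9641 D8303
theorem F29354 : act 1 n18185 = n10534 := d17_6 F28427 (iv5 D8355) F6668 D3847 D8576 D18185 F16732 D17175 (iv4 F28429)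
def n18186 : Q := act 6 n8576
theorem D18186 : act 6 n8576 = n18186 := rfl
theorem F29355 : act 4 n18186 = n8577 := d10_1 D18186 (iv6 D8577) D8576
def n18187 : Q := act 0 n8577
theorem D18187 : act 0 n8577 = n18187 := rfl
def n18188 : Q := act 1 n8577
theorem D18188 : act 1 n8577 = n18188 := rfl
def n18189 : Q := act 5 n8577
theorem D18189 : act 5 n8577 = n18189 := rfl
theorem F29356 : act 3 n18189 = n8591 := d6_1 D18189 (iv5 D8591) (iv3 F13484)
theorem F29357 : act 6 n18189 = n8580 := d12_2 D8577 D18189 (iv5 D8580) (iv6 D3848) D3847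
def n18190 : Q := act 7 n8577
theorem D18190 : act 7 n8577 = n18190 := rfl
theorem F29358 : act 3 n18190 = n8592 := d8_1 D18190 (iv7 D8592) (iv3 F13484)
def n18191 : Q := act 4 n8580
theorem D18191 : act 4 n8580 = n18191 := rfl
def n18192 : Q := act 3 n8581
theorem D18192 : act 3 n8581 = n18192 := rfl
theorem F29360 : act 5 n18192 = n10749 := d6_2 F13493 D18192 (iv3 D10749)
theorem F29361 : act 7 n18192 = n9221 := d8_2 (iv7 F13490) D18192 (iv3 D9221)
def n18193 : Q := act 6 n8581
theorem D18193 : act 6 n8581 = n18193 := rfl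
theorem F29362 : act 2 n18193 = n9220 := d3_1 D18193 (iv6 D9220) (iv2 F13489)
theorem F29363 : act 4 n18193 = n8582 := d10_1 D18193 (iv6 D8582) D8581
def n18194 : Q := act 0 n8582
theorem D18194 : act 0 n8582 = n18194 := rfl
def n18195 : Q := act 1 n8582
theorem D18195 : act 1 n8582 = n18195 := rfl
def n18196 : Q := act 5 n8582
theorem D18196 : act 5 n8582 = n18196 := rfl
theorem F29364 : act 6 n18196 = n8585 := d12_2 D8582 D18196 (iv5 D8585) (iv6 D3850) D3849
def n18197 : Q := act 7 n8582
theorem D18197 : act 7 n8582 = n18197 := rfl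
def n18198 : Q := act 5 n8584
theorem D18198 : act 5 n8584 = n18198 := rfl
theorem F29365 : act 2 n18198 = n9996 := d2_1 D18198 (iv5 D9996) (iv2 F17471)
theorem F29367 : act 0 n18198 = n8585 := d17_2 (iv1 F13496) D18198 (iv5 D8585) F5837 D3855 (iv0 F13506) (iv5 D8601) F7213 (iv4 F13402)
theorem F29368 : act 1 n18198 = n18151 := d17_6 (iv1 D4826) D4827 (iv1 F17023) (iv5 D10543) (iv4 F17433) D18198 (iv5 D18151) (iv0 F17437) F17438
theorem F29369 : act 4 n18198 = n10596 := d18_5 (iv1 D1995) (iv4 F3304) D4825 (iv4 F17433) D18198 (iv0 D10596) (iv4 D4847) (iv0 F6975) (iv5 D4844)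
def n18199 : Q := act 4 n8585
theorem D18199 : act 4 n8585 = n18199 := rfl
theorem F29371 : act 0 n18199 = n10077 := d18_2 F29367 D18199 (iv4 D10077) (iv5 D4584) (iv4 F5771) (iv0 F17440) (iv4 F5837) D8584 D18198
theorem F29372 : act 1 n18199 = n10594 := d18_6 (iv1 F7127) (iv4 F13605) (iv1 D3854) (iv4 F5837) D8585 D18199 (iv4 D10594) F7162 (iv5 D4810)
def n18200 : Q := act 0 n8586
theorem D18200 : act 0 n8586 = n18200 := rfl
def n18201 : Q := act 1 n8586
theorem D18201 : act 1 n8586 = n18201 := rfl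
def n18202 : Q := act 2 n8586
theorem D18202 : act 2 n8586 = n18202 := rfl
def n18203 : Q := act 5 n8586
theorem D18203 : act 5 n8586 = n18203 := rfl
theorem F29373 : act 3 n18203 = n8587 := d6_1 D18203 (iv5 D8587) D8586
def n18204 : Q := act 6 n8586
theorem D18204 : act 6 n8586 = n18204 := rfl
theorem F29374 : act 3 n18204 = n8588 := d7_1 D18204 (iv6 D8588) D8586
def n18205 : Q := act 6 n8587
theorem D18205 : act 6 n8587 = n18205 := rfl
theorem F29375 : act 4 n18205 = n10748 := d10_1 D18205 (iv6 D10748) (iv4 F13498)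
def n18206 : Q := act 0 n8588
theorem D18206 : act 0 n8588 = n18206 := rfl
def n18207 : Q := act 1 n8588
theorem D18207 : act 1 n8588 = n18207 := rfl
def n18208 : Q := act 5 n8588
theorem D18208 : act 5 n8588 = n18208 := rfl
def n18209 : Q := act 7 n8588
theorem D18209 : act 7 n8588 = n18209 := rfl
theorem F29376 : act 4 n18209 = n8592 := d11_1 D18209 (iv7 D8592) (iv4 F13499)
def n18210 : Q := act 2 n8589
theorem D18210 : act 2 n8589 = n18210 := rfl
theorem F29377 : act 7 n8590 = n18210 := d15_2 (iv0 D8589) D8590 (iv2 D18210)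
def n18212 : Q := act 4 n8589
theorem D18212 : act 4 n8589 = n18212 := rfl
def n18213 : Q := act 5 n8589
theorem D18213 : act 5 n8589 = n18213 := rfl
def n18214 : Q := act 6 n8589
theorem D18214 : act 6 n8589 = n18214 := rfl
def n18215 : Q := act 7 n8589
theorem D18215 : act 7 n8589 = n18215 := rfl
theorem F29378 : act 2 n18215 = n8590 := d4_1 D18215 F29377 (iv2 D18210)
def n18216 : Q := act 3 n8590
theorem D18216 : act 3 n8590 = n18216 := rfl
def n18217 : Q := act 4 n8590
theorem D18217 : act 4 n8590 = n18217 := rfl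
def n18218 : Q := act 5 n8590
theorem D18218 : act 5 n8590 = n18218 := rfl
def n18219 : Q := act 6 n8590
theorem D18219 : act 6 n8590 = n18219 := rfl
def n18220 : Q := act 0 n8591
theorem D18220 : act 0 n8591 = n18220 := rfl
def n18221 : Q := act 1 n8591
theorem D18221 : act 1 n8591 = n18221 := rfl
def n18222 : Q := act 4 n8591
theorem D18222 : act 4 n8591 = n18222 := rfl
theorem F29379 : act 6 n18222 = n8602 := d10_2 (iv6 F13500) D18222 (iv4 D8602)
def n18223 : Q := act 7 n8591
theorem D18223 : act 7 n8591 = n18223 := rfl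
theorem F29380 : act 5 n18223 = n8592 := d13_1 D18223 (iv7 D8592) D8591
theorem F29381 : act 6 n18223 = n18223 := d14_1 D18223 (iv7 D18223) F13500 F7193 (iv6 F13500)
def n18224 : Q := act 4 n8601
theorem D18224 : act 4 n8601 = n18224 := rfl
theorem F29382 : act 2 n18224 = n17872 := d1_1 D18224 (iv4 D17872) F17443
theorem F29384 : act 0 n18224 = n10548 := d18_2 (iv1 F13508) D18224 (iv4 D10548) (iv5 D4827) F3304 D1995 (iv4 F13605) F7213 D8570
def n18225 : Q := act 6 n8601
theorem D18225 : act 6 n8601 = n18225 := rfl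
theorem F29385 : act 2 n18225 = n17873 := d3_1 D18225 (iv6 D17873) F17443
def n18226 : Q := act 0 n8602
theorem D18226 : act 0 n8602 = n18226 := rfl
theorem F29386 : act 4 n18226 = n10547 := d18_3 F13506 D8602 D18226 (iv5 D10547) (iv4 F17438) (iv0 F17466) F5837 D3854 D8601
theorem F29388 : act 7 n18226 = n18226 := d11_0 F29386 F17626 (iv4 F29386)
def n18227 : Q := act 1 n8602
theorem D18227 : act 1 n8602 = n18227 := rfl
theorem F29390 : act 4 n18227 = n10543 := d18_7 D4825 (iv4 F17433) (iv1 D8584) F5837 D3855 D8602 D18227 F17023 (iv5 D4827)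
theorem F29391 : act 2 n18226 = n18227 := d1_3 F29390 (iv2 F17627) (iv4 F29386)
def n18228 : Q := act 3 n8602
theorem D18228 : act 3 n8602 = n18228 := rfl
def n18229 : Q := act 5 n8602
theorem D18229 : act 5 n8602 = n18229 := rfl
def n18230 : Q := act 4 n8603
theorem D18230 : act 4 n8603 = n18230 := rfl
theorem F29395 : act 2 n18230 = n17175 := d1_1 D18230 (iv4 F28429) F28424
theorem F29396 : act 7 n18230 = n8633 := d11_2 (iv7 F13511) D18230 (iv4 D8633)
theorem F29397 : act 0 n18230 = n12955 := d18_2 (iv1 F21592) D18230 (iv4 D12955) F13342 D6187 (iv0 F9635) (iv4 F6430) (iv0 F6757) D10285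
theorem F29398 : act 1 n18230 = n12952 := d18_6 D2588 D6143 F13894 F13891 (iv5 F13510) D18230 (iv4 D12952) (iv0 D6153) (iv5 D2591)
def n18231 : Q := act 6 n8603
theorem D18231 : act 6 n8603 = n18231 := rfl
theorem F29399 : act 3 n18231 = n8605 := d7_1 D18231 (iv6 D8605) D8603
def n18232 : Q := act 3 n8604
theorem D18232 : act 3 n8604 = n18232 := rfl
theorem F29400 : act 7 n18232 = n8635 := d8_2 (iv7 F13513) D18232 (iv3 D8635)
def n18233 : Q := act 5 n8604
theorem D18233 : act 5 n8604 = n18233 := rfl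
theorem F29401 : act 2 n18233 = n8625 := d2_1 D18233 (iv5 D8625) (iv2 F13512)
theorem F29402 : act 7 n18233 = n8636 := d13_2 (iv7 F13513) D18233 (iv5 D8636)
theorem F29403 : act 4 n18233 = n10621 := d16_2 D8604 D18233 (iv5 D10621) (iv4 F15123) (iv5 D9694) (iv4 F12294) (iv5 F12297) F12298 (iv2 F12289)
theorem F29404 : act 0 n18233 = n18156 := d17_2 F16660 D18233 (iv5 D18156) (iv4 F14280) (iv5 D9160) (iv0 D4118) D4121 (iv0 F7236) D10460
theorem F29405 : act 1 n18233 = n18153 := d17_6 (iv1 F6941) (iv5 D3550) F12288 (iv5 F12290) D8604 D18233 (iv5 D18153) (iv0 D8562) (iv4 D3836)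
def n18234 : Q := act 6 n8604
theorem D18234 : act 6 n8604 = n18234 := rfl
theorem F29406 : act 2 n18234 = n8626 := d3_1 D18234 (iv6 D8626) (iv2 F13512)
theorem F29407 : act 4 n18234 = n8605 := d10_1 D18234 (iv6 D8605) D8604
def n18235 : Q := act 0 n8605
theorem D18235 : act 0 n8605 = n18235 := rfl
theorem F29408 : act 6 n18235 = n18176 := d21_5 (iv5 D3550) F12288 (iv5 F12290) D8605 D18235 (iv5 D18176) (iv1 D8568) F7215 (iv6 D3837) (iv1 F6941)
def n18236 : Q := act 1 n8605
theorem D18236 : act 1 n8605 = n18236 := rfl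
theorem F29409 : act 1 n18236 = n8630 := d15_1 D18236 (iv7 D8630) (iv2 F13514)
def n18237 : Q := act 5 n8605
theorem D18237 : act 5 n8605 = n18237 := rfl
theorem F29410 : act 2 n18237 = n8629 := d2_1 D18237 (iv5 D8629) (iv2 F13514)
theorem F29411 : act 6 n18237 = n16713 := d12_2 D8605 D18237 (iv5 D16713) (iv6 D7802) (iv5 F12290)
def n18238 : Q := act 7 n8605
theorem D18238 : act 7 n8605 = n18238 := rfl
theorem F29412 : act 2 n18238 = n8630 := d4_1 D18238 (iv7 D8630) (iv2 F13514)
theorem F29413 : act 6 n18238 = n8641 := d14_1 D18238 (iv7 D8641) (iv6 D3879) (iv7 F12291) D8605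
theorem F29415 : act 1 n8628 = n18238 := d15_1 D8628 (iv7 D18238) F13514
theorem F29416 : act 1 n18238 = n8627 := d15_0 (iv0 D8627) D8630 (iv2 F29412)
def n18239 : Q := act 4 n8606
theorem D18239 : act 4 n8606 = n18239 := rfl
theorem F29417 : act 2 n18239 = n17247 := d1_1 D18239 F28199 F28016
theorem F29418 : act 7 n18239 = n8620 := d11_2 (iv7 F13516) D18239 (iv4 D8620)
theorem F29419 : act 0 n18239 = n8848 := d18_2 F28637 D18239 (iv4 D8848) (iv5 D3942) F2888 D3940 (iv4 F6434) (iv0 F13100) D17610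
theorem F29420 : act 1 n18239 = n17245 := d18_6 (iv1 F9461) F5654 (iv1 F9467) F12340 (iv5 F13515) D18239 (iv4 D17245) F13759 (iv5 F13764)
def n18240 : Q := act 6 n8606
theorem D18240 : act 6 n8606 = n18240 := rfl
theorem F29421 : act 3 n18240 = n8608 := d7_1 D18240 (iv6 D8608) D8606
def n18241 : Q := act 3 n8607
theorem D18241 : act 3 n8607 = n18241 := rfl
theorem F29422 : act 7 n18241 = n8624 := d8_2 (iv7 F13518) D18241 (iv3 D8624)
def n18242 : Q := act 5 n8607
theorem D18242 : act 5 n8607 = n18242 := rfl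
theorem F29423 : act 2 n18242 = n8636 := d2_1 D18242 (iv5 D8636) (iv2 F13517)
theorem F29424 : act 4 n18242 = n10618 := d9_1 D18242 (iv5 D10618) (iv4 F7006) (iv5 F7007) (iv4 F12286) (iv5 F12290) D8604 D18233 F29403 (iv5 D10621) (iv4 F15123) (iv5 D9694) (iv4 F12294) (iv5 F12297) D8607
theorem F29425 : act 7 n18242 = n8625 := d13_2 (iv7 F13518) D18242 (iv5 D8625)
theorem F29426 : act 0 n18242 = n18153 := d17_2 F16652 D18242 (iv5 D18153) F13404 (iv5 F13369) F6042 D4140 (iv0 F7111) D10454
theorem F29427 : act 1 n18242 = n18156 := d17_6 (iv1 F6939) F5577 (iv1 F12293) (iv5 F12297) D8607 D18242 (iv5 D18156) F13406 (iv4 D3851)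
theorem F29428 : act 3 n16061 = n18242 := d5_5 F29424 (iv3 F27216) (iv4 D15678) D15677 F25586
theorem F29429 : act 5 n18241 = n16061 := d6_0 F29428 (iv5 D18242) D18241
def n18243 : Q := act 6 n8607
theorem D18243 : act 6 n8607 = n18243 := rfl
theorem F29430 : act 2 n18243 = n8637 := d3_1 D18243 (iv6 D8637) (iv2 F13517)
theorem F29431 : act 4 n18243 = n8608 := d10_1 D18243 (iv6 D8608) D8607
def n18244 : Q := act 0 n8608
theorem D18244 : act 0 n8608 = n18244 := rfl
def n18245 : Q := act 1 n8608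
theorem D18245 : act 1 n8608 = n18245 := rfl
theorem F29432 : act 1 n18245 = n8641 := d15_1 D18245 (iv7 D8641) (iv2 F13519)
def n18246 : Q := act 5 n8608
theorem D18246 : act 5 n8608 = n18246 := rfl
theorem F29433 : act 2 n18246 = n8640 := d2_1 D18246 (iv5 D8640) (iv2 F13519)
theorem F29434 : act 6 n18246 = n8681 := d12_2 D8608 D18246 (iv5 D8681) (iv6 F12295) (iv5 F12297)
def n18247 : Q := act 7 n8608
theorem D18247 : act 7 n8608 = n18247 := rfl
theorem F29435 : act 2 n18247 = n8641 := d4_1 D18247 (iv7 D8641) (iv2 F13519)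
theorem F29436 : act 6 n18247 = n8630 := d14_1 D18247 (iv7 D8630) (iv6 D3874) (iv7 F12298) D8608
theorem F29437 : act 1 n8641 = n18244 := d15_0 (iv0 D18244) D18247 F29435
theorem F29438 : act 1 n8639 = n18247 := d15_1 D8639 (iv7 D18247) F13519
theorem F29439 : act 1 n18247 = n8638 := d15_0 (iv0 D8638) D8641 (iv2 F29435)
def n18248 : Q := act 6 n8609
theorem D18248 : act 6 n8609 = n18248 := rfl
theorem F29440 : act 2 n18248 = n8645 := d3_1 D18248 (iv6 D8645) (iv2 F13848)
def n18249 : Q := act 3 n8610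
theorem D18249 : act 3 n8610 = n18249 := rfl
theorem F29441 : act 7 n18249 = n8643 := d8_2 (iv7 F13852) D18249 (iv3 D8643)
def n18250 : Q := act 5 n8610
theorem D18250 : act 5 n8610 = n18250 := rfl
theorem F29442 : act 2 n18250 = n8648 := d2_1 D18250 (iv5 D8648) (iv2 F13851)
theorem F29443 : act 4 n18250 = n10603 := d9_1 D18250 (iv5 D10603) (iv4 D4851) (iv5 F6983) D4108 (iv5 F13845) F13847 F28669 F28666 (iv5 D10611) (iv4 D4856) (iv5 F6987) (iv4 F6046) (iv5 F14311) F14310
theorem F29444 : act 7 n18250 = n8644 := d13_2 (iv7 F13852) D18250 (iv5 D8644)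
theorem F29445 : act 0 n18250 = n16732 := d17_2 (iv1 F13521) D18250 (iv5 D16732) (iv4 D7818) (iv5 D3550) (iv0 F12292) (iv5 F12297) F5841 (iv4 F5848)
theorem F29446 : act 1 n18250 = n16768 := d17_6 (iv1 F6874) (iv5 F12103) (iv1 F12104) (iv5 F14311) F14310 D18250 F27540 F12385 (iv4 D4823)
def n18251 : Q := act 6 n8610
theorem D18251 : act 6 n8610 = n18251 := rfl
theorem F29447 : act 2 n18251 = n8649 := d3_1 D18251 (iv6 D8649) (iv2 F13851)
def n18252 : Q := act 0 n8611
theorem D18252 : act 0 n8611 = n18252 := rfl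
def n18253 : Q := act 1 n8611
theorem D18253 : act 1 n8611 = n18253 := rfl
def n18254 : Q := act 2 n8611
theorem D18254 : act 2 n8611 = n18254 := rfl
theorem F29448 : act 3 n18254 = n8652 := d0_2 D8611 D18254 (iv2 D8652) (iv3 D3882) (iv2 F5842)
def n18255 : Q := act 5 n8611
theorem D18255 : act 5 n8611 = n18255 := rfl
theorem F29449 : act 3 n18255 = n8612 := d6_1 D18255 (iv5 D8612) D8611
theorem F29450 : act 7 n18255 = n10751 := d13_2 F29286 D18255 (iv5 F29285)
def n18256 : Q := act 6 n8611
theorem D18256 : act 6 n8611 = n18256 := rfl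
theorem F29451 : act 3 n18256 = n8613 := d7_1 D18256 (iv6 D8613) D8611
def n18257 : Q := act 6 n8612
theorem D18257 : act 6 n8612 = n18257 := rfl
theorem F29452 : act 2 n18257 = n8658 := d3_1 D18257 (iv6 D8658) (iv2 F13522)
theorem F29453 : act 4 n18257 = n10757 := d10_1 D18257 (iv6 D10757) (iv4 F13524)
def n18258 : Q := act 0 n8613
theorem D18258 : act 0 n8613 = n18258 := rfl
def n18259 : Q := act 1 n8613
theorem D18259 : act 1 n8613 = n18259 := rfl
theorem F29454 : act 1 n18259 = n8663 := d15_1 D18259 (iv7 D8663) (iv2 F13525)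
def n18260 : Q := act 5 n8613
theorem D18260 : act 5 n8613 = n18260 := rfl
theorem F29455 : act 2 n18260 = n8662 := d2_1 D18260 (iv5 D8662) (iv2 F13525)
def n18261 : Q := act 7 n8613
theorem D18261 : act 7 n8613 = n18261 := rfl
theorem F29456 : act 2 n18261 = n8663 := d4_1 D18261 (iv7 D8663) (iv2 F13525)
theorem F29457 : act 4 n18261 = n8616 := d11_1 D18261 (iv7 D8616) (iv4 F13526)
theorem F29458 : act 1 n8663 = n18258 := d15_0 (iv0 D18258) D18261 F29456
theorem F29459 : act 1 n8661 = n18261 := d15_1 D8661 (iv7 D18261) F13525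
theorem F29460 : act 1 n18261 = n8660 := d15_0 (iv0 D8660) D8663 (iv2 F29456)
def n18262 : Q := act 2 n8614
theorem D18262 : act 2 n8614 = n18262 := rfl
theorem F29461 : act 7 n8615 = n18262 := d15_2 (iv0 D8614) D8615 (iv2 D18262)
def n18263 : Q := act 3 n8614
theorem D18263 : act 3 n8614 = n18263 := rfl
def n18264 : Q := act 4 n8614
theorem D18264 : act 4 n8614 = n18264 := rfl
def n18265 : Q := act 5 n8614
theorem D18265 : act 5 n8614 = n18265 := rfl
def n18266 : Q := act 7 n8614
theorem D18266 : act 7 n8614 = n18266 := rfl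
theorem F29462 : act 2 n18266 = n8615 := d4_1 D18266 F29461 (iv2 D18262)
def n18267 : Q := act 3 n8615
theorem D18267 : act 3 n8615 = n18267 := rfl
def n18268 : Q := act 4 n8615
theorem D18268 : act 4 n8615 = n18268 := rfl
def n18269 : Q := act 6 n8615
theorem D18269 : act 6 n8615 = n18269 := rfl
def n18270 : Q := act 4 n8619
theorem D18270 : act 4 n8619 = n18270 := rfl
theorem F29463 : act 2 n18270 = n8620 := d1_1 D18270 (iv4 D8620) D8619
theorem F29464 : act 7 n18270 = n17247 := d11_2 F28018 D18270 F28199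
theorem F29465 : act 0 n18270 = n17245 := d18_2 F21748 D18270 (iv4 D17245) F12872 F5730 F5875 F6451 (iv0 F9670) D13047
theorem F29466 : act 1 n18270 = n8848 := d18_6 (iv1 D6089) F4089 D6088 F12344 (iv5 F13532) D18270 (iv4 D8848) D8847 F13761
def n18271 : Q := act 6 n8619
theorem D18271 : act 6 n8619 = n18271 := rfl
theorem F29467 : act 2 n18271 = n8621 := d3_1 D18271 (iv6 D8621) D8619
def n18272 : Q := act 1 n8620
theorem D18272 : act 1 n8620 = n18272 := rfl
theorem F29468 : act 1 n18272 = n17247 := d15_1 D18272 (iv7 F29464) F29463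
theorem F29469 : act 7 n18272 = n17245 := d15_2 (iv0 F13533) D18272 F28197
theorem F29470 : act 4 n18272 = n8845 := d18_7 (iv1 F9466) F9463 F9468 (iv4 F5653) F7230 D8620 D18272 (iv0 F13767) (iv5 D7989)
theorem F29471 : act 2 n8848 = n18272 := d1_3 F29470 F13753 D8848
def n18273 : Q := act 3 n8620
theorem D18273 : act 3 n8620 = n18273 := rfl
theorem F29472 : act 4 n18273 = n8624 := d5_2 D8620 D18273 (iv3 D8624) (iv4 D3872) D3871
def n18274 : Q := act 5 n8620
theorem D18274 : act 5 n8620 = n18274 := rfl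
theorem F29473 : act 0 n18274 = n17092 := d17_2 (iv1 D18272) D18274 (iv5 D17092) (iv4 D7998) (iv5 D3619) D3617 D7992 (iv0 F13756) (iv4 F29470)
def n18275 : Q := act 6 n8620
theorem D18275 : act 6 n8620 = n18275 := rfl
theorem F29474 : act 4 n18275 = n8621 := d10_1 D18275 (iv6 D8621) D8620
def n18276 : Q := act 0 n8621
theorem D18276 : act 0 n8621 = n18276 := rfl
def n18277 : Q := act 1 n8621
theorem D18277 : act 1 n8621 = n18277 := rfl
def n18278 : Q := act 5 n8621
theorem D18278 : act 5 n8621 = n18278 := rfl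
theorem F29475 : act 3 n18278 = n8629 := d6_1 D18278 (iv5 D8629) (iv3 F13535)
theorem F29476 : act 6 n18278 = n16718 := d12_2 D8621 D18278 (iv5 D16718) (iv6 D7806) F7230
def n18279 : Q := act 7 n8621
theorem D18279 : act 7 n8621 = n18279 := rfl
theorem F29477 : act 3 n18279 = n8630 := d8_1 D18279 (iv7 D8630) (iv3 F13535)
def n18280 : Q := act 3 n8622
theorem D18280 : act 3 n8622 = n18280 := rfl
theorem F29478 : act 4 n18280 = n17468 := d5_2 (iv4 F13536) D18280 (iv3 D17468) (iv4 D8219) D8218
def n18281 : Q := act 6 n8622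
theorem D18281 : act 6 n8622 = n18281 := rfl
theorem F29479 : act 4 n18281 = n17467 := d10_1 D18281 (iv6 D17467) (iv4 F13536)
def n18282 : Q := act 3 n8623
theorem D18282 : act 3 n8623 = n18282 := rfl
def n18283 : Q := act 6 n8623
theorem D18283 : act 6 n8623 = n18283 := rfl
def n18284 : Q := act 1 n8624
theorem D18284 : act 1 n8624 = n18284 := rfl
def n18285 : Q := act 2 n8624
theorem D18285 : act 2 n8624 = n18285 := rfl
def n18286 : Q := act 5 n8624
theorem D18286 : act 5 n8624 = n18286 := rfl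
theorem F29480 : act 3 n18286 = n8625 := d6_1 D18286 (iv5 D8625) D8624
theorem F29481 : act 7 n18286 = n16061 := d13_2 F29422 D18286 (iv5 F29429)
theorem F29482 : act 1 n18286 = n16028 := d17_8 (iv1 F26761) (iv5 D8164) (iv1 D3674) (iv5 F5431) D7598 D16357 (iv0 F25863) D18286 (iv4 D16028)
theorem F29483 : act 4 n15334 = n18286 := d18_5 (iv1 F9441) (iv4 F20085) (iv1 F20089) (iv4 F12914) D15334 F29482 (iv4 D16028) (iv0 F26755) (iv5 D8159)
theorem F29484 : act 0 n18286 = n12595 := d20_7 (iv4 F2764) F2766 (iv4 F4000) (iv3 F9274) (iv1 F20919) (iv3 F24912) F29483 (iv4 D12595) F9296 F4016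
theorem F29485 : act 2 n18286 = n16060 := d15_3 (iv0 D16060) D16061 (iv7 F29481)
theorem F29486 : act 5 n16060 = n18285 := d2_2 D18286 F29485 (iv2 D18285)
def n18287 : Q := act 6 n8624
theorem D18287 : act 6 n8624 = n18287 := rfl
theorem F29487 : act 3 n18287 = n8626 := d7_1 D18287 (iv6 D8626) D8624
def n18288 : Q := act 0 n8625
theorem D18288 : act 0 n8625 = n18288 := rfl
theorem F29488 : act 5 n18288 = n10473 := d17_1 D18288 F16684 D16751 F27505 (iv5 D9219) (iv0 D4172) D4175 (iv0 F7327) (iv4 F13539)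
theorem F29489 : act 4 n18288 = n10483 := d18_1 D18288 (iv1 F17116) (iv4 F29443) (iv5 D18250) (iv4 F14310) (iv0 F14312) (iv4 F13536) (iv0 D8622) D8625
theorem F29490 : act 1 n8636 = n18288 := d15_0 (iv0 D18288) (iv7 F29425) F29423
theorem F29491 : act 2 n18156 = n18288 := d1_3 F29489 F17213 (iv4 F29330)
theorem F29492 : act 7 n18153 = n18288 := d11_0 F29489 F17209 (iv4 F29328)
def n18289 : Q := act 1 n8625
theorem D18289 : act 1 n8625 = n18289 := rfl
theorem F29493 : act 1 n18289 = n8636 := d15_1 D18289 (iv7 F29402) F29401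
theorem F29494 : act 7 n18289 = n18156 := d15_2 (iv0 D18288) D18289 F29491
theorem F29495 : act 5 n18289 = n10471 := d17_7 (iv1 D3552) (iv5 D1565) D1562 (iv5 F7229) D3872 D8625 D18289 F16681 (iv4 D7824)
theorem F29496 : act 4 n18289 = n10486 := d18_7 D10601 F17108 F13380 (iv4 D4906) D4907 (iv4 F13539) D18289 (iv0 F17115) (iv5 D10603)
theorem F29497 : act 2 n18153 = n18289 := d1_3 F29496 F17208 (iv4 F29328)
def n18290 : Q := act 6 n8625
theorem D18290 : act 6 n8625 = n18290 := rfl
theorem F29498 : act 4 n18290 = n10730 := d10_1 D18290 (iv6 D10730) (iv4 F13539)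
def n18291 : Q := act 0 n8626
theorem D18291 : act 0 n8626 = n18291 := rfl
def n18292 : Q := act 1 n8626
theorem D18292 : act 1 n8626 = n18292 := rfl
def n18293 : Q := act 5 n8626
theorem D18293 : act 5 n8626 = n18293 := rfl
def n18294 : Q := act 7 n8626
theorem D18294 : act 7 n8626 = n18294 := rfl
theorem F29499 : act 4 n18294 = n8630 := d11_1 D18294 (iv7 D8630) (iv4 F13540)
def n18295 : Q := act 2 n8627
theorem D18295 : act 2 n8627 = n18295 := rfl
theorem F29500 : act 7 n8628 = n18295 := d15_2 (iv0 D8627) D8628 (iv2 D18295)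
def n18296 : Q := act 3 n8627
theorem D18296 : act 3 n8627 = n18296 := rfl
def n18297 : Q := act 4 n8627
theorem D18297 : act 4 n8627 = n18297 := rfl
def n18298 : Q := act 5 n8627
theorem D18298 : act 5 n8627 = n18298 := rfl
def n18299 : Q := act 6 n8627
theorem D18299 : act 6 n8627 = n18299 := rfl
theorem F29501 : act 5 n18299 = n16754 := d21_6 (iv5 D1565) D1562 (iv5 F7229) D3874 D8627 D18299 (iv1 D16754) F12374 (iv6 D7825) (iv1 D3552)
def n18300 : Q := act 7 n8627
theorem D18300 : act 7 n8627 = n18300 := rfl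
theorem F29502 : act 2 n18300 = n8628 := d4_1 D18300 F29500 (iv2 D18295)
def n18301 : Q := act 3 n8628
theorem D18301 : act 3 n8628 = n18301 := rfl
def n18302 : Q := act 4 n8628
theorem D18302 : act 4 n8628 = n18302 := rfl
def n18303 : Q := act 5 n8628
theorem D18303 : act 5 n8628 = n18303 := rfl
def n18304 : Q := act 6 n8628
theorem D18304 : act 6 n8628 = n18304 := rfl
def n18305 : Q := act 0 n8629
theorem D18305 : act 0 n8629 = n18305 := rfl
def n18306 : Q := act 1 n8629
theorem D18306 : act 1 n8629 = n18306 := rfl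
theorem F29503 : act 5 n18214 = n18306 := d21_6 (iv5 D3814) (iv1 F2856) D1676 D3852 D8589 D18214 (iv1 D18306) (iv5 D8629) (iv6 D3874) (iv1 F5806)
def n18307 : Q := act 4 n8629
theorem D18307 : act 4 n8629 = n18307 := rfl
theorem F29504 : act 6 n18307 = n16724 := d10_2 (iv6 F13541) D18307 (iv4 D16724)
def n18308 : Q := act 7 n8629
theorem D18308 : act 7 n8629 = n18308 := rfl
theorem F29505 : act 5 n18308 = n8630 := d13_1 D18308 (iv7 D8630) D8629
def n18309 : Q := act 4 n8632
theorem D18309 : act 4 n8632 = n18309 := rfl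
theorem F29506 : act 2 n18309 = n8633 := d1_1 D18309 (iv4 D8633) D8632
theorem F29507 : act 7 n18309 = n17175 := d11_2 F28426 D18309 (iv4 F28429)
theorem F29508 : act 0 n18309 = n12952 := d18_2 (iv1 F21593) D18309 (iv4 D12952) F13345 D6182 (iv0 F9632) F6465 (iv0 F9597) D12987
theorem F29509 : act 1 n18309 = n12955 := d18_6 (iv1 F4153) D6148 F12770 (iv4 F12350) (iv5 F13542) D18309 (iv4 D12955) F9574 (iv5 D3638)
def n18310 : Q := act 6 n8632
theorem D18310 : act 6 n8632 = n18310 := rfl
theorem F29510 : act 2 n18310 = n8634 := d3_1 D18310 (iv6 D8634) D8632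
def n18311 : Q := act 3 n8633
theorem D18311 : act 3 n8633 = n18311 := rfl
theorem F29511 : act 4 n18311 = n8635 := d5_2 D8633 D18311 (iv3 D8635) (iv4 D3877) D3876
def n18312 : Q := act 5 n8633
theorem D18312 : act 5 n8633 = n18312 := rfl
theorem F29512 : act 0 n18312 = n17157 := d17_2 (iv1 F13543) D18312 (iv5 D17157) (iv4 D8044) (iv5 D3636) F4154 D6151 F9569 D8058
theorem F29513 : act 1 n18312 = n8647 := d17_6 F13412 (iv5 D8199) (iv1 F12204) F7226 D8633 D18312 F13555 D17145 F28093
def n18313 : Q := act 6 n8633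
theorem D18313 : act 6 n8633 = n18313 := rfl
theorem F29514 : act 4 n18313 = n8634 := d10_1 D18313 (iv6 D8634) D8633
def n18314 : Q := act 0 n8634
theorem D18314 : act 0 n8634 = n18314 := rfl
def n18315 : Q := act 1 n8634
theorem D18315 : act 1 n8634 = n18315 := rfl
def n18316 : Q := act 5 n8634
theorem D18316 : act 5 n8634 = n18316 := rfl
theorem F29515 : act 3 n18316 = n8640 := d6_1 D18316 (iv5 D8640) (iv3 F13544)
theorem F29516 : act 6 n18316 = n16728 := d12_2 D8634 D18316 (iv5 D16728) (iv6 D7815) F7226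
def n18317 : Q := act 7 n8634
theorem D18317 : act 7 n8634 = n18317 := rfl
theorem F29517 : act 3 n18317 = n8641 := d8_1 D18317 (iv7 D8641) (iv3 F13544)
def n18318 : Q := act 0 n8635
theorem D18318 : act 0 n8635 = n18318 := rfl
def n18319 : Q := act 1 n8635
theorem D18319 : act 1 n8635 = n18319 := rfl
def n18320 : Q := act 2 n8635
theorem D18320 : act 2 n8635 = n18320 := rfl
def n18321 : Q := act 5 n8635
theorem D18321 : act 5 n8635 = n18321 := rfl
theorem F29518 : act 3 n18321 = n8636 := d6_1 D18321 (iv5 D8636) D8635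
theorem F29519 : act 4 n18200 = n18321 := d20_8 F29496 (iv1 F17137) (iv4 F28666) (iv3 D17624) (iv1 F13482) D18184 F29352 D18200 F29518 (iv1 F29493)
def n18322 : Q := act 6 n8635
theorem D18322 : act 6 n8635 = n18322 := rfl
theorem F29520 : act 3 n18322 = n8637 := d7_1 D18322 (iv6 D8637) D8635
def n18323 : Q := act 6 n8636
theorem D18323 : act 6 n8636 = n18323 := rfl
theorem F29521 : act 4 n18323 = n10718 := d10_1 D18323 (iv6 D10718) (iv4 F13545)
def n18324 : Q := act 0 n8637
theorem D18324 : act 0 n8637 = n18324 := rfl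
def n18325 : Q := act 1 n8637
theorem D18325 : act 1 n8637 = n18325 := rfl
def n18326 : Q := act 5 n8637
theorem D18326 : act 5 n8637 = n18326 := rfl
def n18327 : Q := act 7 n8637
theorem D18327 : act 7 n8637 = n18327 := rfl
theorem F29522 : act 4 n18327 = n8641 := d11_1 D18327 (iv7 D8641) (iv4 F13546)
def n18328 : Q := act 2 n8638
theorem D18328 : act 2 n8638 = n18328 := rfl
theorem F29523 : act 7 n8639 = n18328 := d15_2 (iv0 D8638) D8639 (iv2 D18328)
def n18329 : Q := act 3 n8638
theorem D18329 : act 3 n8638 = n18329 := rfl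
def n18330 : Q := act 4 n8638
theorem D18330 : act 4 n8638 = n18330 := rfl
def n18331 : Q := act 5 n8638
theorem D18331 : act 5 n8638 = n18331 := rfl
def n18332 : Q := act 6 n8638
theorem D18332 : act 6 n8638 = n18332 := rfl
def n18333 : Q := act 7 n8638
theorem D18333 : act 7 n8638 = n18333 := rfl
theorem F29524 : act 2 n18333 = n8639 := d4_1 D18333 F29523 (iv2 D18328)
def n18334 : Q := act 3 n8639
theorem D18334 : act 3 n8639 = n18334 := rfl
def n18335 : Q := act 4 n8639
theorem D18335 : act 4 n8639 = n18335 := rfl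
def n18336 : Q := act 5 n8639
theorem D18336 : act 5 n8639 = n18336 := rfl
theorem F29525 : act 6 n18305 = n18336 := d21_5 (iv5 D8140) (iv1 F17500) D7811 (iv6 F13541) D18305 (iv5 D18336) (iv1 D8639) D8640 F13547 (iv1 F17606)
def n18337 : Q := act 6 n8639
theorem D18337 : act 6 n8639 = n18337 := rfl
def n18338 : Q := act 0 n8640
theorem D18338 : act 0 n8640 = n18338 := rfl
def n18339 : Q := act 1 n8640
theorem D18339 : act 1 n8640 = n18339 := rfl
theorem F29526 : act 5 n18172 = n18339 := d21_6 (iv5 D892) D889 D1671 D3837 D8567 D18172 (iv1 D18339) (iv5 D8640) (iv6 D3879) (iv1 D1682)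
def n18340 : Q := act 4 n8640
theorem D18340 : act 4 n8640 = n18340 := rfl
theorem F29527 : act 6 n18340 = n16730 := d10_2 (iv6 F13547) D18340 (iv4 D16730)
def n18341 : Q := act 7 n8640
theorem D18341 : act 7 n8640 = n18341 := rfl
theorem F29528 : act 5 n18341 = n8641 := d13_1 D18341 (iv7 D8641) D8640
def n18342 : Q := act 0 n8643
theorem D18342 : act 0 n8643 = n18342 := rfl
def n18343 : Q := act 1 n8643
theorem D18343 : act 1 n8643 = n18343 := rfl
def n18344 : Q := act 2 n8643
theorem D18344 : act 2 n8643 = n18344 := rfl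
theorem F29529 : act 3 n18344 = n17157 := d0_2 D8643 D18344 (iv2 F28672) F28673 F13848
theorem F29530 : act 5 n17156 = n18344 := d6_0 F29529 (iv5 D17157) D17156
def n18345 : Q := act 4 n8643
theorem D18345 : act 4 n8643 = n18345 := rfl
def n18346 : Q := act 5 n8643
theorem D18346 : act 5 n8643 = n18346 := rfl
theorem F29531 : act 2 n18346 = n17156 := d2_1 D18346 F29530 (iv2 D18344)
theorem F29532 : act 3 n18346 = n8644 := d6_1 D18346 (iv5 D8644) D8643
def n18347 : Q := act 6 n8643
theorem D18347 : act 6 n8643 = n18347 := rfl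
theorem F29533 : act 3 n18347 = n8645 := d7_1 D18347 (iv6 D8645) D8643
def n18348 : Q := act 6 n8644
theorem D18348 : act 6 n8644 = n18348 := rfl
theorem F29534 : act 4 n18348 = n10691 := d10_1 D18348 (iv6 D10691) (iv4 F13549)
def n18349 : Q := act 0 n8645
theorem D18349 : act 0 n8645 = n18349 := rfl
def n18350 : Q := act 1 n8645
theorem D18350 : act 1 n8645 = n18350 := rfl
def n18351 : Q := act 5 n8645
theorem D18351 : act 5 n8645 = n18351 := rfl
def n18352 : Q := act 7 n8645
theorem D18352 : act 7 n8645 = n18352 := rfl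
def n18353 : Q := act 1 n8647
theorem D18353 : act 1 n8647 = n18353 := rfl
theorem F29535 : act 1 n18353 = n17157 := d15_1 D18353 (iv7 F28698) F28696
theorem F29536 : act 5 n18353 = n17175 := d17_7 (iv1 D3641) (iv5 D1599) D1596 D3631 D8033 (iv5 F13555) D18353 F28135 (iv4 D8063)
def n18354 : Q := act 6 n8647
theorem D18354 : act 6 n8647 = n18354 := rfl
theorem F29537 : act 3 n18354 = n8649 := d7_1 D18354 (iv6 D8649) D8647
def n18355 : Q := act 6 n8648
theorem D18355 : act 6 n8648 = n18355 := rfl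
theorem F29538 : act 3 n18355 = n17146 := d7_1 D18355 (iv6 D17146) F13554
theorem F29539 : act 4 n18355 = n10659 := d10_1 D18355 (iv6 D10659) (iv4 F13552)
def n18356 : Q := act 0 n8649
theorem D18356 : act 0 n8649 = n18356 := rfl
def n18357 : Q := act 1 n8649
theorem D18357 : act 1 n8649 = n18357 := rfl
def n18358 : Q := act 5 n8649
theorem D18358 : act 5 n8649 = n18358 := rfl
def n18359 : Q := act 7 n8649
theorem D18359 : act 7 n8649 = n18359 := rfl
def n18360 : Q := act 2 n8650
theorem D18360 : act 2 n8650 = n18360 := rfl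
theorem F29540 : act 7 n8651 = n18360 := d15_2 (iv0 D8650) D8651 (iv2 D18360)
def n18361 : Q := act 3 n8650
theorem D18361 : act 3 n8650 = n18361 := rfl
def n18362 : Q := act 4 n8650
theorem D18362 : act 4 n8650 = n18362 := rfl
def n18363 : Q := act 5 n8650
theorem D18363 : act 5 n8650 = n18363 := rfl
def n18364 : Q := act 6 n8650
theorem D18364 : act 6 n8650 = n18364 := rfl
def n18365 : Q := act 7 n8650
theorem D18365 : act 7 n8650 = n18365 := rfl
theorem F29541 : act 2 n18365 = n8651 := d4_1 D18365 F29540 (iv2 D18360)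
def n18366 : Q := act 3 n8651
theorem D18366 : act 3 n8651 = n18366 := rfl
def n18367 : Q := act 5 n8651
theorem D18367 : act 5 n8651 = n18367 := rfl
theorem F29542 : act 0 n18367 = n16765 := d17_2 (iv1 F21092) D18367 (iv5 D16765) F12381 F5581 D7227 F25987 F9340 D12694
theorem F29543 : act 3 n17410 = n18367 := d19_19 F29542 (iv5 D16765) F12381 (iv3 D3557) (iv1 F4017) (iv5 D2525) F2147 F2092 F2734 (iv5 D1571) F1601 (iv3 D849) (iv1 F839) D545 D869 D1616 D3673 D8159 D17410
theorem F29544 : act 5 n18366 = n17410 := d6_0 F29543 (iv5 D18367) D18366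
def n18368 : Q := act 6 n8651
theorem D18368 : act 6 n8651 = n18368 := rfl
def n18369 : Q := act 5 n8652
theorem D18369 : act 5 n8652 = n18369 := rfl
theorem F29545 : act 2 n18369 = n8653 := d2_1 D18369 (iv5 D8653) D8652
def n18370 : Q := act 6 n8652
theorem D18370 : act 6 n8652 = n18370 := rfl
theorem F29546 : act 2 n18370 = n8654 := d3_1 D18370 (iv6 D8654) D8652
theorem F29547 : act 4 n18370 = n8756 := d10_1 D18370 (iv6 D8756) (iv4 F13556)
def n18371 : Q := act 0 n8653
theorem D18371 : act 0 n8653 = n18371 := rfl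
def n18372 : Q := act 1 n8653
theorem D18372 : act 1 n8653 = n18372 := rfl
theorem F29548 : act 3 n16010 = n18372 := d19_19 (iv1 D18372) (iv5 D8653) F5846 (iv3 D1691) (iv1 F2628) F2629 (iv4 D869) (iv3 F1632) D1613 F2797 F2169 F2168 (iv1 F1534) (iv5 F1535) F1610 D1506 D3420 D7489 D16010
def n18373 : Q := act 4 n8653
theorem D18373 : act 4 n8653 = n18373 := rfl
def n18374 : Q := act 6 n8653
theorem D18374 : act 6 n8653 = n18374 := rfl
theorem F29549 : act 3 n18374 = n8658 := d7_1 D18374 (iv6 D8658) (iv3 F13557)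
def n18375 : Q := act 0 n8654
theorem D18375 : act 0 n8654 = n18375 := rfl
def n18376 : Q := act 1 n8654
theorem D18376 : act 1 n8654 = n18376 := rfl
def n18377 : Q := act 5 n8654
theorem D18377 : act 5 n8654 = n18377 := rfl
theorem F29550 : act 3 n18377 = n8662 := d6_1 D18377 (iv5 D8662) (iv3 F13558)
def n18378 : Q := act 7 n8654
theorem D18378 : act 7 n8654 = n18378 := rfl
theorem F29551 : act 3 n18378 = n8663 := d8_1 D18378 (iv7 D8663) (iv3 F13558)
theorem F29552 : act 4 n18378 = n8760 := d11_1 D18378 (iv7 D8760) (iv4 F13559)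
def n18379 : Q := act 3 n8655
theorem D18379 : act 3 n8655 = n18379 := rfl
theorem F29553 : act 2 n18379 = n17184 := d0_1 D18379 (iv3 D17184) (iv2 F21538) (iv3 F27527) F27526
theorem F29554 : act 5 n18379 = n10475 := d6_2 F13570 D18379 (iv3 D10475)
def n18380 : Q := act 6 n8655
theorem D18380 : act 6 n8655 = n18380 := rfl
theorem F29555 : act 4 n18380 = n10554 := d10_1 D18380 (iv6 D10554) (iv4 F13569)
def n18381 : Q := act 6 n8656
theorem D18381 : act 6 n8656 = n18381 := rfl
theorem F29556 : act 3 n18381 = n17176 := d7_1 D18381 (iv6 D17176) F13562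
theorem F29557 : act 4 n18381 = n10493 := d10_1 D18381 (iv6 D10493) F13563
def n18382 : Q := act 3 n8657
theorem D18382 : act 3 n8657 = n18382 := rfl
theorem F29558 : act 5 n18382 = n10427 := d6_2 (iv5 F13565) D18382 (iv3 D10427)
theorem F29559 : act 7 n18382 = n10626 := d8_2 (iv7 F13567) D18382 F17167
def n18383 : Q := act 6 n8657
theorem D18383 : act 6 n8657 = n18383 := rfl
theorem F29560 : act 2 n18383 = n10757 := d3_1 D18383 (iv6 D10757) (iv2 F13564)
theorem F29561 : act 4 n18383 = n8658 := d10_1 D18383 (iv6 D8658) D8657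
def n18384 : Q := act 0 n8658
theorem D18384 : act 0 n8658 = n18384 := rfl
def n18385 : Q := act 1 n8658
theorem D18385 : act 1 n8658 = n18385 := rfl
def n18386 : Q := act 5 n8658
theorem D18386 : act 5 n8658 = n18386 := rfl
theorem F29562 : act 6 n18386 = n8662 := d12_2 D8658 D18386 (iv5 D8662) (iv6 D3884) D3883
def n18387 : Q := act 7 n8658
theorem D18387 : act 7 n8658 = n18387 := rfl
def n18388 : Q := act 6 n8659
theorem D18388 : act 6 n8659 = n18388 := rfl
theorem F29563 : act 2 n18388 = n10752 := d3_1 D18388 (iv6 D10752) (iv2 F13573)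
theorem F29564 : act 4 n18388 = n10628 := d10_1 D18388 (iv6 D10628) (iv4 F13574)
def n18389 : Q := act 2 n8660
theorem D18389 : act 2 n8660 = n18389 := rfl
theorem F29565 : act 7 n8661 = n18389 := d15_2 (iv0 D8660) D8661 (iv2 D18389)
def n18390 : Q := act 3 n8660
theorem D18390 : act 3 n8660 = n18390 := rfl
def n18391 : Q := act 4 n8660
theorem D18391 : act 4 n8660 = n18391 := rfl
def n18392 : Q := act 5 n8660
theorem D18392 : act 5 n8660 = n18392 := rfl
def n18393 : Q := act 6 n8660
theorem D18393 : act 6 n8660 = n18393 := rfl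
def n18394 : Q := act 7 n8660
theorem D18394 : act 7 n8660 = n18394 := rfl
theorem F29566 : act 2 n18394 = n8661 := d4_1 D18394 F29565 (iv2 D18389)
def n18395 : Q := act 3 n8661
theorem D18395 : act 3 n8661 = n18395 := rfl

end Cfsg.Agent.Helper17.ONTC
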